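import Mathlib
import Groth.Prelude.Def_AlgSp2
namespace Groth.Agent.Helper2.AlgSpBasic
open CategoryTheory CategoryTheory.Limits AlgebraicGeometry Opposite AlgSp
universe u
variable {S : Scheme.{u}}

/-- A field-valued point built from a morphism `h_{Spec Ω} ⟶ F`. -/
noncomputable def fieldPtOfHom {F : Sp S} {Ω : Type u} [Field Ω] (w : Spec (CommRingCat.of Ω) ⟶ S)
    (s : (yon S).obj (Over.mk w) ⟶ F) : FieldPt F :=
  ⟨Ω, w, (J S).uliftYonedaEquiv s⟩

theorem points_exists_of_isPullback {X Y Z P : Sp S} (f : X ⟶ Y) (g : Z ⟶ Y)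
    (fst : P ⟶ Z) (snd : P ⟶ X) (h : IsPullback fst snd g f)
    (z : Points Z) (x : Points X) (e : Points.map g z = Points.map f x) :
    ∃ p : Points P, Points.map fst p = z ∧ Points.map snd p = x := by
  induction z using Points.ind with | h pz => ?_
  induction x using Points.ind with | h px => ?_
  rw [Points.map_mk, Points.map_mk, Points.mk_eq_mk_iff] at e
  obtain ⟨Ω, _, w, a, b, hab⟩ := e
  -- the two morphisms from h_{Spec Ω}
  let sz : (yon S).obj (Over.mk w) ⟶ Z := (J S).uliftYonedaEquiv.symm (Z.obj.map a.op pz.val)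
  let sx : (yon S).obj (Over.mk w) ⟶ X := (J S).uliftYonedaEquiv.symm (X.obj.map b.op px.val)
  have hcomm : sz ≫ g = sx ≫ f := by
    apply (J S).uliftYonedaEquiv.injective
    rw [GrothendieckTopology.uliftYonedaEquiv_comp, GrothendieckTopology.uliftYonedaEquiv_comp]
    simp only [sz, sx, Equiv.apply_symm_apply]
    have h1 : g.hom.app _ (Z.obj.map a.op pz.val) = Y.obj.map a.op (g.hom.app _ pz.val) :=
      NatTrans.naturality_apply g.hom a.op pz.val
    have h2 : f.hom.app _ (X.obj.map b.op px.val) = Y.obj.map b.op (f.hom.app _ px.val) :=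
      NatTrans.naturality_apply f.hom b.op px.val
    rw [h1, h2]
    exact hab
  let s : (yon S).obj (Over.mk w) ⟶ P := h.lift sz sx hcomm
  refine ⟨Points.mk ⟨Ω, w, (J S).uliftYonedaEquiv s⟩, ?_, ?_⟩
  · rw [Points.map_mk, Points.mk_eq_mk_iff]
    refine ⟨Ω, inferInstance, w, 𝟙 _, a, ?_⟩
    show Z.obj.map (𝟙 _).op (fst.hom.app _ ((J S).uliftYonedaEquiv s)) = Z.obj.map a.op pz.val
    rw [← GrothendieckTopology.uliftYonedaEquiv_comp, h.lift_fst]
    simp [sz]
  · rw [Points.map_mk, Points.mk_eq_mk_iff]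
    refine ⟨Ω, inferInstance, w, 𝟙 _, b, ?_⟩
    show X.obj.map (𝟙 _).op (snd.hom.app _ ((J S).uliftYonedaEquiv s)) = X.obj.map b.op px.val
    rw [← GrothendieckTopology.uliftYonedaEquiv_comp, h.lift_snd]
    simp [sx]


/-- A sieve on `T : Over S` containing a morphism whose underlying morphism is an fppf covering
is a covering sieve of the fppf topology over `S`. -/
theorem sieve_mem_J_of_fppf {T V : Over S} (snd : V ⟶ T) [Flat snd.left]
    [LocallyOfFinitePresentation snd.left] [Surjective snd.left] (R : Sieve T) (h : R snd) :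
    R ∈ J S T := by
  apply (J S).superset_covering (S := Sieve.generate (Presieve.singleton snd))
  · rw [Sieve.generate_le_iff]
    rintro _ _ ⟨⟩
    exact h
  · rw [GrothendieckTopology.mem_over_iff, Sieve.overEquiv_generate]
    apply (Scheme.fppfTopology).superset_covering
      (S := Sieve.generate (Presieve.singleton snd.left))
    · rw [Sieve.generate_le_iff]
      rintro _ _ ⟨⟩
      exact Sieve.le_generate _ _ _ ⟨V, snd, 𝟙 _, ⟨⟩, by simp⟩
    · exact Precoverage.generate_mem_toGrothendieck snd.left.singleton_mem_fppfPrecoverage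

theorem isLocallySurjective_of_fppf {F G : Sp S} (a : F ⟶ G)
    (h₁ : RepWith @Flat a) (h₂ : RepWith @LocallyOfFinitePresentation a)
    (h₃ : RepWith @Surjective a) : Sheaf.IsLocallySurjective a := by
  constructor
  intro T s
  let g : (yon S).obj T ⟶ G := (J S).uliftYonedaEquiv.symm s
  have hrep : Representable a := h₁.rep
  have hpb := hrep.isPullback g
  have hflat : Flat (hrep.snd g).left := h₁.property g _ _ hpb
  have hlfp : LocallyOfFinitePresentation (hrep.snd g).left := h₂.property g _ _ hpb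
  have hsurj : Surjective (hrep.snd g).left := h₃.property g _ _ hpb
  refine sieve_mem_J_of_fppf (hrep.snd g) _ ?_
  refine ⟨(J S).uliftYonedaEquiv (hrep.fst g), ?_⟩
  have := hpb.w
  have h2 := congrArg (J S).uliftYonedaEquiv this
  rw [GrothendieckTopology.uliftYonedaEquiv_comp] at h2
  rw [h2, ← GrothendieckTopology.uliftYonedaEquiv_naturality]
  simp [g]


theorem over_isPullback_of_left {A B C D : Over S} (f : A ⟶ B) (g : A ⟶ C) (h : B ⟶ D) (i : C ⟶ D)
    (H : IsPullback f.left g.left h.left i.left) : IsPullback f g h i :=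
  IsPullback.of_map (Over.forget S) (Over.OverMorphism.ext H.w) H

theorem yon_isPullback_of_left {A B C D : Over S} (f : A ⟶ B) (g : A ⟶ C) (h : B ⟶ D) (i : C ⟶ D)
    (H : IsPullback f.left g.left h.left i.left) :
    IsPullback ((yon S).map f) ((yon S).map g) ((yon S).map h) ((yon S).map i) :=
  (over_isPullback_of_left f g h i H).map (yon S)

/-- Base change of a scheme-over-`S` morphism `snd : V ⟶ T` along a scheme morphism `c : W ⟶ T.left`,
packaged in `Over S`. -/
structure OverBC {V T : Over S} (snd : V ⟶ T) {W : Scheme.{u}} (c : W ⟶ T.left) where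
  T' : Over S
  V' : Over S
  c' : T' ⟶ T
  snd' : V' ⟶ T'
  fst' : V' ⟶ V
  hT' : T'.left = W
  sq : IsPullback fst' snd' snd c'

noncomputable def overBC {V T : Over S} (snd : V ⟶ T) {W : Scheme.{u}} (c : W ⟶ T.left) :
    OverBC snd c where
  T' := Over.mk (c ≫ T.hom)
  V' := Over.mk (pullback.snd snd.left c ≫ c ≫ T.hom)
  c' := Over.homMk c rfl
  snd' := Over.homMk (pullback.snd snd.left c) rfl
  fst' := Over.homMk (pullback.fst snd.left c) (by
    simp only [Over.mk_hom]
    rw [← Over.w snd, pullback.condition_assoc])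
  hT' := rfl
  sq := over_isPullback_of_left _ _ _ _ (IsPullback.of_hasPullback snd.left c)

@[simp] theorem overBC_snd'_left {V T : Over S} (snd : V ⟶ T) {W : Scheme.{u}} (c : W ⟶ T.left) :
    (overBC snd c).snd'.left = pullback.snd snd.left c := rfl

@[simp] theorem overBC_c'_left {V T : Over S} (snd : V ⟶ T) {W : Scheme.{u}} (c : W ⟶ T.left) :
    (overBC snd c).c'.left = c := rfl


set_option backward.isDefEq.respectTransparency.types false in
instance fppf_containsIdentities :
    (@Flat ⊓ @LocallyOfFinitePresentation : MorphismProperty Scheme.{u}).ContainsIdentities where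
  id_mem X := ⟨(inferInstance : Flat (𝟙 X)), (inferInstance : LocallyOfFinitePresentation (𝟙 X))⟩

set_option backward.isDefEq.respectTransparency.types false in
instance fppf_isMultiplicative :
    (@Flat ⊓ @LocallyOfFinitePresentation : MorphismProperty Scheme.{u}).IsMultiplicative where

set_option backward.isDefEq.respectTransparency.types false in
/-- Sections in the image sieve: unfolding for the fppf topology over `S`. -/
theorem exists_cover_of_isLocallySurjective {G H : Sp S} (b : H ⟶ G) [Sheaf.IsLocallySurjective b]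
    {T : Over S} (g : (yon S).obj T ⟶ G) :
    ∃ (𝒰 : Scheme.Cover.{u} (Scheme.precoverage (@Flat ⊓ @LocallyOfFinitePresentation)) T.left),
      ∀ i, ∃ t : (yon S).obj (Over.mk (𝒰.f i ≫ T.hom)) ⟶ H,
        t ≫ b = (yon S).map (Over.homMk (𝒰.f i) rfl : Over.mk (𝒰.f i ≫ T.hom) ⟶ T) ≫ g := by
  have hmem := Presheaf.imageSieve_mem (J S) b.hom ((J S).uliftYonedaEquiv g)
  rw [GrothendieckTopology.mem_over_iff] at hmem
  obtain ⟨𝒰, h𝒰⟩ := (Scheme.mem_grothendieckTopology_iff
    (P := @Flat ⊓ @LocallyOfFinitePresentation)).mp hmem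
  refine ⟨𝒰, fun i => ?_⟩
  have hi := h𝒰 _ _ (Presieve.ofArrows.mk i)
  rw [Sieve.overEquiv_iff] at hi
  obtain ⟨t, ht⟩ := hi
  refine ⟨(J S).uliftYonedaEquiv.symm t, ?_⟩
  apply (J S).uliftYonedaEquiv.injective
  rw [GrothendieckTopology.uliftYonedaEquiv_comp, Equiv.apply_symm_apply,
    ← GrothendieckTopology.uliftYonedaEquiv_naturality]
  exact ht

set_option backward.isDefEq.respectTransparency.types false in
theorem repWith_of_isLocallySurjective_base {F G H : Sp S} (a : F ⟶ G)
    (ha : Representable a) (b : H ⟶ G) [Sheaf.IsLocallySurjective b] (Q : Sp S) (b' : Q ⟶ F)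
    (a' : Q ⟶ H) (sq : IsPullback b' a' a b) (P : MorphismProperty Scheme.{u})
    [P.IsStableUnderBaseChange]
    [P.IsLocalAtTarget Scheme.fppfPrecoverage] (h : RepWith P a') : RepWith P a := by
  refine ⟨ha, fun T V g fst snd hpb => ?_⟩
  show P snd.left
  obtain ⟨𝒰, h𝒰⟩ := exists_cover_of_isLocallySurjective b g
  refine MorphismProperty.IsLocalAtTarget.of_forall_pullbackSnd (K := Scheme.fppfPrecoverage)
    (R := Presieve.ofArrows 𝒰.X 𝒰.f) 𝒰.mem₀ ?_
  rintro _ _ _ ⟨i⟩
  obtain ⟨t, ht⟩ := h𝒰 i
  let D := overBC snd (𝒰.f i)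
  have h1 : IsPullback ((yon S).map D.fst' ≫ fst) ((yon S).map D.snd') a
      ((yon S).map D.c' ≫ g) := (D.sq.map (yon S)).paste_horiz hpb
  have h2 : (yon S).map D.c' ≫ g = t ≫ b := ht.symm
  rw [h2] at h1
  have hcomm : ((yon S).map D.fst' ≫ fst) ≫ a = ((yon S).map D.snd' ≫ t) ≫ b := by
    have := h1.w
    simp only [Category.assoc] at this ⊢
    exact this
  let l : (yon S).obj D.V' ⟶ Q := sq.lift _ _ hcomm
  have h3 : IsPullback l ((yon S).map D.snd') a' t := by
    refine IsPullback.of_right ?_ (sq.lift_snd _ _ hcomm) sq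
    rw [sq.lift_fst]
    exact h1
  have := h.property t l D.snd' h3
  exact this


theorem repWith_mono {P P' : MorphismProperty Scheme.{u}} (h : P ≤ P') {F G : Sp S} {f : F ⟶ G}
    (hf : RepWith P f) : RepWith P' f :=
  MorphismProperty.relative_monotone (fun _ _ _ hg => h _ hg) _ hf

theorem repWith_flat_of_etale {F G : Sp S} {f : F ⟶ G} (hf : RepWith @Etale f) :
    RepWith @Flat f :=
  repWith_mono (fun _ _ g (hg : Etale g) => (inferInstance : Flat g)) hf

theorem repWith_lfp_of_etale {F G : Sp S} {f : F ⟶ G} (hf : RepWith @Etale f) :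
    RepWith @LocallyOfFinitePresentation f :=
  repWith_mono (fun _ _ g (hg : Etale g) => (inferInstance : LocallyOfFinitePresentation g)) hf

theorem isLocallySurjective_of_etale_surjective {F G : Sp S} (a : F ⟶ G)
    (h₁ : RepWith @Etale a) (h₃ : RepWith @Surjective a) : Sheaf.IsLocallySurjective a :=
  isLocallySurjective_of_fppf a (repWith_flat_of_etale h₁) (repWith_lfp_of_etale h₁) h₃

theorem repWith_iff_of_chart {X Y : Sp S} (f : Y ⟶ X)
    (hf : Representable f) {U V : Over S} (q : (yon S).obj U ⟶ X)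
    (hqe : RepWith @Etale q) (hqs : RepWith @Surjective q)
    (fst : (yon S).obj V ⟶ Y) (g : V ⟶ U) (sq : IsPullback fst ((yon S).map g) f q)
    (P : MorphismProperty Scheme.{u}) [P.IsStableUnderBaseChange]
    [P.IsLocalAtTarget Scheme.fppfPrecoverage] :
    RepWith P f ↔ P g.left := by
  constructor
  · intro h
    exact h.property q fst g sq
  · intro h
    haveI := isLocallySurjective_of_etale_surjective q hqe hqs
    exact repWith_of_isLocallySurjective_base f hf q _ fst _ sq P ((repWith_yon_map_iff P g).mpr h)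


theorem repWith_comp (P : MorphismProperty Scheme.{u}) [P.IsStableUnderBaseChange]
    [P.IsMultiplicative] {F G H : Sp S} {f : F ⟶ G} {g : G ⟶ H} (hf : RepWith P f)
    (hg : RepWith P g) : RepWith P (f ≫ g) :=
  (RepWith (S := S) P).comp_mem f g hf hg

theorem exists_chart_lift {X Y : Sp S} (hX : IsAlgSpace X) (a : X ⟶ Y) {V : Over S}
    (q : (yon S).obj V ⟶ Y) (hqe : RepWith @Etale q) (hqs : RepWith @Surjective q) :
    ∃ (U : Over S) (p : (yon S).obj U ⟶ X) (α : U ⟶ V),
      RepWith @Etale p ∧ RepWith @Surjective p ∧ p ≫ a = (yon S).map α ≫ q := by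
  obtain ⟨W, p₀, hp₀e, hp₀s⟩ := hX.atlas
  have hq : Representable q := hqe.rep
  let g := p₀ ≫ a
  have hpb := hq.isPullback g
  obtain ⟨α, hα⟩ := (yon S).map_surjective (hq.fst g)
  have he : Etale (hq.snd g).left := hqe.property g _ _ hpb
  have hs : Surjective (hq.snd g).left := hqs.property g _ _ hpb
  refine ⟨hq.pullback g, (yon S).map (hq.snd g) ≫ p₀, α, ?_, ?_, ?_⟩
  · exact repWith_comp @Etale ((repWith_yon_map_iff @Etale _).mpr he) hp₀e
  · exact repWith_comp @Surjective ((repWith_yon_map_iff @Surjective _).mpr hs) hp₀s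
  · rw [Category.assoc, hα]
    exact hpb.w.symm


theorem isPullback_of_existsUnique {C : Type*} [Category C] {P X Y Z : C} {fst : P ⟶ X}
    {snd : P ⟶ Y} {f : X ⟶ Z} {g : Y ⟶ Z} (w : fst ≫ f = snd ≫ g)
    (hex : ∀ {A : C} (α : A ⟶ X) (β : A ⟶ Y), α ≫ f = β ≫ g →
      ∃ l : A ⟶ P, l ≫ fst = α ∧ l ≫ snd = β)
    (huniq : ∀ {A : C} (l l' : A ⟶ P), l ≫ fst = l' ≫ fst → l ≫ snd = l' ≫ snd → l = l') :
    IsPullback fst snd f g := by
  refine IsPullback.of_isLimit' ⟨w⟩ (PullbackCone.IsLimit.mk w
    (fun s => (hex s.fst s.snd s.condition).choose)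
    (fun s => (hex s.fst s.snd s.condition).choose_spec.1)
    (fun s => (hex s.fst s.snd s.condition).choose_spec.2) ?_)
  intro s m h1 h2
  apply huniq
  · rw [h1, (hex s.fst s.snd s.condition).choose_spec.1]
  · rw [h2, (hex s.fst s.snd s.condition).choose_spec.2]

/-- If `fst, snd` exhibit `P` as a pullback of sheaves and `X`, `Y` have representable diagonals,
then every morphism from a representable to `P` is representable. -/
theorem representable_from_yon_of_isPullback {X Y H P : Sp S} {f : X ⟶ H} {g : Y ⟶ H}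
    {fst : P ⟶ X} {snd : P ⟶ Y} (h : IsPullback fst snd f g)
    (hX : Representable (Limits.diag X)) (hY : Representable (Limits.diag Y))
    {T : Over S} (u : (yon S).obj T ⟶ P) : Representable u := by
  intro T' v
  have h1 : Representable (u ≫ fst) := Functor.relativelyRepresentable.of_diag hX _
  obtain ⟨W₁, a₂, A₁, sq₁⟩ := h1 (v ≫ fst)
  let s₁ : (yon S).obj W₁ ⟶ Y := A₁ ≫ u ≫ snd
  let s₂ : (yon S).obj W₁ ⟶ Y := (yon S).map a₂ ≫ v ≫ snd
  obtain ⟨E, e, φ, sq₂⟩ := hY (prod.lift s₁ s₂)
  have hφ₁ : φ = (yon S).map e ≫ s₁ := by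
    have := congrArg (· ≫ prod.fst) sq₂.w
    simp only [Limits.diag, Category.assoc, prod.lift_fst, Category.comp_id] at this
    exact this
  have hφ₂ : φ = (yon S).map e ≫ s₂ := by
    have := congrArg (· ≫ prod.snd) sq₂.w
    simp only [Limits.diag, Category.assoc, prod.lift_snd, Category.comp_id] at this
    exact this
  refine ⟨E, e ≫ a₂, (yon S).map e ≫ A₁, ?_⟩
  apply isPullback_of_existsUnique
  · apply h.hom_ext
    · simp only [Category.assoc, Functor.map_comp]
      rw [sq₁.w]
    · simp only [Category.assoc, Functor.map_comp]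
      exact hφ₁.symm.trans hφ₂
  · intro A α β hαβ
    have c1 : α ≫ u ≫ fst = β ≫ v ≫ fst := by
      rw [← Category.assoc, hαβ, Category.assoc]
    let γ := sq₁.lift α β c1
    have hγ₁ : γ ≫ A₁ = α := sq₁.lift_fst _ _ _
    have hγ₂ : γ ≫ (yon S).map a₂ = β := sq₁.lift_snd _ _ _
    have c2 : (γ ≫ s₁) ≫ Limits.diag Y = γ ≫ prod.lift s₁ s₂ := by
      apply Limits.prod.hom_ext
      · simp only [Category.assoc, Limits.diag, prod.lift_fst, Category.comp_id]
      · simp only [Category.assoc, Limits.diag, prod.lift_snd, Category.comp_id, s₁, s₂]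
        rw [← Category.assoc γ, hγ₁, ← Category.assoc γ, hγ₂, ← Category.assoc, hαβ,
          Category.assoc]
    let δ := sq₂.lift (γ ≫ s₁) γ c2
    have hδ : δ ≫ (yon S).map e = γ := sq₂.lift_snd _ _ _
    refine ⟨δ, ?_, ?_⟩
    · rw [← Category.assoc, hδ, hγ₁]
    · rw [Functor.map_comp, ← Category.assoc, hδ, hγ₂]
  · intro A l l' e1 e2
    have k : l ≫ (yon S).map e = l' ≫ (yon S).map e := by
      apply sq₁.hom_ext
      · simpa only [Category.assoc] using e1
      · simpa only [Category.assoc, Functor.map_comp] using e2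
    apply sq₂.hom_ext
    · rw [hφ₁, ← Category.assoc, k, Category.assoc]
    · exact k


theorem repWith_of_isPullback (P : MorphismProperty Scheme.{u}) {A B C D : Sp S}
    {f' : A ⟶ B} {g' : A ⟶ C} {g : B ⟶ D} {f : C ⟶ D} (sq : IsPullback f' g' g f)
    (hg : RepWith P g) : RepWith P g' :=
  (RepWith (S := S) P).of_isPullback sq hg

/-- The fibre product of two algebraic spaces over a sheaf with representable diagonal is an
algebraic space. -/
theorem isAlgSpace_of_isPullback {H X Y P : Sp S} (hH : Representable (Limits.diag H))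
    (hX : IsAlgSpace X) (hY : IsAlgSpace Y) (f : X ⟶ H) (g : Y ⟶ H)
    (fst : P ⟶ X) (snd : P ⟶ Y) (h : IsPullback fst snd f g) : IsAlgSpace P where
  diag := (Functor.relativelyRepresentable.diag_iff).mpr
    (fun _ u => representable_from_yon_of_isPullback h hX.diag hY.diag u)
  atlas := by
    obtain ⟨U, pX, hXe, hXs⟩ := hX.atlas
    obtain ⟨V, pY, hYe, hYs⟩ := hY.atlas
    -- the scheme W = U ×_H V
    have hrep : Representable (pX ≫ f) := Functor.relativelyRepresentable.of_diag hH _
    obtain ⟨W, w₂, D₁, sqD⟩ := hrep (pY ≫ g)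
    -- P' = P ×_X h_U
    let π₁ : pullback fst pX ⟶ P := pullback.fst fst pX
    let π₂ : pullback fst pX ⟶ (yon S).obj U := pullback.snd fst pX
    have sqB : IsPullback π₁ π₂ fst pX := IsPullback.of_hasPullback fst pX
    have sqC : IsPullback (π₁ ≫ snd) π₂ g (pX ≫ f) := sqB.paste_horiz h.flip
    have comm : ((yon S).map w₂ ≫ pY) ≫ g = D₁ ≫ (pX ≫ f) := by
      simpa only [Category.assoc] using sqD.w.symm
    let l₁ : (yon S).obj W ⟶ pullback fst pX := sqC.lift ((yon S).map w₂ ≫ pY) D₁ comm
    have hl₁a : l₁ ≫ π₁ ≫ snd = (yon S).map w₂ ≫ pY := sqC.lift_fst _ _ _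
    have hl₁b : l₁ ≫ π₂ = D₁ := sqC.lift_snd _ _ _
    have sqE : IsPullback ((yon S).map w₂) l₁ pY (π₁ ≫ snd) := by
      refine IsPullback.of_bot ?_ hl₁a.symm sqC
      rw [hl₁b]
      exact sqD.flip
    refine ⟨W, l₁ ≫ π₁, ?_, ?_⟩
    · exact repWith_comp @Etale (repWith_of_isPullback @Etale sqE hYe)
        (repWith_of_isPullback @Etale sqB.flip hXe)
    · exact repWith_comp @Surjective (repWith_of_isPullback @Surjective sqE hYs)
        (repWith_of_isPullback @Surjective sqB.flip hXs)


instance isAlgSpace_isClosedUnderLimitsOfShape_cospan :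
    ObjectProperty.IsClosedUnderLimitsOfShape (IsAlgSpace (S := S)) WalkingCospan where
  limitsOfShape_le := by
    rintro X ⟨p⟩
    have h := IsPullback.of_isLimit_cone p.isLimit
    exact isAlgSpace_of_isPullback (p.prop_diag_obj WalkingCospan.one).diag
      (p.prop_diag_obj WalkingCospan.left) (p.prop_diag_obj WalkingCospan.right) _ _ _ _ h

theorem hasPullbacks_space (S : Scheme.{u}) :
    HasPullbacks (Space S) ∧
      PreservesLimitsOfShape WalkingCospan (ObjectProperty.ι (IsAlgSpace (S := S))) :=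
  ⟨inferInstance, inferInstance⟩

end Groth.Agent.Helper2.AlgSpBasic
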