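import Mathlib
import Groth.Prelude.Def_AlgSp4
import Groth.Agent.Lib.Helper2.AlgSp.Basic
namespace Groth.Agent.Helper2.AlgSpBasic
open CategoryTheory CategoryTheory.Limits AlgebraicGeometry Opposite AlgSp Topology
universe u
variable {S : Scheme.{u}}

theorem ofPt_yon_map_comp {F : Sp S} {T T' : Over S} (φ : T ⟶ T') (g : (yon S).obj T' ⟶ F)
    (w : ↥T.left) : Points.ofPt ((yon S).map φ ≫ g) w = Points.ofPt g (φ.left w) := by
  rw [Points.ofPt_eq_map_ofScheme, Points.map_comp]
  have := Points.map_yon_map_apply φ w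
  change Points.map ((yon S).map φ) (Points.ofScheme T w) = Points.ofScheme T' (φ.left w) at this
  rw [this, ← Points.ofPt_eq_map_ofScheme]

/-- Points of a representable fibre product: given a pullback square `h_W = h_U ×_F h_T` and points
`v ∈ U`, `t ∈ T` with the same image in `|F|`, there is `w ∈ W` over both. -/
theorem exists_point_of_isPullback_yon {F : Sp S} {U T W : Over S} (a : (yon S).obj U ⟶ F)
    (g : (yon S).obj T ⟶ F) (pU : W ⟶ U) (pT : W ⟶ T)
    (sq : IsPullback ((yon S).map pU) ((yon S).map pT) a g) (v : ↥U.left) (t : ↥T.left)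
    (e : Points.ofPt a v = Points.ofPt g t) : ∃ w : ↥W.left, pU.left w = v ∧ pT.left w = t := by
  rw [Points.ofPt_eq_map_ofScheme, Points.ofPt_eq_map_ofScheme] at e
  obtain ⟨p, hp1, hp2⟩ := points_exists_of_isPullback g a ((yon S).map pU) ((yon S).map pT) sq
    (Points.ofScheme U v) (Points.ofScheme T t) e
  obtain ⟨w, rfl⟩ := (Points.schemeHomeo W).surjective p
  refine ⟨w, ?_, ?_⟩
  · have := Points.map_yon_map_apply pU w
    rw [hp1] at this
    exact ((Points.schemeHomeo U).injective this).symm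
  · have := Points.map_yon_map_apply pT w
    rw [hp2] at this
    exact ((Points.schemeHomeo T).injective this).symm

theorem preimage_image_ofPt {F : Sp S} {U T W : Over S} (a : (yon S).obj U ⟶ F)
    (g : (yon S).obj T ⟶ F) (pU : W ⟶ U) (pT : W ⟶ T)
    (sq : IsPullback ((yon S).map pU) ((yon S).map pT) a g) (V : Set ↥U.left) :
    Points.ofPt g ⁻¹' (Points.ofPt a '' V) = pT.left '' (pU.left ⁻¹' V) := by
  ext t
  constructor
  · rintro ⟨v, hv, e⟩
    obtain ⟨w, hw1, hw2⟩ := exists_point_of_isPullback_yon a g pU pT sq v t e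
    exact ⟨w, by simpa [hw1] using hv, hw2⟩
  · rintro ⟨w, hw, rfl⟩
    refine ⟨pU.left w, hw, ?_⟩
    rw [← ofPt_yon_map_comp, ← ofPt_yon_map_comp, sq.w]

theorem isOpenMap_ofPt {X : Sp S} {U : Over S}
    (a : (yon S).obj U ⟶ X) (ha : RepWith @Etale a) : IsOpenMap (Points.ofPt a) := by
  intro V hV
  rw [Points.isOpen_iff]
  intro T g
  have hrep := ha.rep
  obtain ⟨pU, hpU⟩ := (yon S).map_surjective (hrep.fst g)
  have sq := hrep.isPullback g
  rw [← hpU] at sq
  rw [preimage_image_ofPt a g pU (hrep.snd g) sq V]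
  have he : Etale (hrep.snd g).left := ha.property g _ _ sq
  exact (hrep.snd g).left.isOpenMap _ (hV.preimage pU.left.continuous)

theorem surjective_ofPt {X : Sp S} {U : Over S}
    (p : (yon S).obj U ⟶ X) (hs : RepWith @Surjective p) : Function.Surjective (Points.ofPt p) := by
  intro x
  induction x using Points.ind with | h q => ?_
  -- the field point q : Spec K → X; pull back p
  let g : (yon S).obj q.pt ⟶ X := (J S).uliftYonedaEquiv.symm q.val
  have hrep := hs.rep
  have sq := hrep.isPullback g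
  have hsurj : Surjective (hrep.snd g).left := hs.property g _ _ sq
  obtain ⟨w, hw⟩ := hsurj.surj (IsLocalRing.closedPoint q.K)
  obtain ⟨pU, hpU⟩ := (yon S).map_surjective (hrep.fst g)
  rw [← hpU] at sq
  refine ⟨pU.left w, ?_⟩
  rw [← ofPt_yon_map_comp, sq.w, ofPt_yon_map_comp, hw]
  -- ofPt g (closed point) = mk q
  have := Points.ofScheme_apply_eq_mk q.pt (𝟙 _) (Category.id_comp _)
  rw [Points.ofPt_eq_map_ofScheme]
  have h2 : (𝟙 (Spec (CommRingCat.of q.K)) : _ ⟶ _) (IsLocalRing.closedPoint q.K) =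
      IsLocalRing.closedPoint q.K := rfl
  rw [h2] at this
  rw [this, Points.map_mk, Points.mk_eq_mk_iff]
  refine ⟨q.K, inferInstance, q.str, 𝟙 _, 𝟙 _, ?_⟩
  congr 1
  have h3 : g.hom.app (op q.pt) ⟨𝟙 q.pt⟩ = X.obj.map (𝟙 q.pt).op q.val :=
    GrothendieckTopology.uliftYonedaEquiv_symm_app_apply _ _ _ _
  rw [op_id, X.obj.map_id] at h3
  exact h3

theorem isQuotientMap_ofPt {X : Sp S} {U : Over S}
    (p : (yon S).obj U ⟶ X) (hp : RepWith @Etale p) (hs : RepWith @Surjective p) :
    IsQuotientMap (Points.ofPt p) :=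
  (isOpenMap_ofPt p hp).isQuotientMap (Points.continuous_ofPt p) (surjective_ofPt p hs)


theorem ofPt_eq_iff_of_isPresentation {X : Sp S} {R U : Over S}
    (s t : R ⟶ U) (p : (yon S).obj U ⟶ X) (hp : IsPresentation s t p) (u u' : ↥U.left) :
    Points.ofPt p u = Points.ofPt p u' ↔ ∃ r : ↥R.left, t.left r = u ∧ s.left r = u' := by
  constructor
  · intro e
    exact exists_point_of_isPullback_yon p p t s hp.isPullback u u' e
  · rintro ⟨r, rfl, rfl⟩
    rw [← ofPt_yon_map_comp, ← ofPt_yon_map_comp, hp.isPullback.w]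

/-- For a representable `a : h_U ⟶ F`, surjectivity in the representable sense is surjectivity
on points. -/
theorem repWith_surjective_of_surjective_ofPt {F : Sp S} {U : Over S} (a : (yon S).obj U ⟶ F)
    (ha : Representable a) (hs : Function.Surjective (Points.ofPt a)) : RepWith @Surjective a := by
  refine ⟨ha, fun T W g fst snd sq => ?_⟩
  show Surjective snd.left
  obtain ⟨pU, rfl⟩ := (yon S).map_surjective fst
  refine ⟨fun t => ?_⟩
  obtain ⟨v, hv⟩ := hs (Points.ofPt g t)
  obtain ⟨w, -, hw⟩ := exists_point_of_isPullback_yon a g pU snd sq v t hv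
  exact ⟨w, hw⟩

theorem exists_isOpen_isCompact_nhd {X : Sp S} (hX : IsAlgSpace X) (x : Points X)
    (W : Set (Points X)) (hW : IsOpen W) (hx : x ∈ W) :
    ∃ V : Set (Points X), IsOpen V ∧ IsCompact V ∧ x ∈ V ∧ V ⊆ W := by
  obtain ⟨U, p, hpe, hps⟩ := hX.atlas
  obtain ⟨u, rfl⟩ := surjective_ofPt p hps x
  have hopen : IsOpen (Points.ofPt p ⁻¹' W) := hW.preimage (Points.continuous_ofPt p)
  obtain ⟨V₀, hV₀, huV₀, hV₀W⟩ := exists_isAffineOpen_mem_and_subset
    (x := u) (U := ⟨Points.ofPt p ⁻¹' W, hopen⟩) hx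
  refine ⟨Points.ofPt p '' (V₀ : Set U.left), isOpenMap_ofPt p hpe _ V₀.isOpen,
    hV₀.isCompact.image (Points.continuous_ofPt p), ⟨u, huV₀, rfl⟩, ?_⟩
  rintro _ ⟨v, hv, rfl⟩
  exact hV₀W hv


set_option backward.isDefEq.respectTransparency.types false in
theorem etale_sigma_desc {ι : Type u} (g : ι → Scheme.{u}) {Y : Scheme.{u}}
    (h : ∀ i, g i ⟶ Y) [∀ i, Etale (h i)] : Etale (Sigma.desc h) := by
  rw [IsZariskiLocalAtSource.iff_of_openCover (P := @Etale) (sigmaOpenCover g)]
  intro i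
  change ι at i
  show Etale (Sigma.ι g i ≫ Limits.Sigma.desc h)
  have : Sigma.ι g i ≫ Limits.Sigma.desc h = h i := Sigma.ι_desc h i
  rw [this]
  infer_instance

theorem exists_affine_chart_of_compactSpace {X : Sp S} (hX : IsAlgSpace X)
    [CompactSpace (Points X)] :
    ∃ (U : Over S) (p : (yon S).obj U ⟶ X),
      IsAffine U.left ∧ RepWith @Etale p ∧ RepWith @Surjective p := by
  classical
  obtain ⟨U, p, hpe, hps⟩ := hX.atlas
  let 𝒰 := U.left.affineCover
  let O : 𝒰.I₀ → Set (Points X) := fun i => Points.ofPt p '' Set.range (𝒰.f i).base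
  have hO : ∀ i, IsOpen (O i) := fun i =>
    isOpenMap_ofPt p hpe _ (𝒰.f i).isOpenEmbedding.isOpen_range
  have hcov : (Set.univ : Set (Points X)) ⊆ ⋃ i, O i := by
    intro x _
    obtain ⟨u, rfl⟩ := surjective_ofPt p hps x
    obtain ⟨i, y, hy⟩ := 𝒰.exists_eq u
    exact Set.mem_iUnion.mpr ⟨i, u, ⟨y, hy⟩, rfl⟩
  obtain ⟨t, ht⟩ := isCompact_univ.elim_finite_subcover O hO hcov
  let g : ↥t → Scheme.{u} := fun i => 𝒰.X i.1
  have hg : ∀ i, IsAffine (g i) := fun i => inferInstance
  let h : ∀ i : ↥t, g i ⟶ U.left := fun i => 𝒰.f i.1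
  have hh : ∀ i, Etale (h i) := fun i => inferInstance
  let j : (∐ g) ⟶ U.left := Sigma.desc h
  have hj : Etale j := etale_sigma_desc g h
  let U' : Over S := Over.mk (j ≫ U.hom)
  let jO : U' ⟶ U := Over.homMk j rfl
  refine ⟨U', (yon S).map jO ≫ p, (inferInstance : IsAffine (∐ g)), ?_, ?_⟩
  · exact repWith_comp @Etale ((repWith_yon_map_iff @Etale jO).mpr hj) hpe
  · refine repWith_surjective_of_surjective_ofPt _ (hX.representable_from_yon _) ?_
    intro x
    have hx := ht (Set.mem_univ x)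
    simp only [Set.mem_iUnion] at hx
    obtain ⟨i, hi, u, ⟨y, rfl⟩, rfl⟩ := hx
    refine ⟨Sigma.ι g ⟨i, hi⟩ y, ?_⟩
    rw [ofPt_yon_map_comp]
    congr 1
    show (Sigma.ι g ⟨i, hi⟩ ≫ Limits.Sigma.desc h) y = _
    rw [Sigma.ι_desc]

theorem isQuasiCompactSp_iff_compactSpace_points {X : Sp S} (hX : IsAlgSpace X) :
    IsQuasiCompactSp X ↔ CompactSpace (Points X) := by
  constructor
  · rintro ⟨U, p, hpe, hps, hU⟩
    refine ⟨?_⟩
    rw [← (surjective_ofPt p hps).range_eq]
    exact isCompact_range (Points.continuous_ofPt p)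
  · intro h
    obtain ⟨U, p, hU, hpe, hps⟩ := exists_affine_chart_of_compactSpace hX
    exact ⟨U, p, hpe, hps, inferInstance⟩

theorem isQuasiCompactSp_iff_exists_affine_chart {X : Sp S} (hX : IsAlgSpace X) :
    IsQuasiCompactSp X ↔
      ∃ (U : Over S) (p : (yon S).obj U ⟶ X),
        IsAffine U.left ∧ RepWith @Etale p ∧ RepWith @Surjective p := by
  constructor
  · intro h
    haveI := (isQuasiCompactSp_iff_compactSpace_points hX).mp h
    exact exists_affine_chart_of_compactSpace hX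
  · rintro ⟨U, p, hU, hpe, hps⟩
    exact ⟨U, p, hpe, hps, inferInstance⟩

end Groth.Agent.Helper2.AlgSpBasic
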