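import Mathlib
import Groth.Prelude.Def_AlgSp4
import Groth.Agent.Lib.Helper2.Ring.DimEtaleLocal
import Groth.Agent.Lib.Helper2.AlgSp.Basic
import Groth.Agent.Lib.Helper2.AlgSp.Points

/-!
# Etale-local properties of pointed schemes do not depend on the chart of an algebraic space
-/

set_option autoImplicit false
set_option backward.isDefEq.respectTransparency false

open CategoryTheory CategoryTheory.Limits AlgebraicGeometry Opposite AlgSp

namespace Groth.Agent.Helper2.ChartIndep
universe u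

/-- Etale morphisms of schemes preserve the Krull dimension of local rings. -/
theorem ringKrullDim_stalk_eq_of_etale {W U : Scheme.{u}} (f : W ⟶ U) [Etale f] (w : ↥W) :
    ringKrullDim ↥(W.presheaf.stalk w) = ringKrullDim ↥(U.presheaf.stalk (f w)) := by
  have hflat : (f.stalkMap w).hom.Flat := Flat.stalkMap f w
  have hunr : (f.stalkMap w).hom.FormallyUnramified := FormallyUnramified.stalkMap f w
  have hft : (f.stalkMap w).hom.EssFiniteType := LocallyOfFiniteType.stalkMap f w
  algebraize [(f.stalkMap w).hom]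
  haveI : IsLocalHom (algebraMap ↥(U.presheaf.stalk (f w)) ↥(W.presheaf.stalk w)) :=
    inferInstanceAs <| IsLocalHom (f.stalkMap w).hom
  exact (DimEtaleLocal.ringKrullDim_eq (A := ↥(U.presheaf.stalk (f w)))
    (B := ↥(W.presheaf.stalk w))).symm

variable {S : Scheme.{u}}

/-- A property of pointed schemes which is invariant under etale morphisms. -/
def EtaleInvariant (Q : ∀ U : Scheme.{u}, ↥U → Prop) : Prop :=
  ∀ ⦃W U : Scheme.{u}⦄ (g : W ⟶ U), Etale g → ∀ w : ↥W, Q W w ↔ Q U (g w)

theorem chart_indep {Q : ∀ U : Scheme.{u}, ↥U → Prop} (hQ : EtaleInvariant Q) {X : Sp S}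
    {U V : Over S} (a : (yon S).obj U ⟶ X) (b : (yon S).obj V ⟶ X) (ha : RepWith @Etale a)
    (hb : RepWith @Etale b) (u : ↥U.left) (v : ↥V.left) (e : Points.ofPt a u = Points.ofPt b v) :
    Q U.left u ↔ Q V.left v := by
  have hrep := hb.rep
  let pV := hrep.fst' a
  let pU := hrep.snd a
  have sq : IsPullback ((yon S).map pV) ((yon S).map pU) b a := hrep.isPullback' a
  have hpU : Etale pU.left := hb.property_snd a
  have hpV : Etale pV.left := by
    have h1 : RepWith @Etale ((yon S).map pV) :=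
      (repWith_isStableUnderBaseChange (S := S) @Etale).of_isPullback sq.flip ha
    exact (repWith_yon_map_iff @Etale pV).1 h1
  obtain ⟨w, hw1, hw2⟩ := AlgSpBasic.exists_point_of_isPullback_yon b a pV pU sq v u e.symm
  have h1 := hQ pU.left hpU w
  have h2 := hQ pV.left hpV w
  rw [hw2] at h1
  rw [hw1] at h2
  exact h1.symm.trans h2

theorem hasAt_iff_forall {Q : ∀ U : Scheme.{u}, ↥U → Prop} (hQ : EtaleInvariant Q) {X : Sp S}
    (hX : IsAlgSpace X) (x : Points X) :
    HasAt Q X x ↔ ∀ (U : Over S) (a : (yon S).obj U ⟶ X) (u : ↥U.left),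
      RepWith @Etale a → Points.ofPt a u = x → Q U.left u := by
  constructor
  · rintro ⟨U, a, u, ha, hu, hq⟩ V b v hb hv
    exact (chart_indep hQ a b ha hb u v (hu.trans hv.symm)).mp hq
  · intro H
    obtain ⟨U, a, hae, has⟩ := hX.atlas
    obtain ⟨u, hu⟩ := AlgSpBasic.surjective_ofPt a has x
    exact ⟨U, a, u, hae, hu, H U a u hae hu⟩

theorem etaleInvariant_ringKrullDim (d : WithBot ℕ∞) :
    EtaleInvariant (fun (U : Scheme.{u}) u => ringKrullDim ↥(U.presheaf.stalk u) = d) := by
  intro W U g hg w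
  haveI := hg
  show ringKrullDim ↥(W.presheaf.stalk w) = d ↔ ringKrullDim ↥(U.presheaf.stalk (g w)) = d
  rw [ringKrullDim_stalk_eq_of_etale g w]

/-- Etale morphisms of algebraic spaces preserve etale-invariant properties of points. -/
theorem hasAt_map_iff_of_isEtaleMor {Q : ∀ U : Scheme.{u}, ↥U → Prop} (hQ : EtaleInvariant Q)
    {X Y : Sp S} (hX : IsAlgSpace X) (f : X ⟶ Y) (hf : IsEtaleMor f) (x : Points X) :
    HasAt Q X x ↔ HasAt Q Y (Points.map f x) := by
  constructor
  · rintro ⟨U, a, u, ha, hu, hq⟩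
    refine ⟨U, a ≫ f, u, hf a ha, ?_, hq⟩
    rw [← hu]
    rfl
  · rintro ⟨V, b, v, hb, hv, hq⟩
    obtain ⟨U, a, hae, has⟩ := hX.atlas
    obtain ⟨u, hu⟩ := AlgSpBasic.surjective_ofPt a has x
    refine ⟨U, a, u, hae, hu, ?_⟩
    have e : Points.ofPt b v = Points.ofPt (a ≫ f) u := by
      rw [hv, ← hu]
      rfl
    exact (chart_indep hQ b (a ≫ f) hb (hf a hae) v u e).mp hq


/-- Locally quasi-finite morphisms of schemes do not raise the dimension of local rings. -/
theorem ringKrullDim_stalk_le_of_locallyQuasiFinite {W V : Scheme.{u}} (f : W ⟶ V)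
    [LocallyQuasiFinite f] (w : ↥W) :
    ringKrullDim ↥(W.presheaf.stalk w) ≤ ringKrullDim ↥(V.presheaf.stalk (f w)) := by
  have hqf : (f.stalkMap w).hom.QuasiFinite := f.quasiFiniteAt w
  algebraize [(f.stalkMap w).hom]
  exact DimEtaleLocal.ringKrullDim_le_of_quasiFinite (A := ↥(V.presheaf.stalk (f w)))
    (B := ↥(W.presheaf.stalk w))

/-- S10348. -/
theorem stalk_dim_le_of_lqf {X Y : Sp S} (f : X ⟶ Y)
    (hf : LocP (@LocallyQuasiFinite ⊓ @LocallyOfFiniteType) f) (x : Points X)
    (d e : WithBot ℕ∞)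
    (hx : HasAt (fun U u => ringKrullDim ↥(U.presheaf.stalk u) = d) X x)
    (hy : HasAt (fun V v => ringKrullDim ↥(V.presheaf.stalk v) = e) Y (Points.map f x)) :
    d ≤ e := by
  obtain ⟨U, a, u, ha, hu, hd⟩ := hx
  obtain ⟨V, b, v, hb, hv, he⟩ := hy
  have hrep := hb.rep
  let g := a ≫ f
  let pV := hrep.fst' g
  let pU := hrep.snd g
  have sq : IsPullback ((yon S).map pV) ((yon S).map pU) b g := hrep.isPullback' g
  have hpU : Etale pU.left := hb.property_snd g
  have ha' : RepWith @Etale ((yon S).map pU ≫ a) :=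
    AlgSpBasic.repWith_comp @Etale ((repWith_yon_map_iff @Etale pU).2 hpU) ha
  have hqf : LocallyQuasiFinite pV.left := by
    refine (hf ((yon S).map pU ≫ a) b pV ha' hb ?_).1
    rw [Category.assoc]
    exact sq.w.symm
  have hee : Points.ofPt b v = Points.ofPt g u := by
    rw [hv, ← hu]
    rfl
  obtain ⟨w, hw1, hw2⟩ := AlgSpBasic.exists_point_of_isPullback_yon b g pV pU sq v u hee
  have h1 := ringKrullDim_stalk_eq_of_etale pU.left w
  have h2 := ringKrullDim_stalk_le_of_locallyQuasiFinite pV.left w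
  rw [hw2, hd] at h1
  rw [hw1, he, h1] at h2
  exact h2

end Groth.Agent.Helper2.ChartIndep
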