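import Mathlib
import Groth.Prelude.Def_AlgSp4
import Groth.Prelude.Def_AlgSpDec
import Groth.Agent.Lib.Helper2.AlgSp.ChartIndep
import Groth.Agent.Lib.Helper2.Sch.DimFormula

/-!
# The dimension of an algebraic space through the local rings of its charts
-/

set_option autoImplicit false
set_option backward.isDefEq.respectTransparency false

open CategoryTheory CategoryTheory.Limits AlgebraicGeometry Opposite AlgSp

namespace Groth.Agent.Helper2.DimSp
universe u
variable {S : Scheme.{u}}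

open Groth.Agent.Helper2.ChartIndep

theorem stalk_le_dim {F : Sp S} {U : Over S} (a : (yon S).obj U ⟶ F) (ha : RepWith @Etale a)
    (u : ↥U.left) : ringKrullDim ↥(U.left.presheaf.stalk u) ≤ AlgSp.dim F := by
  have h1 : ringKrullDim ↥(U.left.presheaf.stalk u) ≤ topologicalKrullDim ↥U.left := by
    rw [DimFormula.topologicalKrullDim_eq_iSup]
    exact le_iSup (fun x : ↥U.left => ringKrullDim ↥(U.left.presheaf.stalk x)) u
  refine h1.trans ?_
  unfold AlgSp.dim
  exact le_iSup_of_le U (le_iSup_of_le a (le_iSup_of_le ha le_rfl))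

theorem dim_le_of_forall {F : Sp S} (d : WithBot ℕ∞)
    (h : ∀ (U : Over S) (a : (yon S).obj U ⟶ F), RepWith @Etale a → ∀ u : ↥U.left,
      ringKrullDim ↥(U.left.presheaf.stalk u) ≤ d) : AlgSp.dim F ≤ d := by
  unfold AlgSp.dim
  refine iSup_le fun U => iSup_le fun a => iSup_le fun ha => ?_
  rw [DimFormula.topologicalKrullDim_eq_iSup]
  exact iSup_le fun u => h U a ha u

/-- S10250. -/
theorem dim_eq_of_etale_surjective {X Y : Sp S} (hX : IsAlgSpace X) (f : X ⟶ Y)
    (hf : IsEtaleMor f) (hs : IsSurjectiveMor f) : AlgSp.dim X = AlgSp.dim Y := by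
  apply le_antisymm
  · exact dim_le_of_forall _ fun U a ha u => stalk_le_dim (a ≫ f) (hf a ha) u
  · refine dim_le_of_forall _ fun V b hb v => ?_
    obtain ⟨x, hx⟩ := hs (Points.ofPt b v)
    obtain ⟨U, a, hae, has⟩ := hX.atlas
    obtain ⟨u, hu⟩ := AlgSpBasic.surjective_ofPt a has x
    have e : Points.ofPt (a ≫ f) u = Points.ofPt b v := by
      rw [← hx, ← hu]
      rfl
    have h := (chart_indep (etaleInvariant_ringKrullDim (ringKrullDim ↥(V.left.presheaf.stalk v)))
      (a ≫ f) b (hf a hae) hb u v e).mpr rfl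
    have h' : ringKrullDim ↥(U.left.presheaf.stalk u) = ringKrullDim ↥(V.left.presheaf.stalk v) := h
    rw [← h']
    exact stalk_le_dim a hae u

/-- S10347. -/
theorem dim_le_of_lqf {X Y : Sp S} (hY : IsAlgSpace Y) (f : X ⟶ Y)
    (hf : LocP (@LocallyQuasiFinite ⊓ @LocallyOfFiniteType) f) : AlgSp.dim X ≤ AlgSp.dim Y := by
  refine dim_le_of_forall _ fun U a ha u => ?_
  obtain ⟨V, b, hbe, hbs⟩ := hY.atlas
  obtain ⟨v, hv⟩ := AlgSpBasic.surjective_ofPt b hbs (Points.map f (Points.ofPt a u))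
  have h := stalk_dim_le_of_lqf f hf (Points.ofPt a u) _ _
    ⟨U, a, u, ha, rfl, rfl⟩ ⟨V, b, v, hbe, hv, rfl⟩
  exact h.trans (stalk_le_dim b hbe v)

end Groth.Agent.Helper2.DimSp
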