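import Mathlib
import Groth.Prelude.Def_AlgSp4
import Groth.Agent.Lib.Helper2.AlgSp.Points
namespace Groth.Agent.Helper2.AlgSpBasic
open CategoryTheory CategoryTheory.Limits AlgebraicGeometry Opposite AlgSp Topology
universe u
variable {S : Scheme.{u}}

/-- `h_{U ⨯ V}` is a product of `h_U` and `h_V`: joint monicity of the two projections. -/
theorem yon_prod_hom_ext {U V : Over S} {A : Sp S} (x y : A ⟶ (yon S).obj (U ⨯ V))
    (h1 : x ≫ (yon S).map prod.fst = y ≫ (yon S).map prod.fst)
    (h2 : x ≫ (yon S).map prod.snd = y ≫ (yon S).map prod.snd) : x = y := by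
  have hi : IsIso (prodComparison (yon S) U V) := inferInstance
  rw [← cancel_mono (prodComparison (yon S) U V)]
  apply Limits.prod.hom_ext
  · simpa only [Category.assoc, prodComparison_fst] using h1
  · simpa only [Category.assoc, prodComparison_snd] using h2

/-- The fibre product `h_U ×_F h_V` is the base change of the diagonal of `F`. -/
theorem isPullback_diag_of_isPullback {F : Sp S} {U V W : Over S} (a : (yon S).obj U ⟶ F)
    (b : (yon S).obj V ⟶ F) (fst : W ⟶ U) (snd : W ⟶ V)
    (sq : IsPullback ((yon S).map fst) ((yon S).map snd) a b) :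
    IsPullback ((yon S).map fst ≫ a) ((yon S).map (prod.lift fst snd)) (Limits.diag F)
      (prodComparison (yon S) U V ≫ prod.map a b) := by
  have hf : (yon S).map (prod.lift fst snd) ≫ (yon S).map prod.fst = (yon S).map fst := by
    rw [← Functor.map_comp, prod.lift_fst]
  have hs : (yon S).map (prod.lift fst snd) ≫ (yon S).map prod.snd = (yon S).map snd := by
    rw [← Functor.map_comp, prod.lift_snd]
  apply isPullback_of_existsUnique
  · apply Limits.prod.hom_ext
    · simp only [Category.assoc, Limits.diag, prod.lift_fst, Category.comp_id, prod.map_fst,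
        prodComparison_fst_assoc]
      rw [← Category.assoc, hf]
    · simp only [Category.assoc, Limits.diag, prod.lift_snd, Category.comp_id, prod.map_snd,
        prodComparison_snd_assoc]
      rw [← Category.assoc, hs]
      exact sq.w
  · intro A α β hαβ
    have e1 : α = (β ≫ (yon S).map prod.fst) ≫ a := by
      have := congrArg (· ≫ prod.fst) hαβ
      simpa only [Category.assoc, Limits.diag, prod.lift_fst, Category.comp_id, prod.map_fst,
        prodComparison_fst_assoc] using this
    have e2 : α = (β ≫ (yon S).map prod.snd) ≫ b := by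
      have := congrArg (· ≫ prod.snd) hαβ
      simpa only [Category.assoc, Limits.diag, prod.lift_snd, Category.comp_id, prod.map_snd,
        prodComparison_snd_assoc] using this
    refine ⟨sq.lift _ _ (e1.symm.trans e2), ?_, ?_⟩
    · rw [← Category.assoc, sq.lift_fst, ← e1]
    · apply yon_prod_hom_ext
      · rw [Category.assoc, hf, sq.lift_fst]
      · rw [Category.assoc, hs, sq.lift_snd]
  · intro A l l' _ h2
    apply sq.hom_ext
    · have := congrArg (· ≫ (yon S).map prod.fst) h2
      simpa only [Category.assoc, hf] using this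
    · have := congrArg (· ≫ (yon S).map prod.snd) h2
      simpa only [Category.assoc, hs] using this

/-- If the diagonal of `F` has `P`, then `W ⟶ U ⨯ V` has `P` for every represented fibre product. -/
theorem prop_prod_lift_of_repWith_diag {F : Sp S} (P : MorphismProperty Scheme.{u})
    (hF : RepWith P (Limits.diag F)) {U V W : Over S} (a : (yon S).obj U ⟶ F)
    (b : (yon S).obj V ⟶ F) (fst : W ⟶ U) (snd : W ⟶ V)
    (sq : IsPullback ((yon S).map fst) ((yon S).map snd) a b) : P (prod.lift fst snd).left :=
  hF.property _ _ _ (isPullback_diag_of_isPullback a b fst snd sq)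


/-- Pullbacks of the diagonal of `F` are base changes of `W ⟶ T ⨯ T`, `W = h_T ×_F h_T`. -/
theorem prop_of_isPullback_diag {F : Sp S} (P : MorphismProperty Scheme.{u})
    [P.IsStableUnderBaseChange] {T E W : Over S} (g : (yon S).obj T ⟶ F ⨯ F)
    (φ : (yon S).obj E ⟶ F) (e : E ⟶ T) (sqE : IsPullback φ ((yon S).map e) (Limits.diag F) g)
    (w₁ w₂ : W ⟶ T)
    (sqW : IsPullback ((yon S).map w₁) ((yon S).map w₂) (g ≫ prod.fst) (g ≫ prod.snd))
    (hP : P (prod.lift w₁ w₂).left) : P e.left := by
  set a := g ≫ prod.fst with ha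
  set b := g ≫ prod.snd with hb
  have hφa : φ = (yon S).map e ≫ a := by
    have := congrArg (· ≫ prod.fst) sqE.w
    simpa only [Category.assoc, Limits.diag, prod.lift_fst, Category.comp_id] using this
  have hφb : φ = (yon S).map e ≫ b := by
    have := congrArg (· ≫ prod.snd) sqE.w
    simpa only [Category.assoc, Limits.diag, prod.lift_snd, Category.comp_id] using this
  obtain ⟨k, hk⟩ := (yon S).map_surjective (sqW.lift ((yon S).map e) ((yon S).map e)
    (hφa.symm.trans hφb))
  have hk1 : k ≫ w₁ = e := (yon S).map_injective (by rw [Functor.map_comp, hk, sqW.lift_fst])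
  have hk2 : k ≫ w₂ = e := (yon S).map_injective (by rw [Functor.map_comp, hk, sqW.lift_snd])
  have sq : IsPullback k e (prod.lift w₁ w₂) (Limits.diag T) := by
    have w : k ≫ prod.lift w₁ w₂ = e ≫ Limits.diag T := by
      apply Limits.prod.hom_ext
      · simp only [Category.assoc, prod.lift_fst, Limits.diag, Category.comp_id, hk1]
      · simp only [Category.assoc, prod.lift_snd, Limits.diag, Category.comp_id, hk2]
    refine IsPullback.of_map (yon S) w ?_
    apply isPullback_of_existsUnique
    · rw [← Functor.map_comp, ← Functor.map_comp, w]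
    · intro A α β hαβ
      have e1 : α ≫ (yon S).map w₁ = β := by
        have := congrArg (· ≫ (yon S).map prod.fst) hαβ
        simp only [Category.assoc, ← Functor.map_comp, prod.lift_fst, Limits.diag] at this
        rw [this]
        erw [(yon S).map_id T, Category.comp_id]
      have e2 : α ≫ (yon S).map w₂ = β := by
        have := congrArg (· ≫ (yon S).map prod.snd) hαβ
        simp only [Category.assoc, ← Functor.map_comp, prod.lift_snd, Limits.diag] at this
        rw [this]
        erw [(yon S).map_id T, Category.comp_id]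
      have c : (β ≫ a) ≫ Limits.diag F = β ≫ g := by
        apply Limits.prod.hom_ext
        · simp only [Category.assoc, Limits.diag, prod.lift_fst, Category.comp_id, a]
        · simp only [Category.assoc, Limits.diag, prod.lift_snd, Category.comp_id]
          show β ≫ a = β ≫ b
          rw [← e1, Category.assoc, sqW.w, ← Category.assoc, e2, e1]
      refine ⟨sqE.lift (β ≫ a) β c, ?_, sqE.lift_snd _ _ _⟩
      apply sqW.hom_ext
      · rw [Category.assoc, ← Functor.map_comp, hk1, sqE.lift_snd, e1]
      · rw [Category.assoc, ← Functor.map_comp, hk2, sqE.lift_snd, e2]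
    · intro A l l' _ h2
      apply sqE.hom_ext
      · rw [hφa, ← Category.assoc, h2, Category.assoc]
      · exact h2
  exact (P.inverseImage (Over.forget S)).of_isPullback sq hP

theorem repWith_diag_of_pairwise (F : Sp S) (P : MorphismProperty Scheme.{u})
    [P.IsStableUnderBaseChange]
    (h₁ : ∀ ⦃U V : Over S⦄ (a : (yon S).obj U ⟶ F) (b : (yon S).obj V ⟶ F),
      ∃ (W : Over S) (fst : W ⟶ U) (snd : W ⟶ V),
        IsPullback ((yon S).map fst) ((yon S).map snd) a b)
    (h₂ : ∀ ⦃U V W : Over S⦄ (a : (yon S).obj U ⟶ F) (b : (yon S).obj V ⟶ F) (fst : W ⟶ U)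
      (snd : W ⟶ V), IsPullback ((yon S).map fst) ((yon S).map snd) a b →
        P (prod.lift fst snd).left) :
    RepWith P (Limits.diag F) := by
  have hrep : Representable (Limits.diag F) := by
    apply Functor.relativelyRepresentable.diag_of_map_from_obj
    intro U a V b
    obtain ⟨W, fst, snd, sq⟩ := h₁ a b
    exact ⟨W, snd, (yon S).map fst, sq⟩
  refine ⟨hrep, fun T E g φ e sqE => ?_⟩
  show P e.left
  obtain ⟨W, w₁, w₂, sqW⟩ := h₁ (g ≫ prod.fst) (g ≫ prod.snd)
  exact prop_of_isPullback_diag P g φ e sqE w₁ w₂ sqW (h₂ _ _ w₁ w₂ sqW)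

/-- Fibre products `h_U ×_F h_V` are representable when the diagonal of `F` is. -/
theorem exists_isPullback_yon {F : Sp S} (hF : Representable (Limits.diag F)) {U V : Over S}
    (a : (yon S).obj U ⟶ F) (b : (yon S).obj V ⟶ F) :
    ∃ (W : Over S) (fst : W ⟶ U) (snd : W ⟶ V),
      IsPullback ((yon S).map fst) ((yon S).map snd) a b := by
  have ha : Representable a := Functor.relativelyRepresentable.of_diag hF a
  exact ⟨ha.pullback b, ha.fst' b, ha.snd b, ha.isPullback' b⟩

/-- For a property local on the target, `RepWith P f` may be tested on affine schemes. -/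
theorem repWith_of_forall_affine {F G : Sp S} (f : F ⟶ G) (hf : Representable f)
    (P : MorphismProperty Scheme.{u}) [IsZariskiLocalAtTarget P]
    (h : ∀ (T E : Over S) (g : (yon S).obj T ⟶ G) (fst : (yon S).obj E ⟶ F) (snd : E ⟶ T),
      IsAffine T.left → IsPullback fst ((yon S).map snd) f g → P snd.left) : RepWith P f := by
  refine ⟨hf, fun T V g fst snd hpb => ?_⟩
  show P snd.left
  rw [IsZariskiLocalAtTarget.iff_of_openCover (P := P) T.left.affineCover]
  intro i
  let D := overBC snd (T.left.affineCover.f i)
  have h1 : IsPullback ((yon S).map D.fst' ≫ fst) ((yon S).map D.snd') f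
      ((yon S).map D.c' ≫ g) := (D.sq.map (yon S)).paste_horiz hpb
  exact h D.T' D.V' _ _ D.snd' (by rw [D.hT']; infer_instance) h1

/-- Diagonal criterion with affine test schemes. -/
theorem repWith_diag_of_forall_affine (F : Sp S) (P : MorphismProperty Scheme.{u})
    [P.IsStableUnderBaseChange] [IsZariskiLocalAtTarget P] (hF : Representable (Limits.diag F))
    (h₂ : ∀ ⦃T W : Over S⦄ (a b : (yon S).obj T ⟶ F) (fst snd : W ⟶ T), IsAffine T.left →
      IsPullback ((yon S).map fst) ((yon S).map snd) a b → P (prod.lift fst snd).left) :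
    RepWith P (Limits.diag F) := by
  refine repWith_of_forall_affine _ hF P fun T E g φ e hT sqE => ?_
  obtain ⟨W, w₁, w₂, sqW⟩ := exists_isPullback_yon hF (g ≫ prod.fst) (g ≫ prod.snd)
  exact prop_of_isPullback_diag P g φ e sqE w₁ w₂ sqW (h₂ _ _ w₁ w₂ hT sqW)

theorem compactSpace_prod_left [QuasiSeparatedSpace ↥S] (U V : Over S)
    [CompactSpace ↥U.left] [CompactSpace ↥V.left] : CompactSpace ↥(U ⨯ V).left := by
  have : CompactSpace ↥(pullback U.hom V.hom) := inferInstance
  exact (Scheme.homeoOfIso (Over.prodLeftIsoPullback U V)).symm.compactSpace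

theorem compactSpace_of_isPullback_of_isQuasiSeparatedSp [QuasiSeparatedSpace ↥S]
    {X : Sp S} (hX : IsQuasiSeparatedSp X) (U V P : Over S) (a : (yon S).obj U ⟶ X)
    (b : (yon S).obj V ⟶ X) (fst : P ⟶ U) (snd : P ⟶ V)
    [CompactSpace ↥U.left] [CompactSpace ↥V.left]
    (h : IsPullback ((yon S).map fst) ((yon S).map snd) a b) : CompactSpace ↥P.left := by
  have hq : QuasiCompact (prod.lift fst snd).left :=
    prop_prod_lift_of_repWith_diag @QuasiCompact hX a b fst snd h
  have := compactSpace_prod_left U V
  exact QuasiCompact.compactSpace_of_compactSpace (prod.lift fst snd).left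

end Groth.Agent.Helper2.AlgSpBasic
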