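import Mathlib
import Groth.Prelude.Def_AlgSp4
import Groth.Prelude.Def_AlgSpDec
import Groth.Prelude.Def_Flat
import Groth.Agent.Lib.Helper2.AlgSp.ChartIndep
import Groth.Agent.Lib.Helper2.AlgSp.Diag
import Groth.Agent.Lib.Helper2.AlgSp.Points
import Groth.Agent.Lib.Helper2.FibDim.EtaleLocal

/-!
# Properties of morphisms of pointed schemes that are étale local on source and target:
independence of the chart diagram (helper2)
-/

set_option autoImplicit false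
set_option backward.isDefEq.respectTransparency false

open CategoryTheory CategoryTheory.Limits AlgebraicGeometry Opposite AlgSp

namespace Groth.Agent.Helper2.ChartIndepMor
universe u
variable {S : Scheme.{u}}

/-- a property of morphisms of pointed schemes that is étale local on source and target -/
def EtaleLocalST (Q : ∀ (U V : Scheme.{u}), (U ⟶ V) → ↥U → Prop) : Prop :=
  ∀ (U U' V V' : Scheme.{u}) (h : U ⟶ V) (h' : U' ⟶ V') (a : U' ⟶ U) (b : V' ⟶ V),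
    Etale a → Etale b → h' ≫ b = a ≫ h → ∀ u' : U', Q U V h (a u') ↔ Q U' V' h' u'

/-- a property étale local on source and target does not depend on the chart diagram -/
theorem chart_indep {Q : ∀ (U V : Scheme.{u}), (U ⟶ V) → ↥U → Prop} (hQ : EtaleLocalST Q)
    {X Y : Sp S} (hX : Representable (Limits.diag X))
    (hY : Representable (Limits.diag Y)) (f : X ⟶ Y)
    {U₁ V₁ U₂ V₂ : Over S} (a₁ : (yon S).obj U₁ ⟶ X) (b₁ : (yon S).obj V₁ ⟶ Y) (h₁ : U₁ ⟶ V₁)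
    (a₂ : (yon S).obj U₂ ⟶ X) (b₂ : (yon S).obj V₂ ⟶ Y) (h₂ : U₂ ⟶ V₂)
    (ha₁ : RepWith @Etale a₁) (hb₁ : RepWith @Etale b₁) (ha₂ : RepWith @Etale a₂)
    (hb₂ : RepWith @Etale b₂) (c₁ : a₁ ≫ f = (yon S).map h₁ ≫ b₁)
    (c₂ : a₂ ≫ f = (yon S).map h₂ ≫ b₂) (u₁ : ↥U₁.left) (u₂ : ↥U₂.left)
    (e : Points.ofPt a₁ u₁ = Points.ofPt a₂ u₂) :
    Q _ _ h₁.left u₁ ↔ Q _ _ h₂.left u₂ := by
  obtain ⟨U₃, p₁, p₂, sqU⟩ := AlgSpBasic.exists_isPullback_yon hX a₁ a₂
  obtain ⟨V₃, q₁, q₂, sqV⟩ := AlgSpBasic.exists_isPullback_yon hY b₁ b₂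
  have hp₂ : Etale p₂.left := ha₁.property a₂ ((yon S).map p₁) p₂ sqU
  have hp₁ : Etale p₁.left := ha₂.property a₁ ((yon S).map p₂) p₁ sqU.flip
  have hq₂ : Etale q₂.left := hb₁.property b₂ ((yon S).map q₁) q₂ sqV
  have hq₁ : Etale q₁.left := hb₂.property b₁ ((yon S).map q₂) q₁ sqV.flip
  have hcomm : (yon S).map (p₁ ≫ h₁) ≫ b₁ = (yon S).map (p₂ ≫ h₂) ≫ b₂ := by
    rw [Functor.map_comp, Functor.map_comp, Category.assoc, Category.assoc, ← c₁, ← c₂,
      ← Category.assoc, ← Category.assoc, sqU.w]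
  obtain ⟨h₃, hh₃⟩ := (yon S).map_surjective (sqV.lift _ _ hcomm)
  have e₁ : h₃ ≫ q₁ = p₁ ≫ h₁ := by
    apply (yon S).map_injective
    rw [Functor.map_comp, hh₃, sqV.lift_fst]
  have e₂ : h₃ ≫ q₂ = p₂ ≫ h₂ := by
    apply (yon S).map_injective
    rw [Functor.map_comp, hh₃, sqV.lift_snd]
  obtain ⟨u₃, hu₁, hu₂⟩ := AlgSpBasic.exists_point_of_isPullback_yon a₁ a₂ p₁ p₂ sqU u₁ u₂ e
  have s₁ : h₃.left ≫ q₁.left = p₁.left ≫ h₁.left := by
    rw [← Over.comp_left, ← Over.comp_left, e₁]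
  have s₂ : h₃.left ≫ q₂.left = p₂.left ≫ h₂.left := by
    rw [← Over.comp_left, ← Over.comp_left, e₂]
  have i₁ := hQ _ _ _ _ h₁.left h₃.left p₁.left q₁.left hp₁ hq₁ s₁ u₃
  have i₂ := hQ _ _ _ _ h₂.left h₃.left p₂.left q₂.left hp₂ hq₂ s₂ u₃
  rw [hu₁] at i₁
  rw [hu₂] at i₂
  exact i₁.trans i₂.symm

/-- with the property at one diagram through `x`, it holds at every diagram through `x` -/
theorem of_hasAtMor {Q : ∀ (U V : Scheme.{u}), (U ⟶ V) → ↥U → Prop} (hQ : EtaleLocalST Q)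
    {X Y : Sp S} (hX : Representable (Limits.diag X))
    (hY : Representable (Limits.diag Y)) (f : X ⟶ Y)
    (x : Points X) (hx : HasAtMor Q f x)
    {U V : Over S} (a : (yon S).obj U ⟶ X) (b : (yon S).obj V ⟶ Y) (h : U ⟶ V)
    (ha : RepWith @Etale a) (hb : RepWith @Etale b) (c : a ≫ f = (yon S).map h ≫ b)
    (u : ↥U.left) (hu : Points.ofPt a u = x) : Q _ _ h.left u := by
  obtain ⟨U₁, V₁, a₁, b₁, h₁, u₁, ha₁, hb₁, c₁, hu₁, hq⟩ := hx
  exact (chart_indep hQ hX hY f a₁ b₁ h₁ a b h ha₁ hb₁ ha hb c₁ c u₁ u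
    (hu₁.trans hu.symm)).mp hq

theorem etaleLocalST_fibreDimAt_le (c : WithBot ℕ∞) :
    EtaleLocalST (fun _ _ h u => FlatMor.fibreDimAt h u ≤ c) := by
  intro U U' V V' h h' a b ha hb comm u'
  haveI := ha
  haveI := hb
  beta_reduce
  rw [Groth.Agent.Helper2.FibDim.S7408_main h h' a b comm u']

theorem etaleLocalST_fibreDimAt_eq (c : WithBot ℕ∞) :
    EtaleLocalST (fun _ _ h u => FlatMor.fibreDimAt h u = c) := by
  intro U U' V V' h h' a b ha hb comm u'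
  haveI := ha
  haveI := hb
  beta_reduce
  rw [Groth.Agent.Helper2.FibDim.S7408_main h h' a b comm u']

theorem etaleLocalST_le_fibreDimAt (c : WithBot ℕ∞) :
    EtaleLocalST (fun _ _ h u => c ≤ FlatMor.fibreDimAt h u) := by
  intro U U' V V' h h' a b ha hb comm u'
  haveI := ha
  haveI := hb
  beta_reduce
  rw [Groth.Agent.Helper2.FibDim.S7408_main h h' a b comm u']

end Groth.Agent.Helper2.ChartIndepMor
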