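import Mathlib
import Groth.Agent.S0079
import Groth.Agent.S0080
import Groth.Agent.S0081
import Groth.Agent.S0082
import Groth.Agent.S0083
import Groth.Agent.S0084
import Groth.Agent.S0085
import Groth.Agent.S0086
import Groth.Agent.S0087

/-! Bridge: fpqc descent of a property of morphisms of schemes gives locality on the target for the
fppf precoverage. -/
namespace Groth.Agent.Helper2.AlgSpBasic
open CategoryTheory CategoryTheory.Limits AlgebraicGeometry Opposite Topology MorphismProperty
universe u

set_option backward.isDefEq.respectTransparency.types false in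
/-- A property that is Zariski-local on the target and descends along fppf covers is local on
the target for the fppf precoverage. -/
theorem isLocalAtTarget_fppf_of_descendsAlong (P : MorphismProperty Scheme.{u})
    [P.IsStableUnderBaseChange] [IsZariskiLocalAtTarget P]
    [P.DescendsAlong (@Surjective ⊓ @Flat ⊓ @LocallyOfFinitePresentation)] :
    P.IsLocalAtTarget Scheme.fppfPrecoverage := by
  have : Precoverage.Small.{u} Scheme.fppfPrecoverage :=
    inferInstanceAs (Precoverage.Small.{u} (Scheme.precoverage (@Flat ⊓ @LocallyOfFinitePresentation)))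
  refine IsLocalAtTarget.mk_of_small.{u} (K := Scheme.fppfPrecoverage)
    (fun 𝒰 hf i => P.pullback_snd _ _ hf) ?_
  intro X Y f 𝒰 h
  let 𝒱 : Scheme.Cover.{u} (Scheme.precoverage (@Flat ⊓ @LocallyOfFinitePresentation)) Y := 𝒰
  let p : (∐ 𝒰.X) ⟶ Y := Sigma.desc 𝒰.f
  have hp : (@Surjective ⊓ @Flat ⊓ @LocallyOfFinitePresentation : MorphismProperty Scheme.{u}) p := by
    refine ⟨⟨⟨fun y => ?_⟩, ?_⟩, ?_⟩
    · obtain ⟨i, x, hx⟩ := 𝒱.exists_eq y
      refine ⟨Sigma.ι 𝒰.X i x, ?_⟩
      rw [← Scheme.Hom.comp_apply, Sigma.ι_desc]
      exact hx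
    · rw [IsZariskiLocalAtSource.iff_of_openCover (P := @Flat) (sigmaOpenCover _)]
      intro i
      change Flat (Sigma.ι 𝒰.X (i : 𝒰.I₀) ≫ Sigma.desc 𝒰.f)
      rw [Sigma.ι_desc]
      exact (𝒱.map_prop i).1
    · rw [IsZariskiLocalAtSource.iff_of_openCover (P := @LocallyOfFinitePresentation)
        (sigmaOpenCover _)]
      intro i
      change LocallyOfFinitePresentation (Sigma.ι 𝒰.X (i : 𝒰.I₀) ≫ Sigma.desc 𝒰.f)
      rw [Sigma.ι_desc]
      exact (𝒱.map_prop i).2
  refine MorphismProperty.of_pullback_snd_of_descendsAlong (P := P) (f := f) (g := p) hp ?_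
  rw [IsZariskiLocalAtTarget.iff_of_openCover (P := P) (sigmaOpenCover 𝒰.X)]
  intro i
  change P (pullback.snd (pullback.snd f p) (Sigma.ι 𝒰.X (i : 𝒰.I₀)))
  have sq1 : IsPullback (pullback.fst (pullback.snd f p) (Sigma.ι 𝒰.X (i : 𝒰.I₀)))
      (pullback.snd (pullback.snd f p) (Sigma.ι 𝒰.X (i : 𝒰.I₀))) (pullback.snd f p)
      (Sigma.ι 𝒰.X (i : 𝒰.I₀)) :=
    IsPullback.of_hasPullback _ _
  have sq2 : IsPullback (pullback.fst f p) (pullback.snd f p) f p := IsPullback.of_hasPullback _ _
  have sq3 := sq1.flip.paste_vert sq2.flip
  have e : Sigma.ι 𝒰.X (i : 𝒰.I₀) ≫ p = 𝒰.f i := Sigma.ι_desc _ _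
  rw [e] at sq3
  have := h i
  rw [← sq3.flip.isoPullback_hom_snd, P.cancel_left_of_respectsIso]
  exact this

set_option backward.isDefEq.respectTransparency.types false in
/-- fpqc descent gives fppf locality on the target. -/
theorem isLocalAtTarget_fppf_of_fpqc (P : MorphismProperty Scheme.{u})
    [P.IsStableUnderBaseChange] [IsZariskiLocalAtTarget P]
    [P.DescendsAlong (@Surjective ⊓ @Flat ⊓ @QuasiCompact)] :
    P.IsLocalAtTarget Scheme.fppfPrecoverage :=
  isLocalAtTarget_fppf_of_descendsAlong P

set_option backward.isDefEq.respectTransparency.types false in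
instance : MorphismProperty.IsLocalAtTarget (@QuasiCompact : MorphismProperty Scheme.{u})
    Scheme.fppfPrecoverage :=
  haveI := Groth.Agent.S0079.result.{u}
  isLocalAtTarget_fppf_of_fpqc _

set_option backward.isDefEq.respectTransparency.types false in
instance : MorphismProperty.IsLocalAtTarget (@QuasiSeparated : MorphismProperty Scheme.{u})
    Scheme.fppfPrecoverage :=
  haveI := Groth.Agent.S0080.result.{u}
  isLocalAtTarget_fppf_of_fpqc _

set_option backward.isDefEq.respectTransparency.types false in
instance : MorphismProperty.IsLocalAtTarget (@IsSeparated : MorphismProperty Scheme.{u})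
    Scheme.fppfPrecoverage :=
  haveI := Groth.Agent.S0081.result.{u}
  isLocalAtTarget_fppf_of_fpqc _

set_option backward.isDefEq.respectTransparency.types false in
instance : MorphismProperty.IsLocalAtTarget (@IsAffineHom : MorphismProperty Scheme.{u})
    Scheme.fppfPrecoverage :=
  haveI := Groth.Agent.S0082.result.{u}
  isLocalAtTarget_fppf_of_fpqc _

set_option backward.isDefEq.respectTransparency.types false in
instance : MorphismProperty.IsLocalAtTarget (@IsClosedImmersion : MorphismProperty Scheme.{u})
    Scheme.fppfPrecoverage :=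
  haveI := Groth.Agent.S0083.result.{u}
  isLocalAtTarget_fppf_of_fpqc _

set_option backward.isDefEq.respectTransparency.types false in
instance : MorphismProperty.IsLocalAtTarget (@IsFinite : MorphismProperty Scheme.{u})
    Scheme.fppfPrecoverage :=
  haveI := Groth.Agent.S0084.result.{u}
  isLocalAtTarget_fppf_of_fpqc _

set_option backward.isDefEq.respectTransparency.types false in
instance : MorphismProperty.IsLocalAtTarget (@IsIntegralHom : MorphismProperty Scheme.{u})
    Scheme.fppfPrecoverage :=
  haveI := Groth.Agent.S0085.result.{u}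
  isLocalAtTarget_fppf_of_fpqc _

set_option backward.isDefEq.respectTransparency.types false in
instance : MorphismProperty.IsLocalAtTarget (@IsProper : MorphismProperty Scheme.{u})
    Scheme.fppfPrecoverage :=
  haveI := Groth.Agent.S0086.result.{u}
  isLocalAtTarget_fppf_of_fpqc _

set_option backward.isDefEq.respectTransparency.types false in
instance : MorphismProperty.IsLocalAtTarget (@UniversallyClosed : MorphismProperty Scheme.{u})
    Scheme.fppfPrecoverage :=
  isLocalAtTarget_fppf_of_fpqc _

set_option backward.isDefEq.respectTransparency.types false in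
instance : MorphismProperty.IsLocalAtTarget (@UniversallyOpen : MorphismProperty Scheme.{u})
    Scheme.fppfPrecoverage :=
  isLocalAtTarget_fppf_of_fpqc _

set_option backward.isDefEq.respectTransparency.types false in
instance : MorphismProperty.IsLocalAtTarget (@UniversallyInjective : MorphismProperty Scheme.{u})
    Scheme.fppfPrecoverage :=
  isLocalAtTarget_fppf_of_fpqc _

set_option backward.isDefEq.respectTransparency.types false in
instance : MorphismProperty.IsLocalAtTarget (@Surjective : MorphismProperty Scheme.{u})
    Scheme.fppfPrecoverage :=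
  isLocalAtTarget_fppf_of_fpqc _

set_option backward.isDefEq.respectTransparency.types false in
instance : MorphismProperty.IsLocalAtTarget (@IsOpenImmersion : MorphismProperty Scheme.{u})
    Scheme.fppfPrecoverage :=
  isLocalAtTarget_fppf_of_fpqc _

set_option backward.isDefEq.respectTransparency.types false in
instance : (MorphismProperty.isomorphisms Scheme.{u}).IsLocalAtTarget
    Scheme.fppfPrecoverage :=
  isLocalAtTarget_fppf_of_fpqc _

set_option backward.isDefEq.respectTransparency.types false in
instance : MorphismProperty.IsLocalAtTarget (@LocallyOfFiniteType : MorphismProperty Scheme.{u})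
    Scheme.fppfPrecoverage :=
  isLocalAtTarget_fppf_of_fpqc _

set_option backward.isDefEq.respectTransparency.types false in
instance : MorphismProperty.IsLocalAtTarget (@LocallyOfFinitePresentation : MorphismProperty Scheme.{u})
    Scheme.fppfPrecoverage :=
  isLocalAtTarget_fppf_of_fpqc _

set_option backward.isDefEq.respectTransparency.types false in
instance : MorphismProperty.IsLocalAtTarget (@Smooth : MorphismProperty Scheme.{u})
    Scheme.fppfPrecoverage :=
  isLocalAtTarget_fppf_of_fpqc _

set_option backward.isDefEq.respectTransparency.types false in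
instance : MorphismProperty.IsLocalAtTarget (@Etale : MorphismProperty Scheme.{u})
    Scheme.fppfPrecoverage :=
  isLocalAtTarget_fppf_of_fpqc _

set_option backward.isDefEq.respectTransparency.types false in
instance : MorphismProperty.IsLocalAtTarget (@FormallyUnramified : MorphismProperty Scheme.{u})
    Scheme.fppfPrecoverage :=
  isLocalAtTarget_fppf_of_fpqc _

end Groth.Agent.Helper2.AlgSpBasic
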