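import Mathlib
namespace Groth.Agent.Helper2.TopCharts
open Topology

section
variable {ι : Type*} {β β' : Type*} [TopologicalSpace β] [TopologicalSpace β']
  {α α' : ι → Type*} [∀ i, TopologicalSpace (α i)] [∀ i, TopologicalSpace (α' i)]
  (q : β' → β) (q' : ∀ i, α' i → α i) (a : ∀ i, α i → β) (a' : ∀ i, α' i → β')

theorem isOpenMap_of_charts
    (comm : ∀ i x, a i (q' i x) = q (a' i x))
    (cart : ∀ i z u, q z = a i u → ∃ x, a' i x = z ∧ q' i x = u)
    (hsurj : ∀ b, ∃ i u, a i u = b)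
    (ha : ∀ i, IsOpenMap (a i)) (ha'c : ∀ i, Continuous (a' i))
    (hq' : ∀ i, IsOpenMap (q' i)) : IsOpenMap q := by
  intro W hW
  have : q '' W = ⋃ i, a i '' (q' i '' (a' i ⁻¹' W)) := by
    ext b
    simp only [Set.mem_image, Set.mem_iUnion, Set.mem_preimage]
    constructor
    · rintro ⟨z, hz, rfl⟩
      obtain ⟨i, u, hu⟩ := hsurj (q z)
      obtain ⟨x, hx1, hx2⟩ := cart i z u hu.symm
      exact ⟨i, u, ⟨x, by rw [hx1]; exact hz, hx2⟩, hu⟩
    · rintro ⟨i, u, ⟨x, hx, rfl⟩, rfl⟩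
      exact ⟨a' i x, hx, (comm i x).symm⟩
  rw [this]
  exact isOpen_iUnion fun i => ha i _ (hq' i _ (hW.preimage (ha'c i)))

theorem isClosed_of_charts (hsurj : ∀ b, ∃ i u, a i u = b) (ha : ∀ i, IsOpenMap (a i))
    (V : Set β) (hV : ∀ i, IsClosed (a i ⁻¹' V)) : IsClosed V := by
  rw [← isOpen_compl_iff]
  have : Vᶜ = ⋃ i, a i '' ((a i ⁻¹' V)ᶜ) := by
    ext b
    simp only [Set.mem_compl_iff, Set.mem_iUnion, Set.mem_image, Set.mem_preimage]
    constructor
    · intro hb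
      obtain ⟨i, u, rfl⟩ := hsurj b
      exact ⟨i, u, hb, rfl⟩
    · rintro ⟨i, u, hu, rfl⟩
      exact hu
  rw [this]
  exact isOpen_iUnion fun i => ha i _ (hV i).isOpen_compl

theorem isOpen_of_charts (hsurj : ∀ b, ∃ i u, a i u = b) (ha : ∀ i, IsOpenMap (a i))
    (V : Set β) (hV : ∀ i, IsOpen (a i ⁻¹' V)) : IsOpen V := by
  rw [← isClosed_compl_iff]
  exact isClosed_of_charts a hsurj ha _ fun i => by
    rw [Set.preimage_compl]; exact (hV i).isClosed_compl

theorem isClosedMap_of_charts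
    (comm : ∀ i x, a i (q' i x) = q (a' i x))
    (cart : ∀ i z u, q z = a i u → ∃ x, a' i x = z ∧ q' i x = u)
    (hsurj : ∀ b, ∃ i u, a i u = b)
    (ha : ∀ i, IsOpenMap (a i)) (ha'c : ∀ i, Continuous (a' i))
    (hq' : ∀ i, IsClosedMap (q' i)) : IsClosedMap q := by
  intro W hW
  refine isClosed_of_charts a hsurj ha _ fun i => ?_
  have : a i ⁻¹' (q '' W) = q' i '' (a' i ⁻¹' W) := by
    ext u
    simp only [Set.mem_preimage, Set.mem_image]
    constructor
    · rintro ⟨z, hz, hzu⟩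
      obtain ⟨x, hx1, hx2⟩ := cart i z u hzu
      exact ⟨x, by rw [hx1]; exact hz, hx2⟩
    · rintro ⟨x, hx, rfl⟩
      exact ⟨a' i x, hx, (comm i x).symm⟩
  rw [this]
  exact hq' i _ (hW.preimage (ha'c i))

theorem injective_of_charts
    (cart : ∀ i z u, q z = a i u → ∃ x, a' i x = z ∧ q' i x = u)
    (hsurj : ∀ b, ∃ i u, a i u = b)
    (hq' : ∀ i, Function.Injective (q' i)) : Function.Injective q := by
  intro z₁ z₂ h
  obtain ⟨i, u, hu⟩ := hsurj (q z₁)
  obtain ⟨x₁, hx1, hx1'⟩ := cart i z₁ u hu.symm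
  obtain ⟨x₂, hx2, hx2'⟩ := cart i z₂ u (h ▸ hu.symm)
  have : x₁ = x₂ := hq' i (hx1'.trans hx2'.symm)
  rw [← hx1, ← hx2, this]

theorem surjective_of_charts
    (comm : ∀ i x, a i (q' i x) = q (a' i x))
    (hsurj : ∀ b, ∃ i u, a i u = b)
    (hq' : ∀ i, Function.Surjective (q' i)) : Function.Surjective q := by
  intro b
  obtain ⟨i, u, rfl⟩ := hsurj b
  obtain ⟨x, rfl⟩ := hq' i u
  exact ⟨a' i x, (comm i x).symm⟩

theorem isQuotientMap_of_charts
    (comm : ∀ i x, a i (q' i x) = q (a' i x))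
    (hsurj : ∀ b, ∃ i u, a i u = b)
    (ha : ∀ i, IsOpenMap (a i)) (ha'c : ∀ i, Continuous (a' i)) (hqc : Continuous q)
    (hq' : ∀ i, IsQuotientMap (q' i)) : IsQuotientMap q := by
  refine ⟨isCoinducing_iff.mpr fun V => ?_,
    surjective_of_charts q q' a a' comm hsurj fun i => (hq' i).surjective⟩
  constructor
  · intro hV
    refine isOpen_of_charts a hsurj ha V fun i => ?_
    rw [← (hq' i).isOpen_preimage]
    have : q' i ⁻¹' (a i ⁻¹' V) = a' i ⁻¹' (q ⁻¹' V) := by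
      ext x; simp only [Set.mem_preimage, comm]
    rw [this]
    exact hV.preimage (ha'c i)
  · intro hV; exact hV.preimage hqc

theorem isHomeomorph_of_charts
    (comm : ∀ i x, a i (q' i x) = q (a' i x))
    (cart : ∀ i z u, q z = a i u → ∃ x, a' i x = z ∧ q' i x = u)
    (hsurj : ∀ b, ∃ i u, a i u = b)
    (ha : ∀ i, IsOpenMap (a i)) (ha'c : ∀ i, Continuous (a' i)) (hqc : Continuous q)
    (hq' : ∀ i, IsHomeomorph (q' i)) : IsHomeomorph q :=
  ⟨hqc, isOpenMap_of_charts q q' a a' comm cart hsurj ha ha'c fun i => (hq' i).isOpenMap,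
    ⟨injective_of_charts q q' a a' cart hsurj fun i => (hq' i).injective,
      surjective_of_charts q q' a a' comm hsurj fun i => (hq' i).surjective⟩⟩

end
end Groth.Agent.Helper2.TopCharts
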