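import Mathlib
import Groth.Agent.Lib.Helper2.AlgSp.TopCharts

namespace Groth.Agent.Helper2.TopCharts
open Topology

section
variable {ι : Type*} {β β' : Type*} [TopologicalSpace β] [TopologicalSpace β']
  {α α' : ι → Type*} [∀ i, TopologicalSpace (α i)] [∀ i, TopologicalSpace (α' i)]
  (q : β' → β) (q' : ∀ i, α' i → α i) (a : ∀ i, α i → β) (a' : ∀ i, α' i → β')

theorem isOpen_of_family_closed
    (hcl : ∀ V : Set β, (∀ i, IsClosed (a i ⁻¹' V)) → IsClosed V)
    (V : Set β) (hV : ∀ i, IsOpen (a i ⁻¹' V)) : IsOpen V := by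
  rw [← isClosed_compl_iff]
  exact hcl _ fun i => by rw [Set.preimage_compl]; exact (hV i).isClosed_compl

omit [TopologicalSpace β] [TopologicalSpace β'] [∀ i, TopologicalSpace (α i)]
  [∀ i, TopologicalSpace (α' i)] in
theorem preimage_image_of_cart
    (comm : ∀ i x, a i (q' i x) = q (a' i x))
    (cart : ∀ i z u, q z = a i u → ∃ x, a' i x = z ∧ q' i x = u) (i : ι) (W : Set β') :
    a i ⁻¹' (q '' W) = q' i '' (a' i ⁻¹' W) := by
  ext u
  simp only [Set.mem_preimage, Set.mem_image]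
  constructor
  · rintro ⟨z, hz, hzu⟩
    obtain ⟨x, hx1, hx2⟩ := cart i z u hzu
    exact ⟨x, by rw [hx1]; exact hz, hx2⟩
  · rintro ⟨x, hx, rfl⟩
    exact ⟨a' i x, hx, (comm i x).symm⟩

theorem isClosedMap_of_family
    (comm : ∀ i x, a i (q' i x) = q (a' i x))
    (cart : ∀ i z u, q z = a i u → ∃ x, a' i x = z ∧ q' i x = u)
    (hcl : ∀ V : Set β, (∀ i, IsClosed (a i ⁻¹' V)) → IsClosed V)
    (ha'c : ∀ i, Continuous (a' i))
    (hq' : ∀ i, IsClosedMap (q' i)) : IsClosedMap q := by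
  intro W hW
  refine hcl _ fun i => ?_
  rw [preimage_image_of_cart q q' a a' comm cart i W]
  exact hq' i _ (hW.preimage (ha'c i))

theorem isOpenMap_of_family
    (comm : ∀ i x, a i (q' i x) = q (a' i x))
    (cart : ∀ i z u, q z = a i u → ∃ x, a' i x = z ∧ q' i x = u)
    (hcl : ∀ V : Set β, (∀ i, IsClosed (a i ⁻¹' V)) → IsClosed V)
    (ha'c : ∀ i, Continuous (a' i))
    (hq' : ∀ i, IsOpenMap (q' i)) : IsOpenMap q := by
  intro W hW
  refine isOpen_of_family_closed a hcl _ fun i => ?_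
  rw [preimage_image_of_cart q q' a a' comm cart i W]
  exact hq' i _ (hW.preimage (ha'c i))

theorem isQuotientMap_of_family
    (comm : ∀ i x, a i (q' i x) = q (a' i x))
    (hsurj : ∀ b, ∃ i u, a i u = b)
    (hcl : ∀ V : Set β, (∀ i, IsClosed (a i ⁻¹' V)) → IsClosed V)
    (ha'c : ∀ i, Continuous (a' i)) (hqc : Continuous q)
    (hq' : ∀ i, IsQuotientMap (q' i)) : IsQuotientMap q := by
  refine ⟨isCoinducing_iff.mpr fun V => ?_,
    surjective_of_charts q q' a a' comm hsurj fun i => (hq' i).surjective⟩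
  constructor
  · intro hV
    refine isOpen_of_family_closed a hcl V fun i => ?_
    rw [← (hq' i).isOpen_preimage]
    have : q' i ⁻¹' (a i ⁻¹' V) = a' i ⁻¹' (q ⁻¹' V) := by
      ext x; simp only [Set.mem_preimage, comm]
    rw [this]
    exact hV.preimage (ha'c i)
  · intro hV; exact hV.preimage hqc

theorem isHomeomorph_of_family
    (comm : ∀ i x, a i (q' i x) = q (a' i x))
    (cart : ∀ i z u, q z = a i u → ∃ x, a' i x = z ∧ q' i x = u)
    (hsurj : ∀ b, ∃ i u, a i u = b)
    (hcl : ∀ V : Set β, (∀ i, IsClosed (a i ⁻¹' V)) → IsClosed V)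
    (ha'c : ∀ i, Continuous (a' i)) (hqc : Continuous q)
    (hq' : ∀ i, IsHomeomorph (q' i)) : IsHomeomorph q :=
  ⟨hqc, isOpenMap_of_family q q' a a' comm cart hcl ha'c fun i => (hq' i).isOpenMap,
    ⟨injective_of_charts q q' a a' cart hsurj fun i => (hq' i).injective,
      surjective_of_charts q q' a a' comm hsurj fun i => (hq' i).surjective⟩⟩

end
end Groth.Agent.Helper2.TopCharts

namespace Groth.Agent.Helper2.AlgSpBasic
open CategoryTheory CategoryTheory.Limits AlgebraicGeometry Opposite Topology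
universe u

set_option backward.isDefEq.respectTransparency.types false in
/-- Closedness may be tested on a finite jointly surjective family of flat morphisms from affine
schemes. -/
theorem isClosed_of_finite_flat_affine_family {Z : Scheme.{u}} [QuasiSeparatedSpace Z] {m : ℕ}
    (W : Fin m → Scheme.{u}) (c : ∀ j, W j ⟶ Z) (hW : ∀ j, IsAffine (W j))
    (hc : ∀ j, Flat (c j)) (hsurj : ∀ z : Z, ∃ j, z ∈ Set.range (c j)) (V : Set Z)
    (hV : ∀ j, IsClosed ((c j) ⁻¹' V)) : IsClosed V := by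
  let p : (∐ W) ⟶ Z := Sigma.desc c
  have hfl : Flat p := by
    rw [IsZariskiLocalAtSource.iff_of_openCover (P := @Flat) (sigmaOpenCover _)]
    intro i
    change Flat (Sigma.ι W i ≫ Sigma.desc c)
    rw [Sigma.ι_desc]
    exact hc i
  have hs : Surjective p := ⟨fun y => by
    obtain ⟨j, x, hx⟩ := hsurj y
    refine ⟨Sigma.ι W j x, ?_⟩
    rw [← Scheme.Hom.comp_apply, Sigma.ι_desc]
    exact hx⟩
  have hA : IsAffine (∐ W) := inferInstance
  have hqc : QuasiCompact p := inferInstance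
  rw [← (Flat.isQuotientMap_of_surjective p).isClosed_preimage]
  refine TopCharts.isClosed_of_charts (fun j => (Sigma.ι W j : W j → ↥(∐ W))) (fun y => ?_)
    (fun j => (Sigma.ι W j).isOpenEmbedding.isOpenMap) _ fun j => ?_
  · obtain ⟨j, x, hx⟩ := (sigmaOpenCover W).exists_eq y
    exact ⟨j, x, hx⟩
  · have : (Sigma.ι W j : W j → ↥(∐ W)) ⁻¹' (p ⁻¹' V) = (c j) ⁻¹' V := by
      ext x
      simp only [Set.mem_preimage]
      rw [← Scheme.Hom.comp_apply, Sigma.ι_desc]
    rw [this]
    exact hV j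

end Groth.Agent.Helper2.AlgSpBasic
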