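import Mathlib
import Groth.Prelude.Def_AlgSp4
import Groth.Agent.Lib.Helper2.AlgSp.Diag
import Groth.Agent.Lib.Helper2.AlgSp.Points
import Groth.Agent.Lib.Helper2.EtaleLocal
namespace Groth.Agent.Helper2.AlgSpBasic
open CategoryTheory CategoryTheory.Limits AlgebraicGeometry Opposite AlgSp Topology
open Groth.Agent.Helper2.EtaleLocal
universe u
variable {S : Scheme.{u}}

/-- One chart with surjective étale source chart suffices. -/
theorem locP_of_one_chart (P : MorphismProperty Scheme.{u}) [IsEtaleLocalST P]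
    {X Y : Sp S} (hX : Representable (Limits.diag X)) (hY : Representable (Limits.diag Y))
    (f : X ⟶ Y) {U V : Over S} (a : (yon S).obj U ⟶ X)
    (b : (yon S).obj V ⟶ Y) (h : U ⟶ V) (ha : RepWith @Etale a) (has : RepWith @Surjective a)
    (hb : RepWith @Etale b) (comm : a ≫ f = (yon S).map h ≫ b) (hh : P h.left) :
    LocP P f := by
  intro U' V' a' b' h' ha' hb' comm'
  obtain ⟨W, w₁, w₂, sqW⟩ := exists_isPullback_yon hX a a'
  obtain ⟨T, t₁, t₂, sqT⟩ := exists_isPullback_yon hY b b'
  have hw₁ : Etale w₁.left := ha'.property a _ _ sqW.flip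
  have hw₂ : Etale w₂.left := ha.property a' _ _ sqW
  have hw₂s : Surjective w₂.left := has.property a' _ _ sqW
  have ht₁ : Etale t₁.left := hb'.property b _ _ sqT.flip
  have ht₂ : Etale t₂.left := hb.property b' _ _ sqT
  have e : (yon S).map (w₁ ≫ h) ≫ b = (yon S).map (w₂ ≫ h') ≫ b' := by
    rw [Functor.map_comp, Functor.map_comp, Category.assoc, Category.assoc, ← comm, ← comm',
      ← Category.assoc, ← Category.assoc, sqW.w]
  obtain ⟨k, hk⟩ := (yon S).map_surjective (sqT.lift _ _ e)
  have hk1 : k ≫ t₁ = w₁ ≫ h :=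
    (yon S).map_injective (by rw [Functor.map_comp, hk, sqT.lift_fst])
  have hk2 : k ≫ t₂ = w₂ ≫ h' :=
    (yon S).map_injective (by rw [Functor.map_comp, hk, sqT.lift_snd])
  have h1 : P (w₁.left ≫ h.left) :=
    P.comp_mem _ _ (IsEtaleLocalST.of_etale _ hw₁) hh
  have h2 : P (k.left ≫ t₁.left) := by
    rw [← Over.comp_left, hk1, Over.comp_left]; exact h1
  have h3 : P k.left := IsEtaleLocalST.of_postcomp_etale _ _ h2
  have h4 : P (k.left ≫ t₂.left) := P.comp_mem _ _ h3 (IsEtaleLocalST.of_etale _ ht₂)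
  have h5 : P (w₂.left ≫ h'.left) := by
    rw [← Over.comp_left, ← hk2, Over.comp_left]; exact h4
  exact IsEtaleLocalST.of_comp_etale_surjective _ _ hw₂ hw₂s h5

/-- Composition. -/
theorem locP_comp (P : MorphismProperty Scheme.{u}) [IsEtaleLocalST P]
    {X Y Z : Sp S} (hX : IsAlgSpace X) (hY : IsAlgSpace Y) (hZ : IsAlgSpace Z)
    (f : X ⟶ Y) (g : Y ⟶ Z) (hf : LocP P f) (hg : LocP P g) : LocP P (f ≫ g) := by
  obtain ⟨W, c, hce, hcs⟩ := hZ.atlas
  obtain ⟨V, b, k, hbe, hbs, hbk⟩ := exists_chart_lift hY g c hce hcs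
  obtain ⟨U, a, h, hae, has, hah⟩ := exists_chart_lift hX f b hbe hbs
  have hPk : P k.left := hg b c k hbe hce hbk
  have hPh : P h.left := hf a b h hae hbe hah
  refine locP_of_one_chart P hX.diag hZ.diag (f ≫ g) a c (h ≫ k) hae has hce ?_ ?_
  · rw [← Category.assoc, hah, Category.assoc, hbk, Functor.map_comp, Category.assoc]
  · rw [Over.comp_left]
    exact P.comp_mem _ _ hPh hPk

/-- Base change. -/
theorem locP_of_isPullback (P : MorphismProperty Scheme.{u}) [IsEtaleLocalST P]
    {X Y Y' X' : Sp S} (hX : IsAlgSpace X) (hY : IsAlgSpace Y) (hY' : IsAlgSpace Y')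
    (hX' : IsAlgSpace X')
    (f : X ⟶ Y) (g : Y' ⟶ Y) (fst : X' ⟶ X) (f' : X' ⟶ Y')
    (sq : IsPullback fst f' f g) (hf : LocP P f) : LocP P f' := by
  obtain ⟨V, b, hbe, hbs⟩ := hY.atlas
  -- step 2
  have hXV : IsAlgSpace (pullback f b) :=
    isAlgSpace_of_isPullback hY.diag hX (IsAlgSpace.yon_obj V) f b _ _ (IsPullback.of_hasPullback f b)
  obtain ⟨U, a₀, ha₀e, ha₀s⟩ := hXV.atlas
  have hpXe : RepWith @Etale (pullback.fst f b) :=
    repWith_of_isPullback @Etale (IsPullback.of_hasPullback f b).flip hbe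
  have hpXs : RepWith @Surjective (pullback.fst f b) :=
    repWith_of_isPullback @Surjective (IsPullback.of_hasPullback f b).flip hbs
  obtain ⟨h, hh⟩ := (yon S).map_surjective (a₀ ≫ pullback.snd f b)
  have hcomm : (a₀ ≫ pullback.fst f b) ≫ f = (yon S).map h ≫ b := by
    rw [hh, Category.assoc, Category.assoc, pullback.condition]
  have hPh : P h.left := hf (a₀ ≫ pullback.fst f b) b h (repWith_comp @Etale ha₀e hpXe) hbe hcomm
  -- step 3
  have hYV : IsAlgSpace (pullback g b) :=
    isAlgSpace_of_isPullback hY.diag hY' (IsAlgSpace.yon_obj V) g b _ _ (IsPullback.of_hasPullback g b)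
  obtain ⟨V₁, c₀, hc₀e, hc₀s⟩ := hYV.atlas
  have hpYe : RepWith @Etale (pullback.fst g b) :=
    repWith_of_isPullback @Etale (IsPullback.of_hasPullback g b).flip hbe
  have hpYs : RepWith @Surjective (pullback.fst g b) :=
    repWith_of_isPullback @Surjective (IsPullback.of_hasPullback g b).flip hbs
  let b₁ : (yon S).obj V₁ ⟶ Y' := c₀ ≫ pullback.fst g b
  have hb₁e : RepWith @Etale b₁ := repWith_comp @Etale hc₀e hpYe
  have hb₁s : RepWith @Surjective b₁ := repWith_comp @Surjective hc₀s hpYs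
  obtain ⟨c, hc⟩ := (yon S).map_surjective (c₀ ≫ pullback.snd g b)
  have hb₁g : b₁ ≫ g = (yon S).map c ≫ b := by
    rw [hc, Category.assoc, Category.assoc, pullback.condition]
  -- step 4
  have sq₄ : IsPullback ((yon S).map (pullback.fst h c)) ((yon S).map (pullback.snd h c))
      ((yon S).map h) ((yon S).map c) := (IsPullback.of_hasPullback h c).map (yon S)
  have hPh₁ : P (pullback.snd h c).left :=
    (P.inverseImage (Over.forget S)).of_isPullback (IsPullback.of_hasPullback h c) hPh
  -- step 5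
  let e₁ := pullback.fst f' b₁
  let e₂ := pullback.snd f' b₁
  have sqE : IsPullback e₁ e₂ f' b₁ := IsPullback.of_hasPullback f' b₁
  have he₁e : RepWith @Etale e₁ := repWith_of_isPullback @Etale sqE.flip hb₁e
  have he₁s : RepWith @Surjective e₁ := repWith_of_isPullback @Surjective sqE.flip hb₁s
  have sqE2 : IsPullback e₂ (e₁ ≫ fst) (b₁ ≫ g) f := sqE.flip.paste_vert sq.flip
  have hm : (e₁ ≫ fst) ≫ f = (e₂ ≫ (yon S).map c) ≫ b := by
    rw [Category.assoc e₂, ← hb₁g, ← sqE2.w]
  let m : pullback f' b₁ ⟶ pullback f b := pullback.lift (e₁ ≫ fst) (e₂ ≫ (yon S).map c) hm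
  have hm1 : m ≫ pullback.fst f b = e₁ ≫ fst := pullback.lift_fst _ _ _
  have hm2 : m ≫ pullback.snd f b = e₂ ≫ (yon S).map c := pullback.lift_snd _ _ _
  have sq5 : IsPullback m e₂ (pullback.snd f b) ((yon S).map c) := by
    refine IsPullback.of_right ?_ hm2 (IsPullback.of_hasPullback f b)
    rw [hm1, ← hb₁g]
    exact sqE2.flip
  -- step 6
  have hl : ((yon S).map (pullback.fst h c) ≫ a₀) ≫ pullback.snd f b =
      (yon S).map (pullback.snd h c) ≫ (yon S).map c := by
    rw [Category.assoc, ← hh, sq₄.w]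
  let l := sq5.lift _ _ hl
  have hl1 : l ≫ m = (yon S).map (pullback.fst h c) ≫ a₀ := sq5.lift_fst _ _ _
  have hl2 : l ≫ e₂ = (yon S).map (pullback.snd h c) := sq5.lift_snd _ _ _
  have sq6 : IsPullback l ((yon S).map (pullback.fst h c)) m a₀ := by
    refine IsPullback.of_right ?_ hl1 sq5.flip
    rw [hl2, ← hh]
    exact sq₄.flip
  have hle : RepWith @Etale l := repWith_of_isPullback @Etale sq6.flip ha₀e
  have hls : RepWith @Surjective l := repWith_of_isPullback @Surjective sq6.flip ha₀s
  -- step 7, 8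
  refine locP_of_one_chart P hX'.diag hY'.diag f' (l ≫ e₁) b₁ (pullback.snd h c)
    (repWith_comp @Etale hle he₁e) (repWith_comp @Surjective hls he₁s) hb₁e ?_ hPh₁
  rw [Category.assoc, sqE.w, ← Category.assoc, hl2]


/-- Target cover: if the base change of `f` to an étale surjective chart of the target has `P`
étale locally, so does `f`. -/
theorem locP_of_target_cover (P : MorphismProperty Scheme.{u}) [IsEtaleLocalST P]
    {X Y : Sp S} (hX : IsAlgSpace X) (hY : IsAlgSpace Y) (f : X ⟶ Y) (V : Over S)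
    (p : (yon S).obj V ⟶ Y) (hp : RepWith @Etale p) (hps : RepWith @Surjective p)
    {Q : Sp S} (fst : Q ⟶ X) (snd : Q ⟶ (yon S).obj V) (sq : IsPullback fst snd f p)
    (h : LocP P snd) : LocP P f := by
  have hQ : IsAlgSpace Q :=
    isAlgSpace_of_isPullback hY.diag hX (IsAlgSpace.yon_obj V) f p _ _ sq
  obtain ⟨U, a₀, ha₀e, ha₀s⟩ := hQ.atlas
  have hfe : RepWith @Etale fst := repWith_of_isPullback @Etale sq.flip hp
  have hfs : RepWith @Surjective fst := repWith_of_isPullback @Surjective sq.flip hps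
  obtain ⟨k, hk⟩ := (yon S).map_surjective (a₀ ≫ snd)
  have hPk : P k.left := h a₀ (𝟙 _) k ha₀e (repWith_id _ V) (by rw [hk, Category.comp_id])
  refine locP_of_one_chart P hX.diag hY.diag f (a₀ ≫ fst) p k
    (repWith_comp @Etale ha₀e hfe) (repWith_comp @Surjective ha₀s hfs) hp ?_ hPk
  rw [Category.assoc, sq.w, ← Category.assoc, hk]

/-- Source cover: if `φ ≫ f` has `P` étale locally for an étale surjective chart `φ` of the
source, so does `f`. -/
theorem locP_of_source_cover (P : MorphismProperty Scheme.{u}) [IsEtaleLocalST P]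
    {X Y : Sp S} (hX : IsAlgSpace X) (hY : IsAlgSpace Y) (f : X ⟶ Y) (U : Over S)
    (φ : (yon S).obj U ⟶ X) (hφ : RepWith @Etale φ) (hφs : RepWith @Surjective φ)
    (h : LocP P (φ ≫ f)) : LocP P f := by
  obtain ⟨V, b, hbe, hbs⟩ := hY.atlas
  obtain ⟨U', a, k, hae, has, hak⟩ :=
    exists_chart_lift (IsAlgSpace.yon_obj U) (φ ≫ f) b hbe hbs
  have hPk : P k.left := h a b k hae hbe hak
  refine locP_of_one_chart P hX.diag hY.diag f (a ≫ φ) b k
    (repWith_comp @Etale hae hφ) (repWith_comp @Surjective has hφs) hbe ?_ hPk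
  rw [Category.assoc, hak]

/-- Cancellation: if `P` cancels on schemes, then `LocP P (f ≫ g)` implies `LocP P f`. -/
theorem locP_of_comp (P : MorphismProperty Scheme.{u}) [IsEtaleLocalST P]
    (hcancel : ∀ ⦃A B C : Scheme.{u}⦄ (x : A ⟶ B) (y : B ⟶ C), P (x ≫ y) → P x)
    {X Y Z : Sp S} (hX : IsAlgSpace X) (hY : IsAlgSpace Y) (hZ : IsAlgSpace Z)
    (f : X ⟶ Y) (g : Y ⟶ Z) (h : LocP P (f ≫ g)) : LocP P f := by
  obtain ⟨W, c, hce, hcs⟩ := hZ.atlas
  obtain ⟨V, b, k, hbe, hbs, hbk⟩ := exists_chart_lift hY g c hce hcs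
  obtain ⟨U, a, l, hae, has, hal⟩ := exists_chart_lift hX f b hbe hbs
  have hP : P (l ≫ k).left := by
    refine h a c (l ≫ k) hae hce ?_
    rw [← Category.assoc, hal, Category.assoc, hbk, Functor.map_comp, Category.assoc]
  rw [Over.comp_left] at hP
  exact locP_of_one_chart P hX.diag hY.diag f a b l hae has hbe hal (hcancel _ _ hP)

/-- A scheme morphism that factors an étale map through an étale map of sheaves is étale. -/
theorem etale_of_comp_repWith_etale {X : Sp S} (hX : Representable (Limits.diag X))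
    {U W : Over S} (a : (yon S).obj U ⟶ X) (c : (yon S).obj W ⟶ X) (s : U ⟶ W)
    (ha : RepWith @Etale a) (hc : RepWith @Etale c) (hs : (yon S).map s ≫ c = a) :
    Etale s.left := by
  obtain ⟨T, t₁, t₂, sqT⟩ := exists_isPullback_yon hX a c
  have ht₁ : Etale t₁.left := hc.property a _ _ sqT.flip
  have ht₂ : Etale t₂.left := ha.property c _ _ sqT
  obtain ⟨σ, hσ⟩ := (yon S).map_surjective
    (sqT.lift (𝟙 _) ((yon S).map s) (by rw [Category.id_comp, hs]))
  have hσ1 : σ ≫ t₁ = 𝟙 U :=
    (yon S).map_injective (by rw [Functor.map_comp, hσ, sqT.lift_fst, CategoryTheory.Functor.map_id])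
  have hσ2 : σ ≫ t₂ = s :=
    (yon S).map_injective (by rw [Functor.map_comp, hσ, sqT.lift_snd])
  have h1 : Etale (σ.left ≫ t₁.left) := by
    rw [← Over.comp_left, hσ1]; exact inferInstanceAs (Etale (𝟙 U.left))
  have h2 : Etale σ.left :=
    IsEtaleLocalST.of_postcomp_etale (P := @Etale) σ.left t₁.left h1
  rw [← hσ2, Over.comp_left]
  infer_instance

/-- For representable `f`, `P` in the representable sense implies `P` étale locally. -/
theorem locP_of_repWith (P : MorphismProperty Scheme.{u}) [IsEtaleLocalST P]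
    {X Y : Sp S} (hX : Representable (Limits.diag X)) (f : X ⟶ Y)
    (hf : RepWith P f) : LocP P f := by
  intro U V a b h hae hbe comm
  have hrep : Representable f := hf.rep
  have sq := hrep.isPullback b
  have hPsnd : P (hrep.snd b).left := hf.property b _ _ sq
  have hce : RepWith @Etale (hrep.fst b) := repWith_of_isPullback @Etale sq.flip hbe
  obtain ⟨s, hs⟩ := (yon S).map_surjective (sq.lift a ((yon S).map h) comm)
  have hs1 : (yon S).map s ≫ hrep.fst b = a := by rw [hs, sq.lift_fst]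
  have hs2 : s ≫ hrep.snd b = h :=
    (yon S).map_injective (by rw [Functor.map_comp, hs, sq.lift_snd])
  have hse : Etale s.left := etale_of_comp_repWith_etale hX a (hrep.fst b) s hae hce hs1
  rw [← hs2, Over.comp_left]
  exact P.comp_mem _ _ (IsEtaleLocalST.of_etale _ hse) hPsnd

/-- For representable `f` between algebraic spaces, `P` étale locally implies `P` in the
representable sense. -/
theorem repWith_of_locP (P : MorphismProperty Scheme.{u}) [IsEtaleLocalST P]
    {X Y : Sp S} (hX : IsAlgSpace X) (hY : IsAlgSpace Y) (f : X ⟶ Y) (hrep : Representable f)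
    (hf : LocP P f) : RepWith P f := by
  refine ⟨hrep, ?_⟩
  intro T XT g fst snd sq
  -- atlas of Y and its base change to T
  obtain ⟨V, b, hbe, hbs⟩ := hY.atlas
  -- X_V → V has P
  have sqV := hrep.isPullback b
  have hPV : P (hrep.snd b).left :=
    hf (hrep.fst b) b (hrep.snd b) (repWith_of_isPullback @Etale sqV.flip hbe) hbe sqV.w
  -- T' = T ×_Y V
  obtain ⟨T', t₁, t₂, sqT'⟩ := exists_isPullback_yon hY.diag g b
  have ht₁e : Etale t₁.left := hbe.property g _ _ sqT'.flip
  have ht₁s : Surjective t₁.left := hbs.property g _ _ sqT'.flip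
  -- X_{T'} = X_T ×_T T' as a scheme pullback
  let W := pullback snd t₁
  have sqW : IsPullback ((yon S).map (pullback.fst snd t₁)) ((yon S).map (pullback.snd snd t₁))
      ((yon S).map snd) ((yon S).map t₁) := (IsPullback.of_hasPullback snd t₁).map (yon S)
  -- the map X_{T'} → X_V
  have hcomm : ((yon S).map (pullback.fst snd t₁) ≫ fst) ≫ f =
      (yon S).map (pullback.snd snd t₁ ≫ t₂) ≫ b := by
    rw [Category.assoc, sq.w, ← Category.assoc, sqW.w, Category.assoc, sqT'.w,
      Functor.map_comp, Category.assoc]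
  obtain ⟨m, hm⟩ := (yon S).map_surjective (sqV.lift _ _ hcomm)
  have hm2 : m ≫ hrep.snd b = pullback.snd snd t₁ ≫ t₂ :=
    (yon S).map_injective (by rw [Functor.map_comp, hm, sqV.lift_snd])
  have hm1 : (yon S).map m ≫ hrep.fst b = (yon S).map (pullback.fst snd t₁) ≫ fst := by
    rw [hm, sqV.lift_fst]
  -- the square X_{T'} → X_V over T' → V is a pullback
  have sqbig : IsPullback ((yon S).map (pullback.fst snd t₁) ≫ fst)
      ((yon S).map (pullback.snd snd t₁)) f ((yon S).map t₁ ≫ g) :=
    sqW.paste_horiz sq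
  have sqm : IsPullback ((yon S).map m) ((yon S).map (pullback.snd snd t₁))
      ((yon S).map (hrep.snd b)) ((yon S).map t₂) := by
    refine IsPullback.of_right ?_ ?_ sqV
    · rw [hm1, ← sqT'.w]; exact sqbig
    · rw [← Functor.map_comp, ← Functor.map_comp, hm2]
  have sqm' : IsPullback m (pullback.snd snd t₁) (hrep.snd b) t₂ :=
    IsPullback.of_map (yon S) (by rw [hm2]) sqm
  have hP1 : P (pullback.snd snd t₁).left :=
    (P.inverseImage (Over.forget S)).of_isPullback sqm' hPV
  have hP2 : P ((pullback.snd snd t₁).left ≫ t₁.left) :=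
    P.comp_mem _ _ hP1 (IsEtaleLocalST.of_etale _ ht₁e)
  have hP3 : P ((pullback.fst snd t₁).left ≫ snd.left) := by
    rw [← Over.comp_left, pullback.condition, Over.comp_left]; exact hP2
  have hfe : Etale (pullback.fst snd t₁).left :=
    (MorphismProperty.inverseImage (@Etale) (Over.forget S)).of_isPullback
      (IsPullback.of_hasPullback snd t₁).flip ht₁e
  have hfs : Surjective (pullback.fst snd t₁).left :=
    (MorphismProperty.inverseImage (@Surjective) (Over.forget S)).of_isPullback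
      (IsPullback.of_hasPullback snd t₁).flip ht₁s
  exact IsEtaleLocalST.of_comp_etale_surjective _ _ hfe hfs hP3

theorem locP_iff_repWith_of_representable (P : MorphismProperty Scheme.{u}) [IsEtaleLocalST P]
    {X Y : Sp S} (hX : IsAlgSpace X) (hY : IsAlgSpace Y) (f : X ⟶ Y) (hrep : Representable f) :
    LocP P f ↔ RepWith P f :=
  ⟨repWith_of_locP P hX hY f hrep, locP_of_repWith P hX.diag f⟩


/-- Cancellation, general form. -/
theorem locP_of_comp' (P Q : MorphismProperty Scheme.{u}) [IsEtaleLocalST P]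
    (hcancel : ∀ ⦃A B C : Scheme.{u}⦄ (x : A ⟶ B) (y : B ⟶ C), P (x ≫ y) → Q y → P x)
    {X Y Z : Sp S} (hX : IsAlgSpace X) (hY : IsAlgSpace Y) (hZ : IsAlgSpace Z)
    (f : X ⟶ Y) (g : Y ⟶ Z) (h : LocP P (f ≫ g)) (hg : LocP Q g) : LocP P f := by
  obtain ⟨W, c, hce, hcs⟩ := hZ.atlas
  obtain ⟨V, b, k, hbe, hbs, hbk⟩ := exists_chart_lift hY g c hce hcs
  obtain ⟨U, a, l, hae, has, hal⟩ := exists_chart_lift hX f b hbe hbs
  have hP : P (l ≫ k).left := by
    refine h a c (l ≫ k) hae hce ?_
    rw [← Category.assoc, hal, Category.assoc, hbk, Functor.map_comp, Category.assoc]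
  rw [Over.comp_left] at hP
  have hQ : Q k.left := hg b c k hbe hce hbk
  exact locP_of_one_chart P hX.diag hY.diag f a b l hae has hbe hal (hcancel _ _ hP hQ)

/-- Monotonicity of `LocP`. -/
theorem locP_mono {P Q : MorphismProperty Scheme.{u}} (hPQ : P ≤ Q) {X Y : Sp S} {f : X ⟶ Y}
    (hf : LocP P f) : LocP Q f :=
  fun _ _ a b h ha hb comm => hPQ _ (hf a b h ha hb comm)

theorem locP_inf {P Q : MorphismProperty Scheme.{u}} {X Y : Sp S} {f : X ⟶ Y}
    (hf : LocP P f) (hg : LocP Q f) : LocP (P ⊓ Q) f :=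
  fun _ _ a b h ha hb comm => ⟨hf a b h ha hb comm, hg a b h ha hb comm⟩

/-- An étale morphism (in the sense of the reference) is étale étale-locally. -/
theorem locP_etale_of_isEtaleMor {X Y : Sp S} (hY : Representable (Limits.diag Y)) (f : X ⟶ Y)
    (hf : IsEtaleMor f) : LocP @Etale f := by
  intro U V a b h hae hbe comm
  have h1 : RepWith @Etale (a ≫ f) := hf a hae
  exact etale_of_comp_repWith_etale hY (a ≫ f) b h h1 hbe comm.symm

/-- Conversely for algebraic spaces. -/
theorem isEtaleMor_of_locP_etale {X Y : Sp S} (hX : IsAlgSpace X) (hY : IsAlgSpace Y) (f : X ⟶ Y)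
    (hf : LocP @Etale f) : IsEtaleMor f := by
  intro U φ hφ
  have h1 : LocP @Etale φ := locP_of_repWith @Etale (IsAlgSpace.yon_obj U).diag φ hφ
  have h2 : LocP @Etale (φ ≫ f) := locP_comp @Etale (IsAlgSpace.yon_obj U) hX hY φ f h1 hf
  exact repWith_of_locP @Etale (IsAlgSpace.yon_obj U) hY (φ ≫ f) (hY.representable_from_yon _) h2

theorem isEtaleMor_iff_locP_etale {X Y : Sp S} (hX : IsAlgSpace X) (hY : IsAlgSpace Y)
    (f : X ⟶ Y) : IsEtaleMor f ↔ LocP @Etale f :=
  ⟨locP_etale_of_isEtaleMor hY.diag f, isEtaleMor_of_locP_etale hX hY f⟩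

/-- A map from a scheme to an algebraic space which becomes étale after precomposition with a
surjective étale map of schemes is étale. -/
theorem repWith_etale_of_comp_surjective_etale (P : MorphismProperty Scheme.{u})
    [IsEtaleLocalST P] {X : Sp S} (hX : IsAlgSpace X) {U U' : Over S}
    (χ : U ⟶ U') (hχe : Etale χ.left) (hχs : Surjective χ.left) (φ' : (yon S).obj U' ⟶ X)
    (h : RepWith P ((yon S).map χ ≫ φ')) : RepWith P φ' := by
  have hrep : Representable φ' := hX.representable_from_yon φ'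
  refine ⟨hrep, ?_⟩
  intro T W g fst snd sq
  obtain ⟨fst', rfl⟩ := (yon S).map_surjective fst
  -- W' = U ×_{U'} W
  have sqW : IsPullback ((yon S).map (pullback.fst χ fst')) ((yon S).map (pullback.snd χ fst'))
      ((yon S).map χ) ((yon S).map fst') := (IsPullback.of_hasPullback χ fst').map (yon S)
  have sqbig : IsPullback ((yon S).map (pullback.fst χ fst'))
      ((yon S).map (pullback.snd χ fst') ≫ (yon S).map snd) ((yon S).map χ ≫ φ') g :=
    sqW.paste_vert sq
  rw [← Functor.map_comp] at sqbig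
  have hP : P (pullback.snd χ fst' ≫ snd).left := h.property g _ _ sqbig
  rw [Over.comp_left] at hP
  have hfe : Etale (pullback.snd χ fst').left :=
    (MorphismProperty.inverseImage (@Etale) (Over.forget S)).of_isPullback
      (IsPullback.of_hasPullback χ fst') hχe
  have hfs : Surjective (pullback.snd χ fst').left :=
    (MorphismProperty.inverseImage (@Surjective) (Over.forget S)).of_isPullback
      (IsPullback.of_hasPullback χ fst') hχs
  exact IsEtaleLocalST.of_comp_etale_surjective _ _ hfe hfs hP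

/-- An étale morphism of algebraic spaces is open on points. -/
theorem isOpenMap_points_of_isEtaleMor {X Y : Sp S} (hX : IsAlgSpace X) (f : X ⟶ Y)
    (hf : IsEtaleMor f) : IsOpenMap (Points.map f) := by
  obtain ⟨U, a, hae, has⟩ := hX.atlas
  intro W hW
  have h1 : IsOpen (Points.ofPt a ⁻¹' W) := hW.preimage (Points.continuous_ofPt a)
  have h2 : IsOpen (Points.ofPt (a ≫ f) '' (Points.ofPt a ⁻¹' W)) :=
    isOpenMap_ofPt (a ≫ f) (hf a hae) _ h1
  convert h2 using 1
  ext y
  constructor
  · rintro ⟨x, hx, rfl⟩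
    obtain ⟨u, rfl⟩ := surjective_ofPt a has x
    exact ⟨u, hx, (Points.map_ofPt a f u)⟩
  · rintro ⟨u, hu, rfl⟩
    exact ⟨Points.ofPt a u, hu, (Points.map_ofPt a f u).symm⟩

end Groth.Agent.Helper2.AlgSpBasic
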