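import Mathlib
import Groth.Prelude.Def_AlgSp4
import Groth.Agent.Lib.Helper2.AlgSp.Diag
import Groth.Agent.Lib.Helper2.AlgSp.Descent

/-! Separation properties of algebraic spaces via charts. -/
namespace Groth.Agent.Helper2.AlgSpBasic
open CategoryTheory CategoryTheory.Limits AlgebraicGeometry Opposite AlgSp Topology MorphismProperty
universe u
variable {S : Scheme.{u}}

theorem locallyQuasiFinite_of_unramified {X Y : Scheme.{u}} (f : X ⟶ Y) [FormallyUnramified f]
    [LocallyOfFiniteType f] : LocallyQuasiFinite f := by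
  refine ⟨fun {U} hU {V} hV e => ?_⟩
  have h1 : (f.appLE U V e).hom.FormallyUnramified :=
    HasRingHomProperty.appLE @FormallyUnramified f inferInstance ⟨U, hU⟩ ⟨V, hV⟩ e
  have h2 : (f.appLE U V e).hom.FiniteType :=
    HasRingHomProperty.appLE @LocallyOfFiniteType f inferInstance ⟨U, hU⟩ ⟨V, hV⟩ e
  algebraize [(f.appLE U V e).hom]
  rw [RingHom.QuasiFinite]
  infer_instance

instance (priority := low) locallyQuasiFinite_of_etale {X Y : Scheme.{u}} (f : X ⟶ Y) [Etale f] :
    LocallyQuasiFinite f := locallyQuasiFinite_of_unramified f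

theorem quasiSeparatedSpace_prod_left_of_isAffine (U V : Over S) [IsAffine U.left]
    [IsAffine V.left] : QuasiSeparatedSpace ↥(U ⨯ V).left := by
  have h1 : IsSeparated V.hom := by
    have : IsSeparated (V.hom ≫ terminal.from S) := inferInstance
    exact IsSeparated.of_comp V.hom (terminal.from S)
  have h2 : IsSeparated (pullback.fst U.hom V.hom) := inferInstance
  have h3 : QuasiSeparatedSpace ↥(pullback U.hom V.hom) :=
    quasiSeparatedSpace_of_quasiSeparated (pullback.fst U.hom V.hom)
  exact (Scheme.homeoOfIso (Over.prodLeftIsoPullback U V)).isOpenEmbedding.quasiSeparatedSpace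

set_option backward.isDefEq.respectTransparency.types false in
theorem isQuasiSeparatedSp_of_affine {X : Sp S} (hX : Representable (Limits.diag X))
    (h : ∀ (U V P : Over S) (a : (AlgSp.yon S).obj U ⟶ X) (b : (AlgSp.yon S).obj V ⟶ X)
      (fst : P ⟶ U) (snd : P ⟶ V),
      IsAffine U.left → IsAffine V.left →
      IsPullback ((AlgSp.yon S).map fst) ((AlgSp.yon S).map snd) a b → CompactSpace ↥P.left) :
    IsQuasiSeparatedSp X := by
  refine repWith_diag_of_forall_affine X @QuasiCompact hX ?_
  intro T W a b fst snd hT sq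
  have := h T T W a b fst snd hT hT sq
  have := quasiSeparatedSpace_prod_left_of_isAffine T T
  infer_instance

theorem mono_prod_lift_left {F : Sp S} {U V W : Over S} (a : (yon S).obj U ⟶ F)
    (b : (yon S).obj V ⟶ F) (fst : W ⟶ U) (snd : W ⟶ V)
    (sq : IsPullback ((yon S).map fst) ((yon S).map snd) a b) : Mono (prod.lift fst snd).left := by
  have h := isPullback_diag_of_isPullback a b fst snd sq
  have hm : Mono (Limits.diag F) := by
    have : Limits.diag F ≫ prod.fst = 𝟙 F := by simp only [Limits.diag, prod.lift_fst]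
    exact mono_of_mono_fac this
  have h2 : Mono ((yon S).map (prod.lift fst snd)) := h.mono_snd_of_mono
  have h3 : Mono (prod.lift fst snd) := (yon S).mono_of_mono_map h2
  infer_instance

theorem isSeparated_prod_snd_left (U T : Over S) [U.left.IsSeparated] :
    IsSeparated (prod.snd : U ⨯ T ⟶ T).left := by
  have h1 : IsSeparated U.hom := inferInstance
  have h2 : IsSeparated (pullback.snd U.hom T.hom) := inferInstance
  rw [← Over.prodLeftIsoPullback_hom_snd]
  infer_instance

theorem repWith_isSeparated_of_isSeparated_source {X : Sp S} {U : Over S}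
    (a : (yon S).obj U ⟶ X) (ha : Representable a) [U.left.IsSeparated] :
    RepWith @IsSeparated a := by
  refine ⟨ha, fun T E g fst snd hpb => ?_⟩
  show IsSeparated snd.left
  obtain ⟨fst', rfl⟩ := (yon S).map_surjective fst
  have hm := mono_prod_lift_left a g fst' snd hpb
  have hs := isSeparated_prod_snd_left U T
  have : snd.left = (prod.lift fst' snd).left ≫ (prod.snd : U ⨯ T ⟶ T).left := by
    rw [← Over.comp_left, prod.lift_snd]
  rw [this]
  infer_instance

theorem isSeparated_of_isPullback_of_isSeparated {X : Sp S} {U V : Over S}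
    (a : (yon S).obj U ⟶ X) (b : (yon S).obj V ⟶ X) [U.left.IsSeparated] [V.left.IsSeparated]
    (R : Over S) (t : R ⟶ U) (s : R ⟶ V)
    (h : IsPullback ((yon S).map t) ((yon S).map s) a b) : R.left.IsSeparated := by
  have hm := mono_prod_lift_left a b t s h
  have hs := isSeparated_prod_snd_left U V
  have : terminal.from R.left =
      ((prod.lift t s).left ≫ (prod.snd : U ⨯ V ⟶ V).left) ≫ terminal.from V.left :=
    (terminal.comp_from _).symm
  constructor
  rw [this]
  infer_instance

set_option backward.isDefEq.respectTransparency.types false in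
theorem etaleLocally_iff_forall_etale_chart (P : Scheme.{u} → Prop)
    (hP : ∀ (V : Scheme.{u}) (𝒰 : Scheme.Cover.{u} (Scheme.precoverage @Etale) V),
      P V ↔ ∀ i, P (𝒰.X i))
    {X : Sp S} (hX : IsAlgSpace X) :
    EtaleLocally P X ↔
      ∀ (U : Over S) (a : (yon S).obj U ⟶ X), RepWith @Etale a → P U.left := by
  constructor
  · rintro ⟨U₀, p, hpe, hps, hU₀⟩ U a ha
    obtain ⟨W, w₁, w₂, sq⟩ := exists_isPullback_yon hX.diag p a
    have h1 : Etale w₂.left := hpe.property a _ _ sq
    have h1s : Surjective w₂.left := hps.property a _ _ sq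
    have h2 : Etale w₁.left := ha.property p _ _ sq.flip
    -- P W from P U₀
    let 𝒰₀ : Scheme.Cover.{u} (Scheme.precoverage @Etale) U₀.left :=
      (Scheme.coverOfIsIso.{u} (P := @Etale) (𝟙 U₀.left)).add w₁.left h2
    have hW : P W.left := (hP _ 𝒰₀).mp hU₀ none
    let 𝒰 : Scheme.Cover.{u} (Scheme.precoverage @Etale) U.left :=
      Scheme.Cover.mkOfCovers PUnit.{u+1} (fun _ => W.left) (fun _ => w₂.left)
        (fun x => by
          obtain ⟨y, hy⟩ := h1s.surj x
          exact ⟨⟨⟩, y, hy⟩)
        (fun _ => h1)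
    exact (hP _ 𝒰).mpr (fun _ => hW)
  · intro h
    obtain ⟨U, p, hpe, hps⟩ := hX.atlas
    exact ⟨U, p, hpe, hps, h U p hpe⟩

theorem isPullback_prod_snd_with_id {C : Type*} [Category C] {A B : C} (f : A ⟶ B) (X : C)
    [HasBinaryProduct X A] [HasBinaryProduct X B] :
    IsPullback prod.snd (prod.map (𝟙 X) f) f prod.snd := by
  refine IsPullback.mk' (by rw [prod.map_snd]) ?_ ?_
  · intro T φ φ' h1 h2
    apply Limits.prod.hom_ext
    · have := congrArg (· ≫ prod.fst) h2
      simpa only [Category.assoc, prod.map_fst, Category.comp_id] using this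
    · exact h1
  · intro T a b hab
    refine ⟨prod.lift (b ≫ prod.fst) a, by rw [prod.lift_snd], ?_⟩
    apply Limits.prod.hom_ext
    · rw [Category.assoc, prod.map_fst, Category.comp_id, prod.lift_fst]
    · rw [Category.assoc, prod.map_snd, ← Category.assoc, prod.lift_snd, hab]

theorem repWith_prod_map (P : MorphismProperty Scheme.{u}) [P.IsStableUnderBaseChange]
    [P.IsMultiplicative] {A B X Y : Sp S} (p : A ⟶ X) (q : B ⟶ Y) (hp : RepWith P p)
    (hq : RepWith P q) : RepWith P (prod.map p q) := by
  have h1 : RepWith P (prod.map p (𝟙 B)) :=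
    repWith_of_isPullback P (IsPullback.of_prod_fst_with_id p B) hp
  have h2 : RepWith P (prod.map (𝟙 X) q) :=
    repWith_of_isPullback P (isPullback_prod_snd_with_id q X) hq
  have : prod.map p q = prod.map p (𝟙 B) ≫ prod.map (𝟙 X) q := by
    rw [prod.map_map, Category.comp_id, Category.id_comp]
  rw [this]
  exact repWith_comp P h1 h2

theorem repWith_of_iso_comp (P : MorphismProperty Scheme.{u}) {A B C : Sp S} (e : A ⟶ B)
    [IsIso e] {f : B ⟶ C} (hf : RepWith P f) [P.RespectsIso] : RepWith P (e ≫ f) :=
  ((RepWith (S := S) P).cancel_left_of_respectsIso e f).mpr hf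

theorem repWith_prodComparison_prod_map (P : MorphismProperty Scheme.{u})
    [P.IsStableUnderBaseChange] [P.IsMultiplicative] {X Y : Sp S} {U V : Over S}
    (p : (yon S).obj U ⟶ X) (q : (yon S).obj V ⟶ Y) (hp : RepWith P p) (hq : RepWith P q) :
    RepWith P (prodComparison (yon S) U V ≫ prod.map p q) := by
  have hi : IsIso (prodComparison (yon S) U V) := inferInstance
  exact repWith_of_iso_comp P _ (repWith_prod_map P p q hp hq)

theorem quasiSeparated_prod_fst_left (U V : Over S) [QuasiSeparatedSpace ↥V.left] :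
    QuasiSeparated (prod.fst : U ⨯ V ⟶ U).left := by
  have h1 : QuasiSeparated V.hom := inferInstance
  have h2 : QuasiSeparated (pullback.fst U.hom V.hom) := inferInstance
  rw [← Over.prodLeftIsoPullback_hom_fst]
  infer_instance

set_option backward.isDefEq.respectTransparency.types false in
theorem isQuasiSeparatedSp_of_chart_proj_quasiCompact {X : Sp S} (hX : IsAlgSpace X)
    {R U : Over S}
    (p : (yon S).obj U ⟶ X) (hp : RepWith @Etale p) (hs : RepWith @Surjective p)
    [QuasiSeparatedSpace ↥U.left] (s t : R ⟶ U)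
    (hR : IsPullback ((yon S).map t) ((yon S).map s) p p) [QuasiCompact t.left] :
    IsQuasiSeparatedSp X := by
  have sq := isPullback_diag_of_isPullback p p t s hR
  have hqe := repWith_prodComparison_prod_map @Etale p p hp hp
  have hqs := repWith_prodComparison_prod_map @Surjective p p hs hs
  rw [IsQuasiSeparatedSp, repWith_iff_of_chart (Limits.diag X) hX.diag _ hqe hqs _
    (prod.lift t s) sq @QuasiCompact]
  have e : (prod.lift t s).left ≫ (prod.fst : U ⨯ U ⟶ U).left = t.left := by
    rw [← Over.comp_left, prod.lift_fst]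
  have hqs' := quasiSeparated_prod_fst_left U U
  have : QuasiCompact ((prod.lift t s).left ≫ (prod.fst : U ⨯ U ⟶ U).left) := by
    rw [e]; infer_instance
  exact QuasiCompact.of_comp _ (prod.fst : U ⨯ U ⟶ U).left

theorem finite_fibres_of_etale_chart_quasiCompact_proj {X : Sp S} {R U : Over S}
    (a : (yon S).obj U ⟶ X) (ha : RepWith @Etale a) (s t : R ⟶ U)
    (hR : IsPullback ((yon S).map t) ((yon S).map s) a a)
    [QuasiCompact s.left] [QuasiCompact t.left] (x : Points X) :
    (Points.ofPt a ⁻¹' {x}).Finite ∧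
      (Points.ofPt ((yon S).map t ≫ a) ⁻¹' {x}).Finite := by
  have hs : Etale s.left := ha.property a _ _ hR
  have ht : Etale t.left := ha.property a _ _ hR.flip
  have h1 : (Points.ofPt a ⁻¹' {x}).Finite := by
    by_cases hne : (Points.ofPt a ⁻¹' {x}).Nonempty
    · obtain ⟨u₀, hu₀⟩ := hne
      have hsub : Points.ofPt a ⁻¹' {x} ⊆ t.left '' (s.left ⁻¹' {u₀}) := by
        intro u hu
        have e : Points.ofPt a u = Points.ofPt a u₀ := hu.trans hu₀.symm
        obtain ⟨r, hr1, hr2⟩ := exists_point_of_isPullback_yon a a t s hR u u₀ e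
        exact ⟨r, hr2, hr1⟩
      exact ((s.left.finite_preimage_singleton u₀).image _).subset hsub
    · rw [Set.not_nonempty_iff_eq_empty] at hne
      rw [hne]; exact Set.finite_empty
  refine ⟨h1, ?_⟩
  have hsub : Points.ofPt ((yon S).map t ≫ a) ⁻¹' {x} ⊆
      ⋃ u ∈ Points.ofPt a ⁻¹' {x}, t.left ⁻¹' {u} := by
    intro r hr
    have : Points.ofPt a (t.left r) = x := by rw [← ofPt_yon_map_comp]; exact hr
    simp only [Set.mem_iUnion]
    exact ⟨t.left r, this, rfl⟩
  exact (h1.biUnion fun u _ => t.left.finite_preimage_singleton u).subset hsub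

end Groth.Agent.Helper2.AlgSpBasic
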