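import Mathlib
import Groth.Prelude.Def_AlgSp4
import Groth.Agent.Lib.Helper2.AlgSp.LocP
import Groth.Agent.Lib.Helper2.AlgSp.Sep
import Groth.Agent.Lib.Helper2.AlgSp.Descent
namespace Groth.Agent.Helper2.AlgSpBasic
open CategoryTheory CategoryTheory.Limits AlgebraicGeometry Opposite AlgSp Topology
open Groth.Agent.Helper2.EtaleLocal
universe u
variable {S : Scheme.{u}}

/-- The diagonal of the terminal sheaf is representable. -/
theorem representable_diag_terminal : Representable (Limits.diag (⊤_ (Sp S))) := by
  have : IsIso (Limits.diag (⊤_ (Sp S))) := by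
    refine ⟨prod.fst, by simp only [Limits.diag, prod.lift_fst], ?_⟩
    apply Limits.prod.hom_ext <;> apply Subsingleton.elim
  exact Functor.relativelyRepresentable.of_isIso _ _

/-- The product of two algebraic spaces is an algebraic space. -/
theorem isAlgSpace_prod {X Y : Sp S} (hX : IsAlgSpace X) (hY : IsAlgSpace Y) :
    IsAlgSpace (X ⨯ Y) :=
  isAlgSpace_of_isPullback representable_diag_terminal hX hY (terminal.from X) (terminal.from Y)
    prod.fst prod.snd (IsPullback.of_hasBinaryProduct' X Y)

/-- The identity has every étale-local property étale locally. -/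
theorem locP_id (P : MorphismProperty Scheme.{u}) [IsEtaleLocalST P] {X : Sp S}
    (hX : Representable (Limits.diag X)) : LocP P (𝟙 X) := by
  intro U V a b h ha hb comm
  rw [Category.comp_id] at comm
  exact IsEtaleLocalST.of_etale _ (etale_of_comp_repWith_etale hX a b h ha hb comm.symm)

/-- A representable monomorphism is a monomorphism in the representable sense. -/
theorem repWith_monomorphisms_of_mono {F G : Sp S} (f : F ⟶ G) (hf : Representable f) [Mono f] :
    RepWith (MorphismProperty.monomorphisms Scheme.{u}) f := by
  refine ⟨hf, fun T W g fst snd sq => ?_⟩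
  show Mono snd.left
  have h2 : Mono ((yon S).map snd) := sq.mono_snd_of_mono
  have h3 : Mono snd := (yon S).mono_of_mono_map h2
  infer_instance

theorem repWith_isSeparated_of_mono {F G : Sp S} (f : F ⟶ G) (hf : Representable f) [Mono f] :
    RepWith @IsSeparated f := by
  refine repWith_mono ?_ (repWith_monomorphisms_of_mono f hf)
  intro A B g (hg : Mono g)
  exact (inferInstance : IsSeparated g)

instance mono_diag' (F : Sp S) : Mono (Limits.diag F) := by
  have : Limits.diag F ≫ prod.fst = 𝟙 F := by simp only [Limits.diag, prod.lift_fst]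
  exact mono_of_mono_fac this

/-- The diagonal of an algebraic space has `P` in the representable sense, for every étale local
`P` which cancels. -/
theorem repWith_diag_of_cancel (P : MorphismProperty Scheme.{u}) [IsEtaleLocalST P]
    (hcancel : ∀ ⦃A B C : Scheme.{u}⦄ (x : A ⟶ B) (y : B ⟶ C), P (x ≫ y) → P x)
    {X : Sp S} (hX : IsAlgSpace X) : RepWith P (Limits.diag X) := by
  have hXX := isAlgSpace_prod hX hX
  refine repWith_of_locP P hX hXX (Limits.diag X) hX.diag ?_
  refine locP_of_comp P hcancel hX hXX hX (Limits.diag X) prod.fst ?_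
  have : Limits.diag X ≫ prod.fst = 𝟙 X := by simp only [Limits.diag, prod.lift_fst]
  rw [this]
  exact locP_id P hX.diag

theorem repWith_diag_lft {X : Sp S} (hX : IsAlgSpace X) :
    RepWith @LocallyOfFiniteType (Limits.diag X) :=
  repWith_diag_of_cancel _ (fun _ _ _ x y (h : LocallyOfFiniteType (x ≫ y)) =>
    locallyOfFiniteType_of_comp x y) hX

theorem repWith_diag_lqf_lft {X : Sp S} (hX : IsAlgSpace X) :
    RepWith (@LocallyQuasiFinite ⊓ @LocallyOfFiniteType) (Limits.diag X) := by
  refine repWith_diag_of_cancel _ ?_ hX
  rintro A B C x y ⟨h1, h2⟩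
  have : LocallyQuasiFinite (x ≫ y) := h1
  have : LocallyOfFiniteType (x ≫ y) := h2
  exact ⟨LocallyQuasiFinite.of_comp x y, locallyOfFiniteType_of_comp x y⟩

/-- The canonical monomorphism `X ×_Y X ⟶ X × X`. -/
instance mono_prod_lift_pullback {X Y : Sp S} (f : X ⟶ Y) :
    Mono (prod.lift (pullback.fst f f) (pullback.snd f f)) := by
  refine ⟨fun a b h => ?_⟩
  apply pullback.hom_ext
  · have := congrArg (· ≫ prod.fst) h
    simp only [Category.assoc, prod.lift_fst] at this
    exact this
  · have := congrArg (· ≫ prod.snd) h
    simp only [Category.assoc, prod.lift_snd] at this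
    exact this

/-- The relative diagonal is a base change of the absolute one. -/
theorem isPullback_diagonal_diag {X Y : Sp S} (f : X ⟶ Y) :
    IsPullback (𝟙 X) (pullback.diagonal f) (Limits.diag X)
      (prod.lift (pullback.fst f f) (pullback.snd f f)) := by
  have hw : pullback.diagonal f ≫ prod.lift (pullback.fst f f) (pullback.snd f f) =
      Limits.diag X := by
    apply Limits.prod.hom_ext <;> simp [Limits.diag]
  refine IsPullback.mk' ?_ ?_ ?_
  · rw [Category.id_comp, hw]
  · intro T φ φ' h1 _
    simpa using h1
  · intro T a b hab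
    refine ⟨a, Category.comp_id a, ?_⟩
    rw [← cancel_mono (prod.lift (pullback.fst f f) (pullback.snd f f)), Category.assoc, hw, hab]

theorem repWith_diagonal_of_repWith_diag (P : MorphismProperty Scheme.{u}) {X Y : Sp S}
    (f : X ⟶ Y) (h : RepWith P (Limits.diag X)) : RepWith P (pullback.diagonal f) :=
  repWith_of_isPullback P (isPullback_diagonal_diag f) h

theorem representable_diagonal {X Y : Sp S} (f : X ⟶ Y) (h : Representable (Limits.diag X)) :
    Representable (pullback.diagonal f) :=
  (Representable (S := S)).of_isPullback (isPullback_diagonal_diag f) h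

/-- Properties of the absolute diagonal. -/
theorem repWith_diag_properties {X : Sp S} (hX : IsAlgSpace X) :
    RepWith @LocallyOfFiniteType (Limits.diag X) ∧
      RepWith (MorphismProperty.monomorphisms Scheme.{u}) (Limits.diag X) ∧
      RepWith @IsSeparated (Limits.diag X) ∧
      RepWith (@LocallyQuasiFinite ⊓ @LocallyOfFiniteType) (Limits.diag X) :=
  ⟨repWith_diag_lft hX, repWith_monomorphisms_of_mono _ hX.diag,
    repWith_isSeparated_of_mono _ hX.diag, repWith_diag_lqf_lft hX⟩

/-- Properties of the relative diagonal. -/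
theorem repWith_diagonal_properties {X Y : Sp S} (hX : IsAlgSpace X) (f : X ⟶ Y) :
    Representable (pullback.diagonal f) ∧
      RepWith @LocallyOfFiniteType (pullback.diagonal f) ∧
      RepWith (MorphismProperty.monomorphisms Scheme.{u}) (pullback.diagonal f) ∧
      RepWith @IsSeparated (pullback.diagonal f) ∧
      RepWith (@LocallyQuasiFinite ⊓ @LocallyOfFiniteType) (pullback.diagonal f) := by
  obtain ⟨h1, h2, h3, h4⟩ := repWith_diag_properties hX
  exact ⟨representable_diagonal f hX.diag, repWith_diagonal_of_repWith_diag _ f h1,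
    repWith_diagonal_of_repWith_diag _ f h2, repWith_diagonal_of_repWith_diag _ f h3,
    repWith_diagonal_of_repWith_diag _ f h4⟩

/-- `X ×_Z Y ⟶ X ×_T Y` is a base change of the diagonal of `h : Z ⟶ T`. -/
theorem repWith_mapDesc_of_repWith_diagonal (P : MorphismProperty Scheme.{u}) {X Y Z T : Sp S}
    (f : X ⟶ Z) (g : Y ⟶ Z) (h : Z ⟶ T) (hh : RepWith P (pullback.diagonal h)) :
    RepWith P (pullback.mapDesc f g h) :=
  repWith_of_isPullback P (pullback_map_diagonal_isPullback f g h) hh

theorem representable_mapDesc {X Y Z T : Sp S}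
    (f : X ⟶ Z) (g : Y ⟶ Z) (h : Z ⟶ T) (hh : Representable (pullback.diagonal h)) :
    Representable (pullback.mapDesc f g h) :=
  (Representable (S := S)).of_isPullback (pullback_map_diagonal_isPullback f g h) hh

/-- A section of `f` is a base change of the diagonal of `f`. -/
theorem isPullback_section_diagonal {X T : Sp S} (f : X ⟶ T) (s : T ⟶ X) (hs : s ≫ f = 𝟙 T) :
    IsPullback s s (pullback.diagonal f)
      (pullback.lift (f ≫ s) (𝟙 X) (by rw [Category.assoc, hs, Category.comp_id,
        Category.id_comp])) := by
  refine IsPullback.mk' ?_ ?_ ?_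
  · apply pullback.hom_ext
    · rw [Category.assoc, pullback.diagonal_fst, Category.assoc, pullback.lift_fst,
        Category.comp_id, ← Category.assoc, hs, Category.id_comp]
    · rw [Category.assoc, pullback.diagonal_snd, Category.assoc, pullback.lift_snd]
  · intro A φ φ' h1 _
    have := congrArg (· ≫ f) h1
    simpa only [Category.assoc, hs, Category.comp_id] using this
  · intro A a b hab
    have e1 := congrArg (· ≫ pullback.fst f f) hab
    have e2 := congrArg (· ≫ pullback.snd f f) hab
    simp only [Category.assoc, pullback.diagonal_fst, pullback.diagonal_snd, pullback.lift_fst,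
      pullback.lift_snd, Category.comp_id] at e1 e2
    subst e2
    refine ⟨a ≫ f, ?_, ?_⟩
    · rw [Category.assoc]; exact e1.symm
    · rw [Category.assoc]; exact e1.symm

theorem repWith_section_of_repWith_diagonal (P : MorphismProperty Scheme.{u}) {X T : Sp S}
    (f : X ⟶ T) (s : T ⟶ X) (hs : s ≫ f = 𝟙 T) (hf : RepWith P (pullback.diagonal f)) :
    RepWith P s :=
  repWith_of_isPullback P (isPullback_section_diagonal f s hs) hf

theorem representable_section {X T : Sp S}
    (f : X ⟶ T) (s : T ⟶ X) (hs : s ≫ f = 𝟙 T) (hf : Representable (pullback.diagonal f)) :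
    Representable s :=
  (Representable (S := S)).of_isPullback (isPullback_section_diagonal f s hs) hf

theorem isPullback_diagonal_snd_of_isPullback {C : Type*} [Category C] [HasPullbacks C]
    {X Y A P E : C} (f : X ⟶ Y) (t : A ⟶ pullback f f) (fst : P ⟶ X) (snd : P ⟶ A)
    (sq : IsPullback fst snd f (t ≫ pullback.fst f f ≫ f)) (φ : E ⟶ X) (e : E ⟶ A)
    (sqE : IsPullback φ e (pullback.diagonal f) t)
    (σ₁ σ₂ : A ⟶ P) (h₁f : σ₁ ≫ fst = t ≫ pullback.fst f f) (h₁s : σ₁ ≫ snd = 𝟙 A)
    (h₂f : σ₂ ≫ fst = t ≫ pullback.snd f f) (h₂s : σ₂ ≫ snd = 𝟙 A) :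
    IsPullback (e ≫ σ₁) e (pullback.diagonal snd)
      (pullback.lift σ₁ σ₂ (by rw [h₁s, h₂s])) := by
  have hφ1 : φ = e ≫ t ≫ pullback.fst f f := by
    have := congrArg (· ≫ pullback.fst f f) sqE.w
    simpa only [Category.assoc, pullback.diagonal_fst, Category.comp_id] using this
  have hφ2 : φ = e ≫ t ≫ pullback.snd f f := by
    have := congrArg (· ≫ pullback.snd f f) sqE.w
    simpa only [Category.assoc, pullback.diagonal_snd, Category.comp_id] using this
  have he : e ≫ σ₁ = e ≫ σ₂ := by
    apply sq.hom_ext
    · rw [Category.assoc, Category.assoc, h₁f, h₂f, ← hφ1, ← hφ2]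
    · rw [Category.assoc, Category.assoc, h₁s, h₂s]
  refine IsPullback.mk' ?_ ?_ ?_
  · apply pullback.hom_ext
    · rw [Category.assoc, pullback.diagonal_fst, Category.comp_id, Category.assoc,
        pullback.lift_fst]
    · rw [Category.assoc, pullback.diagonal_snd, Category.comp_id, Category.assoc,
        pullback.lift_snd, he]
  · intro B φ' φ'' _ h2
    apply sqE.hom_ext
    · rw [hφ1, ← Category.assoc, ← Category.assoc, h2, Category.assoc, Category.assoc]
    · exact h2
  · intro B a b hab
    have e1 := congrArg (· ≫ pullback.fst snd snd) hab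
    have e2 := congrArg (· ≫ pullback.snd snd snd) hab
    simp only [Category.assoc, pullback.diagonal_fst, pullback.diagonal_snd, pullback.lift_fst,
      pullback.lift_snd, Category.comp_id] at e1 e2
    have hb : b ≫ t ≫ pullback.fst f f = b ≫ t ≫ pullback.snd f f := by
      rw [← h₁f, ← h₂f, ← Category.assoc, ← Category.assoc, ← e1, ← e2]
    have hbt : (b ≫ t ≫ pullback.fst f f) ≫ pullback.diagonal f = b ≫ t := by
      apply pullback.hom_ext
      · rw [Category.assoc, pullback.diagonal_fst, Category.comp_id, Category.assoc]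
      · rw [Category.assoc, pullback.diagonal_snd, Category.comp_id, hb, Category.assoc]
    refine ⟨sqE.lift _ _ hbt, ?_, ?_⟩
    · rw [← Category.assoc, sqE.lift_snd, e1]
    · exact sqE.lift_snd _ _ _

/-- A diagonal property may be tested after base change to affine schemes. -/
theorem repWith_diagonal_of_forall_affine (P₀ : MorphismProperty Scheme.{u})
    [IsZariskiLocalAtTarget P₀] {X Y : Sp S} (hX : Representable (Limits.diag X)) (f : X ⟶ Y)
    (h : ∀ (Z : Over S), IsAffine Z.left → ∀ (g : (yon S).obj Z ⟶ Y) (P : Sp S)
      (fst : P ⟶ X) (snd : P ⟶ (yon S).obj Z), IsPullback fst snd f g →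
      RepWith P₀ (pullback.diagonal snd)) : RepWith P₀ (pullback.diagonal f) := by
  refine repWith_of_forall_affine _ (representable_diagonal f hX) P₀ fun T E t φ e hT sqE => ?_
  let g := t ≫ pullback.fst f f ≫ f
  have sq := IsPullback.of_hasPullback f g
  have hh := h T hT g _ _ _ sq
  have c1 : (t ≫ pullback.fst f f) ≫ f = 𝟙 _ ≫ g := by
    rw [Category.id_comp, Category.assoc]
  have c2 : (t ≫ pullback.snd f f) ≫ f = 𝟙 _ ≫ g := by
    rw [Category.id_comp, Category.assoc, ← pullback.condition]
  have key := isPullback_diagonal_snd_of_isPullback f t (pullback.fst f g) (pullback.snd f g) sq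
    φ ((yon S).map e) sqE (pullback.lift _ _ c1) (pullback.lift _ _ c2)
    (pullback.lift_fst _ _ _) (pullback.lift_snd _ _ _) (pullback.lift_fst _ _ _)
    (pullback.lift_snd _ _ _)
  exact hh.property _ _ _ key

/-- Diagonal properties are stable under base change. -/
theorem repWith_diagonal_of_isPullback (P₀ : MorphismProperty Scheme.{u}) {X Y Z P : Sp S}
    {f : X ⟶ Y} {g : Z ⟶ Y} {fst : P ⟶ X} {snd : P ⟶ Z} (sq : IsPullback fst snd f g)
    (hf : RepWith P₀ (pullback.diagonal f)) : RepWith P₀ (pullback.diagonal snd) :=
  (RepWith (S := S) P₀).diagonal.of_isPullback sq hf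

/-- The diagonal of a base change is a base change of the diagonal. -/
theorem isPullback_diagonal_of_isPullback {C : Type*} [Category C] [HasPullbacks C]
    {X Y Z P : C} {f : X ⟶ Y} {g : Z ⟶ Y} {fst : P ⟶ X} {snd : P ⟶ Z}
    (sq : IsPullback fst snd f g) :
    IsPullback fst (pullback.diagonal snd) (pullback.diagonal f)
      (pullback.map snd snd f f fst fst g sq.w.symm sq.w.symm) := by
  refine IsPullback.mk' ?_ ?_ ?_
  · apply pullback.hom_ext
    · simp only [Category.assoc, pullback.diagonal_fst, Category.comp_id, pullback.lift_fst,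
        pullback.diagonal_fst_assoc]
    · simp only [Category.assoc, pullback.diagonal_snd, Category.comp_id, pullback.lift_snd,
        pullback.diagonal_snd_assoc]
  · intro A l l' _ h2
    have := congrArg (· ≫ pullback.fst snd snd) h2
    simpa only [Category.assoc, pullback.diagonal_fst, Category.comp_id] using this
  · intro A a b hab
    have e1 := congrArg (· ≫ pullback.fst f f) hab
    have e2 := congrArg (· ≫ pullback.snd f f) hab
    simp only [Category.assoc, pullback.diagonal_fst, pullback.diagonal_snd, pullback.lift_fst,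
      pullback.lift_snd, Category.comp_id] at e1 e2
    have hb : b ≫ pullback.fst snd snd = b ≫ pullback.snd snd snd := by
      apply sq.hom_ext
      · rw [Category.assoc, Category.assoc, ← e1, ← e2]
      · rw [Category.assoc, Category.assoc, pullback.condition]
    refine ⟨b ≫ pullback.fst snd snd, ?_, ?_⟩
    · rw [Category.assoc, ← e1]
    · apply pullback.hom_ext
      · rw [Category.assoc, pullback.diagonal_fst, Category.comp_id]
      · rw [Category.assoc, pullback.diagonal_snd, Category.comp_id, hb]

/-- `P ×_Z P ⟶ X ×_Y X` is a base change of `g : Z ⟶ Y`. -/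
theorem isPullback_map_of_isPullback {C : Type*} [Category C] [HasPullbacks C]
    {X Y Z P : C} {f : X ⟶ Y} {g : Z ⟶ Y} {fst : P ⟶ X} {snd : P ⟶ Z}
    (sq : IsPullback fst snd f g) :
    IsPullback (pullback.map snd snd f f fst fst g sq.w.symm sq.w.symm) (pullback.fst snd snd ≫ snd)
      (pullback.fst f f ≫ f) g := by
  refine IsPullback.mk' ?_ ?_ ?_
  · simp only [Category.assoc, pullback.lift_fst_assoc, sq.w]
  · intro A l l' h1 h2
    have e1 := congrArg (· ≫ pullback.fst f f) h1
    have e2 := congrArg (· ≫ pullback.snd f f) h1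
    simp only [Category.assoc, pullback.lift_fst, pullback.lift_snd] at e1 e2
    apply pullback.hom_ext
    · apply sq.hom_ext
      · simpa only [Category.assoc] using e1
      · simpa only [Category.assoc] using h2
    · apply sq.hom_ext
      · simpa only [Category.assoc] using e2
      · simp only [Category.assoc] at h2 ⊢
        rw [← pullback.condition]; exact h2
  · intro A a b hab
    have hab2 : (a ≫ pullback.snd f f) ≫ f = b ≫ g := by
      rw [Category.assoc, ← pullback.condition, ← hab]
    have hab1 : (a ≫ pullback.fst f f) ≫ f = b ≫ g := by rw [Category.assoc, hab]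
    refine ⟨pullback.lift (sq.lift _ _ hab1) (sq.lift _ _ hab2)
      (by rw [sq.lift_snd, sq.lift_snd]), ?_, ?_⟩
    · apply pullback.hom_ext
      · simp only [Category.assoc, pullback.lift_fst, pullback.lift_fst_assoc, sq.lift_fst]
      · simp only [Category.assoc, pullback.lift_snd, pullback.lift_snd_assoc, sq.lift_fst]
    · simp only [pullback.lift_fst_assoc, sq.lift_snd]

/-- A diagonal property which is fppf local on the target descends along an étale surjective
base change. -/
theorem repWith_diagonal_of_etale_cover (P₀ : MorphismProperty Scheme.{u})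
    [P₀.IsStableUnderBaseChange] [P₀.IsLocalAtTarget Scheme.fppfPrecoverage] {X Y Z : Sp S}
    (hX : Representable (Limits.diag X)) (f : X ⟶ Y) (p : Z ⟶ Y) (hp : RepWith @Etale p)
    (hps : RepWith @Surjective p) {P : Sp S} (fst : P ⟶ X) (snd : P ⟶ Z)
    (sq : IsPullback fst snd f p) (h : RepWith P₀ (pullback.diagonal snd)) :
    RepWith P₀ (pullback.diagonal f) := by
  have sq2 := isPullback_map_of_isPullback sq
  have hme : RepWith @Etale (pullback.map snd snd f f fst fst p sq.w.symm sq.w.symm) :=
    repWith_of_isPullback @Etale sq2.flip hp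
  have hms : RepWith @Surjective (pullback.map snd snd f f fst fst p sq.w.symm sq.w.symm) :=
    repWith_of_isPullback @Surjective sq2.flip hps
  haveI := isLocallySurjective_of_etale_surjective _ hme hms
  exact repWith_of_isLocallySurjective_base (pullback.diagonal f) (representable_diagonal f hX)
    (pullback.map snd snd f f fst fst p sq.w.symm sq.w.symm) P fst (pullback.diagonal snd)
    (isPullback_diagonal_of_isPullback sq) P₀ h

/-- For representable `f`, a diagonal property in the diagonal sense agrees with the
representable sense. -/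
theorem repWith_diagonal_iff_repWith_of_representable (P₀ : MorphismProperty Scheme.{u})
    [P₀.IsStableUnderBaseChange] [IsZariskiLocalAtTarget P₀] {X Y : Sp S}
    (hX : Representable (Limits.diag X)) (f : X ⟶ Y) (hf : Representable f) :
    RepWith P₀ (pullback.diagonal f) ↔ RepWith P₀.diagonal f := by
  constructor
  · intro h
    refine ⟨hf, fun T W g fst snd sq => ?_⟩
    have h1 := repWith_diagonal_of_isPullback P₀ sq h
    exact (repWith_diagonal_yon_map_iff P₀ snd).mp h1
  · intro h
    refine repWith_diagonal_of_forall_affine P₀ hX f ?_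
    intro Z _ g P fst snd sqP
    have sqW := hf.isPullback g
    have h1 : P₀.diagonal (hf.snd g).left := h.property g _ _ sqW
    have h2 : RepWith P₀ (pullback.diagonal ((yon S).map (hf.snd g))) :=
      (repWith_diagonal_yon_map_iff P₀ (hf.snd g)).mpr h1
    have sq3 : IsPullback (sqP.isoIsPullback _ _ sqW).hom snd ((yon S).map (hf.snd g)) (𝟙 _) :=
      IsPullback.of_horiz_isIso ⟨by rw [IsPullback.isoIsPullback_hom_snd, Category.comp_id]⟩
    exact repWith_diagonal_of_isPullback P₀ sq3 h2

end Groth.Agent.Helper2.AlgSpBasic
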