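import Mathlib
import Groth.Prelude.Def_AlgSp4
import Groth.Agent.Lib.Helper2.AlgSp.LocP
import Groth.Agent.Lib.Helper2.AlgSp.TopCharts
namespace Groth.Agent.Helper2.AlgSpBasic
open CategoryTheory CategoryTheory.Limits AlgebraicGeometry Opposite AlgSp Topology
universe u
variable {S : Scheme.{u}}

/-- Every point of a sheaf is the image of a point of a scheme. -/
theorem exists_ofPt_eq {X : Sp S} (x : Points X) :
    ∃ (T : Over S) (g : (yon S).obj T ⟶ X) (t : ↥T.left), Points.ofPt g t = x := by
  induction x using Points.ind with | h q => ?_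
  let g : (yon S).obj q.pt ⟶ X := (J S).uliftYonedaEquiv.symm q.val
  refine ⟨q.pt, g, IsLocalRing.closedPoint q.K, ?_⟩
  have := Points.ofScheme_apply_eq_mk q.pt (𝟙 _) (Category.id_comp _)
  rw [Points.ofPt_eq_map_ofScheme]
  have h2 : (𝟙 (Spec (CommRingCat.of q.K)) : _ ⟶ _) (IsLocalRing.closedPoint q.K) =
      IsLocalRing.closedPoint q.K := rfl
  rw [h2] at this
  rw [this, Points.map_mk, Points.mk_eq_mk_iff]
  refine ⟨q.K, inferInstance, q.str, 𝟙 _, 𝟙 _, ?_⟩
  congr 1
  have h3 : g.hom.app (op q.pt) ⟨𝟙 q.pt⟩ = X.obj.map (𝟙 q.pt).op q.val :=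
    GrothendieckTopology.uliftYonedaEquiv_symm_app_apply _ _ _ _
  rw [op_id, X.obj.map_id] at h3
  exact h3

/-- Points of a fibre product, with the second factor a scheme. -/
theorem exists_point_of_isPullback_right {X Y : Sp S} {T W : Over S} (f : X ⟶ Y)
    (g : (yon S).obj T ⟶ Y) (fst : (yon S).obj W ⟶ X) (snd : W ⟶ T)
    (sq : IsPullback fst ((yon S).map snd) f g) (x : Points X) (t : ↥T.left)
    (e : Points.map f x = Points.ofPt g t) :
    ∃ w : ↥W.left, Points.ofPt fst w = x ∧ snd.left w = t := by
  rw [Points.ofPt_eq_map_ofScheme] at e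
  obtain ⟨p, hp1, hp2⟩ := points_exists_of_isPullback f g ((yon S).map snd) fst sq.flip
    (Points.ofScheme T t) x e.symm
  obtain ⟨w, rfl⟩ := (Points.schemeHomeo W).surjective p
  refine ⟨w, ?_, ?_⟩
  · rw [Points.ofPt_eq_map_ofScheme]; exact hp2
  · have := Points.map_yon_map_apply snd w
    rw [hp1] at this
    exact ((Points.schemeHomeo T).injective this).symm

/-- A representable surjective morphism is surjective on points. -/
theorem isSurjectiveMor_of_repWith_surjective {X Y : Sp S} (f : X ⟶ Y)
    (hf : RepWith @Surjective f) : IsSurjectiveMor f := by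
  intro y
  obtain ⟨T, g, t, rfl⟩ := exists_ofPt_eq y
  have hrep := hf.rep
  have sq := hrep.isPullback g
  have hsurj : Surjective (hrep.snd g).left := hf.property g _ _ sq
  obtain ⟨w, hw⟩ := hsurj.surj t
  refine ⟨Points.ofPt (hrep.fst g) w, ?_⟩
  rw [Points.map_ofPt, sq.w, ofPt_yon_map_comp, hw]

/-- For a representable morphism, surjectivity on points gives representable surjectivity. -/
theorem repWith_surjective_of_isSurjectiveMor {X Y : Sp S} (f : X ⟶ Y)
    (hrep : Representable f) (hf : IsSurjectiveMor f) : RepWith @Surjective f := by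
  refine ⟨hrep, fun T W g fst snd sq => ?_⟩
  show Surjective snd.left
  refine ⟨fun t => ?_⟩
  obtain ⟨x, hx⟩ := hf (Points.ofPt g t)
  obtain ⟨w, -, hw⟩ := exists_point_of_isPullback_right f g fst snd sq x t hx
  exact ⟨w, hw⟩

/-- Surjectivity on points is stable under base change. -/
theorem isSurjectiveMor_of_isPullback {X Y Y' P : Sp S} (f : X ⟶ Y) (g : Y' ⟶ Y)
    (fst : P ⟶ X) (snd : P ⟶ Y') (sq : IsPullback fst snd f g) (hf : IsSurjectiveMor f) :
    IsSurjectiveMor snd := by
  intro y'
  obtain ⟨x, hx⟩ := hf (Points.map g y')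
  obtain ⟨p, hp1, -⟩ := points_exists_of_isPullback f g snd fst sq.flip y' x hx.symm
  exact ⟨p, hp1⟩

/-- The map on points of a representable étale map from a scheme is open. -/
theorem isOpenMap_points_map_of_etale {Z : Sp S} {T : Over S} (a : (yon S).obj T ⟶ Z)
    (ha : RepWith @Etale a) : IsOpenMap (Points.map a) := by
  have : Points.map a = Points.ofPt a ∘ (Points.schemeHomeo T).symm := by
    funext x
    obtain ⟨t, rfl⟩ := (Points.schemeHomeo T).surjective x
    rw [Function.comp_apply, Homeomorph.symm_apply_apply, Points.ofPt_eq_map_ofScheme]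
    rfl
  rw [this]
  exact (isOpenMap_ofPt a ha).comp (Points.schemeHomeo T).symm.isOpenMap

section ChartFamily

variable {ι : Type*} {Z Z' : Sp S} (q : Z' ⟶ Z) (T : ι → Over S)
  (a : ∀ i, (yon S).obj (T i) ⟶ Z) (hae : ∀ i, RepWith @Etale (a i))
  (hsurj : ∀ z : Points Z, ∃ i t, Points.ofPt (a i) t = z)
  (P : ι → Sp S) (fst : ∀ i, P i ⟶ Z') (snd : ∀ i, P i ⟶ (yon S).obj (T i))
  (sq : ∀ i, IsPullback (fst i) (snd i) q (a i))

include hae hsurj sq

theorem chartFamily_comm (i : ι) (x : Points (P i)) :
    Points.map (a i) (Points.map (snd i) x) = Points.map q (Points.map (fst i) x) := by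
  rw [← Points.map_comp, ← Points.map_comp, (sq i).w]

theorem chartFamily_cart (i : ι) (z : Points Z') (u : Points ((yon S).obj (T i)))
    (e : Points.map q z = Points.map (a i) u) :
    ∃ x, Points.map (fst i) x = z ∧ Points.map (snd i) x = u :=
  points_exists_of_isPullback (a i) q (fst i) (snd i) (sq i) z u e

theorem chartFamily_surj (b : Points Z) : ∃ i u, Points.map (a i) u = b := by
  obtain ⟨i, t, rfl⟩ := hsurj b
  exact ⟨i, Points.ofScheme (T i) t, (Points.ofPt_eq_map_ofScheme _ _).symm⟩

theorem isOpenMap_points_of_chartFamily (h : ∀ i, IsOpenMap (Points.map (snd i))) :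
    IsOpenMap (Points.map q) :=
  TopCharts.isOpenMap_of_charts (Points.map q) (fun i => Points.map (snd i))
    (fun i => Points.map (a i)) (fun i => Points.map (fst i))
    (chartFamily_comm q T a hae hsurj P fst snd sq)
    (chartFamily_cart q T a hae hsurj P fst snd sq)
    (chartFamily_surj q T a hae hsurj P fst snd sq)
    (fun i => isOpenMap_points_map_of_etale (a i) (hae i))
    (fun i => Points.continuous_map _) h

theorem isClosedMap_points_of_chartFamily (h : ∀ i, IsClosedMap (Points.map (snd i))) :
    IsClosedMap (Points.map q) :=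
  TopCharts.isClosedMap_of_charts (Points.map q) (fun i => Points.map (snd i))
    (fun i => Points.map (a i)) (fun i => Points.map (fst i))
    (chartFamily_comm q T a hae hsurj P fst snd sq)
    (chartFamily_cart q T a hae hsurj P fst snd sq)
    (chartFamily_surj q T a hae hsurj P fst snd sq)
    (fun i => isOpenMap_points_map_of_etale (a i) (hae i))
    (fun i => Points.continuous_map _) h

theorem injective_points_of_chartFamily (h : ∀ i, Function.Injective (Points.map (snd i))) :
    Function.Injective (Points.map q) :=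
  TopCharts.injective_of_charts (Points.map q) (fun i => Points.map (snd i))
    (fun i => Points.map (a i)) (fun i => Points.map (fst i))
    (chartFamily_cart q T a hae hsurj P fst snd sq)
    (chartFamily_surj q T a hae hsurj P fst snd sq) h

theorem surjective_points_of_chartFamily (h : ∀ i, Function.Surjective (Points.map (snd i))) :
    Function.Surjective (Points.map q) :=
  TopCharts.surjective_of_charts (Points.map q) (fun i => Points.map (snd i))
    (fun i => Points.map (a i)) (fun i => Points.map (fst i))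
    (chartFamily_comm q T a hae hsurj P fst snd sq)
    (chartFamily_surj q T a hae hsurj P fst snd sq) h

theorem isQuotientMap_points_of_chartFamily (h : ∀ i, IsQuotientMap (Points.map (snd i))) :
    IsQuotientMap (Points.map q) :=
  TopCharts.isQuotientMap_of_charts (Points.map q) (fun i => Points.map (snd i))
    (fun i => Points.map (a i)) (fun i => Points.map (fst i))
    (chartFamily_comm q T a hae hsurj P fst snd sq)
    (chartFamily_surj q T a hae hsurj P fst snd sq)
    (fun i => isOpenMap_points_map_of_etale (a i) (hae i))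
    (fun i => Points.continuous_map _) (Points.continuous_map _) h

theorem isHomeomorph_points_of_chartFamily (h : ∀ i, IsHomeomorph (Points.map (snd i))) :
    IsHomeomorph (Points.map q) :=
  TopCharts.isHomeomorph_of_charts (Points.map q) (fun i => Points.map (snd i))
    (fun i => Points.map (a i)) (fun i => Points.map (fst i))
    (chartFamily_comm q T a hae hsurj P fst snd sq)
    (chartFamily_cart q T a hae hsurj P fst snd sq)
    (chartFamily_surj q T a hae hsurj P fst snd sq)
    (fun i => isOpenMap_points_map_of_etale (a i) (hae i))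
    (fun i => Points.continuous_map _) (Points.continuous_map _) h

end ChartFamily

/-- Affine étale charts of an algebraic space, jointly surjective on points. -/
theorem exists_affine_chartFamily {Z : Sp S} (hZ : IsAlgSpace Z) :
    ∃ (ι : Type u) (T : ι → Over S) (a : ∀ i, (yon S).obj (T i) ⟶ Z),
      (∀ i, IsAffine (T i).left) ∧ (∀ i, RepWith @Etale (a i)) ∧
      (∀ z : Points Z, ∃ i t, Points.ofPt (a i) t = z) := by
  obtain ⟨U, p, hpe, hps⟩ := hZ.atlas
  let 𝒰 := U.left.affineCover
  let T : 𝒰.I₀ → Over S := fun i => Over.mk (𝒰.f i ≫ U.hom)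
  let φ : ∀ i, T i ⟶ U := fun i => Over.homMk (𝒰.f i) rfl
  refine ⟨𝒰.I₀, T, fun i => (yon S).map (φ i) ≫ p, fun i => ?_, fun i => ?_, fun z => ?_⟩
  · show IsAffine (𝒰.X i)
    infer_instance
  · refine repWith_comp @Etale ((repWith_yon_map_iff @Etale _).mpr ?_) hpe
    show Etale (𝒰.f i)
    infer_instance
  · obtain ⟨u, rfl⟩ := surjective_ofPt p hps z
    obtain ⟨i, t, ht⟩ := 𝒰.exists_eq u
    refine ⟨i, t, ?_⟩
    rw [ofPt_yon_map_comp]
    show Points.ofPt p ((𝒰.f i) t) = _
    rw [ht]

/-- The homeomorphism on points induced by an isomorphism of sheaves. -/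
noncomputable def pointsHomeoOfIso {A B : Sp S} (e : A ≅ B) : Points A ≃ₜ Points B where
  toFun := Points.map e.hom
  invFun := Points.map e.inv
  left_inv x := by rw [← Points.map_comp, e.hom_inv_id, Points.map_id]
  right_inv x := by rw [← Points.map_comp, e.inv_hom_id, Points.map_id]
  continuous_toFun := Points.continuous_map _
  continuous_invFun := Points.continuous_map _

theorem points_map_iso_comp {A B C : Sp S} (e : A ≅ B) (q : B ⟶ C) :
    Points.map (e.hom ≫ q) = Points.map q ∘ pointsHomeoOfIso e := by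
  funext x; exact Points.map_comp _ _ _

section Generic

variable (Q : MorphismProperty (Sp S))
  (hQ : ∀ {ι : Type u} {Z Z' : Sp S} (q : Z' ⟶ Z) (T : ι → Over S)
    (a : ∀ i, (yon S).obj (T i) ⟶ Z), (∀ i, RepWith @Etale (a i)) →
    (∀ z : Points Z, ∃ i t, Points.ofPt (a i) t = z) →
    ∀ (P : ι → Sp S) (fst : ∀ i, P i ⟶ Z') (snd : ∀ i, P i ⟶ (yon S).obj (T i)),
    (∀ i, IsPullback (fst i) (snd i) q (a i)) → (∀ i, Q (snd i)) → Q q)

include hQ

/-- A universal property may be tested on affine schemes over the target. -/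
theorem univSp_of_affine {X Y : Sp S} (f : X ⟶ Y)
    (h : ∀ (Z : Over S), IsAffine Z.left → ∀ (g : (yon S).obj Z ⟶ Y) (P : Sp S)
      (fst : P ⟶ X) (snd : P ⟶ (yon S).obj Z), IsPullback fst snd f g → Q snd) :
    UnivSp Q f := by
  intro Z Z' hZ g fst snd sq
  obtain ⟨ι, T, a, hT, hae, hs⟩ := exists_affine_chartFamily hZ
  refine hQ snd T a hae hs (fun i => pullback snd (a i)) (fun i => pullback.fst _ _)
    (fun i => pullback.snd _ _) (fun i => IsPullback.of_hasPullback _ _) fun i => ?_
  exact h (T i) (hT i) (a i ≫ g) _ (pullback.fst _ _ ≫ fst) (pullback.snd _ _)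
    ((IsPullback.of_hasPullback snd (a i)).paste_horiz sq)

/-- A universal property descends along an étale surjective base change. -/
theorem univSp_of_etale_cover {X Y : Sp S} (f : X ⟶ Y) {V : Over S}
    (p : (yon S).obj V ⟶ Y) (hp : RepWith @Etale p) (hps : RepWith @Surjective p)
    {P : Sp S} (fst : P ⟶ X) (snd : P ⟶ (yon S).obj V) (sq : IsPullback fst snd f p)
    (h : UnivSp Q snd) : UnivSp Q f := by
  intro Z Z' hZ g fst' snd' sq'
  obtain ⟨U, a, α, hae, has, haα⟩ := exists_chart_lift hZ g p hp hps
  have big : IsPullback (pullback.fst snd' a ≫ fst') (pullback.snd snd' a) f (a ≫ g) :=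
    (IsPullback.of_hasPullback snd' a).paste_horiz sq'
  rw [haα] at big
  have hl : (pullback.fst snd' a ≫ fst') ≫ f = (pullback.snd snd' a ≫ (yon S).map α) ≫ p := by
    rw [Category.assoc _ _ p]; exact big.w
  have sqU : IsPullback (sq.lift _ _ hl) (pullback.snd snd' a) snd ((yon S).map α) := by
    refine IsPullback.of_right ?_ (sq.lift_snd _ _ hl) sq
    rw [sq.lift_fst]; exact big
  have hQU : Q (pullback.snd snd' a) := h (IsAlgSpace.yon_obj U) _ _ _ sqU
  refine hQ snd' (fun _ : PUnit.{u + 1} => U) (fun _ => a) (fun _ => hae)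
    (fun z => ?_) (fun _ => pullback snd' a) (fun _ => pullback.fst _ _)
    (fun _ => pullback.snd _ _) (fun _ => IsPullback.of_hasPullback _ _) (fun _ => hQU)
  obtain ⟨t, ht⟩ := surjective_ofPt a has z
  exact ⟨PUnit.unit, t, ht⟩

variable (Qs : ∀ {α β : Type u} [TopologicalSpace α] [TopologicalSpace β], (α → β) → Prop)
  (hQiso : ∀ {A B C : Sp S} (e : A ≅ B) (q : B ⟶ C), Q q → Q (e.hom ≫ q))
  (hQyon : ∀ {W T : Over S} (φ : W ⟶ T), Q ((yon S).map φ) ↔ Qs φ.left)

include hQiso hQyon

/-- For representable `f`, a universal topological property in the representable sense agrees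
with the one defined through points. -/
theorem repWith_universally_iff_univSp {X Y : Sp S} (f : X ⟶ Y) (hrep : Representable f) :
    RepWith (MorphismProperty.universally (topologically Qs)) f ↔ UnivSp Q f := by
  constructor
  · intro hf
    refine univSp_of_affine Q hQ f fun T _ g P fst snd sq => ?_
    have sqW := hrep.isPullback g
    have h1 : MorphismProperty.universally (topologically Qs) (hrep.snd g).left :=
      hf.property g _ _ sqW
    have h2 : Qs (hrep.snd g).left := MorphismProperty.universally_le _ _ h1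
    have h3 : Q ((yon S).map (hrep.snd g)) := (hQyon _).mpr h2
    have := hQiso (sq.isoIsPullback _ _ sqW) _ h3
    rwa [IsPullback.isoIsPullback_hom_snd] at this
  · intro h
    refine ⟨hrep, fun T W g fst snd sq => ?_⟩
    intro X' Y' i₁ i₂ f' hpb
    show Qs f'
    change X' ⟶ W.left at i₁
    change Y' ⟶ T.left at i₂
    replace hpb : IsPullback f' i₁ i₂ snd.left := hpb
    have e1 : f' ≫ i₂ = i₁ ≫ snd.left := hpb.w
    let T' : Over S := Over.mk (i₂ ≫ T.hom)
    let W' : Over S := Over.mk (i₁ ≫ W.hom)
    let i₂' : T' ⟶ T := Over.homMk i₂ rfl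
    let i₁' : W' ⟶ W := Over.homMk i₁ rfl
    let f'' : W' ⟶ T' := Over.homMk f' (by
      simp only [T', W', Over.mk_hom]
      rw [← Category.assoc, e1, Category.assoc, Over.w])
    have sqO : IsPullback ((yon S).map f'') ((yon S).map i₁') ((yon S).map i₂')
        ((yon S).map snd) := yon_isPullback_of_left f'' i₁' i₂' snd hpb
    have big : IsPullback ((yon S).map i₁' ≫ fst) ((yon S).map f'') f ((yon S).map i₂' ≫ g) :=
      sqO.flip.paste_horiz sq
    have h1 : Q ((yon S).map f'') := h (IsAlgSpace.yon_obj T') _ _ _ big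
    exact (hQyon f'').mp h1

end Generic

end Groth.Agent.Helper2.AlgSpBasic
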