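import Mathlib
import Groth.Prelude.Def_AlgSp4
import Groth.Prelude.Def_SGA1
import Groth.Prelude.Def_Flat
import Groth.Agent.Lib.Helper2.AlgSp.PointsMor
namespace Groth.Agent.Helper2.AlgSpBasic
open CategoryTheory CategoryTheory.Limits AlgebraicGeometry Opposite AlgSp Topology
universe u
variable {S : Scheme.{u}}

/-! ### Homeomorphism invariance of the five topological properties -/

section HomeoInv
variable {α β α' β' : Type*} [TopologicalSpace α] [TopologicalSpace β] [TopologicalSpace α']
  [TopologicalSpace β'] (e₁ : α ≃ₜ α') (e₂ : β ≃ₜ β') (φ : α → β)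

theorem conj_eq (φ : α → β) : φ = e₂.symm ∘ (e₂ ∘ φ ∘ e₁.symm) ∘ e₁ := by
  funext x; simp

theorem isOpenMap_conj_iff : IsOpenMap (e₂ ∘ φ ∘ e₁.symm) ↔ IsOpenMap φ := by
  constructor
  · intro h
    rw [conj_eq e₁ e₂ φ]
    exact e₂.symm.isOpenMap.comp (h.comp e₁.isOpenMap)
  · intro h
    exact e₂.isOpenMap.comp (h.comp e₁.symm.isOpenMap)

theorem isClosedMap_conj_iff : IsClosedMap (e₂ ∘ φ ∘ e₁.symm) ↔ IsClosedMap φ := by
  constructor
  · intro h
    rw [conj_eq e₁ e₂ φ]
    exact e₂.symm.isClosedMap.comp (h.comp e₁.isClosedMap)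
  · intro h
    exact e₂.isClosedMap.comp (h.comp e₁.symm.isClosedMap)

theorem injective_conj_iff : Function.Injective (e₂ ∘ φ ∘ e₁.symm) ↔ Function.Injective φ := by
  constructor
  · intro h
    rw [conj_eq e₁ e₂ φ]
    exact e₂.symm.injective.comp (h.comp e₁.injective)
  · intro h
    exact e₂.injective.comp (h.comp e₁.symm.injective)

theorem isQuotientMap_conj_iff : IsQuotientMap (e₂ ∘ φ ∘ e₁.symm) ↔ IsQuotientMap φ := by
  constructor
  · intro h
    rw [conj_eq e₁ e₂ φ]
    exact e₂.symm.isQuotientMap.comp (h.comp e₁.isQuotientMap)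
  · intro h
    exact e₂.isQuotientMap.comp (h.comp e₁.symm.isQuotientMap)

theorem isHomeomorph_conj_iff : IsHomeomorph (e₂ ∘ φ ∘ e₁.symm) ↔ IsHomeomorph φ := by
  constructor
  · intro h
    rw [conj_eq e₁ e₂ φ]
    exact e₂.symm.isHomeomorph.comp (h.comp e₁.isHomeomorph)
  · intro h
    exact e₂.isHomeomorph.comp (h.comp e₁.symm.isHomeomorph)

end HomeoInv

/-! ### Open -/

theorem isOpenMor_iso_comp {A B C : Sp S} (e : A ≅ B) (q : B ⟶ C) (h : IsOpenMor q) :
    IsOpenMor (e.hom ≫ q) := by
  show IsOpenMap (Points.map (e.hom ≫ q))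
  rw [points_map_iso_comp]
  exact IsOpenMap.comp h (pointsHomeoOfIso e).isOpenMap

theorem isOpenMor_yon_map_iff {W T : Over S} (φ : W ⟶ T) :
    IsOpenMor ((yon S).map φ) ↔ IsOpenMap φ.left := by
  show IsOpenMap (Points.map ((yon S).map φ)) ↔ _
  rw [Points.map_yon_map_eq]
  exact isOpenMap_conj_iff (Points.schemeHomeo W) (Points.schemeHomeo T) _

theorem isUnivOpenMor_of_affine {X Y : Sp S} (f : X ⟶ Y)
    (h : ∀ (Z : Over S), IsAffine Z.left → ∀ (g : (yon S).obj Z ⟶ Y) (P : Sp S)
      (fst : P ⟶ X) (snd : P ⟶ (yon S).obj Z), IsPullback fst snd f g →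
      IsOpenMap (Points.map snd)) : IsUnivOpenMor f :=
  univSp_of_affine IsOpenMor (fun q T a hae hs P fst snd sq h =>
    isOpenMap_points_of_chartFamily q T a hae hs P fst snd sq h) f h

theorem isUnivOpenMor_of_etale_cover {X Y : Sp S} (f : X ⟶ Y) {V : Over S}
    (p : (yon S).obj V ⟶ Y) (hp : RepWith @Etale p) (hps : RepWith @Surjective p)
    {P : Sp S} (fst : P ⟶ X) (snd : P ⟶ (yon S).obj V) (sq : IsPullback fst snd f p)
    (h : IsUnivOpenMor snd) : IsUnivOpenMor f :=
  univSp_of_etale_cover IsOpenMor (fun q T a hae hs P fst snd sq h =>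
    isOpenMap_points_of_chartFamily q T a hae hs P fst snd sq h) f p hp hps fst snd sq h

theorem repWith_universallyOpen_iff {X Y : Sp S} (f : X ⟶ Y) (hrep : Representable f) :
    RepWith @UniversallyOpen f ↔ IsUnivOpenMor f := by
  rw [UniversallyOpen.eq]
  exact repWith_universally_iff_univSp IsOpenMor (fun q T a hae hs P fst snd sq h =>
    isOpenMap_points_of_chartFamily q T a hae hs P fst snd sq h) (@IsOpenMap)
    isOpenMor_iso_comp isOpenMor_yon_map_iff f hrep

/-! ### Closed -/

theorem isClosedMor_iso_comp {A B C : Sp S} (e : A ≅ B) (q : B ⟶ C) (h : IsClosedMor q) :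
    IsClosedMor (e.hom ≫ q) := by
  show IsClosedMap (Points.map (e.hom ≫ q))
  rw [points_map_iso_comp]
  exact IsClosedMap.comp h (pointsHomeoOfIso e).isClosedMap

theorem isClosedMor_yon_map_iff {W T : Over S} (φ : W ⟶ T) :
    IsClosedMor ((yon S).map φ) ↔ IsClosedMap φ.left := by
  show IsClosedMap (Points.map ((yon S).map φ)) ↔ _
  rw [Points.map_yon_map_eq]
  exact isClosedMap_conj_iff (Points.schemeHomeo W) (Points.schemeHomeo T) _

theorem isUnivClosedMor_of_affine {X Y : Sp S} (f : X ⟶ Y)
    (h : ∀ (Z : Over S), IsAffine Z.left → ∀ (g : (yon S).obj Z ⟶ Y) (P : Sp S)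
      (fst : P ⟶ X) (snd : P ⟶ (yon S).obj Z), IsPullback fst snd f g →
      IsClosedMap (Points.map snd)) : IsUnivClosedMor f :=
  univSp_of_affine IsClosedMor (fun q T a hae hs P fst snd sq h =>
    isClosedMap_points_of_chartFamily q T a hae hs P fst snd sq h) f h

theorem isUnivClosedMor_of_etale_cover {X Y : Sp S} (f : X ⟶ Y) {V : Over S}
    (p : (yon S).obj V ⟶ Y) (hp : RepWith @Etale p) (hps : RepWith @Surjective p)
    {P : Sp S} (fst : P ⟶ X) (snd : P ⟶ (yon S).obj V) (sq : IsPullback fst snd f p)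
    (h : IsUnivClosedMor snd) : IsUnivClosedMor f :=
  univSp_of_etale_cover IsClosedMor (fun q T a hae hs P fst snd sq h =>
    isClosedMap_points_of_chartFamily q T a hae hs P fst snd sq h) f p hp hps fst snd sq h

theorem repWith_universallyClosed_iff {X Y : Sp S} (f : X ⟶ Y) (hrep : Representable f) :
    RepWith @UniversallyClosed f ↔ IsUnivClosedMor f := by
  rw [universallyClosed_eq]
  exact repWith_universally_iff_univSp IsClosedMor (fun q T a hae hs P fst snd sq h =>
    isClosedMap_points_of_chartFamily q T a hae hs P fst snd sq h) (@IsClosedMap)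
    isClosedMor_iso_comp isClosedMor_yon_map_iff f hrep

/-! ### Injective -/

theorem injectiveMor_iso_comp {A B C : Sp S} (e : A ≅ B) (q : B ⟶ C)
    (h : Function.Injective (Points.map q)) : Function.Injective (Points.map (e.hom ≫ q)) := by
  rw [points_map_iso_comp]
  exact h.comp (pointsHomeoOfIso e).injective

theorem injectiveMor_yon_map_iff {W T : Over S} (φ : W ⟶ T) :
    Function.Injective (Points.map ((yon S).map φ)) ↔ Function.Injective φ.left := by
  rw [Points.map_yon_map_eq]
  exact injective_conj_iff (Points.schemeHomeo W) (Points.schemeHomeo T) _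

theorem isUnivInjectiveMor_of_affine {X Y : Sp S} (f : X ⟶ Y)
    (h : ∀ (Z : Over S), IsAffine Z.left → ∀ (g : (yon S).obj Z ⟶ Y) (P : Sp S)
      (fst : P ⟶ X) (snd : P ⟶ (yon S).obj Z), IsPullback fst snd f g →
      Function.Injective (Points.map snd)) : IsUnivInjectiveMor f :=
  univSp_of_affine (fun _ _ f => Function.Injective (Points.map f))
    (fun q T a hae hs P fst snd sq h =>
    injective_points_of_chartFamily q T a hae hs P fst snd sq h) f h

theorem isUnivInjectiveMor_of_etale_cover {X Y : Sp S} (f : X ⟶ Y) {V : Over S}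
    (p : (yon S).obj V ⟶ Y) (hp : RepWith @Etale p) (hps : RepWith @Surjective p)
    {P : Sp S} (fst : P ⟶ X) (snd : P ⟶ (yon S).obj V) (sq : IsPullback fst snd f p)
    (h : IsUnivInjectiveMor snd) : IsUnivInjectiveMor f :=
  univSp_of_etale_cover (fun _ _ f => Function.Injective (Points.map f))
    (fun q T a hae hs P fst snd sq h =>
    injective_points_of_chartFamily q T a hae hs P fst snd sq h) f p hp hps fst snd sq h

theorem repWith_universallyInjective_iff {X Y : Sp S} (f : X ⟶ Y) (hrep : Representable f) :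
    RepWith @UniversallyInjective f ↔ IsUnivInjectiveMor f := by
  rw [universallyInjective_eq]
  exact repWith_universally_iff_univSp (fun _ _ f => Function.Injective (Points.map f))
    (fun q T a hae hs P fst snd sq h =>
    injective_points_of_chartFamily q T a hae hs P fst snd sq h) (Function.Injective ·)
    injectiveMor_iso_comp injectiveMor_yon_map_iff f hrep

/-! ### Submersive -/

theorem isSubmersiveMor_iso_comp {A B C : Sp S} (e : A ≅ B) (q : B ⟶ C)
    (h : IsSubmersiveMor q) : IsSubmersiveMor (e.hom ≫ q) := by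
  show IsQuotientMap (Points.map (e.hom ≫ q))
  rw [points_map_iso_comp]
  exact IsQuotientMap.comp h (pointsHomeoOfIso e).isQuotientMap

theorem isSubmersiveMor_yon_map_iff {W T : Over S} (φ : W ⟶ T) :
    IsSubmersiveMor ((yon S).map φ) ↔ IsQuotientMap φ.left := by
  show IsQuotientMap (Points.map ((yon S).map φ)) ↔ _
  rw [Points.map_yon_map_eq]
  exact isQuotientMap_conj_iff (Points.schemeHomeo W) (Points.schemeHomeo T) _

theorem isUnivSubmersiveMor_of_affine {X Y : Sp S} (f : X ⟶ Y)
    (h : ∀ (Z : Over S), IsAffine Z.left → ∀ (g : (yon S).obj Z ⟶ Y) (P : Sp S)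
      (fst : P ⟶ X) (snd : P ⟶ (yon S).obj Z), IsPullback fst snd f g →
      IsQuotientMap (Points.map snd)) : IsUnivSubmersiveMor f :=
  univSp_of_affine IsSubmersiveMor (fun q T a hae hs P fst snd sq h =>
    isQuotientMap_points_of_chartFamily q T a hae hs P fst snd sq h) f h

theorem isUnivSubmersiveMor_of_etale_cover {X Y : Sp S} (f : X ⟶ Y) {V : Over S}
    (p : (yon S).obj V ⟶ Y) (hp : RepWith @Etale p) (hps : RepWith @Surjective p)
    {P : Sp S} (fst : P ⟶ X) (snd : P ⟶ (yon S).obj V) (sq : IsPullback fst snd f p)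
    (h : IsUnivSubmersiveMor snd) : IsUnivSubmersiveMor f :=
  univSp_of_etale_cover IsSubmersiveMor (fun q T a hae hs P fst snd sq h =>
    isQuotientMap_points_of_chartFamily q T a hae hs P fst snd sq h) f p hp hps fst snd sq h

theorem repWith_univSubmersive_iff {X Y : Sp S} (f : X ⟶ Y) (hrep : Representable f) :
    RepWith SGA1.UnivSubmersive f ↔ IsUnivSubmersiveMor f :=
  repWith_universally_iff_univSp IsSubmersiveMor (fun q T a hae hs P fst snd sq h =>
    isQuotientMap_points_of_chartFamily q T a hae hs P fst snd sq h)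
    (fun f => Topology.IsQuotientMap f)
    isSubmersiveMor_iso_comp isSubmersiveMor_yon_map_iff f hrep

/-! ### Homeomorphism -/

theorem homeoMor_iso_comp {A B C : Sp S} (e : A ≅ B) (q : B ⟶ C)
    (h : IsHomeomorph (Points.map q)) : IsHomeomorph (Points.map (e.hom ≫ q)) := by
  rw [points_map_iso_comp]
  exact h.comp (pointsHomeoOfIso e).isHomeomorph

theorem homeoMor_yon_map_iff {W T : Over S} (φ : W ⟶ T) :
    IsHomeomorph (Points.map ((yon S).map φ)) ↔ IsHomeomorph φ.left := by
  rw [Points.map_yon_map_eq]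
  exact isHomeomorph_conj_iff (Points.schemeHomeo W) (Points.schemeHomeo T) _

theorem isUnivHomeoMor_of_affine {X Y : Sp S} (f : X ⟶ Y)
    (h : ∀ (Z : Over S), IsAffine Z.left → ∀ (g : (yon S).obj Z ⟶ Y) (P : Sp S)
      (fst : P ⟶ X) (snd : P ⟶ (yon S).obj Z), IsPullback fst snd f g →
      IsHomeomorph (Points.map snd)) : IsUnivHomeoMor f :=
  univSp_of_affine (fun _ _ f => IsHomeomorph (Points.map f))
    (fun q T a hae hs P fst snd sq h =>
    isHomeomorph_points_of_chartFamily q T a hae hs P fst snd sq h) f h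

theorem isUnivHomeoMor_of_etale_cover {X Y : Sp S} (f : X ⟶ Y) {V : Over S}
    (p : (yon S).obj V ⟶ Y) (hp : RepWith @Etale p) (hps : RepWith @Surjective p)
    {P : Sp S} (fst : P ⟶ X) (snd : P ⟶ (yon S).obj V) (sq : IsPullback fst snd f p)
    (h : IsUnivHomeoMor snd) : IsUnivHomeoMor f :=
  univSp_of_etale_cover (fun _ _ f => IsHomeomorph (Points.map f))
    (fun q T a hae hs P fst snd sq h =>
    isHomeomorph_points_of_chartFamily q T a hae hs P fst snd sq h) f p hp hps fst snd sq h

theorem repWith_isUnivHomeo_iff {X Y : Sp S} (f : X ⟶ Y) (hrep : Representable f) :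
    RepWith FlatMor.IsUnivHomeo f ↔ IsUnivHomeoMor f :=
  repWith_universally_iff_univSp (fun _ _ f => IsHomeomorph (Points.map f))
    (fun q T a hae hs P fst snd sq h =>
    isHomeomorph_points_of_chartFamily q T a hae hs P fst snd sq h)
    (fun f => IsHomeomorph f)
    homeoMor_iso_comp homeoMor_yon_map_iff f hrep

end Groth.Agent.Helper2.AlgSpBasic
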