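import Mathlib
import Groth.Prelude.Def_AlgSp4
import Groth.Agent.Lib.Helper2.AlgSp.UnivTop
import Groth.Agent.Lib.Helper2.AlgSp.Mor
namespace Groth.Agent.Helper2.AlgSpBasic
open CategoryTheory CategoryTheory.Limits AlgebraicGeometry Opposite AlgSp Topology
universe u
variable {S : Scheme.{u}}

/-- A compact open subset of the points of an algebraic space is the image of an affine étale
chart. -/
theorem exists_affine_chart_of_isCompact_isOpen {X : Sp S} (hX : IsAlgSpace X)
    (V : Set (Points X)) (hVo : IsOpen V) (hVc : IsCompact V) :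
    ∃ (U : Over S) (p : (yon S).obj U ⟶ X),
      IsAffine U.left ∧ RepWith @Etale p ∧ Set.range (Points.ofPt p) = V := by
  classical
  obtain ⟨U₀, p₀, hpe, hps⟩ := hX.atlas
  have hopen : IsOpen (Points.ofPt p₀ ⁻¹' V) := hVo.preimage (Points.continuous_ofPt p₀)
  -- affine opens inside the preimage
  have hex : ∀ u : ↥(Points.ofPt p₀ ⁻¹' V), ∃ W : U₀.left.Opens, IsAffineOpen W ∧ u.1 ∈ W ∧
      (W : Set U₀.left) ⊆ Points.ofPt p₀ ⁻¹' V := fun u => by
    obtain ⟨W, hW, huW, hWV⟩ := exists_isAffineOpen_mem_and_subset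
      (x := u.1) (U := ⟨Points.ofPt p₀ ⁻¹' V, hopen⟩) u.2
    exact ⟨W, hW, huW, hWV⟩
  choose W hWaff hWmem hWsub using hex
  let O : ↥(Points.ofPt p₀ ⁻¹' V) → Set (Points X) := fun u => Points.ofPt p₀ '' (W u : Set U₀.left)
  have hO : ∀ u, IsOpen (O u) := fun u => isOpenMap_ofPt p₀ hpe _ (W u).isOpen
  have hcov : V ⊆ ⋃ u, O u := by
    intro x hx
    obtain ⟨u, rfl⟩ := surjective_ofPt p₀ hps x
    exact Set.mem_iUnion.mpr ⟨⟨u, hx⟩, u, hWmem ⟨u, hx⟩, rfl⟩
  obtain ⟨t, ht⟩ := hVc.elim_finite_subcover O hO hcov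
  let g : ↥t → Scheme.{u} := fun i => (W i.1).toScheme
  have hg : ∀ i, IsAffine (g i) := fun i => hWaff i.1
  let h : ∀ i : ↥t, g i ⟶ U₀.left := fun i => (W i.1).ι
  have hh : ∀ i, Etale (h i) := fun i => inferInstance
  let j : (∐ g) ⟶ U₀.left := Sigma.desc h
  have hj : Etale j := etale_sigma_desc g h
  let U' : Over S := Over.mk (j ≫ U₀.hom)
  let jO : U' ⟶ U₀ := Over.homMk j rfl
  refine ⟨U', (yon S).map jO ≫ p₀, (inferInstance : IsAffine (∐ g)), ?_, ?_⟩
  · exact repWith_comp @Etale ((repWith_yon_map_iff @Etale jO).mpr hj) hpe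
  · apply Set.Subset.antisymm
    · rintro _ ⟨y, rfl⟩
      rw [ofPt_yon_map_comp]
      show Points.ofPt p₀ (j y) ∈ V
      obtain ⟨i, z, rfl⟩ := (sigmaOpenCover g).exists_eq y
      change ↥t at i
      have : j ((Sigma.ι g i) z) = (h i) z := by
        rw [← Scheme.Hom.comp_apply]
        show (Sigma.ι g i ≫ Limits.Sigma.desc h) z = _
        rw [Sigma.ι_desc]
      show Points.ofPt p₀ (j ((Sigma.ι g i) z)) ∈ V
      rw [this]
      apply hWsub i.1
      show ((W i.1).ι z) ∈ (W i.1 : Set U₀.left)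
      exact z.2
    · intro x hx
      have hx' := ht hx
      simp only [Set.mem_iUnion] at hx'
      obtain ⟨i, hi, u, hu, rfl⟩ := hx'
      refine ⟨Sigma.ι g ⟨i, hi⟩ ⟨u, hu⟩, ?_⟩
      rw [ofPt_yon_map_comp]
      congr 1
      show (Sigma.ι g ⟨i, hi⟩ ≫ Limits.Sigma.desc h) _ = _
      rw [Sigma.ι_desc]
      rfl

theorem compactSpace_points_of_isSurjectiveMor {A B : Sp S} (h : A ⟶ B)
    (hs : IsSurjectiveMor h) [CompactSpace (Points A)] : CompactSpace (Points B) :=
  Function.Surjective.compactSpace (f := Points.map h) (Points.continuous_map h) hs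

theorem isQuasiCompactSp_of_isSurjectiveMor {A B : Sp S} (hA : IsAlgSpace A) (hB : IsAlgSpace B)
    (h : A ⟶ B) (hs : IsSurjectiveMor h) (hq : IsQuasiCompactSp A) : IsQuasiCompactSp B := by
  haveI := (isQuasiCompactSp_iff_compactSpace_points hA).mp hq
  exact (isQuasiCompactSp_iff_compactSpace_points hB).mpr
    (compactSpace_points_of_isSurjectiveMor h hs)

/-- The base change of a representable surjective map is surjective on points. -/
theorem isSurjectiveMor_fst_of_isPullback {A B C D : Sp S} {f' : A ⟶ B} {g' : A ⟶ C} {g : B ⟶ D}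
    {f : C ⟶ D} (sq : IsPullback f' g' g f) (hf : RepWith @Surjective f) :
    IsSurjectiveMor f' :=
  isSurjectiveMor_of_repWith_surjective f' (repWith_of_isPullback @Surjective sq.flip hf)

/-- Quasi-compactness may be tested on affine schemes. -/
theorem isQuasiCompactMor_of_affine {X Y : Sp S} (hX : IsAlgSpace X)
    (hY : Representable (Limits.diag Y)) (f : X ⟶ Y)
    (h : ∀ (Z : Over S), IsAffine Z.left → ∀ (g : (yon S).obj Z ⟶ Y) (P : Sp S)
      (fst : P ⟶ X) (snd : P ⟶ (yon S).obj Z), IsPullback fst snd f g → IsQuasiCompactSp P) :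
    IsQuasiCompactMor f := by
  intro Z Z' hZ hZq g fst snd sq
  have hZ' : IsAlgSpace Z' := isAlgSpace_of_isPullback hY hX hZ f g fst snd sq
  obtain ⟨T, a, hT, hae, has⟩ := (isQuasiCompactSp_iff_exists_affine_chart hZ).mp hZq
  have sqT := IsPullback.of_hasPullback snd a
  have hPT : IsAlgSpace (pullback snd a) :=
    isAlgSpace_of_isPullback hZ.diag hZ' (IsAlgSpace.yon_obj T) snd a _ _ sqT
  have hq : IsQuasiCompactSp (pullback snd a) :=
    h T hT (a ≫ g) _ (pullback.fst snd a ≫ fst) (pullback.snd snd a) (sqT.paste_horiz sq)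
  exact isQuasiCompactSp_of_isSurjectiveMor hPT hZ' (pullback.fst snd a)
    (isSurjectiveMor_fst_of_isPullback sqT has) hq

theorem isQuasiCompactSp_yon_iff (W : Over S) :
    IsQuasiCompactSp ((yon S).obj W) ↔ CompactSpace ↥W.left := by
  rw [isQuasiCompactSp_iff_compactSpace_points (IsAlgSpace.yon_obj W)]
  exact ⟨fun h => (Points.schemeHomeo W).symm.compactSpace,
    fun h => (Points.schemeHomeo W).compactSpace⟩

theorem isQuasiCompactSp_of_iso {A B : Sp S} (hA : IsAlgSpace A) (hB : IsAlgSpace B) (e : A ≅ B)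
    (h : IsQuasiCompactSp A) : IsQuasiCompactSp B := by
  haveI := (isQuasiCompactSp_iff_compactSpace_points hA).mp h
  exact (isQuasiCompactSp_iff_compactSpace_points hB).mpr (pointsHomeoOfIso e).compactSpace

/-- `S9915`: quasi-compactness passes to the target of a surjection in a triangle. -/
theorem isQuasiCompactMor_of_surjective_triangle {X Y Z : Sp S} (hX : IsAlgSpace X)
    (hY : IsAlgSpace Y) (hZ : Representable (Limits.diag Z)) (f : X ⟶ Y) (q : Y ⟶ Z)
    (hf : IsSurjectiveMor f) (hp : IsQuasiCompactMor (f ≫ q)) : IsQuasiCompactMor q := by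
  intro T Y' hT hTq g fst snd sq
  have hY' : IsAlgSpace Y' := isAlgSpace_of_isPullback hZ hY hT q g fst snd sq
  have sqX := IsPullback.of_hasPullback f fst
  have hX' : IsAlgSpace (pullback f fst) :=
    isAlgSpace_of_isPullback hY.diag hX hY' f fst _ _ sqX
  have big : IsPullback (pullback.fst f fst) (pullback.snd f fst ≫ snd) (f ≫ q) g :=
    sqX.paste_vert sq
  have hq : IsQuasiCompactSp (pullback f fst) := hp hT hTq g _ _ big
  exact isQuasiCompactSp_of_isSurjectiveMor hX' hY' (pullback.snd f fst)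
    (isSurjectiveMor_of_isPullback f fst _ _ sqX hf) hq

/-- Descent of quasi-compactness along a base change which is open and surjective on points
after every further base change. -/
theorem isQuasiCompactMor_of_open_surjective_base_change {X Y Y' X' : Sp S}
    (hX : IsAlgSpace X) (hY : IsAlgSpace Y) (hY' : IsAlgSpace Y')
    (f : X ⟶ Y) (g : Y' ⟶ Y) (fst : X' ⟶ X) (f' : X' ⟶ Y') (sq : IsPullback fst f' f g)
    (H : ∀ ⦃Z W : Sp S⦄, IsAlgSpace Z → ∀ (h : Z ⟶ Y) (π₁ : W ⟶ Z) (π₂ : W ⟶ Y'),
      IsPullback π₁ π₂ h g → IsOpenMap (Points.map π₁) ∧ Function.Surjective (Points.map π₁))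
    (hf' : IsQuasiCompactMor f') : IsQuasiCompactMor f := by
  classical
  intro Z Z' hZ hZq h a b sqZ
  have hZ' : IsAlgSpace Z' := isAlgSpace_of_isPullback hY.diag hX hZ f h a b sqZ
  haveI := (isQuasiCompactSp_iff_compactSpace_points hZ).mp hZq
  have sqW := IsPullback.of_hasPullback h g
  have hW : IsAlgSpace (pullback h g) :=
    isAlgSpace_of_isPullback hY.diag hZ hY' h g _ _ sqW
  obtain ⟨hopen, hsurj⟩ := H hZ h _ _ sqW
  -- compact open neighbourhoods upstairs
  have hex : ∀ z : Points Z, ∃ K : Set (Points (pullback h g)), IsOpen K ∧ IsCompact K ∧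
      z ∈ Points.map (pullback.fst h g) '' K := fun z => by
    obtain ⟨w, rfl⟩ := hsurj z
    obtain ⟨K, hKo, hKc, hwK, -⟩ := exists_isOpen_isCompact_nhd hW w Set.univ isOpen_univ
      (Set.mem_univ _)
    exact ⟨K, hKo, hKc, w, hwK, rfl⟩
  choose K hKo hKc hzK using hex
  obtain ⟨t, ht⟩ := isCompact_univ.elim_finite_subcover
    (fun z => Points.map (pullback.fst h g) '' K z) (fun z => hopen _ (hKo z))
    (fun z _ => Set.mem_iUnion.mpr ⟨z, hzK z⟩)
  let K₀ : Set (Points (pullback h g)) := ⋃ z ∈ t, K z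
  have hK₀o : IsOpen K₀ := isOpen_biUnion fun z _ => hKo z
  have hK₀c : IsCompact K₀ := t.isCompact_biUnion fun z _ => hKc z
  obtain ⟨T, c, hT, hce, hcr⟩ := exists_affine_chart_of_isCompact_isOpen hW K₀ hK₀o hK₀c
  -- `c ≫ π₁` is surjective on points
  have hcs : IsSurjectiveMor (c ≫ pullback.fst h g) := by
    intro z
    have hz := ht (Set.mem_univ z)
    simp only [Set.mem_iUnion] at hz
    obtain ⟨z₀, hz₀, w, hw, rfl⟩ := hz
    have hwK₀ : w ∈ K₀ := Set.mem_biUnion hz₀ hw
    rw [← hcr] at hwK₀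
    obtain ⟨τ, rfl⟩ := hwK₀
    exact ⟨Points.ofScheme T τ, by
      rw [Points.map_comp, ← Points.ofPt_eq_map_ofScheme]⟩
  -- the base change of `Z'` to `T`
  have sqT := IsPullback.of_hasPullback b (c ≫ pullback.fst h g)
  have hZT : IsAlgSpace (pullback b (c ≫ pullback.fst h g)) :=
    isAlgSpace_of_isPullback hZ.diag hZ' (IsAlgSpace.yon_obj T) b _ _ _ sqT
  have big : IsPullback (pullback.fst b (c ≫ pullback.fst h g) ≫ a)
      (pullback.snd b (c ≫ pullback.fst h g)) f ((c ≫ pullback.fst h g) ≫ h) :=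
    sqT.paste_horiz sqZ
  have e1 : (c ≫ pullback.fst h g) ≫ h = (c ≫ pullback.snd h g) ≫ g := by
    rw [Category.assoc, Category.assoc, pullback.condition]
  rw [e1] at big
  have hl : (pullback.fst b (c ≫ pullback.fst h g) ≫ a) ≫ f =
      (pullback.snd b (c ≫ pullback.fst h g) ≫ c ≫ pullback.snd h g) ≫ g := by
    rw [Category.assoc _ _ g]; exact big.w
  have sqT' : IsPullback (sq.lift _ _ hl) (pullback.snd b (c ≫ pullback.fst h g)) f'
      (c ≫ pullback.snd h g) := by
    refine IsPullback.of_right ?_ (sq.lift_snd _ _ hl) sq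
    rw [sq.lift_fst]; exact big
  have hTq : IsQuasiCompactSp ((yon S).obj T) := (isQuasiCompactSp_yon_iff T).mpr inferInstance
  have hq : IsQuasiCompactSp (pullback b (c ≫ pullback.fst h g)) :=
    hf' (IsAlgSpace.yon_obj T) hTq _ _ _ sqT'
  exact isQuasiCompactSp_of_isSurjectiveMor hZT hZ' (pullback.fst b (c ≫ pullback.fst h g))
    (isSurjectiveMor_of_isPullback _ _ _ _ sqT.flip hcs) hq

/-- Quasi-compactness of morphisms is stable under base change. -/
theorem isQuasiCompactMor_of_isPullback {X Y Y' X' : Sp S} {f : X ⟶ Y} {g : Y' ⟶ Y}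
    {fst : X' ⟶ X} {f' : X' ⟶ Y'} (sq : IsPullback fst f' f g) (hf : IsQuasiCompactMor f) :
    IsQuasiCompactMor f' := by
  intro Z Z' hZ hZq h a b sqZ
  exact hf hZ hZq (h ≫ g) (a ≫ fst) b (sqZ.paste_horiz sq)

/-- Quasi-compact morphisms compose. -/
theorem isQuasiCompactMor_comp {X Y Z : Sp S} (hY : IsAlgSpace Y)
    (hZ : Representable (Limits.diag Z)) (f : X ⟶ Y) (g : Y ⟶ Z) (hf : IsQuasiCompactMor f)
    (hg : IsQuasiCompactMor g) : IsQuasiCompactMor (f ≫ g) := by
  intro T X' hT hTq h a b sqT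
  have sqY := IsPullback.of_hasPullback g h
  have hY' : IsAlgSpace (pullback g h) := isAlgSpace_of_isPullback hZ hY hT g h _ _ sqY
  have hY'q : IsQuasiCompactSp (pullback g h) := hg hT hTq h _ _ sqY
  have hl : (a ≫ f) ≫ g = b ≫ h := by rw [Category.assoc]; exact sqT.w
  have sqX : IsPullback a (sqY.lift (a ≫ f) b hl) f (pullback.fst g h) := by
    refine IsPullback.of_bot ?_ (sqY.lift_fst _ _ hl).symm sqY
    rw [sqY.lift_snd]; exact sqT
  exact hf hY' hY'q _ _ _ sqX

/-- For representable `f`, representable quasi-compactness gives quasi-compactness. -/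
theorem isQuasiCompactMor_of_repWith {X Y : Sp S} (hX : IsAlgSpace X)
    (hY : Representable (Limits.diag Y)) (f : X ⟶ Y) (hf : RepWith @QuasiCompact f) :
    IsQuasiCompactMor f := by
  refine isQuasiCompactMor_of_affine hX hY f fun T hT g P fst snd sq => ?_
  have hrep := hf.rep
  have sqW := hrep.isPullback g
  have hqc : QuasiCompact (hrep.snd g).left := hf.property g _ _ sqW
  haveI : CompactSpace ↥(hrep.pullback g).left :=
    QuasiCompact.compactSpace_of_compactSpace (hrep.snd g).left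
  have hP : IsAlgSpace P :=
    isAlgSpace_of_isPullback hY hX (IsAlgSpace.yon_obj T) f g fst snd sq
  exact isQuasiCompactSp_of_iso (IsAlgSpace.yon_obj _) hP (sq.isoIsPullback _ _ sqW).symm
    ((isQuasiCompactSp_yon_iff _).mpr inferInstance)

theorem repWith_quasiCompact_of_isQuasiCompactMor {X Y : Sp S} (f : X ⟶ Y)
    (hrep : Representable f) (hf : IsQuasiCompactMor f) : RepWith @QuasiCompact f := by
  refine repWith_of_forall_affine f hrep @QuasiCompact fun T E g fst snd hT sq => ?_
  have hTq : IsQuasiCompactSp ((yon S).obj T) := (isQuasiCompactSp_yon_iff T).mpr inferInstance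
  have hE : IsQuasiCompactSp ((yon S).obj E) := hf (IsAlgSpace.yon_obj T) hTq g fst _ sq
  haveI := (isQuasiCompactSp_yon_iff E).mp hE
  exact (HasAffineProperty.iff_of_isAffine (P := @QuasiCompact)).mpr inferInstance

/-- `S9913`. -/
theorem isCompact_preimage_of_isQuasiCompactMor {X Y : Sp S} (hX : IsAlgSpace X)
    (hY : IsAlgSpace Y) (f : X ⟶ Y) (hf : IsQuasiCompactMor f) (V : Set (Points Y))
    (hV : IsOpen V) (hVc : IsCompact V) : IsCompact (Points.map f ⁻¹' V) := by
  obtain ⟨T, a, hT, hae, har⟩ := exists_affine_chart_of_isCompact_isOpen hY V hV hVc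
  have sq := IsPullback.of_hasPullback f a
  have hP : IsAlgSpace (pullback f a) :=
    isAlgSpace_of_isPullback hY.diag hX (IsAlgSpace.yon_obj T) f a _ _ sq
  have hTq : IsQuasiCompactSp ((yon S).obj T) := (isQuasiCompactSp_yon_iff T).mpr inferInstance
  have hq : IsQuasiCompactSp (pullback f a) := hf (IsAlgSpace.yon_obj T) hTq a _ _ sq
  haveI := (isQuasiCompactSp_iff_compactSpace_points hP).mp hq
  have : Points.map f ⁻¹' V = Set.range (Points.map (pullback.fst f a)) := by
    ext x
    constructor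
    · intro hx
      rw [Set.mem_preimage, ← har] at hx
      obtain ⟨t, ht⟩ := hx
      rw [Points.ofPt_eq_map_ofScheme] at ht
      obtain ⟨p, hp1, -⟩ := points_exists_of_isPullback a f (pullback.fst f a)
        (pullback.snd f a) sq x (Points.ofScheme T t) ht.symm
      exact ⟨p, hp1⟩
    · rintro ⟨p, rfl⟩
      rw [Set.mem_preimage, ← Points.map_comp, pullback.condition, Points.map_comp, ← har]
      obtain ⟨t, ht⟩ := (Points.schemeHomeo T).surjective (Points.map (pullback.snd f a) p)
      refine ⟨t, ?_⟩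
      rw [Points.ofPt_eq_map_ofScheme, ← ht]
      rfl
  rw [this]
  exact isCompact_range (Points.continuous_map _)

/-- `S9919`. -/
theorem isQuasiCompactMor_of_comp_of_isQuasiSeparatedMor {X Y Z : Sp S} (hX : IsAlgSpace X)
    (hY : IsAlgSpace Y) (hZ : IsAlgSpace Z) (f : X ⟶ Y) (g : Y ⟶ Z)
    (hgf : IsQuasiCompactMor (f ≫ g)) (hg : IsQuasiSeparatedMor g) : IsQuasiCompactMor f := by
  have sq := IsPullback.of_hasPullback (f ≫ g) g
  have hP : IsAlgSpace (pullback (f ≫ g) g) :=
    isAlgSpace_of_isPullback hZ.diag hX hY _ _ _ _ sq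
  have h1 : IsQuasiCompactMor (pullback.snd (f ≫ g) g) := isQuasiCompactMor_of_isPullback sq hgf
  have sqΓ := pullback_lift_diagonal_isPullback f g
  have h2 : RepWith @QuasiCompact (pullback.lift (𝟙 X) f (by simp) : X ⟶ pullback (f ≫ g) g) :=
    repWith_of_isPullback @QuasiCompact sqΓ hg
  have h3 : IsQuasiCompactMor (pullback.lift (𝟙 X) f (by simp) : X ⟶ pullback (f ≫ g) g) :=
    isQuasiCompactMor_of_repWith hX hP.diag _ h2
  have h4 := isQuasiCompactMor_comp hP hY.diag _ _ h3 h1
  rwa [pullback.lift_snd] at h4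

/-- Over a quasi-separated base, a map from a quasi-compact scheme to a quasi-separated sheaf
is quasi-compact. -/
theorem isQuasiCompactMor_from_compact_scheme [QuasiSeparatedSpace ↥S] {Y : Sp S}
    (hY : IsQuasiSeparatedSp Y) {U : Over S} [CompactSpace ↥U.left] (a : (yon S).obj U ⟶ Y) :
    IsQuasiCompactMor a := by
  have hYd : Representable (Limits.diag Y) := hY.rep
  refine isQuasiCompactMor_of_affine (IsAlgSpace.yon_obj U) hYd a fun T hT g P fst snd sq => ?_
  obtain ⟨E, e₁, e₂, sqE⟩ := exists_isPullback_yon hYd a g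
  haveI : CompactSpace ↥E.left :=
    compactSpace_of_isPullback_of_isQuasiSeparatedSp hY U T E a g e₁ e₂ sqE
  have hP : IsAlgSpace P :=
    isAlgSpace_of_isPullback hYd (IsAlgSpace.yon_obj U) (IsAlgSpace.yon_obj T) a g fst snd sq
  exact isQuasiCompactSp_of_iso (IsAlgSpace.yon_obj _) hP (sq.isoIsPullback _ _ sqE).symm
    ((isQuasiCompactSp_yon_iff _).mpr inferInstance)

/-- `S9920`. -/
theorem isQuasiCompactMor_of_quasiCompactSp_quasiSeparatedSp [QuasiSeparatedSpace ↥S]
    {X Y : Sp S} (hX : IsAlgSpace X) (hY : IsAlgSpace Y) (f : X ⟶ Y)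
    (hXq : IsQuasiCompactSp X) (hYq : IsQuasiSeparatedSp Y) : IsQuasiCompactMor f := by
  obtain ⟨U, a, hU, hae, has⟩ := (isQuasiCompactSp_iff_exists_affine_chart hX).mp hXq
  have h1 : IsQuasiCompactMor (a ≫ f) := isQuasiCompactMor_from_compact_scheme hYq (a ≫ f)
  exact isQuasiCompactMor_of_surjective_triangle (IsAlgSpace.yon_obj U) hX hY.diag a f
    (isSurjectiveMor_of_repWith_surjective a has) h1

/-- `A ×_Y B` is the base change of the diagonal of `Y` along `f × g`. -/
theorem isPullback_prod_lift_diag {A B Y : Sp S} (f : A ⟶ Y) (g : B ⟶ Y) :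
    IsPullback (prod.lift (pullback.fst f g) (pullback.snd f g)) (pullback.fst f g ≫ f)
      (prod.map f g) (Limits.diag Y) := by
  refine IsPullback.mk' ?_ ?_ ?_
  · apply Limits.prod.hom_ext
    · rw [Category.assoc, prod.map_fst, ← Category.assoc, prod.lift_fst, Category.assoc]
      simp only [Limits.diag, prod.lift_fst, Category.comp_id]
    · rw [Category.assoc, prod.map_snd, ← Category.assoc, prod.lift_snd, Category.assoc]
      simp only [Limits.diag, prod.lift_snd, Category.comp_id]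
      exact pullback.condition.symm
  · intro T φ φ' h1 _
    have e1 := congrArg (· ≫ prod.fst) h1
    have e2 := congrArg (· ≫ prod.snd) h1
    simp only [Category.assoc, prod.lift_fst, prod.lift_snd] at e1 e2
    exact pullback.hom_ext e1 e2
  · intro T a b hab
    have e1 := congrArg (· ≫ prod.fst) hab
    have e2 := congrArg (· ≫ prod.snd) hab
    simp only [Category.assoc, prod.map_fst, prod.map_snd, Limits.diag, prod.lift_fst,
      prod.lift_snd, Category.comp_id] at e1 e2
    have hc : (a ≫ prod.fst) ≫ f = (a ≫ prod.snd) ≫ g := by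
      rw [Category.assoc, Category.assoc, e1, e2]
    refine ⟨pullback.lift _ _ hc, ?_, ?_⟩
    · apply Limits.prod.hom_ext
      · rw [Category.assoc, prod.lift_fst, pullback.lift_fst]
      · rw [Category.assoc, prod.lift_snd, pullback.lift_snd]
    · rw [← Category.assoc, pullback.lift_fst, Category.assoc, e1]

/-- `S9921`. -/
theorem qcqs_of_isPullback_qcqs [QuasiSeparatedSpace ↥S] {X Y Z P : Sp S}
    (hX : IsAlgSpace X) (hY : IsAlgSpace Y) (hZ : IsAlgSpace Z)
    (f : X ⟶ Y) (g : Z ⟶ Y) (fst : P ⟶ X) (snd : P ⟶ Z) (sq : IsPullback fst snd f g)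
    (hXq : IsQuasiCompactSp X ∧ IsQuasiSeparatedSp X)
    (hYq : IsQuasiSeparatedSp Y)
    (hZq : IsQuasiCompactSp Z ∧ IsQuasiSeparatedSp Z) :
    IsQuasiCompactSp P ∧ IsQuasiSeparatedSp P := by
  have hP : IsAlgSpace P := isAlgSpace_of_isPullback hY.diag hX hZ f g fst snd sq
  refine ⟨?_, ?_⟩
  · exact isQuasiCompactMor_of_quasiCompactSp_quasiSeparatedSp hX hY f hXq.1 hYq hZ hZq.1 g fst
      snd sq
  · -- the diagonal of `P` factors through `P ×_Z P`
    have h1 : RepWith @QuasiCompact (pullback.diagonal f) :=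
      repWith_diagonal_of_repWith_diag _ f hXq.2
    have h2 : RepWith @QuasiCompact (pullback.diagonal snd) :=
      repWith_diagonal_of_isPullback _ sq h1
    have h3 : RepWith @QuasiCompact
        (prod.lift (pullback.fst snd snd) (pullback.snd snd snd)) :=
      repWith_of_isPullback @QuasiCompact (isPullback_prod_lift_diag snd snd).flip hZq.2
    have : Limits.diag P = pullback.diagonal snd ≫
        prod.lift (pullback.fst snd snd) (pullback.snd snd snd) := by
      apply Limits.prod.hom_ext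
      · rw [Category.assoc, prod.lift_fst, prod.lift_fst, pullback.diagonal_fst]
      · rw [Category.assoc, prod.lift_snd, prod.lift_snd, pullback.diagonal_snd]
    show RepWith @QuasiCompact (Limits.diag P)
    rw [this]
    exact repWith_comp @QuasiCompact h2 h3

end Groth.Agent.Helper2.AlgSpBasic
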