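import Mathlib
import Groth.Prelude.Def_AlgSp4
import Groth.Agent.Lib.Helper2.AlgSp.QC
namespace Groth.Agent.Helper2.AlgSpBasic
open CategoryTheory CategoryTheory.Limits AlgebraicGeometry Opposite AlgSp Topology
open Groth.Agent.Helper2.EtaleLocal
universe u
variable {S : Scheme.{u}}

/-- Source cover for openness. -/
theorem isOpenMap_points_of_source_cover {A Z' Z : Sp S} (q : Z' ⟶ Z) (a : A ⟶ Z')
    (ha : IsSurjectiveMor a) (h : IsOpenMap (Points.map (a ≫ q))) : IsOpenMap (Points.map q) := by
  intro W hW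
  have : Points.map q '' W = Points.map (a ≫ q) '' (Points.map a ⁻¹' W) := by
    ext z
    constructor
    · rintro ⟨w, hw, rfl⟩
      obtain ⟨x, rfl⟩ := ha w
      exact ⟨x, hw, Points.map_comp _ _ _⟩
    · rintro ⟨x, hx, rfl⟩
      exact ⟨Points.map a x, hx, (Points.map_comp _ _ _).symm⟩
  rw [this]
  exact h _ (hW.preimage (Points.continuous_map a))

/-- Descent of monomorphisms along an epimorphic base change. -/
theorem mono_of_isPullback_of_epi {X Y V P : Sp S} (f : X ⟶ Y) (p : V ⟶ Y)
    (hepi : ∀ {A : Sp S} (c : A ⟶ Y), Epi (pullback.fst c p))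
    (fst : P ⟶ X) (snd : P ⟶ V) (sq : IsPullback fst snd f p) [Mono snd] : Mono f := by
  refine ⟨fun {A} a b hab => ?_⟩
  haveI := hepi (a ≫ f)
  rw [← cancel_epi (pullback.fst (a ≫ f) p)]
  have c1 : (pullback.fst (a ≫ f) p ≫ a) ≫ f = pullback.snd (a ≫ f) p ≫ p := by
    rw [Category.assoc]; exact pullback.condition
  have c2 : (pullback.fst (a ≫ f) p ≫ b) ≫ f = pullback.snd (a ≫ f) p ≫ p := by
    rw [Category.assoc, ← hab]; exact pullback.condition
  have : sq.lift _ _ c1 = sq.lift _ _ c2 := by
    rw [← cancel_mono snd, sq.lift_snd, sq.lift_snd]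
  have h1 := sq.lift_fst _ _ c1
  rw [this, sq.lift_fst] at h1
  exact h1.symm

theorem epi_pullback_fst_of_etale_surjective {Y V : Sp S} (p : V ⟶ Y) (hp : RepWith @Etale p)
    (hps : RepWith @Surjective p) {A : Sp S} (c : A ⟶ Y) : Epi (pullback.fst c p) := by
  have sq := IsPullback.of_hasPullback c p
  haveI := isLocallySurjective_of_etale_surjective (pullback.fst c p)
    (repWith_of_isPullback @Etale sq.flip hp) (repWith_of_isPullback @Surjective sq.flip hps)
  infer_instance

/-- `S9927`. -/
theorem mono_of_etale_cover {X Y V P : Sp S} (f : X ⟶ Y) (p : V ⟶ Y) (hp : RepWith @Etale p)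
    (hps : RepWith @Surjective p) (fst : P ⟶ X) (snd : P ⟶ V) (sq : IsPullback fst snd f p)
    [Mono snd] : Mono f :=
  mono_of_isPullback_of_epi f p (fun c => epi_pullback_fst_of_etale_surjective p hp hps c)
    fst snd sq

/-- Morphisms of sheaves are determined by their values on representables. -/
theorem hom_ext_yon {A X : Sp S} (a b : A ⟶ X)
    (h : ∀ (T : Over S) (s : (yon S).obj T ⟶ A), s ≫ a = s ≫ b) : a = b := by
  apply Sheaf.hom_ext
  ext T x
  obtain ⟨T⟩ := T
  have := h T ((J S).uliftYonedaEquiv.symm x)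
  have h2 := congrArg (J S).uliftYonedaEquiv this
  rw [GrothendieckTopology.uliftYonedaEquiv_comp, GrothendieckTopology.uliftYonedaEquiv_comp,
    Equiv.apply_symm_apply] at h2
  exact h2

/-- A morphism representable by monomorphisms of schemes is a monomorphism. -/
theorem mono_of_repWith_monomorphisms {X Y : Sp S} (f : X ⟶ Y)
    (hf : RepWith (MorphismProperty.monomorphisms Scheme.{u}) f) : Mono f := by
  refine ⟨fun {A} a b hab => hom_ext_yon a b fun T s => ?_⟩
  have hrep := hf.rep
  have sq := hrep.isPullback ((s ≫ a) ≫ f)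
  have hm : Mono (hrep.snd ((s ≫ a) ≫ f)).left := hf.property _ _ _ sq
  have hm' : Mono (hrep.snd ((s ≫ a) ≫ f)) := (Over.forget S).mono_of_mono_map hm
  have c1 : (s ≫ a) ≫ f = (yon S).map (𝟙 T) ≫ (s ≫ a) ≫ f := by
    rw [CategoryTheory.Functor.map_id, Category.id_comp]
  have c2 : (s ≫ b) ≫ f = (yon S).map (𝟙 T) ≫ (s ≫ a) ≫ f := by
    rw [CategoryTheory.Functor.map_id, Category.id_comp, Category.assoc, Category.assoc, hab]
  obtain ⟨σa, hσa⟩ := (yon S).map_surjective (sq.lift _ _ c1)
  obtain ⟨σb, hσb⟩ := (yon S).map_surjective (sq.lift _ _ c2)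
  have ea : σa ≫ hrep.snd ((s ≫ a) ≫ f) = 𝟙 T :=
    (yon S).map_injective (by rw [Functor.map_comp, hσa, sq.lift_snd])
  have eb : σb ≫ hrep.snd ((s ≫ a) ≫ f) = 𝟙 T :=
    (yon S).map_injective (by rw [Functor.map_comp, hσb, sq.lift_snd])
  have : σa = σb := by rw [← cancel_mono (hrep.snd ((s ≫ a) ≫ f)), ea, eb]
  have h1 : (yon S).map σa ≫ hrep.fst ((s ≫ a) ≫ f) = s ≫ a := by rw [hσa, sq.lift_fst]
  have h2 : (yon S).map σb ≫ hrep.fst ((s ≫ a) ≫ f) = s ≫ b := by rw [hσb, sq.lift_fst]
  rw [← h1, ← h2, this]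

/-- `S9928`. -/
theorem mono_of_repWith_isImmersion {X Y : Sp S} (f : X ⟶ Y) (hf : RepWith @IsImmersion f) :
    Mono f :=
  mono_of_repWith_monomorphisms f
    (repWith_mono (fun _ _ g (hg : IsImmersion g) => (inferInstance : Mono g)) hf)

theorem repWith_of_isIso (P : MorphismProperty Scheme.{u}) [P.ContainsIdentities]
    [P.RespectsIso] {X Y : Sp S} (f : X ⟶ Y) [IsIso f] : RepWith P f := by
  refine ⟨Functor.relativelyRepresentable.of_isIso _ f, fun T W g fst snd sq => ?_⟩
  have h1 : IsIso ((yon S).map snd) := sq.isIso_snd_of_isIso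
  have h2 : IsIso snd := isIso_of_fully_faithful (yon S) snd
  have h3 : IsIso snd.left := inferInstanceAs (IsIso ((Over.forget S).map snd))
  exact P.of_isIso snd.left

/-- `S9937`. -/
theorem isSeparatedMor_of_mono {X Y : Sp S} (f : X ⟶ Y) [Mono f] : IsSeparatedMor f := by
  have : IsIso (pullback.diagonal f) := (pullback.isIso_diagonal_iff f).mpr inferInstance
  exact repWith_of_isIso @IsClosedImmersion (pullback.diagonal f)

theorem isQuasiSeparatedMor_of_mono {X Y : Sp S} (f : X ⟶ Y) [Mono f] :
    IsQuasiSeparatedMor f := by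
  have : IsIso (pullback.diagonal f) := (pullback.isIso_diagonal_iff f).mpr inferInstance
  exact repWith_of_isIso @QuasiCompact (pullback.diagonal f)

/-- Cancellation: `P (a ≫ b)` and `P Δ_b` give `P a`. -/
theorem repWith_of_comp_of_diagonal (P : MorphismProperty Scheme.{u}) [P.IsStableUnderBaseChange]
    [P.IsMultiplicative] {Z Y X : Sp S} (a : Z ⟶ Y) (b : Y ⟶ X) (hab : RepWith P (a ≫ b))
    (hΔ : RepWith P (pullback.diagonal b)) : RepWith P a := by
  have sq := IsPullback.of_hasPullback (a ≫ b) b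
  have h1 : RepWith P (pullback.snd (a ≫ b) b) := repWith_of_isPullback P sq hab
  have sqΓ := pullback_lift_diagonal_isPullback a b
  have h2 : RepWith P (pullback.lift (𝟙 Z) a (by simp) : Z ⟶ pullback (a ≫ b) b) :=
    repWith_of_isPullback P sqΓ hΔ
  have h3 := repWith_comp P h2 h1
  rwa [pullback.lift_snd] at h3

theorem representable_of_comp_of_diagonal {Z Y X : Sp S} (a : Z ⟶ Y) (b : Y ⟶ X)
    (hab : Representable (a ≫ b)) (hΔ : Representable (pullback.diagonal b)) :
    Representable a := by
  have sq := IsPullback.of_hasPullback (a ≫ b) b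
  have h1 : Representable (pullback.snd (a ≫ b) b) :=
    (Representable (S := S)).of_isPullback sq hab
  have sqΓ := pullback_lift_diagonal_isPullback a b
  have h2 : Representable (pullback.lift (𝟙 Z) a (by simp) : Z ⟶ pullback (a ≫ b) b) :=
    (Representable (S := S)).of_isPullback sqΓ hΔ
  have h3 := (Representable (S := S)).comp_mem _ _ h2 h1
  rwa [pullback.lift_snd] at h3

/-- A universally closed morphism is closed on points. -/
theorem isClosedMap_of_isUnivClosedMor {X Y : Sp S} (hY : IsAlgSpace Y) (f : X ⟶ Y)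
    (hf : IsUnivClosedMor f) : IsClosedMap (Points.map f) :=
  hf hY (𝟙 Y) (𝟙 X) f (IsPullback.of_horiz_isIso ⟨by rw [Category.id_comp, Category.comp_id]⟩)

theorem isOpenMap_of_isUnivOpenMor {X Y : Sp S} (hY : IsAlgSpace Y) (f : X ⟶ Y)
    (hf : IsUnivOpenMor f) : IsOpenMap (Points.map f) :=
  hf hY (𝟙 Y) (𝟙 X) f (IsPullback.of_horiz_isIso ⟨by rw [Category.id_comp, Category.comp_id]⟩)

/-- `S9934`. -/
theorem repWith_isClosedImmersion_iff_isClosed_range {Z X : Sp S} (hX : IsAlgSpace X)
    (i : Z ⟶ X) (hi : RepWith @IsImmersion i) :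
    RepWith @IsClosedImmersion i ↔ IsClosed (Set.range (Points.map i)) := by
  constructor
  · intro h
    have h1 : RepWith @UniversallyClosed i :=
      repWith_mono (fun _ _ g (hg : IsClosedImmersion g) => (inferInstance : UniversallyClosed g)) h
    have h2 : IsUnivClosedMor i := (repWith_universallyClosed_iff i hi.rep).mp h1
    rw [← Set.image_univ]
    exact isClosedMap_of_isUnivClosedMor hX i h2 _ isClosed_univ
  · intro h
    refine ⟨hi.rep, fun T W g fst snd sq => ?_⟩
    have him : IsImmersion snd.left := hi.property g fst snd sq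
    have hr : Set.range snd.left = Points.ofPt g ⁻¹' Set.range (Points.map i) := by
      ext t
      constructor
      · rintro ⟨w, rfl⟩
        refine ⟨Points.ofPt fst w, ?_⟩
        rw [Points.map_ofPt, sq.w, ofPt_yon_map_comp]
      · rintro ⟨z, hz⟩
        obtain ⟨w, -, hw⟩ := exists_point_of_isPullback_right i g fst snd sq z t hz
        exact ⟨w, hw⟩
    exact IsClosedImmersion.of_isPreimmersion snd.left
      (hr ▸ h.preimage (Points.continuous_ofPt g))

/-- A morphism which is flat and locally of finite presentation étale locally is open on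
points. -/
theorem isOpenMap_points_of_locP_flat_lfp {X : Sp S} (hX : IsAlgSpace X) {Z : Over S}
    (f : X ⟶ (yon S).obj Z) (hfl : LocP @Flat f) (hfp : LocP @LocallyOfFinitePresentation f) :
    IsOpenMap (Points.map f) := by
  obtain ⟨U, a, hae, has⟩ := hX.atlas
  refine isOpenMap_points_of_source_cover f a (isSurjectiveMor_of_repWith_surjective a has) ?_
  obtain ⟨h, hh⟩ := (yon S).map_surjective (a ≫ f)
  have c : a ≫ f = (yon S).map h ≫ 𝟙 _ := by rw [hh, Category.comp_id]
  have h1 : Flat h.left := hfl a (𝟙 _) h hae (repWith_id _ Z) c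
  have h2 : LocallyOfFinitePresentation h.left := hfp a (𝟙 _) h hae (repWith_id _ Z) c
  rw [← hh]
  exact (isOpenMor_yon_map_iff h).mpr h.left.isOpenMap

/-- `S9962`. -/
theorem isUnivOpenMor_of_flat_lfp {X Y : Sp S} (hX : IsAlgSpace X) (hY : IsAlgSpace Y)
    (f : X ⟶ Y) (hfl : LocP @Flat f) (hfp : LocP @LocallyOfFinitePresentation f) :
    IsUnivOpenMor f := by
  refine isUnivOpenMor_of_affine f fun Z _ g P fst snd sq => ?_
  have hP : IsAlgSpace P :=
    isAlgSpace_of_isPullback hY.diag hX (IsAlgSpace.yon_obj Z) f g fst snd sq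
  exact isOpenMap_points_of_locP_flat_lfp hP snd
    (locP_of_isPullback @Flat hX hY (IsAlgSpace.yon_obj Z) hP f g fst snd sq hfl)
    (locP_of_isPullback @LocallyOfFinitePresentation hX hY (IsAlgSpace.yon_obj Z) hP f g fst snd
      sq hfp)

/-- `S9960`, first part. -/
theorem locP_lfp_diagonal_of_locP_lft {X Y : Sp S} (hX : IsAlgSpace X) (hY : IsAlgSpace Y)
    (f : X ⟶ Y) (hf : LocP @LocallyOfFiniteType f) :
    LocP @LocallyOfFinitePresentation (pullback.diagonal f) := by
  have sq := IsPullback.of_hasPullback f f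
  have hP : IsAlgSpace (pullback f f) := isAlgSpace_of_isPullback hY.diag hX hX f f _ _ sq
  have h1 : LocP @LocallyOfFiniteType (pullback.fst f f) :=
    locP_of_isPullback @LocallyOfFiniteType hX hY hX hP f f (pullback.snd f f) (pullback.fst f f)
      sq.flip hf
  refine locP_of_comp' @LocallyOfFinitePresentation @LocallyOfFiniteType ?_ hX hP hX
    (pullback.diagonal f) (pullback.fst f f) ?_ h1
  · intro A B C x y hxy hy
    exact locallyOfFinitePresentation_of_comp x y hxy hy
  · rw [pullback.diagonal_fst]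
    exact locP_id _ hX.diag

theorem isFinitePresentationMor_diagonal {X Y : Sp S} (hX : IsAlgSpace X) (hY : IsAlgSpace Y)
    (f : X ⟶ Y) (hf : LocP @LocallyOfFiniteType f) (hq : IsQuasiSeparatedMor f) :
    IsFinitePresentationMor (pullback.diagonal f) := by
  have sq := IsPullback.of_hasPullback f f
  have hP : IsAlgSpace (pullback f f) := isAlgSpace_of_isPullback hY.diag hX hX f f _ _ sq
  exact ⟨locP_lfp_diagonal_of_locP_lft hX hY f hf,
    isQuasiCompactMor_of_repWith hX hP.diag _ hq, isQuasiSeparatedMor_of_mono _⟩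

/-- `S9911`: a morphism from an algebraic space to the spectrum of a field is universally
open. -/
theorem isUnivOpenMor_to_field {X : Sp S} (hX : IsAlgSpace X) {k : Type u} [Field k]
    (str : Spec (CommRingCat.of k) ⟶ S) (p : X ⟶ (yon S).obj (Over.mk str)) :
    IsUnivOpenMor p := by
  refine isUnivOpenMor_of_affine p fun Z _ g P fst snd sq => ?_
  obtain ⟨U, a, hae, has⟩ := hX.atlas
  obtain ⟨φ, hφ⟩ := (yon S).map_surjective (a ≫ p)
  obtain ⟨γ, hγ⟩ := (yon S).map_surjective g
  have sqW : IsPullback ((yon S).map (pullback.fst φ γ)) ((yon S).map (pullback.snd φ γ))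
      ((yon S).map φ) ((yon S).map γ) := (IsPullback.of_hasPullback φ γ).map (yon S)
  have hl : ((yon S).map (pullback.fst φ γ) ≫ a) ≫ p = (yon S).map (pullback.snd φ γ) ≫ g := by
    rw [Category.assoc, ← hφ, ← hγ]; exact sqW.w
  have sqL : IsPullback (sq.lift _ _ hl) ((yon S).map (pullback.fst φ γ)) fst a := by
    refine IsPullback.of_right ?_ (sq.lift_fst _ _ hl) sq.flip
    rw [sq.lift_snd, ← hφ, ← hγ]
    exact sqW.flip
  refine isOpenMap_points_of_source_cover snd (sq.lift _ _ hl)
    (isSurjectiveMor_fst_of_isPullback sqL has) ?_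
  rw [sq.lift_snd]
  have h1 : UniversallyOpen φ.left := by
    have : IsIntegral (Over.mk str).left := inferInstanceAs (IsIntegral (Spec (CommRingCat.of k)))
    have : Subsingleton ↥(Over.mk str).left :=
      inferInstanceAs (Subsingleton ↥(Spec (CommRingCat.of k)))
    infer_instance
  have h2 : UniversallyOpen (pullback.snd φ γ).left :=
    (MorphismProperty.inverseImage @UniversallyOpen (Over.forget S)).of_isPullback
      (IsPullback.of_hasPullback φ γ) h1
  exact (isOpenMor_yon_map_iff _).mpr (pullback.snd φ γ).left.isOpenMap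

theorem surjectiveMor_yon_map_iff {W T : Over S} (φ : W ⟶ T) :
    IsSurjectiveMor ((yon S).map φ) ↔ Function.Surjective φ.left := by
  show Function.Surjective (Points.map ((yon S).map φ)) ↔ _
  rw [Points.map_yon_map_eq]
  constructor
  · intro h
    have h1 := ((Points.schemeHomeo T).symm.surjective.comp h).comp
      (Points.schemeHomeo W).surjective
    convert h1 using 1
    funext x; simp
  · intro h
    exact ((Points.schemeHomeo T).surjective.comp h).comp (Points.schemeHomeo W).symm.surjective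

/-- A flat, quasi-compact, surjective morphism to an affine scheme is a quotient map on
points. -/
theorem isQuotientMap_points_of_flat_qc_surjective {X : Sp S} (hX : IsAlgSpace X) {T : Over S}
    [IsAffine T.left] (f : X ⟶ (yon S).obj T) (hfl : LocP @Flat f) (hqc : IsQuasiCompactMor f)
    (hs : IsSurjectiveMor f) : IsQuotientMap (Points.map f) := by
  have hTq : IsQuasiCompactSp ((yon S).obj T) := (isQuasiCompactSp_yon_iff T).mpr inferInstance
  have hXq : IsQuasiCompactSp X := hqc (IsAlgSpace.yon_obj T) hTq (𝟙 _) (𝟙 X) f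
    (IsPullback.of_horiz_isIso ⟨by rw [Category.id_comp, Category.comp_id]⟩)
  obtain ⟨U, a, hU, hae, has⟩ := (isQuasiCompactSp_iff_exists_affine_chart hX).mp hXq
  obtain ⟨h, hh⟩ := (yon S).map_surjective (a ≫ f)
  have c : a ≫ f = (yon S).map h ≫ 𝟙 _ := by rw [hh, Category.comp_id]
  have h1 : Flat h.left := hfl a (𝟙 _) h hae (repWith_id _ T) c
  have h2 : Surjective h.left := by
    refine ⟨(surjectiveMor_yon_map_iff h).mp ?_⟩
    rw [hh]
    intro y
    obtain ⟨x, rfl⟩ := hs y
    obtain ⟨u, rfl⟩ := isSurjectiveMor_of_repWith_surjective a has x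
    exact ⟨u, Points.map_comp _ _ _⟩
  have h3 : QuasiCompact h.left :=
    (HasAffineProperty.iff_of_isAffine (P := @QuasiCompact)).mpr inferInstance
  have h4 : IsQuotientMap h.left := Flat.isQuotientMap_of_surjective h.left
  have h5 : IsQuotientMap (Points.map ((yon S).map h)) := (isSubmersiveMor_yon_map_iff h).mpr h4
  rw [hh] at h5
  have : Points.map (a ≫ f) = Points.map f ∘ Points.map a := by
    funext x; exact Points.map_comp _ _ _
  rw [this] at h5
  exact IsQuotientMap.of_comp (Points.continuous_map a) (Points.continuous_map f) h5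

/-- `S9963`. -/
theorem isUnivSubmersiveMor_of_flat_qc_surjective {X Y : Sp S} (hX : IsAlgSpace X)
    (hY : IsAlgSpace Y) (f : X ⟶ Y) (hfl : LocP @Flat f) (hqc : IsQuasiCompactMor f)
    (hs : IsSurjectiveMor f) : IsUnivSubmersiveMor f := by
  refine isUnivSubmersiveMor_of_affine f fun Z hZ g P fst snd sq => ?_
  have hP : IsAlgSpace P :=
    isAlgSpace_of_isPullback hY.diag hX (IsAlgSpace.yon_obj Z) f g fst snd sq
  exact isQuotientMap_points_of_flat_qc_surjective hP snd
    (locP_of_isPullback @Flat hX hY (IsAlgSpace.yon_obj Z) hP f g fst snd sq hfl)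
    (isQuasiCompactMor_of_isPullback sq hqc)
    (isSurjectiveMor_of_isPullback f g fst snd sq hs)

theorem isSubmersiveMor_of_isUnivSubmersiveMor {X Y : Sp S} (hY : IsAlgSpace Y) (f : X ⟶ Y)
    (hf : IsUnivSubmersiveMor f) : IsSubmersiveMor f :=
  hf hY (𝟙 Y) (𝟙 X) f (IsPullback.of_horiz_isIso ⟨by rw [Category.id_comp, Category.comp_id]⟩)

end Groth.Agent.Helper2.AlgSpBasic
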