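import Mathlib
import Groth.Prelude.Def_AlgSpCov
import Groth.Agent.Lib.Helper2.AlgSp.Mor2
import Groth.Agent.Lib.Helper2.AlgSp.Descent
import Groth.Agent.Lib.Helper2.AlgSp.FpqcTop

/-! fpqc coverings of algebraic spaces and fpqc locality on the base. -/
namespace Groth.Agent.Helper2.AlgSpBasic
open CategoryTheory CategoryTheory.Limits AlgebraicGeometry Opposite Topology AlgSp
open Groth.Agent.Helper2.EtaleLocal
universe u
variable {S : Scheme.{u}}

/-! ### Scheme level -/

set_option backward.isDefEq.respectTransparency.types false in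
/-- fpqc descent of a property of morphisms of schemes along a finite jointly surjective family of
flat morphisms from affine schemes. -/
theorem of_finite_flat_affine_family (Q : MorphismProperty Scheme.{u}) [IsZariskiLocalAtTarget Q]
    [Q.DescendsAlong (@Surjective ⊓ @Flat ⊓ @QuasiCompact)]
    {U Z : Scheme.{u}} [QuasiSeparatedSpace Z] (f : U ⟶ Z) {m : ℕ} (W : Fin m → Scheme.{u})
    (c : ∀ j, W j ⟶ Z)
    (hW : ∀ j, IsAffine (W j)) (hc : ∀ j, Flat (c j)) (hsurj : ∀ z : Z, ∃ j, z ∈ Set.range (c j))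
    (U' : Fin m → Scheme.{u}) (fst : ∀ j, U' j ⟶ U) (snd : ∀ j, U' j ⟶ W j)
    (sq : ∀ j, IsPullback (fst j) (snd j) f (c j)) (h : ∀ j, Q (snd j)) : Q f := by
  let p : (∐ W) ⟶ Z := Sigma.desc c
  have hp : (@Surjective ⊓ @Flat ⊓ @QuasiCompact : MorphismProperty Scheme.{u}) p := by
    refine ⟨⟨⟨fun y => ?_⟩, ?_⟩, ?_⟩
    · obtain ⟨j, x, hx⟩ := hsurj y
      refine ⟨Sigma.ι W j x, ?_⟩
      rw [← Scheme.Hom.comp_apply, Sigma.ι_desc]
      exact hx
    · rw [IsZariskiLocalAtSource.iff_of_openCover (P := @Flat) (sigmaOpenCover _)]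
      intro i
      change Flat (Sigma.ι W i ≫ Sigma.desc c)
      rw [Sigma.ι_desc]
      exact hc i
    · have : IsAffine (∐ W) := inferInstance
      exact (inferInstance : QuasiCompact p)
  refine MorphismProperty.of_pullback_snd_of_descendsAlong (P := Q) (f := f) (g := p) hp ?_
  rw [IsZariskiLocalAtTarget.iff_of_openCover (P := Q) (sigmaOpenCover W)]
  intro i
  change Q (pullback.snd (pullback.snd f p) (Sigma.ι W i))
  have sq1 : IsPullback (pullback.fst (pullback.snd f p) (Sigma.ι W i))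
      (pullback.snd (pullback.snd f p) (Sigma.ι W i)) (pullback.snd f p)
      (Sigma.ι W i) :=
    IsPullback.of_hasPullback _ _
  have sq2 : IsPullback (pullback.fst f p) (pullback.snd f p) f p := IsPullback.of_hasPullback _ _
  have sq3 := sq1.flip.paste_vert sq2.flip
  have e : Sigma.ι W i ≫ p = c i := Sigma.ι_desc _ _
  rw [e] at sq3
  have h3 : (sq3.flip.isoIsPullback _ _ (sq i)).hom ≫ snd i =
      pullback.snd (pullback.snd f p) (Sigma.ι W i) :=
    IsPullback.isoIsPullback_hom_snd _ _ _ _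
  rw [← h3, Q.cancel_left_of_respectsIso]
  exact h i

theorem flat_codescendsAlong_faithfullyFlat :
    RingHom.CodescendsAlong RingHom.Flat RingHom.FaithfullyFlat := by
  refine .mk _ RingHom.Flat.respectsIso fun R S T _ _ _ _ _ h h' ↦ ?_
  rw [RingHom.flat_algebraMap_iff] at h' ⊢
  rw [RingHom.faithfullyFlat_algebraMap_iff] at h
  exact Module.Flat.of_flat_tensorProduct R T S

instance flat_descendsAlong_fpqc :
    MorphismProperty.DescendsAlong (@Flat : MorphismProperty Scheme.{u})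
      (@Surjective ⊓ @Flat ⊓ @QuasiCompact) :=
  HasRingHomProperty.descendsAlong_flat flat_codescendsAlong_faithfullyFlat

/-- Existence of points in a pullback square of schemes. -/
theorem exists_preimage_of_isPullback {P X Y Z : Scheme.{u}} {fst : P ⟶ X} {snd : P ⟶ Y}
    {f : X ⟶ Z} {g : Y ⟶ Z} (sq : IsPullback fst snd f g) (x : X) (y : Y) (e : f x = g y) :
    ∃ p : P, fst p = x ∧ snd p = y := by
  obtain ⟨z, hz1, hz2⟩ := Scheme.Pullback.exists_preimage_pullback x y e
  refine ⟨sq.isoPullback.inv z, ?_, ?_⟩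
  · rw [← Scheme.Hom.comp_apply, sq.isoPullback_inv_fst]; exact hz1
  · rw [← Scheme.Hom.comp_apply, sq.isoPullback_inv_snd]; exact hz2

/-- Base change of a finite flat affine jointly surjective family over an affine base. -/
theorem fpqcFamily_baseChange {Z T : Over S} (γ : T ⟶ Z) (hZ : IsAffine Z.left)
    (hT : IsAffine T.left) {m : ℕ}
    (W : Fin m → Over S) (c : ∀ j, W j ⟶ Z) (hW : ∀ j, IsAffine (W j).left)
    (hc : ∀ j, Flat (c j).left) (hsurj : ∀ z : ↥Z.left, ∃ j, z ∈ Set.range (c j).left) :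
    (∀ j, IsAffine (pullback γ (c j)).left) ∧ (∀ j, Flat (pullback.fst γ (c j)).left) ∧
      ∀ t : ↥T.left, ∃ j, t ∈ Set.range (pullback.fst γ (c j)).left := by
  have sq : ∀ j, IsPullback (pullback.fst γ (c j)).left (pullback.snd γ (c j)).left γ.left
      (c j).left := fun j => (IsPullback.of_hasPullback γ (c j)).map (Over.forget S)
  refine ⟨fun j => ?_, fun j => ?_, fun t => ?_⟩
  · have := hW j
    exact IsAffine.of_isIso (sq j).isoPullback.hom
  · exact MorphismProperty.of_isPullback (P := @Flat) (sq j).flip (hc j)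
  · obtain ⟨j, w, hw⟩ := hsurj (γ.left t)
    obtain ⟨p, hp1, -⟩ := exists_preimage_of_isPullback (sq j) t w hw.symm
    exact ⟨j, p, hp1⟩

set_option backward.isDefEq.respectTransparency.types false in
theorem repWith_etale_id (V : Over S) : RepWith @Etale (𝟙 ((yon S).obj V)) := repWith_id _ V

/-! ### Coverings -/

/-- `S10506`: base change of an fpqc covering. -/
theorem isFpqcCover_of_isPullback {X X' : Sp S} (hX : IsAlgSpace X) (hX' : IsAlgSpace X')
    (a : X' ⟶ X) {ι : Type u} (Xi : ι → Sp S) (hXi : ∀ i, IsAlgSpace (Xi i)) (g : ∀ i, Xi i ⟶ X)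
    (Xi' : ι → Sp S) (hXi' : ∀ i, IsAlgSpace (Xi' i)) (q : ∀ i, Xi' i ⟶ X')
    (p : ∀ i, Xi' i ⟶ Xi i) (sq : ∀ i, IsPullback (q i) (p i) a (g i))
    (h : IsFpqcCover Xi g) : IsFpqcCover Xi' q := by
  refine ⟨fun i => locP_of_isPullback @Flat (hXi i) hX hX' (hXi' i) (g i) a (p i) (q i)
    (sq i).flip (h.1 i), ?_⟩
  intro Z hZ k
  obtain ⟨m, W, c, hW, hc, hs, hl⟩ := h.2 Z hZ (k ≫ a)
  refine ⟨m, W, c, hW, hc, hs, fun j => ?_⟩
  obtain ⟨i, l, hl⟩ := hl j
  exact ⟨i, (sq i).lift ((yon S).map (c j) ≫ k) l (by rw [Category.assoc, hl]),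
    (sq i).lift_fst _ _ _⟩

/-! ### The general criterion -/

/-- Descent along an fpqc covering for a property satisfying base change, affine locality on the
base and descent along finite flat affine families, all restricted to morphisms with a side
condition `R` stable under base change. -/
theorem fpqc_desc_of_cover (P R : MorphismProperty (Sp S))
    (hRbc : ∀ ⦃X Y X' Y' : Sp S⦄ (f : X ⟶ Y) (g : Y' ⟶ Y) (f' : X' ⟶ Y') (g' : X' ⟶ X),
      IsPullback g' f' f g → R f → R f')
    (hbc : ∀ ⦃X Y X' Y' : Sp S⦄ (f : X ⟶ Y) (g : Y' ⟶ Y) (f' : X' ⟶ Y') (g' : X' ⟶ X),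
      IsAlgSpace X → IsAlgSpace Y → IsAlgSpace X' → IsAlgSpace Y' →
      IsPullback g' f' f g → P f → P f')
    (haff : ∀ ⦃X Y : Sp S⦄ (f : X ⟶ Y), IsAlgSpace X → IsAlgSpace Y → R f →
      (∀ (Z : Over S), IsAffine Z.left → ∀ (g : (yon S).obj Z ⟶ Y) (W : Sp S)
        (fst : W ⟶ X) (snd : W ⟶ (yon S).obj Z), IsAlgSpace W → IsPullback fst snd f g → P snd) →
      P f)
    (hdesc : ∀ ⦃Z : Over S⦄ ⦃X : Sp S⦄ (f : X ⟶ (yon S).obj Z), IsAffine Z.left → IsAlgSpace X →
      R f → ∀ (m : ℕ) (W : Fin m → Over S) (c : ∀ j, W j ⟶ Z), (∀ j, IsAffine (W j).left) →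
      (∀ j, Flat (c j).left) → (∀ z : ↥Z.left, ∃ j, z ∈ Set.range (c j).left) →
      ∀ (Xj : Fin m → Sp S) (fst : ∀ j, Xj j ⟶ X) (snd : ∀ j, Xj j ⟶ (yon S).obj (W j)),
        (∀ j, IsAlgSpace (Xj j)) → (∀ j, IsPullback (fst j) (snd j) f ((yon S).map (c j))) →
        (∀ j, P (snd j)) → P f)
    ⦃ι : Type u⦄ ⦃Y : Sp S⦄ (Yi : ι → Sp S) (g : ∀ i, Yi i ⟶ Y)
    (hY : IsAlgSpace Y) (hYi : ∀ i, IsAlgSpace (Yi i)) (hcov : IsFpqcCover Yi g)
    ⦃X : Sp S⦄ (f : X ⟶ Y) (hX : IsAlgSpace X)
    (Xi : ι → Sp S) (p : ∀ i, Xi i ⟶ Yi i) (q : ∀ i, Xi i ⟶ X)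
    (hXi : ∀ i, IsAlgSpace (Xi i)) (sq : ∀ i, IsPullback (q i) (p i) f (g i))
    (hRf : R f) (hp : ∀ i, P (p i)) : P f := by
  refine haff f hX hY hRf fun Z hZ h W fst snd hW sqW => ?_
  obtain ⟨m, Wj, c, hWj, hc, hsurj, hl⟩ := hcov.2 Z hZ h
  have hA : ∀ j, IsAlgSpace (pullback snd ((yon S).map (c j))) := fun j =>
    isAlgSpace_of_isPullback (IsAlgSpace.yon_obj Z).diag hW (IsAlgSpace.yon_obj (Wj j)) _ _ _ _
      (IsPullback.of_hasPullback _ _)
  refine hdesc snd hZ hW (hRbc f h snd fst sqW hRf) m Wj c hWj hc hsurj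
    (fun j => pullback snd ((yon S).map (c j)))
    (fun j => pullback.fst _ _) (fun j => pullback.snd _ _) hA
    (fun j => IsPullback.of_hasPullback _ _) fun j => ?_
  obtain ⟨i, l, hl⟩ := hl j
  have big : IsPullback (pullback.fst snd ((yon S).map (c j)) ≫ fst)
      (pullback.snd snd ((yon S).map (c j))) f ((yon S).map (c j) ≫ h) :=
    (IsPullback.of_hasPullback snd ((yon S).map (c j))).paste_horiz sqW
  rw [← hl] at big
  have hw : (pullback.fst snd ((yon S).map (c j)) ≫ fst) ≫ f =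
      (pullback.snd snd ((yon S).map (c j)) ≫ l) ≫ g i := by
    rw [Category.assoc _ l]; exact big.w
  have sqj : IsPullback ((sq i).lift _ _ hw) (pullback.snd snd ((yon S).map (c j))) (p i) l := by
    refine IsPullback.of_right ?_ ((sq i).lift_snd _ _ hw) (sq i)
    rw [(sq i).lift_fst]; exact big
  exact hbc (p i) l _ _ (hXi i) (hYi i) (hA j) (IsAlgSpace.yon_obj (Wj j)) sqj (hp i)

/-- General criterion for a property to be fpqc local on the base. -/
theorem isLocalOnBase_fpqc_of_desc (P : MorphismProperty (Sp S))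
    (hbc : ∀ ⦃X Y X' Y' : Sp S⦄ (f : X ⟶ Y) (g : Y' ⟶ Y) (f' : X' ⟶ Y') (g' : X' ⟶ X),
      IsAlgSpace X → IsAlgSpace Y → IsAlgSpace X' → IsAlgSpace Y' →
      IsPullback g' f' f g → P f → P f')
    (haff : ∀ ⦃X Y : Sp S⦄ (f : X ⟶ Y), IsAlgSpace X → IsAlgSpace Y →
      (∀ (Z : Over S), IsAffine Z.left → ∀ (g : (yon S).obj Z ⟶ Y) (W : Sp S)
        (fst : W ⟶ X) (snd : W ⟶ (yon S).obj Z), IsAlgSpace W → IsPullback fst snd f g → P snd) →
      P f)
    (hdesc : ∀ ⦃Z : Over S⦄ ⦃X : Sp S⦄ (f : X ⟶ (yon S).obj Z), IsAffine Z.left → IsAlgSpace X →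
      ∀ (m : ℕ) (W : Fin m → Over S) (c : ∀ j, W j ⟶ Z), (∀ j, IsAffine (W j).left) →
      (∀ j, Flat (c j).left) → (∀ z : ↥Z.left, ∃ j, z ∈ Set.range (c j).left) →
      ∀ (Xj : Fin m → Sp S) (fst : ∀ j, Xj j ⟶ X) (snd : ∀ j, Xj j ⟶ (yon S).obj (W j)),
        (∀ j, IsAlgSpace (Xj j)) → (∀ j, IsPullback (fst j) (snd j) f ((yon S).map (c j))) →
        (∀ j, P (snd j)) → P f) :
    IsLocalOnBase (IsFpqcCover (S := S)) P := by
  intro ι Y Yi g hY hYi hcov X f hX Xi p q hXi sq
  constructor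
  · intro hf i
    exact hbc f (g i) (p i) (q i) hX hY (hXi i) (hYi i) (sq i) hf
  · intro hp
    exact fpqc_desc_of_cover P ⊤ (fun _ _ _ _ _ _ _ _ _ _ => trivial) hbc
      (fun X Y f hX hY _ h => haff f hX hY h)
      (fun Z X f hZ hX _ m W c hW hc hs Xj fst snd hXj sq h =>
        hdesc f hZ hX m W c hW hc hs Xj fst snd hXj sq h)
      Yi g hY hYi hcov f hX Xi p q hXi sq trivial hp

theorem isLocalOnBase_and {τ : CovNotion S} {P Q : MorphismProperty (Sp S)}
    (hP : IsLocalOnBase τ P) (hQ : IsLocalOnBase τ Q) :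
    IsLocalOnBase τ (fun _ _ f => P f ∧ Q f) := by
  intro ι Y Yi g hY hYi hcov X f hX Xi p q hXi sq
  have h1 := hP Yi g hY hYi hcov f hX Xi p q hXi sq
  have h2 := hQ Yi g hY hYi hcov f hX Xi p q hXi sq
  constructor
  · rintro ⟨a, b⟩ i; exact ⟨h1.1 a i, h2.1 b i⟩
  · intro h; exact ⟨h1.2 fun i => (h i).1, h2.2 fun i => (h i).2⟩

theorem isLocalOnBase_congr {τ : CovNotion S} {P Q : MorphismProperty (Sp S)}
    (h : ∀ ⦃X Y : Sp S⦄ (f : X ⟶ Y), IsAlgSpace X → IsAlgSpace Y → (P f ↔ Q f))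
    (hP : IsLocalOnBase τ P) : IsLocalOnBase τ Q := by
  intro ι Y Yi g hY hYi hcov X f hX Xi p q hXi sq
  rw [← h f hX hY]
  rw [hP Yi g hY hYi hcov f hX Xi p q hXi sq]
  exact forall_congr' fun i => h (p i) (hXi i) (hYi i)

/-! ### `LocP` -/

/-- Affine-locality on the base for `LocP`. -/
theorem locP_of_forall_affine (Q : MorphismProperty Scheme.{u}) [IsEtaleLocalST Q]
    [IsZariskiLocalAtTarget Q]
    {X Y : Sp S} (hX : IsAlgSpace X) (hY : IsAlgSpace Y) (f : X ⟶ Y)
    (h : ∀ (Z : Over S), IsAffine Z.left → ∀ (g : (yon S).obj Z ⟶ Y) (W : Sp S)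
        (fst : W ⟶ X) (snd : W ⟶ (yon S).obj Z), IsAlgSpace W → IsPullback fst snd f g →
        LocP Q snd) : LocP Q f := by
  obtain ⟨V, b, hbe, hbs⟩ := hY.atlas
  have hXV : IsAlgSpace (pullback f b) :=
    isAlgSpace_of_isPullback hY.diag hX (IsAlgSpace.yon_obj V) f b _ _
      (IsPullback.of_hasPullback f b)
  refine locP_of_target_cover Q hX hY f V b hbe hbs (pullback.fst f b) (pullback.snd f b)
    (IsPullback.of_hasPullback f b) ?_
  obtain ⟨U, a₀, ha₀e, ha₀s⟩ := hXV.atlas
  obtain ⟨k, hk⟩ := (yon S).map_surjective (a₀ ≫ pullback.snd f b)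
  refine locP_of_one_chart Q hXV.diag (IsAlgSpace.yon_obj V).diag _ a₀ (𝟙 _) k ha₀e ha₀s
    (repWith_etale_id V) (by rw [hk, Category.comp_id]) ?_
  rw [IsZariskiLocalAtTarget.iff_of_openCover (P := Q) V.left.affineCover]
  intro i
  let D := overBC k (V.left.affineCover.f i)
  have sqW := IsPullback.of_hasPullback (pullback.snd f b) ((yon S).map D.c')
  have hW : IsAlgSpace (pullback (pullback.snd f b) ((yon S).map D.c')) :=
    isAlgSpace_of_isPullback (IsAlgSpace.yon_obj V).diag hXV (IsAlgSpace.yon_obj D.T') _ _ _ _ sqW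
  have big := sqW.paste_horiz (IsPullback.of_hasPullback f b)
  have hL : LocP Q (pullback.snd (pullback.snd f b) ((yon S).map D.c')) :=
    h D.T' (by rw [D.hT']; infer_instance) _ _ _ _ hW big
  have hw : ((yon S).map D.fst' ≫ a₀) ≫ pullback.snd f b =
      (yon S).map D.snd' ≫ (yon S).map D.c' := by
    rw [Category.assoc, ← hk, ← Functor.map_comp, ← Functor.map_comp, D.sq.w]
  have sql : IsPullback ((yon S).map D.fst') (sqW.lift _ _ hw) a₀ (pullback.fst _ _) := by
    refine IsPullback.of_bot ?_ (sqW.lift_fst _ _ hw).symm sqW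
    rw [sqW.lift_snd, ← hk]
    exact D.sq.map (yon S)
  exact hL (sqW.lift _ _ hw) (𝟙 _) D.snd' (repWith_of_isPullback @Etale sql ha₀e)
    (repWith_etale_id _) (by rw [Category.comp_id]; exact sqW.lift_snd _ _ hw)

/-- fpqc descent on an affine base for `LocP`. -/
theorem locP_fpqc_desc (Q : MorphismProperty Scheme.{u}) [IsEtaleLocalST Q]
    [IsZariskiLocalAtTarget Q] [Q.DescendsAlong (@Surjective ⊓ @Flat ⊓ @QuasiCompact)]
    ⦃Z : Over S⦄ ⦃X : Sp S⦄ (f : X ⟶ (yon S).obj Z) (hZ : IsAffine Z.left) (hX : IsAlgSpace X)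
    (m : ℕ) (W : Fin m → Over S) (c : ∀ j, W j ⟶ Z) (hW : ∀ j, IsAffine (W j).left)
    (hc : ∀ j, Flat (c j).left) (hsurj : ∀ z : ↥Z.left, ∃ j, z ∈ Set.range (c j).left)
    (Xj : Fin m → Sp S) (fst : ∀ j, Xj j ⟶ X) (snd : ∀ j, Xj j ⟶ (yon S).obj (W j))
    (sq : ∀ j, IsPullback (fst j) (snd j) f ((yon S).map (c j)))
    (h : ∀ j, LocP Q (snd j)) : LocP Q f := by
  obtain ⟨U, a, hae, has⟩ := hX.atlas
  obtain ⟨φ, hφ⟩ := (yon S).map_surjective (a ≫ f)
  refine locP_of_one_chart Q hX.diag (IsAlgSpace.yon_obj Z).diag f a (𝟙 _) φ hae has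
    (repWith_etale_id Z) (by rw [hφ, Category.comp_id]) ?_
  refine of_finite_flat_affine_family Q φ.left (fun j => (W j).left) (fun j => (c j).left) hW hc
    hsurj (fun j => (pullback φ (c j)).left) (fun j => (pullback.fst φ (c j)).left)
    (fun j => (pullback.snd φ (c j)).left)
    (fun j => (IsPullback.of_hasPullback φ (c j)).map (Over.forget S)) fun j => ?_
  have sqU := (IsPullback.of_hasPullback φ (c j)).map (yon S)
  have hw : ((yon S).map (pullback.fst φ (c j)) ≫ a) ≫ f =
      (yon S).map (pullback.snd φ (c j)) ≫ (yon S).map (c j) := by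
    rw [Category.assoc, ← hφ]; exact sqU.w
  have sql : IsPullback ((yon S).map (pullback.fst φ (c j))) ((sq j).lift _ _ hw) a (fst j) := by
    refine IsPullback.of_bot ?_ ((sq j).lift_fst _ _ hw).symm (sq j)
    rw [(sq j).lift_snd, ← hφ]; exact sqU
  exact h j ((sq j).lift _ _ hw) (𝟙 _) (pullback.snd φ (c j))
    (repWith_of_isPullback @Etale sql hae) (repWith_etale_id _)
    (by rw [Category.comp_id, (sq j).lift_snd])

/-- `LocP Q` is fpqc local on the base for `Q` étale local on source and target, Zariski local on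
the target and satisfying fpqc descent. -/
theorem isLocalOnBase_fpqc_locP (Q : MorphismProperty Scheme.{u}) [IsEtaleLocalST Q]
    [IsZariskiLocalAtTarget Q] [Q.DescendsAlong (@Surjective ⊓ @Flat ⊓ @QuasiCompact)] :
    IsLocalOnBase (IsFpqcCover (S := S)) (LocP Q) :=
  isLocalOnBase_fpqc_of_desc (LocP Q)
    (fun _ _ _ _ f g f' g' hX hY hX' hY' sq hf =>
      locP_of_isPullback Q hX hY hY' hX' f g g' f' sq hf)
    (fun _ _ f hX hY h => locP_of_forall_affine Q hX hY f h)
    (fun _ _ f hZ hX m W c hW hc hsurj Xj fst snd _ sq h =>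
      locP_fpqc_desc Q f hZ hX m W c hW hc hsurj Xj fst snd sq h)

/-! ### Topological properties -/

section FpqcFamily

variable {T : Over S} {P : Sp S} (q : P ⟶ (yon S).obj T) {m : ℕ} (Tj : Fin m → Over S)
  (d : ∀ j, Tj j ⟶ T) (hT : QuasiSeparatedSpace ↥T.left) (hTj : ∀ j, IsAffine (Tj j).left)
  (hd : ∀ j, Flat (d j).left) (hsurj : ∀ t : ↥T.left, ∃ j, t ∈ Set.range (d j).left)
  (Pj : Fin m → Sp S) (fst : ∀ j, Pj j ⟶ P) (snd : ∀ j, Pj j ⟶ (yon S).obj (Tj j))
  (sq : ∀ j, IsPullback (fst j) (snd j) q ((yon S).map (d j)))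

include sq in
theorem fpqcFamily_comm (j : Fin m) (x : Points (Pj j)) :
    Points.map ((yon S).map (d j)) (Points.map (snd j) x) = Points.map q (Points.map (fst j) x) := by
  rw [← Points.map_comp, ← Points.map_comp, (sq j).w]

include sq in
theorem fpqcFamily_cart (j : Fin m) (z : Points P) (u : Points ((yon S).obj (Tj j)))
    (e : Points.map q z = Points.map ((yon S).map (d j)) u) :
    ∃ x, Points.map (fst j) x = z ∧ Points.map (snd j) x = u :=
  points_exists_of_isPullback ((yon S).map (d j)) q (fst j) (snd j) (sq j) z u e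

include hsurj in
theorem fpqcFamily_surj (b : Points ((yon S).obj T)) :
    ∃ j u, Points.map ((yon S).map (d j)) u = b := by
  obtain ⟨t, rfl⟩ := (Points.schemeHomeo T).surjective b
  obtain ⟨j, w, hw⟩ := hsurj t
  exact ⟨j, Points.schemeHomeo (Tj j) w, by rw [Points.map_yon_map_apply, hw]⟩

include hT hTj hd hsurj in
theorem fpqcFamily_closed (V : Set (Points ((yon S).obj T)))
    (hV : ∀ j, IsClosed (Points.map ((yon S).map (d j)) ⁻¹' V)) : IsClosed V := by
  rw [← (Points.schemeHomeo T).isClosed_preimage]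
  refine isClosed_of_finite_flat_affine_family (fun j => (Tj j).left) (fun j => (d j).left) hTj hd
    hsurj _ fun j => ?_
  have : (d j).left ⁻¹' (Points.schemeHomeo T ⁻¹' V) =
      Points.schemeHomeo (Tj j) ⁻¹' (Points.map ((yon S).map (d j)) ⁻¹' V) := by
    ext w
    simp only [Set.mem_preimage]
    rw [Points.map_yon_map_apply]
  rw [this]
  exact (hV j).preimage (Points.schemeHomeo (Tj j)).continuous

include sq hsurj in
theorem injective_points_of_fpqcFamily (h : ∀ j, Function.Injective (Points.map (snd j))) :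
    Function.Injective (Points.map q) :=
  TopCharts.injective_of_charts (Points.map q) (fun j => Points.map (snd j))
    (fun j => Points.map ((yon S).map (d j))) (fun j => Points.map (fst j))
    (fpqcFamily_cart q Tj d Pj fst snd sq) (fpqcFamily_surj Tj d hsurj) h

include sq hsurj in
theorem surjective_points_of_fpqcFamily (h : ∀ j, Function.Surjective (Points.map (snd j))) :
    Function.Surjective (Points.map q) :=
  TopCharts.surjective_of_charts (Points.map q) (fun j => Points.map (snd j))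
    (fun j => Points.map ((yon S).map (d j))) (fun j => Points.map (fst j))
    (fpqcFamily_comm q Tj d Pj fst snd sq) (fpqcFamily_surj Tj d hsurj) h

include hT hTj hd hsurj sq

theorem isClosedMap_points_of_fpqcFamily (h : ∀ j, IsClosedMap (Points.map (snd j))) :
    IsClosedMap (Points.map q) :=
  TopCharts.isClosedMap_of_family (Points.map q) (fun j => Points.map (snd j))
    (fun j => Points.map ((yon S).map (d j))) (fun j => Points.map (fst j))
    (fpqcFamily_comm q Tj d Pj fst snd sq) (fpqcFamily_cart q Tj d Pj fst snd sq)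
    (fpqcFamily_closed Tj d hT hTj hd hsurj) (fun _ => Points.continuous_map _) h

theorem isOpenMap_points_of_fpqcFamily (h : ∀ j, IsOpenMap (Points.map (snd j))) :
    IsOpenMap (Points.map q) :=
  TopCharts.isOpenMap_of_family (Points.map q) (fun j => Points.map (snd j))
    (fun j => Points.map ((yon S).map (d j))) (fun j => Points.map (fst j))
    (fpqcFamily_comm q Tj d Pj fst snd sq) (fpqcFamily_cart q Tj d Pj fst snd sq)
    (fpqcFamily_closed Tj d hT hTj hd hsurj) (fun _ => Points.continuous_map _) h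

theorem isQuotientMap_points_of_fpqcFamily (h : ∀ j, IsQuotientMap (Points.map (snd j))) :
    IsQuotientMap (Points.map q) :=
  TopCharts.isQuotientMap_of_family (Points.map q) (fun j => Points.map (snd j))
    (fun j => Points.map ((yon S).map (d j))) (fun j => Points.map (fst j))
    (fpqcFamily_comm q Tj d Pj fst snd sq) (fpqcFamily_surj Tj d hsurj)
    (fpqcFamily_closed Tj d hT hTj hd hsurj) (fun _ => Points.continuous_map _)
    (Points.continuous_map _) h

theorem isHomeomorph_points_of_fpqcFamily (h : ∀ j, IsHomeomorph (Points.map (snd j))) :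
    IsHomeomorph (Points.map q) :=
  TopCharts.isHomeomorph_of_family (Points.map q) (fun j => Points.map (snd j))
    (fun j => Points.map ((yon S).map (d j))) (fun j => Points.map (fst j))
    (fpqcFamily_comm q Tj d Pj fst snd sq) (fpqcFamily_cart q Tj d Pj fst snd sq)
    (fpqcFamily_surj Tj d hsurj)
    (fpqcFamily_closed Tj d hT hTj hd hsurj) (fun _ => Points.continuous_map _)
    (Points.continuous_map _) h

end FpqcFamily

/-- Universal topological properties are fpqc local on the base. -/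
theorem isLocalOnBase_fpqc_univSp (Q : MorphismProperty (Sp S))
    (hQ : ∀ {ι : Type u} {Z Z' : Sp S} (q : Z' ⟶ Z) (T : ι → Over S)
      (a : ∀ i, (yon S).obj (T i) ⟶ Z), (∀ i, RepWith @Etale (a i)) →
      (∀ z : Points Z, ∃ i t, Points.ofPt (a i) t = z) →
      ∀ (P : ι → Sp S) (fst : ∀ i, P i ⟶ Z') (snd : ∀ i, P i ⟶ (yon S).obj (T i)),
      (∀ i, IsPullback (fst i) (snd i) q (a i)) → (∀ i, Q (snd i)) → Q q)
    (hQd : ∀ {T : Over S} {P : Sp S} (q : P ⟶ (yon S).obj T) {m : ℕ} (Tj : Fin m → Over S)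
      (d : ∀ j, Tj j ⟶ T), IsAffine T.left → (∀ j, IsAffine (Tj j).left) →
      (∀ j, Flat (d j).left) → (∀ t : ↥T.left, ∃ j, t ∈ Set.range (d j).left) →
      ∀ (Pj : Fin m → Sp S) (fst : ∀ j, Pj j ⟶ P) (snd : ∀ j, Pj j ⟶ (yon S).obj (Tj j)),
      (∀ j, IsPullback (fst j) (snd j) q ((yon S).map (d j))) → (∀ j, Q (snd j)) → Q q) :
    IsLocalOnBase (IsFpqcCover (S := S)) (UnivSp Q) := by
  refine isLocalOnBase_fpqc_of_desc (UnivSp Q) ?_ ?_ ?_
  · intro X Y X' Y' f g f' g' _ _ _ _ sq hf Z Z' hZ h a b sqZ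
    exact hf hZ (h ≫ g) (a ≫ g') b (sqZ.paste_horiz sq)
  · intro X Y f hX hY h
    refine univSp_of_affine Q hQ f fun Z hZ g P fst snd sq => ?_
    exact (h Z hZ g P fst snd (isAlgSpace_of_isPullback hY.diag hX (IsAlgSpace.yon_obj Z) f g fst
      snd sq) sq) (IsAlgSpace.yon_obj Z) (𝟙 _) (𝟙 _) snd
      (IsPullback.of_horiz_isIso ⟨by rw [Category.id_comp, Category.comp_id]⟩)
  · intro Z X f hZ hX m W c hW hc hsurj Xj fst snd hXj sq h
    refine univSp_of_affine Q hQ f fun T hT g P fst' snd' sqP => ?_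
    obtain ⟨γ, rfl⟩ := (yon S).map_surjective g
    obtain ⟨h1, h2, h3⟩ := fpqcFamily_baseChange γ hZ hT W c hW hc hsurj
    refine hQd snd' (fun j => pullback γ (c j)) (fun j => pullback.fst γ (c j)) hT h1 h2 h3
      (fun j => pullback snd' ((yon S).map (pullback.fst γ (c j)))) (fun j => pullback.fst _ _)
      (fun j => pullback.snd _ _) (fun j => IsPullback.of_hasPullback _ _) fun j => ?_
    have big : IsPullback (pullback.fst snd' ((yon S).map (pullback.fst γ (c j))) ≫ fst')
        (pullback.snd snd' ((yon S).map (pullback.fst γ (c j)))) f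
        ((yon S).map (pullback.fst γ (c j)) ≫ (yon S).map γ) :=
      (IsPullback.of_hasPullback snd' ((yon S).map (pullback.fst γ (c j)))).paste_horiz sqP
    have e : (yon S).map (pullback.fst γ (c j)) ≫ (yon S).map γ =
        (yon S).map (pullback.snd γ (c j)) ≫ (yon S).map (c j) := by
      rw [← Functor.map_comp, ← Functor.map_comp, pullback.condition]
    rw [e] at big
    have hw : (pullback.fst snd' ((yon S).map (pullback.fst γ (c j))) ≫ fst') ≫ f =
        (pullback.snd snd' ((yon S).map (pullback.fst γ (c j))) ≫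
          (yon S).map (pullback.snd γ (c j))) ≫ (yon S).map (c j) := by
      rw [Category.assoc _ _ ((yon S).map (c j))]; exact big.w
    have sqj : IsPullback ((sq j).lift _ _ hw)
        (pullback.snd snd' ((yon S).map (pullback.fst γ (c j)))) (snd j)
        ((yon S).map (pullback.snd γ (c j))) := by
      refine IsPullback.of_right ?_ ((sq j).lift_snd _ _ hw) (sq j)
      rw [(sq j).lift_fst]; exact big
    exact h j (IsAlgSpace.yon_obj _) _ _ _ sqj

theorem isLocalOnBase_fpqc_isUnivClosedMor :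
    IsLocalOnBase (IsFpqcCover (S := S)) IsUnivClosedMor :=
  isLocalOnBase_fpqc_univSp IsClosedMor
    (fun q T a hae hs P fst snd sq h => isClosedMap_points_of_chartFamily q T a hae hs P fst snd sq h)
    (fun q _ Tj d hT hTj hd hs Pj fst snd sq h =>
      isClosedMap_points_of_fpqcFamily q Tj d (by have := hT; infer_instance) hTj hd hs Pj fst snd
        sq h)

theorem isLocalOnBase_fpqc_isUnivOpenMor :
    IsLocalOnBase (IsFpqcCover (S := S)) IsUnivOpenMor :=
  isLocalOnBase_fpqc_univSp IsOpenMor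
    (fun q T a hae hs P fst snd sq h => isOpenMap_points_of_chartFamily q T a hae hs P fst snd sq h)
    (fun q _ Tj d hT hTj hd hs Pj fst snd sq h =>
      isOpenMap_points_of_fpqcFamily q Tj d (by have := hT; infer_instance) hTj hd hs Pj fst snd
        sq h)

theorem isLocalOnBase_fpqc_isUnivInjectiveMor :
    IsLocalOnBase (IsFpqcCover (S := S)) IsUnivInjectiveMor :=
  isLocalOnBase_fpqc_univSp (fun _ _ f => Function.Injective (Points.map f))
    (fun q T a hae hs P fst snd sq h => injective_points_of_chartFamily q T a hae hs P fst snd sq h)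
    (fun q _ Tj d _ _ _ hs Pj fst snd sq h =>
      injective_points_of_fpqcFamily q Tj d hs Pj fst snd sq h)

theorem isLocalOnBase_fpqc_isUnivSubmersiveMor :
    IsLocalOnBase (IsFpqcCover (S := S)) IsUnivSubmersiveMor :=
  isLocalOnBase_fpqc_univSp IsSubmersiveMor
    (fun q T a hae hs P fst snd sq h =>
      isQuotientMap_points_of_chartFamily q T a hae hs P fst snd sq h)
    (fun q _ Tj d hT hTj hd hs Pj fst snd sq h =>
      isQuotientMap_points_of_fpqcFamily q Tj d (by have := hT; infer_instance) hTj hd hs Pj fst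
        snd sq h)

theorem isLocalOnBase_fpqc_isUnivHomeoMor :
    IsLocalOnBase (IsFpqcCover (S := S)) IsUnivHomeoMor :=
  isLocalOnBase_fpqc_univSp (fun _ _ f => IsHomeomorph (Points.map f))
    (fun q T a hae hs P fst snd sq h =>
      isHomeomorph_points_of_chartFamily q T a hae hs P fst snd sq h)
    (fun q _ Tj d hT hTj hd hs Pj fst snd sq h =>
      isHomeomorph_points_of_fpqcFamily q Tj d (by have := hT; infer_instance) hTj hd hs Pj fst
        snd sq h)

end Groth.Agent.Helper2.AlgSpBasic
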