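import Mathlib
import Groth.Agent.Lib.Helper2.AlgSp.Fpqc

/-! fpqc locality on the base: quasi-compact morphisms, representable morphisms and diagonals. -/
namespace Groth.Agent.Helper2.AlgSpBasic
open CategoryTheory CategoryTheory.Limits AlgebraicGeometry Opposite Topology AlgSp
open Groth.Agent.Helper2.EtaleLocal
universe u
variable {S : Scheme.{u}}

/-- A morphism from a quasi-compact algebraic space to an affine scheme is quasi-compact. -/
theorem isQuasiCompactMor_of_isQuasiCompactSp_of_affine {X : Sp S} (hX : IsAlgSpace X)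
    {Z : Over S} (hZ : IsAffine Z.left) (f : X ⟶ (yon S).obj Z) (hXq : IsQuasiCompactSp X) :
    IsQuasiCompactMor f := by
  refine isQuasiCompactMor_of_affine hX (IsAlgSpace.yon_obj Z).diag f fun T hT g P fst snd sq => ?_
  obtain ⟨U, a, hU, hae, has⟩ := (isQuasiCompactSp_iff_exists_affine_chart hX).mp hXq
  obtain ⟨φ, hφ⟩ := (yon S).map_surjective (a ≫ f)
  obtain ⟨γ, rfl⟩ := (yon S).map_surjective g
  have sqU := (IsPullback.of_hasPullback φ γ).map (yon S)
  have hw : ((yon S).map (pullback.fst φ γ) ≫ a) ≫ f =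
      (yon S).map (pullback.snd φ γ) ≫ (yon S).map γ := by
    rw [Category.assoc, ← hφ]; exact sqU.w
  have sql : IsPullback ((yon S).map (pullback.fst φ γ)) (sq.lift _ _ hw) a fst := by
    refine IsPullback.of_bot ?_ (sq.lift_fst _ _ hw).symm sq
    rw [sq.lift_snd, ← hφ]; exact sqU
  have hs : IsSurjectiveMor (sq.lift _ _ hw) :=
    isSurjectiveMor_of_repWith_surjective _ (repWith_of_isPullback @Surjective sql has)
  have hP : IsAlgSpace P :=
    isAlgSpace_of_isPullback (IsAlgSpace.yon_obj Z).diag hX (IsAlgSpace.yon_obj T) f _ fst snd sq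
  have sqL : IsPullback (pullback.fst φ γ).left (pullback.snd φ γ).left φ.left γ.left :=
    (IsPullback.of_hasPullback φ γ).map (Over.forget S)
  have hA : IsAffine (pullback φ γ).left := IsAffine.of_isIso sqL.isoPullback.hom
  exact isQuasiCompactSp_of_isSurjectiveMor (IsAlgSpace.yon_obj _) hP _ hs
    ((isQuasiCompactSp_yon_iff _).mpr inferInstance)

theorem isQuasiCompactSp_of_isQuasiCompactMor_of_affine {X : Sp S} {Z : Over S}
    (hZ : IsAffine Z.left) (f : X ⟶ (yon S).obj Z) (hf : IsQuasiCompactMor f) :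
    IsQuasiCompactSp X :=
  hf (IsAlgSpace.yon_obj Z) ((isQuasiCompactSp_yon_iff _).mpr inferInstance) (𝟙 _) (𝟙 _) f
    (IsPullback.of_horiz_isIso ⟨by rw [Category.id_comp, Category.comp_id]⟩)

theorem isLocalOnBase_fpqc_isQuasiCompactMor :
    IsLocalOnBase (IsFpqcCover (S := S)) IsQuasiCompactMor := by
  refine isLocalOnBase_fpqc_of_desc IsQuasiCompactMor ?_ ?_ ?_
  · intro X Y X' Y' f g f' g' _ _ _ _ sq hf
    exact isQuasiCompactMor_of_isPullback sq hf
  · intro X Y f hX hY h
    refine isQuasiCompactMor_of_affine hX hY.diag f fun Z hZ g P fst snd sq => ?_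
    exact isQuasiCompactSp_of_isQuasiCompactMor_of_affine hZ snd
      (h Z hZ g P fst snd (isAlgSpace_of_isPullback hY.diag hX (IsAlgSpace.yon_obj Z) f g fst
      snd sq) sq)
  · intro Z X f hZ hX m W c hW hc hsurj Xj fst snd hXj sq h
    refine isQuasiCompactMor_of_isQuasiCompactSp_of_affine hX hZ f ?_
    have hXjq : ∀ j, IsQuasiCompactSp (Xj j) := fun j =>
      isQuasiCompactSp_of_isQuasiCompactMor_of_affine (hW j) (snd j) (h j)
    rw [isQuasiCompactSp_iff_compactSpace_points hX]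
    have hc' : ∀ j, CompactSpace (Points (Xj j)) := fun j =>
      (isQuasiCompactSp_iff_compactSpace_points (hXj j)).mp (hXjq j)
    have huniv : (Set.univ : Set (Points X)) = ⋃ j, Set.range (Points.map (fst j)) := by
      ext x
      simp only [Set.mem_univ, Set.mem_iUnion, Set.mem_range, true_iff]
      obtain ⟨j, u, hu⟩ := fpqcFamily_surj W c hsurj (Points.map f x)
      obtain ⟨p, hp1, -⟩ := fpqcFamily_cart f W c Xj fst snd sq j x u hu.symm
      exact ⟨j, p, hp1⟩
    refine ⟨?_⟩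
    rw [huniv]
    exact isCompact_iUnion fun j => isCompact_range (Points.continuous_map _)


/-- fpqc descent for `RepWith P₀` of a representable morphism over an affine base. -/
theorem repWith_fpqc_desc (P₀ : MorphismProperty Scheme.{u}) [P₀.IsStableUnderBaseChange]
    [IsZariskiLocalAtTarget P₀] [P₀.DescendsAlong (@Surjective ⊓ @Flat ⊓ @QuasiCompact)]
    ⦃Z : Over S⦄ ⦃X : Sp S⦄ (f : X ⟶ (yon S).obj Z) (hZ : IsAffine Z.left) (hrep : Representable f)
    (m : ℕ) (W : Fin m → Over S) (c : ∀ j, W j ⟶ Z) (hW : ∀ j, IsAffine (W j).left)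
    (hc : ∀ j, Flat (c j).left) (hsurj : ∀ z : ↥Z.left, ∃ j, z ∈ Set.range (c j).left)
    (Xj : Fin m → Sp S) (fst : ∀ j, Xj j ⟶ X) (snd : ∀ j, Xj j ⟶ (yon S).obj (W j))
    (sq : ∀ j, IsPullback (fst j) (snd j) f ((yon S).map (c j)))
    (h : ∀ j, RepWith P₀ (snd j)) : RepWith P₀ f := by
  have sqE := hrep.isPullback (𝟙 _)
  have hiso : IsIso (hrep.fst (𝟙 _)) := sqE.isIso_fst_of_isIso
  have hw0 : hrep.fst (𝟙 _) ≫ f = (yon S).map (hrep.snd (𝟙 _)) := by
    rw [sqE.w, Category.comp_id]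
  rw [← (RepWith (S := S) P₀).cancel_left_of_respectsIso (hrep.fst (𝟙 _)) f, hw0,
    repWith_yon_map_iff]
  refine of_finite_flat_affine_family P₀ (hrep.snd (𝟙 _)).left (fun j => (W j).left)
    (fun j => (c j).left) hW hc hsurj (fun j => (pullback (hrep.snd (𝟙 _)) (c j)).left)
    (fun j => (pullback.fst (hrep.snd (𝟙 _)) (c j)).left)
    (fun j => (pullback.snd (hrep.snd (𝟙 _)) (c j)).left)
    (fun j => (IsPullback.of_hasPullback (hrep.snd (𝟙 _)) (c j)).map (Over.forget S)) fun j => ?_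
  have sqU := (IsPullback.of_hasPullback (hrep.snd (𝟙 _)) (c j)).map (yon S)
  have hw : ((yon S).map (pullback.fst (hrep.snd (𝟙 _)) (c j)) ≫ hrep.fst (𝟙 _)) ≫ f =
      (yon S).map (pullback.snd (hrep.snd (𝟙 _)) (c j)) ≫ (yon S).map (c j) := by
    rw [Category.assoc, hw0]; exact sqU.w
  have big : IsPullback ((yon S).map (pullback.fst (hrep.snd (𝟙 _)) (c j)) ≫ hrep.fst (𝟙 _))
      ((yon S).map (pullback.snd (hrep.snd (𝟙 _)) (c j))) f ((yon S).map (c j) ≫ 𝟙 _) :=
    sqU.paste_horiz sqE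
  have sqj : IsPullback ((sq j).lift _ _ hw)
      ((yon S).map (pullback.snd (hrep.snd (𝟙 _)) (c j))) (snd j) (𝟙 _) := by
    refine IsPullback.of_right ?_ ?_ (sq j)
    · rw [(sq j).lift_fst, Category.id_comp]
      rw [Category.comp_id] at big
      exact big
    · rw [(sq j).lift_snd, Category.comp_id]
  exact (h j).property (𝟙 _) _ _ sqj

/-- Descent of `RepWith P₀` along an fpqc covering for a representable morphism. -/
theorem repWith_of_fpqcCover (P₀ : MorphismProperty Scheme.{u}) [P₀.IsStableUnderBaseChange]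
    [IsZariskiLocalAtTarget P₀] [P₀.DescendsAlong (@Surjective ⊓ @Flat ⊓ @QuasiCompact)]
    ⦃ι : Type u⦄ ⦃Y : Sp S⦄ (Yi : ι → Sp S) (g : ∀ i, Yi i ⟶ Y)
    (hY : IsAlgSpace Y) (hYi : ∀ i, IsAlgSpace (Yi i)) (hcov : IsFpqcCover Yi g)
    ⦃X : Sp S⦄ (f : X ⟶ Y) (hX : IsAlgSpace X)
    (Xi : ι → Sp S) (p : ∀ i, Xi i ⟶ Yi i) (q : ∀ i, Xi i ⟶ X)
    (hXi : ∀ i, IsAlgSpace (Xi i)) (sq : ∀ i, IsPullback (q i) (p i) f (g i))
    (hrep : Representable f) (hp : ∀ i, RepWith P₀ (p i)) : RepWith P₀ f := by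
  refine fpqc_desc_of_cover (RepWith P₀) Representable ?_ ?_ ?_ ?_ Yi g hY hYi hcov f hX Xi p q hXi
    sq hrep hp
  · intro X Y X' Y' f g f' g' sq hf
    exact (Representable (S := S)).of_isPullback sq hf
  · intro X Y X' Y' f g f' g' _ _ _ _ sq hf
    exact repWith_of_isPullback P₀ sq hf
  · intro X Y f _ _ hrep h
    refine repWith_of_forall_affine f hrep P₀ fun T E g fst snd hT sqE => ?_
    exact (repWith_yon_map_iff P₀ snd).mp (h T hT g _ fst _ (IsAlgSpace.yon_obj E) sqE)
  · intro Z X f hZ _ hrep m W c hW hc hsurj Xj fst snd _ sq h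
    exact repWith_fpqc_desc P₀ f hZ hrep m W c hW hc hsurj Xj fst snd sq h

/-- Properties of the diagonal are fpqc local on the base. -/
theorem isLocalOnBase_fpqc_diagonal (P₀ : MorphismProperty Scheme.{u}) [P₀.IsStableUnderBaseChange]
    [IsZariskiLocalAtTarget P₀] [P₀.DescendsAlong (@Surjective ⊓ @Flat ⊓ @QuasiCompact)] :
    IsLocalOnBase (IsFpqcCover (S := S)) (fun _ _ f => RepWith P₀ (pullback.diagonal f)) := by
  intro ι Y Yi g hY hYi hcov X f hX Xi p q hXi sq
  constructor
  · intro hf i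
    exact repWith_diagonal_of_isPullback P₀ (sq i) hf
  · intro hp
    have hXX : IsAlgSpace (pullback f f) :=
      isAlgSpace_of_isPullback hY.diag hX hX f f _ _ (IsPullback.of_hasPullback f f)
    have hXXi : ∀ i, IsAlgSpace (pullback (p i) (p i)) := fun i =>
      isAlgSpace_of_isPullback (hYi i).diag (hXi i) (hXi i) (p i) (p i) _ _
        (IsPullback.of_hasPullback _ _)
    have hcov' : IsFpqcCover (fun i => pullback (p i) (p i))
        (fun i => pullback.map (p i) (p i) f f (q i) (q i) (g i) (sq i).w.symm (sq i).w.symm) :=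
      isFpqcCover_of_isPullback hY hXX (pullback.fst f f ≫ f) Yi hYi g
        (fun i => pullback (p i) (p i)) hXXi _ (fun i => pullback.fst (p i) (p i) ≫ p i)
        (fun i => isPullback_map_of_isPullback (sq i)) hcov
    exact repWith_of_fpqcCover P₀ (fun i => pullback (p i) (p i)) _ hXX hXXi hcov'
      (pullback.diagonal f) hX Xi (fun i => pullback.diagonal (p i)) q hXi
      (fun i => isPullback_diagonal_of_isPullback (sq i)) (representable_diagonal f hX.diag) hp

end Groth.Agent.Helper2.AlgSpBasic
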