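import Mathlib
import Groth.Agent.Lib.Helper2.AlgSp.Fpqc2

/-! Monomorphisms, isomorphisms and open immersions of algebraic spaces; fpqc locality. -/
namespace Groth.Agent.Helper2.AlgSpBasic
open CategoryTheory CategoryTheory.Limits AlgebraicGeometry Opposite Topology AlgSp
open Groth.Agent.Helper2.EtaleLocal
universe u
variable {S : Scheme.{u}}

/-- A flat, locally finitely presented, surjective morphism of algebraic spaces is an epimorphism
of fppf sheaves. -/
theorem isLocallySurjective_of_locP_fppf_surjective {X Y : Sp S} (hX : IsAlgSpace X)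
    (hY : IsAlgSpace Y) (f : X ⟶ Y) (hfl : LocP @Flat f) (hfp : LocP @LocallyOfFinitePresentation f)
    (hs : IsSurjectiveMor f) : Sheaf.IsLocallySurjective f := by
  obtain ⟨V, b, hbe, hbs⟩ := hY.atlas
  have sq := IsPullback.of_hasPullback f b
  have hP : IsAlgSpace (pullback f b) :=
    isAlgSpace_of_isPullback hY.diag hX (IsAlgSpace.yon_obj V) f b _ _ sq
  obtain ⟨U, a₀, ha₀e, ha₀s⟩ := hP.atlas
  obtain ⟨k, hk⟩ := (yon S).map_surjective (a₀ ≫ pullback.snd f b)
  have hfe : RepWith @Etale (pullback.fst f b) := repWith_of_isPullback @Etale sq.flip hbe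
  have comm : (a₀ ≫ pullback.fst f b) ≫ f = (yon S).map k ≫ b := by
    rw [Category.assoc, sq.w, ← Category.assoc, hk]
  have h1 : Flat k.left := hfl _ b k (repWith_comp @Etale ha₀e hfe) hbe comm
  have h2 : LocallyOfFinitePresentation k.left :=
    hfp _ b k (repWith_comp @Etale ha₀e hfe) hbe comm
  have h3 : Surjective k.left := by
    refine ⟨(surjectiveMor_yon_map_iff k).mp ?_⟩
    rw [hk]
    intro y
    obtain ⟨p, rfl⟩ := isSurjectiveMor_of_isPullback f b _ _ sq hs y
    obtain ⟨u, rfl⟩ := isSurjectiveMor_of_repWith_surjective a₀ ha₀s p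
    exact ⟨u, Points.map_comp _ _ _⟩
  have h4 : Sheaf.IsLocallySurjective ((yon S).map k) :=
    isLocallySurjective_of_fppf _ ((repWith_yon_map_iff @Flat k).mpr h1)
      ((repWith_yon_map_iff @LocallyOfFinitePresentation k).mpr h2)
      ((repWith_yon_map_iff @Surjective k).mpr h3)
  have h5 : Sheaf.IsLocallySurjective b := isLocallySurjective_of_etale_surjective b hbe hbs
  have h6 : Sheaf.IsLocallySurjective ((yon S).map k ≫ b) := inferInstance
  rw [← comm] at h6
  exact Presheaf.isLocallySurjective_of_isLocallySurjective_fac (J S)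
    (f₁ := (a₀ ≫ pullback.fst f b).hom) (f₂ := f.hom) (f₃ := ((a₀ ≫ pullback.fst f b) ≫ f).hom) rfl

/-- A monomorphism of algebraic spaces which is flat, locally of finite presentation and
surjective is an isomorphism. -/
theorem isIso_of_mono_of_locP_fppf_surjective {X Y : Sp S} (hX : IsAlgSpace X)
    (hY : IsAlgSpace Y) (f : X ⟶ Y) [Mono f] (hfl : LocP @Flat f)
    (hfp : LocP @LocallyOfFinitePresentation f) (hs : IsSurjectiveMor f) : IsIso f := by
  haveI := isLocallySurjective_of_locP_fppf_surjective hX hY f hfl hfp hs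
  haveI : Epi f := inferInstance
  exact isIso_of_mono_of_epi f

theorem isIso_of_mono_of_locP_etale_surjective {X Y : Sp S} (hX : IsAlgSpace X)
    (hY : IsAlgSpace Y) (f : X ⟶ Y) [Mono f] (he : LocP @Etale f)
    (hs : IsSurjectiveMor f) : IsIso f :=
  isIso_of_mono_of_locP_fppf_surjective hX hY f
    (locP_mono (fun _ _ g (hg : Etale g) => (inferInstance : Flat g)) he)
    (locP_mono (fun _ _ g (hg : Etale g) => (inferInstance : LocallyOfFinitePresentation g)) he) hs

/-- Diagonal filler for an epimorphism against a monomorphism in `Sp S`. -/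
theorem exists_lift_of_epi_mono {A P B C : Sp S} (e : A ⟶ P) [Epi e] (m : B ⟶ C) [Mono m]
    (s : P ⟶ C) (k : A ⟶ B) (w : e ≫ s = k ≫ m) : ∃ l : P ⟶ B, l ≫ m = s ∧ e ≫ l = k := by
  have sq := IsPullback.of_hasPullback s m
  haveI : Mono (pullback.fst s m) := sq.mono_fst_of_mono
  have hl : sq.lift e k w ≫ pullback.fst s m = e := sq.lift_fst _ _ _
  haveI : Epi (sq.lift e k w ≫ pullback.fst s m) := by rw [hl]; infer_instance
  haveI : Epi (pullback.fst s m) := epi_of_epi (sq.lift e k w) _
  haveI : IsIso (pullback.fst s m) := isIso_of_mono_of_epi _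
  refine ⟨inv (pullback.fst s m) ≫ pullback.snd s m, ?_, ?_⟩
  · rw [Category.assoc, ← sq.w, IsIso.inv_hom_id_assoc]
  · rw [← cancel_mono m, Category.assoc, Category.assoc, ← sq.w, IsIso.inv_hom_id_assoc, w]

/-- An isomorphism has every étale local property. -/
theorem locP_of_isIso (P : MorphismProperty Scheme.{u}) [IsEtaleLocalST P] {X Y : Sp S}
    (hY : Representable (Limits.diag Y)) (f : X ⟶ Y) [IsIso f] : LocP P f := by
  intro U V a b h ha hb comm
  have h1 : RepWith @Etale (a ≫ f) :=
    ((RepWith (S := S) @Etale).cancel_right_of_respectsIso a f).mpr ha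
  exact IsEtaleLocalST.of_etale _ (etale_of_comp_repWith_etale hY (a ≫ f) b h h1 hb comm.symm)

set_option backward.isDefEq.respectTransparency.types false in
/-- A monomorphism of algebraic spaces which is étale is representable by open immersions. -/
theorem repWith_isOpenImmersion_of_mono_locP_etale {X Y : Sp S} (hX : IsAlgSpace X)
    (hY : IsAlgSpace Y) (f : X ⟶ Y) [Mono f] (he : LocP @Etale f) :
    RepWith @IsOpenImmersion f := by
  refine MorphismProperty.relative.of_exists fun T g => ?_
  have sq := IsPullback.of_hasPullback f g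
  have hP : IsAlgSpace (pullback f g) :=
    isAlgSpace_of_isPullback hY.diag hX (IsAlgSpace.yon_obj T) f g _ _ sq
  haveI hmono : Mono (pullback.snd f g) := sq.mono_snd_of_mono
  have hsndE : LocP @Etale (pullback.snd f g) :=
    locP_of_isPullback @Etale hX hY (IsAlgSpace.yon_obj T) hP f g _ _ sq he
  obtain ⟨U, a₀, ha₀e, ha₀s⟩ := hP.atlas
  obtain ⟨k, hk⟩ := (yon S).map_surjective (a₀ ≫ pullback.snd f g)
  have hkE : Etale k.left :=
    hsndE a₀ (𝟙 _) k ha₀e (repWith_etale_id T) (by rw [hk, Category.comp_id])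
  let T₀ : T.left.Opens := ⟨Set.range k.left, k.left.isOpenMap.isOpen_range⟩
  let T₀' : Over S := Over.mk (T₀.ι ≫ T.hom)
  let ι' : T₀' ⟶ T := Over.homMk T₀.ι rfl
  have hrange : Set.range k.left ⊆ Set.range T₀.ι := by
    rw [Scheme.Opens.range_ι]
    exact subset_rfl
  let k₀l : U.left ⟶ (T₀ : Scheme) := IsOpenImmersion.lift T₀.ι k.left hrange
  have hk₀l : k₀l ≫ T₀.ι = k.left := IsOpenImmersion.lift_fac _ _ _
  let k₀ : U ⟶ T₀' := Over.homMk k₀l (by
    show k₀l ≫ T₀.ι ≫ T.hom = U.hom
    rw [← Category.assoc, hk₀l, Over.w])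
  have hk₀ : k₀ ≫ ι' = k := by
    apply Over.OverMorphism.ext
    exact hk₀l
  have hk₀E : Etale k₀.left := by
    have : Etale (k₀l ≫ T₀.ι) := by rw [hk₀l]; exact hkE
    exact MorphismProperty.of_postcomp (W := @Etale) (W' := @Etale) k₀l T₀.ι inferInstance this
  have hk₀s : Function.Surjective k₀.left := by
    intro t₀
    obtain ⟨u, hu⟩ : (T₀.ι t₀) ∈ Set.range k.left := by
      have := t₀.2
      exact this
    refine ⟨u, ?_⟩
    apply T₀.ι.isOpenEmbedding.injective
    rw [← hu, ← hk₀l]
    rfl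
  haveI : Epi a₀ := by
    haveI := isLocallySurjective_of_etale_surjective a₀ ha₀e ha₀s
    infer_instance
  haveI : Mono ι' := by
    haveI : Mono ι'.left := inferInstanceAs (Mono T₀.ι)
    exact (Over.forget S).mono_of_mono_map ‹_›
  haveI : Mono ((yon S).map ι') := inferInstance
  obtain ⟨l, hl1, hl2⟩ := exists_lift_of_epi_mono a₀ ((yon S).map ι') (pullback.snd f g)
    ((yon S).map k₀) (by rw [← hk, ← Functor.map_comp, hk₀])
  haveI : Mono (l ≫ (yon S).map ι') := by rw [hl1]; infer_instance
  haveI : Mono l := mono_of_mono l ((yon S).map ι')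
  have hlE : LocP @Etale l :=
    locP_of_one_chart @Etale hP.diag (IsAlgSpace.yon_obj T₀').diag l a₀ (𝟙 _) k₀ ha₀e ha₀s
      (repWith_etale_id T₀') (by rw [hl2, Category.comp_id]) hk₀E
  have hls : IsSurjectiveMor l := by
    intro y
    obtain ⟨t₀, rfl⟩ := (Points.schemeHomeo T₀').surjective y
    obtain ⟨u, rfl⟩ := hk₀s t₀
    refine ⟨Points.map a₀ (Points.schemeHomeo U u), ?_⟩
    rw [← Points.map_comp, hl2, Points.map_yon_map_apply]
  haveI : IsIso l := isIso_of_mono_of_locP_etale_surjective hP (IsAlgSpace.yon_obj T₀') l hlE hls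
  have sqL : IsPullback (inv l) ((yon S).map ι') (pullback.snd f g) (𝟙 _) :=
    IsPullback.of_horiz_isIso ⟨by rw [IsIso.inv_comp_eq, Category.comp_id, hl1]⟩
  have sq' := sqL.paste_horiz sq
  rw [Category.id_comp] at sq'
  exact ⟨T₀', inv l ≫ pullback.fst f g, ι', sq', inferInstanceAs (IsOpenImmersion T₀.ι)⟩


theorem repWith_isOpenImmersion_iff {X Y : Sp S} (hX : IsAlgSpace X) (hY : IsAlgSpace Y)
    (f : X ⟶ Y) : RepWith @IsOpenImmersion f ↔ Mono f ∧ LocP @Etale f := by
  constructor
  · intro h
    refine ⟨mono_of_repWith_monomorphisms f (repWith_mono ?_ h),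
      locP_of_repWith @Etale hX.diag f (repWith_mono ?_ h)⟩
    · intro A B g (hg : IsOpenImmersion g)
      exact (inferInstance : Mono g)
    · intro A B g (hg : IsOpenImmersion g)
      exact (inferInstance : Etale g)
  · rintro ⟨h1, h2⟩
    exact repWith_isOpenImmersion_of_mono_locP_etale hX hY f h2

theorem isSurjectiveMor_of_isIso {X Y : Sp S} (f : X ⟶ Y) [IsIso f] : IsSurjectiveMor f := by
  intro y
  refine ⟨Points.map (inv f) y, ?_⟩
  rw [← Points.map_comp, IsIso.inv_hom_id, Points.map_id]

theorem isIso_iff_mono_etale_surjective {X Y : Sp S} (hX : IsAlgSpace X) (hY : IsAlgSpace Y)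
    (f : X ⟶ Y) : IsIso f ↔ Mono f ∧ LocP @Etale f ∧ IsSurjectiveMor f := by
  constructor
  · intro h
    exact ⟨inferInstance, locP_of_isIso @Etale hY.diag f, isSurjectiveMor_of_isIso f⟩
  · rintro ⟨h1, h2, h3⟩
    exact isIso_of_mono_of_locP_etale_surjective hX hY f h2 h3

set_option backward.isDefEq.respectTransparency.types false in
/-- A morphism representable by isomorphisms is an isomorphism. -/
theorem isIso_of_repWith_isomorphisms {X Y : Sp S} (f : X ⟶ Y)
    (h : RepWith (MorphismProperty.isomorphisms Scheme.{u}) f) : IsIso f := by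
  haveI : Mono f := mono_of_repWith_monomorphisms f (repWith_mono (fun A B g hg => by
    haveI : IsIso g := hg
    exact (inferInstance : Mono g)) h)
  haveI : Sheaf.IsLocallySurjective f := isLocallySurjective_of_etale_surjective f
    (repWith_mono (fun A B g hg => by
      haveI : IsIso g := hg
      exact (inferInstance : Etale g)) h)
    (repWith_mono (fun A B g hg => by
      haveI : IsIso g := hg
      exact (inferInstance : Surjective g)) h)
  haveI : Epi f := inferInstance
  exact isIso_of_mono_of_epi f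

theorem mono_iff_repWith_isomorphisms_diagonal {X Y : Sp S} (f : X ⟶ Y) :
    Mono f ↔ RepWith (MorphismProperty.isomorphisms Scheme.{u}) (pullback.diagonal f) := by
  constructor
  · intro h
    exact repWith_of_isIso _ (pullback.diagonal f)
  · intro h
    haveI := isIso_of_repWith_isomorphisms _ h
    exact (pullback.isIso_diagonal_iff f).mp inferInstance

theorem isLocalOnBase_fpqc_mono :
    IsLocalOnBase (IsFpqcCover (S := S)) (MorphismProperty.monomorphisms (Sp S)) :=
  isLocalOnBase_congr (fun _ _ f _ _ => (mono_iff_repWith_isomorphisms_diagonal f).symm)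
    (isLocalOnBase_fpqc_diagonal (MorphismProperty.isomorphisms Scheme.{u}))

/-- Every point of a sheaf is the image of a point of an affine scheme. -/
theorem exists_ofPt_eq_affine {X : Sp S} (x : Points X) :
    ∃ (T : Over S) (g : (yon S).obj T ⟶ X) (t : ↥T.left), IsAffine T.left ∧ Points.ofPt g t = x := by
  obtain ⟨T, g, t, rfl⟩ := exists_ofPt_eq x
  obtain ⟨W, hW, htW⟩ : ∃ W : T.left.Opens, IsAffineOpen W ∧ t ∈ W := by
    obtain ⟨W, hW⟩ := TopologicalSpace.Opens.isBasis_iff_nbhd.mp T.left.isBasis_affineOpens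
      (show t ∈ (⊤ : T.left.Opens) from trivial)
    exact ⟨W, hW.1, hW.2.1⟩
  refine ⟨Over.mk (W.ι ≫ T.hom), (yon S).map (Over.homMk W.ι rfl : Over.mk (W.ι ≫ T.hom) ⟶ T) ≫ g,
    ⟨t, htW⟩, hW, ?_⟩
  rw [ofPt_yon_map_comp]
  rfl

theorem isLocalOnBase_fpqc_isSurjectiveMor :
    IsLocalOnBase (IsFpqcCover (S := S)) IsSurjectiveMor := by
  refine isLocalOnBase_fpqc_of_desc IsSurjectiveMor ?_ ?_ ?_
  · intro X Y X' Y' f g f' g' _ _ _ _ sq hf
    exact isSurjectiveMor_of_isPullback f g g' f' sq hf
  · intro X Y f hX hY h y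
    obtain ⟨T, g, t, hT, rfl⟩ := exists_ofPt_eq_affine y
    have sq := IsPullback.of_hasPullback f g
    have hW : IsAlgSpace (pullback f g) :=
      isAlgSpace_of_isPullback hY.diag hX (IsAlgSpace.yon_obj T) f g _ _ sq
    obtain ⟨w, hw⟩ := h T hT g _ _ _ hW sq (Points.schemeHomeo T t)
    refine ⟨Points.map (pullback.fst f g) w, ?_⟩
    rw [← Points.map_comp, sq.w, Points.map_comp, hw, Points.ofPt_eq_map_ofScheme]
    rfl
  · intro Z X f hZ hX m W c hW hc hsurj Xj fst snd hXj sq h
    exact surjective_points_of_fpqcFamily f W c hsurj Xj fst snd sq h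

theorem isLocalOnBase_fpqc_isomorphisms :
    IsLocalOnBase (IsFpqcCover (S := S)) (MorphismProperty.isomorphisms (Sp S)) :=
  isLocalOnBase_congr (fun _ _ f hX hY => (isIso_iff_mono_etale_surjective hX hY f).symm)
    (isLocalOnBase_and isLocalOnBase_fpqc_mono
      (isLocalOnBase_and (isLocalOnBase_fpqc_locP @Etale) isLocalOnBase_fpqc_isSurjectiveMor))

theorem isLocalOnBase_fpqc_repWith_isOpenImmersion :
    IsLocalOnBase (IsFpqcCover (S := S)) (RepWith @IsOpenImmersion) :=
  isLocalOnBase_congr (fun _ _ f hX hY => (repWith_isOpenImmersion_iff hX hY f).symm)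
    (isLocalOnBase_and isLocalOnBase_fpqc_mono (isLocalOnBase_fpqc_locP @Etale))

end Groth.Agent.Helper2.AlgSpBasic
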