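import Mathlib
import Groth.Prelude.Def_AlgSp4
import Groth.Agent.Lib.Helper2.AlgSp.Mono

/-! Open subspaces of sheaves / algebraic spaces cut out by open subsets of the space of points. -/
namespace Groth.Agent.Helper2.AlgSpBasic
open CategoryTheory CategoryTheory.Limits AlgebraicGeometry Opposite Topology AlgSp
open Groth.Agent.Helper2.EtaleLocal
universe u
variable {S : Scheme.{u}}

set_option backward.isDefEq.respectTransparency.types false in
/-- Covering sieves of the fppf topology over `S` are jointly surjective. -/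
theorem exists_mem_sieve_of_mem_J {T : Over S} {R : Sieve T} (hR : R ∈ J S T) (t : ↥T.left) :
    ∃ (T' : Over S) (φ : T' ⟶ T), R φ ∧ t ∈ Set.range φ.left := by
  rw [GrothendieckTopology.mem_over_iff] at hR
  obtain ⟨𝒰, h𝒰⟩ := (Scheme.mem_grothendieckTopology_iff
    (P := @Flat ⊓ @LocallyOfFinitePresentation)).mp hR
  obtain ⟨i, y, hy⟩ := 𝒰.exists_eq t
  have hi := h𝒰 _ _ (Presieve.ofArrows.mk i)
  rw [Sieve.overEquiv_iff] at hi
  exact ⟨_, _, hi, y, hy⟩

/-- The subfunctor of `Y` of sections all of whose points lie in `V`. -/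
def openSubfunctor (Y : Sp S) (V : Set (Points Y)) : Subfunctor Y.obj where
  obj T := {y | ∀ t : ↥T.unop.left, Points.ofPt ((J S).uliftYonedaEquiv.symm y) t ∈ V}
  map := by
    intro T T' φ y hy t'
    change Points.ofPt ((J S).uliftYonedaEquiv.symm (Y.obj.map φ y)) t' ∈ V
    have : (J S).uliftYonedaEquiv.symm (Y.obj.map φ y) =
        (yon S).map φ.unop ≫ (J S).uliftYonedaEquiv.symm y :=
      ((J S).uliftYonedaEquiv_symm_naturality_left φ.unop Y y).symm
    rw [this, ofPt_yon_map_comp]
    exact hy _

theorem mem_openSubfunctor_iff (Y : Sp S) (V : Set (Points Y)) {T : Over S}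
    (g : (yon S).obj T ⟶ Y) :
    (J S).uliftYonedaEquiv g ∈ (openSubfunctor Y V).obj (op T) ↔ ∀ t, Points.ofPt g t ∈ V := by
  change (∀ t : ↥T.left, Points.ofPt ((J S).uliftYonedaEquiv.symm ((J S).uliftYonedaEquiv g)) t ∈ V)
    ↔ _
  rw [Equiv.symm_apply_apply]

theorem openSubfunctor_isSheaf (Y : Sp S) (V : Set (Points Y)) :
    Presheaf.IsSheaf (J S) (openSubfunctor Y V).toFunctor := by
  rw [isSheaf_iff_isSheaf_of_type]
  rw [Subfunctor.isSheaf_iff _ ((isSheaf_iff_isSheaf_of_type _ _).mp Y.property)]
  intro T y hy t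
  obtain ⟨T', φ, hφ, t', rfl⟩ := exists_mem_sieve_of_mem_J hy t
  have h1 : Points.ofPt ((J S).uliftYonedaEquiv.symm (Y.obj.map φ.op y)) t' ∈ V := hφ t'
  have : (J S).uliftYonedaEquiv.symm (Y.obj.map φ.op y) =
      (yon S).map φ ≫ (J S).uliftYonedaEquiv.symm y :=
    ((J S).uliftYonedaEquiv_symm_naturality_left φ Y y).symm
  rw [this, ofPt_yon_map_comp] at h1
  exact h1

/-- The subsheaf of `Y` of sections all of whose points lie in `V`. -/
def openSub (Y : Sp S) (V : Set (Points Y)) : Sp S :=
  ⟨(openSubfunctor Y V).toFunctor, openSubfunctor_isSheaf Y V⟩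

/-- The inclusion of the open subsheaf. -/
def openSubι (Y : Sp S) (V : Set (Points Y)) : openSub Y V ⟶ Y :=
  ⟨(openSubfunctor Y V).ι⟩

instance openSubι_mono (Y : Sp S) (V : Set (Points Y)) : Mono (openSubι Y V) := by
  haveI : Mono (openSubι Y V).hom := inferInstanceAs (Mono (openSubfunctor Y V).ι)
  exact Sheaf.Hom.mono_of_presheaf_mono _ _ _

/-- A morphism all of whose points land in `V` factors through the open subsheaf. -/
theorem range_le_openSubfunctor {F Y : Sp S} (V : Set (Points Y)) (f : F ⟶ Y)
    (h : ∀ p : Points F, Points.map f p ∈ V) : Subfunctor.range f.hom ≤ openSubfunctor Y V := by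
  rintro T _ ⟨s, rfl⟩ t
  have : (J S).uliftYonedaEquiv.symm (f.hom.app T s) = (J S).uliftYonedaEquiv.symm s ≫ f :=
    (GrothendieckTopology.uliftYonedaEquiv_symm_naturality_right.{u + 1} (J S) T.unop f s).symm
  rw [this, ← Points.map_ofPt]
  exact h _

/-- The lift of a morphism all of whose points land in `V`. -/
def openSubLift {F Y : Sp S} (V : Set (Points Y)) (f : F ⟶ Y)
    (h : ∀ p : Points F, Points.map f p ∈ V) : F ⟶ openSub Y V :=
  ⟨Subfunctor.lift f.hom (range_le_openSubfunctor V f h)⟩

@[reassoc (attr := simp)]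
theorem openSubLift_ι {F Y : Sp S} (V : Set (Points Y)) (f : F ⟶ Y)
    (h : ∀ p : Points F, Points.map f p ∈ V) : openSubLift V f h ≫ openSubι Y V = f := by
  apply Sheaf.hom_ext
  rfl

/-- Points of the open subsheaf map into `V`. -/
theorem points_map_openSubι_mem (Y : Sp S) (V : Set (Points Y)) (p : Points (openSub Y V)) :
    Points.map (openSubι Y V) p ∈ V := by
  obtain ⟨T, g, t, rfl⟩ := exists_ofPt_eq p
  rw [Points.map_ofPt]
  have h1 := (mem_openSubfunctor_iff Y V (g ≫ openSubι Y V)).mp (by
    rw [GrothendieckTopology.uliftYonedaEquiv_comp]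
    exact ((J S).uliftYonedaEquiv g).2)
  exact h1 t

theorem range_points_map_openSubι (Y : Sp S) (V : Set (Points Y)) :
    Set.range (Points.map (openSubι Y V)) = V := by
  apply Set.Subset.antisymm
  · rintro _ ⟨p, rfl⟩
    exact points_map_openSubι_mem Y V p
  · intro v hv
    induction v using Points.ind with | h q => ?_
    let g : (yon S).obj q.pt ⟶ Y := (J S).uliftYonedaEquiv.symm q.val
    have hg : ∀ t, Points.ofPt g t = Points.mk q := by
      intro t
      have ht : t = IsLocalRing.closedPoint q.K :=
        Subsingleton.elim (α := ↥(Spec (CommRingCat.of q.K))) _ _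
      rw [ht]
      have := Points.ofScheme_apply_eq_mk q.pt (𝟙 _) (Category.id_comp _)
      rw [Points.ofPt_eq_map_ofScheme]
      have h2 : (𝟙 (Spec (CommRingCat.of q.K)) : _ ⟶ _) (IsLocalRing.closedPoint q.K) =
          IsLocalRing.closedPoint q.K := rfl
      rw [h2] at this
      rw [this, Points.map_mk, Points.mk_eq_mk_iff]
      refine ⟨q.K, inferInstance, q.str, 𝟙 _, 𝟙 _, ?_⟩
      congr 1
      have h3 : g.hom.app (op q.pt) ⟨𝟙 q.pt⟩ = Y.obj.map (𝟙 q.pt).op q.val :=
        GrothendieckTopology.uliftYonedaEquiv_symm_app_apply _ _ _ _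
      rw [op_id, Y.obj.map_id] at h3
      exact h3
    have hall : ∀ p : Points ((yon S).obj q.pt), Points.map g p ∈ V := by
      intro p
      obtain ⟨t, rfl⟩ := (Points.schemeHomeo q.pt).surjective p
      change Points.map g (Points.ofScheme q.pt t) ∈ V
      rw [← Points.ofPt_eq_map_ofScheme, hg]
      exact hv
    refine ⟨Points.ofPt (openSubLift V g hall) (IsLocalRing.closedPoint q.K), ?_⟩
    rw [Points.map_ofPt, openSubLift_ι, hg]

/-- Base change of an open subsheaf is the open subsheaf of the preimage. -/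
theorem isPullback_openSub {F Y : Sp S} (f : F ⟶ Y) (V : Set (Points Y)) :
    IsPullback (openSubι F (Points.map f ⁻¹' V))
      (openSubLift V (openSubι F (Points.map f ⁻¹' V) ≫ f) (fun p => by
        rw [Points.map_comp]
        exact points_map_openSubι_mem F _ p))
      f (openSubι Y V) := by
  refine IsPullback.of_isLimit' ⟨by rw [openSubLift_ι]⟩ ?_
  refine PullbackCone.IsLimit.mk _ (fun s => openSubLift _ s.fst (fun p => ?_)) (fun s => ?_)
    (fun s => ?_) (fun s m h1 h2 => ?_)
  · change Points.map f (Points.map s.fst p) ∈ V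
    rw [← Points.map_comp, s.condition, Points.map_comp]
    exact points_map_openSubι_mem Y V _
  · exact openSubLift_ι _ _ _
  · rw [← cancel_mono (openSubι Y V), Category.assoc, openSubLift_ι, openSubLift_ι_assoc,
      s.condition]
  · rw [← cancel_mono (openSubι F _), openSubLift_ι]
    exact h1

/-- A morphism of type-valued functors whose range lies in the range of a monomorphism factors
through it. -/
theorem exists_lift_of_range_le {C : Type*} [Category C] {F' F'' F : C ⥤ Type (u + 1)} (p : F' ⟶ F)
    [Mono p] (β : F'' ⟶ F) (h : Subfunctor.range β ≤ Subfunctor.range p) :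
    ∃ γ : F'' ⟶ F', γ ≫ p = β := by
  have e : inv (Subfunctor.toRange p) ≫ p = (Subfunctor.range p).ι := by
    rw [IsIso.inv_comp_eq, Subfunctor.toRange_ι]
  exact ⟨Subfunctor.lift β h ≫ inv (Subfunctor.toRange p), by
    rw [Category.assoc, e, Subfunctor.lift_ι]⟩

/-- The open subscheme of `T` of points mapping into `V` under `g : h_T ⟶ Y`. -/
def preimageOpens {Y : Sp S} {T : Over S} (g : (yon S).obj T ⟶ Y) {V : Set (Points Y)}
    (hV : IsOpen V) : T.left.Opens :=
  ⟨Points.ofPt g ⁻¹' V, hV.preimage (Points.continuous_ofPt g)⟩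

/-- The open subscheme as a scheme over `S`. -/
abbrev preimageOver {Y : Sp S} {T : Over S} (g : (yon S).obj T ⟶ Y) {V : Set (Points Y)}
    (hV : IsOpen V) : Over S :=
  Over.mk ((preimageOpens g hV).ι ≫ T.hom)

abbrev preimageOverι {Y : Sp S} {T : Over S} (g : (yon S).obj T ⟶ Y) {V : Set (Points Y)}
    (hV : IsOpen V) : preimageOver g hV ⟶ T :=
  Over.homMk (preimageOpens g hV).ι rfl

theorem points_map_preimageOverι_mem {Y : Sp S} {T : Over S} (g : (yon S).obj T ⟶ Y)
    {V : Set (Points Y)} (hV : IsOpen V) (p : Points ((yon S).obj (preimageOver g hV))) :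
    Points.map ((yon S).map (preimageOverι g hV) ≫ g) p ∈ V := by
  obtain ⟨t, rfl⟩ := (Points.schemeHomeo (preimageOver g hV)).surjective p
  change Points.map _ (Points.ofScheme _ t) ∈ V
  rw [← Points.ofPt_eq_map_ofScheme, ofPt_yon_map_comp]
  exact t.2

set_option backward.isDefEq.respectTransparency.types false in
/-- The pullback of the open subsheaf along a map from a scheme is the open subscheme. -/
theorem isPullback_openSub_yon {Y : Sp S} {T : Over S} (g : (yon S).obj T ⟶ Y)
    {V : Set (Points Y)} (hV : IsOpen V) :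
    IsPullback (openSubLift V ((yon S).map (preimageOverι g hV) ≫ g)
      (points_map_preimageOverι_mem g hV)) ((yon S).map (preimageOverι g hV))
      (openSubι Y V) g := by
  haveI : Mono (preimageOverι g hV) := by
    haveI : Mono (preimageOverι g hV).left := inferInstanceAs (Mono (preimageOpens g hV).ι)
    exact (Over.forget S).mono_of_mono_map ‹_›
  haveI : Mono ((yon S).map (preimageOverι g hV)) := inferInstance
  refine IsPullback.of_isLimit' ⟨by rw [openSubLift_ι]⟩ ?_
  -- the key: a section of `h_T` all of whose points map into `V` factors through the open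
  have key : ∀ (A : Sp S) (α : A ⟶ openSub Y V) (β : A ⟶ (yon S).obj T),
      α ≫ openSubι Y V = β ≫ g → ∀ (B : (Over S)ᵒᵖ) (x : A.obj.obj B),
        ∃ b' : B.unop ⟶ preimageOver g hV, β.hom.app B x = ⟨b' ≫ preimageOverι g hV⟩ := by
    intro A α β hαβ B x
    generalize hb0 : β.hom.app B x = bb
    obtain ⟨b⟩ := bb
    have hb : ∀ a : ↥B.unop.left, b.left a ∈ preimageOpens g hV := by
      intro a
      change Points.ofPt g (b.left a) ∈ V
      rw [← ofPt_yon_map_comp]
      have e1 : (yon S).map b = (J S).uliftYonedaEquiv.symm x ≫ β := by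
        rw [GrothendieckTopology.uliftYonedaEquiv_symm_naturality_right.{u + 1} (J S) B.unop β x]
        apply (J S).uliftYonedaEquiv.injective
        rw [Equiv.apply_symm_apply, GrothendieckTopology.uliftYonedaEquiv_uliftYoneda_map]
        exact hb0.symm
      rw [e1, Category.assoc, ← hαβ, ← Category.assoc, ← Points.map_ofPt]
      exact points_map_openSubι_mem Y V _
    have hrange : Set.range b.left ⊆ Set.range (preimageOpens g hV).ι := by
      rw [Scheme.Opens.range_ι]
      rintro _ ⟨a, rfl⟩
      exact hb a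
    refine ⟨Over.homMk (IsOpenImmersion.lift (preimageOpens g hV).ι b.left hrange) ?_, ?_⟩
    · change IsOpenImmersion.lift _ _ _ ≫ (preimageOpens g hV).ι ≫ T.hom = B.unop.hom
      rw [← Category.assoc, IsOpenImmersion.lift_fac, Over.w]
    · congr 1
      apply Over.OverMorphism.ext
      exact (IsOpenImmersion.lift_fac _ _ _).symm
  haveI : Mono ((yon S).map (preimageOverι g hV)).hom :=
    (Sheaf.Hom.mono_iff_presheaf_mono _ _ _).mp inferInstance
  have hγ : ∀ s : PullbackCone (openSubι Y V) g,
      ∃ γ : s.pt ⟶ (yon S).obj (preimageOver g hV),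
        γ ≫ (yon S).map (preimageOverι g hV) = s.snd := by
    intro s
    obtain ⟨γ, hγ⟩ := exists_lift_of_range_le ((yon S).map (preimageOverι g hV)).hom s.snd.hom
      (fun B y hy => by
        obtain ⟨x, rfl⟩ := hy
        obtain ⟨b', hb'⟩ := key _ s.fst s.snd s.condition B x
        exact ⟨⟨b'⟩, hb'.symm⟩)
    exact ⟨⟨γ⟩, Sheaf.hom_ext hγ⟩
  choose γ hγ using hγ
  refine PullbackCone.IsLimit.mk _ γ (fun s => ?_) (fun s => hγ s) (fun s m h1 h2 => ?_)
  · rw [← cancel_mono (openSubι Y V), Category.assoc, openSubLift_ι, s.condition,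
      ← Category.assoc, hγ]
  · rw [← cancel_mono ((yon S).map (preimageOverι g hV)), h2, hγ]

/-- The open subsheaf cut out by an open subset of the points is representable by open
immersions. -/
theorem repWith_isOpenImmersion_openSubι (Y : Sp S) {V : Set (Points Y)} (hV : IsOpen V) :
    RepWith @IsOpenImmersion (openSubι Y V) := by
  refine MorphismProperty.relative.of_exists fun T g => ?_
  exact ⟨preimageOver g hV, openSubLift V _ (points_map_preimageOverι_mem g hV),
    preimageOverι g hV, isPullback_openSub_yon g hV,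
    inferInstanceAs (IsOpenImmersion (preimageOpens g hV).ι)⟩

/-- The diagonal of a subobject is a base change of the diagonal. -/
theorem isPullback_diag_of_mono {Z Y : Sp S} (j : Z ⟶ Y) [Mono j] :
    IsPullback (Limits.diag Z) j (prod.map j j) (Limits.diag Y) := by
  refine IsPullback.mk' ?_ ?_ ?_
  · apply Limits.prod.hom_ext
    · rw [Category.assoc, Category.assoc, prod.map_fst,
        show Limits.diag Y ≫ prod.fst = 𝟙 Y from prod.lift_fst _ _, Category.comp_id,
        ← Category.assoc, show Limits.diag Z ≫ prod.fst = 𝟙 Z from prod.lift_fst _ _,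
        Category.id_comp]
    · rw [Category.assoc, Category.assoc, prod.map_snd,
        show Limits.diag Y ≫ prod.snd = 𝟙 Y from prod.lift_snd _ _, Category.comp_id,
        ← Category.assoc, show Limits.diag Z ≫ prod.snd = 𝟙 Z from prod.lift_snd _ _,
        Category.id_comp]
  · intro T φ φ' _ h2
    exact (cancel_mono j).mp h2
  · intro T a b hab
    have h1 : (a ≫ prod.fst) ≫ j = b := by
      have := congrArg (fun k => k ≫ prod.fst) hab
      beta_reduce at this
      rw [Category.assoc, Category.assoc, prod.map_fst,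
        show Limits.diag Y ≫ prod.fst = 𝟙 Y from prod.lift_fst _ _, Category.comp_id,
        ← Category.assoc] at this
      exact this
    have h2 : (a ≫ prod.snd) ≫ j = b := by
      have := congrArg (fun k => k ≫ prod.snd) hab
      beta_reduce at this
      rw [Category.assoc, Category.assoc, prod.map_snd,
        show Limits.diag Y ≫ prod.snd = 𝟙 Y from prod.lift_snd _ _, Category.comp_id,
        ← Category.assoc] at this
      exact this
    have h3 : a ≫ prod.fst = a ≫ prod.snd := (cancel_mono j).mp (h1.trans h2.symm)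
    refine ⟨a ≫ prod.fst, ?_, h1⟩
    apply Limits.prod.hom_ext
    · rw [Category.assoc, show Limits.diag Z ≫ prod.fst = 𝟙 Z from prod.lift_fst _ _,
        Category.comp_id]
    · rw [Category.assoc, show Limits.diag Z ≫ prod.snd = 𝟙 Z from prod.lift_snd _ _,
        Category.comp_id, h3]

theorem representable_diag_of_mono {Z Y : Sp S} (j : Z ⟶ Y) [Mono j]
    (hY : Representable (Limits.diag Y)) : Representable (Limits.diag Z) :=
  (Representable (S := S)).of_isPullback (isPullback_diag_of_mono j).flip hY

/-- The open subsheaf of an algebraic space cut out by an open subset is an algebraic space. -/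
theorem isAlgSpace_openSub {Y : Sp S} (hY : IsAlgSpace Y) {V : Set (Points Y)} (hV : IsOpen V) :
    IsAlgSpace (openSub Y V) where
  diag := representable_diag_of_mono (openSubι Y V) hY.diag
  atlas := by
    obtain ⟨U, a, hae, has⟩ := hY.atlas
    have sq := isPullback_openSub_yon a hV
    exact ⟨preimageOver a hV, _, repWith_of_isPullback @Etale sq.flip hae,
      repWith_of_isPullback @Surjective sq.flip has⟩

/-- Monomorphisms of sheaves are injective on points. -/
theorem injective_points_map_of_mono {Z Y : Sp S} (j : Z ⟶ Y) [Mono j] :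
    Function.Injective (Points.map j) := by
  haveI : Mono j.hom := (Sheaf.Hom.mono_iff_presheaf_mono _ _ _).mp inferInstance
  have hinj : ∀ T, Function.Injective (j.hom.app T) := fun T =>
    (mono_iff_injective _).mp ((NatTrans.mono_iff_mono_app j.hom).mp inferInstance T)
  intro p p' h
  induction p using Points.ind with | h q => ?_
  induction p' using Points.ind with | h q' => ?_
  rw [Points.map_mk, Points.map_mk, Points.mk_eq_mk_iff] at h
  obtain ⟨Ω, _, w, a, b, hab⟩ := h
  rw [Points.mk_eq_mk_iff]
  refine ⟨Ω, inferInstance, w, a, b, hinj _ ?_⟩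
  change Y.obj.map a.op (j.hom.app _ q.val) = Y.obj.map b.op (j.hom.app _ q'.val) at hab
  rw [← NatTrans.naturality_apply, ← NatTrans.naturality_apply] at hab
  exact hab

/-- Existence of open subspaces. -/
theorem exists_openSubspace {Y : Sp S} (hY : IsAlgSpace Y) {V : Set (Points Y)} (hV : IsOpen V) :
    ∃ (W : Sp S) (j : W ⟶ Y), IsAlgSpace W ∧ Mono j ∧ RepWith @IsOpenImmersion j ∧
      Set.range (Points.map j) = V :=
  ⟨openSub Y V, openSubι Y V, isAlgSpace_openSub hY hV, inferInstance,
    repWith_isOpenImmersion_openSubι Y hV, range_points_map_openSubι Y V⟩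

/-- A lift through a monomorphism is a base change. -/
theorem isPullback_id_of_mono {T Z Y : Sp S} (j : Z ⟶ Y) [Mono j] (g : T ⟶ Y) (l : T ⟶ Z)
    (h : l ≫ j = g) : IsPullback (𝟙 T) l g j := by
  refine IsPullback.mk' ?_ ?_ ?_
  · rw [Category.id_comp, h]
  · intro W φ φ' h1 _
    rw [Category.comp_id, Category.comp_id] at h1
    exact h1
  · intro W a b hab
    refine ⟨a, Category.comp_id _, ?_⟩
    rw [← cancel_mono j, Category.assoc, h, hab]

theorem repWith_lift_of_mono (P : MorphismProperty Scheme.{u}) {T Z Y : Sp S} (j : Z ⟶ Y)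
    [Mono j] (g : T ⟶ Y) (l : T ⟶ Z) (h : l ≫ j = g) (hg : RepWith P g) : RepWith P l :=
  repWith_of_isPullback P (isPullback_id_of_mono j g l h) hg

/-- A scheme's open subscheme as an object over `S`. -/
abbrev opensOver {U : Over S} (W : U.left.Opens) : Over S := Over.mk (W.ι ≫ U.hom)

abbrev opensOverι {U : Over S} (W : U.left.Opens) : opensOver W ⟶ U := Over.homMk W.ι rfl

theorem repWith_isOpenImmersion_le_etale {F G : Sp S} {f : F ⟶ G}
    (hf : RepWith @IsOpenImmersion f) : RepWith @Etale f :=
  repWith_mono (fun _ _ _ h => by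
    haveI : IsOpenImmersion _ := h
    infer_instance) hf

end Groth.Agent.Helper2.AlgSpBasic
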