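import Mathlib
import Groth.Prelude.Def_AlgSp4
import Groth.Prelude.Def_AlgSpDec
import Groth.Agent.Lib.Helper2.AlgSp.ChartIndep
import Groth.Agent.Lib.Helper2.AlgSp.Diag
import Groth.Agent.Lib.Helper2.Sch.QfAt

/-!
# Quasi-finiteness at a point of a morphism of algebraic spaces: independence of the chart diagram
-/

set_option autoImplicit false
set_option backward.isDefEq.respectTransparency false

open CategoryTheory CategoryTheory.Limits AlgebraicGeometry Opposite AlgSp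

namespace Groth.Agent.Helper2.QfAtSp
universe u
variable {S : Scheme.{u}}

open Groth.Agent.Helper2.ChartIndep Groth.Agent.Helper2.QfAt

/-- Quasi-finiteness at a point does not depend on the chart diagram. -/
theorem quasiFiniteAt_chart_indep {X Y : Sp S} (hX : Representable (Limits.diag X))
    (hY : Representable (Limits.diag Y)) (f : X ⟶ Y) (hf : LocP @LocallyOfFiniteType f)
    {U₁ V₁ U₂ V₂ : Over S} (a₁ : (yon S).obj U₁ ⟶ X) (b₁ : (yon S).obj V₁ ⟶ Y) (h₁ : U₁ ⟶ V₁)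
    (a₂ : (yon S).obj U₂ ⟶ X) (b₂ : (yon S).obj V₂ ⟶ Y) (h₂ : U₂ ⟶ V₂)
    (ha₁ : RepWith @Etale a₁) (hb₁ : RepWith @Etale b₁) (ha₂ : RepWith @Etale a₂)
    (hb₂ : RepWith @Etale b₂) (c₁ : a₁ ≫ f = (yon S).map h₁ ≫ b₁)
    (c₂ : a₂ ≫ f = (yon S).map h₂ ≫ b₂) (u₁ : ↥U₁.left) (u₂ : ↥U₂.left)
    (e : Points.ofPt a₁ u₁ = Points.ofPt a₂ u₂) :
    h₁.left.QuasiFiniteAt u₁ ↔ h₂.left.QuasiFiniteAt u₂ := by
  obtain ⟨U₃, p₁, p₂, sqU⟩ := AlgSpBasic.exists_isPullback_yon hX a₁ a₂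
  obtain ⟨V₃, q₁, q₂, sqV⟩ := AlgSpBasic.exists_isPullback_yon hY b₁ b₂
  have hp₂ : Etale p₂.left := ha₁.property a₂ ((yon S).map p₁) p₂ sqU
  have hp₁ : Etale p₁.left := ha₂.property a₁ ((yon S).map p₂) p₁ sqU.flip
  have hq₂ : Etale q₂.left := hb₁.property b₂ ((yon S).map q₁) q₂ sqV
  have hq₁ : Etale q₁.left := hb₂.property b₁ ((yon S).map q₂) q₁ sqV.flip
  have hcomm : (yon S).map (p₁ ≫ h₁) ≫ b₁ = (yon S).map (p₂ ≫ h₂) ≫ b₂ := by
    rw [Functor.map_comp, Functor.map_comp, Category.assoc, Category.assoc, ← c₁, ← c₂,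
      ← Category.assoc, ← Category.assoc, sqU.w]
  obtain ⟨h₃, hh₃⟩ := (yon S).map_surjective (sqV.lift _ _ hcomm)
  have e₁ : h₃ ≫ q₁ = p₁ ≫ h₁ := by
    apply (yon S).map_injective
    rw [Functor.map_comp, hh₃, sqV.lift_fst]
  have e₂ : h₃ ≫ q₂ = p₂ ≫ h₂ := by
    apply (yon S).map_injective
    rw [Functor.map_comp, hh₃, sqV.lift_snd]
  obtain ⟨u₃, hu₁, hu₂⟩ := AlgSpBasic.exists_point_of_isPullback_yon a₁ a₂ p₁ p₂ sqU u₁ u₂ e
  haveI : LocallyOfFiniteType h₁.left := hf a₁ b₁ h₁ ha₁ hb₁ c₁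
  haveI : LocallyOfFiniteType h₂.left := hf a₂ b₂ h₂ ha₂ hb₂ c₂
  haveI := hp₁
  haveI := hp₂
  haveI := hq₁
  haveI := hq₂
  have s₁ : p₁.left ≫ h₁.left = h₃.left ≫ q₁.left := by
    rw [← Over.comp_left, ← Over.comp_left, e₁]
  have s₂ : p₂.left ≫ h₂.left = h₃.left ≫ q₂.left := by
    rw [← Over.comp_left, ← Over.comp_left, e₂]
  have i₁ := quasiFiniteAt_square_iff h₁.left h₃.left p₁.left q₁.left s₁ u₃
  have i₂ := quasiFiniteAt_square_iff h₂.left h₃.left p₂.left q₂.left s₂ u₃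
  rw [hu₁] at i₁
  rw [hu₂] at i₂
  exact i₁.trans i₂.symm

/-- The quasi-finite-at predicate of the statements. -/
abbrev QfQ : ∀ (U V : Scheme.{u}), (U ⟶ V) → ↥U → Prop :=
  fun U _ h u => ∃ W : U.Opens, u ∈ W ∧ LocallyQuasiFinite (W.ι ≫ h) ∧ LocallyOfFiniteType (W.ι ≫ h)

/-- With quasi-finiteness at one diagram through `x`, every diagram through `x` is quasi-finite at
the point. -/
theorem quasiFiniteAt_of_hasAtMor {X Y : Sp S} (hX : Representable (Limits.diag X))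
    (hY : Representable (Limits.diag Y)) (f : X ⟶ Y) (hf : LocP @LocallyOfFiniteType f)
    (x : Points X) (hx : HasAtMor QfQ f x)
    {U V : Over S} (a : (yon S).obj U ⟶ X) (b : (yon S).obj V ⟶ Y) (h : U ⟶ V)
    (ha : RepWith @Etale a) (hb : RepWith @Etale b) (c : a ≫ f = (yon S).map h ≫ b)
    (u : ↥U.left) (hu : Points.ofPt a u = x) : h.left.QuasiFiniteAt u := by
  obtain ⟨U₁, V₁, a₁, b₁, h₁, u₁, ha₁, hb₁, c₁, hu₁, hq⟩ := hx
  have hq' : h₁.left.QuasiFiniteAt u₁ := quasiFiniteAt_of_qfNear hq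
  exact (quasiFiniteAt_chart_indep hX hY f hf a₁ b₁ h₁ a b h ha₁ hb₁ ha hb c₁ c u₁ u
    (hu₁.trans hu.symm)).mp hq'

theorem hasAtMor_of_quasiFiniteAt {X Y : Sp S} (f : X ⟶ Y) (hf : LocP @LocallyOfFiniteType f)
    {U V : Over S} (a : (yon S).obj U ⟶ X) (b : (yon S).obj V ⟶ Y) (h : U ⟶ V)
    (ha : RepWith @Etale a) (hb : RepWith @Etale b) (c : a ≫ f = (yon S).map h ≫ b)
    (u : ↥U.left) (hq : h.left.QuasiFiniteAt u) : HasAtMor QfQ f (Points.ofPt a u) := by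
  haveI : LocallyOfFiniteType h.left := hf a b h ha hb c
  exact ⟨U, V, a, b, h, u, ha, hb, c, rfl, qfNear_of_quasiFiniteAt hq⟩

end Groth.Agent.Helper2.QfAtSp
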