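import Mathlib
import Groth.Prelude.Def_AlgSp4
import Groth.Prelude.Def_AlgSpDec
import Groth.Agent.Lib.Helper2.AlgSp.QfAtSp
import Groth.Agent.Lib.Helper2.AlgSp.LocP
import Groth.Agent.Lib.Helper2.AlgSp.QC
import Groth.Agent.Lib.Helper2.AlgSp.PointsMor
import Groth.Agent.Lib.Helper2.Sch.QfAtBC

/-!
# Quasi-finiteness at a point and base change, for algebraic spaces
-/

set_option autoImplicit false
set_option backward.isDefEq.respectTransparency false

open CategoryTheory CategoryTheory.Limits AlgebraicGeometry Opposite AlgSp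

namespace Groth.Agent.Helper2.QfAtBCSp
universe u
variable {S : Scheme.{u}}

open Groth.Agent.Helper2.ChartIndep Groth.Agent.Helper2.QfAt Groth.Agent.Helper2.QfAtSp

/-- Base change of a chart diagram along a morphism from a scheme. -/
theorem exists_bc_chart {X Y F : Sp S} (hY : Representable (Limits.diag Y)) (f : X ⟶ Y)
    {T : Over S} (t : (yon S).obj T ⟶ Y) (p : F ⟶ X) (q : F ⟶ (yon S).obj T)
    (sq : IsPullback p q f t) {U V : Over S} (a : (yon S).obj U ⟶ X) (b : (yon S).obj V ⟶ Y)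
    (h : U ⟶ V) (hae : RepWith @Etale a) (hbe : RepWith @Etale b)
    (c : a ≫ f = (yon S).map h ≫ b) :
    ∃ (P R : Over S) (π₁ : P ⟶ U) (l : (yon S).obj P ⟶ F) (ρ₁ : R ⟶ V) (ρ₂ : R ⟶ T) (m : P ⟶ R),
      IsPullback l ((yon S).map π₁) p a ∧ RepWith @Etale l ∧ Etale ρ₂.left ∧
      l ≫ q = (yon S).map (m ≫ ρ₂) ∧ IsPullback π₁.left m.left h.left ρ₁.left := by
  obtain ⟨P, π₁, π₂, sqP⟩ := AlgSpBasic.exists_isPullback_yon hY (a ≫ f) t
  have wl : ((yon S).map π₁ ≫ a) ≫ f = (yon S).map π₂ ≫ t := by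
    rw [Category.assoc]; exact sqP.w
  let l : (yon S).obj P ⟶ F := sq.lift ((yon S).map π₁ ≫ a) ((yon S).map π₂) wl
  have hl1 : l ≫ p = (yon S).map π₁ ≫ a := sq.lift_fst _ _ _
  have hl2 : l ≫ q = (yon S).map π₂ := sq.lift_snd _ _ _
  have sqL : IsPullback l ((yon S).map π₁) p a := by
    refine IsPullback.of_right ?_ hl1 sq.flip
    rw [hl2]
    exact sqP.flip
  have hl : RepWith @Etale l := AlgSpBasic.repWith_of_isPullback @Etale sqL.flip hae
  obtain ⟨R, ρ₁, ρ₂, sqT⟩ := AlgSpBasic.exists_isPullback_yon hY b t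
  have hρ₂ : Etale ρ₂.left := hbe.property t ((yon S).map ρ₁) ρ₂ sqT
  have wm : (yon S).map (π₁ ≫ h) ≫ b = (yon S).map π₂ ≫ t := by
    rw [Functor.map_comp, Category.assoc, ← c]
    exact sqP.w
  obtain ⟨m, hm⟩ := (yon S).map_surjective (sqT.lift _ _ wm)
  have e₁ : m ≫ ρ₁ = π₁ ≫ h := by
    apply (yon S).map_injective
    rw [Functor.map_comp, hm, sqT.lift_fst]
  have e₂ : m ≫ ρ₂ = π₂ := by
    apply (yon S).map_injective
    rw [Functor.map_comp, hm, sqT.lift_snd]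
  have sqM : IsPullback ((yon S).map m) ((yon S).map π₁) ((yon S).map ρ₁) ((yon S).map h) := by
    refine IsPullback.of_right ?_ ?_ sqT.flip
    · rw [← Functor.map_comp, e₂, ← c]
      exact sqP.flip
    · rw [← Functor.map_comp, ← Functor.map_comp, e₁]
  have sqS : IsPullback m π₁ ρ₁ h := IsPullback.of_map (yon S) e₁ sqM
  have sqS' : IsPullback π₁.left m.left h.left ρ₁.left := (sqS.map (Over.forget S)).flip
  exact ⟨P, R, π₁, l, ρ₁, ρ₂, m, sqL, hl, hρ₂, by rw [hl2, e₂], sqS'⟩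

/-- Quasi-finiteness at a point and base change to a scheme. -/
theorem hasAtMor_qf_bc_scheme_iff {X Y F : Sp S} (hX : IsAlgSpace X) (hY : IsAlgSpace Y)
    (hF : IsAlgSpace F) (f : X ⟶ Y) (hf : LocP @LocallyOfFiniteType f)
    {T : Over S} (t : (yon S).obj T ⟶ Y) (p : F ⟶ X) (q : F ⟶ (yon S).obj T)
    (sq : IsPullback p q f t) (z : Points F) :
    HasAtMor QfQ q z ↔ HasAtMor QfQ f (Points.map p z) := by
  have hT : IsAlgSpace ((yon S).obj T) := IsAlgSpace.yon_obj T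
  have hq : LocP @LocallyOfFiniteType q :=
    AlgSpBasic.locP_of_isPullback @LocallyOfFiniteType hX hY hT hF f t p q sq hf
  obtain ⟨V, b, hbe, hbs⟩ := hY.atlas
  obtain ⟨U, a, h, hae, has, c⟩ := AlgSpBasic.exists_chart_lift hX f b hbe hbs
  haveI : LocallyOfFiniteType h.left := hf a b h hae hbe c
  obtain ⟨u, hu⟩ := AlgSpBasic.surjective_ofPt a has (Points.map p z)
  obtain ⟨P, R, π₁, l, ρ₁, ρ₂, m, sqL, hl, hρ₂, hlq, sqS'⟩ :=
    exists_bc_chart hY.diag f t p q sq a b h hae hbe c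
  obtain ⟨p₀, hp₀z, hp₀u⟩ :=
    AlgSpBasic.exists_point_of_isPullback_right p a l π₁ sqL z u hu.symm
  have cq : l ≫ q = (yon S).map (m ≫ ρ₂) ≫ 𝟙 _ := by rw [Category.comp_id, hlq]
  have hid : RepWith @Etale (𝟙 ((yon S).obj T)) := repWith_id _ T
  haveI := hρ₂
  haveI := locallyQuasiFinite_of_etale ρ₂.left
  -- the four equivalences
  have i1 : HasAtMor QfQ q z ↔ (m ≫ ρ₂).left.QuasiFiniteAt p₀ := by
    constructor
    · intro hq'
      exact quasiFiniteAt_of_hasAtMor hF.diag hT.diag q hq z hq' l (𝟙 _) (m ≫ ρ₂) hl hid cq p₀ hp₀z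
    · intro hq'
      rw [← hp₀z]
      exact hasAtMor_of_quasiFiniteAt q hq l (𝟙 _) (m ≫ ρ₂) hl hid cq p₀ hq'
  have i2 : (m ≫ ρ₂).left.QuasiFiniteAt p₀ ↔ m.left.QuasiFiniteAt p₀ := by
    rw [Over.comp_left]
    exact Scheme.Hom.quasiFiniteAt_comp_iff
  have i3 : m.left.QuasiFiniteAt p₀ ↔ h.left.QuasiFiniteAt (π₁.left p₀) :=
    quasiFiniteAt_isPullback_iff sqS' p₀
  have i4 : h.left.QuasiFiniteAt u ↔ HasAtMor QfQ f (Points.map p z) := by
    constructor
    · intro hq'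
      rw [← hu]
      exact hasAtMor_of_quasiFiniteAt f hf a b h hae hbe c u hq'
    · intro hq'
      exact quasiFiniteAt_of_hasAtMor hX.diag hY.diag f hf _ hq' a b h hae hbe c u hu
  rw [hp₀u] at i3
  exact i1.trans (i2.trans (i3.trans i4))

/-- Quasi-finiteness at a point and arbitrary base change of algebraic spaces. -/
theorem hasAtMor_qf_bc_iff {X Y X' Y' : Sp S} (hX : IsAlgSpace X) (hY : IsAlgSpace Y)
    (hX' : IsAlgSpace X') (hY' : IsAlgSpace Y') (f : X ⟶ Y) (g : Y' ⟶ Y) (b : X' ⟶ X)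
    (f' : X' ⟶ Y') (sq : IsPullback b f' f g) (hf : LocP @LocallyOfFiniteType f)
    (x' : Points X') : HasAtMor QfQ f' x' ↔ HasAtMor QfQ f (Points.map b x') := by
  have hf' : LocP @LocallyOfFiniteType f' :=
    AlgSpBasic.locP_of_isPullback @LocallyOfFiniteType hX hY hY' hX' f g b f' sq hf
  obtain ⟨V', β', hβe, hβs⟩ := hY'.atlas
  let e : pullback f' β' ⟶ X' := pullback.fst f' β'
  let q : pullback f' β' ⟶ (yon S).obj V' := pullback.snd f' β'
  have sqF : IsPullback e q f' β' := IsPullback.of_hasPullback f' β'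
  have hF : IsAlgSpace (pullback f' β') :=
    AlgSpBasic.isAlgSpace_of_isPullback hY'.diag hX' (IsAlgSpace.yon_obj V') f' β' e q sqF
  have sqB : IsPullback (e ≫ b) q f (β' ≫ g) := sqF.paste_horiz sq
  have hes : IsSurjectiveMor e := AlgSpBasic.isSurjectiveMor_fst_of_isPullback sqF hβs
  obtain ⟨z, hz⟩ := hes x'
  have h1 := hasAtMor_qf_bc_scheme_iff hX' hY' hF f' hf' β' e q sqF z
  have h2 := hasAtMor_qf_bc_scheme_iff hX hY hF f hf (β' ≫ g) (e ≫ b) q sqB z
  rw [hz] at h1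
  have h3 : Points.map (e ≫ b) z = Points.map b x' := by
    rw [Points.map_comp]
    exact congrArg _ hz
  rw [h3] at h2
  exact h1.symm.trans h2

end Groth.Agent.Helper2.QfAtBCSp
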