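import Mathlib
import Groth.Prelude.Def_AlgSp4
import Groth.Prelude.Def_AlgSpDec
import Groth.Prelude.Def_Flat
import Groth.Agent.Lib.Helper2.AlgSp.ChartIndepMor
import Groth.Agent.Lib.Helper2.AlgSp.QfAtBCSp
import Groth.Agent.Lib.Helper2.AlgSp.OpenSub
import Groth.Agent.Lib.Helper4.FibDimBC2
import Groth.Agent.Lib.Helper4.Chev2

/-!
# Relative dimension at a point of a morphism of algebraic spaces: open locus and base change
(S10308, S10311) (helper2)
-/

set_option autoImplicit false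
set_option backward.isDefEq.respectTransparency false

open CategoryTheory CategoryTheory.Limits AlgebraicGeometry Opposite AlgSp

namespace Groth.Agent.Helper2.RelDimSp
universe u
variable {S : Scheme.{u}}

open Groth.Agent.Helper2.ChartIndepMor Groth.Agent.Helper2.QfAtSp

/-- a property of morphisms of pointed schemes invariant under base change of morphisms locally of
finite type -/
def BaseChangeInv (Q : ∀ (U V : Scheme.{u}), (U ⟶ V) → ↥U → Prop) : Prop :=
  ∀ (P R U V : Scheme.{u}) (π₁ : P ⟶ U) (m : P ⟶ R) (h : U ⟶ V) (ρ₁ : R ⟶ V),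
    IsPullback π₁ m h ρ₁ → LocallyOfFiniteType h → ∀ p₀ : P, Q P R m p₀ ↔ Q U V h (π₁ p₀)

theorem hasAtMor_of {Q : ∀ (U V : Scheme.{u}), (U ⟶ V) → ↥U → Prop} {X Y : Sp S} (f : X ⟶ Y)
    {U V : Over S} (a : (yon S).obj U ⟶ X) (b : (yon S).obj V ⟶ Y) (h : U ⟶ V)
    (ha : RepWith @Etale a) (hb : RepWith @Etale b) (c : a ≫ f = (yon S).map h ≫ b)
    (u : ↥U.left) (hq : Q _ _ h.left u) : HasAtMor Q f (Points.ofPt a u) :=
  ⟨U, V, a, b, h, u, ha, hb, c, rfl, hq⟩

/-- the locus of points with a property étale local on source and target, open on charts -/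
theorem isOpen_locus {Q : ∀ (U V : Scheme.{u}), (U ⟶ V) → ↥U → Prop} (hQ : EtaleLocalST Q)
    (hQo : ∀ (U V : Scheme.{u}) (h : U ⟶ V), LocallyOfFiniteType h → IsOpen {u : U | Q U V h u})
    {X Y : Sp S} (hX : IsAlgSpace X) (hY : IsAlgSpace Y) (f : X ⟶ Y)
    (hf : LocP @LocallyOfFiniteType f) : IsOpen {x : Points X | HasAtMor Q f x} := by
  obtain ⟨V, b, hbe, hbs⟩ := hY.atlas
  obtain ⟨U, a, h, hae, has, c⟩ := AlgSpBasic.exists_chart_lift hX f b hbe hbs
  have hlft : LocallyOfFiniteType h.left := hf a b h hae hbe c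
  have : {x : Points X | HasAtMor Q f x} =
      Points.ofPt a '' {u : ↥U.left | Q _ _ h.left u} := by
    ext x
    constructor
    · intro hx
      obtain ⟨u, hu⟩ := AlgSpBasic.surjective_ofPt a has x
      exact ⟨u, of_hasAtMor hQ hX.diag hY.diag f x hx a b h hae hbe c u hu, hu⟩
    · rintro ⟨u, hu, rfl⟩
      exact hasAtMor_of f a b h hae hbe c u hu
  rw [this]
  exact AlgSpBasic.isOpenMap_ofPt a hae _ (hQo _ _ h.left hlft)

/-- S10308 -/
theorem S10308_main {X Y : Sp S} (hX : IsAlgSpace X) (hY : IsAlgSpace Y) (f : X ⟶ Y)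
    (hf : LocP @LocallyOfFiniteType f) (n : ℕ) :
    IsOpen {x : Points X |
      HasAtMor (fun _ _ h u => FlatMor.fibreDimAt h u ≤ (n : WithBot ℕ∞)) f x} := by
  apply isOpen_locus (etaleLocalST_fibreDimAt_le _) _ hX hY f hf
  intro U V h hh
  haveI := hh
  exact Groth.Agent.Lib.Helper4.Chev2.S0402_main h n

/-- a property étale local on source and target and invariant under base change, and base change
to a scheme -/
theorem hasAtMor_bc_scheme_iff {Q : ∀ (U V : Scheme.{u}), (U ⟶ V) → ↥U → Prop}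
    (hQ : EtaleLocalST Q) (hQbc : BaseChangeInv Q)
    {X Y F : Sp S} (hX : IsAlgSpace X) (hY : IsAlgSpace Y)
    (hF : IsAlgSpace F) (f : X ⟶ Y) (hf : LocP @LocallyOfFiniteType f)
    {T : Over S} (t : (yon S).obj T ⟶ Y) (p : F ⟶ X) (q : F ⟶ (yon S).obj T)
    (sq : IsPullback p q f t) (z : Points F) :
    HasAtMor Q q z ↔ HasAtMor Q f (Points.map p z) := by
  have hT : IsAlgSpace ((yon S).obj T) := IsAlgSpace.yon_obj T
  obtain ⟨V, b, hbe, hbs⟩ := hY.atlas
  obtain ⟨U, a, h, hae, has, c⟩ := AlgSpBasic.exists_chart_lift hX f b hbe hbs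
  have hlft : LocallyOfFiniteType h.left := hf a b h hae hbe c
  obtain ⟨u, hu⟩ := AlgSpBasic.surjective_ofPt a has (Points.map p z)
  obtain ⟨P, R, π₁, l, ρ₁, ρ₂, m, sqL, hl, hρ₂, hlq, sqS'⟩ :=
    QfAtBCSp.exists_bc_chart hY.diag f t p q sq a b h hae hbe c
  obtain ⟨p₀, hp₀z, hp₀u⟩ :=
    AlgSpBasic.exists_point_of_isPullback_right p a l π₁ sqL z u hu.symm
  have cq : l ≫ q = (yon S).map (m ≫ ρ₂) ≫ 𝟙 _ := by rw [Category.comp_id, hlq]
  have hid : RepWith @Etale (𝟙 ((yon S).obj T)) := repWith_id _ T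
  have i1 : HasAtMor Q q z ↔ Q _ _ (m ≫ ρ₂).left p₀ := by
    constructor
    · intro hq'
      exact of_hasAtMor hQ hF.diag hT.diag q z hq' l (𝟙 _) (m ≫ ρ₂) hl hid cq p₀ hp₀z
    · intro hq'
      rw [← hp₀z]
      exact hasAtMor_of q l (𝟙 _) (m ≫ ρ₂) hl hid cq p₀ hq'
  have i2 : Q _ _ (m ≫ ρ₂).left p₀ ↔ Q _ _ m.left p₀ := by
    have := hQ _ _ _ _ (m ≫ ρ₂).left m.left (𝟙 _) ρ₂.left inferInstance hρ₂
      (by rw [Category.id_comp, Over.comp_left]) p₀
    exact this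
  have i3 : Q _ _ m.left p₀ ↔ Q _ _ h.left (π₁.left p₀) := hQbc _ _ _ _ _ _ _ _ sqS' hlft p₀
  have i4 : Q _ _ h.left u ↔ HasAtMor Q f (Points.map p z) := by
    constructor
    · intro hq'
      rw [← hu]
      exact hasAtMor_of f a b h hae hbe c u hq'
    · intro hq'
      exact of_hasAtMor hQ hX.diag hY.diag f _ hq' a b h hae hbe c u hu
  rw [hp₀u] at i3
  exact i1.trans (i2.trans (i3.trans i4))

/-- a property étale local on source and target and invariant under base change, and arbitrary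
base change of algebraic spaces -/
theorem hasAtMor_bc_iff {Q : ∀ (U V : Scheme.{u}), (U ⟶ V) → ↥U → Prop}
    (hQ : EtaleLocalST Q) (hQbc : BaseChangeInv Q)
    {X Y X' Y' : Sp S} (hX : IsAlgSpace X) (hY : IsAlgSpace Y)
    (hX' : IsAlgSpace X') (hY' : IsAlgSpace Y') (f : X ⟶ Y) (g : Y' ⟶ Y) (b : X' ⟶ X)
    (f' : X' ⟶ Y') (sq : IsPullback b f' f g) (hf : LocP @LocallyOfFiniteType f)
    (x' : Points X') : HasAtMor Q f' x' ↔ HasAtMor Q f (Points.map b x') := by
  have hf' : LocP @LocallyOfFiniteType f' :=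
    AlgSpBasic.locP_of_isPullback @LocallyOfFiniteType hX hY hY' hX' f g b f' sq hf
  obtain ⟨V', β', hβe, hβs⟩ := hY'.atlas
  let e : pullback f' β' ⟶ X' := pullback.fst f' β'
  let q : pullback f' β' ⟶ (yon S).obj V' := pullback.snd f' β'
  have sqF : IsPullback e q f' β' := IsPullback.of_hasPullback f' β'
  have hF : IsAlgSpace (pullback f' β') :=
    AlgSpBasic.isAlgSpace_of_isPullback hY'.diag hX' (IsAlgSpace.yon_obj V') f' β' e q sqF
  have sqB : IsPullback (e ≫ b) q f (β' ≫ g) := sqF.paste_horiz sq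
  have hes : IsSurjectiveMor e := AlgSpBasic.isSurjectiveMor_fst_of_isPullback sqF hβs
  obtain ⟨z, hz⟩ := hes x'
  have h1 := hasAtMor_bc_scheme_iff hQ hQbc hX' hY' hF f' hf' β' e q sqF z
  have h2 := hasAtMor_bc_scheme_iff hQ hQbc hX hY hF f hf (β' ≫ g) (e ≫ b) q sqB z
  rw [hz] at h1
  have h3 : Points.map (e ≫ b) z = Points.map b x' := by
    rw [Points.map_comp]
    exact congrArg _ hz
  rw [h3] at h2
  exact h1.symm.trans h2

theorem baseChangeInv_fibreDimAt_eq (d : WithBot ℕ∞) :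
    BaseChangeInv (fun _ _ h u => FlatMor.fibreDimAt h u = d) := by
  intro P R U V π₁ m h ρ₁ sq hh p₀
  haveI := hh
  beta_reduce
  rw [Groth.Agent.Lib.Helper4.FibDimBC2.fibreDimAt_abs h ρ₁ π₁ m sq p₀]

theorem baseChangeInv_fibreDimAt_le (d : WithBot ℕ∞) :
    BaseChangeInv (fun _ _ h u => FlatMor.fibreDimAt h u ≤ d) := by
  intro P R U V π₁ m h ρ₁ sq hh p₀
  haveI := hh
  beta_reduce
  rw [Groth.Agent.Lib.Helper4.FibDimBC2.fibreDimAt_abs h ρ₁ π₁ m sq p₀]

/-- S10311 -/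
theorem S10311_main {X Y Y' X' : Sp S} (hX : IsAlgSpace X) (hY : IsAlgSpace Y)
    (hY' : IsAlgSpace Y') (hX' : IsAlgSpace X') (f : X ⟶ Y) (g : Y' ⟶ Y)
    (g' : X' ⟶ X) (f' : X' ⟶ Y') (sq : IsPullback g' f' f g)
    (hf : LocP @LocallyOfFiniteType f) (x' : Points X') (d : WithBot ℕ∞)
    (hd : HasAtMor (fun _ _ h u => FlatMor.fibreDimAt h u = d) f (Points.map g' x')) :
    HasAtMor (fun _ _ h u => FlatMor.fibreDimAt h u = d) f' x' :=
  (hasAtMor_bc_iff (etaleLocalST_fibreDimAt_eq d) (baseChangeInv_fibreDimAt_eq d) hX hY hX' hY'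
    f g g' f' sq hf x').mpr hd

end Groth.Agent.Helper2.RelDimSp
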