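import Mathlib
import Groth.Prelude.Def_AlgSp4
import Groth.Prelude.Def_AlgSpDec
import Groth.Prelude.Def_Flat
import Groth.Agent.Lib.Helper2.AlgSp.RelDimSp
import Groth.Agent.Lib.Helper2.AlgSp.DimSp
import Groth.Agent.Lib.Helper2.FibDim.EtaleLocal
import Groth.Agent.Lib.Helper4.Chev3

/-!
# The dimension of a fibre over a field point of a morphism of algebraic spaces (S10678) (helper2)
-/

set_option autoImplicit false
set_option backward.isDefEq.respectTransparency false

open CategoryTheory CategoryTheory.Limits AlgebraicGeometry Opposite AlgSp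

namespace Groth.Agent.Helper2.FibreDimField
universe u
variable {S : Scheme.{u}}

open Groth.Agent.Helper2.ChartIndep Groth.Agent.Helper2.ChartIndepMor Groth.Agent.Helper2.RelDimSp

/-- Over a one-point scheme the local dimension of the fibre is the local dimension of the
source. -/
theorem fibreDimAt_eq_localDim_of_subsingleton {W T : Scheme.{u}} [Subsingleton ↥T] (g : W ⟶ T)
    (w : ↥W) : FlatMor.fibreDimAt g w = FlatMor.localDim ↥W w := by
  rw [Groth.Agent.Helper2.FibDim.fibreDimAt_eq_localDim_preimage' g w (g w) rfl]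
  have huniv : g.base ⁻¹' {g w} = Set.univ := by
    ext t
    simp only [Set.mem_preimage, Set.mem_singleton_iff, Set.mem_univ, iff_true]
    exact Subsingleton.elim _ _
  have hopen : IsOpen (g.base ⁻¹' {g w}) := by rw [huniv]; exact isOpen_univ
  exact Groth.Agent.Lib.Helper4.Chev2.localDim_openEmbedding Subtype.val
    hopen.isOpenEmbedding_subtypeVal ⟨w, rfl⟩

/-- S10678 -/
theorem S10678_main {X Y : Sp S} (hX : IsAlgSpace X) (hY : IsAlgSpace Y) (f : X ⟶ Y)
    (hf : LocP @LocallyOfFiniteType f) (y : Points Y) (k : FieldPt Y) (hk : Points.mk k = y)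
    (Xk : Sp S) (fst : Xk ⟶ X) (snd : Xk ⟶ (yon S).obj k.pt) (h : IsPullback fst snd f k.toHom) :
    (AlgSp.dim Xk = ⊥ ↔ y ∉ Set.range (Points.map f)) ∧
      ∀ d : ℕ, (AlgSp.dim Xk ≤ d ↔
        ∀ x : Points X, Points.map f x = y →
          HasAtMor (fun _ _ h u => FlatMor.fibreDimAt h u ≤ (d : WithBot ℕ∞)) f x) := by
  have hXk : IsAlgSpace Xk :=
    AlgSpBasic.isAlgSpace_of_isPullback hY.diag hX (IsAlgSpace.yon_obj k.pt) f k.toHom fst snd h
  haveI : Subsingleton ↥k.pt.left :=
    inferInstanceAs (Subsingleton (PrimeSpectrum k.K))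
  -- every point of `h_{Spec K}` maps to `y`
  have hpt : ∀ ρ : Points ((yon S).obj k.pt), Points.map k.toHom ρ = y := by
    intro ρ
    rw [← Points.ofScheme_toScheme k.pt ρ, Points.map_ofPt, Category.id_comp,
      Points.ofPt_toHom, hk]
  -- the points of the fibre
  have hover : ∀ π : Points Xk, Points.map f (Points.map fst π) = y := by
    intro π
    have h1 : Points.map f (Points.map fst π) = Points.map k.toHom (Points.map snd π) := by
      rw [← Points.map_comp, ← Points.map_comp, h.w]
    rw [h1, hpt]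
  have hsurj : ∀ x : Points X, Points.map f x = y → ∃ π : Points Xk, Points.map fst π = x := by
    intro x hx
    obtain ⟨ρ⟩ : Nonempty (Points ((yon S).obj k.pt)) :=
      ⟨Points.ofScheme k.pt (IsLocalRing.closedPoint k.K)⟩
    obtain ⟨π, hπ1, -⟩ := AlgSpBasic.points_exists_of_isPullback k.toHom f fst snd h x ρ
      (by rw [hx, hpt])
    exact ⟨π, hπ1⟩
  -- local dimension on charts of the fibre
  have hchart : ∀ (W : Over S) (a : (yon S).obj W ⟶ Xk) (ha : RepWith @Etale a) (w : ↥W.left)
      (d : ℕ), FlatMor.localDim ↥W.left w ≤ (d : WithBot ℕ∞) ↔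
        HasAtMor (fun _ _ h u => FlatMor.fibreDimAt h u ≤ (d : WithBot ℕ∞)) snd
          (Points.ofPt a w) := by
    intro W a ha w d
    obtain ⟨g, hg⟩ := (yon S).map_surjective (a ≫ snd)
    have c : a ≫ snd = (yon S).map g ≫ 𝟙 _ := by rw [hg, Category.comp_id]
    have e := fibreDimAt_eq_localDim_of_subsingleton g.left w
    constructor
    · intro hle
      exact hasAtMor_of snd a (𝟙 _) g ha (repWith_id _ _) c w (by rw [e]; exact hle)
    · intro hle
      have := of_hasAtMor (etaleLocalST_fibreDimAt_le (d : WithBot ℕ∞)) hXk.diag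
        (IsAlgSpace.yon_obj k.pt).diag snd _ hle a (𝟙 _) g ha (repWith_id _ _) c w rfl
      rw [← e]; exact this
  refine ⟨?_, fun d => ?_⟩
  · -- emptiness
    obtain ⟨W, a, hae, has⟩ := hXk.atlas
    constructor
    · rintro hbot ⟨x, hx⟩
      obtain ⟨π, -⟩ := hsurj x hx
      obtain ⟨w, -⟩ := AlgSpBasic.surjective_ofPt a has π
      have h1 := DimSp.stalk_le_dim a hae w
      rw [hbot] at h1
      have h2 : (0 : WithBot ℕ∞) ≤ ringKrullDim ↥(W.left.presheaf.stalk w) :=
        ringKrullDim_nonneg_of_nontrivial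
      exact absurd (h2.trans h1) (by simp)
    · intro hy
      rw [eq_bot_iff]
      refine DimSp.dim_le_of_forall _ fun U b hb u => ?_
      exfalso
      exact hy ⟨Points.map fst (Points.ofPt b u), hover _⟩
  · constructor
    · intro hle x hx
      obtain ⟨π, rfl⟩ := hsurj x hx
      rw [← hasAtMor_bc_scheme_iff (etaleLocalST_fibreDimAt_le (d : WithBot ℕ∞))
        (baseChangeInv_fibreDimAt_le (d : WithBot ℕ∞)) hX hY hXk f hf k.toHom fst snd h π]
      obtain ⟨W, a, hae, has⟩ := hXk.atlas
      obtain ⟨w, rfl⟩ := AlgSpBasic.surjective_ofPt a has π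
      rw [← hchart W a hae w d]
      refine le_trans (Groth.Agent.Lib.Helper4.Chev2.localDim_le_topologicalKrullDim w) ?_
      refine le_trans ?_ hle
      unfold AlgSp.dim
      exact le_iSup_of_le W (le_iSup_of_le a (le_iSup_of_le hae le_rfl))
    · intro hall
      unfold AlgSp.dim
      refine iSup_le fun W => iSup_le fun a => iSup_le fun ha => ?_
      refine Groth.Agent.Lib.Helper4.Chev3.topologicalKrullDim_le_of_forall_localDim_le _ fun w => ?_
      rw [hchart W a ha w d,
        hasAtMor_bc_scheme_iff (etaleLocalST_fibreDimAt_le (d : WithBot ℕ∞))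
          (baseChangeInv_fibreDimAt_le (d : WithBot ℕ∞)) hX hY hXk f hf k.toHom fst snd h]
      exact hall _ (hover _)

end Groth.Agent.Helper2.FibreDimField
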