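import Mathlib
import Groth.Prelude.Def_AlgSpCov
import Groth.Agent.Lib.Helper2.AlgSp.Fpqc
import Groth.Agent.Lib.Helper2.AlgSp.Fpqc2
namespace Groth.Agent.Helper2.QFDescent
open TensorProduct

section ring
variable {R S : Type*} [CommRing R] [CommRing S] [Algebra R S]
  (T : Type*) [CommRing T] [Algebra R T]

attribute [-instance] Module.Free.instFaithfulSMulOfNontrivial Algebra.IsIntegral.isLocalHom in
/-- Quasi-finiteness descends along faithfully flat base change. -/
lemma quasiFinite_of_quasiFinite_tensorProduct_of_faithfullyFlat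
    [Module.FaithfullyFlat R T] [Algebra.QuasiFinite T (T ⊗[R] S)] :
    Algebra.QuasiFinite R S := by
  refine ⟨fun p hp ↦ ?_⟩
  obtain ⟨⟨P, hP⟩, hPp⟩ :=
    PrimeSpectrum.comap_surjective_of_faithfullyFlat (A := R) (B := T) ⟨p, hp⟩
  have hPp' : P.under R = p := congrArg PrimeSpectrum.asIdeal hPp
  subst hPp'
  let := Localization.AtPrime.algebraOfLiesOver (P.under R) P
  let e : P.Fiber (T ⊗[R] S) ≃ₐ[P.ResidueField]
      P.ResidueField ⊗[(P.under R).ResidueField] ((P.under R).Fiber S) :=
    (Algebra.TensorProduct.cancelBaseChange _ _ _ _ _).trans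
      (Algebra.TensorProduct.cancelBaseChange _ _ _ _ _).symm
  have h1 : Module.Finite P.ResidueField (P.Fiber (T ⊗[R] S)) := inferInstance
  have h2 : Module.Finite P.ResidueField
      (P.ResidueField ⊗[(P.under R).ResidueField] ((P.under R).Fiber S)) :=
    .of_surjective e.toLinearMap e.surjective
  exact Module.Finite.of_finite_tensorProduct_of_faithfullyFlat P.ResidueField

end ring

lemma quasiFinite_codescendsAlong_faithfullyFlat :
    RingHom.CodescendsAlong RingHom.QuasiFinite RingHom.FaithfullyFlat := by
  refine .mk _ RingHom.QuasiFinite.respectsIso fun R S T _ _ _ _ _ h h' ↦ ?_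
  rw [RingHom.quasiFinite_algebraMap] at h' ⊢
  rw [RingHom.faithfullyFlat_algebraMap_iff] at h
  exact quasiFinite_of_quasiFinite_tensorProduct_of_faithfullyFlat S

end Groth.Agent.Helper2.QFDescent

namespace Groth.Agent.Helper2.AlgSpBasic
open CategoryTheory CategoryTheory.Limits AlgebraicGeometry Opposite AlgSp Topology
open Groth.Agent.Helper2.EtaleLocal
universe u
variable {S : Scheme.{u}}

instance locallyQuasiFinite_descendsAlong_fpqc :
    MorphismProperty.DescendsAlong (@LocallyQuasiFinite : MorphismProperty Scheme.{u})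
      (@Surjective ⊓ @Flat ⊓ @QuasiCompact) :=
  HasRingHomProperty.descendsAlong_flat
    Groth.Agent.Helper2.QFDescent.quasiFinite_codescendsAlong_faithfullyFlat

instance locallyOfFiniteType_descendsAlong_fpqc :
    MorphismProperty.DescendsAlong (@LocallyOfFiniteType : MorphismProperty Scheme.{u})
      (@Surjective ⊓ @Flat ⊓ @QuasiCompact) :=
  HasRingHomProperty.descendsAlong_flat RingHom.FiniteType.codescendsAlong_faithfullyFlat

end Groth.Agent.Helper2.AlgSpBasic
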