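import Mathlib
import Groth.Prelude.Def_AlgSpInf
import Groth.Agent.Lib.Helper2.AlgSp.Basic
import Groth.Agent.Lib.Helper2.AlgSp.Mor2
import Groth.Agent.Lib.Helper2.Formal.EtaleHom

/-!
# Infinitesimal lifting for morphisms of fppf sheaves over `S`
-/

namespace Groth.Agent.Helper2.AlgSpFormal
open CategoryTheory CategoryTheory.Limits AlgebraicGeometry Opposite AlgSp
open Groth.Agent.Helper2.AlgSpBasic Groth.Agent.Helper2.FormalLib
universe u
variable {S : Scheme.{u}}

/-- A jointly surjective family of flat, locally finitely presented morphisms generates a covering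
sieve of the fppf topology over `S`. -/
theorem ofArrows_mem_J {Z' : Over S} {ι : Type*} (W : ι → Over S) (p : ∀ i, W i ⟶ Z')
    (hp : ∀ i, (@Flat ⊓ @LocallyOfFinitePresentation : MorphismProperty Scheme.{u}) (p i).left)
    (hs : ∀ x : Z'.left, ∃ i, x ∈ Set.range (p i).left) :
    Sieve.ofArrows W p ∈ J S Z' := by
  rw [J_eq, GrothendieckTopology.mem_over_iff, Sieve.overEquiv_ofArrows]
  exact Precoverage.generate_mem_toGrothendieck
    ((Scheme.ofArrows_mem_precoverage_iff _).2 ⟨hs, hp⟩)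

/-- Maps from a representable into a sheaf which agree on a jointly surjective flat lfp family
are equal. -/
theorem hom_ext_of_family {F : Sp S} {Z' : Over S} {ι : Type*} (W : ι → Over S)
    (p : ∀ i, W i ⟶ Z')
    (hp : ∀ i, (@Flat ⊓ @LocallyOfFinitePresentation : MorphismProperty Scheme.{u}) (p i).left)
    (hs : ∀ x : Z'.left, ∃ i, x ∈ Set.range (p i).left)
    (l l' : (yon S).obj Z' ⟶ F) (h : ∀ i, (yon S).map (p i) ≫ l = (yon S).map (p i) ≫ l') :
    l = l' := by
  apply (J S).uliftYonedaEquiv.injective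
  have hsh : Presieve.IsSheaf (J S) F.obj := (isSheaf_iff_isSheaf_of_type _ _).1 F.property
  refine (hsh _ (ofArrows_mem_J W p hp hs)).isSeparatedFor.ext ?_
  rintro Y g ⟨Y', u, v, ⟨i⟩, rfl⟩
  rw [GrothendieckTopology.uliftYonedaEquiv_naturality,
    GrothendieckTopology.uliftYonedaEquiv_naturality, Functor.map_comp, Category.assoc,
    Category.assoc, h i]


/-- First order thickenings of schemes over `S`. -/
structure IsFOT {Z Z' : Over S} (t : Z ⟶ Z') : Prop where
  ci : IsClosedImmersion t.left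
  surj : Surjective t.left
  sq : t.left.ker * t.left.ker = ⊥

/-- A representable etale morphism of sheaves lifts uniquely along first order thickenings of
schemes over `S`. -/
theorem ul_of_repWith_etale {F G : Sp S} (a : F ⟶ G) (ha : RepWith @Etale a) {Z Z' : Over S}
    (t : Z ⟶ Z') (ht : IsFOT t) (top : (yon S).obj Z ⟶ F) (bot : (yon S).obj Z' ⟶ G)
    (comm : top ≫ a = (yon S).map t ≫ bot) :
    ∃! l : (yon S).obj Z' ⟶ F, (yon S).map t ≫ l = top ∧ l ≫ a = bot := by
  have hrep : Representable a := ha.rep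
  have sq := hrep.isPullback bot
  have het : Etale (hrep.snd bot).left := ha.property bot _ _ sq
  have := ht.ci
  have := ht.surj
  obtain ⟨σ, hσ⟩ := (yon S).map_surjective (sq.lift top ((yon S).map t) comm)
  have hσ1 : (yon S).map σ ≫ hrep.fst bot = top := by rw [hσ, sq.lift_fst]
  have hσ2 : σ ≫ hrep.snd bot = t :=
    (yon S).map_injective (by rw [Functor.map_comp, hσ, sq.lift_snd])
  have hul := ul_of_locFEt (locFEt_of_etale (hrep.snd bot).left) t.left ht.sq
  obtain ⟨lam, ⟨hl1, hl2⟩, hlu⟩ := hul σ.left (𝟙 _) (by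
    rw [Category.comp_id, ← Over.comp_left, hσ2])
  let lam' : Z' ⟶ hrep.pullback bot := Over.homMk lam (by
    rw [← Over.w (hrep.snd bot), reassoc_of% hl2])
  have hlam1 : t ≫ lam' = σ := Over.OverMorphism.ext hl1
  have hlam2 : lam' ≫ hrep.snd bot = 𝟙 _ := Over.OverMorphism.ext hl2
  refine ⟨(yon S).map lam' ≫ hrep.fst bot, ⟨?_, ?_⟩, ?_⟩
  · rw [← Category.assoc, ← Functor.map_comp, hlam1, hσ1]
  · rw [Category.assoc, sq.w, ← Category.assoc, ← Functor.map_comp, hlam2, CategoryTheory.Functor.map_id,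
      Category.id_comp]
  · rintro l₂ ⟨h1, h2⟩
    obtain ⟨μ, hμ⟩ := (yon S).map_surjective (sq.lift l₂ (𝟙 _) (by rw [h2, Category.id_comp]))
    have hμ1 : (yon S).map μ ≫ hrep.fst bot = l₂ := by rw [hμ, sq.lift_fst]
    have hμ2 : μ ≫ hrep.snd bot = 𝟙 _ :=
      (yon S).map_injective (by rw [Functor.map_comp, hμ, sq.lift_snd, CategoryTheory.Functor.map_id])
    have hμ3 : t ≫ μ = σ := by
      apply (yon S).map_injective
      apply sq.hom_ext
      · rw [Functor.map_comp, Category.assoc, hμ1, h1, hσ1]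
      · rw [← Functor.map_comp, Category.assoc, hμ2, Category.comp_id, ← Functor.map_comp, hσ2]
    have : μ.left = lam := hlu μ.left ⟨by rw [← Over.comp_left, hμ3], by
      rw [← Over.comp_left, hμ2]; rfl⟩
    have hμlam : μ = lam' := Over.OverMorphism.ext this
    rw [← hμ1, hμlam]

/-- Uniqueness part. -/
theorem uu_of_repWith_etale {F G : Sp S} (a : F ⟶ G) (ha : RepWith @Etale a) {Z Z' : Over S}
    (t : Z ⟶ Z') (ht : IsFOT t) (l l' : (yon S).obj Z' ⟶ F)
    (h1 : (yon S).map t ≫ l = (yon S).map t ≫ l') (h2 : l ≫ a = l' ≫ a) : l = l' := by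
  obtain ⟨m, -, hm⟩ := ul_of_repWith_etale a ha t ht ((yon S).map t ≫ l) (l ≫ a)
    (by rw [Category.assoc])
  rw [hm l ⟨rfl, rfl⟩, hm l' ⟨h1.symm, h2.symm⟩]


theorem isFOT_spec_quot {A : Type u} [CommRing A] (I : Ideal A) (hI : I ^ 2 = ⊥)
    (str : Spec (CommRingCat.of A) ⟶ S) :
    IsFOT (Over.homMk (Spec.map (CommRingCat.ofHom (Ideal.Quotient.mk I))) rfl :
      Over.mk (Spec.map (CommRingCat.ofHom (Ideal.Quotient.mk I)) ≫ str) ⟶ Over.mk str) where
  ci := IsClosedImmersion.spec_of_surjective _ Ideal.Quotient.mk_surjective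
  surj := surjective_spec_quot I hI
  sq := ker_spec_quot_sq I hI

section BaseThick

variable {F G : Sp S} {f : F ⟶ G} (sq : InfSq f) {B : Type u} [CommRing B] (φ : sq.A →+* B)

theorem isFOT_j : IsFOT sq.j := isFOT_spec_quot sq.I sq.sq_zero sq.str

/-- `Spec B` over `S`, for an `A`-algebra `B`. -/
noncomputable abbrev bT' : Over S := Over.mk (Spec.map (CommRingCat.ofHom φ) ≫ sq.str)

/-- `Spec (B ⧸ I B)` over `S`. -/
noncomputable abbrev bT : Over S :=
  Over.mk (Spec.map (CommRingCat.ofHom (Ideal.Quotient.mk (sq.I.map φ))) ≫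
    Spec.map (CommRingCat.ofHom φ) ≫ sq.str)

/-- The thickening `Spec (B ⧸ I B) ⟶ Spec B`. -/
noncomputable abbrev bj : bT sq φ ⟶ bT' sq φ :=
  Over.homMk (Spec.map (CommRingCat.ofHom (Ideal.Quotient.mk (sq.I.map φ)))) rfl

/-- `Spec B ⟶ Spec A`. -/
noncomputable abbrev bg' : bT' sq φ ⟶ sq.ptT' := Over.homMk (Spec.map (CommRingCat.ofHom φ)) rfl

theorem bT_comm :
    Spec.map (CommRingCat.ofHom (Ideal.quotientMap (sq.I.map φ) φ Ideal.le_comap_map)) ≫
      Spec.map (CommRingCat.ofHom (Ideal.Quotient.mk sq.I)) =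
    Spec.map (CommRingCat.ofHom (Ideal.Quotient.mk (sq.I.map φ))) ≫
      Spec.map (CommRingCat.ofHom φ) := by
  rw [← Spec.map_comp, ← Spec.map_comp]
  congr 1

/-- `Spec (B ⧸ I B) ⟶ Spec (A ⧸ I)`. -/
noncomputable def bg : bT sq φ ⟶ sq.ptT :=
  Over.homMk (Spec.map (CommRingCat.ofHom (Ideal.quotientMap (sq.I.map φ) φ Ideal.le_comap_map)))
    (by
      change _ ≫ _ ≫ sq.str = _ ≫ _ ≫ sq.str
      rw [reassoc_of% bT_comm sq φ])

theorem bsq : bj sq φ ≫ bg' sq φ = bg sq φ ≫ sq.j := by
  apply Over.OverMorphism.ext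
  exact (bT_comm sq φ).symm

theorem isFOT_bj : IsFOT (bj sq φ) :=
  isFOT_spec_quot (sq.I.map φ) (by rw [← Ideal.map_pow, sq.sq_zero, Ideal.map_bot]) _

end BaseThick


/-- Charts of a formally unramified morphism are formally unramified morphisms of schemes. -/
theorem formallyUnramified_chart {F G : Sp S} (f : F ⟶ G) (hf : IsFormallyUnramifiedMor f)
    {U V : Over S} (a : (yon S).obj U ⟶ F) (b : (yon S).obj V ⟶ G) (h : U ⟶ V)
    (ha : RepWith @Etale a) (comm : a ≫ f = (yon S).map h ≫ b) : FormallyUnramified h.left := by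
  apply formallyUnramified_of_uu
  intro A _ I hI l l' e1 e2
  have hstr : l' ≫ U.hom = l ≫ U.hom := by
    rw [← Over.w h, ← Category.assoc, ← e2, Category.assoc]
  let lam : Over.mk (l ≫ U.hom) ⟶ U := Over.homMk l rfl
  let lam' : Over.mk (l ≫ U.hom) ⟶ U := Over.homMk l' hstr
  let sq : InfSq f :=
    { A := A
      I := I
      sq_zero := hI
      str := l ≫ U.hom
      top := (yon S).map (Over.homMk (Spec.map (CommRingCat.ofHom (Ideal.Quotient.mk I))) rfl :
        Over.mk (Spec.map (CommRingCat.ofHom (Ideal.Quotient.mk I)) ≫ l ≫ U.hom) ⟶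
          Over.mk (l ≫ U.hom)) ≫ (yon S).map lam ≫ a
      bot := (yon S).map lam ≫ a ≫ f
      comm := by simp only [Category.assoc] }
  have hjl : sq.j ≫ lam' = sq.j ≫ lam := Over.OverMorphism.ext e1.symm
  have hlh : lam' ≫ h = lam ≫ h := Over.OverMorphism.ext e2.symm
  have key : (yon S).map lam ≫ a = (yon S).map lam' ≫ a := by
    refine hf sq _ _ rfl (by simp only [Category.assoc]; rfl) ?_ ?_
    · change (yon S).map sq.j ≫ (yon S).map lam' ≫ a = (yon S).map sq.j ≫ (yon S).map lam ≫ a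
      rw [← Category.assoc, ← Functor.map_comp, hjl, Functor.map_comp, Category.assoc]
    · change ((yon S).map lam' ≫ a) ≫ f = (yon S).map lam ≫ a ≫ f
      rw [Category.assoc, comm, ← Category.assoc, ← Functor.map_comp, hlh, Functor.map_comp,
        Category.assoc, ← comm]
  have := uu_of_repWith_etale a ha sq.j (isFOT_j sq) ((yon S).map lam) ((yon S).map lam')
    (by rw [← Functor.map_comp, ← Functor.map_comp, hjl]) key
  have h3 : lam = lam' := (yon S).map_injective this
  exact congrArg (fun m => m.left) h3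


/-- One chart diagram with surjective etale source chart, etale target chart and formally
unramified chart morphism suffices for formal unramifiedness. -/
theorem isFormallyUnramifiedMor_of_chart {F G : Sp S} (f : F ⟶ G)
    {U V : Over S} (a : (yon S).obj U ⟶ F) (b : (yon S).obj V ⟶ G) (h : U ⟶ V)
    (ha : RepWith @Etale a) (has : RepWith @Surjective a) (hb : RepWith @Etale b)
    (comm : a ≫ f = (yon S).map h ≫ b) (hh : FormallyUnramified h.left) :
    IsFormallyUnramifiedMor f := by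
  intro sq l l' h1 h2 h1' h2'
  have hrep : Representable a := ha.rep
  have pb := hrep.isPullback l
  have het : Etale (hrep.snd l).left := ha.property l _ _ pb
  have hsj : Surjective (hrep.snd l).left := has.property l _ _ pb
  obtain ⟨p, hp⟩ := (yon S).map_surjective (hrep.fst l)
  let 𝒲 := (hrep.pullback l).left.affineOpenCover
  -- the ring maps
  let φ : ∀ k : 𝒲.I₀, sq.A →+* (𝒲.X k : Type u) := fun k =>
    (Spec.preimage (𝒲.f k ≫ (hrep.snd l).left)).hom
  have hφ : ∀ k, Spec.map (CommRingCat.ofHom (φ k)) = 𝒲.f k ≫ (hrep.snd l).left := fun k => by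
    rw [CommRingCat.ofHom_hom, Spec.map_preimage]
  refine hom_ext_of_family (fun k => bT' sq (φ k)) (fun k => bg' sq (φ k)) ?_ ?_ l l' ?_
  · intro k
    change (@Flat ⊓ @LocallyOfFinitePresentation : MorphismProperty Scheme.{u})
      (Spec.map (CommRingCat.ofHom (φ k)))
    rw [hφ k]
    exact ⟨inferInstance, inferInstance⟩
  · intro x
    obtain ⟨w, rfl⟩ := (hrep.snd l).left.surjective x
    obtain ⟨y, hy⟩ := 𝒲.covers w
    refine ⟨𝒲.idx w, y, ?_⟩
    change (Spec.map (CommRingCat.ofHom (φ (𝒲.idx w)))) y = _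
    rw [hφ, Scheme.Hom.comp_apply, hy]
  · intro k
    -- the chart map `γ : Spec B ⟶ W`
    let γ : bT' sq (φ k) ⟶ hrep.pullback l := Over.homMk (𝒲.f k) (by
      change _ = Spec.map (CommRingCat.ofHom (φ k)) ≫ sq.str
      rw [hφ k, Category.assoc]
      congr 1
      exact (Over.w (hrep.snd l)).symm)
    have hγ : γ ≫ hrep.snd l = bg' sq (φ k) := Over.OverMorphism.ext (hφ k).symm
    have e0 : (yon S).map (γ ≫ p) ≫ a = (yon S).map (bg' sq (φ k)) ≫ l := by
      rw [Functor.map_comp, Category.assoc, hp, pb.w, ← Category.assoc, ← Functor.map_comp, hγ]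
    -- the second lift
    have hcomm : ((yon S).map (bj sq (φ k)) ≫ (yon S).map (γ ≫ p)) ≫ a =
        (yon S).map (bj sq (φ k)) ≫ (yon S).map (bg' sq (φ k)) ≫ l' := by
      rw [Category.assoc, e0, ← Category.assoc, ← Category.assoc, ← Functor.map_comp, bsq,
        Functor.map_comp, Category.assoc, Category.assoc, h1, h1']
    obtain ⟨p', ⟨hp'1, hp'2⟩, -⟩ := ul_of_repWith_etale a ha (bj sq (φ k)) (isFOT_bj sq (φ k))
      _ _ hcomm
    obtain ⟨q, rfl⟩ := (yon S).map_surjective p'
    have hq1 : bj sq (φ k) ≫ q = bj sq (φ k) ≫ (γ ≫ p) :=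
      (yon S).map_injective (by
        rw [Functor.map_comp, hp'1, ← Functor.map_comp])
    -- compare after composing with `h`
    have eL : (yon S).map ((γ ≫ p) ≫ h) ≫ b = (yon S).map (bg' sq (φ k)) ≫ sq.bot := by
      rw [Functor.map_comp, Category.assoc, ← comm, ← Category.assoc, e0, Category.assoc, h2]
    have eR : (yon S).map (q ≫ h) ≫ b = (yon S).map (bg' sq (φ k)) ≫ sq.bot := by
      rw [Functor.map_comp, Category.assoc, ← comm, ← Category.assoc, hp'2, Category.assoc, h2']
    have eJ : bj sq (φ k) ≫ (γ ≫ p) ≫ h = bj sq (φ k) ≫ q ≫ h := by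
      rw [← Category.assoc, ← hq1, Category.assoc]
    have hqh : (γ ≫ p) ≫ h = q ≫ h := by
      apply (yon S).map_injective
      refine uu_of_repWith_etale b hb (bj sq (φ k)) (isFOT_bj sq (φ k)) _ _ ?_ (eL.trans eR.symm)
      rw [← Functor.map_comp, ← Functor.map_comp, eJ]
    have hfot := isFOT_bj sq (φ k)
    haveI := hfot.ci
    have hnil : IsNilpotent (bj sq (φ k)).left.ker := ⟨2, by rw [pow_two]; exact hfot.sq⟩
    have hpq : (γ ≫ p).left = q.left :=
      FormallyUnramified.hom_ext (bj sq (φ k)).left hnil h.left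
        (by rw [← Over.comp_left, ← Over.comp_left, hq1])
        (by rw [← Over.comp_left, ← Over.comp_left, hqh])
    have hpq' : γ ≫ p = q := Over.OverMorphism.ext hpq
    rw [← e0, hpq', hp'2]


/-- Formally unramified morphisms of sheaves have unique lifts along all first order thickenings of
affine schemes over `S` (not only those of the form `Spec (A ⧸ I) ⟶ Spec A`). -/
theorem uu_of_isFormallyUnramifiedMor_affine {F G : Sp S} (f : F ⟶ G)
    (hf : IsFormallyUnramifiedMor f) {Z Z' : Over S} (t : Z ⟶ Z') (ht : IsFOT t)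
    [IsAffine Z'.left] (m m' : (yon S).obj Z' ⟶ F)
    (h1 : (yon S).map t ≫ m = (yon S).map t ≫ m') (h2 : m ≫ f = m' ≫ f) : m = m' := by
  haveI := ht.ci
  haveI : IsAffine Z.left := isAffine_of_isAffineHom t.left
  have surj : Function.Surjective t.left.appTop.hom :=
    Scheme.Hom.app_surjective t.left ⊤ (isAffineOpen_top _)
  obtain ⟨e, he⟩ := exists_iso_spec_quot t.left surj
  have hI : RingHom.ker t.left.appTop.hom ^ 2 = ⊥ := by
    have := congrArg (fun K => K.ideal ⟨⊤, isAffineOpen_top _⟩) ht.sq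
    simp only [Scheme.IdealSheafData.ideal_mul, Pi.mul_apply, Scheme.Hom.ker_apply,
      Scheme.IdealSheafData.ideal_bot, Pi.bot_apply] at this
    rw [pow_two]
    exact this
  let str : Spec (CommRingCat.of Γ(Z'.left, ⊤)) ⟶ S := Z'.left.isoSpec.inv ≫ Z'.hom
  let ε' : Over.mk str ≅ Z' := Over.isoMk Z'.left.isoSpec.symm (by simp [str])
  have he' : e.inv ≫ t.left =
      Spec.map (CommRingCat.ofHom (Ideal.Quotient.mk (RingHom.ker t.left.appTop.hom))) ≫
        Z'.left.isoSpec.inv := by
    rw [Iso.inv_comp_eq]; exact he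
  have hk : e.inv ≫ Z.hom =
      Spec.map (CommRingCat.ofHom (Ideal.Quotient.mk (RingHom.ker t.left.appTop.hom))) ≫ str := by
    rw [← Over.w t, reassoc_of% he']
  let k : Over.mk (Spec.map (CommRingCat.ofHom
      (Ideal.Quotient.mk (RingHom.ker t.left.appTop.hom))) ≫ str) ⟶ Z := Over.homMk e.inv hk
  let J : Over.mk (Spec.map (CommRingCat.ofHom
      (Ideal.Quotient.mk (RingHom.ker t.left.appTop.hom))) ≫ str) ⟶ Over.mk str :=
    Over.homMk (Spec.map (CommRingCat.ofHom
      (Ideal.Quotient.mk (RingHom.ker t.left.appTop.hom)))) rfl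
  have hkJ : k ≫ t = J ≫ ε'.hom := by
    apply Over.OverMorphism.ext
    exact he'
  have e2 : (yon S).map k ≫ (yon S).map t = (yon S).map J ≫ (yon S).map ε'.hom := by
    rw [← Functor.map_comp, ← Functor.map_comp, hkJ]
  have comm' : ((yon S).map k ≫ (yon S).map t ≫ m) ≫ f =
      (yon S).map J ≫ (yon S).map ε'.hom ≫ m ≫ f := by
    have := congrArg (fun x => x ≫ m ≫ f) e2
    simpa only [Category.assoc] using this
  let sq : InfSq f :=
    { A := Γ(Z'.left, ⊤)
      I := RingHom.ker t.left.appTop.hom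
      sq_zero := hI
      str := str
      top := (yon S).map k ≫ (yon S).map t ≫ m
      bot := (yon S).map ε'.hom ≫ m ≫ f
      comm := comm' }
  have hkt : k ≫ t = sq.j ≫ ε'.hom := hkJ
  have key : (yon S).map ε'.hom ≫ m = (yon S).map ε'.hom ≫ m' := by
    refine hf sq _ _ ?_ ?_ ?_ ?_
    · change (yon S).map sq.j ≫ (yon S).map ε'.hom ≫ m = (yon S).map k ≫ (yon S).map t ≫ m
      rw [← Category.assoc, ← Functor.map_comp, ← hkt, Functor.map_comp, Category.assoc]
    · change ((yon S).map ε'.hom ≫ m) ≫ f = (yon S).map ε'.hom ≫ m ≫ f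
      rw [Category.assoc]
    · change (yon S).map sq.j ≫ (yon S).map ε'.hom ≫ m' = (yon S).map k ≫ (yon S).map t ≫ m
      rw [← Category.assoc, ← Functor.map_comp, ← hkt, Functor.map_comp, Category.assoc, h1]
    · change ((yon S).map ε'.hom ≫ m') ≫ f = (yon S).map ε'.hom ≫ m ≫ f
      rw [Category.assoc, h2]
  exact (cancel_epi ((yon S).map ε'.hom)).1 key


/-- Uniqueness of lifts for a formally unramified morphism along a first order thickening of
algebraic spaces. -/
theorem uu_of_isFormallyUnramifiedMor_space {F G T T' : Sp S} (f : F ⟶ G)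
    (hf : IsFormallyUnramifiedMor f) (hT' : IsAlgSpace T') (j : T ⟶ T') (hj : IsFOThickMor j)
    (l l' : T' ⟶ F) (h1 : j ≫ l = j ≫ l') (h2 : l ≫ f = l' ≫ f) : l = l' := by
  obtain ⟨V₀, c, hce, hcs⟩ := hT'.atlas
  haveI := isLocallySurjective_of_etale_surjective c hce hcs
  rw [← cancel_epi c]
  let 𝒱 := V₀.left.affineOpenCover
  refine hom_ext_of_family (fun k => Over.mk (𝒱.f k ≫ V₀.hom))
    (fun k => (Over.homMk (𝒱.f k) rfl : Over.mk (𝒱.f k ≫ V₀.hom) ⟶ V₀)) ?_ ?_ _ _ ?_
  · intro k
    exact ⟨(inferInstance : Flat (𝒱.f k)), (inferInstance : LocallyOfFinitePresentation (𝒱.f k))⟩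
  · intro x
    exact ⟨𝒱.idx x, 𝒱.covers x⟩
  · intro k
    let pk : Over.mk (𝒱.f k ≫ V₀.hom) ⟶ V₀ := Over.homMk (𝒱.f k) rfl
    have hck : RepWith @Etale ((yon S).map pk ≫ c) :=
      repWith_comp @Etale ((repWith_yon_map_iff @Etale pk).2
        (inferInstance : Etale (𝒱.f k))) hce
    have hrep : Representable j := hj.1.rep
    have pb := hrep.isPullback ((yon S).map pk ≫ c)
    have hth : thick (hrep.snd ((yon S).map pk ≫ c)).left := hj.1.property _ _ _ pb
    have hsq : sqZero (hrep.snd ((yon S).map pk ≫ c)).left :=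
      hj.2 ((yon S).map pk ≫ c) _ _ (inferInstanceAs (IsAffine (Spec (𝒱.X k)))) hck pb
    have hfot : IsFOT (hrep.snd ((yon S).map pk ≫ c)) := ⟨hth.1, hth.2, hsq⟩
    haveI : IsAffine (Over.mk (𝒱.f k ≫ V₀.hom)).left := inferInstanceAs (IsAffine (Spec (𝒱.X k)))
    have := uu_of_isFormallyUnramifiedMor_affine f hf _ hfot (((yon S).map pk ≫ c) ≫ l)
      (((yon S).map pk ≫ c) ≫ l') ?_ ?_
    · simpa only [Category.assoc] using this
    · have e := pb.w
      calc (yon S).map (hrep.snd ((yon S).map pk ≫ c)) ≫ ((yon S).map pk ≫ c) ≫ l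
          = (hrep.fst ((yon S).map pk ≫ c) ≫ j) ≫ l := by rw [e]; simp only [Category.assoc]
        _ = (hrep.fst ((yon S).map pk ≫ c) ≫ j) ≫ l' := by
            rw [Category.assoc, h1, Category.assoc]
        _ = _ := by rw [e]; simp only [Category.assoc]
    · simp only [Category.assoc]
      rw [h2]

end Groth.Agent.Helper2.AlgSpFormal
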