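import Mathlib
import Groth.Prelude.Def_AlgSpInf
import Groth.Agent.Lib.Helper2.AlgSp.FormalUnr

/-!
# Etale-local construction of lifts along thickenings of algebraic spaces
-/

namespace Groth.Agent.Helper2.AlgSpFormal
open CategoryTheory CategoryTheory.Limits AlgebraicGeometry Opposite AlgSp
open Groth.Agent.Helper2.AlgSpBasic Groth.Agent.Helper2.FormalLib
universe u
variable {S : Scheme.{u}}

/-- Gluing maps from representables into a sheaf along a jointly surjective flat lfp family. -/
theorem exists_glue_of_family {F : Sp S} {Z' : Over S} {ι : Type*} (W : ι → Over S)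
    (p : ∀ i, W i ⟶ Z')
    (hp : ∀ i, (@Flat ⊓ @LocallyOfFinitePresentation : MorphismProperty Scheme.{u}) (p i).left)
    (hs : ∀ x : Z'.left, ∃ i, x ∈ Set.range (p i).left)
    (g : ∀ i, (yon S).obj (W i) ⟶ F)
    (hcompat : ∀ i j (Q : Over S) (qi : Q ⟶ W i) (qj : Q ⟶ W j), qi ≫ p i = qj ≫ p j →
      (yon S).map qi ≫ g i = (yon S).map qj ≫ g j) :
    ∃ l : (yon S).obj Z' ⟶ F, ∀ i, (yon S).map (p i) ≫ l = g i := by
  have hsh : Presieve.IsSheaf (J S) F.obj := (isSheaf_iff_isSheaf_of_type _ _).1 F.property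
  have h1 : Presieve.IsSheafFor F.obj (Presieve.ofArrows W p) :=
    (Presieve.isSheafFor_iff_generate _).2 (hsh _ (ofArrows_mem_J W p hp hs))
  rw [Presieve.isSheafFor_arrows_iff] at h1
  obtain ⟨t, ht, -⟩ := h1 (fun i => (J S).uliftYonedaEquiv (g i)) (by
    intro i j Q qi qj e
    rw [GrothendieckTopology.uliftYonedaEquiv_naturality,
      GrothendieckTopology.uliftYonedaEquiv_naturality, hcompat i j Q qi qj e])
  refine ⟨(J S).uliftYonedaEquiv.symm t, fun i => ?_⟩
  apply (J S).uliftYonedaEquiv.injective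
  rw [← GrothendieckTopology.uliftYonedaEquiv_naturality, Equiv.apply_symm_apply]
  exact ht i


section Sol

variable {Z' X T T' : Sp S} (h' : Z' ⟶ X) (j : T ⟶ T') (a₁ : T ⟶ Z') (b : T' ⟶ X)

/-- `m` solves the lifting problem `(a₁, b)` for `h'` along `j`, restricted to the chart `c`. -/
def IsSol {V : Over S} (c : (yon S).obj V ⟶ T') (m : (yon S).obj V ⟶ Z') : Prop :=
  m ≫ h' = c ≫ b ∧ ∀ (Q : Over S) (u : (yon S).obj Q ⟶ T) (v : Q ⟶ V),
    u ≫ j = (yon S).map v ≫ c → (yon S).map v ≫ m = u ≫ a₁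

variable {h' j a₁ b}

theorem IsSol.restrict {V : Over S} {c : (yon S).obj V ⟶ T'} {m : (yon S).obj V ⟶ Z'}
    (hm : IsSol h' j a₁ b c m) {O : Over S} (r : O ⟶ V) :
    IsSol h' j a₁ b ((yon S).map r ≫ c) ((yon S).map r ≫ m) := by
  refine ⟨by rw [Category.assoc, hm.1, Category.assoc], ?_⟩
  intro Q u v e
  rw [← Category.assoc, ← Functor.map_comp]
  apply hm.2
  rw [e, Functor.map_comp, Category.assoc]

theorem isSol_iff_of_isPullback {V W : Over S} {c : (yon S).obj V ⟶ T'}
    (m : (yon S).obj V ⟶ Z') (fst : (yon S).obj W ⟶ T) (snd : W ⟶ V)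
    (pb : IsPullback fst ((yon S).map snd) j c) :
    IsSol h' j a₁ b c m ↔ m ≫ h' = c ≫ b ∧ (yon S).map snd ≫ m = fst ≫ a₁ := by
  constructor
  · rintro ⟨h1, h2⟩
    exact ⟨h1, h2 W fst snd pb.w⟩
  · rintro ⟨h1, h2⟩
    refine ⟨h1, fun Q u v e => ?_⟩
    obtain ⟨k, hk⟩ := (yon S).map_surjective (pb.lift u ((yon S).map v) e)
    have hk1 : (yon S).map k ≫ fst = u := by rw [hk, pb.lift_fst]
    have hk2 : k ≫ snd = v :=
      (yon S).map_injective (by rw [Functor.map_comp, hk, pb.lift_snd])
    rw [← hk2, Functor.map_comp, Category.assoc, h2, ← Category.assoc, hk1]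

theorem isSol_of_global (a' : T' ⟶ Z') (h1 : j ≫ a' = a₁) (h2 : a' ≫ h' = b) {V : Over S}
    (c : (yon S).obj V ⟶ T') : IsSol h' j a₁ b c (c ≫ a') := by
  refine ⟨by rw [Category.assoc, h2], fun Q u v e => ?_⟩
  rw [← Category.assoc, ← e, Category.assoc, h1]


/-- The affine open pieces of a scheme over `S`, as objects over `S`. -/
noncomputable abbrev affPiece (N : Over S) (k : N.left.affineOpenCover.I₀) : Over S :=
  Over.mk (N.left.affineOpenCover.f k ≫ N.hom)

/-- The inclusion of an affine open piece. -/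
noncomputable abbrev affIncl (N : Over S) (k : N.left.affineOpenCover.I₀) : affPiece N k ⟶ N :=
  Over.homMk (N.left.affineOpenCover.f k) rfl

instance (N : Over S) (k : N.left.affineOpenCover.I₀) : IsAffine (affPiece N k).left :=
  inferInstanceAs (IsAffine (Spec (N.left.affineOpenCover.X k)))

theorem affIncl_fppf (N : Over S) (k : N.left.affineOpenCover.I₀) :
    (@Flat ⊓ @LocallyOfFinitePresentation : MorphismProperty Scheme.{u}) (affIncl N k).left :=
  ⟨(inferInstance : Flat (N.left.affineOpenCover.f k)),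
    (inferInstance : LocallyOfFinitePresentation (N.left.affineOpenCover.f k))⟩

theorem affIncl_covers (N : Over S) (x : N.left) : ∃ k, x ∈ Set.range (affIncl N k).left :=
  ⟨N.left.affineOpenCover.idx x, N.left.affineOpenCover.covers x⟩

theorem repWith_etale_affIncl_comp {N : Over S} (d : (yon S).obj N ⟶ T') (hd : RepWith @Etale d)
    (k : N.left.affineOpenCover.I₀) : RepWith @Etale ((yon S).map (affIncl N k) ≫ d) :=
  repWith_comp @Etale ((repWith_yon_map_iff @Etale (affIncl N k)).2
    (inferInstance : Etale (N.left.affineOpenCover.f k))) hd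

/-- Uniqueness of solutions on arbitrary etale scheme charts follows from uniqueness on affine
etale charts. -/
theorem isSol_unique_of_affine
    (H : ∀ (V : Over S) (c : (yon S).obj V ⟶ T'), IsAffine V.left → RepWith @Etale c →
      ∀ m m', IsSol h' j a₁ b c m → IsSol h' j a₁ b c m' → m = m')
    {N : Over S} (d : (yon S).obj N ⟶ T') (hd : RepWith @Etale d)
    (m m' : (yon S).obj N ⟶ Z') (hm : IsSol h' j a₁ b d m) (hm' : IsSol h' j a₁ b d m') :
    m = m' :=
  hom_ext_of_family (affPiece N) (affIncl N) (affIncl_fppf N) (affIncl_covers N) m m' fun k =>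
    H _ _ inferInstance (repWith_etale_affIncl_comp d hd k) _ _ (hm.restrict _) (hm'.restrict _)


theorem isPullback_left_of_over {A B C D : Over S} {f : A ⟶ B} {g : A ⟶ C} {h : B ⟶ D} {i : C ⟶ D}
    (H : IsPullback f g h i) : IsPullback f.left g.left h.left i.left :=
  H.map (Over.forget S)

theorem isOpenImmersion_pullback_fst_affIncl {Q V : Over S} (v : Q ⟶ V)
    (k : V.left.affineOpenCover.I₀) : IsOpenImmersion (pullback.fst v (affIncl V k)).left := by
  have hpb := isPullback_left_of_over (IsPullback.of_hasPullback v (affIncl V k))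
  exact MorphismProperty.of_isPullback hpb.flip
    (inferInstance : IsOpenImmersion (V.left.affineOpenCover.f k))

theorem pullback_affIncl_fppf {Q V : Over S} (v : Q ⟶ V) (k : V.left.affineOpenCover.I₀) :
    (@Flat ⊓ @LocallyOfFinitePresentation : MorphismProperty Scheme.{u})
      (pullback.fst v (affIncl V k)).left := by
  have := isOpenImmersion_pullback_fst_affIncl v k
  exact ⟨inferInstance, inferInstance⟩

theorem pullback_affIncl_covers {Q V : Over S} (v : Q ⟶ V) (x : Q.left) :
    ∃ k, x ∈ Set.range (pullback.fst v (affIncl V k)).left := by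
  obtain ⟨k, y, hy⟩ := affIncl_covers V (v.left x)
  have hpb := isPullback_left_of_over (IsPullback.of_hasPullback v (affIncl V k))
  obtain ⟨z, hz1, -⟩ := Scheme.exists_preimage_of_isPullback hpb x y hy.symm
  exact ⟨k, z, hz1⟩


/-- Existence of solutions on arbitrary etale scheme charts from existence and uniqueness on affine
etale charts (Zariski gluing). -/
theorem exists_isSol_of_affine
    (H : ∀ (V : Over S) (c : (yon S).obj V ⟶ T'), IsAffine V.left → RepWith @Etale c →
      ∃! m, IsSol h' j a₁ b c m)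
    {V : Over S} (c : (yon S).obj V ⟶ T') (hc : RepWith @Etale c) :
    ∃ m, IsSol h' j a₁ b c m := by
  have Hu : ∀ (V : Over S) (c : (yon S).obj V ⟶ T'), IsAffine V.left → RepWith @Etale c →
      ∀ m m', IsSol h' j a₁ b c m → IsSol h' j a₁ b c m' → m = m' :=
    fun V c hV hc m m' hm hm' => (H V c hV hc).unique hm hm'
  have hloc := fun k => (H (affPiece V k) ((yon S).map (affIncl V k) ≫ c) inferInstance
    (repWith_etale_affIncl_comp c hc k)).exists
  choose m hm using hloc
  have compat : ∀ i k (Q : Over S) (qi : Q ⟶ affPiece V i) (qk : Q ⟶ affPiece V k),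
      qi ≫ affIncl V i = qk ≫ affIncl V k → (yon S).map qi ≫ m i = (yon S).map qk ≫ m k := by
    intro i k Q qi qk e
    have hN : (yon S).map (pullback.fst (affIncl V i) (affIncl V k)) ≫ m i =
        (yon S).map (pullback.snd (affIncl V i) (affIncl V k)) ≫ m k := by
      have hd : (yon S).map (pullback.snd (affIncl V i) (affIncl V k)) ≫
          (yon S).map (affIncl V k) ≫ c =
          (yon S).map (pullback.fst (affIncl V i) (affIncl V k)) ≫
            (yon S).map (affIncl V i) ≫ c := by
        rw [← Category.assoc, ← Category.assoc, ← Functor.map_comp, ← Functor.map_comp,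
          pullback.condition]
      have hoi := isOpenImmersion_pullback_fst_affIncl (affIncl V i) k
      have hde : RepWith @Etale ((yon S).map (pullback.fst (affIncl V i) (affIncl V k)) ≫
          (yon S).map (affIncl V i) ≫ c) :=
        repWith_comp @Etale ((repWith_yon_map_iff @Etale _).2 inferInstance)
          (repWith_etale_affIncl_comp c hc i)
      refine isSol_unique_of_affine Hu _ hde _ _ ((hm i).restrict _) ?_
      rw [← hd]
      exact (hm k).restrict _
    have e1 : (yon S).map (pullback.lift qi qk e) ≫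
        (yon S).map (pullback.fst (affIncl V i) (affIncl V k)) = (yon S).map qi := by
      rw [← Functor.map_comp, pullback.lift_fst]
    have e2 : (yon S).map (pullback.lift qi qk e) ≫
        (yon S).map (pullback.snd (affIncl V i) (affIncl V k)) = (yon S).map qk := by
      rw [← Functor.map_comp, pullback.lift_snd]
    rw [← e1, ← e2, Category.assoc, Category.assoc, hN]
  obtain ⟨l, hl⟩ := exists_glue_of_family (affPiece V) (affIncl V) (affIncl_fppf V)
    (affIncl_covers V) m compat
  refine ⟨l, ?_, ?_⟩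
  · refine hom_ext_of_family (affPiece V) (affIncl V) (affIncl_fppf V) (affIncl_covers V) _ _ ?_
    intro k
    rw [← Category.assoc, hl k, (hm k).1, Category.assoc]
  · intro Q u v e
    refine hom_ext_of_family (fun k => pullback v (affIncl V k))
      (fun k => pullback.fst v (affIncl V k)) (pullback_affIncl_fppf v)
      (pullback_affIncl_covers v) _ _ ?_
    intro k
    have hcond : pullback.fst v (affIncl V k) ≫ v = pullback.snd v (affIncl V k) ≫ affIncl V k :=
      pullback.condition
    have h3 := (hm k).2 _ ((yon S).map (pullback.fst v (affIncl V k)) ≫ u)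
      (pullback.snd v (affIncl V k)) (by
        rw [Category.assoc, e, ← Category.assoc, ← Functor.map_comp, hcond, Functor.map_comp,
          Category.assoc])
    rw [← Category.assoc, ← Functor.map_comp, hcond, Functor.map_comp, Category.assoc, hl k, h3,
      Category.assoc]


instance : IsRegularEpiCategory (Sp S) := by
  unfold Sp QuotSh.Sh
  infer_instance

/-- Local-to-global principle: a lifting problem along a morphism into an algebraic space `T'`
which has a unique solution on every affine etale chart of `T'` has a unique solution. -/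
theorem existsUnique_lift_of_charts (hT' : IsAlgSpace T')
    (H : ∀ (V : Over S) (c : (yon S).obj V ⟶ T'), IsAffine V.left → RepWith @Etale c →
      ∃! m, IsSol h' j a₁ b c m) (hj : Representable j) :
    ∃! a' : T' ⟶ Z', j ≫ a' = a₁ ∧ a' ≫ h' = b := by
  have Hu : ∀ (V : Over S) (c : (yon S).obj V ⟶ T'), IsAffine V.left → RepWith @Etale c →
      ∀ m m', IsSol h' j a₁ b c m → IsSol h' j a₁ b c m' → m = m' :=
    fun V c hV hc m m' hm hm' => (H V c hV hc).unique hm hm'
  obtain ⟨V₀, c, hce, hcs⟩ := hT'.atlas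
  haveI := isLocallySurjective_of_etale_surjective c hce hcs
  obtain ⟨m₀, hm₀⟩ := exists_isSol_of_affine H c hce
  have hrep : Representable c := hce.rep
  have pb := hrep.isPullback c
  obtain ⟨r₁, hr₁⟩ := (yon S).map_surjective (hrep.fst c)
  have hsnd : Etale (hrep.snd c).left := hce.property c _ _ pb
  have hd : RepWith @Etale ((yon S).map (hrep.snd c) ≫ c) :=
    repWith_comp @Etale ((repWith_yon_map_iff @Etale _).2 hsnd) hce
  have hw : (yon S).map r₁ ≫ c = (yon S).map (hrep.snd c) ≫ c := by rw [hr₁]; exact pb.w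
  have key : (yon S).map r₁ ≫ m₀ = (yon S).map (hrep.snd c) ≫ m₀ := by
    refine isSol_unique_of_affine Hu _ hd _ _ ?_ (hm₀.restrict _)
    rw [← hw]
    exact hm₀.restrict _
  have hstar : ∀ (Q : Over S) (w₁ w₂ : Q ⟶ V₀), (yon S).map w₁ ≫ c = (yon S).map w₂ ≫ c →
      (yon S).map w₁ ≫ m₀ = (yon S).map w₂ ≫ m₀ := by
    intro Q w₁ w₂ e
    have e1 : pb.lift ((yon S).map w₁) ((yon S).map w₂) e ≫ (yon S).map r₁ = (yon S).map w₁ := by
      rw [hr₁, pb.lift_fst]
    have e2 : pb.lift ((yon S).map w₁) ((yon S).map w₂) e ≫ (yon S).map (hrep.snd c) =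
        (yon S).map w₂ := pb.lift_snd _ _ _
    calc (yon S).map w₁ ≫ m₀
        = (pb.lift ((yon S).map w₁) ((yon S).map w₂) e ≫ (yon S).map r₁) ≫ m₀ :=
          (congrArg (fun x => x ≫ m₀) e1).symm
      _ = pb.lift ((yon S).map w₁) ((yon S).map w₂) e ≫ (yon S).map (hrep.snd c) ≫ m₀ := by
          rw [Category.assoc, key]
      _ = (pb.lift ((yon S).map w₁) ((yon S).map w₂) e ≫ (yon S).map (hrep.snd c)) ≫ m₀ :=
          (Category.assoc _ _ _).symm
      _ = (yon S).map w₂ ≫ m₀ := congrArg (fun x => x ≫ m₀) e2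
  let hreg : RegularEpi c := regularEpiOfEpi c
  have hlr : hreg.left ≫ m₀ = hreg.right ≫ m₀ := by
    refine hom_ext_yon _ _ fun Q s => ?_
    obtain ⟨w₁, hw₁⟩ := (yon S).map_surjective (s ≫ hreg.left)
    obtain ⟨w₂, hw₂⟩ := (yon S).map_surjective (s ≫ hreg.right)
    have := hstar Q w₁ w₂ (by rw [hw₁, hw₂, Category.assoc, Category.assoc, hreg.w])
    rw [← Category.assoc, ← hw₁, this, hw₂, Category.assoc]
  obtain ⟨a', ha'⟩ := hreg.desc' m₀ hlr
  have h2 : a' ≫ h' = b := by
    rw [← cancel_epi c, ← Category.assoc, ha', hm₀.1]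
  have h1 : j ≫ a' = a₁ := by
    have pbj := hj.isPullback c
    haveI : Epi (hj.fst c) := by
      have hfe : RepWith @Etale (hj.fst c) := repWith_of_isPullback @Etale pbj.flip hce
      have hfs : RepWith @Surjective (hj.fst c) := repWith_of_isPullback @Surjective pbj.flip hcs
      haveI := isLocallySurjective_of_etale_surjective (hj.fst c) hfe hfs
      infer_instance
    rw [← cancel_epi (hj.fst c), ← Category.assoc, pbj.w, Category.assoc, ha']
    exact hm₀.2 _ (hj.fst c) (hj.snd c) pbj.w
  refine ⟨a', ⟨h1, h2⟩, ?_⟩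
  rintro a'' ⟨h1', h2'⟩
  rw [← cancel_epi c, ha']
  exact isSol_unique_of_affine Hu c hce _ _ (isSol_of_global a'' h1' h2' c) hm₀

end Sol


/-- Every first order thickening of affine schemes over `S` is isomorphic to one of the form
`Spec (A ⧸ I) ⟶ Spec A` with `I ^ 2 = 0`. -/
theorem exists_spec_model {Z Z' : Over S} (t : Z ⟶ Z') (ht : IsFOT t) [IsAffine Z'.left] :
    ∃ (A : Type u) (_ : CommRing A) (I : Ideal A) (_ : I ^ 2 = ⊥)
      (str : Spec (CommRingCat.of A) ⟶ S)
      (ε : Over.mk (Spec.map (CommRingCat.ofHom (Ideal.Quotient.mk I)) ≫ str) ≅ Z)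
      (ε' : Over.mk str ≅ Z'),
      ε.hom ≫ t = (Over.homMk (Spec.map (CommRingCat.ofHom (Ideal.Quotient.mk I))) rfl :
        Over.mk (Spec.map (CommRingCat.ofHom (Ideal.Quotient.mk I)) ≫ str) ⟶ Over.mk str) ≫
          ε'.hom := by
  haveI := ht.ci
  haveI : IsAffine Z.left := isAffine_of_isAffineHom t.left
  have surj : Function.Surjective t.left.appTop.hom :=
    Scheme.Hom.app_surjective t.left ⊤ (isAffineOpen_top _)
  obtain ⟨e, he⟩ := exists_iso_spec_quot t.left surj
  have hI : RingHom.ker t.left.appTop.hom ^ 2 = ⊥ := by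
    have := congrArg (fun K => K.ideal ⟨⊤, isAffineOpen_top _⟩) ht.sq
    simp only [Scheme.IdealSheafData.ideal_mul, Pi.mul_apply, Scheme.Hom.ker_apply,
      Scheme.IdealSheafData.ideal_bot, Pi.bot_apply] at this
    rw [pow_two]
    exact this
  have he' : e.inv ≫ t.left =
      Spec.map (CommRingCat.ofHom (Ideal.Quotient.mk (RingHom.ker t.left.appTop.hom))) ≫
        Z'.left.isoSpec.inv := by
    rw [Iso.inv_comp_eq]; exact he
  have hk : e.symm.hom ≫ Z.hom =
      Spec.map (CommRingCat.ofHom (Ideal.Quotient.mk (RingHom.ker t.left.appTop.hom))) ≫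
        Z'.left.isoSpec.inv ≫ Z'.hom := by
    change e.inv ≫ Z.hom = _
    rw [← Over.w t, reassoc_of% he']
  refine ⟨Γ(Z'.left, ⊤), inferInstance, RingHom.ker t.left.appTop.hom, hI,
    Z'.left.isoSpec.inv ≫ Z'.hom, Over.isoMk e.symm hk,
    Over.isoMk Z'.left.isoSpec.symm (by simp), ?_⟩
  apply Over.OverMorphism.ext
  exact he'

/-- Formally etale morphisms of sheaves lift uniquely along all first order thickenings of
affine schemes over `S`. -/
theorem ul_of_isFormallyEtaleMor_affine {F G : Sp S} (f : F ⟶ G)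
    (hf : IsFormallyEtaleMor f) {Z Z' : Over S} (t : Z ⟶ Z') (ht : IsFOT t)
    [IsAffine Z'.left] (top : (yon S).obj Z ⟶ F) (bot : (yon S).obj Z' ⟶ G)
    (comm : top ≫ f = (yon S).map t ≫ bot) :
    ∃! l : (yon S).obj Z' ⟶ F, (yon S).map t ≫ l = top ∧ l ≫ f = bot := by
  obtain ⟨A, _, I, hI, str, ε, ε', hε⟩ := exists_spec_model t ht
  have hε' : (yon S).map ε.hom ≫ (yon S).map t =
      (yon S).map (Over.homMk (Spec.map (CommRingCat.ofHom (Ideal.Quotient.mk I))) rfl :
        Over.mk (Spec.map (CommRingCat.ofHom (Ideal.Quotient.mk I)) ≫ str) ⟶ Over.mk str) ≫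
          (yon S).map ε'.hom := by
    rw [← Functor.map_comp, ← Functor.map_comp, hε]
  have comm' : ((yon S).map ε.hom ≫ top) ≫ f =
      (yon S).map (Over.homMk (Spec.map (CommRingCat.ofHom (Ideal.Quotient.mk I))) rfl :
        Over.mk (Spec.map (CommRingCat.ofHom (Ideal.Quotient.mk I)) ≫ str) ⟶ Over.mk str) ≫
          (yon S).map ε'.hom ≫ bot := by
    rw [Category.assoc, comm, ← Category.assoc, hε', Category.assoc]
  let sq : InfSq f :=
    { A := A
      I := I
      sq_zero := hI
      str := str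
      top := (yon S).map ε.hom ≫ top
      bot := (yon S).map ε'.hom ≫ bot
      comm := comm' }
  obtain ⟨l₀, ⟨h1, h2⟩, hu⟩ := hf sq
  change (yon S).map sq.j ≫ l₀ = (yon S).map ε.hom ≫ top at h1
  change l₀ ≫ f = (yon S).map ε'.hom ≫ bot at h2
  have hε'' : (yon S).map ε.hom ≫ (yon S).map t = (yon S).map sq.j ≫ (yon S).map ε'.hom := hε'
  refine ⟨(yon S).map ε'.inv ≫ l₀, ⟨?_, ?_⟩, ?_⟩
  · rw [← cancel_epi ((yon S).map ε.hom), ← Category.assoc, hε'', Category.assoc,
      ← Category.assoc ((yon S).map ε'.hom), ← Functor.map_comp, Iso.hom_inv_id,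
      CategoryTheory.Functor.map_id, Category.id_comp, h1]
  · rw [Category.assoc, h2, ← Category.assoc, ← Functor.map_comp, Iso.inv_hom_id,
      CategoryTheory.Functor.map_id, Category.id_comp]
  · rintro l ⟨hl1, hl2⟩
    have := hu ((yon S).map ε'.hom ≫ l) ⟨?_, ?_⟩
    · rw [← this, ← Category.assoc, ← Functor.map_comp, Iso.inv_hom_id,
        CategoryTheory.Functor.map_id, Category.id_comp]
    · change (yon S).map sq.j ≫ (yon S).map ε'.hom ≫ l = (yon S).map ε.hom ≫ top
      rw [← Category.assoc, ← hε'', Category.assoc, hl1]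
    · change ((yon S).map ε'.hom ≫ l) ≫ f = (yon S).map ε'.hom ≫ bot
      rw [Category.assoc, hl2]

/-- The pullback of a first order thickening of sheaves along an affine etale chart is a first
order thickening of schemes over `S`. -/
theorem isFOT_of_isFOThickMor {T T' : Sp S} {j : T ⟶ T'} (hj : IsFOThickMor j) {V W : Over S}
    (c : (yon S).obj V ⟶ T') (hV : IsAffine V.left) (hc : RepWith @Etale c)
    (fst : (yon S).obj W ⟶ T) (snd : W ⟶ V) (pb : IsPullback fst ((yon S).map snd) j c) :
    IsFOT snd :=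
  ⟨(hj.1.property c fst snd pb).1, (hj.1.property c fst snd pb).2, hj.2 c fst snd hV hc pb⟩

/-- The pullback of a first order thickening of sheaves along an etale chart is a first order
thickening of sheaves. -/
theorem isFOThickMor_yon_map_of_isPullback {T T' : Sp S} {j : T ⟶ T'} (hj : IsFOThickMor j)
    {V W : Over S} (c : (yon S).obj V ⟶ T') (hc : RepWith @Etale c)
    (fst : (yon S).obj W ⟶ T) (snd : W ⟶ V) (pb : IsPullback fst ((yon S).map snd) j c) :
    IsFOThickMor ((yon S).map snd) := by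
  refine ⟨repWith_of_isPullback thick pb hj.1, ?_⟩
  intro V₁ W₁ b₁ fst₁ snd₁ hV₁ hb₁ pb₁
  exact hj.2 (b₁ ≫ c) (fst₁ ≫ fst) snd₁ hV₁ (repWith_comp @Etale hb₁ hc) (pb₁.paste_horiz pb)

/-- A unique solution on each affine etale chart from unique lifting along first order
thickenings of affine schemes. -/
theorem existsUnique_isSol_of_affine_lift {Z' X T T' : Sp S} {h' : Z' ⟶ X} {j : T ⟶ T'}
    {a₁ : T ⟶ Z'} {b : T' ⟶ X} (hj : IsFOThickMor j) (w : a₁ ≫ h' = j ≫ b)
    (L : ∀ (W V : Over S) (t : W ⟶ V), IsFOT t → IsFOThickMor ((yon S).map t) → IsAffine V.left →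
      ∀ (u : (yon S).obj W ⟶ T) (bot : (yon S).obj V ⟶ X),
        (u ≫ a₁) ≫ h' = (yon S).map t ≫ bot →
        ∃! l : (yon S).obj V ⟶ Z', (yon S).map t ≫ l = u ≫ a₁ ∧ l ≫ h' = bot)
    (V : Over S) (c : (yon S).obj V ⟶ T') (hV : IsAffine V.left) (hc : RepWith @Etale c) :
    ∃! m, IsSol h' j a₁ b c m := by
  have hrep : Representable j := hj.1.rep
  have pb := hrep.isPullback c
  have hfot := isFOT_of_isFOThickMor hj c hV hc _ _ pb
  have hfot' := isFOThickMor_yon_map_of_isPullback hj c hc _ _ pb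
  have comm : (hrep.fst c ≫ a₁) ≫ h' = (yon S).map (hrep.snd c) ≫ c ≫ b := by
    rw [Category.assoc, w, ← Category.assoc, pb.w, Category.assoc]
  obtain ⟨l, ⟨hl1, hl2⟩, hu⟩ := L _ _ (hrep.snd c) hfot hfot' hV (hrep.fst c) (c ≫ b) comm
  refine ⟨l, (isSol_iff_of_isPullback l _ _ pb).2 ⟨hl2, hl1⟩, ?_⟩
  intro m hm
  have := (isSol_iff_of_isPullback m _ _ pb).1 hm
  exact hu m ⟨this.2, this.1⟩

/-- Formally etale morphisms of sheaves lift uniquely along first order thickenings of
algebraic spaces. -/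
theorem ul_of_isFormallyEtaleMor_space {F G T T' : Sp S} (f : F ⟶ G)
    (hf : IsFormallyEtaleMor f) (hT' : IsAlgSpace T') (j : T ⟶ T') (hj : IsFOThickMor j)
    (a : T ⟶ F) (b : T' ⟶ G) (w : a ≫ f = j ≫ b) :
    ∃! l : T' ⟶ F, j ≫ l = a ∧ l ≫ f = b := by
  refine existsUnique_lift_of_charts hT' ?_ hj.1.rep
  intro V c hV hc
  refine existsUnique_isSol_of_affine_lift hj w ?_ V c hV hc
  intro W V t ht _ hV u bot comm
  haveI := hV
  exact ul_of_isFormallyEtaleMor_affine f hf t ht (u ≫ a) bot comm

end Groth.Agent.Helper2.AlgSpFormal
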