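import Mathlib
import Groth.Agent.Lib.Helper2.Desc.AffDescSch
import Groth.Agent.Lib.Helper2.AlgSp.FormalLift
import Groth.Agent.Lib.Helper2.AlgSp.Mor2

/-!
# Descent of affineness along a flat cover of affine schemes, for sheaves
-/

namespace Groth.Agent.Helper2.AlgSpBasic
open CategoryTheory CategoryTheory.Limits AlgebraicGeometry Opposite AlgSp
universe u
variable {S : Scheme.{u}}

/-- Affine descent: a sheaf over an affine scheme `T` whose base change along an fppf cover
`c : T' ⟶ T` by an affine scheme is (representable by) an affine scheme `V` is itself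
representable by an affine scheme `U`, and `V = T' ×_T U`. -/
theorem exists_affine_rep_of_fppf_cover {T T' V : Over S} [IsAffine T.left] [IsAffine T'.left]
    [IsAffine V.left] (c : T' ⟶ T) (hcf : Flat c.left) (hcs : Surjective c.left)
    (hcl : LocallyOfFinitePresentation c.left)
    {F : Sp S} (g : F ⟶ (yon S).obj T) (fst : (yon S).obj V ⟶ F) (i : V ⟶ T')
    (sq : IsPullback fst ((yon S).map i) g ((yon S).map c)) :
    ∃ (U : Over S) (k : U ⟶ T) (q : V ⟶ U) (e : (yon S).obj U ⟶ F),
      IsAffine U.left ∧ IsIso e ∧ e ≫ g = (yon S).map k ∧ (yon S).map q ≫ e = fst ∧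
        IsPullback i q c k := by
  -- the groupoid `R = T' ×_T V ⇉ V`
  let x₂ : pullback c (i ≫ c) ⟶ T' := pullback.fst c (i ≫ c)
  let s : pullback c (i ≫ c) ⟶ V := pullback.snd c (i ≫ c)
  have hR : x₂ ≫ c = s ≫ i ≫ c := pullback.condition
  have sqR : IsPullback x₂.left s.left c.left (i.left ≫ c.left) :=
    (IsPullback.of_hasPullback c (i ≫ c)).map (Over.forget S)
  have ht0 : ((yon S).map s ≫ fst) ≫ g = (yon S).map x₂ ≫ (yon S).map c := by
    rw [Category.assoc, sq.w, ← Functor.map_comp, ← Functor.map_comp, ← Functor.map_comp, hR]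
  obtain ⟨t, ht⟩ := (yon S).map_surjective (sq.lift _ _ ht0)
  have ht1 : (yon S).map t ≫ fst = (yon S).map s ≫ fst := by rw [ht, sq.lift_fst]
  have ht2 : t ≫ i = x₂ := (yon S).map_injective (by rw [Functor.map_comp, ht, sq.lift_snd])
  -- maps into `V` are determined by their composites with `fst` and `i`
  have hVext : ∀ {Q : Over S} (a b : Q ⟶ V), (yon S).map a ≫ fst = (yon S).map b ≫ fst →
      a ≫ i = b ≫ i → a = b := by
    intro Q a b h1 h2
    apply (yon S).map_injective
    apply sq.hom_ext h1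
    rw [← Functor.map_comp, ← Functor.map_comp, h2]
  let Δ : V ⟶ pullback c (i ≫ c) := pullback.lift i (𝟙 V) (by rw [Category.id_comp])
  have hΔ₁ : Δ ≫ x₂ = i := pullback.lift_fst _ _ _
  have hΔ₂ : Δ ≫ s = 𝟙 V := pullback.lift_snd _ _ _
  have hU : Δ ≫ t = 𝟙 V := by
    apply hVext
    · rw [Functor.map_comp, Category.assoc, ht1, ← Category.assoc, ← Functor.map_comp, hΔ₂]
    · rw [Category.assoc, ht2, hΔ₁, Category.id_comp]
  -- `R₂ = T' ×_T R`
  let y : pullback c (s ≫ i ≫ c) ⟶ T' := pullback.fst c (s ≫ i ≫ c)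
  let r : pullback c (s ≫ i ≫ c) ⟶ pullback c (i ≫ c) := pullback.snd c (s ≫ i ≫ c)
  have hR₂ : y ≫ c = r ≫ s ≫ i ≫ c := pullback.condition
  have sqR₂ : IsPullback y.left r.left c.left (s.left ≫ i.left ≫ c.left) :=
    (IsPullback.of_hasPullback c (s ≫ i ≫ c)).map (Over.forget S)
  let et : pullback c (s ≫ i ≫ c) ⟶ pullback c (i ≫ c) := pullback.lift y (r ≫ t) (by
    rw [Category.assoc, ← Category.assoc t, ht2, hR, hR₂])
  have het₁ : et ≫ x₂ = y := pullback.lift_fst _ _ _
  have het₂ : et ≫ s = r ≫ t := pullback.lift_snd _ _ _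
  let es : pullback c (s ≫ i ≫ c) ⟶ pullback c (i ≫ c) := pullback.lift y (r ≫ s) (by
    rw [Category.assoc, hR₂])
  have hes₁ : es ≫ x₂ = y := pullback.lift_fst _ _ _
  have hes₂ : es ≫ s = r ≫ s := pullback.lift_snd _ _ _
  have hC : et ≫ t = es ≫ t := by
    apply hVext
    · have hcomp : ∀ {Q Q' : Over S} (a : Q ⟶ Q') (b : Q' ⟶ V),
          (yon S).map (a ≫ b) ≫ fst = (yon S).map a ≫ (yon S).map b ≫ fst := by
        intro Q Q' a b
        rw [Functor.map_comp, Category.assoc]
      calc (yon S).map (et ≫ t) ≫ fst = (yon S).map et ≫ (yon S).map t ≫ fst := hcomp et t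
        _ = (yon S).map et ≫ (yon S).map s ≫ fst := congrArg ((yon S).map et ≫ ·) ht1
        _ = (yon S).map (et ≫ s) ≫ fst := (hcomp et s).symm
        _ = (yon S).map (r ≫ t) ≫ fst := congrArg (fun m => (yon S).map m ≫ fst) het₂
        _ = (yon S).map r ≫ (yon S).map t ≫ fst := hcomp r t
        _ = (yon S).map r ≫ (yon S).map s ≫ fst := congrArg ((yon S).map r ≫ ·) ht1
        _ = (yon S).map (r ≫ s) ≫ fst := (hcomp r s).symm
        _ = (yon S).map (es ≫ s) ≫ fst := congrArg (fun m => (yon S).map m ≫ fst) hes₂.symm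
        _ = (yon S).map es ≫ (yon S).map s ≫ fst := hcomp es s
        _ = (yon S).map es ≫ (yon S).map t ≫ fst := congrArg ((yon S).map es ≫ ·) ht1.symm
        _ = (yon S).map (es ≫ t) ≫ fst := (hcomp es t).symm
    · rw [Category.assoc, ht2, het₁, Category.assoc, ht2, hes₁]
  haveI := hcf
  obtain ⟨U₀, q₀, u₀, hU₀a, sqU₀, hsq₀⟩ := Groth.Agent.Helper2.AffDesc.exists_affine_descent
    c.left i.left x₂.left s.left sqR t.left (congrArg (fun m => m.left) ht2)
    Δ.left (congrArg (fun m => m.left) hΔ₁) (congrArg (fun m => m.left) hΔ₂)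
    (congrArg (fun m => m.left) hU) y.left r.left sqR₂ et.left
    (congrArg (fun m => m.left) het₁) (congrArg (fun m => m.left) het₂) es.left
    (congrArg (fun m => m.left) hes₁) (congrArg (fun m => m.left) hes₂)
    (congrArg (fun m => m.left) hC)
  let U : Over S := Over.mk (u₀ ≫ T.hom)
  let k : U ⟶ T := Over.homMk u₀ rfl
  let q : V ⟶ U := Over.homMk q₀ (by
    show q₀ ≫ u₀ ≫ T.hom = V.hom
    rw [← Category.assoc, ← sqU₀.w, Category.assoc, Over.w c, Over.w i])
  have sqU : IsPullback i q c k := over_isPullback_of_left i q c k sqU₀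
  have hsq : s ≫ q = t ≫ q := Over.OverMorphism.ext hsq₀
  -- glue `fst` along the cover `q`
  have hqfl : Flat q.left := MorphismProperty.of_isPullback (P := @Flat) sqU₀ hcf
  have hqlfp : LocallyOfFinitePresentation q.left :=
    MorphismProperty.of_isPullback (P := @LocallyOfFinitePresentation) sqU₀ hcl
  have hqs : Surjective q.left := MorphismProperty.of_isPullback (P := @Surjective) sqU₀ hcs
  obtain ⟨e, he⟩ := Groth.Agent.Helper2.AlgSpFormal.exists_glue_of_family (F := F) (Z' := U)
    (W := fun _ : Unit => V) (p := fun _ => q) (fun _ => ⟨hqfl, hqlfp⟩)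
    (fun x => ⟨(), hqs.surj x⟩) (fun _ => fst) (by
      intro _ _ Q qi qj hq
      have hcond : (qj ≫ i) ≫ c = qi ≫ i ≫ c := by
        rw [Category.assoc, sqU.w, ← Category.assoc, ← hq, Category.assoc, ← sqU.w]
      let ρ : Q ⟶ pullback c (i ≫ c) := pullback.lift (qj ≫ i) qi hcond
      have hρ1 : ρ ≫ x₂ = qj ≫ i := pullback.lift_fst _ _ _
      have hρ2 : ρ ≫ s = qi := pullback.lift_snd _ _ _
      have hρt : ρ ≫ t = qj := by
        apply sqU.hom_ext
        · rw [Category.assoc, ht2, hρ1]
        · rw [Category.assoc, ← hsq, ← Category.assoc, hρ2, hq]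
      calc (yon S).map qi ≫ fst = (yon S).map ρ ≫ (yon S).map s ≫ fst := by
            rw [← Category.assoc, ← Functor.map_comp, hρ2]
        _ = (yon S).map ρ ≫ (yon S).map t ≫ fst := by rw [ht1]
        _ = (yon S).map qj ≫ fst := by rw [← Category.assoc, ← Functor.map_comp, hρt])
  have he' : (yon S).map q ≫ e = fst := he ()
  -- `q` and `fst` are epimorphisms of sheaves
  have hcLS : Sheaf.IsLocallySurjective ((yon S).map q) :=
    isLocallySurjective_of_fppf _ ((repWith_yon_map_iff @Flat q).mpr hqfl)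
      ((repWith_yon_map_iff @LocallyOfFinitePresentation q).mpr hqlfp)
      ((repWith_yon_map_iff @Surjective q).mpr hqs)
  haveI hqepi : Epi ((yon S).map q) := inferInstance
  have hfst_fl : RepWith @Flat fst :=
    repWith_of_isPullback @Flat sq.flip ((repWith_yon_map_iff @Flat c).mpr hcf)
  have hfst_lfp : RepWith @LocallyOfFinitePresentation fst :=
    repWith_of_isPullback @LocallyOfFinitePresentation sq.flip
      ((repWith_yon_map_iff @LocallyOfFinitePresentation c).mpr hcl)
  have hfst_s : RepWith @Surjective fst :=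
    repWith_of_isPullback @Surjective sq.flip ((repWith_yon_map_iff @Surjective c).mpr hcs)
  have hfstLS : Sheaf.IsLocallySurjective fst :=
    isLocallySurjective_of_fppf _ hfst_fl hfst_lfp hfst_s
  haveI hfstepi : Epi fst := inferInstance
  have heg : e ≫ g = (yon S).map k := by
    rw [← cancel_epi ((yon S).map q), ← Category.assoc, he', sq.w, ← Functor.map_comp,
      ← Functor.map_comp, sqU.w]
  -- `e` is an isomorphism
  haveI heepi : Epi e := by
    haveI : Epi ((yon S).map q ≫ e) := by rw [he']; infer_instance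
    exact epi_of_epi ((yon S).map q) e
  have sqtop : IsPullback ((yon S).map q) (𝟙 _) e fst := by
    have hbig : IsPullback ((yon S).map q) (𝟙 _ ≫ (yon S).map i) (e ≫ g) ((yon S).map c) := by
      rw [Category.id_comp, heg]
      exact (sqU.flip).map (yon S)
    exact IsPullback.of_bot hbig (by rw [he', Category.id_comp]) sq
  haveI hemono : Mono e :=
    mono_of_isPullback_of_epi e fst (fun {A} c' => by
      have sq' := IsPullback.of_hasPullback c' fst
      haveI : Sheaf.IsLocallySurjective (pullback.fst c' fst) :=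
        isLocallySurjective_of_fppf _ (repWith_of_isPullback @Flat sq'.flip hfst_fl)
          (repWith_of_isPullback @LocallyOfFinitePresentation sq'.flip hfst_lfp)
          (repWith_of_isPullback @Surjective sq'.flip hfst_s)
      infer_instance) _ _ sqtop
  have heiso : IsIso e := isIso_of_mono_of_epi e
  exact ⟨U, k, q, e, hU₀a, heiso, heg, he', sqU⟩

end Groth.Agent.Helper2.AlgSpBasic
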