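import Mathlib
import Groth.Agent.Lib.Helper2.AlgSp.PointsMor
import Groth.Agent.Lib.Helper2.AlgSp.QC
import Groth.Agent.Lib.Helper2.AlgSp.UnivTop
import Groth.Agent.Lib.Helper2.AlgSp.Mor2
namespace Groth.Agent.Helper2.AlgSpBasic
open CategoryTheory CategoryTheory.Limits AlgebraicGeometry Opposite AlgSp Topology
universe u
variable {S : Scheme.{u}}

theorem subsingleton_points_yon_field {K : Type u} [Field K] (str : Spec (CommRingCat.of K) ⟶ S) :
    Subsingleton (Points ((yon S).obj (Over.mk str))) := by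
  refine ⟨fun a b => ?_⟩
  obtain ⟨s, rfl⟩ := (Points.schemeHomeo (Over.mk str)).surjective a
  obtain ⟨t, rfl⟩ := (Points.schemeHomeo (Over.mk str)).surjective b
  congr 1
  exact Subsingleton.elim (α := PrimeSpectrum K) _ _

open MvPolynomial PrimeSpectrum in
/-- An algebraic space universally closed over a field is quasi-compact. -/
theorem compactSpace_points_of_isUnivClosedMor_field {Q : Sp S} (hQ : IsAlgSpace Q) {K : Type u}
    [Field K] (str : Spec (CommRingCat.of K) ⟶ S) (q : Q ⟶ (yon S).obj (Over.mk str))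
    (hq : IsUnivClosedMor q) : CompactSpace (Points Q) := by
  classical
  obtain ⟨ι, U, a, hU, hae, hsurj⟩ := exists_affine_chartFamily hQ
  let O : ι → Set (Points Q) := fun i => Set.range (Points.ofPt (a i))
  have hO : ∀ i, IsOpen (O i) := fun i => by
    have := isOpenMap_ofPt (a i) (hae i) Set.univ isOpen_univ
    rwa [Set.image_univ] at this
  have hOc : ∀ i, IsCompact (O i) := fun i => by
    haveI : IsAffine (U i).left := hU i
    exact isCompact_range (Points.continuous_ofPt (a i))
  -- the polynomial ring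
  let TO : Over S := Over.mk (Spec.map (CommRingCat.ofHom (MvPolynomial.C (σ := ι) (R := K))) ≫ str)
  let qT : TO ⟶ Over.mk str := Over.homMk (Spec.map (CommRingCat.ofHom MvPolynomial.C)) rfl
  let fT := pullback.snd q ((yon S).map qT)
  let p := pullback.fst q ((yon S).map qT)
  have sq : IsPullback p fT q ((yon S).map qT) := IsPullback.of_hasPullback _ _
  have hcl : IsClosedMap (Points.map fT) := hq (IsAlgSpace.yon_obj TO) _ _ _ sq
  let τ := Points.schemeHomeo TO
  let Ti : ι → Set (PrimeSpectrum (MvPolynomial ι K)) := fun i => ((basicOpen (MvPolynomial.X i : MvPolynomial ι K) : TopologicalSpace.Opens _) : Set _)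
  have hTi : ∀ i, IsOpen (τ '' (Ti i)) := fun i => τ.isOpenMap _ (basicOpen (MvPolynomial.X i : MvPolynomial ι K)).2
  let Z : Set (Points (pullback q ((yon S).map qT))) :=
    (⋃ i, Points.map fT ⁻¹' (τ '' (Ti i)) ∩ Points.map p ⁻¹' (O i))ᶜ
  have hZ : IsClosed Z := by
    rw [isClosed_compl_iff]
    exact isOpen_iUnion fun i => ((hTi i).preimage (Points.continuous_map fT)).inter
      ((hO i).preimage (Points.continuous_map p))
  have hC : IsClosed (τ ⁻¹' (Points.map fT '' Z)) := (hcl _ hZ).preimage τ.continuous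
  let ψ : MvPolynomial ι K →ₐ[K] K := MvPolynomial.aeval (fun _ ↦ 1)
  let t : PrimeSpectrum (MvPolynomial ι K) := PrimeSpectrum.comap ψ.toRingHom default
  have ht : ∀ i, t ∈ Ti i := fun i => by
    intro hmem
    have h0 : ψ (MvPolynomial.X i) ∈ (default : PrimeSpectrum K).asIdeal := hmem
    have h1 : ψ (MvPolynomial.X i) = 1 := by simp [ψ]
    rw [h1] at h0
    exact (default : PrimeSpectrum K).isPrime.ne_top ((Ideal.eq_top_iff_one _).2 h0)
  have htC : t ∈ (τ ⁻¹' (Points.map fT '' Z))ᶜ := by
    rintro ⟨z, hz, hzt⟩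
    apply hz
    obtain ⟨i, u, hu⟩ := hsurj (Points.map p z)
    exact Set.mem_iUnion.2 ⟨i, ⟨by rw [Set.mem_preimage, hzt]; exact ⟨t, ht i, rfl⟩, ⟨u, hu⟩⟩⟩
  obtain ⟨_, ⟨_, ⟨g, rfl⟩, rfl⟩, htg, hgle⟩ :=
    (PrimeSpectrum.isBasis_basic_opens (R := MvPolynomial ι K)).exists_subset_of_mem_open htC
      hC.isOpen_compl
  let σ : Finset ι := MvPolynomial.vars g
  let φ : MvPolynomial ι K →+* MvPolynomial ι K :=
    (MvPolynomial.aeval fun i : ι ↦ if i ∈ σ then MvPolynomial.X i else 0).toRingHom
  let t' : PrimeSpectrum (MvPolynomial ι K) := PrimeSpectrum.comap φ t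
  have ht'g : t' ∈ (PrimeSpectrum.basicOpen g : Set _) :=
    show φ g ∉ t.asIdeal from (show φ g = g from aeval_ite_mem_eq_self g subset_rfl).symm ▸ htg
  have h : t' ∉ τ ⁻¹' (Points.map fT '' Z) := hgle ht'g
  have hcover : ∀ x : Points Q, ∃ i ∈ σ, x ∈ O i := by
    by_contra hcon
    simp only [not_forall, not_exists, not_and] at hcon
    obtain ⟨x, hx⟩ := hcon
    apply h
    haveI := subsingleton_points_yon_field str
    obtain ⟨z, hz1, hz2⟩ := points_exists_of_isPullback ((yon S).map qT) q p fT sq x (τ t')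
      (Subsingleton.elim _ _)
    refine ⟨z, ?_, hz2⟩
    intro hzmem
    obtain ⟨i, ⟨hi1, hi2⟩⟩ := Set.mem_iUnion.1 hzmem
    rw [Set.mem_preimage, hz2] at hi1
    obtain ⟨s, hs, hst⟩ := hi1
    have hs' : t' ∈ Ti i := by rwa [τ.injective hst] at hs
    rw [Set.mem_preimage, hz1] at hi2
    have hφ : φ (MvPolynomial.X i) ∉ t.asIdeal := hs'
    by_cases hiσ : i ∈ σ
    · exact hx i hiσ hi2
    · apply hφ
      have : φ (MvPolynomial.X i) = 0 := by simp [φ, hiσ]
      rw [this]
      exact Ideal.zero_mem _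
  refine ⟨?_⟩
  have : (Set.univ : Set (Points Q)) = ⋃ i ∈ σ, O i := by
    ext x
    simp only [Set.mem_univ, Set.mem_iUnion, true_iff]
    obtain ⟨i, hi, hxi⟩ := hcover x
    exact ⟨i, hi, hxi⟩
  rw [this]
  exact Finset.isCompact_biUnion _ fun i _ => hOc i

theorem univSp_of_isPullback' (Q : MorphismProperty (Sp S)) {X Y X' Y' : Sp S} {f : X ⟶ Y}
    {g : Y' ⟶ Y} {fst : X' ⟶ X} {f' : X' ⟶ Y'} (sq : IsPullback fst f' f g)
    (hf : UnivSp Q f) : UnivSp Q f' := by
  intro Z Z' hZ h a b sqZ
  exact hf hZ (h ≫ g) (a ≫ fst) b (sqZ.paste_horiz sq)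

/-- A universally closed morphism to an affine scheme has quasi-compact source. -/
theorem compactSpace_points_of_isUnivClosedMor_affine {P : Sp S} (hP : IsAlgSpace P) {Z : Over S}
    [IsAffine Z.left] (snd : P ⟶ (yon S).obj Z) (hu : IsUnivClosedMor snd) :
    CompactSpace (Points P) := by
  have hZ := IsAlgSpace.yon_obj Z
  have hclosed : IsClosedMap (Points.map snd) := isClosedMap_of_isUnivClosedMor hZ snd hu
  have hfib : ∀ y, IsCompact (Points.map snd ⁻¹' {y}) := by
    intro y
    obtain ⟨z, rfl⟩ := (Points.schemeHomeo Z).surjective y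
    let zO : Over S := Over.mk (Z.left.fromSpecResidueField z ≫ Z.hom)
    let ζ : zO ⟶ Z := Over.homMk (Z.left.fromSpecResidueField z) rfl
    have sqz := IsPullback.of_hasPullback snd ((yon S).map ζ)
    have hPz : IsAlgSpace (pullback snd ((yon S).map ζ)) :=
      isAlgSpace_of_isPullback hZ.diag hP (IsAlgSpace.yon_obj zO) snd _ _ _ sqz
    have huz : IsUnivClosedMor (pullback.snd snd ((yon S).map ζ)) :=
      univSp_of_isPullback' _ sqz hu
    haveI : CompactSpace (Points (pullback snd ((yon S).map ζ))) :=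
      compactSpace_points_of_isUnivClosedMor_field hPz
        (K := ↑(Z.left.residueField z)) (Z.left.fromSpecResidueField z ≫ Z.hom) _ huz
    have hζ : ∀ s : Points ((yon S).obj zO),
        Points.map ((yon S).map ζ) s = Points.schemeHomeo Z z := by
      intro s
      obtain ⟨s₀, rfl⟩ := (Points.schemeHomeo zO).surjective s
      rw [Points.map_yon_map_apply]
      congr 1
      exact Scheme.fromSpecResidueField_apply _ _
    have heq : Points.map snd ⁻¹' {Points.schemeHomeo Z z} =
        Set.range (Points.map (pullback.fst snd ((yon S).map ζ))) := by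
      ext x
      constructor
      · intro hx
        rw [Set.mem_preimage, Set.mem_singleton_iff] at hx
        obtain ⟨w, hw1, -⟩ := points_exists_of_isPullback ((yon S).map ζ) snd
          (pullback.fst snd ((yon S).map ζ)) (pullback.snd snd ((yon S).map ζ)) sqz x
          (Points.schemeHomeo zO (IsLocalRing.closedPoint _)) (by rw [hx, hζ])
        exact ⟨w, hw1⟩
      · rintro ⟨w, rfl⟩
        rw [Set.mem_preimage, Set.mem_singleton_iff, ← Points.map_comp, pullback.condition,
          Points.map_comp, hζ]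
    rw [heq]
    exact isCompact_range (Points.continuous_map _)
  have hproper : IsProperMap (Points.map snd) :=
    isProperMap_iff_isClosedMap_and_compact_fibers.2 ⟨Points.continuous_map snd, hclosed, hfib⟩
  haveI : CompactSpace ↥Z.left := inferInstance
  haveI : CompactSpace (Points ((yon S).obj Z)) := (Points.schemeHomeo Z).compactSpace
  refine ⟨?_⟩
  have := hproper.isCompact_preimage (isCompact_univ)
  rwa [Set.preimage_univ] at this

/-- A universally closed morphism of algebraic spaces is quasi-compact. -/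
theorem isQuasiCompactMor_of_isUnivClosedMor {X Y : Sp S} (hX : IsAlgSpace X) (hY : IsAlgSpace Y)
    (f : X ⟶ Y) (hf : IsUnivClosedMor f) : IsQuasiCompactMor f := by
  refine isQuasiCompactMor_of_affine hX hY.diag f fun Z hZ g P fst snd sq => ?_
  have hP : IsAlgSpace P := isAlgSpace_of_isPullback hY.diag hX (IsAlgSpace.yon_obj Z) f g fst snd sq
  rw [isQuasiCompactSp_iff_compactSpace_points hP]
  haveI := hZ
  exact compactSpace_points_of_isUnivClosedMor_affine hP snd (univSp_of_isPullback' _ sq hf)

end Groth.Agent.Helper2.AlgSpBasic
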