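import Mathlib

/-!
# Generic pullback lemmas used for morphisms representable by algebraic spaces (helper2)
-/

set_option autoImplicit false
set_option linter.unusedSimpArgs false
open CategoryTheory CategoryTheory.Limits

namespace Groth.Agent.Helper2.BootCat

variable {𝒞 : Type*} [Category 𝒞]

theorem isPullback_of_existsUnique' {P X Y Z : 𝒞} {fst : P ⟶ X}
    {snd : P ⟶ Y} {f : X ⟶ Z} {g : Y ⟶ Z} (w : fst ≫ f = snd ≫ g)
    (hex : ∀ {A : 𝒞} (α : A ⟶ X) (β : A ⟶ Y), α ≫ f = β ≫ g →
      ∃ l : A ⟶ P, l ≫ fst = α ∧ l ≫ snd = β)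
    (huniq : ∀ {A : 𝒞} (l l' : A ⟶ P), l ≫ fst = l' ≫ fst → l ≫ snd = l' ≫ snd → l = l') :
    IsPullback fst snd f g := by
  refine IsPullback.of_isLimit' ⟨w⟩ (PullbackCone.IsLimit.mk w
    (fun s => (hex s.fst s.snd s.condition).choose)
    (fun s => (hex s.fst s.snd s.condition).choose_spec.1)
    (fun s => (hex s.fst s.snd s.condition).choose_spec.2) ?_)
  intro s m h1 h2
  apply huniq
  · rw [h1, (hex s.fst s.snd s.condition).choose_spec.1]
  · rw [h2, (hex s.fst s.snd s.condition).choose_spec.2]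

/-- The fibre product `T ×_F T'` computed through `T ×_G T'` and the equaliser of two sections of
the base change of `a : F ⟶ G`. -/
theorem isPullback_of_sections {F G T T' V₀ X V : 𝒞} (a : F ⟶ G) (g : T ⟶ F) (g' : T' ⟶ F)
    {p₁ : V₀ ⟶ T} {p₂ : V₀ ⟶ T'} (sq₀ : IsPullback p₁ p₂ (g ≫ a) (g' ≫ a))
    {r : X ⟶ F} {q : X ⟶ V₀} {ξ : V₀ ⟶ G} (sqX : IsPullback r q a ξ)
    {σ σ' : V₀ ⟶ X} (hσq : σ ≫ q = 𝟙 _) (hσr : σ ≫ r = p₁ ≫ g) (hσ'q : σ' ≫ q = 𝟙 _)
    (hσ'r : σ' ≫ r = p₂ ≫ g') {e₁ e₂ : V ⟶ V₀} (sqV : IsPullback e₁ e₂ σ σ') :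
    IsPullback (e₁ ≫ p₁) (e₁ ≫ p₂) g g' := by
  have he : e₁ = e₂ := by
    have h1 := congrArg (· ≫ q) sqV.w
    simpa only [Category.assoc, hσq, hσ'q, Category.comp_id] using h1
  apply isPullback_of_existsUnique'
  · have h1 := congrArg (· ≫ r) sqV.w
    simp only [Category.assoc, hσr, hσ'r] at h1
    rw [Category.assoc, Category.assoc, h1, he]
  · intro A u u' huu'
    have c0 : u ≫ g ≫ a = u' ≫ g' ≫ a := by
      rw [← Category.assoc, huu', Category.assoc]
    let w₀ := sq₀.lift u u' c0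
    have hw₁ : w₀ ≫ p₁ = u := sq₀.lift_fst _ _ _
    have hw₂ : w₀ ≫ p₂ = u' := sq₀.lift_snd _ _ _
    have c1 : w₀ ≫ σ = w₀ ≫ σ' := by
      apply sqX.hom_ext
      · rw [Category.assoc, Category.assoc, hσr, hσ'r, ← Category.assoc, ← Category.assoc, hw₁,
          hw₂, huu']
      · rw [Category.assoc, Category.assoc, hσq, hσ'q]
    let w := sqV.lift w₀ w₀ c1
    have hw : w ≫ e₁ = w₀ := sqV.lift_fst _ _ _
    refine ⟨w, ?_, ?_⟩
    · rw [← Category.assoc, hw, hw₁]
    · rw [← Category.assoc, hw, hw₂]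
  · intro A l l' h1 h2
    have k : l ≫ e₁ = l' ≫ e₁ := by
      apply sq₀.hom_ext
      · simpa only [Category.assoc] using h1
      · simpa only [Category.assoc] using h2
    apply sqV.hom_ext
    · exact k
    · rw [← he]; exact k

/-- The base change of the relative diagonal of `a : F ⟶ G` along `ξ : U ⟶ F ×_G F` is the
equaliser of the two sections of the base change of `a` determined by `ξ`. -/
theorem isPullback_diagonal_of_sections {F G U X V : 𝒞} (a : F ⟶ G) [HasPullback a a]
    (ξ : U ⟶ pullback a a) {r : X ⟶ F} {q : X ⟶ U} {ζ : U ⟶ G} (sqX : IsPullback r q a ζ)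
    {σ σ' : U ⟶ X} (hσq : σ ≫ q = 𝟙 _) (hσr : σ ≫ r = ξ ≫ pullback.fst a a)
    (hσ'q : σ' ≫ q = 𝟙 _) (hσ'r : σ' ≫ r = ξ ≫ pullback.snd a a) {e₁ e₂ : V ⟶ U}
    (sqV : IsPullback e₁ e₂ σ σ') :
    IsPullback (e₁ ≫ ξ ≫ pullback.fst a a) e₁ (pullback.diagonal a) ξ := by
  have he : e₁ = e₂ := by
    have h1 := congrArg (· ≫ q) sqV.w
    simpa only [Category.assoc, hσq, hσ'q, Category.comp_id] using h1
  have hr : e₁ ≫ ξ ≫ pullback.fst a a = e₁ ≫ ξ ≫ pullback.snd a a := by
    have h1 := congrArg (· ≫ r) sqV.w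
    simp only [Category.assoc, hσr, hσ'r] at h1
    rw [h1, he]
  apply isPullback_of_existsUnique'
  · apply pullback.hom_ext
    · simp only [Category.assoc, pullback.diagonal_fst, Category.comp_id]
    · simp only [Category.assoc, pullback.diagonal_snd, Category.comp_id]
      exact hr
  · intro A v u hvu
    have h1 : u ≫ ξ ≫ pullback.fst a a = v := by
      have := congrArg (· ≫ pullback.fst a a) hvu
      simpa only [Category.assoc, pullback.diagonal_fst, Category.comp_id] using this.symm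
    have h2 : u ≫ ξ ≫ pullback.snd a a = v := by
      have := congrArg (· ≫ pullback.snd a a) hvu
      simpa only [Category.assoc, pullback.diagonal_snd, Category.comp_id] using this.symm
    have c1 : u ≫ σ = u ≫ σ' := by
      apply sqX.hom_ext
      · rw [Category.assoc, Category.assoc, hσr, hσ'r, h1, h2]
      · rw [Category.assoc, Category.assoc, hσq, hσ'q]
    let w := sqV.lift u u c1
    have hw : w ≫ e₁ = u := sqV.lift_fst _ _ _
    refine ⟨w, ?_, hw⟩
    rw [← Category.assoc, hw, h1]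
  · intro A l l' _ h2
    apply sqV.hom_ext
    · exact h2
    · rw [← he]; exact h2

/-- The fibre product over `F` is the base change of the diagonal of `F`. -/
theorem isPullback_diag_of_isPullback' {A B F P : 𝒞} [HasBinaryProduct F F] [HasBinaryProduct A B]
    {ξ : A ⟶ F} {ζ : B ⟶ F} {fst : P ⟶ A} {snd : P ⟶ B} (sq : IsPullback fst snd ξ ζ) :
    IsPullback (fst ≫ ξ) (prod.lift fst snd) (Limits.diag F) (prod.map ξ ζ) := by
  apply isPullback_of_existsUnique'
  · apply Limits.prod.hom_ext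
    · simp only [Category.assoc, prod.lift_fst, prod.lift_snd, prod.map_fst, prod.map_snd,
        Limits.diag, Category.comp_id, prod.lift_fst_assoc]
    · simp only [Category.assoc, prod.lift_fst, prod.lift_snd, prod.map_fst, prod.map_snd,
        Limits.diag, Category.comp_id, prod.lift_snd_assoc, sq.w]
  · intro A' α β hαβ
    have h1 : α = β ≫ prod.fst ≫ ξ := by
      have := congrArg (· ≫ prod.fst) hαβ
      simpa only [Category.assoc, prod.lift_fst, prod.map_fst, Limits.diag,
        Category.comp_id] using this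
    have h2 : α = β ≫ prod.snd ≫ ζ := by
      have := congrArg (· ≫ prod.snd) hαβ
      simpa only [Category.assoc, prod.lift_snd, prod.map_snd, Limits.diag,
        Category.comp_id] using this
    let l := sq.lift (β ≫ prod.fst) (β ≫ prod.snd) (by
      rw [Category.assoc, Category.assoc, ← h1, ← h2])
    have hl1 : l ≫ fst = β ≫ prod.fst := sq.lift_fst _ _ _
    have hl2 : l ≫ snd = β ≫ prod.snd := sq.lift_snd _ _ _
    refine ⟨l, ?_, ?_⟩
    · rw [← Category.assoc, hl1, Category.assoc, ← h1]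
    · apply Limits.prod.hom_ext
      · rw [Category.assoc, prod.lift_fst, hl1]
      · rw [Category.assoc, prod.lift_snd, hl2]
  · intro A' l l' _ h2
    apply sq.hom_ext
    · have := congrArg (· ≫ prod.fst) h2
      simpa only [Category.assoc, prod.lift_fst] using this
    · have := congrArg (· ≫ prod.snd) h2
      simpa only [Category.assoc, prod.lift_snd] using this

/-- The base change of the diagonal of `F` along `ζ : U ⟶ F ⨯ F` is the base change of the
diagonal of `U` along `U ×_F U ⟶ U ⨯ U`. -/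
theorem isPullback_diag_of_isPullback_diag {U F P E : 𝒞} [HasBinaryProduct F F]
    [HasBinaryProduct U U] {ζ : U ⟶ F ⨯ F} {fst : P ⟶ F} {snd : P ⟶ U}
    (sq : IsPullback fst snd (Limits.diag F) ζ) {π₁ π₂ : E ⟶ U}
    (sqE : IsPullback π₁ π₂ (ζ ≫ prod.fst) (ζ ≫ prod.snd)) {l : P ⟶ E} (hl₁ : l ≫ π₁ = snd)
    (hl₂ : l ≫ π₂ = snd) : IsPullback l snd (prod.lift π₁ π₂) (Limits.diag U) := by
  have hfst : fst = snd ≫ ζ ≫ prod.fst := by
    have := congrArg (· ≫ prod.fst) sq.w
    simpa only [Category.assoc, prod.lift_fst, Limits.diag, Category.comp_id] using this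
  apply isPullback_of_existsUnique'
  · apply Limits.prod.hom_ext
    · simp only [Category.assoc, prod.lift_fst, Limits.diag, Category.comp_id, hl₁]
    · simp only [Category.assoc, prod.lift_snd, Limits.diag, Category.comp_id, hl₂]
  · intro A α β hαβ
    have h1 : α ≫ π₁ = β := by
      have := congrArg (· ≫ prod.fst) hαβ
      simpa only [Category.assoc, prod.lift_fst, Limits.diag, Category.comp_id] using this
    have h2 : α ≫ π₂ = β := by
      have := congrArg (· ≫ prod.snd) hαβ
      simpa only [Category.assoc, prod.lift_snd, Limits.diag, Category.comp_id] using this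
    have c : (β ≫ ζ ≫ prod.fst) ≫ Limits.diag F = β ≫ ζ := by
      apply Limits.prod.hom_ext
      · simp only [Category.assoc, Limits.diag, prod.lift_fst, Category.comp_id]
      · simp only [Category.assoc, Limits.diag, prod.lift_snd, Category.comp_id]
        calc β ≫ ζ ≫ prod.fst = α ≫ π₁ ≫ ζ ≫ prod.fst := by rw [← Category.assoc α, h1]
          _ = α ≫ π₂ ≫ ζ ≫ prod.snd := by rw [sqE.w]
          _ = β ≫ ζ ≫ prod.snd := by rw [← Category.assoc α, h2]
    let k := sq.lift (β ≫ ζ ≫ prod.fst) β c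
    have hk1 : k ≫ fst = β ≫ ζ ≫ prod.fst := sq.lift_fst _ _ _
    have hk2 : k ≫ snd = β := sq.lift_snd _ _ _
    refine ⟨k, ?_, hk2⟩
    apply sqE.hom_ext
    · rw [Category.assoc, hl₁, hk2, h1]
    · rw [Category.assoc, hl₂, hk2, h2]
  · intro A k k' _ h2
    apply sq.hom_ext
    · rw [hfst, ← Category.assoc, h2, Category.assoc]
    · exact h2

theorem isPullback_prod_map_id {X Y Z : 𝒞} (a : X ⟶ Y) [HasBinaryProduct X Z]
    [HasBinaryProduct Y Z] :
    IsPullback (prod.fst : X ⨯ Z ⟶ X) (prod.map a (𝟙 Z)) a (prod.fst : Y ⨯ Z ⟶ Y) := by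
  apply isPullback_of_existsUnique'
  · rw [prod.map_fst]
  · intro A α β hαβ
    refine ⟨prod.lift α (β ≫ prod.snd), prod.lift_fst _ _, ?_⟩
    apply Limits.prod.hom_ext
    · rw [Category.assoc, prod.map_fst, ← Category.assoc, prod.lift_fst, hαβ]
    · rw [Category.assoc, prod.map_snd, Category.comp_id, prod.lift_snd]
  · intro A l l' h1 h2
    apply Limits.prod.hom_ext
    · exact h1
    · have := congrArg (· ≫ prod.snd) h2
      simpa only [Category.assoc, prod.map_snd, Category.comp_id] using this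

theorem isPullback_prod_id_map {X Y Z : 𝒞} (a : X ⟶ Y) [HasBinaryProduct Z X]
    [HasBinaryProduct Z Y] :
    IsPullback (prod.snd : Z ⨯ X ⟶ X) (prod.map (𝟙 Z) a) a (prod.snd : Z ⨯ Y ⟶ Y) := by
  apply isPullback_of_existsUnique'
  · rw [prod.map_snd]
  · intro A α β hαβ
    refine ⟨prod.lift (β ≫ prod.fst) α, prod.lift_snd _ _, ?_⟩
    apply Limits.prod.hom_ext
    · rw [Category.assoc, prod.map_fst, Category.comp_id, prod.lift_fst]
    · rw [Category.assoc, prod.map_snd, ← Category.assoc, prod.lift_snd, hαβ]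
  · intro A l l' h1 h2
    apply Limits.prod.hom_ext
    · have := congrArg (· ≫ prod.fst) h2
      simpa only [Category.assoc, prod.map_fst, Category.comp_id] using this
    · exact h1

end Groth.Agent.Helper2.BootCat
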