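import Mathlib
import Groth.Prelude.Def_AlgSpRep
import Groth.Agent.Lib.Helper2.AlgSp.Basic
import Groth.Agent.Lib.Helper2.AlgSp.Diag
import Groth.Agent.Lib.Helper2.AlgSp.BootCat

/-!
# Morphisms of sheaves representable by algebraic spaces (helper2)
-/

set_option autoImplicit false

namespace Groth.Agent.Helper2.AlgSpBasic
open CategoryTheory CategoryTheory.Limits AlgebraicGeometry Opposite AlgSp
open Groth.Agent.Helper2.BootCat
universe u
variable {S : Scheme.{u}}

/-- Sheaf-level version of `AlgSp.RepBySp`. -/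
def RepBySh {F G : Sp S} (f : F ⟶ G) : Prop :=
  ∀ ⦃U : Over S⦄ (ξ : (yon S).obj U ⟶ G) ⦃F' : Sp S⦄ (fst : F' ⟶ F)
    (snd : F' ⟶ (yon S).obj U), IsPullback fst snd f ξ → IsAlgSpace F'

theorem repBySh_iff {F G : Sp S} (f : F ⟶ G) : RepBySh f ↔ RepBySp f.hom :=
  (repBySp_hom_iff f).symm

theorem RepBySh.of_isPullback {F G F' G' : Sp S} {f : F ⟶ G} {g : G' ⟶ G} {fst : F' ⟶ F}
    {snd : F' ⟶ G'} (sq : IsPullback fst snd f g) (hf : RepBySh f) : RepBySh snd := by
  intro U ξ F'' fst' snd' sq'
  exact hf (ξ ≫ g) (fst' ≫ fst) snd' (sq'.paste_horiz sq)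

/-- Every map from a scheme to the source of a morphism representable by algebraic spaces with
target having representable diagonal is representable. -/
theorem representable_from_yon_of_repBySh {F G : Sp S} (f : F ⟶ G) (hf : RepBySh f)
    (hG : Representable (Limits.diag G)) {T : Over S} (g : (yon S).obj T ⟶ F) :
    Representable g := by
  intro T' g'
  obtain ⟨V₀, p₁, p₂, sq₀⟩ := exists_isPullback_yon hG (g ≫ f) (g' ≫ f)
  let ξ : (yon S).obj V₀ ⟶ G := (yon S).map p₁ ≫ g ≫ f
  have sqX : IsPullback (pullback.fst f ξ) (pullback.snd f ξ) f ξ := IsPullback.of_hasPullback f ξ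
  have hX : IsAlgSpace (pullback f ξ) := hf ξ _ _ sqX
  let σ : (yon S).obj V₀ ⟶ pullback f ξ :=
    pullback.lift ((yon S).map p₁ ≫ g) (𝟙 _) (by simp [ξ])
  let σ' : (yon S).obj V₀ ⟶ pullback f ξ :=
    pullback.lift ((yon S).map p₂ ≫ g') (𝟙 _) (by
      simp only [ξ, Category.assoc, Category.id_comp]
      exact sq₀.w.symm)
  obtain ⟨V, e₁, e₂, sqV⟩ := exists_isPullback_yon hX.diag σ σ'
  have key := isPullback_of_sections f g g' sq₀ sqX (σ := σ) (σ' := σ')
    (pullback.lift_snd _ _ _) (pullback.lift_fst _ _ _) (pullback.lift_snd _ _ _)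
    (pullback.lift_fst _ _ _) sqV
  refine ⟨V, e₁ ≫ p₂, (yon S).map (e₁ ≫ p₁), ?_⟩
  rw [Functor.map_comp, Functor.map_comp]
  exact key

/-- If `f : F ⟶ G` is representable by algebraic spaces and `G` is an algebraic space, then so
is `F`. -/
theorem isAlgSpace_of_repBySh {F G : Sp S} (f : F ⟶ G) (hf : RepBySh f) (hG : IsAlgSpace G) :
    IsAlgSpace F where
  diag := (Functor.relativelyRepresentable.diag_iff).mpr
    (fun _ g => representable_from_yon_of_repBySh f hf hG.diag g)
  atlas := by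
    obtain ⟨U, p, hpe, hps⟩ := hG.atlas
    have sqX : IsPullback (pullback.fst f p) (pullback.snd f p) f p := IsPullback.of_hasPullback f p
    have hX : IsAlgSpace (pullback f p) := hf p _ _ sqX
    obtain ⟨W, q, hqe, hqs⟩ := hX.atlas
    refine ⟨W, q ≫ pullback.fst f p, ?_, ?_⟩
    · exact repWith_comp @Etale hqe (repWith_of_isPullback @Etale sqX.flip hpe)
    · exact repWith_comp @Surjective hqs (repWith_of_isPullback @Surjective sqX.flip hps)

/-- Base change of a morphism representable by algebraic spaces to an algebraic space is an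
algebraic space. -/
theorem isAlgSpace_of_isPullback_of_repBySh {F G X F' : Sp S} {f : F ⟶ G} {ξ : X ⟶ G}
    {fst : F' ⟶ F} {snd : F' ⟶ X} (sq : IsPullback fst snd f ξ) (hf : RepBySh f)
    (hX : IsAlgSpace X) : IsAlgSpace F' :=
  isAlgSpace_of_repBySh snd (hf.of_isPullback sq) hX

theorem RepBySh.comp {F G H : Sp S} {f : F ⟶ G} {g : G ⟶ H} (hf : RepBySh f) (hg : RepBySh g) :
    RepBySh (f ≫ g) := by
  intro U ξ F' fst snd sq
  -- `G' = h_U ×_H G`
  have sqG : IsPullback (pullback.fst g ξ) (pullback.snd g ξ) g ξ := IsPullback.of_hasPullback g ξ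
  have hG' : IsAlgSpace (pullback g ξ) := hg ξ _ _ sqG
  let l : F' ⟶ pullback g ξ := pullback.lift (fst ≫ f) snd (by rw [Category.assoc]; exact sq.w)
  have sqF : IsPullback fst l f (pullback.fst g ξ) := by
    apply IsPullback.of_bot (t := sqG)
    · rw [pullback.lift_snd]
      exact sq
    · exact (pullback.lift_fst _ _ _).symm
  exact isAlgSpace_of_isPullback_of_repBySh sqF hf hG'

theorem RepBySh.of_representable {F G : Sp S} {f : F ⟶ G} (hf : Representable f) : RepBySh f :=
  (repBySh_iff f).2 hf.repBySp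

theorem repBySh_of_isAlgSpace {F G : Sp S} (f : F ⟶ G) (hF : IsAlgSpace F)
    (hG : Representable (Limits.diag G)) : RepBySh f := by
  intro U ξ F' fst snd sq
  exact isAlgSpace_of_isPullback hG hF (IsAlgSpace.yon_obj U) f ξ fst snd sq

end Groth.Agent.Helper2.AlgSpBasic
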