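import Mathlib
import Groth.Prelude.Def_AlgSpRep
import Groth.Agent.Lib.Helper2.AlgSp.Boot

/-!
# Maps of presheaves representable by algebraic spaces (helper2)
-/

set_option autoImplicit false

namespace Groth.Agent.Helper2.AlgSpBasic
open CategoryTheory CategoryTheory.Limits AlgebraicGeometry Opposite AlgSp
open Groth.Agent.Helper2.BootCat
universe u
variable {S : Scheme.{u}}

theorem psh_exists_of_isPullback {F G H F' : PSp S} {a : F ⟶ G} {ξ : H ⟶ G} {fst : F' ⟶ F}
    {snd : F' ⟶ H} (sq : IsPullback fst snd a ξ) (T : (Over S)ᵒᵖ) (x : F.obj T) (h : H.obj T)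
    (e : a.app T x = ξ.app T h) : ∃ z : F'.obj T, fst.app T z = x ∧ snd.app T z = h :=
  Types.exists_of_isPullback (sq.app T) x h e

theorem psh_ext_of_isPullback {F G H F' : PSp S} {a : F ⟶ G} {ξ : H ⟶ G} {fst : F' ⟶ F}
    {snd : F' ⟶ H} (sq : IsPullback fst snd a ξ) (T : (Over S)ᵒᵖ) (z z' : F'.obj T)
    (h1 : fst.app T z = fst.app T z') (h2 : snd.app T z = snd.app T z') : z = z' :=
  Types.ext_of_isPullback (sq.app T) h1 h2

/-- If `a : F ⟶ G` is representable by algebraic spaces and `G` is a sheaf, so is `F`. -/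
theorem isSheaf_of_repBySp {F G : PSp S} (a : F ⟶ G) (ha : RepBySp a)
    (hG : Presheaf.IsSheaf (J S) G) : Presheaf.IsSheaf (J S) F := by
  rw [isSheaf_iff_isSheaf_of_type] at hG ⊢
  intro T R hR
  -- data attached to a section `t` of `G` over `T`
  have key : ∀ (t : G.obj (op T)), ∃ (F' : PSp S) (fst : F' ⟶ F) (snd : F' ⟶ (pyon S).obj T),
      IsPullback fst snd a (uliftYonedaEquiv.symm t) ∧ Presieve.IsSheaf (J S) F' := by
    intro t
    have sq := IsPullback.of_hasPullback a (uliftYonedaEquiv.symm t : (pyon S).obj T ⟶ G)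
    obtain ⟨hF', -⟩ := ha _ _ _ sq
    rw [isSheaf_iff_isSheaf_of_type] at hF'
    exact ⟨_, _, _, sq, hF'⟩
  have hξ : ∀ (t : G.obj (op T)) {V : Over S} (f : V ⟶ T),
      (uliftYonedaEquiv.symm t : (pyon S).obj T ⟶ G).app (op V) ⟨f⟩ = G.map f.op t := by
    intro t V f
    rfl
  -- separatedness
  have hsep : ∀ (s s' : F.obj (op T)),
      (∀ ⦃V : Over S⦄ (f : V ⟶ T), R f → F.map f.op s = F.map f.op s') → s = s' := by
    intro s s' hss'
    have h1 : a.app _ s' = a.app _ s := by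
      apply (hG R hR).isSeparatedFor.ext
      intro V f hf
      rw [← NatTrans.naturality_apply, ← NatTrans.naturality_apply, hss' f hf]
    obtain ⟨F', fst, snd, sq, hF'⟩ := key (a.app _ s)
    obtain ⟨z, hz1, hz2⟩ := psh_exists_of_isPullback sq (op T) s ⟨𝟙 T⟩ (by
      rw [hξ]; simp)
    obtain ⟨z', hz1', hz2'⟩ := psh_exists_of_isPullback sq (op T) s' ⟨𝟙 T⟩ (by
      rw [hξ, h1]; simp)
    have hzz' : z = z' := by
      apply (hF' R hR).isSeparatedFor.ext
      intro V f hf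
      apply psh_ext_of_isPullback sq
      · rw [NatTrans.naturality_apply, NatTrans.naturality_apply, hz1, hz1', hss' f hf]
      · rw [NatTrans.naturality_apply, NatTrans.naturality_apply, hz2, hz2']
    rw [← hz1, ← hz1', hzz']
  intro x hx
  -- the image family in `G` and its amalgamation
  let y : Presieve.FamilyOfElements G R.arrows := fun V f hf => a.app _ (x f hf)
  have hy : y.Compatible := by
    intro V₁ V₂ W g₁ g₂ f₁ f₂ h₁ h₂ hc
    change G.map g₁.op (a.app _ (x f₁ h₁)) = G.map g₂.op (a.app _ (x f₂ h₂))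
    rw [← NatTrans.naturality_apply, ← NatTrans.naturality_apply, hx g₁ g₂ h₁ h₂ hc]
  obtain ⟨t, ht, -⟩ := hG R hR y hy
  obtain ⟨F', fst, snd, sq, hF'⟩ := key t
  -- the lifted family in `F'`
  have hex : ∀ ⦃V : Over S⦄ (f : V ⟶ T) (hf : R f), ∃ z : F'.obj (op V),
      fst.app _ z = x f hf ∧ snd.app _ z = ⟨f⟩ := by
    intro V f hf
    apply psh_exists_of_isPullback sq
    rw [hξ]
    exact (ht f hf).symm
  choose x' hx'1 hx'2 using hex
  have hx'c : Presieve.FamilyOfElements.Compatible (P := F') (R := R.arrows) x' := by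
    intro V₁ V₂ W g₁ g₂ f₁ f₂ h₁ h₂ hc
    apply psh_ext_of_isPullback sq
    · rw [NatTrans.naturality_apply, NatTrans.naturality_apply, hx'1, hx'1]
      exact hx g₁ g₂ h₁ h₂ hc
    · rw [NatTrans.naturality_apply, NatTrans.naturality_apply, hx'2, hx'2]
      change (⟨g₁ ≫ f₁⟩ : ULift _) = ⟨g₂ ≫ f₂⟩
      rw [hc]
  obtain ⟨z, hz, -⟩ := hF' R hR x' hx'c
  refine ⟨fst.app _ z, ?_, ?_⟩
  · intro V f hf
    change F.map f.op (fst.app _ z) = x f hf
    rw [← NatTrans.naturality_apply, hz f hf, hx'1]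
  · intro s hs
    apply hsep
    intro V f hf
    have h1 : F.map f.op s = x f hf := hs f hf
    have h2 : F.map f.op (fst.app _ z) = x f hf := by
      rw [← NatTrans.naturality_apply, hz f hf, hx'1]
    rw [h1, h2]

end Groth.Agent.Helper2.AlgSpBasic

namespace Groth.Agent.Helper2.AlgSpBasic
open CategoryTheory CategoryTheory.Limits AlgebraicGeometry Opposite AlgSp
open Groth.Agent.Helper2.BootCat
universe u
variable {S : Scheme.{u}}

/-- Base change of a map of presheaves representable by algebraic spaces. -/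
theorem repBySp_of_isPullback {F G F' G' : PSp S} {a : F ⟶ G} {g : G' ⟶ G} {fst : F' ⟶ F}
    {snd : F' ⟶ G'} (sq : IsPullback fst snd a g) (ha : RepBySp a) : RepBySp snd := by
  intro U ξ F'' fst' snd' sq'
  exact ha (ξ ≫ g) (fst' ≫ fst) snd' (sq'.paste_horiz sq)

/-- If `a : F ⟶ G` is representable by algebraic spaces and `G` is an algebraic space, so is
`F`. -/
theorem isAlgSpaceP_of_repBySp {F G : PSp S} (a : F ⟶ G) (ha : RepBySp a)
    (hG : IsAlgSpaceP G) : IsAlgSpaceP F := by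
  obtain ⟨hGs, hG⟩ := hG
  have hF : Presheaf.IsSheaf (J S) F := isSheaf_of_repBySp a ha hGs
  let F₀ : Sp S := ⟨F, hF⟩
  let G₀ : Sp S := ⟨G, hGs⟩
  let f : F₀ ⟶ G₀ := ObjectProperty.homMk a
  have hf : RepBySh f := (repBySh_iff f).2 ha
  exact ⟨hF, isAlgSpace_of_repBySh f hf hG⟩

theorem isAlgSpaceP_of_isPullback {F G X F' : PSp S} {a : F ⟶ G} {ξ : X ⟶ G} {fst : F' ⟶ F}
    {snd : F' ⟶ X} (sq : IsPullback fst snd a ξ) (ha : RepBySp a) (hX : IsAlgSpaceP X) :
    IsAlgSpaceP F' :=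
  isAlgSpaceP_of_repBySp snd (repBySp_of_isPullback sq ha) hX

theorem repBySp_comp {F G H : PSp S} {a : F ⟶ G} {b : G ⟶ H} (ha : RepBySp a)
    (hb : RepBySp b) : RepBySp (a ≫ b) := by
  intro U ξ F' fst snd sq
  have sqG : IsPullback (pullback.fst b ξ) (pullback.snd b ξ) b ξ := IsPullback.of_hasPullback b ξ
  have hG' : IsAlgSpaceP (pullback b ξ) := hb ξ _ _ sqG
  let l : F' ⟶ pullback b ξ := pullback.lift (fst ≫ a) snd (by rw [Category.assoc]; exact sq.w)
  have sqF : IsPullback fst l a (pullback.fst b ξ) := by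
    apply IsPullback.of_bot (t := sqG)
    · rw [pullback.lift_snd]
      exact sq
    · exact (pullback.lift_fst _ _ _).symm
  exact isAlgSpaceP_of_isPullback sqF ha hG'

theorem isAlgSpaceP_pyon (V : Over S) : IsAlgSpaceP ((pyon S).obj V) :=
  (isAlgSpaceP_obj_iff ((yon S).obj V)).2 (IsAlgSpace.yon_obj V)

/-- Fibre products `h_U ×_X h_U'` over an algebraic space `X` (as a presheaf) are
representable. -/
theorem exists_isPullback_pyon {X : PSp S} (hX : IsAlgSpaceP X) {U U' : Over S}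
    (σ : (pyon S).obj U ⟶ X) (σ' : (pyon S).obj U' ⟶ X) :
    ∃ (V : Over S) (e₁ : V ⟶ U) (e₂ : V ⟶ U'),
      IsPullback ((pyon S).map e₁) ((pyon S).map e₂) σ σ' := by
  obtain ⟨hXs, hX⟩ := hX
  let X₀ : Sp S := ⟨X, hXs⟩
  let σ₀ : (yon S).obj U ⟶ X₀ := ObjectProperty.homMk σ
  let σ₀' : (yon S).obj U' ⟶ X₀ := ObjectProperty.homMk σ'
  obtain ⟨V, e₁, e₂, sq⟩ := exists_isPullback_yon hX.diag σ₀ σ₀'
  exact ⟨V, e₁, e₂, sq.map (sheafToPresheaf (J S) (Type (u + 1)))⟩

theorem repBySp_diagonal {F G : PSp S} (a : F ⟶ G) (ha : RepBySp a) :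
    RepBySp (pullback.diagonal a) := by
  intro U ξ F' fst snd sq
  let ζ : (pyon S).obj U ⟶ G := ξ ≫ pullback.fst a a ≫ a
  have sqX : IsPullback (pullback.fst a ζ) (pullback.snd a ζ) a ζ := IsPullback.of_hasPullback a ζ
  have hX : IsAlgSpaceP (pullback a ζ) := ha ζ _ _ sqX
  let σ : (pyon S).obj U ⟶ pullback a ζ :=
    pullback.lift (ξ ≫ pullback.fst a a) (𝟙 _) (by simp [ζ])
  let σ' : (pyon S).obj U ⟶ pullback a ζ :=
    pullback.lift (ξ ≫ pullback.snd a a) (𝟙 _) (by
      simp only [ζ, Category.assoc, Category.id_comp]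
      rw [pullback.condition])
  obtain ⟨V, e₁, e₂, sqV⟩ := exists_isPullback_pyon hX σ σ'
  have key := isPullback_diagonal_of_sections a ξ sqX (σ := σ) (σ' := σ')
    (pullback.lift_snd _ _ _) (pullback.lift_fst _ _ _) (pullback.lift_snd _ _ _)
    (pullback.lift_fst _ _ _) sqV
  exact (isAlgSpaceP_pyon V).of_iso (key.isoIsPullback _ _ sq)

end Groth.Agent.Helper2.AlgSpBasic
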