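import Mathlib
import Groth.Prelude.Def_AlgSpRep
import Groth.Agent.Lib.Helper2.AlgSp.BootPsh

/-!
# Maps of presheaves representable by algebraic spaces, part 2 (helper2)
-/

set_option autoImplicit false

namespace Groth.Agent.Helper2.AlgSpBasic
open CategoryTheory CategoryTheory.Limits AlgebraicGeometry Opposite AlgSp
open Groth.Agent.Helper2.BootCat
universe u
variable {S : Scheme.{u}}

theorem repBySp_prod_map {F₁ G₁ F₂ G₂ : PSp S} (a₁ : F₁ ⟶ G₁) (a₂ : F₂ ⟶ G₂)
    (h₁ : RepBySp a₁) (h₂ : RepBySp a₂) : RepBySp (prod.map a₁ a₂) := by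
  have e : prod.map a₁ (𝟙 F₂) ≫ prod.map (𝟙 G₁) a₂ = prod.map a₁ a₂ := by
    rw [prod.map_map, Category.comp_id, Category.id_comp]
  rw [← e]
  exact repBySp_comp (repBySp_of_isPullback (isPullback_prod_map_id a₁) h₁)
    (repBySp_of_isPullback (isPullback_prod_id_map a₂) h₂)

theorem repBySp_of_comp_of_diagonal {F G H : PSp S} (a : F ⟶ G) (b : G ⟶ H)
    (hΔ : RepBySp (pullback.diagonal b)) (hab : RepBySp (a ≫ b)) : RepBySp a := by
  have sq1 := pullback_lift_diagonal_isPullback a b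
  have h1 := repBySp_of_isPullback sq1 hΔ
  have h2 : RepBySp (pullback.snd (a ≫ b) b) :=
    repBySp_of_isPullback (IsPullback.of_hasPullback (a ≫ b) b) hab
  have h3 := repBySp_comp h1 h2
  rwa [pullback.lift_snd] at h3

/-- The fibre product of algebraic spaces (as presheaves) is an algebraic space. -/
theorem isAlgSpaceP_fiber_product {X Y H P : PSp S} {f : X ⟶ H} {g : Y ⟶ H} {fst : P ⟶ X}
    {snd : P ⟶ Y} (sq : IsPullback fst snd f g) (hH : IsAlgSpaceP H) (hX : IsAlgSpaceP X)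
    (hY : IsAlgSpaceP Y) : IsAlgSpaceP P := by
  obtain ⟨hHs, hH⟩ := hH
  obtain ⟨hXs, hX⟩ := hX
  obtain ⟨hYs, hY⟩ := hY
  let X₀ : Sp S := ⟨X, hXs⟩
  let Y₀ : Sp S := ⟨Y, hYs⟩
  let H₀ : Sp S := ⟨H, hHs⟩
  have hP : Presheaf.IsSheaf (J S) P := isSheaf_of_isPullback (F := X₀) (G := H₀) (H := Y₀) sq
  let P₀ : Sp S := ⟨P, hP⟩
  let f₀ : X₀ ⟶ H₀ := ObjectProperty.homMk f
  let g₀ : Y₀ ⟶ H₀ := ObjectProperty.homMk g
  let fst₀ : P₀ ⟶ X₀ := ObjectProperty.homMk fst
  let snd₀ : P₀ ⟶ Y₀ := ObjectProperty.homMk snd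
  have sq₀ : IsPullback fst₀ snd₀ f₀ g₀ :=
    IsPullback.of_map_of_faithful (sheafToPresheaf (J S) (Type (u + 1))) sq
  exact ⟨hP, isAlgSpace_of_isPullback hH.diag hX hY f₀ g₀ fst₀ snd₀ sq₀⟩

theorem isAlgSpaceP_pyon_prod (T U : Over S) : IsAlgSpaceP ((pyon S).obj T ⨯ (pyon S).obj U) :=
  (isAlgSpaceP_pyon (T ⨯ U)).of_iso (asIso (prodComparison (pyon S) T U))

theorem repBySp_from_pyon_of_diag {F : PSp S} (h : RepBySp (Limits.diag F)) (T : Over S)
    (ξ : (pyon S).obj T ⟶ F) : RepBySp ξ := by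
  intro U ζ F' fst snd sq
  have sqC := isPullback_diag_of_isPullback' sq
  let c := asIso (prodComparison (pyon S) T U)
  have sqC' : IsPullback (fst ≫ ξ) (prod.lift fst snd ≫ c.inv) (Limits.diag F)
      (c.hom ≫ prod.map ξ ζ) :=
    IsPullback.of_iso sqC (Iso.refl _) (Iso.refl _) c.symm (Iso.refl _) (by simp) (by simp)
      (by simp) (by simp)
  exact h (c.hom ≫ prod.map ξ ζ) _ _ sqC'

theorem repBySp_diag_of_forall_from_pyon {F : PSp S}
    (h : ∀ (T : Over S) (ξ : (pyon S).obj T ⟶ F), RepBySp ξ) : RepBySp (Limits.diag F) := by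
  intro U ζ F' fst snd sq
  let s : (pyon S).obj U ⟶ F := ζ ≫ prod.fst
  let s' : (pyon S).obj U ⟶ F := ζ ≫ prod.snd
  have sqE : IsPullback (pullback.fst s s') (pullback.snd s s') s s' :=
    IsPullback.of_hasPullback s s'
  have hE : IsAlgSpaceP (pullback s s') := h U s s' _ _ sqE
  have hw1 : fst = snd ≫ s := by
    have := congrArg (· ≫ prod.fst) sq.w
    simpa only [Category.assoc, prod.lift_fst, Limits.diag, Category.comp_id] using this
  have hw2 : fst = snd ≫ s' := by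
    have := congrArg (· ≫ prod.snd) sq.w
    simpa only [Category.assoc, prod.lift_snd, Limits.diag, Category.comp_id] using this
  let l : F' ⟶ pullback s s' := pullback.lift snd snd (hw1.symm.trans hw2)
  have sqD := isPullback_diag_of_isPullback_diag sq sqE (l := l) (pullback.lift_fst _ _ _)
    (pullback.lift_snd _ _ _)
  exact isAlgSpaceP_fiber_product sqD (isAlgSpaceP_pyon_prod U U) hE (isAlgSpaceP_pyon U)

theorem repBySp_diag_iff_forall_from_pyon (F : PSp S) :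
    RepBySp (Limits.diag F) ↔ ∀ (T : Over S) (ξ : (pyon S).obj T ⟶ F), RepBySp ξ :=
  ⟨repBySp_from_pyon_of_diag, repBySp_diag_of_forall_from_pyon⟩

end Groth.Agent.Helper2.AlgSpBasic
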