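import Mathlib
import Groth.Agent.Lib.Helper2.AlgSp.Mono

/-! More fpqc coverings of algebraic spaces. -/
namespace Groth.Agent.Helper2.AlgSpBasic
open CategoryTheory CategoryTheory.Limits AlgebraicGeometry Opposite Topology AlgSp
open Groth.Agent.Helper2.EtaleLocal
universe u
variable {S : Scheme.{u}}

/-- A flat, quasi-compact, surjective morphism of algebraic spaces is an fpqc covering. -/
theorem isFpqcCover_of_flat_qc_surjective {X Y : Sp S} (hX : IsAlgSpace X) (hY : IsAlgSpace Y)
    (f : X ⟶ Y) (hfl : LocP @Flat f) (hqc : IsQuasiCompactMor f) (hs : IsSurjectiveMor f) :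
    IsFpqcCover (fun _ : PUnit.{u + 1} => X) (fun _ => f) := by
  refine ⟨fun _ => hfl, fun Z hZ h => ?_⟩
  have sq := IsPullback.of_hasPullback f h
  have hP : IsAlgSpace (pullback f h) :=
    isAlgSpace_of_isPullback hY.diag hX (IsAlgSpace.yon_obj Z) f h _ _ sq
  have hPq : IsQuasiCompactSp (pullback f h) :=
    hqc (IsAlgSpace.yon_obj Z) ((isQuasiCompactSp_yon_iff Z).mpr inferInstance) h _ _ sq
  obtain ⟨U, a, hU, hae, has⟩ := (isQuasiCompactSp_iff_exists_affine_chart hP).mp hPq
  obtain ⟨k, hk⟩ := (yon S).map_surjective (a ≫ pullback.snd f h)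
  have hsndfl : LocP @Flat (pullback.snd f h) :=
    locP_of_isPullback @Flat hX hY (IsAlgSpace.yon_obj Z) hP f h _ _ sq hfl
  have hkfl : Flat k.left :=
    hsndfl a (𝟙 _) k hae (repWith_etale_id Z) (by rw [hk, Category.comp_id])
  have hks : Function.Surjective k.left := by
    refine (surjectiveMor_yon_map_iff k).mp ?_
    rw [hk]
    intro y
    obtain ⟨p, rfl⟩ := isSurjectiveMor_of_isPullback f h _ _ sq hs y
    obtain ⟨u, rfl⟩ := isSurjectiveMor_of_repWith_surjective a has p
    exact ⟨u, Points.map_comp _ _ _⟩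
  refine ⟨1, fun _ => U, fun _ => k, fun _ => hU, fun _ => hkfl, fun z => ⟨0, hks z⟩, fun _ => ?_⟩
  refine ⟨PUnit.unit, a ≫ pullback.fst f h, ?_⟩
  rw [Category.assoc, sq.w, ← Category.assoc, hk]

/-- `S10582`: a quasi-compact, flat, surjective monomorphism of algebraic spaces is an
isomorphism. -/
theorem isIso_of_mono_flat_qc_surjective {X Y : Sp S} (hX : IsAlgSpace X) (hY : IsAlgSpace Y)
    (f : X ⟶ Y) [Mono f] (hfl : LocP @Flat f) (hqc : IsQuasiCompactMor f)
    (hs : IsSurjectiveMor f) : IsIso f := by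
  have hcov := isFpqcCover_of_flat_qc_surjective hX hY f hfl hqc hs
  have sq : IsPullback (pullback.fst f f) (pullback.snd f f) f f := IsPullback.of_hasPullback f f
  have hPP : IsAlgSpace (pullback f f) := isAlgSpace_of_isPullback hY.diag hX hX f f _ _ sq
  have := isLocalOnBase_fpqc_isomorphisms (fun _ : PUnit.{u + 1} => X) (fun _ => f) hY
    (fun _ => hX) hcov f hX (fun _ => pullback f f) (fun _ => pullback.snd f f)
    (fun _ => pullback.fst f f) (fun _ => hPP) (fun _ => sq)
  exact this.mpr fun _ => (inferInstance : IsIso (pullback.snd f f))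

end Groth.Agent.Helper2.AlgSpBasic
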