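import Mathlib
import Groth.Agent.Lib.Helper2.AlgSp.FpqcCover

/-! Locality on the source for properties of morphisms of algebraic spaces. -/
namespace Groth.Agent.Helper2.AlgSpBasic
open CategoryTheory CategoryTheory.Limits AlgebraicGeometry Opposite Topology AlgSp
open Groth.Agent.Helper2.EtaleLocal
universe u
variable {S : Scheme.{u}}

/-- An étale chart of the source, base changed along a member of a family. -/
theorem exists_chart_of_family_member (R : MorphismProperty Scheme.{u}) [IsEtaleLocalST R]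
    {X Xi : Sp S} (hX : IsAlgSpace X) (hXi : IsAlgSpace Xi) (g : Xi ⟶ X) (hg : LocP R g)
    {U : Over S} (a : (yon S).obj U ⟶ X) :
    ∃ (Ui : Over S) (d : Ui ⟶ U) (e : (yon S).obj Ui ⟶ Xi),
      (RepWith @Etale a → RepWith @Etale e) ∧ R d.left ∧
      e ≫ g = (yon S).map d ≫ a ∧
      ∀ (u : ↥U.left) (x : Points Xi), Points.map g x = Points.ofPt a u → ∃ u', d.left u' = u := by
  have sq := IsPullback.of_hasPullback g a
  have hQ : IsAlgSpace (pullback g a) :=
    isAlgSpace_of_isPullback hX.diag hXi (IsAlgSpace.yon_obj U) g a _ _ sq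
  obtain ⟨Ui, c, hce, hcs⟩ := hQ.atlas
  obtain ⟨d, hd⟩ := (yon S).map_surjective (c ≫ pullback.snd g a)
  have h1 : RepWith @Etale a → RepWith @Etale (pullback.fst g a) := fun ha =>
    repWith_of_isPullback @Etale sq.flip ha
  have h2 : LocP R (pullback.snd g a) :=
    locP_of_isPullback R hXi hX (IsAlgSpace.yon_obj U) hQ g a _ _ sq hg
  refine ⟨Ui, d, c ≫ pullback.fst g a, fun ha => repWith_comp @Etale hce (h1 ha),
    h2 c (𝟙 _) d hce (repWith_etale_id U) (by rw [hd, Category.comp_id]), ?_, ?_⟩
  · rw [Category.assoc, sq.w, ← Category.assoc, hd]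
  · intro u x hx
    rw [Points.ofPt_eq_map_ofScheme] at hx
    obtain ⟨q, -, hq2⟩ := points_exists_of_isPullback a g (pullback.fst g a) (pullback.snd g a) sq
      x (Points.ofScheme U u) hx
    obtain ⟨u', rfl⟩ := surjective_ofPt c hcs q
    refine ⟨u', ?_⟩
    apply (Points.schemeHomeo U).injective
    rw [← Points.map_yon_map_apply, hd]
    rw [Points.ofPt_eq_map_ofScheme, ← Points.map_comp] at hq2
    exact hq2

set_option backward.isDefEq.respectTransparency.types false in
/-- Locality on the source for a jointly surjective family with members in `LocP R`, for `P`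
descending along surjective precomposition with morphisms in `R`. -/
theorem locP_of_source_family (P R : MorphismProperty Scheme.{u}) [IsEtaleLocalST P]
    [IsEtaleLocalST R] [IsZariskiLocalAtSource P] [IsZariskiLocalAtSource R]
    (hdesc : ∀ ⦃U' U V : Scheme.{u}⦄ (d : U' ⟶ U) (φ : U ⟶ V), R d → Surjective d →
      P (d ≫ φ) → P φ)
    {ι : Type u} {X Y : Sp S} (hX : IsAlgSpace X) (f : X ⟶ Y) (Xi : ι → Sp S)
    (hXi : ∀ i, IsAlgSpace (Xi i)) (g : ∀ i, Xi i ⟶ X) (hg : ∀ i, LocP R (g i))
    (hsurj : ∀ x : Points X, ∃ i, x ∈ Set.range (Points.map (g i)))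
    (h : ∀ i, LocP P (g i ≫ f)) : LocP P f := by
  intro U V a b k ha hb comm
  choose Ui d e he hRd hcomm hpt using fun i =>
    exists_chart_of_family_member R hX (hXi i) (g i) (hg i) a
  let D : (∐ fun i => (Ui i).left) ⟶ U.left := Sigma.desc fun i => (d i).left
  have hD : R D := by
    rw [IsZariskiLocalAtSource.iff_of_openCover (P := R) (sigmaOpenCover _)]
    intro i
    change R (Sigma.ι (fun i => (Ui i).left) i ≫ Sigma.desc fun i => (d i).left)
    rw [Sigma.ι_desc]
    exact hRd i
  have hDs : Surjective D := by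
    refine ⟨fun u => ?_⟩
    obtain ⟨i, x, hx⟩ := hsurj (Points.ofPt a u)
    obtain ⟨u', hu'⟩ := hpt i u x hx
    refine ⟨Sigma.ι (fun i => (Ui i).left) i u', ?_⟩
    rw [← Scheme.Hom.comp_apply, Sigma.ι_desc]
    exact hu'
  refine hdesc D k.left hD hDs ?_
  rw [IsZariskiLocalAtSource.iff_of_openCover (P := P) (sigmaOpenCover _)]
  intro i
  change P (Sigma.ι (fun i => (Ui i).left) i ≫ (Sigma.desc fun i => (d i).left) ≫ k.left)
  rw [Sigma.ι_desc_assoc]
  have := h i (e i) b (d i ≫ k) (he i ha) hb (by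
    rw [← Category.assoc, hcomm i, Category.assoc, comm, Functor.map_comp, Category.assoc])
  rwa [Over.comp_left] at this


/-- An fpqc covering is jointly surjective on points. -/
theorem isFpqcCover_jointly_surjective {X : Sp S} {ι : Type u} (Xi : ι → Sp S)
    (g : ∀ i, Xi i ⟶ X) (h : IsFpqcCover Xi g) (x : Points X) :
    ∃ i, x ∈ Set.range (Points.map (g i)) := by
  obtain ⟨T, t', t, hT, rfl⟩ := exists_ofPt_eq_affine x
  obtain ⟨m, W, c, hW, hc, hs, hl⟩ := h.2 T hT t'
  obtain ⟨j, w, hw⟩ := hs t
  obtain ⟨i, l, hl⟩ := hl j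
  refine ⟨i, Points.ofPt l w, ?_⟩
  rw [Points.map_ofPt, hl, ofPt_yon_map_comp, hw]

/-- `S10548`. -/
theorem isLocalOnSource_fpqc_locP_flat :
    IsLocalOnSource (IsFpqcCover (S := S)) (LocP @Flat) := by
  intro ι X Xi g hX hXi hcov Y f hY
  constructor
  · intro hf i
    exact locP_comp @Flat (hXi i) hX hY (g i) f (hcov.1 i) hf
  · intro h
    refine locP_of_source_family @Flat @Flat (fun _ _ _ d φ hd hs hφ => ?_) hX f Xi hXi g hcov.1
      (isFpqcCover_jointly_surjective Xi g hcov) h
    haveI : Flat d := hd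
    haveI : Surjective d := hs
    haveI : Flat (d ≫ φ) := hφ
    exact flat_of_flat_comp_of_surjective d φ

/-- Étale locality on the source of `LocP P`. -/
theorem isLocalOnSource_et_locP (P : MorphismProperty Scheme.{u}) [IsEtaleLocalST P]
    [IsZariskiLocalAtSource P] : IsLocalOnSource (IsEtCover (S := S)) (LocP P) := by
  intro ι X Xi g hX hXi hcov Y f hY
  have hge : ∀ i, LocP @Etale (g i) := fun i => locP_etale_of_isEtaleMor hX.diag (g i) (hcov.1 i)
  constructor
  · intro hf i
    refine locP_comp P (hXi i) hX hY (g i) f (locP_mono ?_ (hge i)) hf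
    intro A B φ hφ
    exact IsEtaleLocalST.of_etale φ hφ
  · intro h
    exact locP_of_source_family P @Etale
      (fun _ _ _ d φ hd hs hφ => IsEtaleLocalST.of_comp_etale_surjective d φ hd hs hφ) hX f Xi hXi g
      hge hcov.2 h

theorem isLocalOnSource_congr {τ : CovNotion S} {P Q : MorphismProperty (Sp S)}
    (h : ∀ ⦃X Y : Sp S⦄ (f : X ⟶ Y), IsAlgSpace X → IsAlgSpace Y → (P f ↔ Q f))
    (hP : IsLocalOnSource τ P) : IsLocalOnSource τ Q := by
  intro ι X Xi g hX hXi hcov Y f hY
  rw [← h f hX hY, hP Xi g hX hXi hcov f hY]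
  exact forall_congr' fun i => h (g i ≫ f) (hXi i) hY

theorem isLocalOnSource_et_isEtaleMor : IsLocalOnSource (IsEtCover (S := S)) IsEtaleMor :=
  isLocalOnSource_congr (fun _ _ f hX hY => (isEtaleMor_iff_locP_etale hX hY f).symm)
    (isLocalOnSource_et_locP @Etale)


/-- Openness on points may be tested on a jointly surjective family over the source. -/
theorem isOpenMap_points_of_source_family {ι : Type*} {X Y : Sp S} (f : X ⟶ Y) (Xi : ι → Sp S)
    (g : ∀ i, Xi i ⟶ X) (hsurj : ∀ x : Points X, ∃ i, x ∈ Set.range (Points.map (g i)))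
    (h : ∀ i, IsOpenMap (Points.map (g i ≫ f))) : IsOpenMap (Points.map f) := by
  intro W hW
  have : Points.map f '' W = ⋃ i, Points.map (g i ≫ f) '' (Points.map (g i) ⁻¹' W) := by
    ext z
    simp only [Set.mem_image, Set.mem_iUnion, Set.mem_preimage]
    constructor
    · rintro ⟨w, hw, rfl⟩
      obtain ⟨i, x, rfl⟩ := hsurj w
      exact ⟨i, x, hw, Points.map_comp _ _ _⟩
    · rintro ⟨i, x, hx, rfl⟩
      exact ⟨Points.map (g i) x, hx, (Points.map_comp _ _ _).symm⟩
  rw [this]
  exact isOpen_iUnion fun i => h i _ (hW.preimage (Points.continuous_map _))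

/-- `S10551`. -/
theorem isLocalOnSource_fppf_isOpenMor :
    IsLocalOnSource (IsFppfCover (S := S)) IsOpenMor := by
  intro ι X Xi g hX hXi hcov Y f hY
  constructor
  · intro hf i
    have h1 : IsOpenMap (Points.map (g i)) := isOpenMap_of_isUnivOpenMor hX (g i)
      (isUnivOpenMor_of_flat_lfp (hXi i) hX (g i) (hcov.1 i).1 (hcov.1 i).2)
    show IsOpenMap (Points.map (g i ≫ f))
    have : Points.map (g i ≫ f) = Points.map f ∘ Points.map (g i) := by
      funext x; exact Points.map_comp _ _ _
    rw [this]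
    exact IsOpenMap.comp hf h1
  · intro h
    exact isOpenMap_points_of_source_family f Xi g hcov.2 h

/-- `S10552`. -/
theorem isLocalOnSource_fppf_isUnivOpenMor :
    IsLocalOnSource (IsFppfCover (S := S)) IsUnivOpenMor := by
  intro ι X Xi g hX hXi hcov Y f hY
  constructor
  · intro hf i T Z' hT t a b sqZ
    -- factor through the base change of `f`
    have sqX := IsPullback.of_hasPullback f t
    have hw : (a ≫ g i) ≫ f = b ≫ t := by rw [Category.assoc]; exact sqZ.w
    have sqL : IsPullback a (sqX.lift (a ≫ g i) b hw) (g i) (pullback.fst f t) := by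
      refine IsPullback.of_bot ?_ (sqX.lift_fst _ _ hw).symm sqX
      rw [sqX.lift_snd]
      exact sqZ
    have hXT : IsAlgSpace (pullback f t) :=
      isAlgSpace_of_isPullback hY.diag hX hT f t _ _ sqX
    have h1 : IsOpenMap (Points.map (sqX.lift (a ≫ g i) b hw)) :=
      (isUnivOpenMor_of_flat_lfp (hXi i) hX (g i) (hcov.1 i).1 (hcov.1 i).2) hXT _ _ _ sqL
    have h2 : IsOpenMap (Points.map (pullback.snd f t)) := hf hT t _ _ sqX
    show IsOpenMap (Points.map b)
    have : Points.map b = Points.map (pullback.snd f t) ∘ Points.map (sqX.lift (a ≫ g i) b hw) := by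
      funext x
      rw [Function.comp_apply, ← Points.map_comp, sqX.lift_snd]
    rw [this]
    exact IsOpenMap.comp h2 h1
  · intro h T Z' hT t a b sqZ
    -- the family `X_i ×_X Z' ⟶ Z'`
    refine isOpenMap_points_of_source_family b (fun i => pullback (g i) a)
      (fun i => pullback.snd (g i) a) (fun z => ?_) fun i => ?_
    · obtain ⟨i, x, hx⟩ := hcov.2 (Points.map a z)
      obtain ⟨p, -, hp⟩ := points_exists_of_isPullback a (g i) (pullback.fst (g i) a)
        (pullback.snd (g i) a) (IsPullback.of_hasPullback (g i) a) x z hx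
      exact ⟨i, p, hp⟩
    · have big : IsPullback (pullback.fst (g i) a) (pullback.snd (g i) a ≫ b) (g i ≫ f) t :=
        (IsPullback.of_hasPullback (g i) a).paste_vert sqZ
      exact h i hT t _ _ big

end Groth.Agent.Helper2.AlgSpBasic
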