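import Mathlib
import Groth.Agent.Lib.Helper2.AlgSp.Source

/-! Permanence properties of fpqc coverings of algebraic spaces. -/
namespace Groth.Agent.Helper2.AlgSpBasic
open CategoryTheory CategoryTheory.Limits AlgebraicGeometry Opposite Topology AlgSp
open Groth.Agent.Helper2.EtaleLocal
universe u
variable {S : Scheme.{u}}

/-- Standard fpqc refinement data with an arbitrary finite index type. -/
theorem stdFpqc_of_finite {X : Sp S} {ι : Type u} (Xi : ι → Sp S) (g : ∀ i, Xi i ⟶ X)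
    {Z : Over S} (t : (yon S).obj Z ⟶ X) (κ : Type*) [Finite κ] (W : κ → Over S)
    (c : ∀ k, W k ⟶ Z) (hW : ∀ k, IsAffine (W k).left) (hc : ∀ k, Flat (c k).left)
    (hs : ∀ z : ↥Z.left, ∃ k, z ∈ Set.range (c k).left)
    (hl : ∀ k, ∃ (i : ι) (l : (yon S).obj (W k) ⟶ Xi i), l ≫ g i = (yon S).map (c k) ≫ t) :
    ∃ (m : ℕ) (W : Fin m → Over S) (c : ∀ j, W j ⟶ Z),
      (∀ j, IsAffine (W j).left) ∧ (∀ j, Flat (c j).left) ∧
      (∀ z : ↥Z.left, ∃ j, z ∈ Set.range (c j).left) ∧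
      ∀ j, ∃ (i : ι) (l : (yon S).obj (W j) ⟶ Xi i), l ≫ g i = (yon S).map (c j) ≫ t := by
  obtain ⟨n, ⟨e⟩⟩ := Finite.exists_equiv_fin κ
  refine ⟨n, fun j => W (e.symm j), fun j => c (e.symm j), fun j => hW _, fun j => hc _,
    fun z => ?_, fun j => hl _⟩
  obtain ⟨k, hk⟩ := hs z
  refine ⟨e k, ?_⟩
  show z ∈ Set.range ⇑(Over.Hom.left (c (e.symm (e k))))
  rw [Equiv.symm_apply_apply]
  exact hk

/-- `S10507`. -/
theorem isFpqcCover_sigma {X : Sp S} (hX : IsAlgSpace X) {ι : Type u} (Xi : ι → Sp S)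
    (hXi : ∀ i, IsAlgSpace (Xi i)) (g : ∀ i, Xi i ⟶ X) (κ : ι → Type u)
    (Xij : ∀ i, κ i → Sp S) (hXij : ∀ i j, IsAlgSpace (Xij i j)) (gij : ∀ i j, Xij i j ⟶ Xi i)
    (h : IsFpqcCover Xi g) (hij : ∀ i, IsFpqcCover (Xij i) (gij i)) :
    IsFpqcCover (fun r : Σ i, κ i => Xij r.1 r.2) (fun r => gij r.1 r.2 ≫ g r.1) := by
  refine ⟨fun r => locP_comp @Flat (hXij r.1 r.2) (hXi r.1) hX _ _ ((hij r.1).1 r.2) (h.1 r.1),
    fun Z hZ t => ?_⟩
  obtain ⟨m, W, c, hW, hc, hs, hl⟩ := h.2 Z hZ t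
  choose i l hl using hl
  choose m' W' c' hW' hc' hs' hl' using fun j => (hij (i j)).2 (W j) (hW j) (l j)
  refine stdFpqc_of_finite _ _ t (Σ j : Fin m, Fin (m' j)) (fun r => W' r.1 r.2)
    (fun r => c' r.1 r.2 ≫ c r.1) (fun r => hW' _ _) (fun r => ?_) (fun z => ?_) (fun r => ?_)
  · rw [Over.comp_left]
    haveI := hc' r.1 r.2
    haveI := hc r.1
    infer_instance
  · obtain ⟨j, w, hw⟩ := hs z
    obtain ⟨k, w', hw'⟩ := hs' j w
    exact ⟨⟨j, k⟩, w', by rw [Over.comp_left, Scheme.Hom.comp_apply, hw', hw]⟩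
  · obtain ⟨k, l'', hl''⟩ := hl' r.1 r.2
    exact ⟨⟨i r.1, k⟩, l'', by
      rw [← Category.assoc, hl'', Category.assoc, hl, Functor.map_comp, Category.assoc]⟩


set_option backward.isDefEq.respectTransparency.types false in
/-- `S10505`: an fppf covering is an fpqc covering. -/
theorem isFpqcCover_of_isFppfCover {X : Sp S} (hX : IsAlgSpace X) {ι : Type u} (Xi : ι → Sp S)
    (hXi : ∀ i, IsAlgSpace (Xi i)) (g : ∀ i, Xi i ⟶ X) (h : IsFppfCover Xi g) :
    IsFpqcCover Xi g := by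
  refine ⟨fun i => (h.1 i).1, fun Z hZ t => ?_⟩
  choose Ui d e _ hRd hcomm hpt using fun i =>
    exists_chart_of_family_member (@Flat ⊓ @LocallyOfFinitePresentation) hX (hXi i) (g i)
      (locP_inf (h.1 i).1 (h.1 i).2) t
  have key : ∀ z : ↥Z.left, ∃ (i : ι) (A : (Ui i).left.Opens), IsAffineOpen A ∧
      z ∈ (d i).left '' (A : Set ↥(Ui i).left) := by
    intro z
    obtain ⟨i, x, hx⟩ := h.2 (Points.ofPt t z)
    obtain ⟨u', hu'⟩ := hpt i z x hx
    obtain ⟨A, hA⟩ := TopologicalSpace.Opens.isBasis_iff_nbhd.mp (Ui i).left.isBasis_affineOpens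
      (show u' ∈ (⊤ : (Ui i).left.Opens) from trivial)
    exact ⟨i, A, hA.1, u', hA.2.1, hu'⟩
  choose i A hA hz using key
  have hopen : ∀ z, IsOpen ((d (i z)).left '' (A z : Set ↥(Ui (i z)).left)) := fun z => by
    haveI : Flat (d (i z)).left := (hRd (i z)).1
    haveI : LocallyOfFinitePresentation (d (i z)).left := (hRd (i z)).2
    exact (d (i z)).left.isOpenMap _ (A z).isOpen
  obtain ⟨s, hs⟩ := isCompact_univ.elim_finite_subcover
    (fun z => (d (i z)).left '' (A z : Set ↥(Ui (i z)).left)) hopen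
    (fun z _ => Set.mem_iUnion.mpr ⟨z, hz z⟩)
  let ιA : ∀ z : ↥Z.left, Over.mk ((A z).ι ≫ (Ui (i z)).hom) ⟶ Ui (i z) := fun z =>
    Over.homMk (A z).ι rfl
  refine stdFpqc_of_finite Xi g t (↥s) (fun z => Over.mk ((A z.1).ι ≫ (Ui (i z.1)).hom))
    (fun z => ιA z.1 ≫ d (i z.1)) (fun z => hA z.1) (fun z => ?_) (fun z' => ?_) (fun z => ?_)
  · haveI : Flat (d (i z.1)).left := (hRd (i z.1)).1
    rw [Over.comp_left]
    exact (inferInstance : Flat ((A z.1).ι ≫ (d (i z.1)).left))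
  · obtain ⟨z, hzs, a, ha, rfl⟩ : ∃ z ∈ s, z' ∈ (d (i z)).left '' (A z : Set ↥(Ui (i z)).left) := by
      have := hs (Set.mem_univ z')
      simpa only [Set.mem_iUnion, exists_prop] using this
    refine ⟨⟨z, hzs⟩, ⟨a, ha⟩, ?_⟩
    rw [Over.comp_left, Scheme.Hom.comp_apply]
    rfl
  · refine ⟨i z.1, (yon S).map (ιA z.1) ≫ e (i z.1), ?_⟩
    rw [Category.assoc, hcomm, Functor.map_comp, Category.assoc]


set_option backward.isDefEq.respectTransparency.types false in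
/-- `S10508`, descent direction: a family is an fpqc covering if its base change to an étale
chart is. -/
theorem isFpqcCover_of_chart {X : Sp S} (hX : IsAlgSpace X) {ι : Type u} (Xi : ι → Sp S)
    (hXi : ∀ i, IsAlgSpace (Xi i)) (g : ∀ i, Xi i ⟶ X) {U : Over S} (p : (yon S).obj U ⟶ X)
    (hp : RepWith @Etale p) (hps : RepWith @Surjective p) (Ui : ι → Sp S)
    (q : ∀ i, Ui i ⟶ (yon S).obj U) (p' : ∀ i, Ui i ⟶ Xi i)
    (sq : ∀ i, IsPullback (q i) (p' i) p (g i)) (h : IsFpqcCover Ui q) : IsFpqcCover Xi g := by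
  refine ⟨fun i => locP_of_target_cover @Flat (hXi i) hX (g i) U p hp hps (p' i) (q i)
    (sq i).flip (h.1 i), fun Z hZ t => ?_⟩
  have hrep := hp.rep
  have sqZ := hrep.isPullback t
  have hE : Etale (hrep.snd t).left := hp.property t _ _ sqZ
  have hSu : Surjective (hrep.snd t).left := hps.property t _ _ sqZ
  have key : ∀ z : ↥Z.left, ∃ (A : (hrep.pullback t).left.Opens), IsAffineOpen A ∧
      z ∈ (hrep.snd t).left '' (A : Set ↥(hrep.pullback t).left) := by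
    intro z
    obtain ⟨z', hz'⟩ := hSu.surj z
    obtain ⟨A, hA⟩ := TopologicalSpace.Opens.isBasis_iff_nbhd.mp
      (hrep.pullback t).left.isBasis_affineOpens (show z' ∈ (⊤ : (hrep.pullback t).left.Opens)
        from trivial)
    exact ⟨A, hA.1, z', hA.2.1, hz'⟩
  choose A hA hz using key
  have hopen : ∀ z, IsOpen ((hrep.snd t).left '' (A z : Set ↥(hrep.pullback t).left)) := fun z =>
    (hrep.snd t).left.isOpenMap _ (A z).isOpen
  obtain ⟨s, hs⟩ := isCompact_univ.elim_finite_subcover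
    (fun z => (hrep.snd t).left '' (A z : Set ↥(hrep.pullback t).left)) hopen
    (fun z _ => Set.mem_iUnion.mpr ⟨z, hz z⟩)
  let ιA : ∀ z : ↥Z.left, Over.mk ((A z).ι ≫ (hrep.pullback t).hom) ⟶ hrep.pullback t := fun z =>
    Over.homMk (A z).ι rfl
  choose m W c hW hc hsW hl using fun z : ↥Z.left =>
    h.2 (Over.mk ((A z).ι ≫ (hrep.pullback t).hom)) (hA z) ((yon S).map (ιA z) ≫ hrep.fst t)
  refine stdFpqc_of_finite Xi g t (Σ z : ↥s, Fin (m z.1)) (fun r => W r.1.1 r.2)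
    (fun r => c r.1.1 r.2 ≫ ιA r.1.1 ≫ hrep.snd t) (fun r => hW _ _) (fun r => ?_) (fun z' => ?_)
    (fun r => ?_)
  · haveI := hc r.1.1 r.2
    rw [Over.comp_left, Over.comp_left]
    exact (inferInstance : Flat ((c r.1.1 r.2).left ≫ (A r.1.1).ι ≫ (hrep.snd t).left))
  · obtain ⟨z, hzs, a, ha, rfl⟩ :
        ∃ z ∈ s, z' ∈ (hrep.snd t).left '' (A z : Set ↥(hrep.pullback t).left) := by
      have := hs (Set.mem_univ z')
      simpa only [Set.mem_iUnion, exists_prop] using this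
    obtain ⟨j, w, hw⟩ := hsW z ⟨a, ha⟩
    refine ⟨⟨⟨z, hzs⟩, j⟩, w, ?_⟩
    rw [Over.comp_left, Over.comp_left, Scheme.Hom.comp_apply, Scheme.Hom.comp_apply, hw]
    rfl
  · obtain ⟨i, l, hl⟩ := hl r.1.1 r.2
    refine ⟨i, l ≫ p' i, ?_⟩
    rw [Category.assoc, ← (sq i).w, ← Category.assoc, hl, Functor.map_comp, Functor.map_comp,
      Category.assoc, Category.assoc, Category.assoc, Category.assoc, sqZ.w]

end Groth.Agent.Helper2.AlgSpBasic
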