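import Mathlib
import Groth.Agent.Lib.Helper2.AlgSp.UnivClosedQC
import Groth.Agent.Lib.Helper2.AlgSt.PFacts4
import Groth.Agent.Lib.Helper2.AlgSt.RepDiagApps2
namespace Groth.Agent.Helper2.AlgSpBasic
open CategoryTheory CategoryTheory.Limits AlgebraicGeometry Opposite AlgSp Topology
open Groth.Agent.Helper2.AlgStLib
universe u
variable {S : Scheme.{u}}

/-- The target of a surjection in a triangle with universally closed composite is universally
closed over the base. -/
theorem isUnivClosedMor_of_surjective_triangle {X Y B : Sp S} (f : X ⟶ Y) (q : Y ⟶ B)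
    (hp : IsUnivClosedMor (f ≫ q)) (hf : IsSurjectiveMor f) : IsUnivClosedMor q := by
  intro Z Z' hZ g fst snd sq
  have sqW := IsPullback.of_hasPullback f fst
  have hsurj : IsSurjectiveMor (pullback.snd f fst) :=
    isSurjectiveMor_of_isPullback f fst _ _ sqW hf
  have sqP : IsPullback (pullback.fst f fst) (pullback.snd f fst ≫ snd) (f ≫ q) g :=
    sqW.paste_vert sq
  have hcl : IsClosedMap (Points.map (pullback.snd f fst ≫ snd)) := hp hZ g _ _ sqP
  intro C hC
  have hpre : IsClosed (Points.map (pullback.snd f fst) ⁻¹' C) :=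
    hC.preimage (Points.continuous_map _)
  have := hcl _ hpre
  have himg : Points.map (pullback.snd f fst ≫ snd) ''
      (Points.map (pullback.snd f fst) ⁻¹' C) = Points.map snd '' C := by
    ext z
    constructor
    · rintro ⟨w, hw, rfl⟩
      exact ⟨Points.map (pullback.snd f fst) w, hw, (Points.map_comp _ _ _).symm⟩
    · rintro ⟨c, hc, rfl⟩
      obtain ⟨w, rfl⟩ := hsurj c
      exact ⟨w, hc, Points.map_comp _ _ _⟩
  rwa [himg] at this

theorem isSurjectiveMor_comp {X Y Z : Sp S} (f : X ⟶ Y) (g : Y ⟶ Z) (hf : IsSurjectiveMor f)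
    (hg : IsSurjectiveMor g) : IsSurjectiveMor (f ≫ g) := by
  intro z
  obtain ⟨y, rfl⟩ := hg z
  obtain ⟨x, rfl⟩ := hf y
  exact ⟨x, Points.map_comp _ _ _⟩

section
variable {X Y B : Sp S} (f : X ⟶ Y) (p : X ⟶ B) (q : Y ⟶ B) (comm : f ≫ q = p)

/-- `f × f : X ×_B X ⟶ Y ×_B Y`, first factor. -/
noncomputable def prodMap₁ : pullback p p ⟶ pullback q p :=
  pullback.map p p q p f (𝟙 X) (𝟙 B) (by rw [Category.comp_id, comm]) (by rw [Category.comp_id, Category.id_comp])

noncomputable def prodMap₂ : pullback q p ⟶ pullback q q :=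
  pullback.map q p q q (𝟙 Y) f (𝟙 B) (by rw [Category.comp_id, Category.id_comp]) (by rw [Category.comp_id, comm])

theorem isPullback_prodMap₁ :
    IsPullback (prodMap₁ f p q comm) (pullback.fst p p) (pullback.fst q p) f := by
  have right : IsPullback (pullback.snd q p) (pullback.fst q p) p q :=
    (IsPullback.of_hasPullback q p).flip
  have big : IsPullback (prodMap₁ f p q comm ≫ pullback.snd q p) (pullback.fst p p) p (f ≫ q) := by
    have h1 : prodMap₁ f p q comm ≫ pullback.snd q p = pullback.snd p p := by
      unfold prodMap₁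
      rw [pullback.lift_snd, Category.comp_id]
    rw [h1, comm]
    exact (IsPullback.of_hasPullback p p).flip
  refine IsPullback.of_right big ?_ right
  unfold prodMap₁
  rw [pullback.lift_fst]

theorem isPullback_prodMap₂ :
    IsPullback (prodMap₂ f p q comm) (pullback.snd q p) (pullback.snd q q) f := by
  have right : IsPullback (pullback.fst q q) (pullback.snd q q) q q :=
    IsPullback.of_hasPullback q q
  have big : IsPullback (prodMap₂ f p q comm ≫ pullback.fst q q) (pullback.snd q p) q (f ≫ q) := by
    have h1 : prodMap₂ f p q comm ≫ pullback.fst q q = pullback.fst q p := by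
      unfold prodMap₂
      rw [pullback.lift_fst, Category.comp_id]
    rw [h1, comm]
    exact IsPullback.of_hasPullback q p
  refine IsPullback.of_right big ?_ right
  unfold prodMap₂
  rw [pullback.lift_snd]

theorem diagonal_prodMap :
    pullback.diagonal p ≫ prodMap₁ f p q comm ≫ prodMap₂ f p q comm = f ≫ pullback.diagonal q := by
  apply pullback.hom_ext
  · unfold prodMap₁ prodMap₂
    simp only [Category.assoc, pullback.lift_fst, pullback.diagonal_fst, Category.comp_id,
      pullback.diagonal_fst_assoc, pullback.lift_fst_assoc, Category.id_comp]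
  · unfold prodMap₁ prodMap₂
    simp only [Category.assoc, pullback.lift_snd, pullback.diagonal_snd, Category.comp_id,
      pullback.diagonal_snd_assoc, pullback.lift_snd_assoc, Category.id_comp]

end

/-- Quasi-separatedness and separatedness over a base descend along surjective universally
closed morphisms. -/
theorem separation_of_surjective_univClosed {X Y B : Sp S} (hX : IsAlgSpace X) (hY : IsAlgSpace Y)
    (hB : IsAlgSpace B) (f : X ⟶ Y) (p : X ⟶ B) (q : Y ⟶ B) (comm : f ≫ q = p)
    (hs : IsSurjectiveMor f) (hc : IsUnivClosedMor f) :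
    (IsQuasiSeparatedMor p → IsQuasiSeparatedMor q) ∧ (IsSeparatedMor p → IsSeparatedMor q) := by
  have hXX : IsAlgSpace (pullback p p) :=
    isAlgSpace_of_isPullback hB.diag hX hX p p _ _ (IsPullback.of_hasPullback p p)
  have hYX : IsAlgSpace (pullback q p) :=
    isAlgSpace_of_isPullback hB.diag hY hX q p _ _ (IsPullback.of_hasPullback q p)
  have hYY : IsAlgSpace (pullback q q) :=
    isAlgSpace_of_isPullback hB.diag hY hY q q _ _ (IsPullback.of_hasPullback q q)
  have sq₁ := isPullback_prodMap₁ f p q comm
  have sq₂ := isPullback_prodMap₂ f p q comm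
  have hs₁ : IsSurjectiveMor (prodMap₁ f p q comm) :=
    isSurjectiveMor_of_isPullback f (pullback.fst q p) _ _ sq₁.flip hs
  have hs₂ : IsSurjectiveMor (prodMap₂ f p q comm) :=
    isSurjectiveMor_of_isPullback f (pullback.snd q q) _ _ sq₂.flip hs
  have hc₁ : IsUnivClosedMor (prodMap₁ f p q comm) := univSp_of_isPullback' _ sq₁.flip hc
  have hc₂ : IsUnivClosedMor (prodMap₂ f p q comm) := univSp_of_isPullback' _ sq₂.flip hc
  have hcφ : IsUnivClosedMor (prodMap₁ f p q comm ≫ prodMap₂ f p q comm) :=
    isUnivClosedMor_comp hYX hYY _ _ hc₁ hc₂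
  have hkey := diagonal_prodMap f p q comm
  obtain ⟨hrepq, hlftq, hmonoq, -, -⟩ := repWith_diagonal_properties hY q
  constructor
  · intro hp
    have h1 : IsQuasiCompactMor (pullback.diagonal p) :=
      isQuasiCompactMor_of_repWith hX hXX.diag _ hp
    have h2 : IsQuasiCompactMor (prodMap₁ f p q comm ≫ prodMap₂ f p q comm) :=
      isQuasiCompactMor_of_isUnivClosedMor hXX hYY _ hcφ
    have h3 : IsQuasiCompactMor
        (pullback.diagonal p ≫ prodMap₁ f p q comm ≫ prodMap₂ f p q comm) :=
      isQuasiCompactMor_comp hXX hYY.diag _ _ h1 h2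
    rw [hkey] at h3
    have h4 : IsQuasiCompactMor (pullback.diagonal q) :=
      isQuasiCompactMor_of_surjective_triangle hX hY hYY.diag f _ hs h3
    exact repWith_quasiCompact_of_isQuasiCompactMor _ hrepq h4
  · intro hp
    have h1 : IsUnivClosedMor (pullback.diagonal p) :=
      isUnivClosedMor_of_repWith_isClosedImmersion _ hp
    have h3 : IsUnivClosedMor
        (pullback.diagonal p ≫ prodMap₁ f p q comm ≫ prodMap₂ f p q comm) :=
      isUnivClosedMor_comp hXX hYY _ _ h1 hcφ
    rw [hkey] at h3
    have h4 : IsUnivClosedMor (pullback.diagonal q) :=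
      isUnivClosedMor_of_surjective_triangle f _ h3 hs
    have h5 : RepWith @UniversallyClosed (pullback.diagonal q) :=
      (repWith_universallyClosed_iff _ hrepq).2 h4
    refine ⟨hrepq, fun T W g fst snd sq => ?_⟩
    haveI : LocallyOfFiniteType snd.left := hlftq.property g fst snd sq
    haveI : Mono snd.left := hmonoq.property g fst snd sq
    haveI : UniversallyClosed snd.left := h5.property g fst snd sq
    exact isClosedImmersion_of_mono_of_universallyClosed snd.left

end Groth.Agent.Helper2.AlgSpBasic
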