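import Mathlib
import Groth.Agent.Lib.Helper2.AlgSp.SepDescent
import Groth.Agent.Lib.Helper2.AlgSp.OpenSub
namespace Groth.Agent.Helper2.AlgSpBasic
open CategoryTheory CategoryTheory.Limits AlgebraicGeometry Opposite AlgSp Topology
open Groth.Agent.Helper2.AlgStLib Groth.Agent.Helper2.EtaleLocal
universe u
variable {S : Scheme.{u}}

/-- A pullback of `f` along `g : h_Z ⟶ Y` which is also computed by `h_W`: comparison iso. -/
theorem exists_iso_of_isPullback_yon {X Y P : Sp S} {f : X ⟶ Y} {Z W : Over S}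
    {g : (yon S).obj Z ⟶ Y} {fst : P ⟶ X} {snd : P ⟶ (yon S).obj Z}
    (sq : IsPullback fst snd f g) {i : W ⟶ Z} {fst' : (yon S).obj W ⟶ X}
    (sqW : IsPullback fst' ((yon S).map i) f g) :
    ∃ e : P ≅ (yon S).obj W, e.hom ≫ (yon S).map i = snd ∧ e.hom ≫ fst' = fst :=
  ⟨sq.isoIsPullback _ _ sqW, IsPullback.isoIsPullback_hom_snd _ _ _ _,
    IsPullback.isoIsPullback_hom_fst _ _ _ _⟩

theorem isAffineMor_of_isIntegralMor {X Y : Sp S} {f : X ⟶ Y} (h : IsIntegralMor f) :
    IsAffineMor f := by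
  intro Z hZ g
  obtain ⟨W, i, fst, sq, hW, -⟩ := h hZ g
  exact ⟨W, i, fst, sq, hW⟩

theorem isIntegralMor_of_isFiniteMor {X Y : Sp S} {f : X ⟶ Y} (h : IsFiniteMor f) :
    IsIntegralMor f := by
  intro Z hZ g
  obtain ⟨W, i, fst, sq, hW, hi⟩ := h hZ g
  exact ⟨W, i, fst, sq, hW, inferInstance⟩

theorem isAffineMor_of_isFiniteMor {X Y : Sp S} {f : X ⟶ Y} (h : IsFiniteMor f) :
    IsAffineMor f := isAffineMor_of_isIntegralMor (isIntegralMor_of_isFiniteMor h)

/-- Integral morphisms are universally closed. -/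
theorem isUnivClosedMor_of_isIntegralMor {X Y : Sp S} {f : X ⟶ Y} (h : IsIntegralMor f) :
    IsUnivClosedMor f := by
  refine isUnivClosedMor_of_affine f fun Z hZ g P fst snd sq => ?_
  obtain ⟨W, i, fst', sqW, hW, hi⟩ := h hZ g
  obtain ⟨e, he, -⟩ := exists_iso_of_isPullback_yon sq sqW
  have h1 : IsClosedMor (e.hom ≫ (yon S).map i) :=
    isClosedMor_iso_comp e _ ((isClosedMor_yon_map_iff i).2 i.left.isClosedMap)
  rw [he] at h1
  exact h1

/-- Affine and universally closed morphisms are integral. -/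
theorem isIntegralMor_of_isAffineMor_of_isUnivClosedMor {X Y : Sp S} {f : X ⟶ Y}
    (ha : IsAffineMor f) (hc : IsUnivClosedMor f) : IsIntegralMor f := by
  intro Z hZ g
  obtain ⟨W, i, fst, sq, hW⟩ := ha hZ g
  refine ⟨W, i, fst, sq, hW, ?_⟩
  have h1 : IsUnivClosedMor ((yon S).map i) := univSp_of_isPullback' IsClosedMor sq hc
  have h2 : UniversallyClosed i.left :=
    (repWith_yon_map_iff _ _).1 ((repWith_universallyClosed_iff _ (representable_yon_map i)).2 h1)
  have := hZ
  have := hW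
  exact (IsIntegralHom.iff_universallyClosed_and_isAffineHom).2 ⟨h2, inferInstance⟩


/-- Integral and locally of finite type implies finite. -/
theorem isFiniteMor_of_isIntegralMor_of_locP_lft {X Y : Sp S} (hX : IsAlgSpace X)
    (hY : IsAlgSpace Y) {f : X ⟶ Y} (hi : IsIntegralMor f) (hl : LocP @LocallyOfFiniteType f) :
    IsFiniteMor f := by
  intro Z hZ g
  obtain ⟨W, i, fst, sq, hW, hint⟩ := hi hZ g
  refine ⟨W, i, fst, sq, hW, ?_⟩
  have h1 : LocP @LocallyOfFiniteType ((yon S).map i) :=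
    locP_of_isPullback @LocallyOfFiniteType hX hY (IsAlgSpace.yon_obj Z) (IsAlgSpace.yon_obj W)
      f g fst _ sq hl
  have h2 : LocallyOfFiniteType i.left := locP_yon_map h1
  exact (IsFinite.iff_isIntegralHom_and_locallyOfFiniteType _).2 ⟨hint, h2⟩

/-- A property which is étale local on source and target and Zariski local at the target can be
checked, for a morphism whose affine base changes are schemes, on these base changes. -/
theorem locP_of_forall_affine_yon (P : MorphismProperty Scheme.{u}) [IsEtaleLocalST P]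
    [IsZariskiLocalAtTarget P] {X Y : Sp S} (hX : IsAlgSpace X) (f : X ⟶ Y)
    (h : ∀ (Z : Over S), IsAffine Z.left → ∀ (g : (yon S).obj Z ⟶ Y), RepWith @Etale g →
      ∃ (W : Over S) (i : W ⟶ Z) (fst : (yon S).obj W ⟶ X),
        IsPullback fst ((yon S).map i) f g ∧ P i.left) : LocP P f := by
  intro U V a b k ha hb comm
  rw [IsZariskiLocalAtTarget.iff_of_iSup_eq_top (P := P) _ (iSup_affineOpens_eq_top V.left)]
  intro V₀
  have hV₀ : IsAffine (opensOver (V₀ : V.left.Opens)).left := V₀.2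
  let U₀ : U.left.Opens := k.left ⁻¹ᵁ (V₀ : V.left.Opens)
  let k₀ : opensOver U₀ ⟶ opensOver (V₀ : V.left.Opens) :=
    Over.homMk (k.left ∣_ (V₀ : V.left.Opens)) (by
      show (k.left ∣_ (V₀ : V.left.Opens)) ≫ (V₀ : V.left.Opens).ι ≫ V.hom = U₀.ι ≫ U.hom
      rw [← Category.assoc, morphismRestrict_ι, Category.assoc, Over.w k])
  have hk₀ : k₀ ≫ opensOverι (V₀ : V.left.Opens) = opensOverι U₀ ≫ k := by
    ext1
    exact morphismRestrict_ι _ _
  let a₀ : (yon S).obj (opensOver U₀) ⟶ X := (yon S).map (opensOverι U₀) ≫ a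
  let b₀ : (yon S).obj (opensOver (V₀ : V.left.Opens)) ⟶ Y :=
    (yon S).map (opensOverι (V₀ : V.left.Opens)) ≫ b
  have ha₀ : RepWith @Etale a₀ :=
    repWith_comp @Etale ((repWith_yon_map_iff _ _).2
      (show Etale U₀.ι from inferInstance)) ha
  have hb₀ : RepWith @Etale b₀ :=
    repWith_comp @Etale ((repWith_yon_map_iff _ _).2
      (show Etale (V₀ : V.left.Opens).ι from inferInstance)) hb
  have comm₀ : a₀ ≫ f = (yon S).map k₀ ≫ b₀ := by
    show ((yon S).map (opensOverι U₀) ≫ a) ≫ f =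
      (yon S).map k₀ ≫ (yon S).map (opensOverι (V₀ : V.left.Opens)) ≫ b
    rw [Category.assoc, comm, ← Category.assoc, ← Functor.map_comp, ← hk₀, Functor.map_comp,
      Category.assoc]
  obtain ⟨W, i, fst, sq, hPi⟩ := h _ hV₀ b₀ hb₀
  obtain ⟨l, hl⟩ := (yon S).map_surjective (sq.lift a₀ ((yon S).map k₀) comm₀)
  have hl1 : (yon S).map l ≫ fst = a₀ := by rw [hl, sq.lift_fst]
  have hl2 : l ≫ i = k₀ :=
    (yon S).map_injective (by rw [Functor.map_comp, hl, sq.lift_snd])
  have hfst : RepWith @Etale fst := repWith_of_isPullback @Etale sq.flip hb₀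
  have hle : Etale l.left := etale_of_comp_repWith_etale hX.diag a₀ fst l ha₀ hfst hl1
  have h3 : P (l.left ≫ i.left) :=
    MorphismProperty.comp_mem P _ _ (IsEtaleLocalST.of_etale _ hle) hPi
  rw [← Over.comp_left, hl2] at h3
  exact h3

/-- Finite morphisms are locally of finite type. -/
theorem locP_lft_of_isFiniteMor {X Y : Sp S} (hX : IsAlgSpace X) {f : X ⟶ Y}
    (h : IsFiniteMor f) : LocP @LocallyOfFiniteType f := by
  refine locP_of_forall_affine_yon @LocallyOfFiniteType hX f fun Z hZ g _ => ?_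
  obtain ⟨W, i, fst, sq, hW, hi⟩ := h hZ g
  exact ⟨W, i, fst, sq, inferInstance⟩

/-- Affine morphisms are separated. -/
theorem isSeparatedMor_of_isAffineMor {X Y : Sp S} (hX : IsAlgSpace X) {f : X ⟶ Y}
    (h : IsAffineMor f) : IsSeparatedMor f := by
  refine repWith_diagonal_of_forall_affine @IsClosedImmersion hX.diag f
    fun Z hZ g P fst snd sq => ?_
  obtain ⟨W, i, fst', sqW, hW⟩ := h hZ g
  obtain ⟨e, he, -⟩ := exists_iso_of_isPullback_yon sq sqW
  have := hZ
  have := hW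
  have h1 : RepWith @IsClosedImmersion (pullback.diagonal ((yon S).map i)) :=
    (repWith_diagonal_yon_map_iff _ i).2 (inferInstance : IsClosedImmersion (pullback.diagonal i.left))
  have sq' : IsPullback e.hom snd ((yon S).map i) (𝟙 _) :=
    IsPullback.of_horiz_isIso ⟨by rw [he, Category.comp_id]⟩
  exact repWith_diagonal_of_isPullback @IsClosedImmersion sq' h1

/-- Affine morphisms are quasi-compact. -/
theorem isQuasiCompactMor_of_isAffineMor {X Y : Sp S} (hX : IsAlgSpace X) (hY : IsAlgSpace Y)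
    {f : X ⟶ Y} (h : IsAffineMor f) : IsQuasiCompactMor f := by
  refine isQuasiCompactMor_of_affine hX hY.diag f fun Z hZ g P fst snd sq => ?_
  obtain ⟨W, i, fst', sqW, hW⟩ := h hZ g
  obtain ⟨e, he, -⟩ := exists_iso_of_isPullback_yon sq sqW
  have := hW
  have hP : IsAlgSpace P := isAlgSpace_of_isPullback hY.diag hX (IsAlgSpace.yon_obj Z) f g _ _ sq
  exact isQuasiCompactSp_of_iso (IsAlgSpace.yon_obj W) hP e.symm
    ((isQuasiCompactSp_yon_iff W).2 inferInstance)

/-- Finite morphisms are proper. -/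
theorem isProperMor_of_isFiniteMor {X Y : Sp S} (hX : IsAlgSpace X) (hY : IsAlgSpace Y)
    {f : X ⟶ Y} (h : IsFiniteMor f) : IsProperMor f :=
  ⟨isSeparatedMor_of_isAffineMor hX (isAffineMor_of_isFiniteMor h),
    ⟨locP_lft_of_isFiniteMor hX h, isQuasiCompactMor_of_isAffineMor hX hY (isAffineMor_of_isFiniteMor h)⟩,
    isUnivClosedMor_of_isIntegralMor (isIntegralMor_of_isFiniteMor h)⟩

/-- Affine and proper morphisms are finite. -/
theorem isFiniteMor_of_isAffineMor_of_isProperMor {X Y : Sp S} (hX : IsAlgSpace X)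
    (hY : IsAlgSpace Y) {f : X ⟶ Y} (ha : IsAffineMor f) (hp : IsProperMor f) : IsFiniteMor f :=
  isFiniteMor_of_isIntegralMor_of_locP_lft hX hY
    (isIntegralMor_of_isAffineMor_of_isUnivClosedMor ha hp.2.2) hp.2.1.1


/-! ### Morphisms whose affine base changes are affine schemes with a property `Q` -/

/-- `f` is affine and its affine base changes have `Q`. -/
def IsAffQMor (Q : MorphismProperty Scheme.{u}) : MorphismProperty (Sp S) := fun F G f =>
  ∀ ⦃Z : Over S⦄, IsAffine Z.left → ∀ (g : (yon S).obj Z ⟶ G),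
    ∃ (W : Over S) (i : W ⟶ Z) (fst : (yon S).obj W ⟶ F),
      IsPullback fst ((yon S).map i) f g ∧ IsAffine W.left ∧ Q i.left

theorem isIntegralMor_iff_isAffQMor {X Y : Sp S} (f : X ⟶ Y) :
    IsIntegralMor f ↔ IsAffQMor @IsIntegralHom f := Iff.rfl

theorem isFiniteMor_iff_isAffQMor {X Y : Sp S} (f : X ⟶ Y) :
    IsFiniteMor f ↔ IsAffQMor @IsFinite f := Iff.rfl

theorem isAffineMor_iff_isAffQMor {X Y : Sp S} (f : X ⟶ Y) :
    IsAffineMor f ↔ IsAffQMor (⊤ : MorphismProperty Scheme.{u}) f := by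
  constructor
  · intro h Z hZ g
    obtain ⟨W, i, fst, sq, hW⟩ := h hZ g
    exact ⟨W, i, fst, sq, hW, trivial⟩
  · intro h Z hZ g
    obtain ⟨W, i, fst, sq, hW, -⟩ := h hZ g
    exact ⟨W, i, fst, sq, hW⟩

/-- Stability under arbitrary base change. -/
theorem isAffQMor_of_isPullback (Q : MorphismProperty Scheme.{u}) {X Y X' Y' : Sp S} {f : X ⟶ Y}
    {g : Y' ⟶ Y} {fst : X' ⟶ X} {f' : X' ⟶ Y'} (sq : IsPullback fst f' f g)
    (hf : IsAffQMor Q f) : IsAffQMor Q f' := by
  intro Z hZ t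
  obtain ⟨W, i, fstW, sqW, hW, hQ⟩ := hf hZ (t ≫ g)
  refine ⟨W, i, sq.lift fstW ((yon S).map i ≫ t) (by rw [sqW.w, Category.assoc]), ?_, hW, hQ⟩
  refine IsPullback.of_right ?_ (sq.lift_snd _ _ _) sq
  rw [sq.lift_fst]
  exact sqW

/-- Stability under composition. -/
theorem isAffQMor_comp (Q : MorphismProperty Scheme.{u}) [Q.IsStableUnderComposition]
    {X Y Z : Sp S} {f : X ⟶ Y} {g : Y ⟶ Z} (hf : IsAffQMor Q f) (hg : IsAffQMor Q g) :
    IsAffQMor Q (f ≫ g) := by
  intro T hT t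
  obtain ⟨W₁, i₁, fst₁, sq₁, hW₁, hQ₁⟩ := hg hT t
  obtain ⟨W₂, i₂, fst₂, sq₂, hW₂, hQ₂⟩ := hf hW₁ fst₁
  refine ⟨W₂, i₂ ≫ i₁, fst₂, ?_, hW₂, ?_⟩
  · rw [Functor.map_comp]
    exact sq₂.paste_vert sq₁
  · rw [Over.comp_left]
    exact Q.comp_mem _ _ hQ₂ hQ₁

/-- Representable closed immersions are affine with any property containing closed immersions. -/
theorem isAffQMor_of_repWith_isClosedImmersion (Q : MorphismProperty Scheme.{u})
    (hQ : ∀ {A B : Scheme.{u}} (j : A ⟶ B), IsClosedImmersion j → Q j)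
    {X Y : Sp S} {f : X ⟶ Y} (hf : RepWith @IsClosedImmersion f) : IsAffQMor Q f := by
  intro Z hZ t
  have hrep := hf.rep
  have hci : IsClosedImmersion (hrep.snd t).left :=
    hf.property t (hrep.fst t) (hrep.snd t) (hrep.isPullback t)
  have := hZ
  refine ⟨hrep.pullback t, hrep.snd t, hrep.fst t, hrep.isPullback t, ?_, hQ _ hci⟩
  exact isAffine_of_isAffineHom (hrep.snd t).left

/-- Cancellation: if `g` is separated and `f ≫ g` is affine with `Q`, so is `f`. -/
theorem isAffQMor_of_comp_of_isSeparatedMor (Q : MorphismProperty Scheme.{u})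
    [Q.IsStableUnderComposition]
    (hQ : ∀ {A B : Scheme.{u}} (j : A ⟶ B), IsClosedImmersion j → Q j)
    {X Y Z : Sp S} (f : X ⟶ Y) (g : Y ⟶ Z) (hg : IsSeparatedMor g)
    (hfg : IsAffQMor Q (f ≫ g)) : IsAffQMor Q f := by
  have sq := IsPullback.of_hasPullback (f ≫ g) g
  have h1 : IsAffQMor Q (pullback.snd (f ≫ g) g) := isAffQMor_of_isPullback Q sq hfg
  have sqΓ := pullback_lift_diagonal_isPullback f g
  have h2 : RepWith @IsClosedImmersion
      (pullback.lift (𝟙 X) f (by simp) : X ⟶ pullback (f ≫ g) g) :=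
    repWith_of_isPullback @IsClosedImmersion sqΓ hg
  have h3 := isAffQMor_comp Q (isAffQMor_of_repWith_isClosedImmersion Q hQ h2) h1
  rwa [pullback.lift_snd] at h3

end Groth.Agent.Helper2.AlgSpBasic
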