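import Mathlib
import Groth.Agent.Lib.Helper2.AlgSp.AffDescSp
import Groth.Agent.Lib.Helper2.AlgSp.Points
import Groth.Agent.Lib.Helper2.AlgSp.FiniteMor

/-!
# Applications of affine descent to morphisms of algebraic spaces
-/

namespace Groth.Agent.Helper2.AlgSpBasic
open CategoryTheory CategoryTheory.Limits AlgebraicGeometry Opposite AlgSp
universe u
variable {S : Scheme.{u}}

/-- An étale surjection onto a quasi-compact scheme can be refined by an affine scheme. -/
theorem exists_affine_etale_refinement {W₀ Z : Over S} [CompactSpace ↥Z.left] (a : W₀ ⟶ Z)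
    (hae : Etale a.left) (has : Surjective a.left) :
    ∃ (T' : Over S) (d : T' ⟶ W₀), IsAffine T'.left ∧ Etale (d ≫ a).left ∧
      Surjective (d ≫ a).left := by
  classical
  let 𝒰 := W₀.left.affineCover
  let O : 𝒰.I₀ → Set ↥Z.left := fun i => a.left '' Set.range (𝒰.f i).base
  have hO : ∀ i, IsOpen (O i) := fun i =>
    a.left.isOpenMap _ (𝒰.f i).isOpenEmbedding.isOpen_range
  have hcov : (Set.univ : Set ↥Z.left) ⊆ ⋃ i, O i := by
    intro z _
    obtain ⟨w, rfl⟩ := has.surj z
    obtain ⟨i, y, hy⟩ := 𝒰.exists_eq w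
    exact Set.mem_iUnion.mpr ⟨i, w, ⟨y, hy⟩, rfl⟩
  obtain ⟨t, ht⟩ := isCompact_univ.elim_finite_subcover O hO hcov
  let g : ↥t → Scheme.{u} := fun i => 𝒰.X i.1
  have hg : ∀ i, IsAffine (g i) := fun i => inferInstance
  let h : ∀ i : ↥t, g i ⟶ W₀.left := fun i => 𝒰.f i.1
  have hh : ∀ i, Etale (h i) := fun i => inferInstance
  let j : (∐ g) ⟶ W₀.left := Sigma.desc h
  have hj : Etale j := etale_sigma_desc g h
  let T' : Over S := Over.mk (j ≫ W₀.hom)
  let d : T' ⟶ W₀ := Over.homMk j rfl
  refine ⟨T', d, (inferInstance : IsAffine (∐ g)), ?_, ?_⟩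
  · show Etale (j ≫ a.left)
    infer_instance
  · refine ⟨fun z => ?_⟩
    have hz := ht (Set.mem_univ z)
    simp only [Set.mem_iUnion] at hz
    obtain ⟨i, hi, w, ⟨y, rfl⟩, rfl⟩ := hz
    refine ⟨Sigma.ι g ⟨i, hi⟩ y, ?_⟩
    show (j ≫ a.left) (Sigma.ι g ⟨i, hi⟩ y) = _
    rw [Scheme.Hom.comp_apply]
    congr 1
    show (Sigma.ι g ⟨i, hi⟩ ≫ Limits.Sigma.desc h) y = _
    rw [Sigma.ι_desc]

/-- Affineness of a morphism descends along a surjective étale base change from a scheme. -/
theorem isAffineMor_of_etale_cover {X Y : Sp S} (f : X ⟶ Y) (V : Over S)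
    (p : (yon S).obj V ⟶ Y) (hp : RepWith @Etale p) (hps : RepWith @Surjective p)
    {P : Sp S} (fst : P ⟶ X) (snd : P ⟶ (yon S).obj V) (sq : IsPullback fst snd f p)
    (h : IsAffineMor snd) : IsAffineMor f := by
  intro Z hZ g
  haveI := hZ
  have hrep := hp.rep
  obtain ⟨b, hb⟩ := (yon S).map_surjective (hrep.fst g)
  let a : hrep.pullback g ⟶ Z := hrep.snd g
  have sqW : IsPullback ((yon S).map b) ((yon S).map a) p g := by
    rw [hb]; exact hrep.isPullback g
  have hae : Etale a.left := hp.property g _ _ (hrep.isPullback g)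
  have has : Surjective a.left := hps.property g _ _ (hrep.isPullback g)
  obtain ⟨T', d, hT', hce, hcs⟩ := exists_affine_etale_refinement a hae has
  haveI := hT'
  let c : T' ⟶ Z := d ≫ a
  obtain ⟨W, i', fst', sqV, hW⟩ := h hT' ((yon S).map (d ≫ b))
  haveI := hW
  have hcomm : (yon S).map (d ≫ b) ≫ p = (yon S).map c ≫ g := by
    show (yon S).map (d ≫ b) ≫ p = (yon S).map (d ≫ a) ≫ g
    rw [Functor.map_comp, Functor.map_comp, Category.assoc, Category.assoc, sqW.w]
  have hbig : IsPullback (fst' ≫ fst) ((yon S).map i') f ((yon S).map c ≫ g) := by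
    rw [← hcomm]
    exact sqV.paste_horiz sq
  let gF : pullback f g ⟶ (yon S).obj Z := pullback.snd f g
  have hw : (fst' ≫ fst) ≫ f = ((yon S).map i' ≫ (yon S).map c) ≫ g := by
    rw [Category.assoc]; exact hbig.w
  let fstV : (yon S).obj W ⟶ pullback f g := pullback.lift (fst' ≫ fst) ((yon S).map i' ≫ (yon S).map c) hw
  have hfstV1 : fstV ≫ pullback.fst f g = fst' ≫ fst := pullback.lift_fst _ _ _
  have hfstV2 : fstV ≫ gF = (yon S).map i' ≫ (yon S).map c := pullback.lift_snd _ _ _
  have sqL : IsPullback fstV ((yon S).map i') gF ((yon S).map c) := by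
    refine IsPullback.of_right ?_ hfstV2 (IsPullback.of_hasPullback f g)
    rw [hfstV1]
    exact hbig
  have hcf : Flat c.left := by haveI := hce; infer_instance
  have hcl : LocallyOfFinitePresentation c.left := by haveI := hce; infer_instance
  obtain ⟨U, k, q, e, hUa, heiso, heg, -, -⟩ :=
    exists_affine_rep_of_fppf_cover c hcf hcs hcl gF fstV i' sqL
  haveI := heiso
  refine ⟨U, k, e ≫ pullback.fst f g, ?_, hUa⟩
  refine (IsPullback.of_hasPullback f g).of_iso (asIso e).symm (Iso.refl _) (Iso.refl _)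
    (Iso.refl _) ?_ ?_ ?_ ?_
  · simp
  · show pullback.snd f g ≫ 𝟙 _ = inv e ≫ (yon S).map k
    rw [Category.comp_id, ← heg, IsIso.inv_hom_id_assoc]
  · simp
  · simp

/-- Affine morphisms with a property `Q` of the affine base changes that descends along fpqc
covers: descent along a surjective étale base change from a scheme. -/
theorem isAffQMor_of_etale_cover (Q : MorphismProperty Scheme.{u})
    [Q.DescendsAlong (@Surjective ⊓ @Flat ⊓ @QuasiCompact : MorphismProperty Scheme.{u})]
    {X Y : Sp S} (f : X ⟶ Y) (V : Over S)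
    (p : (yon S).obj V ⟶ Y) (hp : RepWith @Etale p) (hps : RepWith @Surjective p)
    {P : Sp S} (fst : P ⟶ X) (snd : P ⟶ (yon S).obj V) (sq : IsPullback fst snd f p)
    (h : IsAffQMor Q snd) : IsAffQMor Q f := by
  intro Z hZ g
  haveI := hZ
  have hrep := hp.rep
  obtain ⟨b, hb⟩ := (yon S).map_surjective (hrep.fst g)
  let a : hrep.pullback g ⟶ Z := hrep.snd g
  have sqW : IsPullback ((yon S).map b) ((yon S).map a) p g := by
    rw [hb]; exact hrep.isPullback g
  have hae : Etale a.left := hp.property g _ _ (hrep.isPullback g)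
  have has : Surjective a.left := hps.property g _ _ (hrep.isPullback g)
  obtain ⟨T', d, hT', hce, hcs⟩ := exists_affine_etale_refinement a hae has
  haveI := hT'
  let c : T' ⟶ Z := d ≫ a
  obtain ⟨W, i', fst', sqV, hW, hQ⟩ := h hT' ((yon S).map (d ≫ b))
  haveI := hW
  have hcomm : (yon S).map (d ≫ b) ≫ p = (yon S).map c ≫ g := by
    show (yon S).map (d ≫ b) ≫ p = (yon S).map (d ≫ a) ≫ g
    rw [Functor.map_comp, Functor.map_comp, Category.assoc, Category.assoc, sqW.w]
  have hbig : IsPullback (fst' ≫ fst) ((yon S).map i') f ((yon S).map c ≫ g) := by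
    rw [← hcomm]
    exact sqV.paste_horiz sq
  let gF : pullback f g ⟶ (yon S).obj Z := pullback.snd f g
  have hw : (fst' ≫ fst) ≫ f = ((yon S).map i' ≫ (yon S).map c) ≫ g := by
    rw [Category.assoc]; exact hbig.w
  let fstV : (yon S).obj W ⟶ pullback f g :=
    pullback.lift (fst' ≫ fst) ((yon S).map i' ≫ (yon S).map c) hw
  have hfstV1 : fstV ≫ pullback.fst f g = fst' ≫ fst := pullback.lift_fst _ _ _
  have hfstV2 : fstV ≫ gF = (yon S).map i' ≫ (yon S).map c := pullback.lift_snd _ _ _
  have sqL : IsPullback fstV ((yon S).map i') gF ((yon S).map c) := by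
    refine IsPullback.of_right ?_ hfstV2 (IsPullback.of_hasPullback f g)
    rw [hfstV1]
    exact hbig
  have hcf : Flat c.left := by haveI := hce; infer_instance
  have hcl : LocallyOfFinitePresentation c.left := by haveI := hce; infer_instance
  obtain ⟨U, k, q, e, hUa, heiso, heg, -, sqU⟩ :=
    exists_affine_rep_of_fppf_cover c hcf hcs hcl gF fstV i' sqL
  haveI := heiso
  have sqUl : IsPullback i'.left q.left c.left k.left := sqU.map (Over.forget S)
  have hcqc : QuasiCompact c.left := inferInstance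
  have hQk : Q k.left :=
    MorphismProperty.of_isPullback_of_descendsAlong (P := Q)
      (Q := @Surjective ⊓ @Flat ⊓ @QuasiCompact) sqUl ⟨⟨hcs, hcf⟩, hcqc⟩ hQ
  refine ⟨U, k, e ≫ pullback.fst f g, ?_, hUa, hQk⟩
  refine (IsPullback.of_hasPullback f g).of_iso (asIso e).symm (Iso.refl _) (Iso.refl _)
    (Iso.refl _) ?_ ?_ ?_ ?_
  · simp
  · show pullback.snd f g ≫ 𝟙 _ = inv e ≫ (yon S).map k
    rw [Category.comp_id, ← heg, IsIso.inv_hom_id_assoc]
  · simp
  · simp

end Groth.Agent.Helper2.AlgSpBasic
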