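import Mathlib
import Groth.Prelude.Def_AlgSp4
import Groth.Agent.Lib.Helper2.AlgSp.Basic
import Groth.Agent.Lib.Helper2.AlgSp.Mor2
import Groth.Agent.Lib.Helper2.AlgSp.FormalLift

/-!
# Zariski gluing of representability (helper2)

If the base change of `f : F ⟶ G` along `h_U ⟶ h_T ⟶ G` is representable for every member `U` of a
locally directed open cover of `T`, then the base change along `h_T ⟶ G` is representable.
-/

set_option autoImplicit false
open CategoryTheory CategoryTheory.Limits AlgebraicGeometry Opposite AlgSp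
open Groth.Agent.Helper2.AlgSpBasic Groth.Agent.Helper2.AlgSpFormal

namespace Groth.Agent.Helper2.ZarGlue
universe u
variable {S : Scheme.{u}}

/-- A commutative square of sheaves is a pullback square as soon as it has the universal property
with respect to representable sheaves. -/
theorem isPullback_of_yon {P X Y Z : Sp S} {fst : P ⟶ X} {snd : P ⟶ Y} {f : X ⟶ Z} {g : Y ⟶ Z}
    (w : fst ≫ f = snd ≫ g)
    (hex : ∀ (Q : Over S) (α : (yon S).obj Q ⟶ X) (β : (yon S).obj Q ⟶ Y), α ≫ f = β ≫ g →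
      ∃ l : (yon S).obj Q ⟶ P, l ≫ fst = α ∧ l ≫ snd = β)
    (huniq : ∀ (Q : Over S) (l l' : (yon S).obj Q ⟶ P), l ≫ fst = l' ≫ fst →
      l ≫ snd = l' ≫ snd → l = l') :
    IsPullback fst snd f g := by
  let c : P ⟶ pullback f g := pullback.lift fst snd w
  have hc1 : c ≫ pullback.fst f g = fst := pullback.lift_fst _ _ _
  have hc2 : c ≫ pullback.snd f g = snd := pullback.lift_snd _ _ _
  haveI : Mono c := by
    refine ⟨fun {A} a b hab => ?_⟩
    apply hom_ext_yon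
    intro Q s
    apply huniq
    · rw [Category.assoc, Category.assoc, ← hc1, ← Category.assoc a, ← Category.assoc b, hab]
    · rw [Category.assoc, Category.assoc, ← hc2, ← Category.assoc a, ← Category.assoc b, hab]
  haveI : Sheaf.IsLocallySurjective c := by
    constructor
    intro Q y
    let m : (yon S).obj Q ⟶ pullback f g := (J S).uliftYonedaEquiv.symm y
    obtain ⟨l, hl1, hl2⟩ := hex Q (m ≫ pullback.fst f g) (m ≫ pullback.snd f g) (by
      rw [Category.assoc, Category.assoc, pullback.condition])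
    have hlm : l ≫ c = m := by
      apply pullback.hom_ext
      · rw [Category.assoc, hc1, hl1]
      · rw [Category.assoc, hc2, hl2]
    have : Presheaf.imageSieve c.hom y = ⊤ := by
      rw [← Sieve.id_mem_iff_eq_top]
      refine ⟨(J S).uliftYonedaEquiv l, ?_⟩
      have h2 := congrArg (J S).uliftYonedaEquiv hlm
      rw [GrothendieckTopology.uliftYonedaEquiv_comp] at h2
      rw [h2]
      simp [m]
    rw [this]
    exact (J S).top_mem _
  haveI : Epi c := inferInstance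
  haveI : IsIso c := isIso_of_mono_of_epi c
  exact IsPullback.of_iso_pullback ⟨w⟩ (asIso c) hc1 hc2


section Glue

variable {F G : Sp S} (f : F ⟶ G) {T : Over S} (g : (yon S).obj T ⟶ G)
  (𝒰 : Scheme.OpenCover.{u} T.left) [Category.{u} 𝒰.I₀] [𝒰.LocallyDirected]

/-- The member `U i` of the cover, as a scheme over `S`. -/
abbrev TU (i : 𝒰.I₀) : Over S := Over.mk (𝒰.f i ≫ T.hom)

/-- The inclusion of `U i` into `T`, over `S`. -/
abbrev jU (i : 𝒰.I₀) : TU 𝒰 i ⟶ T := Over.homMk (𝒰.f i) rfl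

/-- The transition maps of the cover, over `S`. -/
abbrev jUV {i j : 𝒰.I₀} (h : i ⟶ j) : TU 𝒰 i ⟶ TU 𝒰 j :=
  Over.homMk (𝒰.trans h) (by
    show 𝒰.trans h ≫ 𝒰.f j ≫ T.hom = 𝒰.f i ≫ T.hom
    rw [← Category.assoc, 𝒰.trans_map])

theorem jUV_jU {i j : 𝒰.I₀} (h : i ⟶ j) : jUV 𝒰 h ≫ jU 𝒰 j = jU 𝒰 i :=
  Over.OverMorphism.ext (𝒰.trans_map h)

/-- The piece of `Q` over the member `U i` of the cover. -/
noncomputable def Qi {Q : Over S} (t : Q ⟶ T) (i : 𝒰.I₀) : Over S :=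
  Over.mk (pullback.fst t.left (𝒰.f i) ≫ Q.hom)

/-- The inclusion of the piece. -/
noncomputable def eQ {Q : Over S} (t : Q ⟶ T) (i : 𝒰.I₀) : Qi 𝒰 t i ⟶ Q :=
  Over.homMk (pullback.fst t.left (𝒰.f i)) rfl

/-- The projection of the piece to `U i`. -/
noncomputable def vQ {Q : Over S} (t : Q ⟶ T) (i : 𝒰.I₀) : Qi 𝒰 t i ⟶ TU 𝒰 i :=
  Over.homMk (pullback.snd t.left (𝒰.f i)) (by
    show pullback.snd t.left (𝒰.f i) ≫ 𝒰.f i ≫ T.hom = pullback.fst t.left (𝒰.f i) ≫ Q.hom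
    rw [← pullback.condition_assoc, Over.w t])

theorem eQ_t {Q : Over S} (t : Q ⟶ T) (i : 𝒰.I₀) : eQ 𝒰 t i ≫ t = vQ 𝒰 t i ≫ jU 𝒰 i :=
  Over.OverMorphism.ext pullback.condition

theorem eQ_fppf {Q : Over S} (t : Q ⟶ T) (i : 𝒰.I₀) :
    (@Flat ⊓ @LocallyOfFinitePresentation : MorphismProperty Scheme.{u}) (eQ 𝒰 t i).left :=
  ⟨inferInstanceAs (Flat (pullback.fst t.left (𝒰.f i))),
    inferInstanceAs (LocallyOfFinitePresentation (pullback.fst t.left (𝒰.f i)))⟩

theorem eQ_covers {Q : Over S} (t : Q ⟶ T) (x : Q.left) :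
    ∃ i, x ∈ Set.range (eQ 𝒰 t i).left := by
  obtain ⟨i, y, hy⟩ := 𝒰.exists_eq (t.left x)
  refine ⟨i, ?_⟩
  show x ∈ Set.range (pullback.fst t.left (𝒰.f i))
  rw [Scheme.Pullback.range_fst]
  exact ⟨y, hy⟩

/-- Local representability data over a locally directed open cover of `T`. -/
structure Datum where
  W : 𝒰.I₀ → Over S
  p : ∀ i, W i ⟶ TU 𝒰 i
  fst : ∀ i, (yon S).obj (W i) ⟶ F
  sq : ∀ i, IsPullback (fst i) ((yon S).map (p i)) f ((yon S).map (jU 𝒰 i) ≫ g)

variable {f g 𝒰} (D : Datum f g 𝒰)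

namespace Datum

theorem hom_ext_W {Q : Over S} {j : 𝒰.I₀} (a b : Q ⟶ D.W j)
    (h1 : (yon S).map a ≫ D.fst j = (yon S).map b ≫ D.fst j) (h2 : a ≫ D.p j = b ≫ D.p j) :
    a = b := by
  apply (yon S).map_injective
  apply (D.sq j).hom_ext h1
  rw [← Functor.map_comp, ← Functor.map_comp, h2]

theorem exists_lift_W {Q : Over S} (j : 𝒰.I₀) (α : (yon S).obj Q ⟶ F) (β : Q ⟶ TU 𝒰 j)
    (h : α ≫ f = (yon S).map (β ≫ jU 𝒰 j) ≫ g) :
    ∃ m : Q ⟶ D.W j, (yon S).map m ≫ D.fst j = α ∧ m ≫ D.p j = β := by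
  have h' : α ≫ f = (yon S).map β ≫ (yon S).map (jU 𝒰 j) ≫ g := by
    rw [h, Functor.map_comp, Category.assoc]
  obtain ⟨m, hm⟩ := (yon S).map_surjective ((D.sq j).lift α ((yon S).map β) h')
  refine ⟨m, by rw [hm, (D.sq j).lift_fst], ?_⟩
  apply (yon S).map_injective
  rw [Functor.map_comp, hm, (D.sq j).lift_snd]

theorem exists_trans {i j : 𝒰.I₀} (h : i ⟶ j) :
    ∃ ρ : D.W i ⟶ D.W j, (yon S).map ρ ≫ D.fst j = D.fst i ∧ ρ ≫ D.p j = D.p i ≫ jUV 𝒰 h := by
  apply D.exists_lift_W j (D.fst i) (D.p i ≫ jUV 𝒰 h)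
  rw [Category.assoc, jUV_jU, (D.sq i).w, Functor.map_comp, Category.assoc]

/-- The transition maps between the local representing objects. -/
noncomputable def ρ {i j : 𝒰.I₀} (h : i ⟶ j) : D.W i ⟶ D.W j := (D.exists_trans h).choose

theorem ρ_fst {i j : 𝒰.I₀} (h : i ⟶ j) : (yon S).map (D.ρ h) ≫ D.fst j = D.fst i :=
  (D.exists_trans h).choose_spec.1

theorem ρ_p {i j : 𝒰.I₀} (h : i ⟶ j) : D.ρ h ≫ D.p j = D.p i ≫ jUV 𝒰 h :=
  (D.exists_trans h).choose_spec.2

theorem ρ_id (i : 𝒰.I₀) : D.ρ (𝟙 i) = 𝟙 _ := by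
  apply D.hom_ext_W
  · rw [ρ_fst, CategoryTheory.Functor.map_id, Category.id_comp]
  · rw [ρ_p, Category.id_comp]
    have : jUV 𝒰 (𝟙 i) = 𝟙 _ := Over.OverMorphism.ext (𝒰.trans_id i)
    rw [this, Category.comp_id]

theorem ρ_comp {i j k : 𝒰.I₀} (h : i ⟶ j) (h' : j ⟶ k) : D.ρ (h ≫ h') = D.ρ h ≫ D.ρ h' := by
  apply D.hom_ext_W
  · rw [ρ_fst, Functor.map_comp, Category.assoc, ρ_fst, ρ_fst]
  · rw [ρ_p, Category.assoc, ρ_p, ← Category.assoc, ρ_p, Category.assoc]
    have : jUV 𝒰 (h ≫ h') = jUV 𝒰 h ≫ jUV 𝒰 h' := Over.OverMorphism.ext (𝒰.trans_comp h h')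
    rw [this]

theorem isPullback_ρ {i j : 𝒰.I₀} (h : i ⟶ j) :
    IsPullback (D.ρ h) (D.p i) (D.p j) (jUV 𝒰 h) := by
  have hbig : IsPullback ((yon S).map (D.ρ h) ≫ D.fst j) ((yon S).map (D.p i)) f
      ((yon S).map (jUV 𝒰 h) ≫ (yon S).map (jU 𝒰 j) ≫ g) := by
    rw [ρ_fst, ← Category.assoc, ← Functor.map_comp, jUV_jU]
    exact D.sq i
  have hleft : IsPullback ((yon S).map (D.ρ h)) ((yon S).map (D.p i)) ((yon S).map (D.p j))
      ((yon S).map (jUV 𝒰 h)) :=
    IsPullback.of_right hbig (by rw [← Functor.map_comp, ← Functor.map_comp, ρ_p]) (D.sq j)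
  exact IsPullback.of_map (yon S) (D.ρ_p h) hleft

/-- The diagram of local representing objects. -/
@[simps]
noncomputable def functor : 𝒰.I₀ ⥤ Scheme.{u} where
  obj i := (D.W i).left
  map h := (D.ρ h).left
  map_id i := by rw [ρ_id]; rfl
  map_comp h h' := by rw [ρ_comp]; rfl

/-- The projections to the members of the cover. -/
@[simps]
noncomputable def natTrans : D.functor ⟶ 𝒰.functorOfLocallyDirected where
  app i := (D.p i).left
  naturality i j h := congrArg (fun m => m.left) (D.ρ_p h)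

/-- The relative gluing datum. -/
@[simps]
noncomputable def rgd : 𝒰.RelativeGluingData where
  functor := D.functor
  natTrans := D.natTrans
  equifibered i j h := (D.isPullback_ρ h).map (Over.forget S)

variable [Quiver.IsThin 𝒰.I₀]

/-- The glued scheme, over `S`. -/
noncomputable def WO : Over S := Over.mk (D.rgd.toBase ≫ T.hom)

/-- The projection of the glued scheme to `T`. -/
noncomputable def pW : D.WO ⟶ T := Over.homMk D.rgd.toBase rfl

/-- The inclusions of the local pieces in the glued scheme. -/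
noncomputable def κ (i : 𝒰.I₀) : D.W i ⟶ D.WO :=
  Over.homMk (colimit.ι D.rgd.functor i) (by
    show colimit.ι D.rgd.functor i ≫ D.rgd.toBase ≫ T.hom = (D.W i).hom
    rw [Scheme.Cover.RelativeGluingData.ι_toBase_assoc]
    exact Over.w (D.p i))

theorem κ_pW (i : 𝒰.I₀) : D.κ i ≫ D.pW = D.p i ≫ jU 𝒰 i :=
  Over.OverMorphism.ext (Scheme.Cover.RelativeGluingData.ι_toBase D.rgd i)

theorem ρ_κ {i j : 𝒰.I₀} (h : i ⟶ j) : D.ρ h ≫ D.κ j = D.κ i :=
  Over.OverMorphism.ext (colimit.w D.rgd.functor h)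

theorem isPullback_κ (i : 𝒰.I₀) : IsPullback (D.p i) (D.κ i) (jU 𝒰 i) D.pW :=
  over_isPullback_of_left _ _ _ _ (D.rgd.isPullback_natTrans_ι_toBase i)

instance (i : 𝒰.I₀) : IsOpenImmersion (D.κ i).left :=
  inferInstanceAs (IsOpenImmersion (D.rgd.cover.f i))

instance (i : 𝒰.I₀) : Mono (D.κ i) := by
  refine ⟨fun a b hab => ?_⟩
  apply Over.OverMorphism.ext
  have := congrArg (fun m => m.left) hab
  simp only [Over.comp_left] at this
  exact (cancel_mono (D.κ i).left).mp this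

theorem κ_fppf (i : 𝒰.I₀) :
    (@Flat ⊓ @LocallyOfFinitePresentation : MorphismProperty Scheme.{u}) (D.κ i).left :=
  ⟨inferInstance, inferInstance⟩

theorem κ_covers (x : D.WO.left) : ∃ i, x ∈ Set.range (D.κ i).left := by
  obtain ⟨i, y, hy⟩ := D.rgd.cover.exists_eq x
  exact ⟨i, y, hy⟩

/-- The local maps to `F` agree on overlaps in the glued scheme. -/
theorem compat {i j : 𝒰.I₀} {Q : Over S} (qi : Q ⟶ D.W i) (qj : Q ⟶ D.W j)
    (h : qi ≫ D.κ i = qj ≫ D.κ j) :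
    (yon S).map qi ≫ D.fst i = (yon S).map qj ≫ D.fst j := by
  let 𝒞 := D.rgd.cover
  have hc : qi.left ≫ 𝒞.f i = qj.left ≫ 𝒞.f j := congrArg (fun m => m.left) h
  let c : Q.left ⟶ pullback (𝒞.f i) (𝒞.f j) := pullback.lift qi.left qj.left hc
  let ℐ := 𝒞.intersectionOfLocallyDirected i j
  have hoi : ∀ k : ℐ.I₀, IsOpenImmersion (ℐ.f k) := fun k => ℐ.map_prop k
  -- the pieces
  let Qk : ℐ.I₀ → Over S := fun k => Over.mk (pullback.fst c (ℐ.f k) ≫ Q.hom)
  let e : ∀ k, Qk k ⟶ Q := fun k => Over.homMk (pullback.fst c (ℐ.f k)) rfl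
  have hfi : ∀ k : ℐ.I₀, pullback.snd c (ℐ.f k) ≫ (D.ρ k.2.1).left =
      pullback.fst c (ℐ.f k) ≫ qi.left := by
    intro k
    have h1 : ℐ.f k ≫ pullback.fst (𝒞.f i) (𝒞.f j) = (D.ρ k.2.1).left := pullback.lift_fst _ _ _
    have h2 : c ≫ pullback.fst (𝒞.f i) (𝒞.f j) = qi.left := pullback.lift_fst _ _ _
    have h3 := congrArg (fun m => m ≫ pullback.fst (𝒞.f i) (𝒞.f j))
      (pullback.condition (f := c) (g := ℐ.f k))
    simp only [Category.assoc] at h3
    rw [← h1, ← h2]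
    exact h3.symm
  have hfj : ∀ k : ℐ.I₀, pullback.snd c (ℐ.f k) ≫ (D.ρ k.2.2).left =
      pullback.fst c (ℐ.f k) ≫ qj.left := by
    intro k
    have h1 : ℐ.f k ≫ pullback.snd (𝒞.f i) (𝒞.f j) = (D.ρ k.2.2).left := pullback.lift_snd _ _ _
    have h2 : c ≫ pullback.snd (𝒞.f i) (𝒞.f j) = qj.left := pullback.lift_snd _ _ _
    have h3 := congrArg (fun m => m ≫ pullback.snd (𝒞.f i) (𝒞.f j))
      (pullback.condition (f := c) (g := ℐ.f k))
    simp only [Category.assoc] at h3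
    rw [← h1, ← h2]
    exact h3.symm
  let r : ∀ k : ℐ.I₀, Qk k ⟶ D.W k.1 := fun k => Over.homMk (pullback.snd c (ℐ.f k)) (by
    show pullback.snd c (ℐ.f k) ≫ (D.W k.1).hom = pullback.fst c (ℐ.f k) ≫ Q.hom
    have h4 := congrArg (fun m => m ≫ (D.W i).hom) (hfi k)
    simp only [Category.assoc] at h4
    have h5 : (D.ρ k.2.1).left ≫ (D.W i).hom = (D.W k.1).hom := Over.w (D.ρ k.2.1)
    have h6 : qi.left ≫ (D.W i).hom = Q.hom := Over.w qi
    exact ((congrArg (fun m => pullback.snd c (ℐ.f k) ≫ m) h5).symm.trans h4).trans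
      (congrArg (fun m => pullback.fst c (ℐ.f k) ≫ m) h6))
  have hri : ∀ k, e k ≫ qi = r k ≫ D.ρ k.2.1 := fun k => Over.OverMorphism.ext (hfi k).symm
  have hrj : ∀ k, e k ≫ qj = r k ≫ D.ρ k.2.2 := fun k => Over.OverMorphism.ext (hfj k).symm
  apply hom_ext_of_family Qk e
  · intro k
    haveI := hoi k
    exact ⟨inferInstanceAs (Flat (pullback.fst c (ℐ.f k))),
      inferInstanceAs (LocallyOfFinitePresentation (pullback.fst c (ℐ.f k)))⟩
  · intro x
    obtain ⟨k, y, hy⟩ := ℐ.exists_eq (c x)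
    refine ⟨k, ?_⟩
    show x ∈ Set.range (pullback.fst c (ℐ.f k))
    rw [Scheme.Pullback.range_fst]
    exact ⟨y, hy⟩
  · intro k
    rw [← Category.assoc, ← Functor.map_comp, hri k, ← Category.assoc, ← Functor.map_comp,
      hrj k, Functor.map_comp, Category.assoc, ρ_fst, Functor.map_comp, Category.assoc, ρ_fst]

/-- The local maps to `F` glue to a map from the glued scheme. -/
theorem exists_fstW :
    ∃ fstW : (yon S).obj D.WO ⟶ F, ∀ i, (yon S).map (D.κ i) ≫ fstW = D.fst i :=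
  exists_glue_of_family D.W D.κ D.κ_fppf D.κ_covers D.fst
    (fun _ _ _ qi qj h => D.compat qi qj h)

section Main

variable {fstW : (yon S).obj D.WO ⟶ F} (hfstW : ∀ i, (yon S).map (D.κ i) ≫ fstW = D.fst i)
include hfstW

/-- Uniqueness of maps to the glued scheme. -/
theorem hom_ext_WO {Q : Over S} (a b : Q ⟶ D.WO)
    (h1 : (yon S).map a ≫ fstW = (yon S).map b ≫ fstW) (h2 : a ≫ D.pW = b ≫ D.pW) : a = b := by
  apply (yon S).map_injective
  apply hom_ext_of_family (Qi 𝒰 (a ≫ D.pW)) (eQ 𝒰 (a ≫ D.pW)) (eQ_fppf 𝒰 _) (eQ_covers 𝒰 _)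
  intro i
  obtain ⟨ma, hma1, hma2⟩ : ∃ m : Qi 𝒰 (a ≫ D.pW) i ⟶ D.W i,
      m ≫ D.p i = vQ 𝒰 (a ≫ D.pW) i ∧ m ≫ D.κ i = eQ 𝒰 (a ≫ D.pW) i ≫ a :=
    ⟨(D.isPullback_κ i).lift (vQ 𝒰 (a ≫ D.pW) i) (eQ 𝒰 (a ≫ D.pW) i ≫ a)
      (by rw [Category.assoc, ← eQ_t]), (D.isPullback_κ i).lift_fst _ _ _,
      (D.isPullback_κ i).lift_snd _ _ _⟩
  obtain ⟨mb, hmb1, hmb2⟩ : ∃ m : Qi 𝒰 (a ≫ D.pW) i ⟶ D.W i,
      m ≫ D.p i = vQ 𝒰 (a ≫ D.pW) i ∧ m ≫ D.κ i = eQ 𝒰 (a ≫ D.pW) i ≫ b :=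
    ⟨(D.isPullback_κ i).lift (vQ 𝒰 (a ≫ D.pW) i) (eQ 𝒰 (a ≫ D.pW) i ≫ b)
      (by rw [Category.assoc, ← h2, ← eQ_t]), (D.isPullback_κ i).lift_fst _ _ _,
      (D.isPullback_κ i).lift_snd _ _ _⟩
  have hab : ma = mb := by
    apply D.hom_ext_W
    · rw [← hfstW i, ← Category.assoc, ← Category.assoc, ← Functor.map_comp, ← Functor.map_comp,
        hma2, hmb2, Functor.map_comp, Functor.map_comp, Category.assoc, Category.assoc, h1]
    · rw [hma1, hmb1]
  rw [← Functor.map_comp, ← Functor.map_comp, ← hma2, ← hmb2, hab]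

/-- Existence of maps to the glued scheme. -/
theorem exists_lift_WO {Q : Over S} (α : (yon S).obj Q ⟶ F) (t : Q ⟶ T)
    (h : α ≫ f = (yon S).map t ≫ g) :
    ∃ l : Q ⟶ D.WO, (yon S).map l ≫ fstW = α ∧ l ≫ D.pW = t := by
  have hm : ∀ i, ∃ m : Qi 𝒰 t i ⟶ D.W i,
      (yon S).map m ≫ D.fst i = (yon S).map (eQ 𝒰 t i) ≫ α ∧ m ≫ D.p i = vQ 𝒰 t i := by
    intro i
    apply D.exists_lift_W i
    rw [Category.assoc, h, ← Category.assoc, ← Functor.map_comp, eQ_t]
  choose m hm1 hm2 using hm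
  have hA : ∀ (i : 𝒰.I₀) {R : Over S} (r : R ⟶ Qi 𝒰 t i),
      (yon S).map (r ≫ m i ≫ D.κ i) ≫ fstW = (yon S).map (r ≫ eQ 𝒰 t i) ≫ α := by
    intro i R r
    rw [Functor.map_comp, Functor.map_comp, Category.assoc, Category.assoc, hfstW, hm1,
      Functor.map_comp, Category.assoc]
  have hB : ∀ (i : 𝒰.I₀) {R : Over S} (r : R ⟶ Qi 𝒰 t i),
      (r ≫ m i ≫ D.κ i) ≫ D.pW = (r ≫ eQ 𝒰 t i) ≫ t := by
    intro i R r
    rw [Category.assoc, Category.assoc, κ_pW, ← Category.assoc (m i), hm2, ← eQ_t,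
      Category.assoc]
  obtain ⟨l', hl'⟩ := exists_glue_of_family (F := (yon S).obj D.WO) (Qi 𝒰 t) (eQ 𝒰 t)
    (eQ_fppf 𝒰 t) (eQ_covers 𝒰 t) (fun i => (yon S).map (m i ≫ D.κ i)) (by
      intro i j R ri rj hr
      rw [← Functor.map_comp, ← Functor.map_comp]
      congr 1
      apply D.hom_ext_WO hfstW
      · rw [hA i ri, hA j rj, hr]
      · rw [hB i ri, hB j rj, hr])
  obtain ⟨l, rfl⟩ := (yon S).map_surjective l'
  refine ⟨l, ?_, ?_⟩
  · apply hom_ext_of_family (Qi 𝒰 t) (eQ 𝒰 t) (eQ_fppf 𝒰 t) (eQ_covers 𝒰 t)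
    intro i
    rw [← Category.assoc, hl' i, Functor.map_comp, Category.assoc, hfstW, hm1]
  · apply (yon S).map_injective
    apply hom_ext_of_family (Qi 𝒰 t) (eQ 𝒰 t) (eQ_fppf 𝒰 t) (eQ_covers 𝒰 t)
    intro i
    rw [Functor.map_comp, ← Category.assoc, hl' i, ← Functor.map_comp, ← Functor.map_comp,
      Category.assoc, κ_pW, ← Category.assoc, hm2, eQ_t]

/-- The glued scheme represents the base change of `f` to `T`. -/
theorem isPullback_glued : IsPullback fstW ((yon S).map D.pW) f g := by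
  apply isPullback_of_yon
  · apply hom_ext_of_family D.W D.κ D.κ_fppf D.κ_covers
    intro i
    rw [← Category.assoc, hfstW, (D.sq i).w, ← Category.assoc, ← Category.assoc,
      ← Functor.map_comp, ← Functor.map_comp, κ_pW]
  · intro Q α β hαβ
    obtain ⟨t, rfl⟩ := (yon S).map_surjective β
    obtain ⟨l, h1, h2⟩ := D.exists_lift_WO hfstW α t hαβ
    exact ⟨(yon S).map l, h1, by rw [← Functor.map_comp, h2]⟩
  · intro Q l l' h1 h2
    obtain ⟨a, rfl⟩ := (yon S).map_surjective l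
    obtain ⟨b, rfl⟩ := (yon S).map_surjective l'
    congr 1
    apply D.hom_ext_WO hfstW a b h1
    apply (yon S).map_injective
    rw [Functor.map_comp, Functor.map_comp, h2]

end Main

end Datum

end Glue

/-- Zariski gluing of representability over a locally directed open cover. -/
theorem exists_rep_of_locallyDirected {F G : Sp S} (f : F ⟶ G) {T : Over S}
    (g : (yon S).obj T ⟶ G) (𝒰 : Scheme.OpenCover.{u} T.left) [Category.{u} 𝒰.I₀]
    [𝒰.LocallyDirected] [Quiver.IsThin 𝒰.I₀] (D : Datum f g 𝒰) :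
    ∃ (W : Over S) (p : W ⟶ T) (fst : (yon S).obj W ⟶ F), IsPullback fst ((yon S).map p) f g ∧
      ∀ i, ∃ κ : D.W i ⟶ W, IsPullback (D.p i) κ (jU 𝒰 i) p ∧ (yon S).map κ ≫ fst = D.fst i := by
  obtain ⟨fstW, hfstW⟩ := D.exists_fstW
  exact ⟨D.WO, D.pW, fstW, D.isPullback_glued hfstW,
    fun i => ⟨D.κ i, D.isPullback_κ i, hfstW i⟩⟩

/-- A property of morphisms of schemes that is Zariski local on the target can be checked on an
open cover, using arbitrary pullback squares. -/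
theorem prop_of_openCover_isPullback (P : MorphismProperty Scheme.{u}) [IsZariskiLocalAtTarget P]
    {X Y : Scheme.{u}} (p : X ⟶ Y) (𝒰 : Y.OpenCover)
    (h : ∀ i, ∃ (Xi : Scheme.{u}) (κ : Xi ⟶ X) (pi : Xi ⟶ 𝒰.X i),
      IsPullback κ pi p (𝒰.f i) ∧ P pi) : P p := by
  apply IsZariskiLocalAtTarget.of_openCover 𝒰
  intro i
  obtain ⟨Xi, κ, pi, sq, hpi⟩ := h i
  show P (pullback.snd p (𝒰.f i))
  rw [← P.cancel_left_of_respectsIso sq.isoPullback.hom, sq.isoPullback_hom_snd]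
  exact hpi

/-- If the base change of `f` to every affine scheme is representable with property `P`, where
`P` is Zariski local on the target, then `f` is representable with property `P`. -/
theorem repWith_of_affine (P : MorphismProperty Scheme.{u}) [IsZariskiLocalAtTarget P]
    {F G : Sp S} (f : F ⟶ G)
    (h : ∀ (Z : Over S), IsAffine Z.left → ∀ g : (yon S).obj Z ⟶ G,
      ∃ (W : Over S) (i : W ⟶ Z) (fst : (yon S).obj W ⟶ F),
        IsPullback fst ((yon S).map i) f g ∧ P i.left) :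
    RepWith P f := by
  haveI : (P.inverseImage (Over.forget S)).RespectsIso :=
    MorphismProperty.RespectsIso.inverseImage P _
  apply MorphismProperty.relative.of_exists
  intro T g
  let 𝒰 := T.left.directedAffineCover
  have hloc : ∀ U : 𝒰.I₀, ∃ (W : Over S) (i : W ⟶ TU 𝒰 U) (fst : (yon S).obj W ⟶ F),
      IsPullback fst ((yon S).map i) f ((yon S).map (jU 𝒰 U) ≫ g) ∧ P i.left := by
    intro U
    exact h (TU 𝒰 U) (inferInstanceAs (IsAffine (U : T.left.affineOpens).1.toScheme)) _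
  choose W i fst sq hP using hloc
  obtain ⟨W', p, fst', sq', hκ⟩ := exists_rep_of_locallyDirected f g 𝒰 ⟨W, i, fst, sq⟩
  refine ⟨W', fst', p, sq', ?_⟩
  show P p.left
  apply prop_of_openCover_isPullback P p.left 𝒰
  intro U
  obtain ⟨κ, sqκ, -⟩ := hκ U
  exact ⟨(W U).left, κ.left, (i U).left, (sqκ.map (Over.forget S)).flip, hP U⟩

/-- If the base change of `f` to every affine scheme is representable, then `f` is
representable. -/
theorem representable_of_affine {F G : Sp S} (f : F ⟶ G)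
    (h : ∀ (Z : Over S), IsAffine Z.left → ∀ g : (yon S).obj Z ⟶ G,
      ∃ (W : Over S) (i : W ⟶ Z) (fst : (yon S).obj W ⟶ F), IsPullback fst ((yon S).map i) f g) :
    Representable f :=
  (repWith_of_affine ⊤ f (fun Z hZ g => by
    obtain ⟨W, i, fst, sq⟩ := h Z hZ g
    exact ⟨W, i, fst, sq, trivial⟩)).rep

/-- If the base change of `f` to every affine scheme (any pullback square) is representable with
property `P`, where `P` is Zariski local on the target, then `f` is representable with `P`. -/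
theorem repWith_of_affine' (P : MorphismProperty Scheme.{u}) [IsZariskiLocalAtTarget P]
    {F G : Sp S} (f : F ⟶ G)
    (h : ∀ (Z : Over S), IsAffine Z.left → ∀ (g : (yon S).obj Z ⟶ G) (P₀ : Sp S)
      (fst : P₀ ⟶ F) (snd : P₀ ⟶ (yon S).obj Z), IsPullback fst snd f g → RepWith P snd) :
    RepWith P f := by
  apply repWith_of_affine P f
  intro Z hZ g
  have sq := IsPullback.of_hasPullback f g
  have hsnd := h Z hZ g _ _ _ sq
  have hrep : Representable (pullback.snd f g) := hsnd.rep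
  have sq' := hrep.isPullback (𝟙 ((yon S).obj Z))
  have hP : P (hrep.snd (𝟙 _)).left := hsnd.property _ _ _ sq'
  have hbig := sq'.paste_horiz sq
  rw [Category.id_comp] at hbig
  exact ⟨_, _, _, hbig, hP⟩

section OpenCover

variable {T : Over S} (𝒱 : Scheme.OpenCover.{u} T.left)

/-- Affine opens of `T` contained in a member of the cover `𝒱`. -/
def BasisIdx : Type u := {U : T.left.affineOpens // ∃ i, U.1 ≤ (𝒱.f i).opensRange}

instance : Preorder (BasisIdx 𝒱) :=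
  inferInstanceAs (Preorder {U : T.left.affineOpens // ∃ i, U.1 ≤ (𝒱.f i).opensRange})

theorem exists_basisIdx {O : T.left.Opens} {x : T.left} (hx : x ∈ O) :
    ∃ U : BasisIdx 𝒱, x ∈ U.1.1 ∧ U.1.1 ≤ O := by
  obtain ⟨i, y, hy⟩ := 𝒱.exists_eq x
  have hx' : x ∈ O ⊓ (𝒱.f i).opensRange := ⟨hx, ⟨y, hy⟩⟩
  obtain ⟨U, hU, hxU, hUV⟩ :=
    TopologicalSpace.Opens.isBasis_iff_nbhd.mp T.left.isBasis_affineOpens hx'
  exact ⟨⟨⟨U, hU⟩, i, hUV.trans inf_le_right⟩, hxU, hUV.trans inf_le_left⟩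

theorem isOpenCover_basis : TopologicalSpace.IsOpenCover (fun U : BasisIdx 𝒱 => U.1.1) := by
  apply TopologicalSpace.IsOpenCover.mk
  rw [eq_top_iff]
  intro x hx
  obtain ⟨U, hxU, -⟩ := exists_basisIdx 𝒱 hx
  exact TopologicalSpace.Opens.mem_iSup.mpr ⟨U, hxU⟩

/-- The cover of `T` by the affine opens contained in a member of `𝒱`. -/
noncomputable def basisCover : Scheme.OpenCover.{u} T.left :=
  T.left.openCoverOfIsOpenCover _ (isOpenCover_basis 𝒱)

instance : Preorder (basisCover 𝒱).I₀ := inferInstanceAs (Preorder (BasisIdx 𝒱))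

noncomputable instance : (basisCover 𝒱).LocallyDirected :=
  .ofIsBasisOpensRange (by
    intro i j
    show i.1.1 ≤ j.1.1 ↔ (i.1.1.ι).opensRange ≤ (j.1.1.ι).opensRange
    rw [Scheme.Opens.opensRange_ι, Scheme.Opens.opensRange_ι]) (by
    rw [TopologicalSpace.Opens.isBasis_iff_nbhd]
    intro O x hx
    obtain ⟨U, hxU, hUO⟩ := exists_basisIdx 𝒱 hx
    refine ⟨U.1.1, ⟨U, ?_⟩, hxU, hUO⟩
    show (U.1.1.ι).opensRange = U.1.1
    rw [Scheme.Opens.opensRange_ι])

end OpenCover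

/-- Zariski gluing of representability with a property over an arbitrary open cover. -/
theorem exists_rep_of_openCover (P : MorphismProperty Scheme.{u}) [IsZariskiLocalAtTarget P]
    {F G : Sp S} (f : F ⟶ G) {T : Over S} (g : (yon S).obj T ⟶ G)
    (𝒱 : Scheme.OpenCover.{u} T.left)
    (h : ∀ i, ∃ (W : Over S) (p : W ⟶ TU 𝒱 i) (fst : (yon S).obj W ⟶ F),
      IsPullback fst ((yon S).map p) f ((yon S).map (jU 𝒱 i) ≫ g) ∧ P p.left) :
    ∃ (W : Over S) (p : W ⟶ T) (fst : (yon S).obj W ⟶ F),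
      IsPullback fst ((yon S).map p) f g ∧ P p.left := by
  choose W p fst sq hP using h
  let 𝒰 := basisCover 𝒱
  have hloc : ∀ U : 𝒰.I₀, ∃ (W' : Over S) (p' : W' ⟶ TU 𝒰 U) (fst' : (yon S).obj W' ⟶ F),
      IsPullback fst' ((yon S).map p') f ((yon S).map (jU 𝒰 U) ≫ g) ∧ P p'.left := by
    intro U
    obtain ⟨i, hi⟩ := U.2
    have hr : Set.range U.1.1.ι ⊆ Set.range (𝒱.f i) := by
      rw [Scheme.Opens.range_ι]; exact hi
    let lam : (U.1.1 : Scheme.{u}) ⟶ 𝒱.X i := IsOpenImmersion.lift (𝒱.f i) U.1.1.ι hr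
    have hlam : lam ≫ 𝒱.f i = U.1.1.ι := IsOpenImmersion.lift_fac _ _ _
    haveI : IsOpenImmersion (lam ≫ 𝒱.f i) := by rw [hlam]; infer_instance
    haveI : IsOpenImmersion lam := IsOpenImmersion.of_comp lam (𝒱.f i)
    let lam' : TU 𝒰 U ⟶ TU 𝒱 i := Over.homMk lam (by
      show lam ≫ 𝒱.f i ≫ T.hom = U.1.1.ι ≫ T.hom
      rw [← Category.assoc, hlam])
    have hlam' : lam' ≫ jU 𝒱 i = jU 𝒰 U := Over.OverMorphism.ext hlam
    have sqO := IsPullback.of_hasPullback (p i) lam'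
    have hbig := (sqO.map (yon S)).paste_horiz (sq i)
    rw [← Category.assoc, ← Functor.map_comp, hlam'] at hbig
    refine ⟨pullback (p i) lam', pullback.snd (p i) lam', _, hbig, ?_⟩
    exact IsZariskiLocalAtTarget.of_isPullback (iY := lam) (sqO.map (Over.forget S)) (hP i)
  choose W' p' fst' sq' hP' using hloc
  obtain ⟨W'', p'', fst'', sq'', hκ⟩ := exists_rep_of_locallyDirected f g 𝒰 ⟨W', p', fst', sq'⟩
  refine ⟨W'', p'', fst'', sq'', ?_⟩
  apply prop_of_openCover_isPullback P p''.left 𝒰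
  intro U
  obtain ⟨κ, sqκ, -⟩ := hκ U
  exact ⟨(W' U).left, κ.left, (p' U).left, (sqκ.map (Over.forget S)).flip, hP' U⟩

/-- Zariski gluing of representability with a property over a jointly surjective family of open
immersions of schemes over `S`. -/
theorem exists_rep_of_family (P : MorphismProperty Scheme.{u}) [IsZariskiLocalAtTarget P]
    {F G : Sp S} (f : F ⟶ G) {T : Over S} (g : (yon S).obj T ⟶ G)
    {ι : Type u} (Zi : ι → Over S) (o : ∀ i, Zi i ⟶ T) (ho : ∀ i, IsOpenImmersion (o i).left)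
    (hcov : ∀ x : T.left, ∃ i, x ∈ Set.range (o i).left)
    (h : ∀ i, ∃ (W : Over S) (p : W ⟶ Zi i) (fst : (yon S).obj W ⟶ F),
      IsPullback fst ((yon S).map p) f ((yon S).map (o i) ≫ g) ∧ P p.left) :
    ∃ (W : Over S) (p : W ⟶ T) (fst : (yon S).obj W ⟶ F),
      IsPullback fst ((yon S).map p) f g ∧ P p.left := by
  let 𝒱 : Scheme.OpenCover.{u} T.left :=
    Scheme.Cover.mkOfCovers ι (fun i => (Zi i).left) (fun i => (o i).left)
      (fun x => by obtain ⟨i, y, hy⟩ := hcov x; exact ⟨i, y, hy⟩) ho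
  apply exists_rep_of_openCover P f g 𝒱
  intro i
  obtain ⟨W, p, fst, sq, hP⟩ := h i
  let e : TU 𝒱 i ≅ Zi i := Over.isoMk (Iso.refl _) (by
    show 𝟙 _ ≫ (Zi i).hom = (o i).left ≫ T.hom
    rw [Category.id_comp, Over.w])
  have he : e.hom ≫ o i = jU 𝒱 i := by
    apply Over.OverMorphism.ext
    show 𝟙 _ ≫ (o i).left = (o i).left
    rw [Category.id_comp]
  refine ⟨W, p ≫ e.inv, fst, ?_, ?_⟩
  · refine IsPullback.of_iso sq (Iso.refl _) (Iso.refl _) ((yon S).mapIso e.symm) (Iso.refl _)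
      ?_ ?_ ?_ ?_
    · simp
    · simp
    · simp
    · show ((yon S).map (o i) ≫ g) ≫ 𝟙 _ = (yon S).map e.inv ≫ (yon S).map (jU 𝒱 i) ≫ g
      rw [Category.comp_id, ← he, Functor.map_comp, ← Category.assoc ((yon S).map e.inv),
        ← Category.assoc ((yon S).map e.inv), ← Functor.map_comp, e.inv_hom_id,
        CategoryTheory.Functor.map_id, Category.id_comp]
  · show P (p.left ≫ 𝟙 _)
    rw [Category.comp_id]
    exact hP

end Groth.Agent.Helper2.ZarGlue
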