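import Mathlib
import Groth.Prelude.Def_AlgSpMor5
import Groth.Agent.S9867
import Groth.Agent.Lib.Helper2.AlgSp.ZarGlue
import Groth.Agent.Lib.Helper2.AlgSp.AffDescApp
import Groth.Agent.Lib.Helper2.AlgSp.PointsMor

/-!
# Finite locally free morphisms of sheaves (helper2)
-/

set_option autoImplicit false
open CategoryTheory CategoryTheory.Limits AlgebraicGeometry Opposite AlgSp
open Groth.Agent.Helper2.AlgSpBasic

namespace Groth.Agent.Helper2.FinLocFree
universe u
variable {S : Scheme.{u}}

theorem finLocFree_eq :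
    (finLocFree : MorphismProperty Scheme.{u}) =
      (@IsFinite ⊓ ((@Flat ⊓ @LocallyOfFinitePresentation : MorphismProperty Scheme.{u})) :
        MorphismProperty Scheme.{u}) := by
  ext X Y f
  exact Iff.rfl

instance : IsZariskiLocalAtTarget (finLocFree : MorphismProperty Scheme.{u}) := by
  rw [finLocFree_eq]
  infer_instance

instance : (finLocFree : MorphismProperty Scheme.{u}).DescendsAlong
    (@Surjective ⊓ @Flat ⊓ @QuasiCompact : MorphismProperty Scheme.{u}) :=
  Groth.Agent.S9867.result.1

/-- A representable morphism with a property `Q` implying affineness is affine with `Q`. -/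
theorem isAffQMor_of_repWith (Q : MorphismProperty Scheme.{u}) (hQ : Q ≤ @IsAffineHom)
    {X Y : Sp S} {f : X ⟶ Y} (h : RepWith Q f) : IsAffQMor Q f := by
  intro Z hZ g
  have hrep : Representable f := h.rep
  have hi : Q (hrep.snd g).left := h.property g _ _ (hrep.isPullback g)
  haveI := hZ
  haveI : IsAffineHom (hrep.snd g).left := hQ _ hi
  exact ⟨hrep.pullback g, hrep.snd g, hrep.fst g, hrep.isPullback g,
    isAffine_of_isAffineHom (hrep.snd g).left, hi⟩

/-- An affine morphism whose affine base changes have a Zariski local property `Q` is representable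
with `Q`. -/
theorem repWith_of_isAffQMor (Q : MorphismProperty Scheme.{u}) [IsZariskiLocalAtTarget Q]
    {X Y : Sp S} {f : X ⟶ Y} (h : IsAffQMor Q f) : RepWith Q f := by
  apply Groth.Agent.Helper2.ZarGlue.repWith_of_affine Q f
  intro Z hZ g
  obtain ⟨W, i, fst, sq, -, hi⟩ := h hZ g
  exact ⟨W, i, fst, sq, hi⟩

theorem finLocFree_le_isAffineHom :
    (finLocFree : MorphismProperty Scheme.{u}) ≤ @IsAffineHom := by
  intro X Y f hf
  haveI : IsFinite f := hf.1
  infer_instance

/-- Descent of "representable with `Q`" along an étale cover, for `Q` affine, Zariski local on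
the target and descending along fpqc covers. -/
theorem repWith_of_etale_cover (Q : MorphismProperty Scheme.{u}) (hQ : Q ≤ @IsAffineHom)
    [IsZariskiLocalAtTarget Q]
    [Q.DescendsAlong (@Surjective ⊓ @Flat ⊓ @QuasiCompact : MorphismProperty Scheme.{u})]
    {X Y : Sp S} (f : X ⟶ Y) (V : Over S)
    (p : (yon S).obj V ⟶ Y) (hp : RepWith @Etale p) (hps : RepWith @Surjective p)
    {P : Sp S} (fst : P ⟶ X) (snd : P ⟶ (yon S).obj V) (sq : IsPullback fst snd f p)
    (h : RepWith Q snd) : RepWith Q f :=
  repWith_of_isAffQMor Q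
    (isAffQMor_of_etale_cover Q f V p hp hps fst snd sq (isAffQMor_of_repWith Q hQ h))

/-- Affine morphisms with a Zariski local property of the affine base changes can be tested on a
Zariski covering of the target. -/
theorem isAffQMor_of_zarCover (Q : MorphismProperty Scheme.{u}) (hQ : Q ≤ @IsAffineHom)
    [IsZariskiLocalAtTarget Q] {X Y : Sp S} (f : X ⟶ Y) {ι : Type u} (Yi : ι → Sp S)
    (j : ∀ i, Yi i ⟶ Y) (hj : ∀ i, RepWith @IsOpenImmersion (j i))
    (hcov : ∀ y : Points Y, ∃ i, y ∈ Set.range (Points.map (j i)))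
    (Xi : ι → Sp S) (p : ∀ i, Xi i ⟶ X) (q : ∀ i, Xi i ⟶ Yi i)
    (sq : ∀ i, IsPullback (p i) (q i) f (j i)) (h : ∀ i, IsAffQMor Q (q i)) : IsAffQMor Q f := by
  intro Z hZ g
  have hrep : ∀ i, Representable (j i) := fun i => (hj i).rep
  have hsqj : ∀ i, IsPullback ((hrep i).fst g) ((yon S).map ((hrep i).snd g)) (j i) g :=
    fun i => (hrep i).isPullback g
  have ho : ∀ i, IsOpenImmersion ((hrep i).snd g).left :=
    fun i => (hj i).property g _ _ (hsqj i)
  have hcovZ : ∀ z : Z.left, ∃ i, z ∈ Set.range ((hrep i).snd g).left := by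
    intro z
    obtain ⟨i, x, hx⟩ := hcov (Points.ofPt g z)
    obtain ⟨w, -, hw⟩ := exists_point_of_isPullback_right (j i) g _ _ (hsqj i) x z hx
    exact ⟨i, w, hw⟩
  obtain ⟨W, pW, fstW, sqW, hQW⟩ := Groth.Agent.Helper2.ZarGlue.exists_rep_of_family Q f g
    (fun i => (hrep i).pullback g) (fun i => (hrep i).snd g) ho hcovZ (by
      intro i
      have hqi : RepWith Q (q i) := repWith_of_isAffQMor Q (h i)
      have hrq : Representable (q i) := hqi.rep
      have sq' := hrq.isPullback ((hrep i).fst g)
      have hbig := sq'.paste_horiz (sq i)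
      rw [(hsqj i).w] at hbig
      exact ⟨_, _, _, hbig, hqi.property _ _ _ sq'⟩)
  haveI := hZ
  haveI : IsAffineHom pW.left := hQ _ hQW
  exact ⟨W, pW, fstW, sqW, isAffine_of_isAffineHom pW.left, hQW⟩

end Groth.Agent.Helper2.FinLocFree
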