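import Mathlib
import Groth.Agent.Lib.Helper2.AlgSp.FinLocFree
import Groth.Agent.Lib.Helper2.AlgSp.OpenSub

/-!
# Affine morphisms of sheaves: fppf-local criterion on affine test schemes (helper2)
-/

set_option autoImplicit false
open CategoryTheory CategoryTheory.Limits AlgebraicGeometry Opposite AlgSp
open Groth.Agent.Helper2.AlgSpBasic

namespace Groth.Agent.Helper2.AffLocal
universe u
variable {S : Scheme.{u}}

/-- Descent of an affine representing object with property `Q` along one fppf cover of an affine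
scheme by an affine scheme. -/
theorem exists_affQ_of_fppf_cover (Q : MorphismProperty Scheme.{u})
    [Q.DescendsAlong (@Surjective ⊓ @Flat ⊓ @QuasiCompact : MorphismProperty Scheme.{u})]
    {X Y : Sp S} (f : X ⟶ Y) {Z T' W : Over S} (hZ : IsAffine Z.left) (hT' : IsAffine T'.left)
    (hW : IsAffine W.left) (g : (yon S).obj Z ⟶ Y) (c : T' ⟶ Z) (hcf : Flat c.left)
    (hcs : Surjective c.left) (hcl : LocallyOfFinitePresentation c.left)
    (i' : W ⟶ T') (fst' : (yon S).obj W ⟶ X)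
    (hbig : IsPullback fst' ((yon S).map i') f ((yon S).map c ≫ g)) (hQ : Q i'.left) :
    ∃ (U : Over S) (k : U ⟶ Z) (fst : (yon S).obj U ⟶ X),
      IsPullback fst ((yon S).map k) f g ∧ IsAffine U.left ∧ Q k.left := by
  haveI := hZ
  haveI := hT'
  haveI := hW
  let gF : pullback f g ⟶ (yon S).obj Z := pullback.snd f g
  have hw : fst' ≫ f = ((yon S).map i' ≫ (yon S).map c) ≫ g := by
    rw [Category.assoc]; exact hbig.w
  let fstV : (yon S).obj W ⟶ pullback f g :=
    pullback.lift fst' ((yon S).map i' ≫ (yon S).map c) hw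
  have hfstV1 : fstV ≫ pullback.fst f g = fst' := pullback.lift_fst _ _ _
  have hfstV2 : fstV ≫ gF = (yon S).map i' ≫ (yon S).map c := pullback.lift_snd _ _ _
  have sqL : IsPullback fstV ((yon S).map i') gF ((yon S).map c) := by
    refine IsPullback.of_right ?_ hfstV2 (IsPullback.of_hasPullback f g)
    rw [hfstV1]
    exact hbig
  obtain ⟨U, k, q, e, hUa, heiso, heg, -, sqU⟩ :=
    exists_affine_rep_of_fppf_cover c hcf hcs hcl gF fstV i' sqL
  haveI := heiso
  have sqUl : IsPullback i'.left q.left c.left k.left := sqU.map (Over.forget S)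
  have hcqc : QuasiCompact c.left := inferInstance
  have hQk : Q k.left :=
    MorphismProperty.of_isPullback_of_descendsAlong (P := Q)
      (Q := @Surjective ⊓ @Flat ⊓ @QuasiCompact) sqUl ⟨⟨hcs, hcf⟩, hcqc⟩ hQ
  refine ⟨U, k, e ≫ pullback.fst f g, ?_, hUa, hQk⟩
  refine (IsPullback.of_hasPullback f g).of_iso (asIso e).symm (Iso.refl _) (Iso.refl _)
    (Iso.refl _) ?_ ?_ ?_ ?_
  · simp
  · show pullback.snd f g ≫ 𝟙 _ = inv e ≫ (yon S).map k
    rw [Category.comp_id, ← heg, IsIso.inv_hom_id_assoc]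
  · simp
  · simp

/-- A morphism of sheaves is affine with property `Q` as soon as, fppf locally on every affine
test scheme, its base change is representable with `Q`. -/
theorem isAffQMor_of_fppf_local (Q : MorphismProperty Scheme.{u}) (hQa : Q ≤ @IsAffineHom)
    [IsZariskiLocalAtTarget Q]
    [Q.DescendsAlong (@Surjective ⊓ @Flat ⊓ @QuasiCompact : MorphismProperty Scheme.{u})]
    {X Y : Sp S} (f : X ⟶ Y)
    (hloc : ∀ (Z : Over S), IsAffine Z.left → ∀ (g : (yon S).obj Z ⟶ Y) (z : Z.left),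
      ∃ (A : Over S) (a : A ⟶ Z), IsAffine A.left ∧ Flat a.left ∧
        LocallyOfFinitePresentation a.left ∧ z ∈ Set.range a.left ∧
        ∃ (W : Over S) (pW : W ⟶ A) (fstW : (yon S).obj W ⟶ X),
          IsPullback fstW ((yon S).map pW) f ((yon S).map a ≫ g) ∧ Q pW.left) :
    IsAffQMor Q f := by
  classical
  intro Z hZ g
  haveI := hZ
  choose A a hA hafl halfp hza W pW fstW sqW hQW using hloc Z hZ g
  have hopen : ∀ z, IsOpen (Set.range (a z).left) := fun z => by
    haveI := hafl z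
    haveI := halfp z
    exact (a z).left.isOpenMap.isOpen_range
  have hcov : (Set.univ : Set ↥Z.left) ⊆ ⋃ z, Set.range (a z).left :=
    fun z _ => Set.mem_iUnion.mpr ⟨z, hza z⟩
  obtain ⟨t, ht⟩ := isCompact_univ.elim_finite_subcover (fun z => Set.range (a z).left) hopen hcov
  let G : ↥t → Scheme.{u} := fun m => (A m.1).left
  haveI hG : ∀ m, IsAffine (G m) := fun m => hA m.1
  let h : ∀ m : ↥t, G m ⟶ Z.left := fun m => (a m.1).left
  let j : (∐ G) ⟶ Z.left := Sigma.desc h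
  have hjfl : Flat j := IsZariskiLocalAtSource.sigmaDesc (P := @Flat) (fun m => hafl m.1)
  have hjlfp : LocallyOfFinitePresentation j :=
    IsZariskiLocalAtSource.sigmaDesc (P := @LocallyOfFinitePresentation) (fun m => halfp m.1)
  have hjs : Surjective j := by
    refine ⟨fun z => ?_⟩
    have hz := ht (Set.mem_univ z)
    simp only [Set.mem_iUnion] at hz
    obtain ⟨m, hm, y, hy⟩ := hz
    refine ⟨Sigma.ι G ⟨m, hm⟩ y, ?_⟩
    show (Sigma.ι G ⟨m, hm⟩ ≫ Limits.Sigma.desc h) y = _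
    rw [Sigma.ι_desc]
    exact hy
  let T' : Over S := Over.mk (j ≫ Z.hom)
  let c : T' ⟶ Z := Over.homMk j rfl
  have hT' : IsAffine T'.left := (inferInstance : IsAffine (∐ G))
  let ι : ∀ m : ↥t, A m.1 ⟶ T' := fun m => Over.homMk (Sigma.ι G m) (by
    show Sigma.ι G m ≫ Limits.Sigma.desc h ≫ Z.hom = (A m.1).hom
    rw [Sigma.ι_desc_assoc]
    exact Over.w (a m.1))
  have hιc : ∀ m, ι m ≫ c = a m.1 := fun m => Over.OverMorphism.ext (Sigma.ι_desc h m)
  obtain ⟨W', p', fst', sq', hQ'⟩ := Groth.Agent.Helper2.ZarGlue.exists_rep_of_family Q f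
    ((yon S).map c ≫ g) (fun m : ↥t => A m.1) ι
    (fun m => inferInstanceAs (IsOpenImmersion (Sigma.ι G m)))
    (fun x => by
      obtain ⟨m, y, hy⟩ := (sigmaOpenCover G).exists_eq x
      exact ⟨m, y, hy⟩)
    (fun m => by
      refine ⟨W m.1, pW m.1, fstW m.1, ?_, hQW m.1⟩
      rw [← Category.assoc, ← Functor.map_comp, hιc]
      exact sqW m.1)
  haveI : IsAffineHom p'.left := hQa _ hQ'
  haveI := hT'
  have hW' : IsAffine W'.left := isAffine_of_isAffineHom p'.left
  exact exists_affQ_of_fppf_cover Q f hZ hT' hW' g c hjfl hjs hjlfp p' fst' sq' hQ'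

/-- A morphism to an algebraic space is affine with property `Q` as soon as its base change to
every affine scheme étale over the target is representable with `Q`. -/
theorem isAffQMor_of_etale_affine_charts (Q : MorphismProperty Scheme.{u}) (hQa : Q ≤ @IsAffineHom)
    [Q.IsStableUnderBaseChange] [IsZariskiLocalAtTarget Q]
    [Q.DescendsAlong (@Surjective ⊓ @Flat ⊓ @QuasiCompact : MorphismProperty Scheme.{u})]
    {X Y : Sp S} (hY : IsAlgSpace Y) (f : X ⟶ Y)
    (h : ∀ (V : Over S), IsAffine V.left → ∀ (b : (yon S).obj V ⟶ Y), RepWith @Etale b →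
      ∃ (W : Over S) (w : W ⟶ V) (fst : (yon S).obj W ⟶ X),
        IsPullback fst ((yon S).map w) f b ∧ Q w.left) :
    IsAffQMor Q f := by
  apply isAffQMor_of_fppf_local Q hQa f
  intro Z hZ g z
  obtain ⟨U, p, hpe, hps⟩ := hY.atlas
  have hrep := hpe.rep
  obtain ⟨b0, hb0⟩ := (yon S).map_surjective (hrep.fst g)
  let β : hrep.pullback g ⟶ Z := hrep.snd g
  have sqB : IsPullback ((yon S).map b0) ((yon S).map β) p g := by
    rw [hb0]; exact hrep.isPullback g
  have hβe : Etale β.left := hpe.property g _ _ (hrep.isPullback g)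
  have hβs : Surjective β.left := hps.property g _ _ (hrep.isPullback g)
  obtain ⟨w, hw⟩ := hβs.surj z
  -- affine open of `U` around the image of `w`
  obtain ⟨U₁, hU₁, huU₁⟩ : ∃ U₁ : U.left.Opens, IsAffineOpen U₁ ∧ b0.left w ∈ U₁ := by
    obtain ⟨_, ⟨U₁, hU₁ : IsAffineOpen U₁, rfl⟩, huU₁, -⟩ :=
      U.left.isBasis_affineOpens.exists_subset_of_mem_open (Set.mem_univ (b0.left w)) isOpen_univ
    exact ⟨U₁, hU₁, huU₁⟩
  -- affine open of the fibre product inside the preimage of `U₁`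
  obtain ⟨A₁, hA₁, hwA₁, hA₁U₁⟩ : ∃ A₁ : (hrep.pullback g).left.Opens, IsAffineOpen A₁ ∧
      w ∈ A₁ ∧ A₁ ≤ b0.left ⁻¹ᵁ U₁ := by
    obtain ⟨_, ⟨A₁, hA₁ : IsAffineOpen A₁, rfl⟩, hwA₁, hA₁U₁⟩ :=
      (hrep.pullback g).left.isBasis_affineOpens.exists_subset_of_mem_open
        (show w ∈ (b0.left ⁻¹ᵁ U₁ : Set _) from huU₁) (b0.left ⁻¹ᵁ U₁).2
    exact ⟨A₁, hA₁, hwA₁, hA₁U₁⟩
  let A : Over S := opensOver A₁
  let V : Over S := opensOver U₁
  let a : A ⟶ Z := opensOverι A₁ ≫ β
  have hr : Set.range (A₁.ι ≫ b0.left) ⊆ Set.range U₁.ι := by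
    rw [Scheme.Opens.range_ι]
    rintro _ ⟨x, rfl⟩
    exact hA₁U₁ x.2
  let a₁l : (A₁ : Scheme.{u}) ⟶ U₁ := IsOpenImmersion.lift U₁.ι (A₁.ι ≫ b0.left) hr
  have ha₁l : a₁l ≫ U₁.ι = A₁.ι ≫ b0.left := IsOpenImmersion.lift_fac _ _ _
  let a₁ : A ⟶ V := Over.homMk a₁l (by
    show a₁l ≫ U₁.ι ≫ U.hom = A₁.ι ≫ (hrep.pullback g).hom
    rw [← Category.assoc, ha₁l, Category.assoc, Over.w b0])
  have ha₁ : a₁ ≫ opensOverι U₁ = opensOverι A₁ ≫ b0 := Over.OverMorphism.ext ha₁l
  let b : (yon S).obj V ⟶ Y := (yon S).map (opensOverι U₁) ≫ p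
  have hbe : RepWith @Etale b :=
    repWith_comp @Etale ((repWith_yon_map_iff @Etale _).mpr (inferInstanceAs (Etale U₁.ι))) hpe
  have hcomm : (yon S).map a ≫ g = (yon S).map a₁ ≫ b := by
    show (yon S).map (opensOverι A₁ ≫ β) ≫ g = (yon S).map a₁ ≫ (yon S).map (opensOverι U₁) ≫ p
    rw [Functor.map_comp, Category.assoc, ← sqB.w, ← Category.assoc, ← Category.assoc,
      ← Functor.map_comp, ← Functor.map_comp, ha₁]
  obtain ⟨W₀, w₀, fst₀, sq₀, hQ₀⟩ := h V hU₁ b hbe
  have sqO := IsPullback.of_hasPullback w₀ a₁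
  have hbig := (sqO.map (yon S)).paste_horiz sq₀
  rw [← hcomm] at hbig
  refine ⟨A, a, hA₁, ?_, ?_, ⟨⟨w, hwA₁⟩, hw⟩, pullback w₀ a₁, pullback.snd w₀ a₁, _, hbig, ?_⟩
  · show Flat (A₁.ι ≫ β.left)
    infer_instance
  · show LocallyOfFinitePresentation (A₁.ι ≫ β.left)
    infer_instance
  · exact MorphismProperty.of_isPullback (P := Q) (sqO.map (Over.forget S)) hQ₀

end Groth.Agent.Helper2.AffLocal
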