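import Mathlib
import Groth.Agent.Lib.Helper2.AlgSp.TopCharts
namespace Groth.Agent.Helper2.TopCharts
open Topology

section
variable {ι : Type*} {β β' : Type*} [TopologicalSpace β] [TopologicalSpace β']
  {α α' : ι → Type*} [∀ i, TopologicalSpace (α i)] [∀ i, TopologicalSpace (α' i)]
  (q : β' → β) (q' : ∀ i, α' i → α i) (a : ∀ i, α i → β) (a' : ∀ i, α' i → β')

theorem isLocallyClosed_of_charts (hsurj : ∀ b, ∃ i u, a i u = b) (ha : ∀ i, IsOpenMap (a i))
    (hac : ∀ i, Continuous (a i))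
    (V : Set β) (hV : ∀ i, IsLocallyClosed (a i ⁻¹' V)) : IsLocallyClosed V := by
  rw [isLocallyClosed_iff_isOpen_coborder]
  refine isOpen_of_charts a hsurj ha _ fun i => ?_
  rw [← coborder_preimage (ha i) (hac i)]
  exact isLocallyClosed_iff_isOpen_coborder.mp (hV i)

theorem preimage_range_of_charts
    (comm : ∀ i x, a i (q' i x) = q (a' i x))
    (cart : ∀ i z u, q z = a i u → ∃ x, a' i x = z ∧ q' i x = u) (i : ι) :
    a i ⁻¹' Set.range q = Set.range (q' i) := by
  ext u
  constructor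
  · rintro ⟨z, hz⟩
    obtain ⟨x, _, hx⟩ := cart i z u hz
    exact ⟨x, hx⟩
  · rintro ⟨x, rfl⟩
    exact ⟨a' i x, (comm i x).symm⟩

theorem isInducing_of_charts
    (cart : ∀ i z u, q z = a i u → ∃ x, a' i x = z ∧ q' i x = u)
    (hsurj : ∀ b, ∃ i u, a i u = b)
    (ha : ∀ i, IsOpenMap (a i)) (ha'c : ∀ i, Continuous (a' i)) (hq : Continuous q)
    (hq' : ∀ i, IsInducing (q' i)) : IsInducing q := by
  rw [isInducing_iff_nhds]
  intro z
  apply le_antisymm
  · exact (hq.tendsto z).le_comap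
  · intro V hV
    rw [mem_nhds_iff] at hV
    obtain ⟨V', hV'V, hV'o, hzV'⟩ := hV
    have hW : ∀ i, ∃ W : Set (α i), IsOpen W ∧ q' i ⁻¹' W = a' i ⁻¹' V' := fun i =>
      (hq' i).isOpen_iff.mp (hV'o.preimage (ha'c i))
    choose W hWo hWeq using hW
    have hO : IsOpen (⋃ i, a i '' W i) := isOpen_iUnion fun i => ha i _ (hWo i)
    have hpre : q ⁻¹' (⋃ i, a i '' W i) = V' := by
      ext z'
      simp only [Set.mem_preimage, Set.mem_iUnion, Set.mem_image]
      constructor
      · rintro ⟨i, u, hu, huz⟩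
        obtain ⟨x, hx1, hx2⟩ := cart i z' u huz.symm
        have : x ∈ q' i ⁻¹' W i := by
          change q' i x ∈ W i
          rw [hx2]; exact hu
        rw [hWeq i] at this
        rw [← hx1]; exact this
      · intro hz'
        obtain ⟨i, u, hu⟩ := hsurj (q z')
        obtain ⟨x, hx1, hx2⟩ := cart i z' u hu.symm
        refine ⟨i, u, ?_, hu⟩
        have : x ∈ a' i ⁻¹' V' := by
          change a' i x ∈ V'
          rw [hx1]; exact hz'
        rw [← hWeq i] at this
        rw [← hx2]; exact this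
    rw [Filter.mem_comap]
    refine ⟨⋃ i, a i '' W i, hO.mem_nhds ?_, ?_⟩
    · have : z ∈ q ⁻¹' (⋃ i, a i '' W i) := by rw [hpre]; exact hzV'
      exact this
    · rw [hpre]; exact hV'V

end
end Groth.Agent.Helper2.TopCharts
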