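import Mathlib
import Groth.Prelude.Def_AlgSp4
import Groth.Agent.Lib.Helper2.AlgSp.PointsMor
import Groth.Agent.Lib.Helper2.AlgSp.TopCharts2

/-!
# An immersion of algebraic spaces is an embedding on points with locally closed image (helper2)
-/

set_option autoImplicit false
open CategoryTheory CategoryTheory.Limits AlgebraicGeometry Opposite AlgSp Topology
open Groth.Agent.Helper2.AlgSpBasic

namespace Groth.Agent.Helper2.ImmTop
universe u
variable {S : Scheme.{u}}

theorem main {Z X : Sp S} (hX : IsAlgSpace X) (i : Z ⟶ X) (hi : RepWith @IsImmersion i) :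
    IsEmbedding (Points.map i) ∧ IsLocallyClosed (Set.range (Points.map i)) := by
  obtain ⟨U, p, hpe, hps⟩ := hX.atlas
  have hrep := hi.rep
  have sq := hrep.isPullback p
  haveI himm : IsImmersion (hrep.snd p).left := hi.property p _ _ sq
  have comm : ∀ (_ : PUnit.{1}) x, Points.map p (Points.map ((yon S).map (hrep.snd p)) x) =
      Points.map i (Points.map (hrep.fst p) x) := by
    intro _ x
    rw [← Points.map_comp, ← Points.map_comp, sq.w]
  have cart : ∀ (_ : PUnit.{1}) z u, Points.map i z = Points.map p u →
      ∃ x, Points.map (hrep.fst p) x = z ∧ Points.map ((yon S).map (hrep.snd p)) x = u :=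
    fun _ z u e => points_exists_of_isPullback p i (hrep.fst p) _ sq z u e
  have hsurj : ∀ b : Points X, ∃ (_ : PUnit.{1}) (u : Points ((yon S).obj U)),
      Points.map p u = b := by
    intro b
    obtain ⟨t, ht⟩ := surjective_ofPt p hps b
    exact ⟨⟨⟩, Points.ofScheme U t, by rw [← Points.ofPt_eq_map_ofScheme]; exact ht⟩
  have ha : ∀ _ : PUnit.{1}, IsOpenMap (Points.map p) :=
    fun _ => isOpenMap_points_map_of_etale p hpe
  have hemb : IsEmbedding (Points.map ((yon S).map (hrep.snd p))) := by
    rw [Points.map_yon_map_eq]
    exact (Points.schemeHomeo U).isEmbedding.comp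
      ((hrep.snd p).left.isEmbedding.comp (Points.schemeHomeo _).symm.isEmbedding)
  refine ⟨⟨?_, ?_⟩, ?_⟩
  · exact TopCharts.isInducing_of_charts (Points.map i)
      (fun _ : PUnit.{1} => Points.map ((yon S).map (hrep.snd p))) (fun _ => Points.map p)
      (fun _ => Points.map (hrep.fst p)) cart hsurj ha (fun _ => Points.continuous_map _)
      (Points.continuous_map _) (fun _ => hemb.isInducing)
  · exact TopCharts.injective_of_charts (Points.map i)
      (fun _ : PUnit.{1} => Points.map ((yon S).map (hrep.snd p))) (fun _ => Points.map p)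
      (fun _ => Points.map (hrep.fst p)) cart hsurj (fun _ => hemb.injective)
  · refine TopCharts.isLocallyClosed_of_charts (fun _ : PUnit.{1} => Points.map p) hsurj ha
      (fun _ => Points.continuous_map _) _ fun j => ?_
    rw [TopCharts.preimage_range_of_charts (Points.map i)
      (fun _ : PUnit.{1} => Points.map ((yon S).map (hrep.snd p))) (fun _ => Points.map p)
      (fun _ => Points.map (hrep.fst p)) comm cart j]
    rw [Points.map_yon_map_eq]
    have : Set.range (⇑(Points.schemeHomeo U) ∘ (fun t => (hrep.snd p).left t) ∘
        ⇑(Points.schemeHomeo (hrep.pullback p)).symm) =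
        (Points.schemeHomeo U).symm ⁻¹' Set.range (hrep.snd p).left := by
      ext y
      constructor
      · rintro ⟨x, rfl⟩
        exact ⟨(Points.schemeHomeo _).symm x, by simp⟩
      · rintro ⟨t, ht⟩
        refine ⟨Points.schemeHomeo _ t, ?_⟩
        simp only [Function.comp_apply, Homeomorph.symm_apply_apply]
        rw [ht, Homeomorph.apply_symm_apply]
    rw [this]
    exact (hrep.snd p).left.isLocallyClosed_range.preimage (Points.schemeHomeo U).symm.continuous

end Groth.Agent.Helper2.ImmTop
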