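import Mathlib
import Groth.Agent.Lib.Helper2.AlgSp.ImmTop
import Groth.Agent.Lib.Helper2.AlgSp.UnivTop
import Groth.Agent.Lib.Helper4.UnivClosed

/-!
# Affine spaces over schemes over `S`, and base change of closed maps along immersions (helper2)
-/

set_option autoImplicit false
set_option linter.style.haveILetI false

open CategoryTheory CategoryTheory.Limits AlgebraicGeometry Opposite AlgSp TopologicalSpace

universe u

namespace Groth.Agent.Helper2.AffSp

open Groth.Agent.Helper2.AlgSpBasic

variable {S : Scheme.{u}}

/-- Affine space over a scheme over `S`. -/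
noncomputable abbrev affSp (I : Type u) (W : Over S) : Over S :=
  Over.mk ((𝔸(I; W.left) ↘ W.left) ≫ W.hom)

/-- The projection. -/
noncomputable abbrev affSpπ (I : Type u) (W : Over S) : affSp I W ⟶ W :=
  Over.homMk (𝔸(I; W.left) ↘ W.left) rfl

/-- Functoriality in the base. -/
noncomputable def affSpMap (I : Type u) {W' W : Over S} (j : W' ⟶ W) : affSp I W' ⟶ affSp I W :=
  Over.homMk (AffineSpace.map I j.left) (by
    show AffineSpace.map I j.left ≫ (𝔸(I; W.left) ↘ W.left) ≫ W.hom = _
    rw [← Category.assoc, AffineSpace.map_over, Category.assoc, Over.w j]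
    rfl)

/-- Reindexing. -/
noncomputable def affSpReindex {I I' : Type u} (ι : I' → I) (W : Over S) :
    affSp I W ⟶ affSp I' W :=
  Over.homMk (AffineSpace.reindex ι W.left) (by
    show AffineSpace.reindex ι W.left ≫ (𝔸(I'; W.left) ↘ W.left) ≫ W.hom = _
    rw [← Category.assoc, AffineSpace.reindex_over]
    rfl)

theorem affSpReindex_π {I I' : Type u} (ι : I' → I) (W : Over S) :
    affSpReindex ι W ≫ affSpπ I' W = affSpπ I W := by
  apply Over.OverMorphism.ext
  exact AffineSpace.reindex_over _ _

/-- Base change of a closed map (on points) along an immersion of schemes is closed. -/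
theorem isClosedMap_points_of_isPullback_immersion {P P' : Sp S} {B B' : Over S}
    (hP : IsAlgSpace P) (π : P ⟶ (yon S).obj B) (k : B' ⟶ B) [IsImmersion k.left]
    (k' : P' ⟶ P) (π' : P' ⟶ (yon S).obj B')
    (sq : IsPullback k' π' π ((yon S).map k)) (h : IsClosedMap (Points.map π)) :
    IsClosedMap (Points.map π') := by
  have hk' : RepWith @IsImmersion k' :=
    repWith_of_isPullback @IsImmersion sq.flip
      ((repWith_yon_map_iff @IsImmersion k).mpr inferInstance)
  obtain ⟨hemb, -⟩ := Groth.Agent.Helper2.ImmTop.main hP k' hk'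
  have hkinj : Function.Injective (Points.map ((yon S).map k)) := by
    rw [Points.map_yon_map_eq]
    exact (Points.schemeHomeo B).injective.comp
      (k.left.isEmbedding.injective.comp (Points.schemeHomeo B').symm.injective)
  have hcomm : ∀ x, Points.map ((yon S).map k) (Points.map π' x) =
      Points.map π (Points.map k' x) := by
    intro x
    rw [← Points.map_comp, ← Points.map_comp, sq.w]
  intro Z hZ
  have heq : Points.map π' '' Z = Points.map ((yon S).map k) ⁻¹'
      (Points.map π '' closure (Points.map k' '' Z)) := by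
    ext t'
    constructor
    · rintro ⟨z, hz, rfl⟩
      exact ⟨Points.map k' z, subset_closure ⟨z, hz, rfl⟩, (hcomm z).symm⟩
    · rintro ⟨a, ha, hat⟩
      obtain ⟨x'', hx1, hx2⟩ := points_exists_of_isPullback ((yon S).map k) π k' π' sq a t' hat
      have hx''Z : x'' ∈ Z := by
        rw [← hZ.closure_eq, hemb.closure_eq_preimage_closure_image, Set.mem_preimage, hx1]
        exact ha
      exact ⟨x'', hx''Z, hx2⟩
  rw [heq]
  exact (h _ isClosed_closure).preimage (Points.continuous_map _)

/-- Closedness of the base change of `q` to a scheme over the base. -/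
def ClosedOver {Q : Sp S} {V : Over S} (q : Q ⟶ (yon S).obj V) {B : Over S} (b : B ⟶ V) : Prop :=
  ∀ (P : Sp S) (fst : P ⟶ Q) (snd : P ⟶ (yon S).obj B),
    IsPullback fst snd q ((yon S).map b) → IsClosedMap (Points.map snd)

/-- Closedness passes to immersions. -/
theorem ClosedOver.of_immersion {Q : Sp S} (hQ : IsAlgSpace Q) {V : Over S}
    (q : Q ⟶ (yon S).obj V) {B B' : Over S}
    (b : B ⟶ V) (b' : B' ⟶ V) (k : B' ⟶ B) [IsImmersion k.left] (hk : k ≫ b = b')
    (h : IsClosedMap (Points.map (pullback.snd q ((yon S).map b)))) : ClosedOver q b' := by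
  intro P' fst' snd' sq'
  have sqP := IsPullback.of_hasPullback q ((yon S).map b)
  have hP : IsAlgSpace (pullback q ((yon S).map b)) :=
    isAlgSpace_of_isPullback (IsAlgSpace.yon_obj V).diag hQ (IsAlgSpace.yon_obj B) _ _ _ _ sqP
  have hl : fst' ≫ q = (snd' ≫ (yon S).map k) ≫ (yon S).map b := by
    rw [Category.assoc, ← Functor.map_comp, hk]
    exact sq'.w
  have sqL : IsPullback (sqP.lift fst' (snd' ≫ (yon S).map k) hl) snd'
      (pullback.snd q ((yon S).map b)) ((yon S).map k) := by
    refine IsPullback.of_right ?_ (sqP.lift_snd _ _ hl) sqP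
    rw [sqP.lift_fst, ← Functor.map_comp, hk]
    exact sq'
  exact isClosedMap_points_of_isPullback_immersion hP _ k _ snd' sqL h

end Groth.Agent.Helper2.AffSp
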