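import Mathlib
import Groth.Agent.Lib.Helper2.AlgSp.AffSp

/-!
# Polynomial charts of the base change of a morphism to affine spaces (helper2)
-/

set_option autoImplicit false
set_option linter.style.haveILetI false

open CategoryTheory CategoryTheory.Limits AlgebraicGeometry Opposite AlgSp TopologicalSpace
open Groth.Agent.Lib.Helper4

universe u

namespace Groth.Agent.Helper2.AffSp

open Groth.Agent.Helper2.AlgSpBasic

variable {S : Scheme.{u}}

section Chart

variable {V : Over S} (C : CommRingCat.{u}) (j : Spec C ⟶ V.left)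

/-- The chart source, a scheme over `S`. -/
noncomputable abbrev chU : Over S := Over.mk (j ≫ V.hom)

/-- Its morphism to `V`. -/
noncomputable abbrev chu₀ : chU C j ⟶ V := Over.homMk j rfl

/-- The polynomial ring over the chart. -/
noncomputable abbrev chUJ (J : Type u) : Over S :=
  Over.mk (Spec.map (CommRingCat.ofHom (MvPolynomial.C (σ := J) (R := C))) ≫ (chU C j).hom)

noncomputable abbrev chUJπ (J : Type u) : chUJ C j J ⟶ chU C j :=
  Over.homMk (Spec.map (CommRingCat.ofHom (MvPolynomial.C (σ := J) (R := C)))) rfl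

theorem chart_over (J : Type u) :
    UC.chart J C j ≫ (𝔸(J; V.left) ↘ V.left) =
      Spec.map (CommRingCat.ofHom (MvPolynomial.C (σ := J) (R := C))) ≫ j := by
  unfold UC.chart
  rw [Category.assoc, AffineSpace.map_over, ← Category.assoc, AffineSpace.SpecIso_inv_over]

/-- The chart of the affine space. -/
noncomputable def chd (J : Type u) : chUJ C j J ⟶ affSp J V :=
  Over.homMk (UC.chart J C j) (by
    show UC.chart J C j ≫ (𝔸(J; V.left) ↘ V.left) ≫ V.hom = _
    rw [← Category.assoc, chart_over, Category.assoc]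
    rfl)

theorem isPullback_chd_left (J : Type u) :
    IsPullback (chUJπ C j J).left (chd C j J).left (chu₀ C j).left (affSpπ J V).left := by
  have h := (AffineSpace.isPullback_map (n := J) j).flip
  refine IsPullback.of_iso h (AffineSpace.SpecIso J C) (Iso.refl _) (Iso.refl _) (Iso.refl _)
    ?_ ?_ ?_ ?_
  · show (𝔸(J; Spec C) ↘ Spec C) ≫ 𝟙 _ = (AffineSpace.SpecIso J C).hom ≫ Spec.map _
    rw [Category.comp_id, ← AffineSpace.SpecIso_inv_over, Iso.hom_inv_id_assoc]
  · show AffineSpace.map J j ≫ 𝟙 _ = (AffineSpace.SpecIso J C).hom ≫ UC.chart J C j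
    unfold UC.chart
    rw [Category.comp_id, Iso.hom_inv_id_assoc]
  · simp
  · simp

theorem isPullback_chd (J : Type u) :
    IsPullback ((yon S).map (chUJπ C j J)) ((yon S).map (chd C j J)) ((yon S).map (chu₀ C j))
      ((yon S).map (affSpπ J V)) :=
  yon_isPullback_of_left _ _ _ _ (isPullback_chd_left C j J)

/-- Reindexing of polynomial rings over the chart. -/
noncomputable def chReindex {J J' : Type u} (ι : J' → J) : chUJ C j J ⟶ chUJ C j J' :=
  Over.homMk (Spec.map (CommRingCat.ofHom
    (MvPolynomial.rename ι : MvPolynomial J' C →ₐ[C] MvPolynomial J C).toRingHom)) (by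
    show Spec.map _ ≫ Spec.map _ ≫ _ = Spec.map _ ≫ _
    rw [← Category.assoc, ← Spec.map_comp]
    congr 2
    ext x
    simp)

theorem chReindex_π {J J' : Type u} (ι : J' → J) :
    chReindex C j ι ≫ chUJπ C j J' = chUJπ C j J := by
  apply Over.OverMorphism.ext
  show Spec.map _ ≫ Spec.map _ = Spec.map _
  rw [← Spec.map_comp]
  congr 1
  ext x
  simp

theorem chReindex_chd {J J' : Type u} (ι : J' → J) :
    chd C j J ≫ affSpReindex ι V = chReindex C j ι ≫ chd C j J' := by
  apply Over.OverMorphism.ext
  exact UC.chart_reindex ι C j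

end Chart

end Groth.Agent.Helper2.AffSp
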