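import Mathlib
import Groth.Agent.Lib.Helper2.AlgSp.AffSpChart

/-!
# Base change of a morphism to affine spaces: charts and reindexing (helper2)
-/

set_option autoImplicit false
set_option linter.style.haveILetI false

open CategoryTheory CategoryTheory.Limits AlgebraicGeometry Opposite AlgSp TopologicalSpace
open Groth.Agent.Lib.Helper4

universe u

namespace Groth.Agent.Helper2.AffSp

open Groth.Agent.Helper2.AlgSpBasic

variable {S : Scheme.{u}}

section PJ

variable {V : Over S} {Q : Sp S} (q : Q ⟶ (yon S).obj V)

/-- The base change of `q` to the affine space. -/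
noncomputable abbrev PJ (J : Type u) : Sp S := pullback q ((yon S).map (affSpπ J V))

/-- Reindexing of the base changes. -/
noncomputable def PJr {J J' : Type u} (ι : J' → J) : PJ q J ⟶ PJ q J' :=
  pullback.lift (pullback.fst _ _) (pullback.snd _ _ ≫ (yon S).map (affSpReindex ι V)) (by
    rw [Category.assoc, ← Functor.map_comp, affSpReindex_π]
    exact pullback.condition)

theorem PJr_fst {J J' : Type u} (ι : J' → J) :
    PJr q ι ≫ pullback.fst _ _ = pullback.fst _ _ := pullback.lift_fst _ _ _

theorem PJr_snd {J J' : Type u} (ι : J' → J) :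
    PJr q ι ≫ pullback.snd _ _ = pullback.snd _ _ ≫ (yon S).map (affSpReindex ι V) :=
  pullback.lift_snd _ _ _

variable (C : CommRingCat.{u}) (j : Spec C ⟶ V.left) (jX : (yon S).obj (chU C j) ⟶ Q)
  (hjX : jX ≫ q = (yon S).map (chu₀ C j))

/-- The chart of the base change. -/
noncomputable def chc (J : Type u) : (yon S).obj (chUJ C j J) ⟶ PJ q J :=
  pullback.lift ((yon S).map (chUJπ C j J) ≫ jX) ((yon S).map (chd C j J)) (by
    rw [Category.assoc, hjX]
    exact (isPullback_chd C j J).w)

theorem chc_fst (J : Type u) :
    chc q C j jX hjX J ≫ pullback.fst _ _ = (yon S).map (chUJπ C j J) ≫ jX :=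
  pullback.lift_fst _ _ _

theorem chc_snd (J : Type u) :
    chc q C j jX hjX J ≫ pullback.snd _ _ = (yon S).map (chd C j J) :=
  pullback.lift_snd _ _ _

theorem isPullback_chc (J : Type u) :
    IsPullback (chc q C j jX hjX J) ((yon S).map (chUJπ C j J)) (pullback.fst _ _) jX := by
  refine IsPullback.of_right ?_ (chc_fst q C j jX hjX J)
    (IsPullback.of_hasPullback q ((yon S).map (affSpπ J V))).flip
  rw [chc_snd, hjX]
  exact (isPullback_chd C j J).flip

theorem chc_PJr {J J' : Type u} (ι : J' → J) :
    chc q C j jX hjX J ≫ PJr q ι = (yon S).map (chReindex C j ι) ≫ chc q C j jX hjX J' := by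
  apply pullback.hom_ext
  · rw [Category.assoc, PJr_fst, chc_fst, Category.assoc, chc_fst, ← Category.assoc,
      ← Functor.map_comp, chReindex_π]
  · rw [Category.assoc, PJr_snd, ← Category.assoc, chc_snd, Category.assoc, chc_snd,
      ← Functor.map_comp, ← Functor.map_comp, chReindex_chd]

theorem isPullback_chc_PJr {J J' : Type u} (ι : J' → J) :
    IsPullback ((yon S).map (chReindex C j ι)) (chc q C j jX hjX J) (chc q C j jX hjX J')
      (PJr q ι) := by
  refine IsPullback.of_right ?_ (chc_PJr q C j jX hjX ι).symm (isPullback_chc q C j jX hjX J').flip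
  rw [← Functor.map_comp, chReindex_π, PJr_fst]
  exact (isPullback_chc q C j jX hjX J).flip

end PJ

end Groth.Agent.Helper2.AffSp
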