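import Mathlib
import Groth.Agent.Lib.Helper2.AlgSp.AffSpChart2

/-!
# The finiteness argument for closedness over affine spaces, for algebraic spaces (helper2)
-/

set_option autoImplicit false
set_option linter.style.haveILetI false

open CategoryTheory CategoryTheory.Limits AlgebraicGeometry Opposite AlgSp TopologicalSpace
open Groth.Agent.Lib.Helper4 MvPolynomial

universe u

namespace Groth.Agent.Helper2.AffSp

open Groth.Agent.Helper2.AlgSpBasic

variable {S : Scheme.{u}}

section Core

variable {V : Over S} {Q : Sp S} (q : Q ⟶ (yon S).obj V)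
  (C R : CommRingCat.{u}) (jS : Spec R ⟶ V.left) (φ : R ⟶ C)
  (jX : (yon S).obj (chU C (Spec.map φ ≫ jS)) ⟶ Q)
  (hjX : jX ≫ q = (yon S).map (chu₀ C (Spec.map φ ≫ jS)))

theorem chart_eq (J : Type u) :
    UC.chart J C (Spec.map φ ≫ jS) =
      Spec.map (CommRingCat.ofHom (MvPolynomial.map (σ := J) φ.hom)) ≫ UC.chart J R jS := by
  have h := UC.chart_map J (𝟙 V.left) C R (Spec.map φ ≫ jS) jS φ (Category.comp_id _)
  rwa [AffineSpace.map_id, Category.comp_id] at h

/-- The chart on points. -/
noncomputable def che (J : Type u) (w : ↥(Spec (CommRingCat.of (MvPolynomial J C)))) :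
    Points (PJ q J) :=
  Points.map (chc q C (Spec.map φ ≫ jS) jX hjX J)
    (Points.schemeHomeo (chUJ C (Spec.map φ ≫ jS) J) w)

theorem continuous_che (J : Type u) : Continuous (che q C R jS φ jX hjX J) :=
  (Points.continuous_map _).comp (Points.schemeHomeo _).continuous

theorem snd_che (J : Type u) (w : ↥(Spec (CommRingCat.of (MvPolynomial J C)))) :
    Points.map (pullback.snd q ((yon S).map (affSpπ J V))) (che q C R jS φ jX hjX J w) =
      Points.schemeHomeo (affSp J V) ((UC.chart J R jS).base
        (PrimeSpectrum.comap (MvPolynomial.map φ.hom) w)) := by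
  unfold che
  rw [← Points.map_comp, chc_snd, Points.map_yon_map_apply]
  congr 1
  show (UC.chart J C (Spec.map φ ≫ jS)).base w = _
  rw [chart_eq]
  rfl

end Core

end Groth.Agent.Helper2.AffSp
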