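import Mathlib
import Groth.Agent.Lib.Helper2.AlgSp.AffSpCore

/-!
# The finiteness argument for closedness over affine spaces, for algebraic spaces, II (helper2)
-/

set_option autoImplicit false
set_option linter.style.haveILetI false

open CategoryTheory CategoryTheory.Limits AlgebraicGeometry Opposite AlgSp TopologicalSpace
open Groth.Agent.Lib.Helper4 MvPolynomial

universe u

namespace Groth.Agent.Helper2.AffSp

open Groth.Agent.Helper2.AlgSpBasic

variable {S : Scheme.{u}}

section Core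

variable {V : Over S} {Q : Sp S} (q : Q ⟶ (yon S).obj V)
  (C R : CommRingCat.{u}) (jS : Spec R ⟶ V.left) (φ : R ⟶ C)
  (jX : (yon S).obj (chU C (Spec.map φ ≫ jS)) ⟶ Q)
  (hjX : jX ≫ q = (yon S).map (chu₀ C (Spec.map φ ≫ jS)))

theorem isOpenMap_che (hjXe : RepWith @Etale jX) (J : Type u) :
    IsOpenMap (che q C R jS φ jX hjX J) := by
  have h1 : RepWith @Etale (chc q C (Spec.map φ ≫ jS) jX hjX J) :=
    repWith_of_isPullback @Etale (isPullback_chc q C (Spec.map φ ≫ jS) jX hjX J).flip hjXe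
  exact (isOpenMap_points_map_of_etale _ h1).comp (Points.schemeHomeo _).isOpenMap

theorem mem_range_che [IsOpenImmersion jS]
    (hrange : ∀ x : Points Q, (Points.schemeHomeo V).symm (Points.map q x) ∈ Set.range jS.base →
      x ∈ Set.range (Points.map jX))
    (J : Type u) (z' : Points (PJ q J)) (b : ↥𝔸(J; V.left))
    (hz' : Points.map (pullback.snd q ((yon S).map (affSpπ J V))) z' =
      Points.schemeHomeo (affSp J V) b)
    (hb : (𝔸(J; V.left) ↘ V.left).base b ∈ Set.range jS.base) :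
    z' ∈ Set.range (che q C R jS φ jX hjX J) := by
  have h1 : Points.map q (Points.map (pullback.fst q ((yon S).map (affSpπ J V))) z') =
      Points.schemeHomeo V ((𝔸(J; V.left) ↘ V.left).base b) := by
    rw [← Points.map_comp, pullback.condition, Points.map_comp, hz', Points.map_yon_map_apply]
    rfl
  obtain ⟨u, hu⟩ := hrange (Points.map (pullback.fst q ((yon S).map (affSpπ J V))) z') (by
    rw [h1, Homeomorph.symm_apply_apply]
    exact hb)
  obtain ⟨p, hp1, -⟩ := points_exists_of_isPullback jX (pullback.fst q ((yon S).map (affSpπ J V)))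
    (chc q C (Spec.map φ ≫ jS) jX hjX J) ((yon S).map (chUJπ C (Spec.map φ ≫ jS) J))
    (isPullback_chc q C (Spec.map φ ≫ jS) jX hjX J) z' u hu.symm
  refine ⟨(Points.schemeHomeo _).symm p, ?_⟩
  unfold che
  rw [Homeomorph.apply_symm_apply, hp1]

include hjX in
theorem core_sp [IsOpenImmersion jS] (hjXe : RepWith @Etale jX)
    (hrange : ∀ x : Points Q, (Points.schemeHomeo V).symm (Points.map q x) ∈ Set.range jS.base →
      x ∈ Set.range (Points.map jX))
    (I : Type u)
    (Hfin : ∀ s : Finset I,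
      IsClosedMap (Points.map (pullback.snd q ((yon S).map (affSpπ ↥s V)))))
    (Z : Set (Points (PJ q I))) (hZ : IsClosed Z)
    (tV : ↥(Spec (CommRingCat.of (MvPolynomial I R))))
    (ht : Points.schemeHomeo (affSp I V) ((UC.chart I R jS).base tV) ∉
      Points.map (pullback.snd q ((yon S).map (affSpπ I V))) '' Z) :
    ∃ O : Set (Points ((yon S).obj (affSp I V))), IsOpen O ∧
      Points.schemeHomeo (affSp I V) ((UC.chart I R jS).base tV) ∈ O ∧
      ∀ z ∈ Z, Points.map (pullback.snd q ((yon S).map (affSpπ I V))) z ∉ O := by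
  classical
  have hcl : IsClosed (che q C R jS φ jX hjX I ⁻¹' Z) :=
    hZ.preimage (continuous_che q C R jS φ jX hjX I)
  obtain ⟨a, ha⟩ := (PrimeSpectrum.isClosed_iff_zeroLocus_ideal _).1 hcl
  have hp : tV ∉ PrimeSpectrum.comap (MvPolynomial.map φ.hom) ''
      PrimeSpectrum.zeroLocus (a : Set (MvPolynomial I C)) := by
    rintro ⟨w, hw, hwt⟩
    apply ht
    rw [← ha] at hw
    refine ⟨che q C R jS φ jX hjX I w, hw, ?_⟩
    rw [snd_che, hwt]
  obtain ⟨s₀, hs₀⟩ := UC.core φ.hom a tV hp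
  obtain ⟨α, hαa, hα⟩ := hs₀ s₀ (Finset.Subset.refl _)
  -- notation
  obtain ⟨r, hr⟩ : ∃ r : PJ q I ⟶ PJ q ↥s₀, r = PJr q (Subtype.val : ↥s₀ → I) := ⟨_, rfl⟩
  set Z' : Set (Points (PJ q ↥s₀)) := closure (Points.map r '' Z) with hZ'
  set t' : ↥𝔸(↥s₀; V.left) :=
    (AffineSpace.reindex (Subtype.val : ↥s₀ → I) V.left).base ((UC.chart I R jS).base tV)
    with ht'
  have ht'eq : t' = (UC.chart ↥s₀ R jS).base (PrimeSpectrum.comap
      (rename (Subtype.val : ↥s₀ → I) : MvPolynomial ↥s₀ R →ₐ[R] MvPolynomial I R).toRingHom tV) := by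
    have h3 := UC.chart_reindex (Subtype.val : ↥s₀ → I) R jS
    have h4 := congrArg (fun g => g.base tV) h3
    exact h4
  have ht'over : (𝔸(↥s₀; V.left) ↘ V.left).base t' ∈ Set.range jS.base := by
    have h1 : (𝔸(↥s₀; V.left) ↘ V.left).base t' =
        (𝔸(I; V.left) ↘ V.left).base ((UC.chart I R jS).base tV) := by
      rw [ht', ← TopCat.comp_app, ← Scheme.Hom.comp_base, AffineSpace.reindex_over]
    rw [h1]
    have h2 : (UC.chart I R jS).base tV ∈ Set.range (UC.chart I R jS).base := ⟨tV, rfl⟩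
    rw [UC.range_chart] at h2
    exact h2
  -- the closed set F
  set F : Set ↥(Spec (CommRingCat.of (MvPolynomial ↥s₀ C))) := PrimeSpectrum.zeroLocus {α} with hF
  have hFcl : IsClosed F := PrimeSpectrum.isClosed_zeroLocus _
  have hsubF : che q C R jS φ jX hjX ↥s₀ ⁻¹' (Points.map r '' Z) ⊆ F := by
    rintro w'' ⟨z, hzZ, hzw⟩
    obtain ⟨p, hp1, hp2⟩ := points_exists_of_isPullback (PJr q (Subtype.val : ↥s₀ → I))
      (chc q C (Spec.map φ ≫ jS) jX hjX ↥s₀)
      ((yon S).map (chReindex C (Spec.map φ ≫ jS) (Subtype.val : ↥s₀ → I)))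
      (chc q C (Spec.map φ ≫ jS) jX hjX I)
      (isPullback_chc_PJr q C (Spec.map φ ≫ jS) jX hjX (Subtype.val : ↥s₀ → I))
      (Points.schemeHomeo _ w'') z (by rw [← hr]; exact hzw.symm)
    obtain ⟨w, rfl⟩ := (Points.schemeHomeo _).surjective p
    have hwZ : w ∈ PrimeSpectrum.zeroLocus (a : Set (MvPolynomial I C)) := by
      rw [← ha]
      show che q C R jS φ jX hjX I w ∈ Z
      unfold che
      rw [hp2]
      exact hzZ
    rw [Points.map_yon_map_apply] at hp1
    have hw'' : w'' = (chReindex C (Spec.map φ ≫ jS) (Subtype.val : ↥s₀ → I)).left w :=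
      ((Points.schemeHomeo _).injective hp1).symm
    rw [hw'']
    have h5 : rename (Subtype.val : ↥s₀ → I) α ∈ w.asIdeal := hwZ hαa
    exact (PrimeSpectrum.mem_zeroLocus _ _).2 (Set.singleton_subset_iff.2 h5)
  have ht'n : Points.schemeHomeo (affSp ↥s₀ V) t' ∉
      Points.map (pullback.snd q ((yon S).map (affSpπ ↥s₀ V))) '' Z' := by
    rintro ⟨z', hz', hz't'⟩
    obtain ⟨w', rfl⟩ := mem_range_che q C R jS φ jX hjX hrange ↥s₀ z' t' hz't' ht'over
    have hw'F : w' ∈ F := by
      have h1 : w' ∈ che q C R jS φ jX hjX ↥s₀ ⁻¹' closure (Points.map r '' Z) := hz'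
      have h2 := (isOpenMap_che q C R jS φ jX hjX hjXe ↥s₀).preimage_closure_subset_closure_preimage h1
      exact (closure_minimal hsubF hFcl) h2
    have hαw' : α ∈ w'.asIdeal :=
      Set.singleton_subset_iff.1 ((PrimeSpectrum.mem_zeroLocus _ _).1 hw'F)
    apply hα w' hαw'
    rw [snd_che] at hz't'
    have h3 := (Points.schemeHomeo (affSp ↥s₀ V)).injective hz't'
    rw [ht'eq] at h3
    exact (UC.chart ↥s₀ R jS).isOpenEmbedding.injective h3
  refine ⟨Points.map ((yon S).map (affSpReindex (Subtype.val : ↥s₀ → I) V)) ⁻¹'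
    (Points.map (pullback.snd q ((yon S).map (affSpπ ↥s₀ V))) '' Z')ᶜ, ?_, ?_, ?_⟩
  · exact (Hfin s₀ Z' isClosed_closure).isOpen_compl.preimage (Points.continuous_map _)
  · show Points.map _ _ ∉ _
    rw [Points.map_yon_map_apply]
    exact ht'n
  · intro z hz hzO
    apply hzO
    refine ⟨Points.map r z, subset_closure ⟨z, hz, rfl⟩, ?_⟩
    rw [← Points.map_comp, ← Points.map_comp, hr, PJr_snd]

end Core

end Groth.Agent.Helper2.AffSp
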