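import Mathlib
import Groth.Agent.Lib.Helper2.AlgSp.AffSpCore2
import Groth.Agent.Lib.Helper2.AlgSp.QC
import Groth.Agent.Lib.Helper2.AlgSp.OpenSub

/-!
# From finitely many variables to arbitrarily many (helper2)
-/

set_option autoImplicit false
set_option linter.style.haveILetI false

open CategoryTheory CategoryTheory.Limits AlgebraicGeometry Opposite AlgSp TopologicalSpace
open Groth.Agent.Lib.Helper4 MvPolynomial

universe u

namespace Groth.Agent.Helper2.AffSp

open Groth.Agent.Helper2.AlgSpBasic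

variable {S : Scheme.{u}}

/-- Existence of a polynomial chart over an affine open of the base. -/
theorem exists_chart {V : Over S} {Q : Sp S} (hQ : IsAlgSpace Q) (q : Q ⟶ (yon S).obj V)
    (hq : IsQuasiCompactMor q) (V' : V.left.Opens) (hV' : IsAffineOpen V') :
    ∃ (C : CommRingCat.{u}) (φ : Γ(V.left, V') ⟶ C)
      (jX : (yon S).obj (chU C (Spec.map φ ≫ hV'.fromSpec)) ⟶ Q),
      jX ≫ q = (yon S).map (chu₀ C (Spec.map φ ≫ hV'.fromSpec)) ∧ RepWith @Etale jX ∧
      ∀ x : Points Q, (Points.schemeHomeo V).symm (Points.map q x) ∈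
        Set.range hV'.fromSpec.base → x ∈ Set.range (Points.map jX) := by
  haveI : IsAffine (opensOver V').left := hV'
  have sqQ := IsPullback.of_hasPullback q ((yon S).map (opensOverι V'))
  have hQ' : IsAlgSpace (pullback q ((yon S).map (opensOverι V'))) :=
    isAlgSpace_of_isPullback (IsAlgSpace.yon_obj V).diag hQ (IsAlgSpace.yon_obj _) _ _ _ _ sqQ
  have hqc : IsQuasiCompactSp (pullback q ((yon S).map (opensOverι V'))) :=
    hq (IsAlgSpace.yon_obj _) ((isQuasiCompactSp_yon_iff _).mpr inferInstance) _ _ _ sqQ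
  obtain ⟨U₀, jX₀, hU₀, hjX₀e, hjX₀s⟩ := (isQuasiCompactSp_iff_exists_affine_chart hQ').mp hqc
  haveI : IsAffine U₀.left := hU₀
  obtain ⟨m, hm⟩ := (yon S).map_surjective (jX₀ ≫ pullback.snd q ((yon S).map (opensOverι V')))
  set R : CommRingCat.{u} := Γ(V.left, V') with hR
  set jS : Spec R ⟶ V.left := hV'.fromSpec with hjS
  have hrS : Set.range jS.base = V' := hV'.range_fromSpec
  have hrange0 : Set.range (U₀.left.isoSpec.inv ≫ m.left ≫ V'.ι).base ⊆ Set.range jS.base := by
    rw [hrS]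
    rintro _ ⟨y, rfl⟩
    exact (m.left.base (U₀.left.isoSpec.inv.base y)).2
  let l : Spec Γ(U₀.left, ⊤) ⟶ Spec R :=
    IsOpenImmersion.lift jS (U₀.left.isoSpec.inv ≫ m.left ≫ V'.ι) hrange0
  have hl : l ≫ jS = U₀.left.isoSpec.inv ≫ m.left ≫ V'.ι := IsOpenImmersion.lift_fac _ _ _
  obtain ⟨φ, hφ⟩ : ∃ φ : R ⟶ Γ(U₀.left, ⊤), Spec.map φ = l := ⟨Spec.preimage l, Spec.map_preimage l⟩
  have hjeq : Spec.map φ ≫ jS = U₀.left.isoSpec.inv ≫ m.left ≫ V'.ι := by rw [hφ, hl]
  have he0 : U₀.left.isoSpec.inv ≫ U₀.hom = (chU Γ(U₀.left, ⊤) (Spec.map φ ≫ jS)).hom := by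
    show _ = (Spec.map φ ≫ jS) ≫ V.hom
    rw [hjeq, ← Over.w m]
    simp only [Category.assoc]
    rfl
  let e : chU Γ(U₀.left, ⊤) (Spec.map φ ≫ jS) ⟶ U₀ := Over.homMk U₀.left.isoSpec.inv he0
  have hee : RepWith @Etale ((yon S).map e) :=
    (repWith_yon_map_iff @Etale e).mpr (inferInstanceAs (Etale U₀.left.isoSpec.inv))
  have hfe : RepWith @Etale (pullback.fst q ((yon S).map (opensOverι V'))) :=
    repWith_of_isPullback @Etale sqQ.flip
      ((repWith_yon_map_iff @Etale (opensOverι V')).mpr (inferInstanceAs (Etale V'.ι)))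
  refine ⟨Γ(U₀.left, ⊤), φ, (yon S).map e ≫ jX₀ ≫ pullback.fst q _, ?_, ?_, ?_⟩
  · rw [Category.assoc, Category.assoc, pullback.condition, ← Category.assoc jX₀, ← hm,
      ← Functor.map_comp, ← Functor.map_comp]
    congr 1
    apply Over.OverMorphism.ext
    show U₀.left.isoSpec.inv ≫ m.left ≫ V'.ι = Spec.map φ ≫ jS
    exact hjeq.symm
  · exact repWith_comp @Etale hee (repWith_comp @Etale hjX₀e hfe)
  · intro x hx
    rw [hrS] at hx
    -- the point of V'
    obtain ⟨v', hv'⟩ : ∃ v' : ↥(opensOver V').left,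
        (opensOverι V').left v' = (Points.schemeHomeo V).symm (Points.map q x) := ⟨⟨_, hx⟩, rfl⟩
    have h1 : Points.map q x = Points.map ((yon S).map (opensOverι V'))
        (Points.schemeHomeo (opensOver V') v') := by
      rw [Points.map_yon_map_apply, hv', Homeomorph.apply_symm_apply]
    obtain ⟨p, hp1, -⟩ := points_exists_of_isPullback ((yon S).map (opensOverι V')) q
      (pullback.fst q _) (pullback.snd q _) sqQ x _ h1
    obtain ⟨u₀, rfl⟩ := surjective_ofPt jX₀ hjX₀s p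
    refine ⟨Points.schemeHomeo _ (U₀.left.isoSpec.hom.base u₀), ?_⟩
    rw [Points.map_comp, Points.map_yon_map_apply, Points.map_comp, ← hp1]
    congr 1
    have h2 : e.left (U₀.left.isoSpec.hom.base u₀) = u₀ := by
      show (U₀.left.isoSpec.hom ≫ U₀.left.isoSpec.inv).base u₀ = u₀
      rw [Iso.hom_inv_id]
      rfl
    rw [h2]
    exact (Points.ofPt_eq_map_ofScheme jX₀ u₀).symm

/-- Closedness over affine spaces in finitely many variables implies closedness over affine
spaces in arbitrarily many variables. -/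
theorem isClosedMap_of_forall_finite {V : Over S} {Q : Sp S} (hQ : IsAlgSpace Q)
    (q : Q ⟶ (yon S).obj V) (hq : IsQuasiCompactMor q)
    (Hfin : ∀ (I' : Type u) [Finite I'],
      IsClosedMap (Points.map (pullback.snd q ((yon S).map (affSpπ I' V)))))
    (I : Type u) : IsClosedMap (Points.map (pullback.snd q ((yon S).map (affSpπ I V)))) := by
  intro Z hZ
  rw [← isOpen_compl_iff, isOpen_iff_forall_mem_open]
  intro t' ht'
  obtain ⟨t, rfl⟩ := (Points.schemeHomeo (affSp I V)).surjective t'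
  obtain ⟨_, ⟨V', hV', rfl⟩, hsV, -⟩ := V.left.isBasis_affineOpens.exists_subset_of_mem_open
    (Set.mem_univ ((𝔸(I; V.left) ↘ V.left).base t)) isOpen_univ
  have hV'a : IsAffineOpen V' := hV'
  obtain ⟨C, φ, jX, hjX, hjXe, hrange⟩ := exists_chart hQ q hq V' hV'a
  have htr : t ∈ Set.range (UC.chart I Γ(V.left, V') hV'a.fromSpec).base := by
    rw [UC.range_chart, hV'a.range_fromSpec]
    exact hsV
  obtain ⟨tV, rfl⟩ := htr
  obtain ⟨O, hO, htO, hOZ⟩ := core_sp q C Γ(V.left, V') hV'a.fromSpec φ jX hjX hjXe hrange I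
    (fun s => Hfin ↥s) Z hZ tV ht'
  refine ⟨O, ?_, hO, htO⟩
  rintro y hy ⟨z, hz, rfl⟩
  exact hOZ z hz hy

end Groth.Agent.Helper2.AffSp
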