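import Mathlib
import Groth.Agent.Lib.Helper2.AlgSp.AffSpKL

/-!
# Universal closedness from closedness over affine spaces (helper2)
-/

set_option autoImplicit false
set_option linter.style.haveILetI false

open CategoryTheory CategoryTheory.Limits AlgebraicGeometry Opposite AlgSp TopologicalSpace
open Groth.Agent.Lib.Helper4 MvPolynomial

universe u

namespace Groth.Agent.Helper2.AffSp

open Groth.Agent.Helper2.AlgSpBasic

variable {S : Scheme.{u}}

theorem isIso_reindex_of_equiv {I I' : Type u} (e : I' ≃ I) (T : Scheme.{u}) :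
    IsIso (AffineSpace.reindex (e : I' → I) T) := by
  refine ⟨AffineSpace.reindex (e.symm : I → I') T, ?_, ?_⟩
  · rw [← UC.reindex_comp']
    have h2 : ((e : I' → I) ∘ (e.symm : I → I')) = id := by
      funext x; simp
    rw [h2, AffineSpace.reindex_id]
  · rw [← UC.reindex_comp']
    have h2 : ((e.symm : I → I') ∘ (e : I' → I)) = id := by
      funext x; simp
    rw [h2, AffineSpace.reindex_id]

/-- Closedness over finite affine spaces. -/
theorem isClosedMap_of_finite {V : Over S} {Q : Sp S} (hQ : IsAlgSpace Q)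
    (q : Q ⟶ (yon S).obj V)
    (H : ∀ n : ℕ, IsClosedMap (Points.map
      (pullback.snd q ((yon S).map (affSpπ (ULift.{u} (Fin n)) V)))))
    (I' : Type u) [Finite I'] :
    IsClosedMap (Points.map (pullback.snd q ((yon S).map (affSpπ I' V)))) := by
  obtain ⟨n, ⟨e⟩⟩ := Finite.exists_equiv_fin I'
  let e' : ULift.{u} (Fin n) ≃ I' := (e.trans Equiv.ulift.symm).symm
  haveI : IsIso (affSpReindex (e' : ULift.{u} (Fin n) → I') V).left :=
    isIso_reindex_of_equiv e' V.left
  exact ClosedOver.of_immersion hQ q (affSpπ (ULift.{u} (Fin n)) V) (affSpπ I' V)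
    (affSpReindex (e' : ULift.{u} (Fin n) → I') V) (affSpReindex_π _ V) (H n) _ _ _
    (IsPullback.of_hasPullback _ _)

/-- Universal closedness from closedness over affine spaces, over a scheme. -/
theorem isUnivClosedMor_of_affSp {V : Over S} {Q : Sp S} (hQ : IsAlgSpace Q)
    (q : Q ⟶ (yon S).obj V) (hq : IsQuasiCompactMor q)
    (H : ∀ n : ℕ, IsClosedMap (Points.map
      (pullback.snd q ((yon S).map (affSpπ (ULift.{u} (Fin n)) V))))) :
    IsUnivClosedMor q := by
  have KL : ∀ I : Type u,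
      IsClosedMap (Points.map (pullback.snd q ((yon S).map (affSpπ I V)))) :=
    isClosedMap_of_forall_finite hQ q hq (fun I' _ => isClosedMap_of_finite hQ q H I')
  refine isUnivClosedMor_of_affine q fun Z hZ g P fst snd sq => ?_
  obtain ⟨g₀, rfl⟩ := (yon S).map_surjective g
  -- affine opens of `Z` mapping into affine opens of `V`
  have hex : ∀ z : ↥Z.left, ∃ Z' : Z.left.Opens, IsAffineOpen Z' ∧ z ∈ Z' ∧
      ∃ V' : V.left.Opens, IsAffineOpen V' ∧ Z' ≤ g₀.left ⁻¹ᵁ V' := by
    intro z
    obtain ⟨_, ⟨V', hV', rfl⟩, hsV, -⟩ := V.left.isBasis_affineOpens.exists_subset_of_mem_open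
      (Set.mem_univ (g₀.left.base z)) isOpen_univ
    obtain ⟨_, ⟨Z', hZ', rfl⟩, hsZ', hle⟩ := Z.left.isBasis_affineOpens.exists_subset_of_mem_open
      (show z ∈ ((g₀.left ⁻¹ᵁ V' : Z.left.Opens) : Set ↥Z.left) from hsV) (g₀.left ⁻¹ᵁ V').2
    exact ⟨Z', hZ', hsZ', V', hV', hle⟩
  choose Z' hZ'aff hZ'mem V' hV'aff hle using hex
  refine isClosedMap_points_of_chartFamily snd (fun z : ↥Z.left => opensOver (Z' z))
    (fun z => (yon S).map (opensOverι (Z' z)))
    (fun z => (repWith_yon_map_iff @Etale (opensOverι (Z' z))).mpr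
      (inferInstanceAs (Etale (Z' z).ι)))
    (fun y => ?_) (fun z => pullback snd ((yon S).map (opensOverι (Z' z))))
    (fun z => pullback.fst _ _) (fun z => pullback.snd _ _)
    (fun z => IsPullback.of_hasPullback _ _) (fun z => ?_)
  · obtain ⟨z, rfl⟩ := (Points.schemeHomeo Z).surjective y
    refine ⟨z, ⟨z, hZ'mem z⟩, ?_⟩
    rw [Points.ofPt_eq_map_ofScheme]
    exact Points.map_yon_map_apply (opensOverι (Z' z)) ⟨z, hZ'mem z⟩
  · haveI : IsAffine (Z' z : Scheme.{u}) := hZ'aff z
    obtain ⟨I, k, hk, hkh⟩ := UC.exists_immersion_affineSpace' ((Z' z).ι ≫ g₀.left) (V' z)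
      (hV'aff z) (by
        rintro _ ⟨y, rfl⟩
        rw [Scheme.Hom.comp_base, TopCat.comp_app]
        exact hle z y.2)
    have hk0 : k ≫ (affSp I V).hom = (opensOver (Z' z)).hom := by
      show k ≫ (𝔸(I; V.left) ↘ V.left) ≫ V.hom = (Z' z).ι ≫ Z.hom
      rw [← Category.assoc, hkh, Category.assoc, Over.w g₀]
    let kO : opensOver (Z' z) ⟶ affSp I V := Over.homMk k hk0
    haveI : IsImmersion kO.left := hk
    have hkO : kO ≫ affSpπ I V = opensOverι (Z' z) ≫ g₀ := by
      apply Over.OverMorphism.ext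
      exact hkh
    have hco := ClosedOver.of_immersion hQ q (affSpπ I V) (opensOverι (Z' z) ≫ g₀) kO hkO (KL I)
    refine hco _ (pullback.fst snd ((yon S).map (opensOverι (Z' z))) ≫ fst) _ ?_
    rw [Functor.map_comp]
    exact (IsPullback.of_hasPullback snd ((yon S).map (opensOverι (Z' z)))).paste_horiz sq

end Groth.Agent.Helper2.AffSp
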