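import Mathlib
import Groth.Agent.Lib.Helper2.AlgSp.AffSpUC

/-!
# S10053: universally closed quasi-compact morphisms via affine spaces (helper2)
-/

set_option autoImplicit false
set_option linter.style.haveILetI false

open CategoryTheory CategoryTheory.Limits AlgebraicGeometry Opposite AlgSp TopologicalSpace

universe u

namespace Groth.Agent.Helper2.AffSp

open Groth.Agent.Helper2.AlgSpBasic

variable {S : Scheme.{u}}

/-- (3) ⟹ (1). -/
theorem isUnivClosedMor_of_affSp_cover {X Y : Space S} (f : X ⟶ Y)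
    (hqc : IsQuasiCompactMor f.hom) (V : Over S) (p : (yon S).obj V ⟶ Y.obj)
    (hpe : RepWith @Etale p) (hps : RepWith @Surjective p)
    (H : ∀ (n : ℕ) (P : Sp S) (fst : P ⟶ X.obj)
      (snd : P ⟶ (yon S).obj (affSp (ULift.{u} (Fin n)) V)),
      IsPullback fst snd f.hom ((yon S).map (affSpπ (ULift.{u} (Fin n)) V) ≫ p) →
        IsClosedMap (Points.map snd)) :
    IsUnivClosedMor f.hom := by
  have sqQ := IsPullback.of_hasPullback f.hom p
  have hQ : IsAlgSpace (pullback f.hom p) :=
    isAlgSpace_of_isPullback Y.property.diag X.property (IsAlgSpace.yon_obj V) _ _ _ _ sqQ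
  have hq : IsQuasiCompactMor (pullback.snd f.hom p) := isQuasiCompactMor_of_isPullback sqQ hqc
  refine isUnivClosedMor_of_etale_cover f.hom p hpe hps _ _ sqQ ?_
  refine isUnivClosedMor_of_affSp hQ _ hq fun n => ?_
  exact H n _ (pullback.fst _ _ ≫ pullback.fst f.hom p) _
    ((IsPullback.of_hasPullback (pullback.snd f.hom p)
      ((yon S).map (affSpπ (ULift.{u} (Fin n)) V))).paste_horiz sqQ)

theorem S10053_main {X Y : Space S} (f : X ⟶ Y) (hqc : IsQuasiCompactMor f.hom) :
    (IsUnivClosedMor f.hom ↔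
      ∀ (Z : Space S) (g : Z ⟶ Y), LocP @LocallyOfFinitePresentation g.hom →
        ∀ (P : Sp S) (fst : P ⟶ X.obj) (snd : P ⟶ Z.obj), IsPullback fst snd f.hom g.hom →
          IsClosedMap (Points.map snd)) ∧
    (IsUnivClosedMor f.hom ↔
      ∃ (V : Over S) (p : (yon S).obj V ⟶ Y.obj), RepWith @Etale p ∧ RepWith @Surjective p ∧
        ∀ (n : ℕ) (P : Sp S) (fst : P ⟶ X.obj)
          (snd : P ⟶ (yon S).obj (affSp (ULift.{u} (Fin n)) V)),
          IsPullback fst snd f.hom ((yon S).map (affSpπ (ULift.{u} (Fin n)) V) ≫ p) →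
            IsClosedMap (Points.map snd)) := by
  have h13 : IsUnivClosedMor f.hom →
      ∃ (V : Over S) (p : (yon S).obj V ⟶ Y.obj), RepWith @Etale p ∧ RepWith @Surjective p ∧
        ∀ (n : ℕ) (P : Sp S) (fst : P ⟶ X.obj)
          (snd : P ⟶ (yon S).obj (affSp (ULift.{u} (Fin n)) V)),
          IsPullback fst snd f.hom ((yon S).map (affSpπ (ULift.{u} (Fin n)) V) ≫ p) →
            IsClosedMap (Points.map snd) := by
    intro h
    obtain ⟨V, p, hpe, hps⟩ := Y.property.atlas
    exact ⟨V, p, hpe, hps, fun n P fst snd sq => h (IsAlgSpace.yon_obj _) _ fst snd sq⟩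
  have h31 : (∃ (V : Over S) (p : (yon S).obj V ⟶ Y.obj), RepWith @Etale p ∧
      RepWith @Surjective p ∧
        ∀ (n : ℕ) (P : Sp S) (fst : P ⟶ X.obj)
          (snd : P ⟶ (yon S).obj (affSp (ULift.{u} (Fin n)) V)),
          IsPullback fst snd f.hom ((yon S).map (affSpπ (ULift.{u} (Fin n)) V) ≫ p) →
            IsClosedMap (Points.map snd)) → IsUnivClosedMor f.hom := by
    rintro ⟨V, p, hpe, hps, H⟩
    exact isUnivClosedMor_of_affSp_cover f hqc V p hpe hps H
  refine ⟨⟨fun h Z g _ P fst snd sq => h Z.property g.hom fst snd sq, fun h2 => ?_⟩, h13, h31⟩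
  obtain ⟨V, p, hpe, hps⟩ := Y.property.atlas
  refine h31 ⟨V, p, hpe, hps, fun n P fst snd sq => ?_⟩
  have hl1 : LocP @LocallyOfFinitePresentation
      ((yon S).map (affSpπ (ULift.{u} (Fin n)) V)) :=
    locP_of_repWith @LocallyOfFinitePresentation (IsAlgSpace.yon_obj _).diag _
      ((repWith_yon_map_iff @LocallyOfFinitePresentation _).mpr
        (inferInstanceAs (LocallyOfFinitePresentation
          (𝔸(ULift.{u} (Fin n); V.left) ↘ V.left))))
  have hl2 : LocP @LocallyOfFinitePresentation p :=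
    locP_mono (fun _ _ g (_ : Etale g) => (inferInstance : LocallyOfFinitePresentation g))
      (locP_of_repWith @Etale (IsAlgSpace.yon_obj _).diag _ hpe)
  have hl : LocP @LocallyOfFinitePresentation
      ((yon S).map (affSpπ (ULift.{u} (Fin n)) V) ≫ p) :=
    locP_comp @LocallyOfFinitePresentation (IsAlgSpace.yon_obj _) (IsAlgSpace.yon_obj _)
      Y.property _ _ hl1 hl2
  exact h2 ⟨(yon S).obj (affSp (ULift.{u} (Fin n)) V), IsAlgSpace.yon_obj _⟩
    (ObjectProperty.homMk ((yon S).map (affSpπ (ULift.{u} (Fin n)) V) ≫ p)) hl P fst snd sq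

end Groth.Agent.Helper2.AffSp
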