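import Mathlib
import Groth.Prelude.Def_AlgSpDec
import Groth.Agent.Lib.Helper2.AlgSp.Points
namespace Groth.Agent.Helper2.AlgSpBasic
open CategoryTheory CategoryTheory.Limits AlgebraicGeometry Opposite AlgSp Topology
universe u
variable {S : Scheme.{u}}

/-- Etale morphisms of schemes are locally quasi-finite. -/
theorem locallyQuasiFinite_of_etale_mor {P Y : Scheme.{u}} (f : P ⟶ Y) [Etale f] :
    LocallyQuasiFinite f := by
  refine ⟨fun {U} hU {V} hV e => ?_⟩
  have h := f.etale_appLE hU hV e
  algebraize [(f.appLE U V e).hom]
  change Algebra.QuasiFinite _ _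
  infer_instance

/-- An etale scheme over an algebraically closed field has a rational point at each of its points. -/
theorem exists_section_of_etale_algClosed {K : Type u} [Field K] [IsAlgClosed K] {P : Scheme.{u}}
    (f : P ⟶ Spec (.of K)) [Etale f] (p : P) :
    ∃ s : Spec (.of K) ⟶ P, s ≫ f = 𝟙 _ ∧ s (IsLocalRing.closedPoint K) = p := by
  have hq : LocallyQuasiFinite f := locallyQuasiFinite_of_etale_mor f
  have hd : _root_.IsDiscrete (f ⁻¹' {IsLocalRing.closedPoint K}) := f.isDiscrete_preimage_singleton _
  have hu : f ⁻¹' {IsLocalRing.closedPoint K} = Set.univ := by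
    ext x
    simp only [Set.mem_preimage, Set.mem_univ, iff_true]
    exact Subsingleton.elim _ _
  rw [hu] at hd
  have : DiscreteTopology P := isDiscrete_univ_iff.mp hd
  have hx : IsClosed ({p} : Set P) := isClosed_discrete _
  exact ⟨pointOfClosedPoint f p hx, pointOfClosedPoint_comp f p hx,
    pointOfClosedPoint_apply f p hx _⟩

/-- A nonempty scheme locally of finite type over an algebraically closed field has a rational point. -/
theorem exists_section_of_lft_algClosed {K : Type u} [Field K] [IsAlgClosed K] {W : Scheme.{u}}
    (h : W ⟶ Spec (.of K)) [LocallyOfFiniteType h] [Nonempty W] :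
    ∃ s : Spec (.of K) ⟶ W, s ≫ h = 𝟙 _ := by
  have : JacobsonSpace W := LocallyOfFiniteType.jacobsonSpace h
  have hne : (closedPoints W).Nonempty := by
    by_contra hcon
    rw [Set.not_nonempty_iff_eq_empty] at hcon
    have := closure_closedPoints (X := W)
    rw [hcon, closure_empty] at this
    exact Set.empty_ne_univ this
  obtain ⟨w, hw⟩ := hne
  exact ⟨pointOfClosedPoint h w hw, pointOfClosedPoint_comp h w hw⟩

/-- A scheme etale over a field is discrete. -/
theorem discreteTopology_of_etale_field {K : Type u} [Field K] {P : Scheme.{u}}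
    (f : P ⟶ Spec (.of K)) [Etale f] : DiscreteTopology P := by
  have hq : LocallyQuasiFinite f := locallyQuasiFinite_of_etale_mor f
  have hd : _root_.IsDiscrete (f ⁻¹' {IsLocalRing.closedPoint K}) := f.isDiscrete_preimage_singleton _
  have hu : f ⁻¹' {IsLocalRing.closedPoint K} = Set.univ := by
    ext x
    simp only [Set.mem_preimage, Set.mem_univ, iff_true]
    exact Subsingleton.elim (α := PrimeSpectrum K) _ _
  rw [hu] at hd
  exact isDiscrete_univ_iff.mp hd

end Groth.Agent.Helper2.AlgSpBasic
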