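import Mathlib
import Groth.Prelude.Def_AlgSp3
import Groth.Agent.Lib.Helper2.AlgSp.GeomPoint

/-!
# Rational points of algebraic spaces locally of finite type over an algebraically closed field
(helper2)
-/

set_option autoImplicit false

namespace Groth.Agent.Helper2.AlgSpBasic
open CategoryTheory CategoryTheory.Limits AlgebraicGeometry Opposite AlgSp Topology
universe u
variable {S : Scheme.{u}}

/-- A nonempty algebraic space locally of finite type over an algebraically closed field has a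
rational point. -/
theorem exists_section_of_locP_lft_algClosed {k : Type u} [Field k] [IsAlgClosed k]
    (s : Spec (CommRingCat.of k) ⟶ S) {F : Sp S} (hF : IsAlgSpace F)
    (b : F ⟶ (yon S).obj (Over.mk s)) (hb : LocP @LocallyOfFiniteType b)
    (hne : Nonempty (Points F)) :
    ∃ σ : (yon S).obj (Over.mk s) ⟶ F, σ ≫ b = 𝟙 _ := by
  obtain ⟨W, p₀, hp₀e, hp₀s⟩ := hF.atlas
  obtain ⟨x⟩ := hne
  obtain ⟨w, -⟩ := surjective_ofPt p₀ hp₀s x
  haveI : Nonempty W.left := ⟨w⟩
  obtain ⟨h, hh⟩ := (yon S).map_surjective (p₀ ≫ b)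
  have hlft : LocallyOfFiniteType h.left :=
    hb p₀ (𝟙 _) h hp₀e (repWith_id _ _) (by rw [hh, Category.comp_id])
  obtain ⟨σ₀, hσ₀⟩ := exists_section_of_lft_algClosed (K := k) (W := W.left) h.left
  have hw : σ₀ ≫ W.hom = s := by
    have e1 : h.left ≫ s = W.hom := Over.w h
    rw [← e1, ← Category.assoc, hσ₀, Category.id_comp]
  let σ₁ : Over.mk s ⟶ W := Over.homMk σ₀ hw
  refine ⟨(yon S).map σ₁ ≫ p₀, ?_⟩
  rw [Category.assoc, ← hh, ← (yon S).map_comp]
  have : σ₁ ≫ h = 𝟙 _ := Over.OverMorphism.ext hσ₀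
  rw [this, (yon S).map_id]

end Groth.Agent.Helper2.AlgSpBasic
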