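import Mathlib
import Groth.Agent.Lib.Helper2.AlgSp.ZarGlue
import Groth.Agent.Lib.Helper2.AlgSp.FormalLift
import Groth.Agent.Lib.Helper2.AlgSp.FormalUnr
import Groth.Agent.Lib.Helper2.AlgSp.OpenSub

/-!
# Coproducts of fppf sheaves (helper2)

Basic facts on a colimit cofan `c` of a family `F i` of fppf sheaves over `S`: the coprojections
are monomorphisms, jointly locally surjective, pairwise disjoint, and representable by open and
closed immersions.
-/

set_option autoImplicit false
open CategoryTheory CategoryTheory.Limits AlgebraicGeometry Opposite AlgSp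
open Groth.Agent.Helper2.AlgSpBasic

namespace Groth.Agent.Helper2.Coprod
universe u w
variable {S : Scheme.{u}}

/-- A covering sieve of the big fppf site contains a jointly surjective family of flat morphisms
locally of finite presentation. -/
theorem exists_family_of_mem_J {T : Over S} (R : Sieve T) (hR : R ∈ J S T) :
    ∃ (κ : Type u) (W : κ → Over S) (p : ∀ k, W k ⟶ T),
      (∀ k, (@Flat ⊓ @LocallyOfFinitePresentation : MorphismProperty Scheme.{u}) (p k).left) ∧
      (∀ x : T.left, ∃ k, x ∈ Set.range (p k).left) ∧ ∀ k, R.arrows (p k) := by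
  have h1 : Sieve.overEquiv T R ∈ Scheme.fppfTopology T.left :=
    (GrothendieckTopology.mem_over_iff _ _).1 hR
  haveI : Scheme.fppfPrecoverage.{u}.HasIsos := by
    unfold Scheme.fppfPrecoverage; infer_instance
  haveI : Scheme.fppfPrecoverage.{u}.HasPullbacks := by
    unfold Scheme.fppfPrecoverage; infer_instance
  obtain ⟨R₀, hR₀, hle⟩ :=
    Precoverage.mem_toGrothendieck_iff_of_isStableUnderComposition.1 h1
  obtain ⟨κ, Y, f, rfl⟩ := R₀.exists_eq_ofArrows
  rw [Scheme.fppfPrecoverage, Scheme.ofArrows_mem_precoverage_iff] at hR₀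
  obtain ⟨hsurj, hP⟩ := hR₀
  choose i hi using hsurj
  refine ⟨↥T.left, fun x => Over.mk (f (i x) ≫ T.hom), fun x => Over.homMk (f (i x)) rfl,
    fun x => hP (i x), fun x => ⟨x, hi x⟩, fun x => ?_⟩
  have h2 : (Sieve.overEquiv T R).arrows (f (i x)) := hle _ _ (Presieve.ofArrows.mk (i x))
  exact (Sieve.overEquiv_iff _ _).1 h2

/-- A subsheaf of an algebraic space whose inclusion is representable is an algebraic space. -/
theorem isAlgSpace_of_representable_mono {Z Y : Sp S} (j : Z ⟶ Y) [Mono j]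
    (hj : Representable j) (hY : IsAlgSpace Y) : IsAlgSpace Z where
  diag := representable_diag_of_mono j hY.diag
  atlas := by
    obtain ⟨U, a, hae, has⟩ := hY.atlas
    have sq := hj.isPullback a
    exact ⟨hj.pullback a, hj.fst a, repWith_of_isPullback @Etale sq.flip hae,
      repWith_of_isPullback @Surjective sq.flip has⟩

/-- Maps from the sheaf of an empty scheme are unique. -/
theorem hom_ext_of_isEmpty {Q : Over S} (hQ : IsEmpty Q.left) {X : Sp S}
    (a b : (yon S).obj Q ⟶ X) : a = b :=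
  Groth.Agent.Helper2.AlgSpFormal.hom_ext_of_family (fun e : PEmpty.{1} => e.elim)
    (fun e => e.elim) (fun e => e.elim) (fun x => (hQ.false x).elim) a b (fun e => e.elim)

section SigmaOver

variable {ι : Type u} (U : ι → Over S)

/-- The disjoint union of a family of schemes over `S`, as a scheme over `S`. -/
noncomputable def sigmaOver : Over S :=
  Over.mk (Sigma.desc (fun i => (U i).hom) : (∐ fun i => (U i).left) ⟶ S)

/-- The coprojections of the disjoint union of a family of schemes over `S`. -/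
noncomputable def sigmaOverι (i : ι) : U i ⟶ sigmaOver U :=
  Over.homMk (Sigma.ι (fun i => (U i).left) i) (by simp [sigmaOver])

instance (i : ι) : IsOpenImmersion (sigmaOverι U i).left :=
  inferInstanceAs (IsOpenImmersion (Sigma.ι (fun i => (U i).left) i))

theorem sigmaOverι_fppf (i : ι) :
    (@Flat ⊓ @LocallyOfFinitePresentation : MorphismProperty Scheme.{u}) (sigmaOverι U i).left :=
  ⟨inferInstance, inferInstance⟩

theorem sigmaOverι_covers (x : (sigmaOver U).left) :
    ∃ i, x ∈ Set.range (sigmaOverι U i).left := by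
  obtain ⟨i, y, hy⟩ := (sigmaOpenCover (fun i => (U i).left)).exists_eq x
  exact ⟨i, y, hy⟩

theorem isEmpty_of_sigmaOverι_eq {i j : ι} (hij : i ≠ j) {Q : Over S} (qi : Q ⟶ U i)
    (qj : Q ⟶ U j) (h : qi ≫ sigmaOverι U i = qj ≫ sigmaOverι U j) : IsEmpty Q.left :=
  isEmpty_of_commSq_sigmaι_of_ne (g := fun i => (U i).left)
    ⟨congrArg (fun φ => φ.left) h⟩ hij

instance (i : ι) : Mono (sigmaOverι U i) := by
  haveI : Mono (sigmaOverι U i).left := inferInstance
  exact (Over.forget S).mono_of_mono_map ‹_›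

/-- `h` of a disjoint union of schemes is the coproduct of the `h`'s: existence of the map
induced by a family. -/
theorem exists_desc_sigmaOver {X : Sp S} (g : ∀ i, (yon S).obj (U i) ⟶ X) :
    ∃ p : (yon S).obj (sigmaOver U) ⟶ X, ∀ i, (yon S).map (sigmaOverι U i) ≫ p = g i := by
  classical
  apply Groth.Agent.Helper2.AlgSpFormal.exists_glue_of_family U (sigmaOverι U)
    (sigmaOverι_fppf U) (sigmaOverι_covers U) g
  intro i j Q qi qj e
  by_cases hij : i = j
  · subst hij
    rw [(cancel_mono _).mp e]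
  · exact hom_ext_of_isEmpty (isEmpty_of_sigmaOverι_eq U hij qi qj e) _ _

theorem hom_ext_sigmaOver {X : Sp S} (a b : (yon S).obj (sigmaOver U) ⟶ X)
    (h : ∀ i, (yon S).map (sigmaOverι U i) ≫ a = (yon S).map (sigmaOverι U i) ≫ b) : a = b :=
  Groth.Agent.Helper2.AlgSpFormal.hom_ext_of_family U (sigmaOverι U)
    (sigmaOverι_fppf U) (sigmaOverι_covers U) a b h

/-- `h` of a disjoint union of schemes over `S` is the coproduct of the `h`'s. -/
noncomputable def isColimitYonSigmaOver :
    IsColimit (Cofan.mk ((yon S).obj (sigmaOver U)) (fun i => (yon S).map (sigmaOverι U i))) :=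
  mkCofanColimit _ (fun s => (exists_desc_sigmaOver U (fun i => s.inj i)).choose)
    (fun s i => (exists_desc_sigmaOver U (fun i => s.inj i)).choose_spec i)
    (fun s m hm => hom_ext_sigmaOver U _ _ (fun i => by
      rw [(exists_desc_sigmaOver U (fun i => s.inj i)).choose_spec i]
      exact hm i))

end SigmaOver

section Cofan

variable {ι : Type w} {F : ι → Sp S} (c : Cofan F) (hc : IsColimit c)

/-- The subfunctor of sections of the coproduct lying in one of the summands. -/
def summands : Subfunctor c.pt.obj where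
  obj T := {s | ∃ (i : ι) (x : (F i).obj.obj T), (c.inj i).hom.app T x = s}
  map := by
    rintro U V f _ ⟨i, x, rfl⟩
    exact ⟨i, (F i).obj.map f x, NatTrans.naturality_apply (c.inj i).hom f x⟩

include hc in
/-- Every section of a coproduct of sheaves lies locally in one of the summands. -/
theorem summands_sheafify_eq_top : (summands c).sheafify (J S) = ⊤ := by
  have hsh : Presieve.IsSheaf (J S) c.pt.obj := (isSheaf_iff_isSheaf_of_type _ _).1 c.pt.property
  let G := (summands c).sheafify (J S)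
  let 𝒢 : Sp S := ⟨G.toFunctor, (isSheaf_iff_isSheaf_of_type _ _).2
    ((summands c).sheafify_isSheaf hsh)⟩
  let ι𝒢 : 𝒢 ⟶ c.pt := ⟨G.ι⟩
  let l : ∀ i, F i ⟶ 𝒢 := fun i => ⟨Subfunctor.lift (c.inj i).hom (by
    rintro T _ ⟨x, rfl⟩
    exact (summands c).le_sheafify (J S) T ⟨i, x, rfl⟩)⟩
  have hl : ∀ i, l i ≫ ι𝒢 = c.inj i := fun i => rfl
  let r : c.pt ⟶ 𝒢 := Cofan.IsColimit.desc hc l
  have hr : r ≫ ι𝒢 = 𝟙 _ := by
    apply Cofan.IsColimit.hom_ext hc
    intro i
    rw [← Category.assoc, Cofan.IsColimit.fac, hl, Category.comp_id]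
  rw [eq_top_iff]
  intro T s _
  have h1 : ι𝒢.hom.app T (r.hom.app T s) = s := by
    have := congrArg (fun φ : c.pt ⟶ c.pt => φ.hom.app T s) hr
    exact this
  rw [← h1]
  exact (r.hom.app T s).2

include hc in
/-- Every map from a representable sheaf to a coproduct of sheaves factors, fppf locally, through
one of the summands. -/
theorem exists_local_lift {T : Over S} (s : (yon S).obj T ⟶ c.pt) :
    ∃ (κ : Type u) (W : κ → Over S) (p : ∀ k, W k ⟶ T),
      (∀ k, (@Flat ⊓ @LocallyOfFinitePresentation : MorphismProperty Scheme.{u}) (p k).left) ∧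
      (∀ x : T.left, ∃ k, x ∈ Set.range (p k).left) ∧
      ∀ k, ∃ (i : ι) (x : (yon S).obj (W k) ⟶ F i), x ≫ c.inj i = (yon S).map (p k) ≫ s := by
  have hmem : (J S).uliftYonedaEquiv s ∈ ((summands c).sheafify (J S)).obj (op T) := by
    rw [summands_sheafify_eq_top c hc]; trivial
  obtain ⟨κ, W, p, hp, hs, hR⟩ := exists_family_of_mem_J _ hmem
  refine ⟨κ, W, p, hp, hs, fun k => ?_⟩
  obtain ⟨i, x, hx⟩ := hR k
  refine ⟨i, (J S).uliftYonedaEquiv.symm x, ?_⟩
  apply (J S).uliftYonedaEquiv.injective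
  rw [GrothendieckTopology.uliftYonedaEquiv_comp, Equiv.apply_symm_apply,
    ← GrothendieckTopology.uliftYonedaEquiv_naturality]
  exact hx

include hc in
theorem mono_inj (i : ι)
    [HasCoproduct (fun k : ((Set.range (fun _ : Unit ↦ i))ᶜ : Set ι) ↦ F k.1)] :
    Mono (c.inj i) :=
  MonoCoprod.mono_inj F c hc i

/-- The scheme `S ⨿ S` over `S`. -/
noncomputable abbrev two (S : Scheme.{u}) : Over S := Over.mk (coprod.desc (𝟙 S) (𝟙 S))

noncomputable abbrev twoL (S : Scheme.{u}) : Over.mk (𝟙 S) ⟶ two S :=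
  Over.homMk (coprod.inl : S ⟶ S ⨿ S) (coprod.inl_desc _ _)

noncomputable abbrev twoR (S : Scheme.{u}) : Over.mk (𝟙 S) ⟶ two S :=
  Over.homMk (coprod.inr : S ⟶ S ⨿ S) (coprod.inr_desc _ _)

/-- `h_S` is a terminal sheaf. -/
noncomputable def isTerminalYonId (S : Scheme.{u}) :
    IsTerminal ((yon S).obj (Over.mk (𝟙 S))) :=
  IsTerminal.isTerminalObj (yon S) _ Over.mkIdTerminal

theorem isEmpty_of_twoL_eq_twoR {T : Over S} (t : T ⟶ Over.mk (𝟙 S))
    (h : t ≫ twoL S = t ≫ twoR S) : IsEmpty T.left := by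
  refine ⟨fun x => ?_⟩
  have h1 := congrArg (fun φ => φ.left x) h
  exact AlgebraicGeometry.inl_ne_inr _ _ _ _ h1

include hc in
/-- Distinct summands of a coproduct of sheaves are disjoint. -/
theorem isEmpty_of_inj_eq {i j : ι} (hij : i ≠ j) {T : Over S} (a : (yon S).obj T ⟶ F i)
    (b : (yon S).obj T ⟶ F j) (h : a ≫ c.inj i = b ≫ c.inj j) : IsEmpty T.left := by
  classical
  let tm : ∀ G : Sp S, G ⟶ (yon S).obj (Over.mk (𝟙 S)) := fun G => (isTerminalYonId S).from G
  let χ : c.pt ⟶ (yon S).obj (two S) := Cofan.IsColimit.desc hc (fun k =>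
    if k = i then tm (F k) ≫ (yon S).map (twoL S) else tm (F k) ≫ (yon S).map (twoR S))
  have hχi : c.inj i ≫ χ = tm (F i) ≫ (yon S).map (twoL S) := by
    rw [Cofan.IsColimit.fac, if_pos rfl]
  have hχj : c.inj j ≫ χ = tm (F j) ≫ (yon S).map (twoR S) := by
    rw [Cofan.IsColimit.fac, if_neg (Ne.symm hij)]
  let t : T ⟶ Over.mk (𝟙 S) := Over.homMk T.hom (by simp)
  have ht : ∀ (G : Sp S) (x : (yon S).obj T ⟶ G), x ≫ tm G = (yon S).map t :=
    fun G x => (isTerminalYonId S).hom_ext _ _
  have h2 : (yon S).map (t ≫ twoL S) = (yon S).map (t ≫ twoR S) := by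
    calc (yon S).map (t ≫ twoL S) = (a ≫ tm (F i)) ≫ (yon S).map (twoL S) := by
          rw [Functor.map_comp, ht]
      _ = (a ≫ c.inj i) ≫ χ := by rw [Category.assoc, Category.assoc, hχi]
      _ = (b ≫ c.inj j) ≫ χ := by rw [h]
      _ = (b ≫ tm (F j)) ≫ (yon S).map (twoR S) := by rw [Category.assoc, Category.assoc, hχj]
      _ = (yon S).map (t ≫ twoR S) := by rw [Functor.map_comp, ht]
  exact isEmpty_of_twoL_eq_twoR t ((yon S).map_injective h2)

theorem exists_point_of_isPullback_scheme {P X Y Z : Scheme.{u}} {fst : P ⟶ X} {snd : P ⟶ Y}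
    {f : X ⟶ Z} {g : Y ⟶ Z} (sq : IsPullback fst snd f g) (x : X) (y : Y) (h : f x = g y) :
    ∃ z : P, fst z = x ∧ snd z = y := by
  obtain ⟨z, hz1, hz2⟩ := Scheme.Pullback.exists_preimage_pullback x y h
  refine ⟨sq.isoPullback.inv z, ?_, ?_⟩
  · rw [← Scheme.Hom.comp_apply, sq.isoPullback_inv_fst]; exact hz1
  · rw [← Scheme.Hom.comp_apply, sq.isoPullback_inv_snd]; exact hz2

include hc in
/-- The coprojections of a coproduct of sheaves are representable by open and closed
immersions. -/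
theorem exists_rep_inj (i : ι)
    [HasCoproduct (fun k : ((Set.range (fun _ : Unit ↦ i))ᶜ : Set ι) ↦ F k.1)]
    {T : Over S} (s : (yon S).obj T ⟶ c.pt) :
    ∃ (O : T.left.Opens) (a : (yon S).obj (opensOver O) ⟶ F i),
      IsPullback a ((yon S).map (opensOverι O)) (c.inj i) s ∧ IsClosed (O : Set T.left) := by
  classical
  haveI := mono_inj c hc i
  obtain ⟨κ, W, p, hp, hs, hx⟩ := exists_local_lift c hc s
  choose ik xk hxk using hx
  haveI : ∀ k, Flat (p k).left := fun k => (hp k).1
  haveI : ∀ k, LocallyOfFinitePresentation (p k).left := fun k => (hp k).2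
  have hx' : ∀ (j : ι) (k : κ) (h : ik k = j),
      (xk k ≫ eqToHom (congrArg F h)) ≫ c.inj j = (yon S).map (p k) ≫ s := by
    intro j k h; subst h; simpa using hxk k
  -- key: the index of a chart is determined by any lift
  have hkey : ∀ (Q : Over S) (β : Q ⟶ T) (j : ι) (α : (yon S).obj Q ⟶ F j),
      α ≫ c.inj j = (yon S).map β ≫ s → ∀ (q : Q.left) (k : κ) (w : (W k).left),
      (p k).left w = β.left q → ik k = j := by
    intro Q β j α hα q k w hw
    by_contra hne
    have sqO := IsPullback.of_hasPullback β (p k)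
    obtain ⟨q', -, -⟩ := exists_point_of_isPullback_scheme (sqO.map (Over.forget S)) q w hw.symm
    have hE : IsEmpty (pullback β (p k)).left := by
      refine isEmpty_of_inj_eq c hc (Ne.symm hne) ((yon S).map (pullback.fst β (p k)) ≫ α)
        ((yon S).map (pullback.snd β (p k)) ≫ xk k) ?_
      rw [Category.assoc, Category.assoc, hα, hxk k, ← Category.assoc, ← Category.assoc,
        ← Functor.map_comp, ← Functor.map_comp, pullback.condition]
    exact hE.false q'
  -- the open sets
  let Oj : ι → T.left.Opens := fun j =>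
    ⟨⋃ (k : {k // ik k = j}), Set.range (p k.1).left,
      isOpen_iUnion fun k => (p k.1).left.isOpenMap.isOpen_range⟩
  have hmemO : ∀ (j : ι) (t : T.left), t ∈ Oj j ↔ ∃ k, ik k = j ∧ t ∈ Set.range (p k).left := by
    intro j t
    constructor
    · intro h
      obtain ⟨k, hk⟩ := Set.mem_iUnion.mp h
      exact ⟨k.1, k.2, hk⟩
    · rintro ⟨k, hk, ht⟩
      exact Set.mem_iUnion.mpr ⟨⟨k, hk⟩, ht⟩
  have hdisj : ∀ (j j' : ι) (t : T.left), t ∈ Oj j → t ∈ Oj j' → j = j' := by
    intro j j' t h h'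
    obtain ⟨k, hk, w, hw⟩ := (hmemO j t).mp h
    obtain ⟨l, hl, w', hw'⟩ := (hmemO j' t).mp h'
    have := hkey (W l) (p l) (ik l) (xk l) (hxk l) w' k w (hw.trans hw'.symm)
    rw [← hk, ← hl, this]
  have hclosed : IsClosed (Oj i : Set T.left) := by
    have hc' : ((Oj i : Set T.left))ᶜ = ⋃ (j : {j // j ≠ i}), (Oj j.1 : Set T.left) := by
      ext t
      constructor
      · intro ht
        obtain ⟨k, hk⟩ := hs t
        refine Set.mem_iUnion.mpr ⟨⟨ik k, fun h => ht ((hmemO i t).mpr ⟨k, h, hk⟩)⟩, ?_⟩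
        exact (hmemO _ t).mpr ⟨k, rfl, hk⟩
      · intro ht hti
        obtain ⟨j, hj⟩ := Set.mem_iUnion.mp ht
        exact j.2 (hdisj _ _ t hj hti)
    rw [← isOpen_compl_iff, hc']
    exact isOpen_iUnion fun j => (Oj j.1).2
  -- the charts over the open set
  let O := Oj i
  let κi := {k // ik k = i}
  have hr : ∀ k : κi, Set.range (p k.1).left ⊆ Set.range O.ι := by
    intro k
    rw [Scheme.Opens.range_ι]
    rintro _ ⟨w, rfl⟩
    exact (hmemO i _).mpr ⟨k.1, k.2, w, rfl⟩
  let pl : ∀ k : κi, (W k.1).left ⟶ (O : Scheme.{u}) := fun k =>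
    IsOpenImmersion.lift O.ι (p k.1).left (hr k)
  have hpl : ∀ k : κi, pl k ≫ O.ι = (p k.1).left := fun k => IsOpenImmersion.lift_fac _ _ _
  let p' : ∀ k : κi, W k.1 ⟶ opensOver O := fun k => Over.homMk (pl k) (by
    show pl k ≫ O.ι ≫ T.hom = (W k.1).hom
    rw [← Category.assoc, hpl, Over.w])
  have hp' : ∀ k : κi, p' k ≫ opensOverι O = p k.1 := fun k => Over.OverMorphism.ext (hpl k)
  have hfl' : ∀ k : κi,
      (@Flat ⊓ @LocallyOfFinitePresentation : MorphismProperty Scheme.{u}) (p' k).left := by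
    intro k
    refine MorphismProperty.of_postcomp
      (W := (@Flat ⊓ @LocallyOfFinitePresentation : MorphismProperty Scheme.{u}))
      (W' := @IsOpenImmersion) (pl k) O.ι inferInstance ?_
    rw [hpl]
    exact hp k.1
  have hs' : ∀ x : (opensOver O).left, ∃ k : κi, x ∈ Set.range (p' k).left := by
    intro x
    obtain ⟨k, hk, w, hw⟩ := (hmemO i x.1).mp x.2
    refine ⟨⟨k, hk⟩, w, ?_⟩
    apply O.ι.isOpenEmbedding.injective
    rw [← Scheme.Hom.comp_apply]
    show (pl ⟨k, hk⟩ ≫ O.ι) w = _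
    rw [hpl]
    exact hw
  obtain ⟨g, hg⟩ : ∃ g : ∀ k : κi, (yon S).obj (W k.1) ⟶ F i,
      ∀ k : κi, g k ≫ c.inj i = (yon S).map (p k.1) ≫ s :=
    ⟨fun k => xk k.1 ≫ eqToHom (congrArg F k.2), fun k => hx' i k.1 k.2⟩
  obtain ⟨a, ha⟩ := Groth.Agent.Helper2.AlgSpFormal.exists_glue_of_family (fun k : κi => W k.1) p'
    hfl' hs' g (by
      intro k l Q qk ql e
      rw [← cancel_mono (c.inj i), Category.assoc, Category.assoc, hg, hg, ← Category.assoc,
        ← Category.assoc, ← Functor.map_comp, ← Functor.map_comp, ← hp', ← hp',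
        ← Category.assoc, ← Category.assoc, e])
  have hw : a ≫ c.inj i = (yon S).map (opensOverι O) ≫ s := by
    apply Groth.Agent.Helper2.AlgSpFormal.hom_ext_of_family (fun k : κi => W k.1) p' hfl' hs'
    intro k
    rw [← Category.assoc, ha, hg, ← Category.assoc, ← Functor.map_comp, hp']
  refine ⟨O, a, ?_, hclosed⟩
  haveI : Mono (opensOverι O) := by
    haveI : Mono (opensOverι O).left := inferInstanceAs (Mono O.ι)
    exact (Over.forget S).mono_of_mono_map ‹_›
  haveI : Mono ((yon S).map (opensOverι O)) := inferInstance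
  apply Groth.Agent.Helper2.ZarGlue.isPullback_of_yon hw
  · intro Q α β' hαβ
    obtain ⟨β, rfl⟩ := (yon S).map_surjective β'
    have hβr : Set.range β.left ⊆ Set.range O.ι := by
      rw [Scheme.Opens.range_ι]
      rintro _ ⟨q, rfl⟩
      obtain ⟨k, w, hw⟩ := hs (β.left q)
      exact (hmemO i _).mpr ⟨k, hkey Q β i α hαβ q k w hw, w, hw⟩
    let βl : Q.left ⟶ (O : Scheme.{u}) := IsOpenImmersion.lift O.ι β.left hβr
    have hβl : βl ≫ O.ι = β.left := IsOpenImmersion.lift_fac _ _ _
    let β₀ : Q ⟶ opensOver O := Over.homMk βl (by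
      show βl ≫ O.ι ≫ T.hom = Q.hom
      rw [← Category.assoc, hβl, Over.w])
    have hβ₀ : β₀ ≫ opensOverι O = β := Over.OverMorphism.ext hβl
    refine ⟨(yon S).map β₀, ?_, ?_⟩
    · rw [← cancel_mono (c.inj i), Category.assoc, hw, ← Category.assoc, ← Functor.map_comp,
        hβ₀, hαβ]
    · rw [← Functor.map_comp, hβ₀]
  · intro Q l l' _ h2
    exact (cancel_mono _).mp h2

include hc in
/-- The coprojections of a coproduct of sheaves are representable by open and closed
immersions. -/
theorem repWith_inj (i : ι)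
    [HasCoproduct (fun k : ((Set.range (fun _ : Unit ↦ i))ᶜ : Set ι) ↦ F k.1)] :
    RepWith (@IsOpenImmersion ⊓ @IsClosedImmersion) (c.inj i) := by
  refine MorphismProperty.relative.of_exists fun T s => ?_
  obtain ⟨O, a, sq, hcl⟩ := exists_rep_inj c hc i s
  refine ⟨opensOver O, a, opensOverι O, sq, ?_, ?_⟩
  · exact inferInstanceAs (IsOpenImmersion O.ι)
  · show IsClosedImmersion O.ι
    exact IsClosedImmersion.of_isPreimmersion O.ι (by rw [Scheme.Opens.range_ι]; exact hcl)

include hc in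
theorem repWith_isOpenImmersion_inj (i : ι)
    [HasCoproduct (fun k : ((Set.range (fun _ : Unit ↦ i))ᶜ : Set ι) ↦ F k.1)] :
    RepWith @IsOpenImmersion (c.inj i) :=
  repWith_mono (fun _ _ _ h => h.1) (repWith_inj c hc i)

include hc in
theorem repWith_isClosedImmersion_inj (i : ι)
    [HasCoproduct (fun k : ((Set.range (fun _ : Unit ↦ i))ᶜ : Set ι) ↦ F k.1)] :
    RepWith @IsClosedImmersion (c.inj i) :=
  repWith_mono (fun _ _ _ h => h.2) (repWith_inj c hc i)

include hc in
/-- A summand of a coproduct of sheaves which is an algebraic space is an algebraic space. -/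
theorem isAlgSpace_summand (h : IsAlgSpace c.pt) (i : ι)
    [HasCoproduct (fun k : ((Set.range (fun _ : Unit ↦ i))ᶜ : Set ι) ↦ F k.1)] :
    IsAlgSpace (F i) := by
  haveI := mono_inj c hc i
  exact isAlgSpace_of_representable_mono (c.inj i) (repWith_inj c hc i).rep h

omit hc in
/-- Points of a test scheme whose map to the coproduct lifts to the `i`-th summand lie in the open
set representing the base change of the `i`-th coprojection. -/
theorem mem_of_isPullback_inj {i : ι} {T : Over S} {s : (yon S).obj T ⟶ c.pt}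
    {O : T.left.Opens} {a : (yon S).obj (opensOver O) ⟶ F i}
    (sq : IsPullback a ((yon S).map (opensOverι O)) (c.inj i) s) {Q : Over S} (β : Q ⟶ T)
    (α : (yon S).obj Q ⟶ F i) (h : α ≫ c.inj i = (yon S).map β ≫ s) (q : Q.left) :
    β.left q ∈ O := by
  obtain ⟨l₀, hl₀⟩ := (yon S).map_surjective (sq.lift α ((yon S).map β) h)
  have h1 : (yon S).map (l₀ ≫ opensOverι O) = (yon S).map β := by
    rw [Functor.map_comp, hl₀, sq.lift_snd]
  have h2 : l₀ ≫ opensOverι O = β := (yon S).map_injective h1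
  rw [← h2]
  exact (l₀.left q).2

include hc in
theorem disjoint_of_isPullback_inj {i j : ι} (hij : i ≠ j) {T : Over S}
    {s : (yon S).obj T ⟶ c.pt} {O O' : T.left.Opens} {a : (yon S).obj (opensOver O) ⟶ F i}
    {a' : (yon S).obj (opensOver O') ⟶ F j}
    (sq : IsPullback a ((yon S).map (opensOverι O)) (c.inj i) s)
    (sq' : IsPullback a' ((yon S).map (opensOverι O')) (c.inj j) s) (t : T.left) (ht : t ∈ O)
    (ht' : t ∈ O') : False := by
  let Q : Over S := opensOver (O ⊓ O')
  let r : Q ⟶ opensOver O := Over.homMk (T.left.homOfLE inf_le_left) (by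
    show T.left.homOfLE _ ≫ O.ι ≫ T.hom = (O ⊓ O').ι ≫ T.hom
    rw [← Category.assoc, Scheme.homOfLE_ι])
  let r' : Q ⟶ opensOver O' := Over.homMk (T.left.homOfLE inf_le_right) (by
    show T.left.homOfLE _ ≫ O'.ι ≫ T.hom = (O ⊓ O').ι ≫ T.hom
    rw [← Category.assoc, Scheme.homOfLE_ι])
  have hr : r ≫ opensOverι O = opensOverι (O ⊓ O') :=
    Over.OverMorphism.ext (Scheme.homOfLE_ι _ (inf_le_left : O ⊓ O' ≤ O))
  have hr' : r' ≫ opensOverι O' = opensOverι (O ⊓ O') :=
    Over.OverMorphism.ext (Scheme.homOfLE_ι _ (inf_le_right : O ⊓ O' ≤ O'))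
  have hE : IsEmpty Q.left := by
    refine isEmpty_of_inj_eq c hc hij ((yon S).map r ≫ a) ((yon S).map r' ≫ a') ?_
    rw [Category.assoc, Category.assoc, sq.w, sq'.w, ← Category.assoc, ← Category.assoc,
      ← Functor.map_comp, ← Functor.map_comp, hr, hr']
  exact hE.false ⟨t, ht, ht'⟩

include hc in
theorem exists_mem_of_isPullback_inj {T : Over S} (s : (yon S).obj T ⟶ c.pt)
    (O : ι → T.left.Opens) (a : ∀ i, (yon S).obj (opensOver (O i)) ⟶ F i)
    (sq : ∀ i, IsPullback (a i) ((yon S).map (opensOverι (O i))) (c.inj i) s) (t : T.left) :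
    ∃ i, t ∈ O i := by
  obtain ⟨κ, W, p, hp, hs, hx⟩ := exists_local_lift c hc s
  obtain ⟨k, w, hw⟩ := hs t
  obtain ⟨i, x, hxi⟩ := hx k
  refine ⟨i, ?_⟩
  rw [← hw]
  exact mem_of_isPullback_inj c (sq i) (p k) x hxi w

end Cofan

end Groth.Agent.Helper2.Coprod
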