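import Mathlib
import Groth.Agent.Lib.Helper2.AlgSp.ZarGlue
import Groth.Agent.Lib.Helper2.AlgSp.FormalUnr
import Groth.Agent.Lib.Helper2.AlgSp.Coprod

/-!
# Locally surjective maps of fppf sheaves: local lifts and descent of cartesian squares (helper2)
-/

set_option autoImplicit false
open CategoryTheory CategoryTheory.Limits AlgebraicGeometry Opposite AlgSp
open Groth.Agent.Helper2.AlgSpBasic

namespace Groth.Agent.Helper2.EpiPullback
universe u
variable {S : Scheme.{u}}

/-- Sections of the target of a locally surjective map lift along a jointly surjective family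
of flat morphisms locally of finite presentation. -/
theorem exists_family_lift {G H : Sp S} (b : H ⟶ G) [Sheaf.IsLocallySurjective b]
    {T : Over S} (g : (yon S).obj T ⟶ G) :
    ∃ (κ : Type u) (W : κ → Over S) (p : ∀ k, W k ⟶ T),
      (∀ k, (@Flat ⊓ @LocallyOfFinitePresentation : MorphismProperty Scheme.{u}) (p k).left) ∧
      (∀ x : T.left, ∃ k, x ∈ Set.range (p k).left) ∧
      ∀ k, ∃ t : (yon S).obj (W k) ⟶ H, t ≫ b = (yon S).map (p k) ≫ g := by
  obtain ⟨𝒰, h𝒰⟩ := exists_cover_of_isLocallySurjective b g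
  refine ⟨𝒰.I₀, fun i => Over.mk (𝒰.f i ≫ T.hom), fun i => Over.homMk (𝒰.f i) rfl,
    fun i => 𝒰.map_prop i, fun x => ?_, h𝒰⟩
  obtain ⟨i, y, hy⟩ := 𝒰.exists_eq x
  exact ⟨i, y, hy⟩

/-- Descent of a cartesian square along a locally surjective map: if the left square and the
outer rectangle are cartesian and `bd` is locally surjective, the right square is cartesian. -/
theorem isPullback_right_of_locallySurjective {A B C D E F : Sp S} (ac : A ⟶ C) (ab : A ⟶ B)
    (cd : C ⟶ D) (bd : B ⟶ D) (ce : C ⟶ E) (df : D ⟶ F) (ef : E ⟶ F)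
    (hl : IsPullback ac ab cd bd) (hcomm : cd ≫ df = ce ≫ ef)
    (hout : IsPullback (ac ≫ ce) ab ef (bd ≫ df)) [Sheaf.IsLocallySurjective bd] :
    IsPullback ce cd ef df := by
  have huniq : ∀ (Q : Over S) (l l' : (yon S).obj Q ⟶ C), l ≫ ce = l' ≫ ce →
      l ≫ cd = l' ≫ cd → l = l' := by
    intro Q l l' h1 h2
    obtain ⟨κ, W, p, hp, hs, hlift⟩ := exists_family_lift bd (l ≫ cd)
    apply Groth.Agent.Helper2.AlgSpFormal.hom_ext_of_family W p hp hs
    intro k
    obtain ⟨b, hb⟩ := hlift k
    have hb' : b ≫ bd = ((yon S).map (p k) ≫ l') ≫ cd := by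
      rw [hb, Category.assoc, h2]
    have hb'' : b ≫ bd = ((yon S).map (p k) ≫ l) ≫ cd := by
      rw [hb, Category.assoc]
    let a : (yon S).obj (W k) ⟶ A := hl.lift ((yon S).map (p k) ≫ l) b hb''.symm
    let a' : (yon S).obj (W k) ⟶ A := hl.lift ((yon S).map (p k) ≫ l') b hb'.symm
    have ha1 : a ≫ ac = (yon S).map (p k) ≫ l := hl.lift_fst _ _ _
    have ha2 : a ≫ ab = b := hl.lift_snd _ _ _
    have ha'1 : a' ≫ ac = (yon S).map (p k) ≫ l' := hl.lift_fst _ _ _
    have ha'2 : a' ≫ ab = b := hl.lift_snd _ _ _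
    have haa : a = a' := by
      apply hout.hom_ext
      · rw [← Category.assoc, ← Category.assoc, ha1, ha'1, Category.assoc, Category.assoc, h1]
      · rw [ha2, ha'2]
    rw [← ha1, ← ha'1, haa]
  apply Groth.Agent.Helper2.ZarGlue.isPullback_of_yon hcomm.symm ?_ huniq
  intro Q α β hαβ
  obtain ⟨κ, W, p, hp, hs, hlift⟩ := exists_family_lift bd β
  choose b hb using hlift
  have hcond : ∀ k, ((yon S).map (p k) ≫ α) ≫ ef = b k ≫ bd ≫ df := by
    intro k
    rw [Category.assoc, hαβ, ← Category.assoc, ← hb k, Category.assoc]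
  let a : ∀ k, (yon S).obj (W k) ⟶ A := fun k => hout.lift _ _ (hcond k)
  have ha1 : ∀ k, a k ≫ ac ≫ ce = (yon S).map (p k) ≫ α := fun k => hout.lift_fst _ _ _
  have ha2 : ∀ k, a k ≫ ab = b k := fun k => hout.lift_snd _ _ _
  have hcd : ∀ k, (a k ≫ ac) ≫ cd = (yon S).map (p k) ≫ β := by
    intro k
    rw [Category.assoc, hl.w, ← Category.assoc, ha2, hb]
  obtain ⟨l, hl'⟩ := Groth.Agent.Helper2.AlgSpFormal.exists_glue_of_family W p hp hs
    (fun k => a k ≫ ac) (by
      intro i j Q' qi qj hq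
      apply huniq
      · rw [Category.assoc, Category.assoc, Category.assoc, Category.assoc, ha1, ha1,
          ← Category.assoc, ← Category.assoc, ← Functor.map_comp, ← Functor.map_comp, hq]
      · calc ((yon S).map qi ≫ a i ≫ ac) ≫ cd = (yon S).map qi ≫ (a i ≫ ac) ≫ cd := by
              simp only [Category.assoc]
          _ = (yon S).map qi ≫ (yon S).map (p i) ≫ β := by rw [hcd]
          _ = (yon S).map qj ≫ (yon S).map (p j) ≫ β := by
              rw [← Category.assoc, ← Category.assoc, ← Functor.map_comp, ← Functor.map_comp, hq]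
          _ = (yon S).map qj ≫ (a j ≫ ac) ≫ cd := by rw [hcd]
          _ = ((yon S).map qj ≫ a j ≫ ac) ≫ cd := by simp only [Category.assoc])
  refine ⟨l, ?_, ?_⟩
  · apply Groth.Agent.Helper2.AlgSpFormal.hom_ext_of_family W p hp hs
    intro k
    rw [← Category.assoc, hl' k, Category.assoc, ha1]
  · apply Groth.Agent.Helper2.AlgSpFormal.hom_ext_of_family W p hp hs
    intro k
    rw [← Category.assoc, hl' k, hcd]


/-- Two sections lift simultaneously along a common family. -/
theorem exists_family_lift₂ {G H : Sp S} (b : H ⟶ G) [Sheaf.IsLocallySurjective b]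
    {T : Over S} (g₁ g₂ : (yon S).obj T ⟶ G) :
    ∃ (κ : Type u) (W : κ → Over S) (p : ∀ k, W k ⟶ T),
      (∀ k, (@Flat ⊓ @LocallyOfFinitePresentation : MorphismProperty Scheme.{u}) (p k).left) ∧
      (∀ x : T.left, ∃ k, x ∈ Set.range (p k).left) ∧
      ∀ k, ∃ t₁ t₂ : (yon S).obj (W k) ⟶ H, t₁ ≫ b = (yon S).map (p k) ≫ g₁ ∧
        t₂ ≫ b = (yon S).map (p k) ≫ g₂ := by
  have h1 := Presheaf.imageSieve_mem (J S) b.hom ((J S).uliftYonedaEquiv g₁)
  have h2 := Presheaf.imageSieve_mem (J S) b.hom ((J S).uliftYonedaEquiv g₂)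
  obtain ⟨κ, W, p, hp, hs, hR⟩ :=
    Groth.Agent.Helper2.Coprod.exists_family_of_mem_J _ ((J S).intersection_covering h1 h2)
  refine ⟨κ, W, p, hp, hs, fun k => ?_⟩
  obtain ⟨⟨t₁, ht₁⟩, ⟨t₂, ht₂⟩⟩ := hR k
  refine ⟨(J S).uliftYonedaEquiv.symm t₁, (J S).uliftYonedaEquiv.symm t₂, ?_, ?_⟩
  · apply (J S).uliftYonedaEquiv.injective
    rw [GrothendieckTopology.uliftYonedaEquiv_comp, Equiv.apply_symm_apply,
      ← GrothendieckTopology.uliftYonedaEquiv_naturality]
    exact ht₁
  · apply (J S).uliftYonedaEquiv.injective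
    rw [GrothendieckTopology.uliftYonedaEquiv_comp, Equiv.apply_symm_apply,
      ← GrothendieckTopology.uliftYonedaEquiv_naturality]
    exact ht₂

/-- If `q` coequalizes `s, t`, is an epimorphism of sheaves, and `(t, s)` maps onto the kernel
pair of `q`, then the induced map from the coequalizer is an isomorphism. -/
theorem isIso_coequalizer_desc {R U M : Sp S} (s t : R ⟶ U) (q : U ⟶ M) (w : s ≫ q = t ≫ q)
    [Epi q] [Epi (pullback.lift t s w.symm : R ⟶ pullback q q)] :
    IsIso (coequalizer.desc q w) := by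
  let d : coequalizer s t ⟶ M := coequalizer.desc q w
  let π : U ⟶ coequalizer s t := coequalizer.π s t
  have hπd : π ≫ d = q := coequalizer.π_desc q w
  haveI : Epi d := by
    haveI : Epi (π ≫ d) := by rw [hπd]; infer_instance
    exact epi_of_epi π d
  haveI : Sheaf.IsLocallySurjective π := (Sheaf.isLocallySurjective_iff_epi π).mpr inferInstance
  let j : R ⟶ pullback q q := pullback.lift t s w.symm
  haveI : Sheaf.IsLocallySurjective j := (Sheaf.isLocallySurjective_iff_epi j).mpr inferInstance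
  haveI : Mono d := by
    refine ⟨fun {A} x y hxy => ?_⟩
    apply hom_ext_yon
    intro Q c
    have hxy' : (c ≫ x) ≫ d = (c ≫ y) ≫ d := by rw [Category.assoc, Category.assoc, hxy]
    obtain ⟨κ, W, p, hp, hs, hlift⟩ := exists_family_lift₂ π (c ≫ x) (c ≫ y)
    apply Groth.Agent.Helper2.AlgSpFormal.hom_ext_of_family W p hp hs
    intro k
    obtain ⟨a, b, ha, hb⟩ := hlift k
    have hab : a ≫ q = b ≫ q := by
      calc a ≫ q = (a ≫ π) ≫ d := by rw [Category.assoc, hπd]
        _ = (yon S).map (p k) ≫ (c ≫ x) ≫ d := by rw [ha]; simp only [Category.assoc]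
        _ = (yon S).map (p k) ≫ (c ≫ y) ≫ d := by rw [hxy']
        _ = (b ≫ π) ≫ d := by rw [hb]; simp only [Category.assoc]
        _ = b ≫ q := by rw [Category.assoc, hπd]
    obtain ⟨κ', W', p', hp', hs', hlift'⟩ := exists_family_lift j (pullback.lift a b hab)
    apply Groth.Agent.Helper2.AlgSpFormal.hom_ext_of_family W' p' hp' hs'
    intro l
    obtain ⟨r, hr⟩ := hlift' l
    have hj1 : j ≫ pullback.fst q q = t := pullback.lift_fst _ _ _
    have hj2 : j ≫ pullback.snd q q = s := pullback.lift_snd _ _ _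
    have hr1 : r ≫ t = (yon S).map (p' l) ≫ a := by
      have := congrArg (· ≫ pullback.fst q q) hr
      simp only [Category.assoc] at this
      rw [hj1, pullback.lift_fst] at this
      exact this
    have hr2 : r ≫ s = (yon S).map (p' l) ≫ b := by
      have := congrArg (· ≫ pullback.snd q q) hr
      simp only [Category.assoc] at this
      rw [hj2, pullback.lift_snd] at this
      exact this
    calc (yon S).map (p' l) ≫ (yon S).map (p k) ≫ c ≫ x
        = (yon S).map (p' l) ≫ a ≫ π := by rw [ha]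
      _ = r ≫ t ≫ π := by rw [← Category.assoc, ← hr1, Category.assoc]
      _ = r ≫ s ≫ π := by rw [coequalizer.condition]
      _ = (yon S).map (p' l) ≫ b ≫ π := by rw [← Category.assoc, hr2, Category.assoc]
      _ = (yon S).map (p' l) ≫ (yon S).map (p k) ≫ c ≫ y := by rw [hb]
  exact isIso_of_mono_of_epi d

end Groth.Agent.Helper2.EpiPullback
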