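import Mathlib
import Groth.Agent.Lib.Helper2.AlgSp.EpiPullback

/-!
# Kernel pairs of maps of fppf sheaves (helper2)
-/

set_option autoImplicit false
open CategoryTheory CategoryTheory.Limits AlgebraicGeometry Opposite AlgSp
open Groth.Agent.Helper2.AlgSpBasic Groth.Agent.Helper2.EpiPullback

namespace Groth.Agent.Helper2.KernelPair
universe u
variable {S : Scheme.{u}}

/-- A representable kernel pair is an equivalence relation of schemes. -/
theorem isEqvRel_of_isPullback {X : Sp S} {R U : Over S} (s t : R ⟶ U)
    (p : (yon S).obj U ⟶ X) (h : IsPullback ((yon S).map t) ((yon S).map s) p p) :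
    IsEqvRel s t := by
  have key : ∀ (T : Over S) (a b : T ⟶ U),
      (∃ r : T ⟶ R, r ≫ t = a ∧ r ≫ s = b) ↔ (yon S).map a ≫ p = (yon S).map b ≫ p := by
    intro T a b
    constructor
    · rintro ⟨r, rfl, rfl⟩
      rw [Functor.map_comp, Functor.map_comp, Category.assoc, Category.assoc, h.w]
    · intro hab
      obtain ⟨r, hr⟩ := (yon S).map_surjective (h.lift _ _ hab)
      refine ⟨r, ?_, ?_⟩
      · apply (yon S).map_injective
        rw [Functor.map_comp, hr, h.lift_fst]
      · apply (yon S).map_injective
        rw [Functor.map_comp, hr, h.lift_snd]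
  refine ⟨fun T r r' h1 h2 => ?_, fun T => ⟨fun a => ?_, fun {a b} hab => ?_,
    fun {a b c} hab hbc => ?_⟩⟩
  · apply (yon S).map_injective
    apply h.hom_ext
    · rw [← Functor.map_comp, ← Functor.map_comp, h1]
    · rw [← Functor.map_comp, ← Functor.map_comp, h2]
  · exact (key T a a).2 rfl
  · exact (key T b a).2 ((key T a b).1 hab).symm
  · exact (key T a c).2 (((key T a b).1 hab).trans ((key T b c).1 hbc))

/-- If `(t, s)` maps onto the kernel pair of `p`, the induced map from the coequalizer of
`s, t` is a monomorphism. -/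
theorem mono_coequalizer_desc {R U X : Sp S} (s t : R ⟶ U) (p : U ⟶ X) (w : s ≫ p = t ≫ p)
    [Epi (pullback.lift t s w.symm : R ⟶ pullback p p)] :
    Mono (coequalizer.desc p w) := by
  let d : coequalizer s t ⟶ X := coequalizer.desc p w
  let π : U ⟶ coequalizer s t := coequalizer.π s t
  have hπd : π ≫ d = p := coequalizer.π_desc p w
  haveI : Sheaf.IsLocallySurjective π := (Sheaf.isLocallySurjective_iff_epi π).mpr inferInstance
  let j : R ⟶ pullback p p := pullback.lift t s w.symm
  haveI : Sheaf.IsLocallySurjective j := (Sheaf.isLocallySurjective_iff_epi j).mpr inferInstance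
  refine ⟨fun {A} x y hxy => ?_⟩
  apply hom_ext_yon
  intro Q c
  have hxy' : (c ≫ x) ≫ d = (c ≫ y) ≫ d := by rw [Category.assoc, Category.assoc, hxy]
  obtain ⟨κ, W, q, hq, hs, hlift⟩ := exists_family_lift₂ π (c ≫ x) (c ≫ y)
  apply Groth.Agent.Helper2.AlgSpFormal.hom_ext_of_family W q hq hs
  intro k
  obtain ⟨a, b, ha, hb⟩ := hlift k
  have hab : a ≫ p = b ≫ p := by
    calc a ≫ p = (a ≫ π) ≫ d := by rw [Category.assoc, hπd]
      _ = (yon S).map (q k) ≫ (c ≫ x) ≫ d := by rw [ha]; simp only [Category.assoc]
      _ = (yon S).map (q k) ≫ (c ≫ y) ≫ d := by rw [hxy']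
      _ = (b ≫ π) ≫ d := by rw [hb]; simp only [Category.assoc]
      _ = b ≫ p := by rw [Category.assoc, hπd]
  obtain ⟨κ', W', q', hq', hs', hlift'⟩ := exists_family_lift j (pullback.lift a b hab)
  apply Groth.Agent.Helper2.AlgSpFormal.hom_ext_of_family W' q' hq' hs'
  intro l
  obtain ⟨r, hr⟩ := hlift' l
  have hj1 : j ≫ pullback.fst p p = t := pullback.lift_fst _ _ _
  have hj2 : j ≫ pullback.snd p p = s := pullback.lift_snd _ _ _
  have hr1 : r ≫ t = (yon S).map (q' l) ≫ a := by
    have := congrArg (· ≫ pullback.fst p p) hr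
    simp only [Category.assoc] at this
    rw [hj1, pullback.lift_fst] at this
    exact this
  have hr2 : r ≫ s = (yon S).map (q' l) ≫ b := by
    have := congrArg (· ≫ pullback.snd p p) hr
    simp only [Category.assoc] at this
    rw [hj2, pullback.lift_snd] at this
    exact this
  calc (yon S).map (q' l) ≫ (yon S).map (q k) ≫ c ≫ x
      = (yon S).map (q' l) ≫ a ≫ π := by rw [ha]
    _ = r ≫ t ≫ π := by rw [← Category.assoc, ← hr1, Category.assoc]
    _ = r ≫ s ≫ π := by rw [coequalizer.condition]
    _ = (yon S).map (q' l) ≫ b ≫ π := by rw [← Category.assoc, hr2, Category.assoc]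
    _ = (yon S).map (q' l) ≫ (yon S).map (q k) ≫ c ≫ y := by rw [hb]

/-- Descent of a map along an epimorphism with the same kernel pair: the descended map is a
monomorphism. -/
theorem exists_desc_mono {R U M X : Sp S} (s t : R ⟶ U) (q : U ⟶ M) (p : U ⟶ X) [Epi q]
    (hq : IsPullback t s q q) (hp : IsPullback t s p p) :
    ∃ m : M ⟶ X, q ≫ m = p ∧ Mono m := by
  have wq : s ≫ q = t ≫ q := hq.w.symm
  have wp : s ≫ p = t ≫ p := hp.w.symm
  haveI : IsIso (pullback.lift t s wq.symm : R ⟶ pullback q q) := by
    have : (pullback.lift t s wq.symm : R ⟶ pullback q q) = hq.isoPullback.hom := by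
      apply pullback.hom_ext
      · rw [pullback.lift_fst, IsPullback.isoPullback_hom_fst]
      · rw [pullback.lift_snd, IsPullback.isoPullback_hom_snd]
    rw [this]
    infer_instance
  haveI : IsIso (pullback.lift t s wp.symm : R ⟶ pullback p p) := by
    have : (pullback.lift t s wp.symm : R ⟶ pullback p p) = hp.isoPullback.hom := by
      apply pullback.hom_ext
      · rw [pullback.lift_fst, IsPullback.isoPullback_hom_fst]
      · rw [pullback.lift_snd, IsPullback.isoPullback_hom_snd]
    rw [this]
    infer_instance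
  haveI : IsIso (coequalizer.desc q wq) := isIso_coequalizer_desc s t q wq
  haveI : Mono (coequalizer.desc p wp) := mono_coequalizer_desc s t p wp
  refine ⟨inv (coequalizer.desc q wq) ≫ coequalizer.desc p wp, ?_, inferInstance⟩
  have h1 : coequalizer.π s t ≫ coequalizer.desc q wq = q := coequalizer.π_desc q wq
  calc q ≫ inv (coequalizer.desc q wq) ≫ coequalizer.desc p wp
      = (coequalizer.π s t ≫ coequalizer.desc q wq) ≫ inv (coequalizer.desc q wq) ≫
          coequalizer.desc p wp := by rw [h1]
    _ = coequalizer.π s t ≫ coequalizer.desc p wp := by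
        rw [Category.assoc, IsIso.hom_inv_id_assoc]
    _ = p := coequalizer.π_desc p wp

end Groth.Agent.Helper2.KernelPair
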