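import Mathlib
import Groth.Prelude.Def_AlgSp4
import Groth.Prelude.Def_AlgSpDec
import Groth.Agent.Lib.Helper2.Alg.FieldEqvRel
import Groth.Agent.Lib.Helper2.Sch.QfAt
import Groth.Agent.Lib.Helper2.AlgSp.KernelPair
import Groth.Agent.Lib.Helper2.AlgSp.Diag
import Groth.Agent.Lib.Helper2.AlgSp.Points

/-!
# Quotient of the spectrum of a field by a quasi-compact etale equivalence relation (helper2)
-/

set_option autoImplicit false
set_option backward.isDefEq.respectTransparency false

open CategoryTheory CategoryTheory.Limits AlgebraicGeometry Opposite AlgSp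

namespace Groth.Agent.Helper2.FieldQuot
universe u
variable {S : Scheme.{u}}

/-- A quasi-compact scheme etale over the spectrum of a field is finite over it. -/
theorem isFinite_of_etale_field {K : Type u} [Field K] {R : Scheme.{u}}
    (s : R ⟶ Spec (CommRingCat.of K)) [Etale s] [CompactSpace R] : IsFinite s := by
  haveI : LocallyQuasiFinite s := QfAt.locallyQuasiFinite_of_etale s
  haveI : QuasiCompact s := inferInstance
  exact IsFinite.of_locallyQuasiFinite s

/-- Quotient of the spectrum of a field by a quasi-compact etale equivalence relation: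
scheme-level statement. -/
theorem exists_quot {K : Type u} [Field K] (str : Spec (CommRingCat.of K) ⟶ S) {R : Over S}
    (s t : R ⟶ Over.mk str) (h : IsEqvRel s t) [Etale s.left] [CompactSpace R.left] :
    ∃ (k : Subfield K) (str' : Spec (CommRingCat.of k) ⟶ S),
      Spec.map (CommRingCat.ofHom k.subtype) ≫ str' = str ∧ FiniteDimensional k K ∧
      IsPullback s.left t.left (Spec.map (CommRingCat.ofHom k.subtype))
        (Spec.map (CommRingCat.ofHom k.subtype)) := by
  haveI : IsAffine (Over.mk str).left := inferInstanceAs (IsAffine (Spec (CommRingCat.of K)))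
  haveI : IsFinite s.left :=
    isFinite_of_etale_field (K := K) (s.left : R.left ⟶ Spec (CommRingCat.of K))
  haveI : IsAffine R.left := isAffine_of_isAffineHom s.left
  let B : CommRingCat := Γ(R.left, ⊤)
  let e : R.left ≅ Spec B := R.left.isoSpec
  obtain ⟨φs, hφs⟩ : ∃ φs : CommRingCat.of K ⟶ B, Spec.map φs = e.inv ≫ s.left :=
    ⟨Spec.preimage _, Spec.map_preimage _⟩
  obtain ⟨φt, hφt⟩ : ∃ φt : CommRingCat.of K ⟶ B, Spec.map φt = e.inv ≫ t.left :=
    ⟨Spec.preimage _, Spec.map_preimage _⟩
  have hfin : φs.hom.Finite := by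
    have h1 : IsFinite (Spec.map φs) := by rw [hφs]; infer_instance
    exact (IsFinite.SpecMap_iff φs).1 h1
  have key_s : ∀ {T : CommRingCat.{u}} (f : B ⟶ T),
      (Spec.map f ≫ e.inv) ≫ s.left = Spec.map (φs ≫ f) := by
    intro T f
    rw [Category.assoc, ← hφs, ← Spec.map_comp]
  have key_t : ∀ {T : CommRingCat.{u}} (f : B ⟶ T),
      (Spec.map f ≫ e.inv) ≫ t.left = Spec.map (φt ≫ f) := by
    intro T f
    rw [Category.assoc, ← hφt, ← Spec.map_comp]
  have hws : s.left ≫ str = R.hom := Over.w s
  have hwt : t.left ≫ str = R.hom := Over.w t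
  -- injectivity on points
  have hinj : ∀ (T : Type u) [CommRing T] (f g : B →+* T), f.comp φs.hom = g.comp φs.hom →
      f.comp φt.hom = g.comp φt.hom → f = g := by
    intro T _ f g h1 h2
    let F : B ⟶ CommRingCat.of T := CommRingCat.ofHom f
    let G : B ⟶ CommRingCat.of T := CommRingCat.ofHom g
    have h1' : φs ≫ F = φs ≫ G := CommRingCat.hom_ext h1
    have h2' : φt ≫ F = φt ≫ G := CommRingCat.hom_ext h2
    let Tf : Over S := Over.mk ((Spec.map F ≫ e.inv) ≫ R.hom)
    let r : Tf ⟶ R := Over.homMk (Spec.map F ≫ e.inv) rfl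
    let r' : Tf ⟶ R := Over.homMk (Spec.map G ≫ e.inv) (by
      change (Spec.map G ≫ e.inv) ≫ R.hom = (Spec.map F ≫ e.inv) ≫ R.hom
      rw [← hws, ← Category.assoc, ← Category.assoc, key_s, key_s, h1'])
    have hrr : r = r' := by
      apply h.injective Tf r r'
      · ext1
        change (Spec.map F ≫ e.inv) ≫ t.left = (Spec.map G ≫ e.inv) ≫ t.left
        rw [key_t, key_t, h2']
      · ext1
        change (Spec.map F ≫ e.inv) ≫ s.left = (Spec.map G ≫ e.inv) ≫ s.left
        rw [key_s, key_s, h1']
    have h3 : Spec.map F ≫ e.inv = Spec.map G ≫ e.inv := congrArg (fun x => x.left) hrr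
    have h4 : F = G := Spec.map_injective ((cancel_mono e.inv).1 h3)
    exact congrArg CommRingCat.Hom.hom h4
  -- reflexivity
  have hrefl : ∃ ε : B →+* K, ε.comp φs.hom = RingHom.id K ∧ ε.comp φt.hom = RingHom.id K := by
    obtain ⟨r, hr1, hr2⟩ := (h.equivalence (Over.mk str)).refl (𝟙 _)
    obtain ⟨ε, hε⟩ : ∃ ε : B ⟶ CommRingCat.of K, Spec.map ε = r.left ≫ e.hom :=
      ⟨Spec.preimage _, Spec.map_preimage _⟩
    have h1 : φs ≫ ε = 𝟙 _ := by
      apply Spec.map_injective
      rw [Spec.map_comp, hε, hφs, Category.assoc, e.hom_inv_id_assoc, Spec.map_id]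
      exact congrArg (fun x => x.left) hr2
    have h2 : φt ≫ ε = 𝟙 _ := by
      apply Spec.map_injective
      rw [Spec.map_comp, hε, hφt, Category.assoc, e.hom_inv_id_assoc, Spec.map_id]
      exact congrArg (fun x => x.left) hr1
    exact ⟨ε.hom, congrArg CommRingCat.Hom.hom h1, congrArg CommRingCat.Hom.hom h2⟩
  -- transitivity
  have htrans : ∀ (T : Type u) [CommRing T] (f g : B →+* T), f.comp φt.hom = g.comp φs.hom →
      ∃ η : B →+* T, η.comp φs.hom = f.comp φs.hom ∧ η.comp φt.hom = g.comp φt.hom := by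
    intro T _ f g hfg
    let F : B ⟶ CommRingCat.of T := CommRingCat.ofHom f
    let G : B ⟶ CommRingCat.of T := CommRingCat.ofHom g
    have hFG : φt ≫ F = φs ≫ G := CommRingCat.hom_ext hfg
    let Tf : Over S := Over.mk ((Spec.map F ≫ e.inv) ≫ R.hom)
    let r1 : Tf ⟶ R := Over.homMk (Spec.map F ≫ e.inv) rfl
    let r2 : Tf ⟶ R := Over.homMk (Spec.map G ≫ e.inv) (by
      change (Spec.map G ≫ e.inv) ≫ R.hom = (Spec.map F ≫ e.inv) ≫ R.hom
      calc (Spec.map G ≫ e.inv) ≫ R.hom = ((Spec.map G ≫ e.inv) ≫ s.left) ≫ str := by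
            simp only [← hws, Category.assoc]
        _ = Spec.map (φs ≫ G) ≫ str := by rw [key_s]
        _ = Spec.map (φt ≫ F) ≫ str := by rw [hFG]
        _ = ((Spec.map F ≫ e.inv) ≫ t.left) ≫ str := by rw [key_t]
        _ = (Spec.map F ≫ e.inv) ≫ R.hom := by simp only [← hwt, Category.assoc])
    have h21 : r2 ≫ s = r1 ≫ t := by
      ext1
      change (Spec.map G ≫ e.inv) ≫ s.left = (Spec.map F ≫ e.inv) ≫ t.left
      rw [key_s, key_t, hFG]
    have hrel1 : ∃ r : Tf ⟶ R, r ≫ t = r2 ≫ t ∧ r ≫ s = r1 ≫ t := ⟨r2, rfl, h21⟩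
    have hrel2 : ∃ r : Tf ⟶ R, r ≫ t = r1 ≫ t ∧ r ≫ s = r1 ≫ s := ⟨r1, rfl, rfl⟩
    obtain ⟨r3, h31, h32⟩ := (h.equivalence Tf).trans hrel1 hrel2
    obtain ⟨η, hη⟩ : ∃ η : B ⟶ CommRingCat.of T, Spec.map η = r3.left ≫ e.hom :=
      ⟨Spec.preimage _, Spec.map_preimage _⟩
    have hη' : Spec.map η ≫ e.inv = r3.left := by rw [hη, Category.assoc, e.hom_inv_id, Category.comp_id]
    have h1 : φs ≫ η = φs ≫ F := by
      apply Spec.map_injective
      rw [← key_s, ← key_s, hη']
      exact congrArg (fun x => x.left) h32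
    have h2 : φt ≫ η = φt ≫ G := by
      apply Spec.map_injective
      rw [← key_t, ← key_t, hη']
      exact congrArg (fun x => x.left) h31
    exact ⟨η.hom, congrArg CommRingCat.Hom.hom h1, congrArg CommRingCat.Hom.hom h2⟩
  obtain ⟨k, hk, hfd, hpo⟩ := FieldEqv.main φs.hom φt.hom hfin hinj hrefl htrans
  have hpb : IsPullback (Spec.map φs) (Spec.map φt) (Spec.map (CommRingCat.ofHom k.subtype))
      (Spec.map (CommRingCat.ofHom k.subtype)) :=
    isPullback_SpecMap_of_isPushout _ _ _ _ hpo
  have hpb' : IsPullback s.left t.left (Spec.map (CommRingCat.ofHom k.subtype))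
      (Spec.map (CommRingCat.ofHom k.subtype)) := by
    refine IsPullback.of_iso hpb e.symm (Iso.refl _) (Iso.refl _) (Iso.refl _) ?_ ?_ ?_ ?_
    · simp only [Iso.refl_hom, Category.comp_id, Iso.symm_hom]
      exact hφs
    · simp only [Iso.refl_hom, Category.comp_id, Iso.symm_hom]
      exact hφt
    · simp only [Iso.refl_hom, Category.comp_id, Category.id_comp]
    · simp only [Iso.refl_hom, Category.comp_id, Category.id_comp]
  -- descend the structure morphism
  haveI : Flat (Spec.map (CommRingCat.ofHom k.subtype)) := by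
    rw [Flat.SpecMap_iff]
    change (algebraMap k K).Flat
    rw [RingHom.flat_algebraMap_iff]
    infer_instance
  haveI : Surjective (Spec.map (CommRingCat.ofHom k.subtype)) :=
    ⟨fun x => ⟨IsLocalRing.closedPoint K, Subsingleton.elim _ _⟩⟩
  haveI : IsRegularEpi (Spec.map (CommRingCat.ofHom k.subtype)) :=
    isRegularEpi_of_flat_of_surjective_of_isAffine _
  obtain ⟨str', hstr'⟩ := IsRegularEpi.exists_of_isKernelPair
    (Spec.map (CommRingCat.ofHom k.subtype)) hpb' str (by rw [hws, hwt])
  exact ⟨k, str', hstr', hfd, hpb'⟩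

/-- The morphism `Spec K ⟶ Spec k` of a finite field extension is an fppf covering. -/
theorem fppf_spec_subfield {K : Type u} [Field K] (k : Subfield K) [FiniteDimensional k K] :
    Flat (Spec.map (CommRingCat.ofHom k.subtype)) ∧
      LocallyOfFinitePresentation (Spec.map (CommRingCat.ofHom k.subtype)) ∧
      Surjective (Spec.map (CommRingCat.ofHom k.subtype)) ∧
      IsFinite (Spec.map (CommRingCat.ofHom k.subtype)) := by
  refine ⟨?_, ?_, ?_, ?_⟩
  · rw [Flat.SpecMap_iff]
    change (algebraMap k K).Flat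
    rw [RingHom.flat_algebraMap_iff]
    infer_instance
  · rw [LocallyOfFinitePresentation.SpecMap_iff]
    change (algebraMap k K).FinitePresentation
    rw [RingHom.finitePresentation_algebraMap]
    exact Algebra.FinitePresentation.of_finiteType.1 inferInstance
  · exact ⟨fun x => ⟨IsLocalRing.closedPoint K, Subsingleton.elim _ _⟩⟩
  · rw [IsFinite.SpecMap_iff]
    change (algebraMap k K).Finite
    rw [RingHom.finite_algebraMap]
    infer_instance

/-- Quotient of the spectrum of a field by a quasi-compact etale equivalence relation which is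
the kernel pair of a map to a sheaf: the map factors through a monomorphism from the spectrum
of a subfield. -/
theorem exists_mono_point {K : Type u} [Field K] (str : Spec (CommRingCat.of K) ⟶ S) {R : Over S}
    (s t : R ⟶ Over.mk str) [Etale s.left] [CompactSpace R.left] {X : Sp S}
    (p : (yon S).obj (Over.mk str) ⟶ X) (hp : IsPullback ((yon S).map t) ((yon S).map s) p p) :
    ∃ (k : Subfield K) (str' : Spec (CommRingCat.of k) ⟶ S)
      (hstr : Spec.map (CommRingCat.ofHom k.subtype) ≫ str' = str)
      (m : (yon S).obj (Over.mk str') ⟶ X), FiniteDimensional k K ∧ Mono m ∧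
        (yon S).map (Over.homMk (Spec.map (CommRingCat.ofHom k.subtype)) hstr :
          Over.mk str ⟶ Over.mk str') ≫ m = p := by
  have h := KernelPair.isEqvRel_of_isPullback s t p hp
  obtain ⟨k, str', hstr, hfd, hpb⟩ := exists_quot str s t h
  obtain ⟨hfl, hlfp, hsurj, -⟩ := fppf_spec_subfield k
  let q : Over.mk str ⟶ Over.mk str' := Over.homMk (Spec.map (CommRingCat.ofHom k.subtype)) hstr
  have hq : IsPullback ((yon S).map t) ((yon S).map s) ((yon S).map q) ((yon S).map q) :=
    AlgSpBasic.yon_isPullback_of_left t s q q hpb.flip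
  haveI : Sheaf.IsLocallySurjective ((yon S).map q) :=
    AlgSpBasic.isLocallySurjective_of_fppf ((yon S).map q)
      ((repWith_yon_map_iff @Flat q).2 hfl)
      ((repWith_yon_map_iff @LocallyOfFinitePresentation q).2 hlfp)
      ((repWith_yon_map_iff @Surjective q).2 hsurj)
  haveI : Epi ((yon S).map q) := (Sheaf.isLocallySurjective_iff_epi _).1 inferInstance
  obtain ⟨m, hm1, hm2⟩ := KernelPair.exists_desc_mono ((yon S).map s) ((yon S).map t)
    ((yon S).map q) p hq hp
  exact ⟨k, str', hstr, m, hfd, hm2, hm1⟩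

/-- A morphism from the spectrum of a field is quasi-compact. -/
theorem quasiCompact_of_field {L : Type u} [Field L] {Y : Scheme.{u}}
    (g : Spec (CommRingCat.of L) ⟶ Y) : QuasiCompact g := by
  rw [quasiCompact_iff]
  intro U _ _
  exact (Set.toFinite _).isCompact

/-- The fibre product over `S` of a quasi-compact scheme with the spectrum of a field is
quasi-compact. -/
theorem compactSpace_prod_field {L : Type u} [Field L] (U : Over S) [CompactSpace ↥U.left]
    (strL : Spec (CommRingCat.of L) ⟶ S) : CompactSpace ↥(U ⨯ Over.mk strL).left := by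
  haveI : QuasiCompact strL := quasiCompact_of_field strL
  haveI : QuasiCompact (pullback.fst U.hom strL) := inferInstance
  haveI : CompactSpace ↥(pullback U.hom (Over.mk strL).hom) :=
    QuasiCompact.compactSpace_of_compactSpace (pullback.fst U.hom strL)
  exact (Scheme.homeoOfIso (Over.prodLeftIsoPullback U (Over.mk strL))).symm.compactSpace

/-- For a sheaf with quasi-compact diagonal, the fibre product of a quasi-compact scheme and the
spectrum of a field is quasi-compact. -/
theorem compactSpace_of_isQuasiSeparatedSp {X : Sp S} (hX : IsQuasiSeparatedSp X) {L : Type u}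
    [Field L] (U : Over S) [CompactSpace ↥U.left] (strL : Spec (CommRingCat.of L) ⟶ S)
    {P : Over S} (fst : P ⟶ U) (snd : P ⟶ Over.mk strL) (a : (yon S).obj U ⟶ X)
    (b : (yon S).obj (Over.mk strL) ⟶ X)
    (h : IsPullback ((yon S).map fst) ((yon S).map snd) a b) : CompactSpace ↥P.left := by
  have hq : QuasiCompact (prod.lift fst snd).left :=
    AlgSpBasic.prop_prod_lift_of_repWith_diag @QuasiCompact hX a b fst snd h
  have := compactSpace_prod_field U strL
  exact QuasiCompact.compactSpace_of_compactSpace (prod.lift fst snd).left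

/-- A field-valued point of a sheaf with quasi-compact diagonal is quasi-compact. -/
theorem repWith_quasiCompact_of_field {X : Sp S} (hX : IsQuasiSeparatedSp X) {L : Type u}
    [Field L] (strL : Spec (CommRingCat.of L) ⟶ S) (b : (yon S).obj (Over.mk strL) ⟶ X) :
    RepWith @QuasiCompact b := by
  refine ⟨Functor.relativelyRepresentable.of_diag hX.rep b, fun T W g fst snd sq => ?_⟩
  obtain ⟨fst₀, rfl⟩ := (yon S).map_surjective fst
  have hq : QuasiCompact (prod.lift fst₀ snd).left :=
    AlgSpBasic.prop_prod_lift_of_repWith_diag @QuasiCompact hX b g fst₀ snd sq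
  haveI : QuasiCompact strL := quasiCompact_of_field strL
  have h2 : (prod.snd (X := Over.mk strL) (Y := T)).left =
      (Over.prodLeftIsoPullback (Over.mk strL) T).hom ≫ pullback.snd _ _ :=
    (Over.prodLeftIsoPullback_hom_snd _ _).symm
  haveI : QuasiCompact (prod.snd (X := Over.mk strL) (Y := T)).left := by
    rw [h2]
    haveI : QuasiCompact (pullback.snd (Over.mk strL).hom T.hom) :=
      inferInstanceAs (QuasiCompact (pullback.snd strL T.hom))
    infer_instance
  have h3 : snd.left = (prod.lift fst₀ snd).left ≫ (prod.snd (X := Over.mk strL) (Y := T)).left := by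
    rw [← Over.comp_left, prod.lift_snd]
  change QuasiCompact snd.left
  rw [h3]
  infer_instance

theorem toHom_fieldPtOfHom {X : Sp S} {K : Type u} [Field K]
    (str : Spec (CommRingCat.of K) ⟶ S) (m : (yon S).obj (Over.mk str) ⟶ X) :
    (AlgSpBasic.fieldPtOfHom str m).toHom = m := Equiv.symm_apply_apply _ _

theorem mk_fieldPtOfHom {X : Sp S} {K : Type u} [Field K]
    (str : Spec (CommRingCat.of K) ⟶ S) (m : (yon S).obj (Over.mk str) ⟶ X)
    (c : ↥(Over.mk str).left) :
    Points.mk (AlgSpBasic.fieldPtOfHom str m) = Points.ofPt m c := by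
  have h1 := Points.ofPt_toHom (AlgSpBasic.fieldPtOfHom str m) c
  rw [← h1, toHom_fieldPtOfHom]

/-- Version of `exists_mono_point` producing a field-valued point. -/
theorem exists_mono_fieldPt {K : Type u} [Field K] (str : Spec (CommRingCat.of K) ⟶ S)
    {R : Over S} (s t : R ⟶ Over.mk str) [Etale s.left] [CompactSpace R.left] {X : Sp S}
    (p : (yon S).obj (Over.mk str) ⟶ X) (hp : IsPullback ((yon S).map t) ((yon S).map s) p p)
    (c : ↥(Over.mk str).left) :
    ∃ q : FieldPt X, Points.mk q = Points.ofPt p c ∧ Mono q.toHom ∧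
      ∃ g : Over.mk str ⟶ q.pt, (yon S).map g ≫ q.toHom = p ∧ IsFinite g.left := by
  obtain ⟨k, str', hstr, m, hfd, hm, hqm⟩ := exists_mono_point str s t p hp
  obtain ⟨-, -, -, hfin⟩ := fppf_spec_subfield k
  refine ⟨AlgSpBasic.fieldPtOfHom str' m, ?_, ?_, Over.homMk (Spec.map (CommRingCat.ofHom k.subtype)) hstr, ?_, hfin⟩
  · rw [mk_fieldPtOfHom str' m (IsLocalRing.closedPoint k), ← hqm, AlgSpBasic.ofPt_yon_map_comp]
    have : (Over.homMk (Spec.map (CommRingCat.ofHom k.subtype)) hstr :
        Over.mk str ⟶ Over.mk str').left c = IsLocalRing.closedPoint k :=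
      Subsingleton.elim (α := ↥(Spec (CommRingCat.of k))) _ _
    rw [this]
  · rw [toHom_fieldPtOfHom]; exact hm
  · rw [toHom_fieldPtOfHom]; exact hqm

end Groth.Agent.Helper2.FieldQuot
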