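import Mathlib
import Groth.Prelude.Def_AlgSp4
import Groth.Prelude.Def_AlgSpDec
import Groth.Agent.Lib.Helper2.Sch.EtaleField
import Groth.Agent.Lib.Helper2.AlgSp.FieldQuot
import Groth.Agent.Lib.Helper2.AlgSp.Points

/-!
# Fibres of etale charts over field-valued points (helper2)
-/

set_option autoImplicit false
set_option backward.isDefEq.respectTransparency false

open CategoryTheory CategoryTheory.Limits AlgebraicGeometry Opposite AlgSp

namespace Groth.Agent.Helper2.FieldFibre
universe u
variable {S : Scheme.{u}}

/-- The spectrum of the residue field of a point of a scheme over `S`, as a scheme over `S`. -/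
noncomputable abbrev resOver (U : Over S) (u : ↥U.left) : Over S :=
  Over.mk (U.left.fromSpecResidueField u ≫ U.hom)

/-- The canonical morphism from the spectrum of the residue field. -/
noncomputable abbrev resι (U : Over S) (u : ↥U.left) : resOver U u ⟶ U :=
  Over.homMk (U.left.fromSpecResidueField u) rfl

instance (U : Over S) (u : ↥U.left) : Mono (resι U u) := by
  apply (Over.forget S).mono_of_mono_map
  change Mono (U.left.fromSpecResidueField u)
  infer_instance

/-- The fibre product of a field-valued point with the residue field point of an etale chart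
is etale over the field. -/
theorem etale_fst_of_isPullback_residue {X : Sp S} {U : Over S} (φ : (yon S).obj U ⟶ X)
    (hφ : RepWith @Etale φ) (u' : ↥U.left) {K : Type u} [Field K]
    (strK : Spec (CommRingCat.of K) ⟶ S) (a : (yon S).obj (Over.mk strK) ⟶ X) {P : Over S}
    (π : P ⟶ Over.mk strK) (π' : P ⟶ resOver U u')
    (sq : IsPullback ((yon S).map π) ((yon S).map π') a ((yon S).map (resι U u') ≫ φ)) :
    Etale π.left := by
  have hrep := hφ.rep
  have sqF := hrep.isPullback a
  obtain ⟨f2, hf2⟩ := (yon S).map_surjective (hrep.fst a)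
  set f1 := hrep.snd a with hf1
  rw [← hf2] at sqF
  -- sqF : IsPullback (yon f2) (yon f1) φ a
  haveI : Etale f1.left := hφ.property a _ _ sqF
  have hFL : EtaleField.IsFieldLike (hrep.pullback a).left :=
    EtaleField.isFieldLike_of_etale (K := K) f1.left
  obtain ⟨r1, hr1⟩ := (yon S).map_surjective
    (sqF.lift ((yon S).map (π' ≫ resι U u')) ((yon S).map π) (by
      rw [Functor.map_comp, Category.assoc, sq.w]))
  have hr1a : r1 ≫ f2 = π' ≫ resι U u' := (yon S).map_injective (by
    rw [Functor.map_comp, hr1, sqF.lift_fst])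
  have hr1b : r1 ≫ f1 = π := (yon S).map_injective (by
    rw [Functor.map_comp, hr1, sqF.lift_snd])
  have sqL : IsPullback ((yon S).map r1) ((yon S).map π') ((yon S).map f2)
      ((yon S).map (resι U u')) := by
    refine IsPullback.of_right ?_ ?_ sqF.flip
    · rw [← Functor.map_comp, hr1b]
      exact sq
    · rw [← Functor.map_comp, ← Functor.map_comp, hr1a]
  have sqL' : IsPullback r1.left π'.left f2.left (U.left.fromSpecResidueField u') :=
    (IsPullback.of_map (yon S) (by rw [hr1a]) sqL).map (Over.forget S)
  haveI : IsOpenImmersion r1.left :=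
    EtaleField.isOpenImmersion_of_preimmersion hFL f2.left _ r1.left π'.left sqL'
  have : π.left = r1.left ≫ f1.left := by rw [← hr1b]; rfl
  rw [this]
  infer_instance

/-- The fibre product of two residue field points of a chart injects into the corresponding
fibre of the relation `R = U ×_X U`. -/
theorem finite_of_isPullback_residue {X : Sp S} {U R : Over S} (φ : (yon S).obj U ⟶ X)
    (s t : R ⟶ U) (hR : IsPullback ((yon S).map t) ((yon S).map s) φ φ) (u u' : ↥U.left)
    {P : Over S} (π : P ⟶ resOver U u) (π' : P ⟶ resOver U u')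
    (sq : IsPullback ((yon S).map π) ((yon S).map π') ((yon S).map (resι U u) ≫ φ)
      ((yon S).map (resι U u') ≫ φ))
    (hfin : {r : ↥R.left | s.left r = u ∧ t.left r = u'}.Finite) : Finite ↥P.left := by
  obtain ⟨ρ, hρ⟩ := (yon S).map_surjective
    (hR.lift ((yon S).map (π' ≫ resι U u')) ((yon S).map (π ≫ resι U u)) (by
      rw [Functor.map_comp, Functor.map_comp, Category.assoc, Category.assoc, sq.w]))
  have hρt : ρ ≫ t = π' ≫ resι U u' := (yon S).map_injective (by
    rw [Functor.map_comp, hρ, hR.lift_fst])
  have hρs : ρ ≫ s = π ≫ resι U u := (yon S).map_injective (by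
    rw [Functor.map_comp, hρ, hR.lift_snd])
  haveI : Mono ρ := by
    refine ⟨fun {T} x y hxy => ?_⟩
    have h1 : x ≫ π = y ≫ π := by
      rw [← cancel_mono (resι U u), Category.assoc, Category.assoc, ← hρs, ← Category.assoc,
        ← Category.assoc, hxy]
    have h2 : x ≫ π' = y ≫ π' := by
      rw [← cancel_mono (resι U u'), Category.assoc, Category.assoc, ← hρt, ← Category.assoc,
        ← Category.assoc, hxy]
    apply (yon S).map_injective
    apply sq.hom_ext
    · rw [← Functor.map_comp, ← Functor.map_comp, h1]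
    · rw [← Functor.map_comp, ← Functor.map_comp, h2]
  haveI : Mono ρ.left := inferInstance
  have hinj : Function.Injective ρ.left := ρ.left.injective
  haveI := hfin.to_subtype
  let f : ↥P.left → {r : ↥R.left | s.left r = u ∧ t.left r = u'} := fun z => ⟨ρ.left z, by
    constructor
    · have h1 : s.left (ρ.left z) = (ρ ≫ s).left z := rfl
      have h2 : (π ≫ resι U u).left z = (U.left.fromSpecResidueField u) (π.left z) := rfl
      rw [h1, hρs, h2]
      exact Scheme.fromSpecResidueField_apply u (π.left z)
    · have h1 : t.left (ρ.left z) = (ρ ≫ t).left z := rfl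
      have h2 : (π' ≫ resι U u').left z = (U.left.fromSpecResidueField u') (π'.left z) := rfl
      rw [h1, hρt, h2]
      exact Scheme.fromSpecResidueField_apply u' (π'.left z)⟩
  exact Finite.of_injective f (fun z z' h => hinj (congrArg Subtype.val h))

/-- The residue field point of a discrete scheme with field local rings is an open immersion. -/
theorem isOpenImmersion_fromSpecResidueField {P : Scheme.{u}} (hP : EtaleField.IsFieldLike P)
    (z : ↥P) : IsOpenImmersion (P.fromSpecResidueField z) :=
  EtaleField.isOpenImmersion_of_preimmersion hP (𝟙 P) (P.fromSpecResidueField z)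
    (P.fromSpecResidueField z) (𝟙 _) (IsPullback.of_vert_isIso ⟨by simp⟩)

/-- Points of a sheaf defined by a map from the spectrum of a field do not depend on the point
of the spectrum. -/
theorem ofPt_field_eq {F : Sp S} {K : Type u} [Field K] (str : Spec (CommRingCat.of K) ⟶ S)
    (g : (yon S).obj (Over.mk str) ⟶ F) (x y : ↥(Over.mk str).left) :
    Points.ofPt g x = Points.ofPt g y := by
  have : x = y := Subsingleton.elim (α := ↥(Spec (CommRingCat.of K))) x y
  rw [this]

/-- Two residue field points of an etale chart over the same point of `X` whose fibre in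
`R = U ×_X U` is finite: the fibre product of the two field points is a finite nonempty scheme,
etale over both. -/
theorem exists_finite_etale_fibre {X : Sp S} (hX : IsAlgSpace X) {U : Over S}
    (φ : (yon S).obj U ⟶ X) (hφ : RepWith @Etale φ) (u u' : ↥U.left)
    (he : Points.ofPt φ u = Points.ofPt φ u') {R : Over S} (s t : R ⟶ U)
    (hR : IsPullback ((yon S).map t) ((yon S).map s) φ φ)
    (hfin : {r : ↥R.left | s.left r = u ∧ t.left r = u'}.Finite) :
    ∃ (P : Over S) (π : P ⟶ resOver U u) (π' : P ⟶ resOver U u'),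
      IsPullback ((yon S).map π) ((yon S).map π') ((yon S).map (resι U u) ≫ φ)
        ((yon S).map (resι U u') ≫ φ) ∧ Etale π.left ∧ Etale π'.left ∧ Finite ↥P.left ∧
        Nonempty ↥P.left := by
  obtain ⟨P, π, π', sq⟩ := AlgSpBasic.exists_isPullback_yon hX.diag
    ((yon S).map (resι U u) ≫ φ) ((yon S).map (resι U u') ≫ φ)
  refine ⟨P, π, π', sq, ?_, ?_, ?_, ?_⟩
  · exact etale_fst_of_isPullback_residue φ hφ u' (K := ↥(U.left.residueField u))
      (U.left.fromSpecResidueField u ≫ U.hom) _ π π' sq
  · exact etale_fst_of_isPullback_residue φ hφ u (K := ↥(U.left.residueField u'))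
      (U.left.fromSpecResidueField u' ≫ U.hom) _ π' π sq.flip
  · exact finite_of_isPullback_residue φ s t hR u u' π π' sq hfin
  · let c : ↥(resOver U u).left := IsLocalRing.closedPoint ↥(U.left.residueField u)
    let c' : ↥(resOver U u').left := IsLocalRing.closedPoint ↥(U.left.residueField u')
    have e : Points.ofPt ((yon S).map (resι U u) ≫ φ) c =
        Points.ofPt ((yon S).map (resι U u') ≫ φ) c' := by
      rw [AlgSpBasic.ofPt_yon_map_comp, AlgSpBasic.ofPt_yon_map_comp]
      have h1 : (resι U u).left c = u := Scheme.fromSpecResidueField_apply u c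
      have h2 : (resι U u').left c' = u' := Scheme.fromSpecResidueField_apply u' c'
      rw [h1, h2, he]
    obtain ⟨z, -, -⟩ := AlgSpBasic.exists_point_of_isPullback_yon _ _ π π' sq c c' e
    exact ⟨z⟩

/-- If the fibre product `P` of two field-valued points of `X` is a finite nonempty scheme etale
over both fields, then their common point of `|X|` is represented by a monomorphism from the
spectrum of a field. -/
theorem exists_mono_fieldPt_of_finite_etale {X : Sp S} {K₁ K₂ : Type u} [Field K₁] [Field K₂]
    (str₁ : Spec (CommRingCat.of K₁) ⟶ S) (str₂ : Spec (CommRingCat.of K₂) ⟶ S)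
    (a : (yon S).obj (Over.mk str₁) ⟶ X) (a' : (yon S).obj (Over.mk str₂) ⟶ X) {P : Over S}
    (π : P ⟶ Over.mk str₁) (π' : P ⟶ Over.mk str₂)
    (sq : IsPullback ((yon S).map π) ((yon S).map π') a a') [Etale π.left] [Etale π'.left]
    [Finite ↥P.left] (z : ↥P.left) (c : ↥(Over.mk str₁).left) :
    ∃ p : FieldPt X, Points.mk p = Points.ofPt a c ∧ Mono p.toHom := by
  have hPL : EtaleField.IsFieldLike P.left :=
    EtaleField.isFieldLike_of_etale (K := K₁) π.left
  haveI : IsOpenImmersion (resι P z).left := isOpenImmersion_fromSpecResidueField hPL z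
  haveI : CompactSpace ↥P.left := Finite.compactSpace
  haveI : IsFinite π.left := FieldQuot.isFinite_of_etale_field (K := K₁) π.left
  haveI : IsFinite π'.left := FieldQuot.isFinite_of_etale_field (K := K₂) π'.left
  -- the field `L` and its two maps
  let ℓ₁ : resOver P z ⟶ Over.mk str₁ := resι P z ≫ π
  let ℓ₂ : resOver P z ⟶ Over.mk str₂ := resι P z ≫ π'
  haveI : Etale ℓ₁.left := by
    change Etale ((resι P z).left ≫ π.left)
    infer_instance
  haveI : Etale ℓ₂.left := by
    change Etale ((resι P z).left ≫ π'.left)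
    infer_instance
  haveI : CompactSpace ↥(resOver P z).left :=
    inferInstanceAs (CompactSpace ↥(Spec (P.left.residueField z)))
  haveI : IsFinite ℓ₂.left := FieldQuot.isFinite_of_etale_field (K := K₂) ℓ₂.left
  let ℓ : (yon S).obj (resOver P z) ⟶ X := (yon S).map ℓ₁ ≫ a
  have hℓ : ℓ = (yon S).map ℓ₂ ≫ a' := by
    change (yon S).map (resι P z ≫ π) ≫ a = (yon S).map (resι P z ≫ π') ≫ a'
    rw [Functor.map_comp, Functor.map_comp, Category.assoc, Category.assoc, sq.w]
  -- `A = Spec L ×_{Spec K₁} P`
  let α1 : pullback ℓ₁ π ⟶ resOver P z := pullback.fst ℓ₁ π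
  let α2 : pullback ℓ₁ π ⟶ P := pullback.snd ℓ₁ π
  have sqA : IsPullback α1 α2 ℓ₁ π := IsPullback.of_hasPullback ℓ₁ π
  have sqA' : IsPullback α1.left α2.left ℓ₁.left π.left := sqA.map (Over.forget S)
  haveI : Etale α1.left := MorphismProperty.of_isPullback sqA'.flip ‹Etale π.left›
  haveI : IsFinite α1.left := MorphismProperty.of_isPullback sqA'.flip ‹IsFinite π.left›
  have sqA2 : IsPullback ((yon S).map α1) ((yon S).map (α2 ≫ π')) ℓ a' := by
    have := (sqA.map (yon S)).paste_vert sq
    rwa [← Functor.map_comp] at this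
  -- `B = A ×_{Spec K₂} Spec L`
  let β1 : pullback (α2 ≫ π') ℓ₂ ⟶ pullback ℓ₁ π := pullback.fst (α2 ≫ π') ℓ₂
  let β2 : pullback (α2 ≫ π') ℓ₂ ⟶ resOver P z := pullback.snd (α2 ≫ π') ℓ₂
  have sqB : IsPullback β1 β2 (α2 ≫ π') ℓ₂ := IsPullback.of_hasPullback _ _
  have sqB' : IsPullback β1.left β2.left (α2 ≫ π').left ℓ₂.left := sqB.map (Over.forget S)
  haveI : Etale β1.left := MorphismProperty.of_isPullback sqB'.flip ‹Etale ℓ₂.left›
  haveI : IsFinite β1.left := MorphismProperty.of_isPullback sqB'.flip ‹IsFinite ℓ₂.left›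
  have sqB2 : IsPullback ((yon S).map (β1 ≫ α1)) ((yon S).map β2) ℓ ℓ := by
    have := (sqB.map (yon S)).paste_horiz sqA2
    rw [← Functor.map_comp, ← hℓ] at this
    exact this
  haveI : Etale (β1 ≫ α1).left := by
    change Etale (β1.left ≫ α1.left)
    infer_instance
  haveI : IsFinite (β1 ≫ α1).left := by
    change IsFinite (β1.left ≫ α1.left)
    infer_instance
  haveI : CompactSpace ↥(pullback (α2 ≫ π') ℓ₂).left :=
    QuasiCompact.compactSpace_of_compactSpace (β1 ≫ α1).left
  obtain ⟨k, str', hstr, m, -, hm, hqm⟩ := FieldQuot.exists_mono_point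
    (K := ↥(P.left.residueField z)) (P.left.fromSpecResidueField z ≫ P.hom) (β1 ≫ α1) β2 ℓ
    sqB2.flip
  refine ⟨AlgSpBasic.fieldPtOfHom str' m, ?_, ?_⟩
  · have htoHom : (AlgSpBasic.fieldPtOfHom str' m).toHom = m :=
      Equiv.symm_apply_apply _ _
    have h1 := Points.ofPt_toHom (AlgSpBasic.fieldPtOfHom str' m) (IsLocalRing.closedPoint k)
    rw [← h1, htoHom]
    let cL : ↥(resOver P z).left := IsLocalRing.closedPoint ↥(P.left.residueField z)
    have h2 : Points.ofPt ℓ cL = Points.ofPt m (IsLocalRing.closedPoint k) := by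
      rw [← hqm, AlgSpBasic.ofPt_yon_map_comp]
      exact ofPt_field_eq str' m _ _
    have h3 : Points.ofPt ℓ cL = Points.ofPt a c := by
      change Points.ofPt ((yon S).map ℓ₁ ≫ a) cL = _
      rw [AlgSpBasic.ofPt_yon_map_comp]
      exact ofPt_field_eq str₁ a _ _
    rw [← h2, h3]
  · have htoHom : (AlgSpBasic.fieldPtOfHom str' m).toHom = m :=
      Equiv.symm_apply_apply _ _
    rw [htoHom]
    exact hm

end Groth.Agent.Helper2.FieldFibre
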