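import Mathlib
import Groth.Agent.Lib.Helper2.AlgSp.Source
import Groth.Agent.Lib.Helper2.Sch.Reduced
import Groth.Agent.Lib.Helper2.EtaleLocalSmooth
import Groth.Prelude.Def_AlgSpSub

/-! Reducedness of algebraic spaces: independence of the chart, ascent along smooth morphisms and
descent along flat surjective morphisms. -/
namespace Groth.Agent.Helper2.AlgSpBasic
open CategoryTheory CategoryTheory.Limits AlgebraicGeometry Opposite Topology AlgSp
open Groth.Agent.Helper2.EtaleLocal Groth.Agent.Helper2.SchLib
universe u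
variable {S : Scheme.{u}}

/-- If a sheaf has a reduced etale surjective chart, then every scheme etale over it is reduced. -/
theorem isReduced_of_etale_of_isReducedSp {X : Sp S} (hX : IsReducedSp X) {W : Over S}
    (e : (yon S).obj W ⟶ X) (he : RepWith @Etale e) : IsReduced W.left := by
  obtain ⟨U, p, hpe, hps, hU⟩ := hX
  have hrep : Representable e := ((repWith_iff @Etale e).1 he).1
  have sq := hrep.isPullback p
  obtain ⟨fst', hfst'⟩ := (yon S).map_surjective (hrep.fst p)
  rw [← hfst'] at sq
  -- `snd : Q ⟶ U` is etale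
  have h1 : Etale (hrep.snd p).left := ((repWith_iff @Etale e).1 he).2 p _ _ sq
  -- `fst' : Q ⟶ W` is etale and surjective
  have h2 : Etale fst'.left := ((repWith_iff @Etale p).1 hpe).2 e _ _ sq.flip
  have h3 : Surjective fst'.left := ((repWith_iff @Surjective p).1 hps).2 e _ _ sq.flip
  haveI : IsReduced U.left := hU
  haveI : IsReduced (hrep.pullback p).left := isReduced_of_smooth (hrep.snd p).left
  exact isReduced_of_flat_of_surjective fst'.left

set_option backward.isDefEq.respectTransparency.types false in
/-- An étale chart of the target, base changed along a morphism: variant of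
`exists_chart_of_family_member` recording also surjectivity of the new chart. -/
theorem exists_chart_of_family_member' (R : MorphismProperty Scheme.{u}) [IsEtaleLocalST R]
    {X Xi : Sp S} (hX : IsAlgSpace X) (hXi : IsAlgSpace Xi) (g : Xi ⟶ X) (hg : LocP R g)
    {U : Over S} (a : (yon S).obj U ⟶ X) :
    ∃ (Ui : Over S) (d : Ui ⟶ U) (e : (yon S).obj Ui ⟶ Xi),
      (RepWith @Etale a → RepWith @Etale e) ∧ (RepWith @Surjective a → RepWith @Surjective e) ∧
      R d.left ∧ e ≫ g = (yon S).map d ≫ a ∧
      ∀ (u : ↥U.left) (x : Points Xi), Points.map g x = Points.ofPt a u → ∃ u', d.left u' = u := by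
  have sq := IsPullback.of_hasPullback g a
  have hQ : IsAlgSpace (pullback g a) :=
    isAlgSpace_of_isPullback hX.diag hXi (IsAlgSpace.yon_obj U) g a _ _ sq
  obtain ⟨Ui, c, hce, hcs⟩ := hQ.atlas
  obtain ⟨d, hd⟩ := (yon S).map_surjective (c ≫ pullback.snd g a)
  have h1 : RepWith @Etale a → RepWith @Etale (pullback.fst g a) := fun ha =>
    repWith_of_isPullback @Etale sq.flip ha
  have h1' : RepWith @Surjective a → RepWith @Surjective (pullback.fst g a) := fun ha =>
    repWith_of_isPullback @Surjective sq.flip ha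
  have h2 : LocP R (pullback.snd g a) :=
    locP_of_isPullback R hXi hX (IsAlgSpace.yon_obj U) hQ g a _ _ sq hg
  refine ⟨Ui, d, c ≫ pullback.fst g a, fun ha => repWith_comp @Etale hce (h1 ha),
    fun ha => repWith_comp @Surjective hcs (h1' ha),
    h2 c (𝟙 _) d hce (repWith_etale_id U) (by rw [hd, Category.comp_id]), ?_, ?_⟩
  · rw [Category.assoc, sq.w, ← Category.assoc, hd]
  · intro u x hx
    rw [Points.ofPt_eq_map_ofScheme] at hx
    obtain ⟨q, -, hq2⟩ := points_exists_of_isPullback a g (pullback.fst g a) (pullback.snd g a) sq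
      x (Points.ofScheme U u) hx
    obtain ⟨u', rfl⟩ := surjective_ofPt c hcs q
    refine ⟨u', ?_⟩
    apply (Points.schemeHomeo U).injective
    rw [← Points.map_yon_map_apply, hd]
    rw [Points.ofPt_eq_map_ofScheme, ← Points.map_comp] at hq2
    exact hq2

/-- Reducedness descends along flat surjective morphisms of algebraic spaces. -/
theorem isReducedSp_of_flat_of_surjective {X Y : Sp S} (hX : IsAlgSpace X) (hY : IsAlgSpace Y)
    (f : X ⟶ Y) (hfl : LocP @Flat f) (hs : IsSurjectiveMor f) (hred : IsReducedSp X) :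
    IsReducedSp Y := by
  obtain ⟨V, b, hbe, hbs⟩ := hY.atlas
  obtain ⟨W, d, e, he, -, hd, -, hpt⟩ :=
    exists_chart_of_family_member' @Flat hY hX f hfl b
  haveI : IsReduced W.left := isReduced_of_etale_of_isReducedSp hred e (he hbe)
  haveI : Flat d.left := hd
  haveI : Surjective d.left := ⟨fun v => by
    obtain ⟨x, hx⟩ := hs (Points.ofPt b v)
    exact hpt v x hx⟩
  exact ⟨V, b, hbe, hbs, isReduced_of_flat_of_surjective d.left⟩

/-- Reducedness ascends along smooth morphisms of algebraic spaces. -/
theorem isReducedSp_of_smooth {X Y : Sp S} (hX : IsAlgSpace X) (hY : IsAlgSpace Y)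
    (f : X ⟶ Y) (hf : LocP @Smooth f) (hred : IsReducedSp Y) : IsReducedSp X := by
  obtain ⟨V, b, hbe, hbs, hV⟩ := hred
  obtain ⟨W, d, e, he, hes, hd, -, -⟩ :=
    exists_chart_of_family_member' @Smooth hY hX f hf b
  haveI : IsReduced V.left := hV
  haveI : Smooth d.left := hd
  exact ⟨W, e, he hbe, hes hbs, isReduced_of_smooth d.left⟩

theorem locP_flat_of_smooth {X Y : Sp S} {f : X ⟶ Y} (hf : LocP @Smooth f) : LocP @Flat f :=
  fun _ _ a b h ha hb comm => by
    haveI : Smooth h.left := hf a b h ha hb comm
    infer_instance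

end Groth.Agent.Helper2.AlgSpBasic
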