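import Mathlib
import Groth.Agent.Lib.Helper2.AlgSp.Reduced
import Groth.Agent.Lib.Helper2.Sch.NoethDescent

/-! The locally Noetherian property of algebraic spaces: independence of the chart and descent along
fppf coverings. -/
namespace Groth.Agent.Helper2.AlgSpBasic
open CategoryTheory CategoryTheory.Limits AlgebraicGeometry Opposite Topology AlgSp
open Groth.Agent.Helper2.EtaleLocal Groth.Agent.Helper2.SchLib
universe u
variable {S : Scheme.{u}}

/-- If a sheaf has a locally Noetherian etale surjective chart, then every scheme etale over it is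
locally Noetherian. -/
theorem isLocallyNoetherian_of_etale_of_isLocNoethSp {X : Sp S} (hX : IsLocNoethSp X) {W : Over S}
    (e : (yon S).obj W ⟶ X) (he : RepWith @Etale e) : IsLocallyNoetherian W.left := by
  obtain ⟨U, p, hpe, hps, hU⟩ := hX
  have hrep : Representable e := ((repWith_iff @Etale e).1 he).1
  have sq := hrep.isPullback p
  obtain ⟨fst', hfst'⟩ := (yon S).map_surjective (hrep.fst p)
  rw [← hfst'] at sq
  have h1 : Etale (hrep.snd p).left := ((repWith_iff @Etale e).1 he).2 p _ _ sq
  have h2 : Etale fst'.left := ((repWith_iff @Etale p).1 hpe).2 e _ _ sq.flip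
  have h3 : Surjective fst'.left := ((repWith_iff @Surjective p).1 hps).2 e _ _ sq.flip
  haveI : IsLocallyNoetherian U.left := hU
  haveI : IsLocallyNoetherian (hrep.pullback p).left :=
    LocallyOfFiniteType.isLocallyNoetherian (hrep.snd p).left
  exact isLocallyNoetherian_of_flat_lfp_surjective fst'.left

/-- The locally Noetherian property descends along fppf surjective morphisms of algebraic
spaces. -/
theorem isLocNoethSp_of_fppf_surjective {X Y : Sp S} (hX : IsAlgSpace X) (hY : IsAlgSpace Y)
    (f : X ⟶ Y) (hfp : LocP @LocallyOfFinitePresentation f) (hfl : LocP @Flat f)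
    (hs : IsSurjectiveMor f) (hN : IsLocNoethSp X) : IsLocNoethSp Y := by
  obtain ⟨V, b, hbe, hbs⟩ := hY.atlas
  have hf : LocP (@Flat ⊓ @LocallyOfFinitePresentation) f :=
    fun _ _ a b h ha hb comm => ⟨hfl a b h ha hb comm, hfp a b h ha hb comm⟩
  obtain ⟨W, d, e, he, -, hd, -, hpt⟩ :=
    exists_chart_of_family_member' (@Flat ⊓ @LocallyOfFinitePresentation) hY hX f hf b
  haveI : IsLocallyNoetherian W.left := isLocallyNoetherian_of_etale_of_isLocNoethSp hN e (he hbe)
  haveI : Flat d.left := hd.1
  haveI : LocallyOfFinitePresentation d.left := hd.2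
  haveI : Surjective d.left := ⟨fun v => by
    obtain ⟨x, hx⟩ := hs (Points.ofPt b v)
    exact hpt v x hx⟩
  exact ⟨V, b, hbe, hbs, isLocallyNoetherian_of_flat_lfp_surjective d.left⟩

end Groth.Agent.Helper2.AlgSpBasic
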