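import Mathlib
import Groth.Prelude.Def_AlgSpDec
import Groth.Prelude.Def_AlgSp4
import Groth.Agent.Lib.Helper2.AlgSp.Source
import Groth.Agent.Lib.Helper2.AlgSp.Reduced
import Groth.Agent.Lib.Helper2.AlgSp.NoethDescent
import Groth.Agent.Lib.Helper2.Sch.FlatFieldPt

/-! Morphisms from spectra of fields to algebraic spaces. -/
namespace Groth.Agent.Helper2.AlgSpBasic
open CategoryTheory CategoryTheory.Limits AlgebraicGeometry Opposite AlgSp Topology
open Groth.Agent.Helper2.EtaleLocal
universe u
variable {S : Scheme.{u}}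

section

variable {k : Type u} [Field k] (str : Spec (CommRingCat.of k) ⟶ S)

/-- Every morphism to the spectrum of a field is flat. -/
theorem locP_flat_to_field {T : Sp S} (f : T ⟶ (yon S).obj (Over.mk str)) : LocP @Flat f := by
  intro U V a b h ha hb comm
  obtain ⟨b', rfl⟩ := (yon S).map_surjective b
  haveI hb' : Etale b'.left := (repWith_yon_map_iff @Etale b').1 hb
  have h1 : Flat (h.left ≫ b'.left) := by
    show Flat (X := U.left) (Y := Spec (CommRingCat.of k)) (h.left ≫ b'.left)
    infer_instance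
  exact IsEtaleLocalST.of_postcomp_etale (P := @Flat) h.left b'.left h1

instance : Subsingleton (Points ((yon S).obj (Over.mk str))) := by
  haveI : Subsingleton ↥(Over.mk str).left :=
    (inferInstance : Subsingleton ↥(Spec (CommRingCat.of k)))
  exact (Points.schemeHomeo (Over.mk str)).symm.injective.subsingleton

instance : Nonempty (Points ((yon S).obj (Over.mk str))) :=
  ⟨Points.schemeHomeo (Over.mk str) (show ↥(Spec (CommRingCat.of k)) from default)⟩

end

/-- If some field point is flat and surjective, all field points are. -/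
theorem flat_surjective_of_fieldPt {Z : Sp S} (hZ : IsAlgSpace Z)
    {k : Type u} [Field k] (str : Spec (CommRingCat.of k) ⟶ S)
    (p : (yon S).obj (Over.mk str) ⟶ Z) (hpf : LocP @Flat p) (hps : IsSurjectiveMor p)
    {k' : Type u} [Field k'] (str' : Spec (CommRingCat.of k') ⟶ S)
    (q : (yon S).obj (Over.mk str') ⟶ Z) : LocP @Flat q ∧ IsSurjectiveMor q := by
  have sq := IsPullback.of_hasPullback p q
  have hk := IsAlgSpace.yon_obj (S := S) (Over.mk str)
  have hk' := IsAlgSpace.yon_obj (S := S) (Over.mk str')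
  have hT : IsAlgSpace (pullback p q) := isAlgSpace_of_isPullback hZ.diag hk hk' p q _ _ sq
  have hsf : LocP @Flat (pullback.snd p q) :=
    locP_of_isPullback @Flat hk hZ hk' hT p q _ _ sq hpf
  have hss : IsSurjectiveMor (pullback.snd p q) := by
    intro y
    obtain ⟨x, hx⟩ := hps (Points.map q y)
    obtain ⟨t, -, ht⟩ := points_exists_of_isPullback q p (pullback.fst p q) (pullback.snd p q)
      sq x y hx
    exact ⟨t, ht⟩
  have hqs : IsSurjectiveMor q := by
    intro z
    obtain ⟨x, rfl⟩ := hps z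
    obtain ⟨y₀⟩ := (inferInstance : Nonempty (Points ((yon S).obj (Over.mk str'))))
    obtain ⟨x₀, hx₀⟩ := hps (Points.map q y₀)
    exact ⟨y₀, by rw [← hx₀, Subsingleton.elim x x₀]⟩
  refine ⟨?_, hqs⟩
  have hcomp : LocP @Flat (pullback.snd p q ≫ q) := by
    rw [← sq.w]
    exact locP_comp @Flat hT hk hZ _ p (locP_flat_to_field str _) hpf
  refine locP_of_source_family @Flat @Flat (fun _ _ _ d φ hd hs hφ => ?_) hk' q
    (fun _ : PUnit.{u + 1} => pullback p q) (fun _ => hT) (fun _ => pullback.snd p q)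
    (fun _ => hsf) (fun y => ⟨PUnit.unit, hss y⟩) (fun _ => hcomp)
  haveI : Flat d := hd
  haveI : Surjective d := hs
  haveI : Flat (d ≫ φ) := hφ
  exact flat_of_flat_comp_of_surjective d φ

theorem isReducedSp_yon_field {k : Type u} [Field k] (str : Spec (CommRingCat.of k) ⟶ S) :
    IsReducedSp ((yon S).obj (Over.mk str)) :=
  ⟨Over.mk str, 𝟙 _, repWith_etale_id _, AlgSp.repWith_id @Surjective _,
    (inferInstance : IsReduced (Spec (CommRingCat.of k)))⟩

/-- A space receiving a flat surjective morphism from the spectrum of a field is reduced with a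
single point. -/
theorem reduced_singleton_of_fieldPt {Z : Sp S} (hZ : IsAlgSpace Z)
    {k : Type u} [Field k] (str : Spec (CommRingCat.of k) ⟶ S)
    (p : (yon S).obj (Over.mk str) ⟶ Z) (hpf : LocP @Flat p) (hps : IsSurjectiveMor p) :
    IsReducedSp Z ∧ Nonempty (Points Z) ∧ Subsingleton (Points Z) := by
  refine ⟨isReducedSp_of_flat_of_surjective (IsAlgSpace.yon_obj _) hZ p hpf hps
    (isReducedSp_yon_field str), ?_, ?_⟩
  · obtain ⟨y⟩ := (inferInstance : Nonempty (Points ((yon S).obj (Over.mk str))))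
    exact ⟨Points.map p y⟩
  · refine ⟨fun z z' => ?_⟩
    obtain ⟨x, rfl⟩ := hps z
    obtain ⟨x', rfl⟩ := hps z'
    rw [Subsingleton.elim x x']

/-- A reduced space with a single point receives a flat surjective morphism from the spectrum of
a field. -/
theorem exists_flat_fieldPt_of_reduced_singleton {Z : Sp S} (hZ : IsAlgSpace Z)
    (hred : IsReducedSp Z) [Nonempty (Points Z)] [Subsingleton (Points Z)] :
    ∃ (k : Type u) (_ : Field k) (str : Spec (CommRingCat.of k) ⟶ S)
      (p : (yon S).obj (Over.mk str) ⟶ Z), LocP @Flat p ∧ IsSurjectiveMor p := by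
  obtain ⟨U, a, hae, has, hU⟩ := hred
  obtain ⟨z⟩ := (inferInstance : Nonempty (Points Z))
  obtain ⟨u, -⟩ := surjective_ofPt a has z
  haveI : Nonempty ↥U.left := ⟨u⟩
  haveI : IsReduced U.left := hU
  obtain ⟨k, _, g, hg⟩ := Groth.Agent.Helper2.SchLib.exists_flat_fieldPt_of_isReduced U.left
  let go : Over.mk (g ≫ U.hom) ⟶ U := Over.homMk g rfl
  refine ⟨k, inferInstance, g ≫ U.hom, (yon S).map go ≫ a, ?_, ?_⟩
  · refine locP_comp @Flat (IsAlgSpace.yon_obj _) (IsAlgSpace.yon_obj U) hZ _ a ?_ ?_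
    · exact locP_of_repWith @Flat (IsAlgSpace.yon_obj _).diag _
        ((repWith_yon_map_iff @Flat go).2 hg)
    · refine locP_of_repWith @Flat (IsAlgSpace.yon_obj U).diag a ⟨hae.rep, ?_⟩
      intro A B t fst snd sq
      haveI : Etale snd.left := hae.property t fst snd sq
      show Flat snd.left
      infer_instance
  · intro z'
    obtain ⟨y⟩ := (inferInstance : Nonempty (Points ((yon S).obj (Over.mk (g ≫ U.hom)))))
    exact ⟨y, Subsingleton.elim _ _⟩

/-- A nonempty algebraic space has a field point locally of finite type. -/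
theorem exists_lft_fieldPt_sp {Z : Sp S} (hZ : IsAlgSpace Z) [Nonempty (Points Z)] :
    ∃ (k : Type u) (_ : Field k) (str : Spec (CommRingCat.of k) ⟶ S)
      (q : (yon S).obj (Over.mk str) ⟶ Z), LocP @LocallyOfFiniteType q := by
  obtain ⟨U, a, hae, has⟩ := hZ.atlas
  obtain ⟨z⟩ := (inferInstance : Nonempty (Points Z))
  obtain ⟨u, -⟩ := surjective_ofPt a has z
  haveI : Nonempty ↥U.left := ⟨u⟩
  obtain ⟨k, _, g, hg⟩ := Groth.Agent.Helper2.SchLib.exists_lft_fieldPt U.left
  let go : Over.mk (g ≫ U.hom) ⟶ U := Over.homMk g rfl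
  refine ⟨k, inferInstance, g ≫ U.hom, (yon S).map go ≫ a, ?_⟩
  refine locP_comp @LocallyOfFiniteType (IsAlgSpace.yon_obj _) (IsAlgSpace.yon_obj U) hZ _ a ?_ ?_
  · exact locP_of_repWith @LocallyOfFiniteType (IsAlgSpace.yon_obj _).diag _
      ((repWith_yon_map_iff @LocallyOfFiniteType go).2 hg)
  · refine locP_of_repWith @LocallyOfFiniteType (IsAlgSpace.yon_obj U).diag a ⟨hae.rep, ?_⟩
    intro A B t fst snd sq
    haveI : Etale snd.left := hae.property t fst snd sq
    show LocallyOfFiniteType snd.left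
    infer_instance

/-- `S10367`. -/
theorem exists_lft_flat_surjective_fieldPt {Z : Sp S} (hZ : IsAlgSpace Z)
    {k : Type u} [Field k] (str : Spec (CommRingCat.of k) ⟶ S)
    (p : (yon S).obj (Over.mk str) ⟶ Z) (hpf : LocP @Flat p) (hps : IsSurjectiveMor p) :
    ∃ (k' : Type u) (_ : Field k') (str' : Spec (CommRingCat.of k') ⟶ S)
      (q : (yon S).obj (Over.mk str') ⟶ Z),
      LocP @LocallyOfFiniteType q ∧ LocP @Flat q ∧ IsSurjectiveMor q := by
  haveI : Nonempty (Points Z) := (reduced_singleton_of_fieldPt hZ str p hpf hps).2.1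
  obtain ⟨k', _, str', q, hq⟩ := exists_lft_fieldPt_sp hZ
  obtain ⟨h1, h2⟩ := flat_surjective_of_fieldPt hZ str p hpf hps str' q
  exact ⟨k', inferInstance, str', q, hq, h1, h2⟩

/-- Locally of finite type into a locally Noetherian space is locally of finite presentation. -/
theorem locP_lfp_of_lft_of_isLocNoethSp {X Z : Sp S} (hN : IsLocNoethSp Z) (q : X ⟶ Z)
    (hq : LocP @LocallyOfFiniteType q) : LocP @LocallyOfFinitePresentation q := by
  intro U V a b h ha hb comm
  haveI : IsLocallyNoetherian V.left := isLocallyNoetherian_of_etale_of_isLocNoethSp hN b hb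
  haveI : LocallyOfFiniteType h.left := hq a b h ha hb comm
  exact LocallyOfFinitePresentation.iff_locallyOfFiniteType.2 inferInstance

theorem isLocNoethSp_yon_field {k : Type u} [Field k] (str : Spec (CommRingCat.of k) ⟶ S) :
    IsLocNoethSp ((yon S).obj (Over.mk str)) :=
  ⟨Over.mk str, 𝟙 _, repWith_etale_id _, AlgSp.repWith_id @Surjective _,
    (inferInstance : IsLocallyNoetherian (Spec (CommRingCat.of k)))⟩

/-- `S10368`. -/
theorem reduced_locNoeth_singleton_iff_fieldPt {Z : Sp S} (hZ : IsAlgSpace Z) :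
    (IsReducedSp Z ∧ IsLocNoethSp Z ∧ Nonempty (Points Z) ∧ Subsingleton (Points Z)) ↔
      ∃ (k : Type u) (_ : Field k) (str : Spec (CommRingCat.of k) ⟶ S)
        (p : (yon S).obj (Over.mk str) ⟶ Z),
        LocP @LocallyOfFinitePresentation p ∧ LocP @Flat p ∧ IsSurjectiveMor p := by
  constructor
  · rintro ⟨hred, hN, hne, hsub⟩
    obtain ⟨k, _, str, p, hpf, hps⟩ := exists_flat_fieldPt_of_reduced_singleton hZ hred
    obtain ⟨k', _, str', q, hq1, hq2, hq3⟩ :=
      exists_lft_flat_surjective_fieldPt hZ str p hpf hps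
    exact ⟨k', inferInstance, str', q, locP_lfp_of_lft_of_isLocNoethSp hN q hq1, hq2, hq3⟩
  · rintro ⟨k, _, str, p, hp1, hp2, hp3⟩
    obtain ⟨h1, h2, h3⟩ := reduced_singleton_of_fieldPt hZ str p hp2 hp3
    exact ⟨h1, isLocNoethSp_of_fppf_surjective (IsAlgSpace.yon_obj _) hZ p hp1 hp2 hp3
      (isLocNoethSp_yon_field str), h2, h3⟩

end Groth.Agent.Helper2.AlgSpBasic
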