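import Mathlib
import Groth.Agent.Lib.Helper2.AlgSp.FieldPt
import Groth.Agent.Lib.Helper2.AlgSp.Mono

/-! Monomorphisms from algebraic spaces to spectra of fields (copy of `MonoField` in a separate
namespace, to avoid a name collision with `Thick`). -/
namespace Groth.Agent.Helper2.MonoFieldB
open CategoryTheory CategoryTheory.Limits AlgebraicGeometry Opposite AlgSp Topology
open Groth.Agent.Helper2.EtaleLocal Groth.Agent.Helper2.AlgSpBasic
universe u
variable {S : Scheme.{u}}

/-- Pullback squares stay pullback squares after composing with a monomorphism. -/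
theorem isPullback_comp_mono' {C : Type*} [Category C] {P X Y W Z : C} {fst : P ⟶ X} {snd : P ⟶ Y}
    {f : X ⟶ W} {g : Y ⟶ W} (sq : IsPullback fst snd f g) (i : W ⟶ Z) [Mono i] :
    IsPullback fst snd (f ≫ i) (g ≫ i) := by
  refine ⟨⟨by rw [← Category.assoc, sq.w, Category.assoc]⟩, ⟨?_⟩⟩
  exact PullbackCone.isLimitOfCompMono f g i _ sq.isLimit

set_option backward.isDefEq.respectTransparency.types false in
/-- A nonempty algebraic space with a monomorphism to the spectrum of a field is étale over it. -/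
theorem locP_etale_of_mono_to_field {Z : Sp S} (hZ : IsAlgSpace Z) [Nonempty (Points Z)]
    {k : Type u} [Field k] (str : Spec (CommRingCat.of k) ⟶ S)
    (f : Z ⟶ (yon S).obj (Over.mk str)) [Mono f] : LocP @Etale f := by
  obtain ⟨U₀, a₀, ha₀e, ha₀s⟩ := hZ.atlas
  obtain ⟨z⟩ := (inferInstance : Nonempty (Points Z))
  obtain ⟨u₀, -⟩ := surjective_ofPt a₀ ha₀s z
  obtain ⟨_, ⟨V₀, hV₀ : IsAffineOpen V₀, rfl⟩, hu₀V, -⟩ :=
    U₀.left.isBasis_affineOpens.exists_subset_of_mem_open (Set.mem_univ u₀) isOpen_univ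
  obtain ⟨V, hV, hu₀V⟩ : ∃ V : U₀.left.Opens, IsAffineOpen V ∧ u₀ ∈ V := ⟨V₀, hV₀, hu₀V⟩
  let Vo : Over S := Over.mk (V.ι ≫ U₀.hom)
  let iV : Vo ⟶ U₀ := Over.homMk V.ι rfl
  have haV : RepWith @Etale ((yon S).map iV ≫ a₀) :=
    repWith_comp @Etale ((repWith_yon_map_iff @Etale iV).2 (inferInstance : Etale V.ι)) ha₀e
  obtain ⟨v, hv⟩ := (yon S).map_surjective (((yon S).map iV ≫ a₀) ≫ f)
  have : IsAffine Vo.left := hV
  have : Nonempty ↥Vo.left := ⟨⟨u₀, hu₀V⟩⟩
  have hvQ : (@Surjective ⊓ @Flat ⊓ @QuasiCompact : MorphismProperty Scheme.{u}) v.left := by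
    refine ⟨⟨⟨fun y => ?_⟩, ?_⟩, ?_⟩
    · obtain ⟨x⟩ := (inferInstance : Nonempty ↥Vo.left)
      have : Subsingleton ↥(Over.mk str).left :=
        (inferInstance : Subsingleton ↥(Spec (CommRingCat.of k)))
      exact ⟨x, Subsingleton.elim _ _⟩
    · show Flat (X := Vo.left) (Y := Spec (CommRingCat.of k)) v.left
      infer_instance
    · show QuasiCompact (X := Vo.left) (Y := Spec (CommRingCat.of k)) v.left
      infer_instance
  intro U W a b h ha hb comm
  obtain ⟨b', rfl⟩ := (yon S).map_surjective b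
  have hb' : Etale b'.left := (repWith_yon_map_iff @Etale b').1 hb
  obtain ⟨g', hg'⟩ := (yon S).map_surjective (a ≫ f)
  have hrep := ha.rep
  have sq := hrep.isPullback ((yon S).map iV ≫ a₀)
  obtain ⟨t₁, ht₁⟩ := (yon S).map_surjective (hrep.fst ((yon S).map iV ≫ a₀))
  have hsnd : Etale (hrep.snd ((yon S).map iV ≫ a₀)).left := ha.property _ _ _ sq
  have sq' := isPullback_comp_mono' sq f
  rw [← ht₁, ← hg', ← hv] at sq'
  have sq'' : IsPullback t₁ (hrep.snd ((yon S).map iV ≫ a₀)) g' v :=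
    IsPullback.of_map (yon S) ((yon S).map_injective (by
      rw [Functor.map_comp, Functor.map_comp]; exact sq'.w)) sq'
  have sq3 := (sq''.map (Over.forget S)).flip
  have hg'e : Etale g'.left :=
    MorphismProperty.DescendsAlong.of_isPullback (P := @Etale)
      (Q := (@Surjective ⊓ @Flat ⊓ @QuasiCompact : MorphismProperty Scheme.{u})) sq3 hvQ hsnd
  have heq : g' = h ≫ b' := (yon S).map_injective (by rw [hg', comm, Functor.map_comp])
  have : Etale (h.left ≫ b'.left) := by rw [← Over.comp_left, ← heq]; exact hg'e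
  exact IsEtaleLocalST.of_postcomp_etale (P := @Etale) h.left b'.left this

/-- `S9929`: a monomorphism to the spectrum of a field is empty or an isomorphism. -/
theorem isEmpty_or_isIso_of_mono_to_field {Z : Sp S} (hZ : IsAlgSpace Z)
    {k : Type u} [Field k] (str : Spec (CommRingCat.of k) ⟶ S)
    (f : Z ⟶ (yon S).obj (Over.mk str)) [Mono f] : IsEmpty (Points Z) ∨ IsIso f := by
  rcases isEmpty_or_nonempty (Points Z) with h | h
  · exact Or.inl h
  · right
    refine isIso_of_mono_of_locP_etale_surjective hZ (IsAlgSpace.yon_obj _) f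
      (locP_etale_of_mono_to_field hZ str f) ?_
    intro y
    obtain ⟨z⟩ := h
    exact ⟨z, Subsingleton.elim _ _⟩


end Groth.Agent.Helper2.MonoFieldB
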