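import Mathlib
import Groth.Prelude.Def_AlgSp4
import Groth.Prelude.Def_AlgSpDec
import Groth.Agent.Lib.Helper2.AlgSp.MonoFieldB

/-!
# Points represented by a quasi-compact monomorphism from the spectrum of a field
(copy of `QcMonoPoint` importing `MonoFieldB`, to avoid a name collision with `Thick`)
-/

set_option autoImplicit false
set_option backward.isDefEq.respectTransparency false

open CategoryTheory CategoryTheory.Limits AlgebraicGeometry Opposite AlgSp

namespace Groth.Agent.Helper2.QcMonoPointB
universe u
variable {S : Scheme.{u}}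

/-- A field-valued point in the class of a monomorphic field-valued point factors through it. -/
theorem exists_factor_of_mono {X : Sp S} (hX : IsAlgSpace X) (p q : FieldPt X) (hm : Mono p.toHom)
    (h : Points.mk q = Points.mk p) :
    ∃ g : (yon S).obj q.pt ⟶ (yon S).obj p.pt, g ≫ p.toHom = q.toHom := by
  let fst : pullback q.toHom p.toHom ⟶ (yon S).obj q.pt := pullback.fst _ _
  let snd : pullback q.toHom p.toHom ⟶ (yon S).obj p.pt := pullback.snd _ _
  have sq : IsPullback fst snd q.toHom p.toHom := IsPullback.of_hasPullback _ _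
  have hZ : IsAlgSpace (pullback q.toHom p.toHom) :=
    AlgSpBasic.isAlgSpace_of_isPullback hX.diag (IsAlgSpace.yon_obj _) (IsAlgSpace.yon_obj _)
      q.toHom p.toHom fst snd sq
  haveI : Mono fst := by
    haveI := hm
    exact inferInstanceAs (Mono (pullback.fst q.toHom p.toHom))
  have hne : Nonempty (Points (pullback q.toHom p.toHom)) := by
    let sq' : ↥(Spec (CommRingCat.of q.K)) := IsLocalRing.closedPoint q.K
    let sp' : ↥(Spec (CommRingCat.of p.K)) := IsLocalRing.closedPoint p.K
    have e : Points.map q.toHom (Points.ofScheme q.pt sq') =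
        Points.map p.toHom (Points.ofScheme p.pt sp') := by
      rw [← Points.ofPt_eq_map_ofScheme, ← Points.ofPt_eq_map_ofScheme, Points.ofPt_toHom,
        Points.ofPt_toHom, h]
    obtain ⟨z, -, -⟩ := AlgSpBasic.points_exists_of_isPullback p.toHom q.toHom fst snd sq
      (Points.ofScheme q.pt sq') (Points.ofScheme p.pt sp') e
    exact ⟨z⟩
  rcases MonoFieldB.isEmpty_or_isIso_of_mono_to_field hZ q.str fst with hE | hI
  · exact absurd hne (not_nonempty_iff.mpr hE)
  · haveI := hI
    refine ⟨inv fst ≫ snd, ?_⟩
    rw [Category.assoc, ← sq.w, IsIso.inv_hom_id_assoc]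

/-- S10362. -/
theorem main {X : Sp S} (hX : IsAlgSpace X) (p q : FieldPt X) (hm : Mono p.toHom)
    (hp : RepWith @QuasiCompact p.toHom) (h : Points.mk q = Points.mk p) :
    RepWith @QuasiCompact q.toHom := by
  obtain ⟨g, hg⟩ := exists_factor_of_mono hX p q hm h
  obtain ⟨g₀, rfl⟩ := (yon S).map_surjective g
  rw [← hg]
  refine AlgSpBasic.repWith_comp @QuasiCompact ?_ hp
  rw [repWith_yon_map_iff]
  haveI : IsAffine q.pt.left := inferInstanceAs (IsAffine (Spec (CommRingCat.of q.K)))
  haveI : IsAffine p.pt.left := inferInstanceAs (IsAffine (Spec (CommRingCat.of p.K)))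
  haveI : IsAffineHom g₀.left := isAffineHom_of_isAffine _
  infer_instance

end Groth.Agent.Helper2.QcMonoPointB
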