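import Mathlib
import Groth.Prelude.Def_AlgSp4
import Groth.Prelude.Def_AlgSpDec
import Groth.Agent.Lib.Helper2.AlgSp.FieldFibre
import Groth.Agent.Lib.Helper2.AlgSp.QcMonoPointB

/-!
# Finiteness of fibres of a fibre product over a monomorphic point (helper2)
(copy of `FibreProdFinite` with lighter imports, to avoid a name collision with `Thick`)
-/

set_option autoImplicit false
set_option backward.isDefEq.respectTransparency false

open CategoryTheory CategoryTheory.Limits AlgebraicGeometry Opposite AlgSp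

namespace Groth.Agent.Helper2.FibreProdFiniteB
universe u
variable {S : Scheme.{u}}

/-- The restriction of a chart to an open subscheme. -/
noncomputable abbrev opensOverB (U : Over S) (V : U.left.Opens) : Over S := Over.mk (V.ι ≫ U.hom)

/-- The inclusion of an open subscheme of a chart. -/
noncomputable abbrev opensιB (U : Over S) (V : U.left.Opens) : opensOverB U V ⟶ U :=
  Over.homMk V.ι rfl

theorem finite_of_isFinite_field {T : Scheme.{u}} {K : Type u} [Field K]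
    (c : T ⟶ Spec (CommRingCat.of K)) [IsFinite c] : Finite ↥T := by
  let c₀ : ↥(Spec (CommRingCat.of K)) := IsLocalRing.closedPoint K
  have h1 := c.finite_preimage_singleton c₀
  refine Set.finite_univ_iff.mp (h1.subset (fun w _ => ?_))
  exact Subsingleton.elim (α := ↥(Spec (CommRingCat.of K))) _ _

/-- Points of an iterated fibre product. -/
theorem exists_point_of_isPullback_lift {X Y Z W A B P : Sp S} {f : X ⟶ Y} {g : Z ⟶ Y}
    {p : W ⟶ X} {q : W ⟶ Z} (hW : IsPullback p q f g) (ξ : A ⟶ X) (ζ : B ⟶ Z)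
    (π₁ : P ⟶ A) (π₂ : P ⟶ B) (hP : IsPullback π₁ π₂ (ξ ≫ f) (ζ ≫ g)) (ω : P ⟶ W)
    (hω1 : ω ≫ p = π₁ ≫ ξ) (hω2 : ω ≫ q = π₂ ≫ ζ) (w : Points W) (α : Points A) (β : Points B)
    (hα : Points.map ξ α = Points.map p w) (hβ : Points.map ζ β = Points.map q w) :
    ∃ π : Points P, Points.map ω π = w := by
  have sqA := IsPullback.of_hasPullback ξ p
  obtain ⟨α', hα'1, hα'2⟩ := AlgSpBasic.points_exists_of_isPullback p ξ (pullback.fst ξ p)
    (pullback.snd ξ p) sqA α w hα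
  have sqB := IsPullback.of_hasPullback (pullback.snd ξ p ≫ q) ζ
  obtain ⟨β', hβ'1, hβ'2⟩ := AlgSpBasic.points_exists_of_isPullback ζ (pullback.snd ξ p ≫ q)
    (pullback.fst (pullback.snd ξ p ≫ q) ζ) (pullback.snd (pullback.snd ξ p ≫ q) ζ) sqB α' β (by
      rw [Points.map_comp, hα'2, hβ])
  let b₁ := pullback.fst (pullback.snd ξ p ≫ q) ζ
  let b₂ := pullback.snd (pullback.snd ξ p ≫ q) ζ
  let a₁ := pullback.fst ξ p
  let a₂ := pullback.snd ξ p
  have hc : (b₁ ≫ a₁) ≫ ξ ≫ f = b₂ ≫ ζ ≫ g := by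
    have h1 : a₁ ≫ ξ = a₂ ≫ p := sqA.w
    have h2 : b₁ ≫ a₂ ≫ q = b₂ ≫ ζ := sqB.w
    calc (b₁ ≫ a₁) ≫ ξ ≫ f = b₁ ≫ (a₁ ≫ ξ) ≫ f := by simp only [Category.assoc]
      _ = b₁ ≫ (a₂ ≫ p) ≫ f := by rw [h1]
      _ = b₁ ≫ a₂ ≫ (p ≫ f) := by simp only [Category.assoc]
      _ = b₁ ≫ a₂ ≫ (q ≫ g) := by rw [hW.w]
      _ = (b₁ ≫ a₂ ≫ q) ≫ g := by simp only [Category.assoc]
      _ = (b₂ ≫ ζ) ≫ g := by rw [h2]
      _ = b₂ ≫ ζ ≫ g := by simp only [Category.assoc]
  let θ := hP.lift (b₁ ≫ a₁) b₂ hc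
  have hθ1 : θ ≫ π₁ = b₁ ≫ a₁ := hP.lift_fst _ _ _
  have hθ2 : θ ≫ π₂ = b₂ := hP.lift_snd _ _ _
  have hθω : θ ≫ ω = b₁ ≫ a₂ := by
    apply hW.hom_ext
    · rw [Category.assoc, hω1, ← Category.assoc, hθ1, Category.assoc, Category.assoc]
      congr 1
      exact sqA.w
    · rw [Category.assoc, hω2, ← Category.assoc, hθ2, Category.assoc]
      exact sqB.w.symm
  refine ⟨Points.map θ β', ?_⟩
  rw [← Points.map_comp, hθω, Points.map_comp, hβ'1, hα'2]

/-- `S10389`. -/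
theorem main {X Y Z W : Sp S} (hY : IsAlgSpace Y) (f : X ⟶ Y) (g : Z ⟶ Y) (p : W ⟶ X)
    (q : W ⟶ Z) (hW : IsPullback p q f g) (x : Points X) (z : Points Z)
    (hxz : Points.map f x = Points.map g z)
    (hy : ∃ r : FieldPt Y, Points.mk r = Points.map g z ∧ Mono r.toHom)
    (hg : HasAtMor (fun U _ h u => ∃ W : U.Opens, u ∈ W ∧ LocallyQuasiFinite (W.ι ≫ h) ∧
      LocallyOfFiniteType (W.ι ≫ h)) g z) :
    {w : Points W | Points.map p w = x ∧ Points.map q w = z}.Finite := by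
  obtain ⟨r, hr, hm⟩ := hy
  obtain ⟨U₁, V₁, a₁, b₁, h, u₁, ha₁, hb₁, hcomm, hu₁, W₀, hu₁W, hqf, -⟩ := hg
  obtain ⟨G, cG, eG, sqG⟩ := AlgSpBasic.exists_isPullback_yon hY.diag r.toHom b₁
  haveI : Etale cG.left := hb₁.property r.toHom ((yon S).map eG) cG sqG.flip
  haveI : LocallyQuasiFinite cG.left := QfAt.locallyQuasiFinite_of_etale _
  obtain ⟨T, tG, eT, sqT⟩ := AlgSpBasic.exists_isPullback_yon
    (IsAlgSpace.yon_obj (S := S) V₁).diag ((yon S).map eG)
    ((yon S).map (opensιB U₁ W₀ ≫ h))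
  have sqBig : IsPullback ((yon S).map tG ≫ (yon S).map cG) ((yon S).map eT) r.toHom
      ((yon S).map (opensιB U₁ W₀ ≫ h) ≫ b₁) := sqT.paste_horiz sqG
  have hbot : (yon S).map (opensιB U₁ W₀ ≫ h) ≫ b₁ =
      ((yon S).map (opensιB U₁ W₀) ≫ a₁) ≫ g := by
    rw [Functor.map_comp, Category.assoc, ← hcomm, Category.assoc]
  have sqT' : IsPullback tG eT eG (opensιB U₁ W₀ ≫ h) :=
    IsPullback.of_map (yon S) ((yon S).map_injective (by
      rw [Functor.map_comp, Functor.map_comp]; exact sqT.w)) sqT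
  have sqT'' := sqT'.map (Over.forget S)
  haveI : LocallyQuasiFinite tG.left :=
    MorphismProperty.of_isPullback (P := @LocallyQuasiFinite) sqT''.flip hqf
  -- the point of `T` over `u₁`
  obtain ⟨τ, hτ, -⟩ := AlgSpBasic.exists_point_of_isPullback_yon
    ((yon S).map (opensιB U₁ W₀ ≫ h) ≫ b₁) r.toHom eT (tG ≫ cG)
    (by rw [Functor.map_comp]; exact sqBig.flip) (⟨u₁, hu₁W⟩ : ↥W₀)
    (IsLocalRing.closedPoint r.K : ↥(Spec (CommRingCat.of r.K))) (by
      rw [hbot, ← Points.map_ofPt, AlgSpBasic.ofPt_yon_map_comp, Points.ofPt_toHom, hr]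
      congr 1)
  -- the finite morphism to `Spec k`
  let m' : FieldFibre.resOver T τ ⟶ r.pt := FieldFibre.resι T τ ≫ tG ≫ cG
  haveI : LocallyQuasiFinite m'.left := by
    change LocallyQuasiFinite (T.left.fromSpecResidueField τ ≫ tG.left ≫ cG.left)
    infer_instance
  haveI : IsFinite m'.left := by
    change IsFinite (X := Spec (T.left.residueField τ)) (Y := Spec (CommRingCat.of r.K)) m'.left
    haveI : LocallyQuasiFinite (X := Spec (T.left.residueField τ))
      (Y := Spec (CommRingCat.of r.K)) m'.left := ‹LocallyQuasiFinite m'.left›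
    exact IsFinite.of_locallyQuasiFinite _
  let ζ' : (yon S).obj (FieldFibre.resOver T τ) ⟶ Z :=
    (yon S).map (FieldFibre.resι T τ ≫ eT ≫ opensιB U₁ W₀) ≫ a₁
  have hζ'g : ζ' ≫ g = (yon S).map m' ≫ r.toHom := by
    have h1 := sqBig.w
    simp only [ζ', m', Functor.map_comp, Category.assoc] at h1 ⊢
    rw [hcomm, h1]
  have hζ'z : ∀ c, Points.ofPt ζ' c = z := by
    intro c
    simp only [ζ']
    rw [AlgSpBasic.ofPt_yon_map_comp, ← hu₁]
    congr 1
    have h1 : (FieldFibre.resι T τ).left c = τ := Scheme.fromSpecResidueField_apply _ _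
    change (opensιB U₁ W₀).left (eT.left ((FieldFibre.resι T τ).left c)) = u₁
    rw [h1, hτ]
    rfl
  -- the point `x`
  induction x using Points.ind with | h ξ => ?_
  obtain ⟨n₀, hn⟩ : ∃ n₀ : ξ.pt ⟶ r.pt, (yon S).map n₀ ≫ r.toHom = ξ.toHom ≫ f := by
    obtain ⟨n, hn⟩ := QcMonoPointB.exists_factor_of_mono hY r (ξ.map f) hm (by
      rw [← Points.map_mk, hxz, hr])
    rw [FieldPt.toHom_map] at hn
    obtain ⟨n₀, rfl⟩ := (yon S).map_surjective n
    exact ⟨n₀, hn⟩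
  obtain ⟨P', π₁, π₂, sqP⟩ := AlgSpBasic.exists_isPullback_yon
    (IsAlgSpace.yon_obj (S := S) r.pt).diag ((yon S).map n₀) ((yon S).map m')
  have sqP' : IsPullback π₁ π₂ n₀ m' :=
    IsPullback.of_map (yon S) ((yon S).map_injective (by
      rw [Functor.map_comp, Functor.map_comp]; exact sqP.w)) sqP
  have sqP'' := sqP'.map (Over.forget S)
  haveI : IsFinite π₁.left :=
    MorphismProperty.of_isPullback (P := @IsFinite) sqP''.flip ‹IsFinite m'.left›
  haveI : Finite ↥P'.left := finite_of_isFinite_field (K := ξ.K) π₁.left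
  haveI := hm
  have sqPY : IsPullback ((yon S).map π₁) ((yon S).map π₂) (ξ.toHom ≫ f) (ζ' ≫ g) := by
    have := MonoFieldB.isPullback_comp_mono' sqP r.toHom
    rw [hn, ← hζ'g] at this
    exact this
  let ω : (yon S).obj P' ⟶ W := hW.lift ((yon S).map π₁ ≫ ξ.toHom) ((yon S).map π₂ ≫ ζ') (by
    have := sqPY.w
    simp only [Category.assoc] at this ⊢
    exact this)
  refine (Set.finite_range (Points.ofPt ω)).subset ?_
  rintro w ⟨hw1, hw2⟩
  obtain ⟨π, hπ⟩ := exists_point_of_isPullback_lift hW ξ.toHom ζ' ((yon S).map π₁)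
    ((yon S).map π₂) sqPY ω (hW.lift_fst _ _ _) (hW.lift_snd _ _ _) w
    (Points.ofScheme ξ.pt (IsLocalRing.closedPoint ξ.K : ↥(Spec (CommRingCat.of ξ.K))))
    (Points.ofScheme (FieldFibre.resOver T τ)
      (IsLocalRing.closedPoint (T.left.residueField τ) : ↥(Spec (T.left.residueField τ))))
    (by rw [← Points.ofPt_eq_map_ofScheme, Points.ofPt_toHom, hw1])
    (by rw [← Points.ofPt_eq_map_ofScheme, hζ'z, hw2])
  obtain ⟨t, rfl⟩ := (Points.schemeHomeo P').surjective π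
  exact ⟨t, by rw [Points.ofPt_eq_map_ofScheme]; exact hπ⟩

end Groth.Agent.Helper2.FibreProdFiniteB
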