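import Mathlib
import Groth.Prelude.Def_Grpd
import Groth.Prelude.Def_AlgSp

/-!
# The groupoid scheme of a representable kernel pair (helper2)
-/

set_option autoImplicit false
set_option linter.unusedSimpArgs false
open CategoryTheory CategoryTheory.Limits AlgebraicGeometry Opposite AlgSp

namespace Groth.Agent.Helper2.KerPairGpd
universe u
variable {S : Scheme.{u}} {F : Sp S} {U R : Over S} (s t : R ⟶ U) (a : (yon S).obj U ⟶ F)
  (sq : IsPullback ((yon S).map t) ((yon S).map s) a a)

include sq in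
/-- Morphisms of schemes into `R` are determined by their two projections. -/
theorem hom_ext {T : Scheme.{u}} (α β : T ⟶ R.left) (h1 : α ≫ t.left = β ≫ t.left)
    (h2 : α ≫ s.left = β ≫ s.left) : α = β := by
  have hover : β ≫ R.hom = α ≫ R.hom := by
    rw [← Over.w t, ← Category.assoc, ← h1, Category.assoc]
  let αO : Over.mk (α ≫ R.hom) ⟶ R := Over.homMk α rfl
  let βO : Over.mk (α ≫ R.hom) ⟶ R := Over.homMk β hover
  have : αO = βO := by
    apply (yon S).map_injective
    apply sq.hom_ext
    · rw [← Functor.map_comp, ← Functor.map_comp]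
      congr 1
      exact Over.OverMorphism.ext h1
    · rw [← Functor.map_comp, ← Functor.map_comp]
      congr 1
      exact Over.OverMorphism.ext h2
  exact congrArg (fun m => m.left) this

/-- The condition for a pair of morphisms of schemes to lift to `R`. -/
def Rel {T : Scheme.{u}} (x y : T ⟶ U.left) : Prop :=
  ∃ h : y ≫ U.hom = x ≫ U.hom,
    (yon S).map (Over.homMk x rfl : Over.mk (x ≫ U.hom) ⟶ U) ≫ a =
      (yon S).map (Over.homMk y h : Over.mk (x ≫ U.hom) ⟶ U) ≫ a

include sq in
theorem exists_lift {T : Scheme.{u}} (x y : T ⟶ U.left) (h : Rel a x y) :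
    ∃ r : T ⟶ R.left, r ≫ t.left = x ∧ r ≫ s.left = y := by
  obtain ⟨h0, h1⟩ := h
  obtain ⟨r, hr⟩ := (yon S).map_surjective (sq.lift _ _ h1)
  refine ⟨r.left, ?_, ?_⟩
  · have : r ≫ t = Over.homMk x rfl := by
      apply (yon S).map_injective
      rw [Functor.map_comp, hr, sq.lift_fst]
    exact congrArg (fun m => m.left) this
  · have : r ≫ s = Over.homMk y h0 := by
      apply (yon S).map_injective
      rw [Functor.map_comp, hr, sq.lift_snd]
    exact congrArg (fun m => m.left) this

include sq in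
theorem rel_of_lift {T : Scheme.{u}} (r : T ⟶ R.left) : Rel a (r ≫ t.left) (r ≫ s.left) := by
  have h0 : (r ≫ s.left) ≫ U.hom = (r ≫ t.left) ≫ U.hom := by
    rw [Category.assoc, Category.assoc, Over.w s, Over.w t]
  refine ⟨h0, ?_⟩
  let rO : Over.mk ((r ≫ t.left) ≫ U.hom) ⟶ R := Over.homMk r (by
    show r ≫ R.hom = (r ≫ t.left) ≫ U.hom
    rw [Category.assoc, Over.w t])
  have e1 : (Over.homMk (r ≫ t.left) rfl : Over.mk ((r ≫ t.left) ≫ U.hom) ⟶ U) = rO ≫ t :=
    Over.OverMorphism.ext rfl
  have e2 : (Over.homMk (r ≫ s.left) h0 : Over.mk ((r ≫ t.left) ≫ U.hom) ⟶ U) = rO ≫ s :=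
    Over.OverMorphism.ext rfl
  rw [e1, e2, Functor.map_comp, Functor.map_comp]
  exact (Category.assoc _ _ _).trans ((congrArg (fun m => (yon S).map rO ≫ m) sq.w).trans
    (Category.assoc _ _ _).symm)

theorem rel_refl {T : Scheme.{u}} (x : T ⟶ U.left) : Rel a x x := ⟨rfl, rfl⟩

theorem rel_symm {T : Scheme.{u}} {x y : T ⟶ U.left} (h : Rel a x y) : Rel a y x := by
  obtain ⟨h0, h1⟩ := h
  refine ⟨h0.symm, ?_⟩
  have key : ∀ (A : Over S) (e : A = Over.mk (x ≫ U.hom)) (x' y' : A ⟶ U),
      x'.left = eqToHom (congrArg (fun Z => Z.left) e) ≫ x →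
      y'.left = eqToHom (congrArg (fun Z => Z.left) e) ≫ y →
      (yon S).map x' ≫ a = (yon S).map y' ≫ a := by
    intro A e x' y' hx hy
    subst e
    have hx' : x' = Over.homMk x rfl := Over.OverMorphism.ext (by simpa using hx)
    have hy' : y' = Over.homMk y h0 := Over.OverMorphism.ext (by simpa using hy)
    rw [hx', hy']
    exact h1
  have e : Over.mk (y ≫ U.hom) = Over.mk (x ≫ U.hom) := by rw [h0]
  exact (key (Over.mk (y ≫ U.hom)) e (Over.homMk x h0.symm) (Over.homMk y rfl)
    (by simp) (by simp)).symm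

theorem rel_trans {T : Scheme.{u}} {x y z : T ⟶ U.left} (h : Rel a x y) (h' : Rel a y z) :
    Rel a x z := by
  obtain ⟨h0, h1⟩ := h
  obtain ⟨h0', h1'⟩ := h'
  refine ⟨h0'.trans h0, h1.trans ?_⟩
  have key : ∀ (A : Over S) (e : A = Over.mk (y ≫ U.hom)) (y' z' : A ⟶ U),
      y'.left = eqToHom (congrArg (fun Z => Z.left) e) ≫ y →
      z'.left = eqToHom (congrArg (fun Z => Z.left) e) ≫ z →
      (yon S).map y' ≫ a = (yon S).map z' ≫ a := by
    intro A e y' z' hy hz
    subst e
    have hy' : y' = Over.homMk y rfl := Over.OverMorphism.ext (by simpa using hy)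
    have hz' : z' = Over.homMk z h0' := Over.OverMorphism.ext (by simpa using hz)
    rw [hy', hz']
    exact h1'
  have e : Over.mk (x ≫ U.hom) = Over.mk (y ≫ U.hom) := by rw [h0]
  exact key (Over.mk (x ≫ U.hom)) e (Over.homMk y h0) (Over.homMk z (h0'.trans h0))
    (by simp) (by simp)

theorem rel_precomp {T T' : Scheme.{u}} (g : T' ⟶ T) {x y : T ⟶ U.left} (h : Rel a x y) :
    Rel a (g ≫ x) (g ≫ y) := by
  obtain ⟨h0, h1⟩ := h
  have h0' : (g ≫ y) ≫ U.hom = (g ≫ x) ≫ U.hom := by
    rw [Category.assoc, Category.assoc, h0]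
  refine ⟨h0', ?_⟩
  let gO : Over.mk ((g ≫ x) ≫ U.hom) ⟶ Over.mk (x ≫ U.hom) := Over.homMk g (by simp)
  have e1 : (Over.homMk (g ≫ x) rfl : Over.mk ((g ≫ x) ≫ U.hom) ⟶ U) =
      gO ≫ Over.homMk x rfl := Over.OverMorphism.ext rfl
  have e2 : (Over.homMk (g ≫ y) h0' : Over.mk ((g ≫ x) ≫ U.hom) ⟶ U) =
      gO ≫ Over.homMk y h0 := Over.OverMorphism.ext rfl
  rw [e1, e2, Functor.map_comp, Functor.map_comp]
  exact (Category.assoc _ _ _).trans ((congrArg (fun m => (yon S).map gO ≫ m) h1).trans
    (Category.assoc _ _ _).symm)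

include sq in
theorem rel_of_eq {T : Scheme.{u}} (r : T ⟶ R.left) {x y : T ⟶ U.left} (hx : r ≫ t.left = x)
    (hy : r ≫ s.left = y) : Rel a x y := by
  subst hx hy
  exact rel_of_lift s t a sq r

section Gpd

/-- the identity section -/
noncomputable def eHom : U.left ⟶ R.left :=
  (exists_lift s t a sq (𝟙 _) (𝟙 _) (rel_refl a _)).choose

@[reassoc (attr := simp)]
theorem eHom_t : eHom s t a sq ≫ t.left = 𝟙 _ :=
  (exists_lift s t a sq (𝟙 _) (𝟙 _) (rel_refl a _)).choose_spec.1

@[reassoc (attr := simp)]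
theorem eHom_s : eHom s t a sq ≫ s.left = 𝟙 _ :=
  (exists_lift s t a sq (𝟙 _) (𝟙 _) (rel_refl a _)).choose_spec.2

include sq in
theorem rel_s_t : Rel a s.left t.left :=
  rel_symm a (rel_of_eq s t a sq (𝟙 _) (Category.id_comp _) (Category.id_comp _))

/-- the inverse -/
noncomputable def iHom : R.left ⟶ R.left :=
  (exists_lift s t a sq s.left t.left (rel_s_t s t a sq)).choose

@[reassoc (attr := simp)]
theorem iHom_t : iHom s t a sq ≫ t.left = s.left :=
  (exists_lift s t a sq s.left t.left (rel_s_t s t a sq)).choose_spec.1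

@[reassoc (attr := simp)]
theorem iHom_s : iHom s t a sq ≫ s.left = t.left :=
  (exists_lift s t a sq s.left t.left (rel_s_t s t a sq)).choose_spec.2

include sq in
theorem rel_comp : Rel a (pullback.fst s.left t.left ≫ t.left)
    (pullback.snd s.left t.left ≫ s.left) := by
  refine rel_trans a (rel_of_lift s t a sq (pullback.fst s.left t.left)) ?_
  rw [pullback.condition]
  exact rel_of_lift s t a sq (pullback.snd s.left t.left)

/-- the composition -/
noncomputable def cHom : pullback s.left t.left ⟶ R.left :=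
  (exists_lift s t a sq _ _ (rel_comp s t a sq)).choose

@[reassoc (attr := simp)]
theorem cHom_t : cHom s t a sq ≫ t.left = pullback.fst s.left t.left ≫ t.left :=
  (exists_lift s t a sq _ _ (rel_comp s t a sq)).choose_spec.1

@[reassoc (attr := simp)]
theorem cHom_s : cHom s t a sq ≫ s.left = pullback.snd s.left t.left ≫ s.left :=
  (exists_lift s t a sq _ _ (rel_comp s t a sq)).choose_spec.2

/-- The groupoid scheme of a kernel pair. -/
noncomputable def gpd : Grpd.GroupoidScheme S where
  U := U.left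
  R := R.left
  pU := U.hom
  pR := R.hom
  s := s.left
  t := t.left
  e := eHom s t a sq
  i := iHom s t a sq
  c := cHom s t a sq
  s_over := Over.w s
  t_over := Over.w t
  comp_s := fun α β h => by simp [pullback.lift_snd_assoc]
  comp_t := fun α β h => by simp [pullback.lift_fst_assoc]
  assoc := fun α β γ h₁ h₂ => hom_ext s t a sq _ _ (by simp [pullback.lift_fst_assoc, pullback.lift_snd_assoc]) (by simp [pullback.lift_fst_assoc, pullback.lift_snd_assoc])
  e_s := eHom_s s t a sq
  e_t := eHom_t s t a sq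
  comp_e := fun α => hom_ext s t a sq _ _ (by simp [pullback.lift_fst_assoc, pullback.lift_snd_assoc]) (by simp [pullback.lift_fst_assoc, pullback.lift_snd_assoc])
  e_comp := fun α => hom_ext s t a sq _ _ (by simp [pullback.lift_fst_assoc, pullback.lift_snd_assoc]) (by simp [pullback.lift_fst_assoc, pullback.lift_snd_assoc])
  i_s := iHom_s s t a sq
  i_t := iHom_t s t a sq
  comp_i := fun α => hom_ext s t a sq _ _ (by simp [pullback.lift_fst_assoc, pullback.lift_snd_assoc]) (by simp [pullback.lift_fst_assoc, pullback.lift_snd_assoc])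
  i_comp := fun α => hom_ext s t a sq _ _ (by simp [pullback.lift_fst_assoc, pullback.lift_snd_assoc]) (by simp [pullback.lift_fst_assoc, pullback.lift_snd_assoc])

end Gpd

end Groth.Agent.Helper2.KerPairGpd
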