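import Mathlib
import Groth.Prelude.Def_AlgSp
import Groth.Agent.Lib.Helper2.AlgSp.Basic
import Groth.Agent.Lib.Helper2.AlgSp.ZarGlue
import Groth.Agent.Lib.Helper2.AlgSp.Descent

set_option autoImplicit false
open CategoryTheory CategoryTheory.Limits AlgebraicGeometry Opposite AlgSp
open Groth.Agent.Helper2.AlgSpBasic

namespace Groth.Agent.Helper2.QuotEff
universe u
variable {S : Scheme.{u}}

/-- The representable presheaf, lifted one universe. -/
abbrev psh (V : Over S) : (Over S)ᵒᵖ ⥤ Type (u+1) := yoneda.obj V ⋙ uliftFunctor.{u+1,u}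

abbrev pshMap {V W : Over S} (g : V ⟶ W) : psh V ⟶ psh W :=
  Functor.whiskerRight (yoneda.map g) uliftFunctor.{u+1,u}

theorem repMap_repIso {V W : Over S} (g : V ⟶ W) :
    QuotSh.repMap Scheme.fppfPrecoverage g ≫ (QuotSh.repIsoUliftYoneda Scheme.fppfPrecoverage W).hom =
      (QuotSh.repIsoUliftYoneda Scheme.fppfPrecoverage V).hom ≫ (yon S).map g := by
  have := (sheafificationNatIso (J S) (Type (u+1))).inv.naturality ((yon S).map g)
  exact this

theorem repIso_inv_repMap {V W : Over S} (g : V ⟶ W) :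
    (QuotSh.repIsoUliftYoneda Scheme.fppfPrecoverage V).inv ≫ QuotSh.repMap Scheme.fppfPrecoverage g =
      (yon S).map g ≫ (QuotSh.repIsoUliftYoneda Scheme.fppfPrecoverage W).inv := by
  rw [Iso.inv_comp_eq, ← Category.assoc, Iso.eq_comp_inv, repMap_repIso]

variable {R U : Over S} (s t : R ⟶ U)

/-- The quotient map from `h_U`. -/
noncomputable abbrev qπ : (yon S).obj U ⟶ QuotSh.quot Scheme.fppfPrecoverage s t :=
  (QuotSh.repIsoUliftYoneda Scheme.fppfPrecoverage U).inv ≫ QuotSh.quotπ Scheme.fppfPrecoverage s t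

theorem qπ_condition : (yon S).map s ≫ qπ s t = (yon S).map t ≫ qπ s t := by
  unfold qπ
  rw [← Category.assoc, ← repIso_inv_repMap, Category.assoc, QuotSh.quot_condition,
    ← Category.assoc, repIso_inv_repMap, Category.assoc]

instance : Epi (QuotSh.quotπ Scheme.fppfPrecoverage s t) :=
  coequalizer.π_epi

instance : Epi (qπ s t) := epi_comp _ _

instance : Sheaf.IsLocallySurjective (qπ s t) :=
  (Sheaf.isLocallySurjective_iff_epi (qπ s t)).mpr inferInstance

theorem rel_of_π_eq (h : IsEqvRel s t) (T : Over S) (x y : (psh U).obj (op T))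
    (hxy : (coequalizer.π (pshMap s) (pshMap t)).app (op T) x =
      (coequalizer.π (pshMap s) (pshMap t)).app (op T) y) :
    ∃ r : T ⟶ R, r ≫ t = x.down ∧ r ≫ s = y.down := by
  let G := (evaluation (Over S)ᵒᵖ (Type (u+1))).obj (op T)
  have hcol := isColimitCoforkMapOfIsColimit G (coequalizer.condition (pshMap s) (pshMap t))
    (coequalizerIsCoequalizer (pshMap s) (pshMap t))
  let Us : Set ((psh U).obj (op T)) := {z | ∃ r : T ⟶ R, r ≫ t = x.down ∧ r ≫ s = z.down}
  have heq := h.equivalence T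
  have H : (G.map (pshMap s)) ⁻¹' Us = (G.map (pshMap t)) ⁻¹' Us := by
    ext r0
    constructor
    · rintro ⟨r, hr1, hr2⟩
      -- x ~ r0 ≫ s ; want x ~ r0 ≫ t
      have h1 : ∃ r' : T ⟶ R, r' ≫ t = r0.down ≫ s ∧ r' ≫ s = r0.down ≫ t :=
        heq.symm ⟨r0.down, rfl, rfl⟩
      exact heq.trans ⟨r, hr1, hr2⟩ h1
    · rintro ⟨r, hr1, hr2⟩
      exact heq.trans ⟨r, hr1, hr2⟩ ⟨r0.down, rfl, rfl⟩
  have key := Types.coequalizer_preimage_image_eq_of_preimage_eq (G.map (pshMap s))
    (G.map (pshMap t)) (G.map (coequalizer.π (pshMap s) (pshMap t))) _ hcol Us H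
  have hy : y ∈ (G.map (coequalizer.π (pshMap s) (pshMap t))) ⁻¹'
      ((G.map (coequalizer.π (pshMap s) (pshMap t))) '' Us) :=
    ⟨x, heq.refl _, hxy⟩
  rw [key] at hy
  exact hy

/-- Gluing along a covering sieve for the representable presheaf. -/
theorem exists_glue_sieve {T V : Over S} (Sv : Sieve T) (hSv : Sv ∈ J S T)
    (r : ∀ ⦃T' : Over S⦄ (f : T' ⟶ T), Sv f → (T' ⟶ V))
    (hr : ∀ ⦃T' T'' : Over S⦄ (f : T' ⟶ T) (g : T'' ⟶ T') (hf : Sv f),
      g ≫ r f hf = r (g ≫ f) (Sv.downward_closed hf g)) :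
    ∃ r0 : T ⟶ V, ∀ ⦃T' : Over S⦄ (f : T' ⟶ T) (hf : Sv f), f ≫ r0 = r f hf := by
  have hsh : Presieve.IsSheaf (J S) (yoneda.obj V) :=
    GrothendieckTopology.Subcanonical.isSheaf_of_isRepresentable _
  let fam : Presieve.FamilyOfElements (yoneda.obj V) Sv.arrows := fun T' f hf => r f hf
  have hcompat : fam.Compatible := by
    rw [Presieve.compatible_iff_sieveCompatible]
    intro T' T'' f g hf
    exact (hr f g hf).symm
  refine ⟨(hsh Sv hSv).amalgamate fam hcompat, fun T' f hf => ?_⟩
  exact (hsh Sv hSv).valid_glue hcompat f hf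

theorem hom_ext_sieve {T V : Over S} (Sv : Sieve T) (hSv : Sv ∈ J S T) (a b : T ⟶ V)
    (hab : ∀ ⦃T' : Over S⦄ (f : T' ⟶ T), Sv f → f ≫ a = f ≫ b) : a = b := by
  have hsh : Presieve.IsSheaf (J S) (yoneda.obj V) :=
    GrothendieckTopology.Subcanonical.isSheaf_of_isRepresentable _
  exact (hsh Sv hSv).isSeparatedFor.ext (fun T' f hf => hab f hf)

/-- The presentation of `qπ` through the presheaf coequalizer. -/
theorem exists_iso_sheafify :
    ∃ e : (presheafToSheaf (J S) (Type (u+1))).obj (coequalizer (pshMap s) (pshMap t)) ≅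
        QuotSh.quot Scheme.fppfPrecoverage s t,
      ∀ (T : Over S) (x : (psh U).obj (op T)),
        (qπ s t).hom.app (op T) x = e.hom.hom.app (op T)
          ((toSheafify (J S) (coequalizer (pshMap s) (pshMap t))).app (op T)
            ((coequalizer.π (pshMap s) (pshMap t)).app (op T) x)) := by
  let A := presheafToSheaf (J S) (Type (u+1))
  have hcolA := isColimitCoforkMapOfIsColimit A (coequalizer.condition (pshMap s) (pshMap t))
    (coequalizerIsCoequalizer (pshMap s) (pshMap t))
  have hcolQ := coequalizerIsCoequalizer (A.map (pshMap s)) (A.map (pshMap t))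
  let e0 := hcolA.coconePointUniqueUpToIso hcolQ
  have he0 : A.map (coequalizer.π (pshMap s) (pshMap t)) ≫ e0.hom =
      coequalizer.π (A.map (pshMap s)) (A.map (pshMap t)) :=
    hcolA.comp_coconePointUniqueUpToIso_hom hcolQ WalkingParallelPair.one
  refine ⟨e0, fun T x => ?_⟩
  have h1 : (qπ s t) = (QuotSh.repIsoUliftYoneda Scheme.fppfPrecoverage U).inv ≫
      A.map (coequalizer.π (pshMap s) (pshMap t)) ≫ e0.hom := by
    rw [he0]
    rfl
  have h2 : coequalizer.π (pshMap s) (pshMap t) ≫
      toSheafify (J S) (coequalizer (pshMap s) (pshMap t)) =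
      toSheafify (J S) (psh U) ≫ (A.map (coequalizer.π (pshMap s) (pshMap t))).hom :=
    toSheafify_naturality (J S) (coequalizer.π (pshMap s) (pshMap t))
  have h3 := congrArg (fun m => m.app (op T) x) h2
  rw [h1]
  show e0.hom.hom.app (op T) ((A.map (coequalizer.π (pshMap s) (pshMap t))).hom.app (op T)
    ((toSheafify (J S) (psh U)).app (op T) x)) = _
  congr 1
  exact h3.symm


/-- Effectivity of the equivalence relation, on sections. -/
theorem rel_of_qπ_app_eq (h : IsEqvRel s t) {T : Over S} (a b : T ⟶ U)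
    (hab : (qπ s t).hom.app (op T) (ULift.up a) = (qπ s t).hom.app (op T) (ULift.up b)) :
    ∃ r : T ⟶ R, r ≫ t = a ∧ r ≫ s = b := by
  classical
  obtain ⟨e, he⟩ := exists_iso_sheafify s t
  let P := coequalizer (pshMap s) (pshMap t)
  let π := coequalizer.π (pshMap s) (pshMap t)
  have h1 := he T (ULift.up a)
  have h2 := he T (ULift.up b)
  rw [h1, h2] at hab
  have hinj : Function.Injective (e.hom.hom.app (op T)) :=
    (((sheafToPresheaf (J S) (Type (u+1))).mapIso e).app (op T)).toEquiv.injective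
  have hab' := hinj hab
  have hmem := Presheaf.equalizerSieve_mem (J S) (toSheafify (J S) P) _ _ hab'
  have hloc : ∀ ⦃T' : Over S⦄ (f : T' ⟶ T),
      Presheaf.equalizerSieve (F := P) (X := op T) (π.app (op T) (ULift.up a))
        (π.app (op T) (ULift.up b)) f →
      ∃ r : T' ⟶ R, r ≫ t = f ≫ a ∧ r ≫ s = f ≫ b := by
    intro T' f hf
    have hf' : P.map f.op (π.app (op T) (ULift.up a)) = P.map f.op (π.app (op T) (ULift.up b)) := hf
    have na : π.app (op T') ((psh U).map f.op (ULift.up a)) =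
        P.map f.op (π.app (op T) (ULift.up a)) := NatTrans.naturality_apply π f.op _
    have nb : π.app (op T') ((psh U).map f.op (ULift.up b)) =
        P.map f.op (π.app (op T) (ULift.up b)) := NatTrans.naturality_apply π f.op _
    have hf'' : π.app (op T') ((psh U).map f.op (ULift.up a)) =
        π.app (op T') ((psh U).map f.op (ULift.up b)) := na.trans (hf'.trans nb.symm)
    exact rel_of_π_eq s t h T' _ _ hf''
  choose r hr1 hr2 using hloc
  obtain ⟨r0, hr0⟩ := exists_glue_sieve _ hmem r (by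
    intro T' T'' f g hf
    apply h.injective
    · rw [Category.assoc, hr1, hr1, Category.assoc]
    · rw [Category.assoc, hr2, hr2, Category.assoc])
  refine ⟨r0, ?_, ?_⟩
  · apply hom_ext_sieve _ hmem
    intro T' f hf
    rw [← Category.assoc, hr0 f hf, hr1]
  · apply hom_ext_sieve _ hmem
    intro T' f hf
    rw [← Category.assoc, hr0 f hf, hr2]


theorem rel_of_qπ_eq (h : IsEqvRel s t) {T : Over S} (a b : T ⟶ U)
    (hab : (yon S).map a ≫ qπ s t = (yon S).map b ≫ qπ s t) :
    ∃ r : T ⟶ R, r ≫ t = a ∧ r ≫ s = b := by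
  apply rel_of_qπ_app_eq s t h
  have h1 := congrArg (fun m => m.hom.app (op T) (ULift.up (𝟙 T))) hab
  have ha : ((yon S).map a).hom.app (op T) (ULift.up (𝟙 T)) = ULift.up a := by
    show ULift.up (𝟙 T ≫ a) = _
    rw [Category.id_comp]
  have hb : ((yon S).map b).hom.app (op T) (ULift.up (𝟙 T)) = ULift.up b := by
    show ULift.up (𝟙 T ≫ b) = _
    rw [Category.id_comp]
  rw [← ha, ← hb]
  exact h1

/-- The equivalence relation is the kernel pair of the quotient map. -/
theorem isPullback_qπ (h : IsEqvRel s t) :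
    IsPullback ((yon S).map t) ((yon S).map s) (qπ s t) (qπ s t) := by
  apply Groth.Agent.Helper2.ZarGlue.isPullback_of_yon (qπ_condition s t).symm
  · intro Q α β hαβ
    obtain ⟨a, rfl⟩ := (yon S).map_surjective α
    obtain ⟨b, rfl⟩ := (yon S).map_surjective β
    obtain ⟨r, hr1, hr2⟩ := rel_of_qπ_eq s t h a b hαβ
    exact ⟨(yon S).map r, by rw [← Functor.map_comp, hr1], by rw [← Functor.map_comp, hr2]⟩
  · intro Q l l' h1 h2
    obtain ⟨r, rfl⟩ := (yon S).map_surjective l
    obtain ⟨r', rfl⟩ := (yon S).map_surjective l'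
    rw [← Functor.map_comp, ← Functor.map_comp] at h1 h2
    rw [h.injective Q r r' ((yon S).map_injective h1) ((yon S).map_injective h2)]


/-- Properties of the quotient map can be read off from `s`. -/
theorem repWith_qπ (P : MorphismProperty Scheme.{u}) [P.IsStableUnderBaseChange]
    [P.IsLocalAtTarget Scheme.fppfPrecoverage] (h : IsEqvRel s t)
    (hrep : Representable (qπ s t)) (hP : P s.left) : RepWith P (qπ s t) :=
  repWith_of_isLocallySurjective_base (qπ s t) hrep (qπ s t) _ _ _ (isPullback_qπ s t h) P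
    ((repWith_yon_map_iff P s).mpr hP)

theorem surjective_left_of_isEqvRel (h : IsEqvRel s t) : Surjective s.left := by
  obtain ⟨r, -, hr⟩ := (h.equivalence U).refl (𝟙 U)
  refine ⟨fun x => ⟨r.left x, ?_⟩⟩
  rw [← Scheme.Hom.comp_apply, ← Over.comp_left, hr]
  rfl

theorem surjective_left_of_isEqvRel' (h : IsEqvRel s t) : Surjective t.left := by
  obtain ⟨r, hr, -⟩ := (h.equivalence U).refl (𝟙 U)
  refine ⟨fun x => ⟨r.left x, ?_⟩⟩
  rw [← Scheme.Hom.comp_apply, ← Over.comp_left, hr]
  rfl

instance : MorphismProperty.IsLocalAtTarget (@Etale : MorphismProperty Scheme.{u})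
    Scheme.fppfPrecoverage :=
  isLocalAtTarget_fppf_of_fpqc _

instance : MorphismProperty.IsLocalAtTarget (@Surjective : MorphismProperty Scheme.{u})
    Scheme.fppfPrecoverage :=
  isLocalAtTarget_fppf_of_fpqc _

/-- If the quotient of an étale equivalence relation is an algebraic space, the quotient map
is a presentation. -/
theorem isPresentation_qπ (h : IsEtaleEqvRel s t)
    (hq : IsAlgSpace (QuotSh.quot Scheme.fppfPrecoverage s t)) :
    IsPresentation s t (qπ s t) where
  eqvRel := h
  etale := repWith_qπ s t @Etale h.toIsEqvRel (hq.representable_from_yon _) h.etale_left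
  surjective := repWith_qπ s t @Surjective h.toIsEqvRel (hq.representable_from_yon _)
    (surjective_left_of_isEqvRel s t h.toIsEqvRel)
  isPullback := isPullback_qπ s t h.toIsEqvRel

end Groth.Agent.Helper2.QuotEff
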