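import Mathlib
import Groth.Agent.Lib.Helper2.AlgSp.KerPairGpd
import Groth.Agent.Lib.Helper2.AlgSp.KernelPair
import Groth.Agent.Lib.Helper2.AlgSp.Basic
import Groth.Agent.Lib.Helper2.Grpd.QuotFppfMain
import Groth.Prelude.Def_AlgSpMor5

/-!
# A sheaf with a finite locally free cover by an affine scheme is an affine scheme (helper2)
-/

set_option autoImplicit false
set_option linter.style.haveILetI false
open CategoryTheory CategoryTheory.Limits AlgebraicGeometry Opposite AlgSp
open Groth.Agent.Helper2.AlgSpBasic

namespace Groth.Agent.Helper2.FinLocFreeQuot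
universe u
variable {S : Scheme.{u}}

theorem exists_iso_yon_aux {Y : Sp S} {W R : Over S} [IsAffine W.left] (s t : R ⟶ W)
    (a : (yon S).obj W ⟶ Y) (sq : IsPullback ((yon S).map t) ((yon S).map s) a a)
    [IsFinite s.left] [Flat s.left] [LocallyOfFinitePresentation s.left]
    [IsFinite t.left] [Flat t.left] [LocallyOfFinitePresentation t.left] [Epi a] :
    ∃ (M : Over S) (q : W ⟶ M) (e : (yon S).obj M ≅ Y), IsAffine M.left ∧
      (yon S).map q ≫ e.hom = a := by
  let G := KerPairGpd.gpd s t a sq
  haveI : IsAffine G.U := inferInstanceAs (IsAffine W.left)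
  haveI : IsFinite G.s := inferInstanceAs (IsFinite s.left)
  haveI : Flat G.s := inferInstanceAs (Flat s.left)
  haveI : LocallyOfFinitePresentation G.s :=
    inferInstanceAs (LocallyOfFinitePresentation s.left)
  haveI : IsFinite G.t := inferInstanceAs (IsFinite t.left)
  haveI : Flat G.t := inferInstanceAs (Flat t.left)
  haveI : LocallyOfFinitePresentation G.t :=
    inferInstanceAs (LocallyOfFinitePresentation t.left)
  haveI : IsAffine G.R := isAffine_of_isAffineHom G.s
  haveI : Mono G.j := by
    refine ⟨fun α β h => KerPairGpd.hom_ext s t a sq α β ?_ ?_⟩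
    · have := congrArg (fun m => m ≫ pullback.fst G.pU G.pU) h
      simp only [Grpd.GroupoidScheme.j, Category.assoc] at this
      rw [pullback.lift_fst] at this
      exact this
    · have := congrArg (fun m => m ≫ pullback.snd G.pU G.pU) h
      simp only [Grpd.GroupoidScheme.j, Category.assoc] at this
      rw [pullback.lift_snd] at this
      exact this
  obtain ⟨⟨hfin, hflat, hfp⟩, -⟩ := Groth.Agent.Helper2.GrpdLib.finite_flat_quotient G
  have hsurj := Groth.Agent.Helper2.GrpdLib.surjective_toQuot_of_integral G
  have hpb := Groth.Agent.Helper2.GrpdLib.isPullback_toQuot G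
  obtain ⟨m, ⟨hm, -⟩, -⟩ := Groth.Agent.Helper2.GrpdLib.toQuot_isQuotient G
  let M : Over S := Over.mk m
  let q : W ⟶ M := Over.homMk G.toQuot hm
  have sqq : IsPullback ((yon S).map t) ((yon S).map s) ((yon S).map q) ((yon S).map q) :=
    yon_isPullback_of_left t s q q hpb
  haveI : Epi ((yon S).map q) := by
    have h1 : RepWith @Flat ((yon S).map q) := (repWith_yon_map_iff @Flat q).2 hflat
    have h2 : RepWith @LocallyOfFinitePresentation ((yon S).map q) :=
      (repWith_yon_map_iff @LocallyOfFinitePresentation q).2 hfp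
    have h3 : RepWith @Surjective ((yon S).map q) := (repWith_yon_map_iff @Surjective q).2 hsurj
    haveI := isLocallySurjective_of_fppf _ h1 h2 h3
    exact (Sheaf.isLocallySurjective_iff_epi _).1 inferInstance
  obtain ⟨m', hm', hmono⟩ := Groth.Agent.Helper2.KernelPair.exists_desc_mono
    ((yon S).map s) ((yon S).map t) ((yon S).map q) a sqq sq
  haveI : Epi m' := epi_of_epi_fac hm'
  haveI : IsIso m' := isIso_of_mono_of_epi m'
  exact ⟨M, q, asIso m', inferInstanceAs (IsAffine (Spec _)), hm'⟩

end Groth.Agent.Helper2.FinLocFreeQuot
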