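import Mathlib
import Groth.Agent.S0083
import Groth.Agent.Lib.Helper2.AlgSp.FinLocFree
import Groth.Agent.Lib.Helper2.AlgSp.Mono
import Groth.Agent.Lib.Helper2.AlgSp.OpenSub
import Groth.Agent.Lib.Helper2.AlgSp.LocP
import Groth.Agent.Lib.Helper2.AlgSp.AffLocal
import Groth.Agent.Lib.Helper2.AlgSp.PointsMor

/-!
# Descent of immersions along étale covers (helper2)
-/

set_option autoImplicit false
open CategoryTheory CategoryTheory.Limits AlgebraicGeometry Opposite AlgSp
open Groth.Agent.Helper2.AlgSpBasic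

namespace Groth.Agent.Helper2.ImmDescent
universe u
variable {S : Scheme.{u}}

instance : MorphismProperty.DescendsAlong (@IsClosedImmersion : MorphismProperty Scheme.{u})
    (@Surjective ⊓ @Flat ⊓ @QuasiCompact : MorphismProperty Scheme.{u}) :=
  Groth.Agent.S0083.result

theorem isClosedImmersion_le_isAffineHom :
    (@IsClosedImmersion : MorphismProperty Scheme.{u}) ≤ @IsAffineHom := by
  intro X Y f hf
  haveI : IsClosedImmersion f := hf
  infer_instance

/-- Closed immersions descend along an étale cover. -/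
theorem repWith_isClosedImmersion_of_etale_cover {X Y : Sp S} (f : X ⟶ Y) (V : Over S)
    (p : (yon S).obj V ⟶ Y) (hp : RepWith @Etale p) (hps : RepWith @Surjective p)
    {P : Sp S} (fst : P ⟶ X) (snd : P ⟶ (yon S).obj V) (sq : IsPullback fst snd f p)
    (h : RepWith @IsClosedImmersion snd) : RepWith @IsClosedImmersion f :=
  Groth.Agent.Helper2.FinLocFree.repWith_of_etale_cover @IsClosedImmersion
    isClosedImmersion_le_isAffineHom f V p hp hps fst snd sq h

/-- Open immersions descend along an étale cover. -/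
theorem repWith_isOpenImmersion_of_etale_cover {X Y : Sp S} (hX : IsAlgSpace X) (hY : IsAlgSpace Y)
    (f : X ⟶ Y) (V : Over S)
    (p : (yon S).obj V ⟶ Y) (hp : RepWith @Etale p) (hps : RepWith @Surjective p)
    {P : Sp S} (fst : P ⟶ X) (snd : P ⟶ (yon S).obj V) (sq : IsPullback fst snd f p)
    (h : RepWith @IsOpenImmersion snd) : RepWith @IsOpenImmersion f := by
  have hP : IsAlgSpace P :=
    isAlgSpace_of_isPullback hY.diag hX (IsAlgSpace.yon_obj V) f p _ _ sq
  obtain ⟨hm, he⟩ := (repWith_isOpenImmersion_iff hP (IsAlgSpace.yon_obj V) snd).mp h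
  haveI := hm
  haveI : Mono f := mono_of_etale_cover f p hp hps fst snd sq
  have hfe : LocP @Etale f := locP_of_target_cover @Etale hX hY f V p hp hps fst snd sq he
  exact (repWith_isOpenImmersion_iff hX hY f).mpr ⟨inferInstance, hfe⟩

theorem isPullback_of_comp_mono {C : Type*} [Category C] {P X Y W Z : C} {fst : P ⟶ X}
    {snd : P ⟶ Y} {f : X ⟶ W} {g : Y ⟶ W} (i : W ⟶ Z) [Mono i]
    (sq : IsPullback fst snd (f ≫ i) (g ≫ i)) : IsPullback fst snd f g := by
  apply isPullback_of_existsUnique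
  · rw [← cancel_mono i, Category.assoc, Category.assoc]; exact sq.w
  · intro A α β h
    exact ⟨sq.lift α β (by rw [← Category.assoc, h, Category.assoc]), sq.lift_fst _ _ _,
      sq.lift_snd _ _ _⟩
  · intro A l l' h1 h2
    exact sq.hom_ext h1 h2

/-- Immersions descend along an étale cover: the case where the base change is given by an
immersion of schemes. -/
theorem repWith_isImmersion_of_etale_cover_aux {X Y : Sp S} (hY : IsAlgSpace Y)
    (f : X ⟶ Y) (V : Over S)
    (p : (yon S).obj V ⟶ Y) (hp : RepWith @Etale p) (hps : RepWith @Surjective p)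
    {P' : Over S} (a : (yon S).obj P' ⟶ X) (ι : P' ⟶ V) (sq : IsPullback a ((yon S).map ι) f p)
    (hι : IsImmersion ι.left) : RepWith @IsImmersion f := by
  haveI := hι
  -- the open `O` of `V` in which `P'` is closed
  let O : V.left.Opens := ι.left.coborderRange
  let jO : opensOver O ⟶ V := opensOverι O
  let ι₀ : P' ⟶ opensOver O := Over.homMk ι.left.liftCoborder (by
    show ι.left.liftCoborder ≫ O.ι ≫ V.hom = P'.hom
    rw [Scheme.Hom.liftCoborder_ι_assoc, Over.w])
  have hι₀ : ι₀ ≫ jO = ι := Over.OverMorphism.ext ι.left.liftCoborder_ι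
  have hι₀c : IsClosedImmersion ι₀.left := inferInstanceAs (IsClosedImmersion ι.left.liftCoborder)
  haveI : Mono jO := by
    haveI : Mono jO.left := inferInstanceAs (Mono O.ι)
    exact (Over.forget S).mono_of_mono_map ‹_›
  haveI : Mono ((yon S).map jO) := inferInstance
  have hjOe : RepWith @Etale ((yon S).map jO) :=
    (repWith_yon_map_iff @Etale jO).mpr (inferInstanceAs (Etale O.ι))
  -- the open subspace of `Y`
  let Y₀ : Set (Points Y) := Points.ofPt p '' (O : Set V.left)
  have hY₀ : IsOpen Y₀ := isOpenMap_ofPt p hp _ O.2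
  let ιY := openSubι Y Y₀
  have hιY : RepWith @IsOpenImmersion ιY := repWith_isOpenImmersion_openSubι Y hY₀
  -- `f` factors through it
  have hae : RepWith @Surjective a := repWith_of_isPullback @Surjective sq.flip hps
  have hmem : ∀ x : Points X, Points.map f x ∈ Y₀ := by
    intro x
    obtain ⟨w, rfl⟩ := surjective_ofPt a hae x
    rw [Points.map_ofPt, sq.w, ofPt_yon_map_comp, ← hι₀]
    exact ⟨_, (ι₀.left w).2, rfl⟩
  let f' : X ⟶ openSub Y Y₀ := openSubLift Y₀ f hmem
  have hf' : f' ≫ ιY = f := openSubLift_ι _ _ _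
  -- the chart of the open subspace
  have hmemO : ∀ q : Points ((yon S).obj (opensOver O)),
      Points.map ((yon S).map jO ≫ p) q ∈ Y₀ := by
    intro q
    obtain ⟨o, rfl⟩ := (Points.schemeHomeo (opensOver O)).surjective q
    have h1 : Points.map ((yon S).map jO ≫ p) (Points.schemeHomeo (opensOver O) o) =
        Points.ofPt ((yon S).map jO ≫ p) o := (Points.ofPt_eq_map_ofScheme _ _).symm
    rw [h1, ofPt_yon_map_comp]
    exact ⟨_, o.2, rfl⟩
  let pO : (yon S).obj (opensOver O) ⟶ openSub Y Y₀ := openSubLift Y₀ ((yon S).map jO ≫ p) hmemO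
  have hpO : pO ≫ ιY = (yon S).map jO ≫ p := openSubLift_ι _ _ _
  have hpOe : RepWith @Etale pO :=
    repWith_lift_of_mono @Etale ιY _ pO hpO (repWith_comp @Etale hjOe hp)
  have hpOs : RepWith @Surjective pO := by
    apply repWith_surjective_of_isSurjectiveMor pO hpOe.rep
    intro y'
    obtain ⟨o, ho, hoy⟩ : Points.map ιY y' ∈ Y₀ := points_map_openSubι_mem Y Y₀ y'
    refine ⟨Points.schemeHomeo (opensOver O) ⟨o, ho⟩, ?_⟩
    apply injective_points_map_of_mono ιY
    rw [← Points.map_comp, hpO, ← hoy]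
    have h1 : Points.map ((yon S).map jO ≫ p) (Points.schemeHomeo (opensOver O) ⟨o, ho⟩) =
        Points.ofPt ((yon S).map jO ≫ p) ⟨o, ho⟩ := (Points.ofPt_eq_map_ofScheme _ _).symm
    rw [h1, ofPt_yon_map_comp]
    rfl
  -- the base change of `f'` to the chart
  have sq1 : IsPullback (𝟙 _) ((yon S).map ι₀) ((yon S).map ι) ((yon S).map jO) :=
    isPullback_id_of_mono ((yon S).map jO) ((yon S).map ι) ((yon S).map ι₀)
      (by rw [← Functor.map_comp, hι₀])
  have sq2 := sq1.paste_horiz sq
  rw [Category.id_comp] at sq2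
  have sq3 : IsPullback a ((yon S).map ι₀) f' pO := by
    apply isPullback_of_comp_mono ιY
    rw [hf', hpO]
    exact sq2
  have hf'c : RepWith @IsClosedImmersion f' :=
    repWith_isClosedImmersion_of_etale_cover f' (opensOver O) pO hpOe hpOs a _ sq3
      ((repWith_yon_map_iff @IsClosedImmersion ι₀).mpr hι₀c)
  rw [← hf']
  refine repWith_comp @IsImmersion (repWith_mono ?_ hf'c) (repWith_mono ?_ hιY)
  · intro A B g (hg : IsClosedImmersion g)
    exact (inferInstance : IsImmersion g)
  · intro A B g (hg : IsOpenImmersion g)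
    exact (inferInstance : IsImmersion g)

/-- Immersions descend along an étale cover. -/
theorem repWith_isImmersion_of_etale_cover {X Y : Sp S} (hY : IsAlgSpace Y)
    (f : X ⟶ Y) (V : Over S)
    (p : (yon S).obj V ⟶ Y) (hp : RepWith @Etale p) (hps : RepWith @Surjective p)
    {P : Sp S} (fst : P ⟶ X) (snd : P ⟶ (yon S).obj V) (sq : IsPullback fst snd f p)
    (h : RepWith @IsImmersion snd) : RepWith @IsImmersion f := by
  have hrep : Representable snd := h.rep
  have sq1 := hrep.isPullback (𝟙 ((yon S).obj V))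
  have hι : IsImmersion (hrep.snd (𝟙 _)).left := h.property _ _ _ sq1
  have sq2 := sq1.paste_horiz sq
  rw [Category.id_comp] at sq2
  exact repWith_isImmersion_of_etale_cover_aux hY f V p hp hps _ _ sq2 hι

theorem isOpenMap_ofPt_of_flat_lfp {X : Sp S} {U : Over S}
    (a : (yon S).obj U ⟶ X) (haf : RepWith @Flat a)
    (hal : RepWith @LocallyOfFinitePresentation a) : IsOpenMap (Points.ofPt a) := by
  intro V hV
  rw [Points.isOpen_iff]
  intro T g
  have hrep := haf.rep
  obtain ⟨pU, hpU⟩ := (yon S).map_surjective (hrep.fst g)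
  have sq := hrep.isPullback g
  rw [← hpU] at sq
  rw [preimage_image_ofPt a g pU (hrep.snd g) sq V]
  haveI : Flat (hrep.snd g).left := haf.property g _ _ sq
  haveI : LocallyOfFinitePresentation (hrep.snd g).left := hal.property g _ _ sq
  exact (hrep.snd g).left.isOpenMap _ (hV.preimage pU.left.continuous)

/-- Immersions descend along a family of flat, locally finitely presented charts which is
jointly surjective on points: the case where every base change is given by an immersion of
schemes. -/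
theorem repWith_isImmersion_of_fppf_charts {X Y : Sp S} (f : X ⟶ Y) {κ : Type*}
    (V : κ → Over S) (p : ∀ i, (yon S).obj (V i) ⟶ Y) (hpf : ∀ i, RepWith @Flat (p i))
    (hpl : ∀ i, RepWith @LocallyOfFinitePresentation (p i))
    (hcov : ∀ y : Points Y, ∃ (i : κ) (v : ↥(V i).left), Points.ofPt (p i) v = y)
    (P' : κ → Over S) (a : ∀ i, (yon S).obj (P' i) ⟶ X) (im : ∀ i, P' i ⟶ V i)
    (sq : ∀ i, IsPullback (a i) ((yon S).map (im i)) f (p i))
    (him : ∀ i, IsImmersion (im i).left) : RepWith @IsImmersion f := by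
  haveI := him
  -- the opens `O i` of `V i` in which `P' i` is closed
  let O : ∀ i, (V i).left.Opens := fun i => (im i).left.coborderRange
  let jO : ∀ i, opensOver (O i) ⟶ V i := fun i => opensOverι (O i)
  let ι₀ : ∀ i, P' i ⟶ opensOver (O i) := fun i => Over.homMk (im i).left.liftCoborder (by
    show (im i).left.liftCoborder ≫ (O i).ι ≫ (V i).hom = (P' i).hom
    rw [Scheme.Hom.liftCoborder_ι_assoc, Over.w])
  have hι₀ : ∀ i, ι₀ i ≫ jO i = im i := fun i =>
    Over.OverMorphism.ext (im i).left.liftCoborder_ι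
  have hι₀c : ∀ i, IsClosedImmersion (ι₀ i).left := fun i =>
    inferInstanceAs (IsClosedImmersion (im i).left.liftCoborder)
  haveI : ∀ i, Mono (jO i) := fun i => by
    haveI : Mono (jO i).left := inferInstanceAs (Mono (O i).ι)
    exact (Over.forget S).mono_of_mono_map ‹_›
  haveI : ∀ i, Mono ((yon S).map (jO i)) := fun i => inferInstance
  -- the open subspace of `Y`
  let Y₀ : Set (Points Y) := ⋃ i, Points.ofPt (p i) '' (O i : Set (V i).left)
  have hY₀ : IsOpen Y₀ :=
    isOpen_iUnion fun i => isOpenMap_ofPt_of_flat_lfp (p i) (hpf i) (hpl i) _ (O i).2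
  let ιY := openSubι Y Y₀
  have hιY : RepWith @IsOpenImmersion ιY := repWith_isOpenImmersion_openSubι Y hY₀
  haveI : Mono ιY := inferInstance
  -- `f` factors through it
  have hmem : ∀ x : Points X, Points.map f x ∈ Y₀ := by
    intro x
    obtain ⟨i, v, hv⟩ := hcov (Points.map f x)
    obtain ⟨w, -, hw⟩ := exists_point_of_isPullback_right f (p i) (a i) (im i) (sq i) x v hv.symm
    refine Set.mem_iUnion.mpr ⟨i, v, ?_, hv⟩
    rw [← hw, ← hι₀ i]
    exact ((ι₀ i).left w).2
  let f' : X ⟶ openSub Y Y₀ := openSubLift Y₀ f hmem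
  have hf' : f' ≫ ιY = f := openSubLift_ι _ _ _
  -- the base change of `f` to the opens `O i`
  have sq2 : ∀ i, IsPullback (a i) ((yon S).map (ι₀ i)) f ((yon S).map (jO i) ≫ p i) := by
    intro i
    have sq1 : IsPullback (𝟙 _) ((yon S).map (ι₀ i)) ((yon S).map (im i)) ((yon S).map (jO i)) :=
      isPullback_id_of_mono ((yon S).map (jO i)) ((yon S).map (im i)) ((yon S).map (ι₀ i))
        (by rw [← Functor.map_comp, hι₀])
    have h2 := sq1.paste_horiz (sq i)
    rw [Category.id_comp] at h2
    exact h2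
  have hf'c : RepWith @IsClosedImmersion f' := by
    apply Groth.Agent.Helper2.FinLocFree.repWith_of_isAffQMor
    apply Groth.Agent.Helper2.AffLocal.isAffQMor_of_fppf_local @IsClosedImmersion
      isClosedImmersion_le_isAffineHom f'
    intro Z hZ g z
    obtain ⟨i, o, ho, hoy⟩ : ∃ i, Points.map ιY (Points.ofPt g z) ∈
        Points.ofPt (p i) '' (O i : Set (V i).left) :=
      Set.mem_iUnion.mp (points_map_openSubι_mem Y Y₀ _)
    rw [Points.map_ofPt] at hoy
    have hrep := (hpf i).rep
    obtain ⟨b0, hb0⟩ := (yon S).map_surjective (hrep.fst (g ≫ ιY))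
    let β : hrep.pullback (g ≫ ιY) ⟶ Z := hrep.snd (g ≫ ιY)
    have sqB : IsPullback ((yon S).map b0) ((yon S).map β) (p i) (g ≫ ιY) := by
      rw [hb0]; exact hrep.isPullback (g ≫ ιY)
    have hβf : Flat β.left := (hpf i).property (g ≫ ιY) _ _ (hrep.isPullback (g ≫ ιY))
    have hβl : LocallyOfFinitePresentation β.left :=
      (hpl i).property (g ≫ ιY) _ _ (hrep.isPullback (g ≫ ιY))
    obtain ⟨w, hw1, hw2⟩ := exists_point_of_isPullback_yon (p i) (g ≫ ιY) b0 β sqB o z hoy
    obtain ⟨A₁, hA₁, hwA₁, hA₁O⟩ : ∃ A₁ : (hrep.pullback (g ≫ ιY)).left.Opens,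
        IsAffineOpen A₁ ∧ w ∈ A₁ ∧ A₁ ≤ b0.left ⁻¹ᵁ (O i) := by
      obtain ⟨_, ⟨A₁, hA₁ : IsAffineOpen A₁, rfl⟩, hwA₁, hA₁O⟩ :=
        (hrep.pullback (g ≫ ιY)).left.isBasis_affineOpens.exists_subset_of_mem_open
          (show w ∈ (b0.left ⁻¹ᵁ (O i) : Set _) from by
            show b0.left w ∈ O i
            rw [hw1]; exact ho) (b0.left ⁻¹ᵁ (O i)).2
      exact ⟨A₁, hA₁, hwA₁, hA₁O⟩
    let A : Over S := opensOver A₁
    let aA : A ⟶ Z := opensOverι A₁ ≫ β
    have hr : Set.range (A₁.ι ≫ b0.left) ⊆ Set.range (O i).ι := by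
      rw [Scheme.Opens.range_ι]
      rintro _ ⟨x, rfl⟩
      exact hA₁O x.2
    let a₁l : (A₁ : Scheme.{u}) ⟶ (O i) := IsOpenImmersion.lift (O i).ι (A₁.ι ≫ b0.left) hr
    have ha₁l : a₁l ≫ (O i).ι = A₁.ι ≫ b0.left := IsOpenImmersion.lift_fac _ _ _
    let a₁ : A ⟶ opensOver (O i) := Over.homMk a₁l (by
      show a₁l ≫ (O i).ι ≫ (V i).hom = A₁.ι ≫ (hrep.pullback (g ≫ ιY)).hom
      rw [← Category.assoc, ha₁l, Category.assoc, Over.w b0])
    have ha₁ : a₁ ≫ jO i = opensOverι A₁ ≫ b0 := Over.OverMorphism.ext ha₁l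
    have hcomm : ((yon S).map aA ≫ g) ≫ ιY = (yon S).map a₁ ≫ (yon S).map (jO i) ≫ p i := by
      show ((yon S).map (opensOverι A₁ ≫ β) ≫ g) ≫ ιY = _
      rw [Functor.map_comp, Category.assoc, Category.assoc, ← sqB.w, ← Category.assoc,
        ← Category.assoc, ← Functor.map_comp, ← Functor.map_comp, ha₁]
    have sqO := IsPullback.of_hasPullback (ι₀ i) a₁
    have hbig := (sqO.map (yon S)).paste_horiz (sq2 i)
    rw [← hcomm, ← hf'] at hbig
    refine ⟨A, aA, hA₁, ?_, ?_, ⟨⟨w, hwA₁⟩, hw2⟩, pullback (ι₀ i) a₁, pullback.snd (ι₀ i) a₁, _,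
      isPullback_of_comp_mono ιY hbig, ?_⟩
    · show Flat (A₁.ι ≫ β.left)
      infer_instance
    · show LocallyOfFinitePresentation (A₁.ι ≫ β.left)
      infer_instance
    · exact MorphismProperty.of_isPullback (P := @IsClosedImmersion)
        (sqO.map (Over.forget S)) (hι₀c i)
  rw [← hf']
  refine repWith_comp @IsImmersion (repWith_mono ?_ hf'c) (repWith_mono ?_ hιY)
  · intro A B g (hg : IsClosedImmersion g)
    exact (inferInstance : IsImmersion g)
  · intro A B g (hg : IsOpenImmersion g)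
    exact (inferInstance : IsImmersion g)

end Groth.Agent.Helper2.ImmDescent
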