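import Mathlib
import Groth.Agent.Lib.Helper2.AlgSp.FinLocFreeQuot
import Groth.Agent.Lib.Helper2.AlgSp.OpenSub
import Groth.Agent.Lib.Helper2.AlgSp.ImmDescent
import Groth.Agent.Lib.Helper2.AlgSp.Points

/-!
# Finite locally free covers: saturated affine opens give affine open subspaces (helper2)
-/

set_option autoImplicit false
set_option linter.style.haveILetI false
open CategoryTheory CategoryTheory.Limits AlgebraicGeometry Opposite AlgSp
open Groth.Agent.Helper2.AlgSpBasic

namespace Groth.Agent.Helper2.FinLocFreeQuot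
universe u
variable {S : Scheme.{u}}

theorem repWith_flat_of_finLocFree {F G : Sp S} {f : F ⟶ G} (hf : RepWith finLocFree f) :
    RepWith @Flat f :=
  repWith_mono (fun _ _ _ hg => hg.2.1) hf

theorem repWith_lfp_of_finLocFree {F G : Sp S} {f : F ⟶ G} (hf : RepWith finLocFree f) :
    RepWith @LocallyOfFinitePresentation f :=
  repWith_mono (fun _ _ _ hg => hg.2.2) hf

theorem repWith_finite_of_finLocFree {F G : Sp S} {f : F ⟶ G} (hf : RepWith finLocFree f) :
    RepWith @IsFinite f :=
  repWith_mono (fun _ _ _ hg => hg.1) hf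

/-- A sheaf with a finite locally free surjective cover by an affine scheme is an affine scheme. -/
theorem exists_iso_yon_of_finLocFree_affine {Y : Sp S} {W : Over S} [IsAffine W.left]
    (a : (yon S).obj W ⟶ Y) (ha : RepWith finLocFree a) (hs : RepWith @Surjective a) :
    ∃ (M : Over S) (q : W ⟶ M) (e : (yon S).obj M ≅ Y), IsAffine M.left ∧
      (yon S).map q ≫ e.hom = a := by
  have hrep := ha.rep
  obtain ⟨t, ht⟩ := (yon S).map_surjective (hrep.fst a)
  obtain ⟨s, hs'⟩ : ∃ s, s = hrep.snd a := ⟨_, rfl⟩
  have sq : IsPullback ((yon S).map t) ((yon S).map s) a a := by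
    rw [ht, hs']; exact hrep.isPullback a
  obtain ⟨hs1, hs2, hs3⟩ : Mor2.IsFinLocFree s.left := ha.property a _ s sq
  obtain ⟨ht1, ht2, ht3⟩ : Mor2.IsFinLocFree t.left := ha.property a _ t sq.flip
  haveI : Epi a := by
    haveI := isLocallySurjective_of_fppf a (repWith_flat_of_finLocFree ha)
      (repWith_lfp_of_finLocFree ha) hs
    exact (Sheaf.isLocallySurjective_iff_epi _).1 inferInstance
  exact exists_iso_yon_aux s t a sq

/-- For a finite locally free `a : h_U ⟶ X` and a saturated affine open `W` of `U`, the open subspace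
of `X` on the image of `W` is an affine scheme. -/
theorem exists_openSub_iso_yon {X : Sp S} {U : Over S} (a : (yon S).obj U ⟶ X)
    (ha : RepWith finLocFree a) (W : U.left.Opens) (hW : IsAffineOpen W)
    (hsat : ∀ u u' : U.left, Points.ofPt a u = Points.ofPt a u' → u ∈ W → u' ∈ W) :
    ∃ (V : Set (Points X)) (_ : IsOpen V) (M : Over S) (_ : (yon S).obj M ≅ openSub X V),
      IsAffine M.left ∧ V = Points.ofPt a '' (W : Set U.left) := by
  have haf := repWith_flat_of_finLocFree ha
  have hal := repWith_lfp_of_finLocFree ha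
  obtain ⟨V, hVdef⟩ : ∃ V, V = Points.ofPt a '' (W : Set U.left) := ⟨_, rfl⟩
  have hV : IsOpen V := by
    rw [hVdef]; exact Groth.Agent.Helper2.ImmDescent.isOpenMap_ofPt_of_flat_lfp a haf hal _ W.isOpen
  have hpre : preimageOpens a hV = W := by
    ext u
    constructor
    · intro hu
      have : Points.ofPt a u ∈ V := hu
      rw [hVdef] at this
      obtain ⟨w, hw, e⟩ := this
      exact hsat w u e hw
    · intro hu
      show Points.ofPt a u ∈ V
      rw [hVdef]
      exact ⟨u, hu, rfl⟩
  have sq := isPullback_openSub_yon a hV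
  have haV := repWith_of_isPullback finLocFree sq.flip ha
  haveI : IsAffine (preimageOver a hV).left := by
    show IsAffineOpen (preimageOpens a hV)
    rw [hpre]; exact hW
  have hsurj : Function.Surjective (Points.ofPt (openSubLift V
      ((yon S).map (preimageOverι a hV) ≫ a) (points_map_preimageOverι_mem a hV))) := by
    intro p
    have hp : Points.map (openSubι X V) p ∈ V := points_map_openSubι_mem X V p
    have hsub : V ⊆ Points.ofPt a '' (W : Set U.left) := hVdef.le
    obtain ⟨w, hw, e⟩ := hsub hp
    have hw' : w ∈ preimageOpens a hV := by rw [hpre]; exact hw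
    refine ⟨⟨w, hw'⟩, ?_⟩
    apply injective_points_map_of_mono (openSubι X V)
    rw [Points.map_ofPt, openSubLift_ι, ofPt_yon_map_comp, ← e]
    rfl
  have hsV := repWith_surjective_of_surjective_ofPt _ haV.rep hsurj
  obtain ⟨M, q, e, hM, -⟩ := exists_iso_yon_of_finLocFree_affine _ haV hsV
  exact ⟨V, hV, M, e, hM, hVdef⟩

end Groth.Agent.Helper2.FinLocFreeQuot
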