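import Mathlib
import Groth.Prelude.Def_AlgSpCov
import Groth.Agent.Lib.Helper2.AlgSp.LocP
import Groth.Agent.Lib.Helper2.AlgSp.Mor
import Groth.Agent.Lib.Helper2.AlgSp.PointsMor
import Groth.Agent.Lib.Helper2.EtaleLocalSmooth
namespace Groth.Agent.Helper2.AlgSpBasic
open CategoryTheory CategoryTheory.Limits AlgebraicGeometry Opposite AlgSp Topology
open Groth.Agent.Helper2.EtaleLocal
universe u
variable {S : Scheme.{u}}

/-- Smooth local on source-and-target ⟹ smooth local on the source. -/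
theorem IsSmoothLocalST.isLocalOnSource {P : MorphismProperty (Sp S)} (hP : IsSmoothLocalST P) :
    IsLocalOnSource (IsSmCover (S := S)) P := by
  intro ι X Xi g hX hXi hcov Y f hY
  constructor
  · intro hf i
    exact hP.precomp (hXi i) hX hY (g i) f (hcov.1 i) hf
  · intro h
    rw [hP.locality hX hY f]
    intro x
    obtain ⟨i, v, hv⟩ := hcov.2 x
    exact ⟨Xi i, Y, g i, 𝟙 Y, g i ≫ f, v, hXi i, hY, hcov.1 i, locP_id @Smooth hY.diag,
      by rw [Category.comp_id], hv, h i⟩

/-- Smooth local on source-and-target ⟹ smooth local on the base. -/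
theorem IsSmoothLocalST.isLocalOnBase {P : MorphismProperty (Sp S)} (hP : IsSmoothLocalST P) :
    IsLocalOnBase (IsSmCover (S := S)) P := by
  intro ι Y Yi g hY hYi hcov X f hX Xi p q hXi sq
  constructor
  · intro hf i
    exact hP.baseChange hX hY (hXi i) (hYi i) f (g i) (p i) (q i) (sq i) (hcov.1 i) hf
  · intro h
    rw [hP.locality hX hY f]
    intro x
    obtain ⟨i, y', hy'⟩ := hcov.2 (Points.map f x)
    obtain ⟨z, hz1, hz2⟩ := points_exists_of_isPullback (g i) f (q i) (p i) (sq i) x y' hy'.symm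
    refine ⟨Xi i, Yi i, q i, g i, p i, z, hXi i, hYi i, ?_, hcov.1 i, (sq i).w, hz1, h i⟩
    exact locP_of_isPullback @Smooth (hYi i) hY hX (hXi i) (g i) f (p i) (q i) (sq i).flip
      (hcov.1 i)

/-- Smooth local on source-and-target ⟹ stable under postcomposition with smooth morphisms. -/
theorem IsSmoothLocalST.postcomp {P : MorphismProperty (Sp S)} (hP : IsSmoothLocalST P)
    {X Y Z : Sp S} (hX : IsAlgSpace X) (hY : IsAlgSpace Y) (hZ : IsAlgSpace Z)
    (f : X ⟶ Y) (g : Y ⟶ Z) (hf : P f) (hg : LocP @Smooth g) : P (f ≫ g) := by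
  rw [hP.locality hX hZ]
  intro x
  exact ⟨X, Y, 𝟙 X, g, f, x, hX, hY, locP_id @Smooth hX.diag, hg, by rw [Category.id_comp],
    by rw [Points.map_id], hf⟩

/-- A two-member family: the identity together with one more morphism. -/
def optFam (Y X : Sp S) : Option PUnit.{u + 1} → Sp S := fun i =>
  match i with
  | none => Y
  | some _ => X

def optMap {Y X : Sp S} (f : X ⟶ Y) : ∀ i, optFam Y X i ⟶ Y := fun i =>
  match i with
  | none => 𝟙 Y
  | some _ => f

theorem optFam_isAlgSpace {Y X : Sp S} (hY : IsAlgSpace Y) (hX : IsAlgSpace X) :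
    ∀ i, IsAlgSpace (optFam Y X i) := fun i =>
  match i with
  | none => hY
  | some _ => hX

theorem optMap_isCover {Q : MorphismProperty (Sp S)} {Y X : Sp S} (f : X ⟶ Y) (hid : Q (𝟙 Y))
    (hf : Q f) : IsCover Q (optFam Y X) (optMap f) := by
  refine ⟨fun i => ?_, fun y => ⟨none, y, ?_⟩⟩
  · match i with
    | none => exact hid
    | some _ => exact hf
  · change Points.map (𝟙 Y) y = y
    rw [Points.map_id]

/-- Local on the source and base for smooth coverings and stable under postcomposition with smooth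
morphisms ⟹ smooth local on source-and-target. -/
theorem isSmoothLocalST_of_local (P : MorphismProperty (Sp S))
    (h1 : IsLocalOnSource (IsSmCover (S := S)) P)
    (h2 : IsLocalOnBase (IsSmCover (S := S)) P)
    (h3 : ∀ ⦃X Y Z : Sp S⦄, IsAlgSpace X → IsAlgSpace Y → IsAlgSpace Z → ∀ (f : X ⟶ Y) (g : Y ⟶ Z),
      P f → LocP @Smooth g → P (f ≫ g)) :
    IsSmoothLocalST P where
  precomp := by
    intro X Y Z hX hY hZ f g hf hg
    have hcov : IsSmCover (optFam Y X) (optMap f) :=
      optMap_isCover f (locP_id @Smooth hY.diag) hf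
    exact (h1 (optFam Y X) (optMap f) hY (optFam_isAlgSpace hY hX) hcov g hZ).mp hg (some ⟨⟩)
  baseChange := by
    intro X Y X' Y' hX hY hX' hY' f g f' g' sq hg hf
    have hcov : IsSmCover (optFam Y Y') (optMap g) :=
      optMap_isCover g (locP_id @Smooth hY.diag) hg
    let p : ∀ i, optFam X X' i ⟶ optFam Y Y' i := fun i =>
      match i with
      | none => f
      | some _ => f'
    have hsq : ∀ i, IsPullback (optMap g' i) (p i) f (optMap g i) := fun i =>
      match i with
      | none => (show IsPullback (𝟙 X) f f (𝟙 Y) from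
          haveI : IsIso (𝟙 X) := inferInstance
          IsPullback.of_horiz_isIso ⟨by rw [Category.id_comp, Category.comp_id]⟩)
      | some _ => sq
    exact (h2 (optFam Y Y') (optMap g) hY (optFam_isAlgSpace hY hY') hcov f hX (optFam X X') p
      (optMap g') (optFam_isAlgSpace hX hX') hsq).mp hf (some ⟨⟩)
  locality := by
    intro X Y hX hY f
    constructor
    · intro hf x
      exact ⟨X, Y, 𝟙 X, 𝟙 Y, f, x, hX, hY, locP_id @Smooth hX.diag, locP_id @Smooth hY.diag,
        by rw [Category.id_comp, Category.comp_id], by rw [Points.map_id], hf⟩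
    · intro H
      obtain ⟨U₀, a₀, hae, has⟩ := hX.atlas
      choose U V a b h v hU hV ha hb hcomm hv hPh using H
      let Xi : ↥U₀.left → Sp S := fun u₀ => U (Points.ofPt a₀ u₀)
      let g : ∀ u₀, Xi u₀ ⟶ X := fun u₀ => a (Points.ofPt a₀ u₀)
      have hcov : IsSmCover Xi g := by
        refine ⟨fun u₀ => ha _, fun x => ?_⟩
        obtain ⟨u₀, rfl⟩ := surjective_ofPt a₀ has x
        exact ⟨u₀, v _, hv _⟩
      refine (h1 Xi g hX (fun u₀ => hU _) hcov f hY).mpr fun u₀ => ?_
      change P (a (Points.ofPt a₀ u₀) ≫ f)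
      rw [hcomm]
      exact h3 (hU _) (hV _) hY _ _ (hPh _) (hb _)

/-! ### étale-smooth local on source-and-target -/

theorem locP_smooth_of_locP_etale {X Y : Sp S} {f : X ⟶ Y} (hf : LocP @Etale f) :
    LocP @Smooth f :=
  locP_mono (fun _ _ g (hg : Etale g) => (inferInstance : Smooth g)) hf

theorem isPullback_id_left {X Y : Sp S} (f : X ⟶ Y) : IsPullback (𝟙 X) f f (𝟙 Y) :=
  haveI : IsIso (𝟙 X) := inferInstance
  IsPullback.of_horiz_isIso ⟨by rw [Category.id_comp, Category.comp_id]⟩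

/-- The graph of `f : X ⟶ Y` into a fibre product `X ×_Z Y` with `Y ⟶ Z` étale is étale. -/
theorem locP_etale_graph {X Y Z W : Sp S} (hX : IsAlgSpace X) (hY : IsAlgSpace Y)
    (hZ : IsAlgSpace Z) (hW : IsAlgSpace W) (f : X ⟶ Y) (g : Y ⟶ Z) (hg : LocP @Etale g)
    (fst : W ⟶ X) (snd : W ⟶ Y) (sq : IsPullback fst snd (f ≫ g) g) :
    LocP @Etale (sq.lift (𝟙 X) f (by rw [Category.id_comp])) := by
  have h1 : LocP @Etale fst :=
    locP_of_isPullback @Etale hY hZ hX hW g (f ≫ g) snd fst sq.flip hg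
  refine locP_of_comp' @Etale @Etale (fun _ _ _ x y hxy hy => ?_) hX hW hX _ fst ?_ h1
  · haveI : Etale y := hy
    exact IsEtaleLocalST.of_postcomp_etale (P := @Etale) x y hxy
  · rw [sq.lift_fst]
    exact locP_id @Etale hX.diag

/-- Cancellation of an étale morphism on the right. -/
theorem IsEtaleSmoothLocalST.of_postcomp_etale {P : MorphismProperty (Sp S)}
    (hP : IsEtaleSmoothLocalST P) {X Y Z : Sp S} (hX : IsAlgSpace X) (hY : IsAlgSpace Y)
    (hZ : IsAlgSpace Z) (f : X ⟶ Y) (g : Y ⟶ Z) (hg : LocP @Etale g) (h : P (f ≫ g)) : P f := by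
  have hW : IsAlgSpace (pullback (f ≫ g) g) :=
    isAlgSpace_of_isPullback hZ.diag hX hY (f ≫ g) g _ _ (IsPullback.of_hasPullback _ _)
  have sq := IsPullback.of_hasPullback (f ≫ g) g
  have h1 : P (pullback.snd (f ≫ g) g) :=
    hP.baseChange hX hZ hW hY (f ≫ g) g _ _ sq (locP_smooth_of_locP_etale hg) h
  have h2 := locP_etale_graph hX hY hZ hW f g hg _ _ sq
  have h3 := hP.precomp hX hW hY _ _ (isEtaleMor_of_locP_etale hX hW _ h2) h1
  rwa [sq.lift_snd] at h3

theorem IsEtaleSmoothLocalST.isLocalOnSource {P : MorphismProperty (Sp S)}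
    (hP : IsEtaleSmoothLocalST P) : IsLocalOnSource (IsEtCover (S := S)) P := by
  intro ι X Xi g hX hXi hcov Y f hY
  constructor
  · intro hf i
    exact hP.precomp (hXi i) hX hY (g i) f (hcov.1 i) hf
  · intro h
    rw [hP.locality hX hY f]
    intro x
    obtain ⟨i, v, hv⟩ := hcov.2 x
    refine ⟨Y, X, Xi i, 𝟙 Y, 𝟙 X, f, g i, v, hY, hX, hXi i, locP_id @Smooth hY.diag,
      isPullback_id_left f, hcov.1 i, ?_, h i⟩
    rw [Category.comp_id]; exact hv

theorem IsEtaleSmoothLocalST.isLocalOnBase {P : MorphismProperty (Sp S)}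
    (hP : IsEtaleSmoothLocalST P) : IsLocalOnBase (IsSmCover (S := S)) P := by
  intro ι Y Yi g hY hYi hcov X f hX Xi p q hXi sq
  constructor
  · intro hf i
    exact hP.baseChange hX hY (hXi i) (hYi i) f (g i) (p i) (q i) (sq i) (hcov.1 i) hf
  · intro h
    rw [hP.locality hX hY f]
    intro x
    obtain ⟨i, y', hy'⟩ := hcov.2 (Points.map f x)
    obtain ⟨z, hz1, hz2⟩ := points_exists_of_isPullback (g i) f (q i) (p i) (sq i) x y' hy'.symm
    refine ⟨Yi i, Xi i, Xi i, g i, q i, p i, 𝟙 _, z, hYi i, hXi i, hXi i, hcov.1 i, sq i,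
      isEtaleMor_of_locP_etale (hXi i) (hXi i) _ (locP_id @Etale (hXi i).diag), ?_, ?_⟩
    · rw [Category.id_comp]; exact hz1
    · rw [Category.id_comp]; exact h i

theorem IsEtaleSmoothLocalST.postcomp {P : MorphismProperty (Sp S)}
    (hP : IsEtaleSmoothLocalST P) {X Y Z : Sp S} (hX : IsAlgSpace X) (hY : IsAlgSpace Y)
    (hZ : IsAlgSpace Z) (f : X ⟶ Y) (g : Y ⟶ Z) (hf : P f) (hg : LocP @Etale g) :
    P (f ≫ g) := by
  rw [hP.locality hX hZ]
  intro x
  have hW : IsAlgSpace (pullback (f ≫ g) g) :=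
    isAlgSpace_of_isPullback hZ.diag hX hY (f ≫ g) g _ _ (IsPullback.of_hasPullback _ _)
  have sq := IsPullback.of_hasPullback (f ≫ g) g
  have h2 := locP_etale_graph hX hY hZ hW f g hg _ _ sq
  refine ⟨Y, pullback (f ≫ g) g, X, g, pullback.fst _ _, pullback.snd _ _,
    sq.lift (𝟙 X) f (by rw [Category.id_comp]), x, hY, hW, hX, locP_smooth_of_locP_etale hg, sq,
    isEtaleMor_of_locP_etale hX hW _ h2, ?_, ?_⟩
  · rw [sq.lift_fst, Points.map_id]
  · rw [sq.lift_snd]; exact hf

end Groth.Agent.Helper2.AlgSpBasic
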