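import Mathlib
import Groth.Prelude.Def_AlgSpCov
import Groth.Agent.Lib.Helper2.AlgSp.OpenSub
import Groth.Agent.Lib.Helper2.AlgSp.SmoothLocal
import Groth.Agent.Lib.Helper2.AlgSp.Mono
import Groth.Agent.Lib.Helper2.AlgSp.Mor2
namespace Groth.Agent.Helper2.AlgSpBasic
open CategoryTheory CategoryTheory.Limits AlgebraicGeometry Opposite AlgSp Topology
open Groth.Agent.Helper2.EtaleLocal
universe u
variable {S : Scheme.{u}}

/-- The morphism between open subsheaves induced by a morphism carrying one open set into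
another. -/
def openSubMap₂ {Y' Y : Sp S} (g : Y' ⟶ Y) (V' : Set (Points Y')) (V : Set (Points Y))
    (h : V' ⊆ Points.map g ⁻¹' V) : openSub Y' V' ⟶ openSub Y V :=
  openSubLift V (openSubι Y' V' ≫ g) (fun p => by
    rw [Points.map_comp]; exact h (points_map_openSubι_mem Y' V' p))

@[reassoc]
theorem openSubMap₂_ι {Y' Y : Sp S} (g : Y' ⟶ Y) (V' : Set (Points Y')) (V : Set (Points Y))
    (h : V' ⊆ Points.map g ⁻¹' V) :
    openSubMap₂ g V' V h ≫ openSubι Y V = openSubι Y' V' ≫ g :=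
  openSubLift_ι _ _ _

/-- The restriction of a morphism over an open subset of the target. -/
def openSubMap {F Y : Sp S} (f : F ⟶ Y) (V : Set (Points Y)) :
    openSub F (Points.map f ⁻¹' V) ⟶ openSub Y V :=
  openSubMap₂ f (Points.map f ⁻¹' V) V subset_rfl

@[reassoc]
theorem openSubMap_ι {F Y : Sp S} (f : F ⟶ Y) (V : Set (Points Y)) :
    openSubMap f V ≫ openSubι Y V = openSubι F (Points.map f ⁻¹' V) ≫ f :=
  openSubMap₂_ι _ _ _ _

theorem isPullback_openSubMap {F Y : Sp S} (f : F ⟶ Y) (V : Set (Points Y)) :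
    IsPullback (openSubι F (Points.map f ⁻¹' V)) (openSubMap f V) f (openSubι Y V) :=
  isPullback_openSub f V

theorem isAlgSpace_openSub_preimage {F Y : Sp S} (hF : IsAlgSpace F) (f : F ⟶ Y)
    {V : Set (Points Y)} (hV : IsOpen V) : IsAlgSpace (openSub F (Points.map f ⁻¹' V)) :=
  isAlgSpace_openSub hF (hV.preimage (Points.continuous_map f))

/-- Restrictions of a pullback square to open subsets form a pullback square. -/
theorem isPullback_openSubMap₂ {X Y X' Y' : Sp S} {f : X ⟶ Y} {g : Y' ⟶ Y} {g' : X' ⟶ X}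
    {f' : X' ⟶ Y'} (sq : IsPullback g' f' f g) (V' : Set (Points Y')) (V : Set (Points Y))
    (h : V' ⊆ Points.map g ⁻¹' V)
    (h' : Points.map f' ⁻¹' V' ⊆ Points.map g' ⁻¹' (Points.map f ⁻¹' V)) :
    IsPullback (openSubMap₂ g' (Points.map f' ⁻¹' V') (Points.map f ⁻¹' V) h')
      (openSubMap f' V') (openSubMap f V) (openSubMap₂ g V' V h) := by
  refine IsPullback.of_right ?_ ?_ (isPullback_openSubMap f V)
  · rw [openSubMap₂_ι, openSubMap₂_ι]
    exact (isPullback_openSubMap f' V').paste_horiz sq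
  · rw [← cancel_mono (openSubι Y V), Category.assoc, Category.assoc, openSubMap_ι,
      openSubMap₂_ι, openSubMap₂_ι_assoc, openSubMap_ι_assoc, sq.w]

theorem preimage_subset_of_isPullback {X Y X' Y' : Sp S} {f : X ⟶ Y} {g : Y' ⟶ Y} {g' : X' ⟶ X}
    {f' : X' ⟶ Y'} (sq : IsPullback g' f' f g) (V' : Set (Points Y')) (V : Set (Points Y))
    (h : V' ⊆ Points.map g ⁻¹' V) :
    Points.map f' ⁻¹' V' ⊆ Points.map g' ⁻¹' (Points.map f ⁻¹' V) := by
  intro x hx
  change Points.map f (Points.map g' x) ∈ V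
  rw [← Points.map_comp, sq.w, Points.map_comp]
  exact h hx

/-- A lift of the base through an open subsheaf gives a pullback square over the restriction. -/
theorem exists_isPullback_openSubMap_of_lift {X Y X' Y' : Sp S} {f : X ⟶ Y} {g : Y' ⟶ Y}
    {g' : X' ⟶ X} {f' : X' ⟶ Y'} (sq : IsPullback g' f' f g) (V : Set (Points Y))
    (l : Y' ⟶ openSub Y V) (hl : l ≫ openSubι Y V = g) :
    ∃ q : X' ⟶ openSub X (Points.map f ⁻¹' V), q ≫ openSubι X _ = g' ∧
      IsPullback q f' (openSubMap f V) l := by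
  have hmem : ∀ p : Points X', Points.map g' p ∈ Points.map f ⁻¹' V := by
    intro p
    change Points.map f (Points.map g' p) ∈ V
    rw [← Points.map_comp, sq.w, ← hl, ← Category.assoc, Points.map_comp]
    exact points_map_openSubι_mem Y V _
  refine ⟨openSubLift _ g' hmem, openSubLift_ι _ _ _, ?_⟩
  refine IsPullback.of_right ?_ ?_ (isPullback_openSubMap f V)
  · rw [openSubLift_ι, hl]
    exact sq
  · rw [← cancel_mono (openSubι Y V), Category.assoc, Category.assoc, openSubMap_ι,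
      openSubLift_ι_assoc, hl, sq.w]

/-- The hypotheses on a class of covering morphisms used for the largest open subspace over
which a property local on the base holds. -/
structure CovClass (Q : MorphismProperty (Sp S)) : Prop where
  ofOI : ∀ {A B : Sp S} (j : A ⟶ B), IsAlgSpace A → IsAlgSpace B →
    RepWith @IsOpenImmersion j → Q j
  baseChange : ∀ {A B A' B' : Sp S} (f : A ⟶ B) (g : B' ⟶ B) (g' : A' ⟶ A) (f' : A' ⟶ B'),
    IsAlgSpace A → IsAlgSpace B → IsAlgSpace B' → IsAlgSpace A' → IsPullback g' f' f g →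
    Q f → Q f'
  comp : ∀ {A B C : Sp S} (f : A ⟶ B) (g : B ⟶ C), IsAlgSpace A → IsAlgSpace B →
    IsAlgSpace C → Q f → Q g → Q (f ≫ g)
  isOpenMap : ∀ {A B : Sp S} (f : A ⟶ B), IsAlgSpace A → IsAlgSpace B → Q f →
    IsOpenMap (Points.map f)

section
variable {Q : MorphismProperty (Sp S)} {P : MorphismProperty (Sp S)}

/-- Singleton coverings. -/
theorem iff_of_singleton_cover (hP : IsLocalOnBase (fun _ _ Y g => IsCover Q Y g) P) {X Y X' Y' : Sp S}
    (hX : IsAlgSpace X) (hY : IsAlgSpace Y) (hY' : IsAlgSpace Y') (hX' : IsAlgSpace X')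
    {f : X ⟶ Y} {g : Y' ⟶ Y} {g' : X' ⟶ X} {f' : X' ⟶ Y'} (sq : IsPullback g' f' f g)
    (hg : Q g) (hs : Function.Surjective (Points.map g)) : P f ↔ P f' := by
  have := hP (fun _ : PUnit.{u + 1} => Y') (fun _ => g) hY (fun _ => hY')
    ⟨fun _ => hg, fun y => ⟨⟨⟩, hs y⟩⟩ f hX (fun _ => X') (fun _ => f') (fun _ => g')
    (fun _ => hX') (fun _ => sq)
  rw [this]
  exact ⟨fun h => h ⟨⟩, fun h _ => h⟩

/-- Base change along a covering morphism. -/
theorem of_baseChange_cover (hQ : CovClass Q) (hP : IsLocalOnBase (fun _ _ Y g => IsCover Q Y g) P)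
    {X Y X' Y' : Sp S}
    (hX : IsAlgSpace X) (hY : IsAlgSpace Y) (hY' : IsAlgSpace Y') (hX' : IsAlgSpace X')
    {f : X ⟶ Y} {g : Y' ⟶ Y} {g' : X' ⟶ X} {f' : X' ⟶ Y'} (sq : IsPullback g' f' f g)
    (hg : Q g) (hf : P f) : P f' := by
  have hid : Q (𝟙 Y) := hQ.ofOI (𝟙 Y) hY hY (repWith_of_isIso _ _)
  have hcov : IsCover Q (optFam Y Y') (optMap g) := optMap_isCover g hid hg
  let p : ∀ i, optFam X X' i ⟶ optFam Y Y' i := fun i =>
    match i with
    | none => f
    | some _ => f'
  have hsq : ∀ i, IsPullback (optMap g' i) (p i) f (optMap g i) := fun i =>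
    match i with
    | none => (show IsPullback (𝟙 X) f f (𝟙 Y) from
        haveI : IsIso (𝟙 X) := inferInstance
        IsPullback.of_horiz_isIso ⟨by rw [Category.id_comp, Category.comp_id]⟩)
    | some _ => sq
  exact (hP (optFam Y Y') (optMap g) hY (optFam_isAlgSpace hY hY') hcov f hX (optFam X X') p
    (optMap g') (optFam_isAlgSpace hX hX') hsq).mp hf (some ⟨⟩)

/-- `P` holds over the open `V`, in the sense of all open immersions with image `V`. -/
def GoodOpen (P : MorphismProperty (Sp S)) {X Y : Sp S} (f : X ⟶ Y) (V : Set (Points Y)) : Prop :=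
  ∀ (W₁ X₁ : Sp S) (j₁ : W₁ ⟶ Y) (j₁' : X₁ ⟶ X) (f₁ : X₁ ⟶ W₁), IsAlgSpace W₁ → IsAlgSpace X₁ →
    RepWith @IsOpenImmersion j₁ → Set.range (Points.map j₁) = V → IsPullback j₁' f₁ f j₁ → P f₁

theorem goodOpen_iff_openSubMap (hQ : CovClass Q) (hP : IsLocalOnBase (fun _ _ Y g => IsCover Q Y g) P)
    {X Y : Sp S} (hX : IsAlgSpace X) (hY : IsAlgSpace Y) (f : X ⟶ Y) {V : Set (Points Y)}
    (hV : IsOpen V) : GoodOpen P f V ↔ P (openSubMap f V) := by
  have hYV := isAlgSpace_openSub hY hV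
  have hXV := isAlgSpace_openSub_preimage hX f hV
  constructor
  · intro h
    exact h _ _ _ _ _ hYV hXV (repWith_isOpenImmersion_openSubι Y hV)
      (range_points_map_openSubι Y V) (isPullback_openSubMap f V)
  · intro h W₁ X₁ j₁ j₁' f₁ hW₁ hX₁ hj hr sq
    have hmem : ∀ p : Points W₁, Points.map j₁ p ∈ V := fun p => hr ▸ ⟨p, rfl⟩
    let l : W₁ ⟶ openSub Y V := openSubLift V j₁ hmem
    have hl : l ≫ openSubι Y V = j₁ := openSubLift_ι _ _ _
    have hlQ : Q l := hQ.ofOI l hW₁ hYV
      (repWith_lift_of_mono @IsOpenImmersion (openSubι Y V) j₁ l hl hj)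
    have hls : Function.Surjective (Points.map l) := by
      intro p
      have : Points.map (openSubι Y V) p ∈ Set.range (Points.map j₁) := by
        rw [hr]; exact points_map_openSubι_mem Y V p
      obtain ⟨q, hq⟩ := this
      refine ⟨q, injective_points_map_of_mono (openSubι Y V) ?_⟩
      rw [← Points.map_comp, hl, hq]
    obtain ⟨q, -, hq⟩ := exists_isPullback_openSubMap_of_lift sq V l hl
    exact (iff_of_singleton_cover hP hXV hYV hW₁ hX₁ hq hlQ hls).mp h

end

section
variable {Q : MorphismProperty (Sp S)} {P : MorphismProperty (Sp S)}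

/-- The union of the opens over which `P` holds. -/
def largestOpenSet (P : MorphismProperty (Sp S)) {X Y : Sp S} (f : X ⟶ Y) : Set (Points Y) :=
  ⋃₀ {V | IsOpen V ∧ GoodOpen P f V}

theorem isOpen_largestOpenSet {X Y : Sp S} (f : X ⟶ Y) : IsOpen (largestOpenSet P f) :=
  isOpen_sUnion (fun _ hV => hV.1)

theorem goodOpen_largestOpenSet (hQ : CovClass Q)
    (hP : IsLocalOnBase (fun _ _ Y g => IsCover Q Y g) P)
    {X Y : Sp S} (hX : IsAlgSpace X) (hY : IsAlgSpace Y) (f : X ⟶ Y) :
    GoodOpen P f (largestOpenSet P f) := by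
  have hWo : IsOpen (largestOpenSet P f) := isOpen_largestOpenSet f
  rw [goodOpen_iff_openSubMap hQ hP hX hY f hWo]
  obtain ⟨U, a, hae, has⟩ := hY.atlas
  let ι : Type u := {u : ↥U.left // Points.ofPt a u ∈ largestOpenSet P f}
  have hch : ∀ i : ι, ∃ V, (IsOpen V ∧ GoodOpen P f V) ∧ Points.ofPt a i.1 ∈ V := fun i => by
    obtain ⟨V, hV, hi⟩ := Set.mem_sUnion.mp i.2
    exact ⟨V, hV, hi⟩
  choose V hV hVi using hch
  have hVW : ∀ i, V i ⊆ largestOpenSet P f := fun i => Set.subset_sUnion_of_mem (hV i)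
  have hsub : ∀ i, V i ⊆ Points.map (𝟙 Y) ⁻¹' largestOpenSet P f := by
    intro i x hx
    change Points.map (𝟙 Y) x ∈ largestOpenSet P f
    rw [Points.map_id]
    exact hVW i hx
  let g : ∀ i, openSub Y (V i) ⟶ openSub Y (largestOpenSet P f) := fun i =>
    openSubMap₂ (𝟙 Y) (V i) (largestOpenSet P f) (hsub i)
  have sq0 : IsPullback (𝟙 X) f f (𝟙 Y) :=
    haveI : IsIso (𝟙 X) := inferInstance
    IsPullback.of_horiz_isIso ⟨by rw [Category.id_comp, Category.comp_id]⟩
  have hsq : ∀ i, IsPullback (openSubMap₂ (𝟙 X) _ _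
      (preimage_subset_of_isPullback sq0 (V i) (largestOpenSet P f) (hsub i)))
      (openSubMap f (V i)) (openSubMap f (largestOpenSet P f)) (g i) := fun i =>
    isPullback_openSubMap₂ sq0 (V i) (largestOpenSet P f) (hsub i) _
  have hcov : IsCover Q (fun i => openSub Y (V i)) g := by
    refine ⟨fun i => ?_, fun y => ?_⟩
    · refine hQ.ofOI _ (isAlgSpace_openSub hY (hV i).1) (isAlgSpace_openSub hY hWo)
        (repWith_lift_of_mono @IsOpenImmersion (openSubι Y (largestOpenSet P f))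
          (openSubι Y (V i)) (g i) ?_ (repWith_isOpenImmersion_openSubι Y (hV i).1))
      rw [openSubMap₂_ι, Category.comp_id]
    · have hy : Points.map (openSubι Y (largestOpenSet P f)) y ∈ largestOpenSet P f :=
        points_map_openSubι_mem Y _ y
      obtain ⟨u, hu⟩ := surjective_ofPt a has (Points.map (openSubι Y (largestOpenSet P f)) y)
      have hu' : Points.ofPt a u ∈ largestOpenSet P f := by rw [hu]; exact hy
      let i : ι := ⟨u, hu'⟩
      have hmem : Points.map (openSubι Y (largestOpenSet P f)) y ∈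
          Set.range (Points.map (openSubι Y (V i))) := by
        rw [range_points_map_openSubι, ← hu]
        exact hVi i
      obtain ⟨p', hp'⟩ := hmem
      refine ⟨i, p', injective_points_map_of_mono (openSubι Y (largestOpenSet P f)) ?_⟩
      rw [← Points.map_comp, openSubMap₂_ι, Category.comp_id, hp']
  rw [hP _ g (isAlgSpace_openSub hY hWo) (fun i => isAlgSpace_openSub hY (hV i).1) hcov
    (openSubMap f (largestOpenSet P f)) (isAlgSpace_openSub_preimage hX f hWo) _
    (fun i => openSubMap f (V i)) _ (fun i => isAlgSpace_openSub_preimage hX f (hV i).1) hsq]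
  intro i
  exact (goodOpen_iff_openSubMap hQ hP hX hY f (hV i).1).mp (hV i).2

theorem range_subset_largestOpenSet (hQ : CovClass Q)
    (hP : IsLocalOnBase (fun _ _ Y g => IsCover Q Y g) P)
    {X Y : Sp S} (hX : IsAlgSpace X) (hY : IsAlgSpace Y) (f : X ⟶ Y) {X' Y' : Sp S}
    (hX' : IsAlgSpace X') (hY' : IsAlgSpace Y') (g : Y' ⟶ Y) (g' : X' ⟶ X) (f' : X' ⟶ Y')
    (hg : Q g) (sq : IsPullback g' f' f g) (hf' : P f') :
    Set.range (Points.map g) ⊆ largestOpenSet P f := by
  have hVo : IsOpen (Set.range (Points.map g)) := (hQ.isOpenMap g hY' hY hg).isOpen_range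
  refine Set.subset_sUnion_of_mem ⟨hVo, ?_⟩
  rw [goodOpen_iff_openSubMap hQ hP hX hY f hVo]
  let l : Y' ⟶ openSub Y (Set.range (Points.map g)) :=
    openSubLift (Set.range (Points.map g)) g (fun p => ⟨p, rfl⟩)
  have hl : l ≫ openSubι Y (Set.range (Points.map g)) = g := openSubLift_ι _ _ _
  have hlQ : Q l := hQ.baseChange g (openSubι Y (Set.range (Points.map g))) (𝟙 Y') l hY' hY
    (isAlgSpace_openSub hY hVo) hY' (isPullback_id_of_mono (openSubι Y _) g l hl) hg
  have hls : Function.Surjective (Points.map l) := by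
    intro p
    obtain ⟨q, hq⟩ : Points.map (openSubι Y (Set.range (Points.map g))) p ∈
        Set.range (Points.map g) := points_map_openSubι_mem Y _ p
    refine ⟨q, injective_points_map_of_mono (openSubι Y (Set.range (Points.map g))) ?_⟩
    rw [← Points.map_comp, hl, hq]
  obtain ⟨q, -, hq⟩ := exists_isPullback_openSubMap_of_lift sq (Set.range (Points.map g)) l hl
  exact (iff_of_singleton_cover hP (isAlgSpace_openSub_preimage hX f hVo)
    (isAlgSpace_openSub hY hVo) hY' hX' hq hlQ hls).mpr hf'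

theorem eq_preimage_largestOpenSet (hQ : CovClass Q)
    (hP : IsLocalOnBase (fun _ _ Y g => IsCover Q Y g) P)
    {X Y : Sp S} (hX : IsAlgSpace X) (hY : IsAlgSpace Y) (f : X ⟶ Y) {X' Y' : Sp S}
    (hX' : IsAlgSpace X') (hY' : IsAlgSpace Y') (g : Y' ⟶ Y) (g' : X' ⟶ X) (f' : X' ⟶ Y')
    (hg : Q g) (sq : IsPullback g' f' f g) (W' : Set (Points Y')) (hW'o : IsOpen W')
    (hW' : GoodOpen P f' W') (hmax : ∀ V', IsOpen V' → GoodOpen P f' V' → V' ⊆ W') :
    W' = Points.map g ⁻¹' largestOpenSet P f := by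
  have hWo : IsOpen (largestOpenSet P f) := isOpen_largestOpenSet f
  have hW''o : IsOpen (Points.map g ⁻¹' largestOpenSet P f) :=
    hWo.preimage (Points.continuous_map g)
  apply Set.Subset.antisymm
  · intro y' hy'
    have hYW' := isAlgSpace_openSub hY' hW'o
    have hXW' := isAlgSpace_openSub_preimage hX' f' hW'o
    have hh : Q (openSubι Y' W' ≫ g) := hQ.comp _ _ hYW' hY' hY
      (hQ.ofOI _ hYW' hY' (repWith_isOpenImmersion_openSubι Y' hW'o)) hg
    have sq' := (isPullback_openSubMap f' W').paste_horiz sq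
    have hPf : P (openSubMap f' W') := (goodOpen_iff_openSubMap hQ hP hX' hY' f' hW'o).mp hW'
    have key := range_subset_largestOpenSet hQ hP hX hY f hXW' hYW' _ _ _ hh sq' hPf
    obtain ⟨p, hp⟩ : y' ∈ Set.range (Points.map (openSubι Y' W')) := by
      rw [range_points_map_openSubι]; exact hy'
    apply key
    exact ⟨p, by rw [Points.map_comp, hp]⟩
  · apply hmax _ hW''o
    rw [goodOpen_iff_openSubMap hQ hP hX' hY' f' hW''o]
    have hPW : P (openSubMap f (largestOpenSet P f)) :=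
      (goodOpen_iff_openSubMap hQ hP hX hY f hWo).mp (goodOpen_largestOpenSet hQ hP hX hY f)
    have hsq := isPullback_openSubMap₂ sq (Points.map g ⁻¹' largestOpenSet P f)
      (largestOpenSet P f) subset_rfl (preimage_subset_of_isPullback sq _ _ subset_rfl)
    have hgQ : Q (openSubMap₂ g (Points.map g ⁻¹' largestOpenSet P f) (largestOpenSet P f)
        subset_rfl) :=
      hQ.baseChange g (openSubι Y (largestOpenSet P f)) (openSubι Y' _) _ hY' hY
        (isAlgSpace_openSub hY hWo) (isAlgSpace_openSub hY' hW''o)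
        (isPullback_openSubMap g (largestOpenSet P f)) hg
    exact of_baseChange_cover hQ hP (isAlgSpace_openSub_preimage hX f hWo)
      (isAlgSpace_openSub hY hWo) (isAlgSpace_openSub hY' hW''o)
      (isAlgSpace_openSub_preimage hX' f' hW''o) hsq hgQ hPW

end

section
variable {Q : MorphismProperty (Sp S)} {P : MorphismProperty (Sp S)}

theorem goodSpace_iff (P : MorphismProperty (Sp S)) {X Y : Space S} (f : X ⟶ Y)
    (V : Set (Points Y.obj)) :
    (∀ (W₁ X₁ : Space S) (j₁ : W₁ ⟶ Y) (j₁' : X₁ ⟶ X) (f₁ : X₁ ⟶ W₁),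
        RepWith @IsOpenImmersion j₁.hom → Set.range (Points.map j₁.hom) = V →
        IsPullback j₁'.hom f₁.hom f.hom j₁.hom → P f₁.hom) ↔ GoodOpen P f.hom V := by
  constructor
  · intro h W₁ X₁ j₁ j₁' f₁ hW₁ hX₁ hj hr sq
    exact h ⟨W₁, hW₁⟩ ⟨X₁, hX₁⟩ (ObjectProperty.homMk j₁) (ObjectProperty.homMk j₁')
      (ObjectProperty.homMk f₁) hj hr sq
  · intro h W₁ X₁ j₁ j₁' f₁ hj hr sq
    exact h _ _ _ _ _ W₁.property X₁.property hj hr sq

/-- The largest open subspace over which a property local on the base holds. -/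
theorem exists_largestOpen (hQ : CovClass Q)
    (hP : IsLocalOnBase (fun _ _ Y g => IsCover Q Y g) P) {X Y : Space S} (f : X ⟶ Y) :
    ∃ W : TopologicalSpace.Opens (Points Y.obj),
      (∀ (W₀ X₀ : Space S) (j₀ : W₀ ⟶ Y) (j₀' : X₀ ⟶ X) (f₀ : X₀ ⟶ W₀),
        RepWith @IsOpenImmersion j₀.hom →
        Set.range (Points.map j₀.hom) = (W : Set (Points Y.obj)) →
        IsPullback j₀'.hom f₀.hom f.hom j₀.hom → P f₀.hom) ∧
      (∀ V : TopologicalSpace.Opens (Points Y.obj),
        (∀ (W₁ X₁ : Space S) (j₁ : W₁ ⟶ Y) (j₁' : X₁ ⟶ X) (f₁ : X₁ ⟶ W₁),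
        RepWith @IsOpenImmersion j₁.hom →
        Set.range (Points.map j₁.hom) = (V : Set (Points Y.obj)) →
        IsPullback j₁'.hom f₁.hom f.hom j₁.hom → P f₁.hom) → V ≤ W) ∧
      (∀ (Y' X' : Space S) (g : Y' ⟶ Y) (g' : X' ⟶ X) (f' : X' ⟶ Y'),
        Q g.hom → IsPullback g'.hom f'.hom f.hom g.hom → P f'.hom →
        Set.range (Points.map g.hom) ⊆ (W : Set (Points Y.obj))) ∧
      (∀ (Y' X' : Space S) (g : Y' ⟶ Y) (g' : X' ⟶ X) (f' : X' ⟶ Y'),
        Q g.hom → IsPullback g'.hom f'.hom f.hom g.hom →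
        ∀ W' : TopologicalSpace.Opens (Points Y'.obj),
          (∀ (W₂ X₂ : Space S) (j₂ : W₂ ⟶ Y') (j₂' : X₂ ⟶ X') (f₂ : X₂ ⟶ W₂),
        RepWith @IsOpenImmersion j₂.hom →
        Set.range (Points.map j₂.hom) = (W' : Set (Points Y'.obj)) →
        IsPullback j₂'.hom f₂.hom f'.hom j₂.hom → P f₂.hom) →
          (∀ V' : TopologicalSpace.Opens (Points Y'.obj),
            (∀ (W₃ X₃ : Space S) (j₃ : W₃ ⟶ Y') (j₃' : X₃ ⟶ X') (f₃ : X₃ ⟶ W₃),
        RepWith @IsOpenImmersion j₃.hom →
        Set.range (Points.map j₃.hom) = (V' : Set (Points Y'.obj)) →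
        IsPullback j₃'.hom f₃.hom f'.hom j₃.hom → P f₃.hom) → V' ≤ W') →
          (W' : Set (Points Y'.obj)) =
            Points.map g.hom ⁻¹' (W : Set (Points Y.obj))) := by
  refine ⟨⟨largestOpenSet P f.hom, isOpen_largestOpenSet f.hom⟩, ?_, ?_, ?_, ?_⟩
  · exact (goodSpace_iff P f _).mpr (goodOpen_largestOpenSet hQ hP X.property Y.property f.hom)
  · intro V hV
    have hg := (goodSpace_iff P f V).mp hV
    intro x hx
    exact Set.mem_sUnion.mpr ⟨V, ⟨V.2, hg⟩, hx⟩
  · intro Y' X' g g' f' hg sq hf'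
    exact range_subset_largestOpenSet hQ hP X.property Y.property f.hom X'.property Y'.property
      g.hom g'.hom f'.hom hg sq hf'
  · intro Y' X' g g' f' hg sq W' hW' hmax
    exact eq_preimage_largestOpenSet hQ hP X.property Y.property f.hom X'.property Y'.property
      g.hom g'.hom f'.hom hg sq W' W'.2 ((goodSpace_iff P f' _).mp hW')
      (fun V' hV'o hV' => hmax ⟨V', hV'o⟩ ((goodSpace_iff P f' V').mpr hV'))

end

theorem locP_etale_of_repWith_isOpenImmersion {A B : Sp S} (hA : IsAlgSpace A) (j : A ⟶ B)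
    (hj : RepWith @IsOpenImmersion j) : LocP @Etale j :=
  locP_of_repWith @Etale hA.diag j (repWith_isOpenImmersion_le_etale hj)

theorem isOpenMap_points_of_flat_lfp {X Y : Sp S} (hX : IsAlgSpace X) (hY : IsAlgSpace Y)
    (f : X ⟶ Y) (hfl : LocP @Flat f) (hfp : LocP @LocallyOfFinitePresentation f) :
    IsOpenMap (Points.map f) := by
  have h := isUnivOpenMor_of_flat_lfp hX hY f hfl hfp
  have sq0 : IsPullback (𝟙 X) f f (𝟙 Y) :=
    haveI : IsIso (𝟙 X) := inferInstance
    IsPullback.of_horiz_isIso ⟨by rw [Category.id_comp, Category.comp_id]⟩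
  exact h hY (𝟙 Y) (𝟙 X) f sq0

theorem covClass_isEtaleMor : CovClass (IsEtaleMor (S := S)) where
  ofOI := fun j hA hB hj =>
    isEtaleMor_of_locP_etale hA hB j (locP_etale_of_repWith_isOpenImmersion hA j hj)
  baseChange := fun f g g' f' hA hB hB' hA' sq hf =>
    isEtaleMor_of_locP_etale hA' hB' f' (locP_of_isPullback @Etale hA hB hB' hA' f g g' f' sq
      (locP_etale_of_isEtaleMor hB.diag f hf))
  comp := fun f g hA hB hC hf hg =>
    isEtaleMor_of_locP_etale hA hC _ (locP_comp @Etale hA hB hC f g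
      (locP_etale_of_isEtaleMor hB.diag f hf) (locP_etale_of_isEtaleMor hC.diag g hg))
  isOpenMap := fun f hA _ hf => isOpenMap_points_of_isEtaleMor hA f hf

theorem covClass_locP_smooth : CovClass (LocP (S := S) @Smooth) where
  ofOI := fun j hA _ hj =>
    locP_mono (fun _ _ g (hg : Etale g) => (inferInstance : Smooth g))
      (locP_etale_of_repWith_isOpenImmersion hA j hj)
  baseChange := fun f g g' f' hA hB hB' hA' sq hf =>
    locP_of_isPullback @Smooth hA hB hB' hA' f g g' f' sq hf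
  comp := fun f g hA hB hC hf hg => locP_comp @Smooth hA hB hC f g hf hg
  isOpenMap := fun f hA hB hf => isOpenMap_points_of_flat_lfp hA hB f
    (locP_mono (fun _ _ g (hg : Smooth g) => (inferInstance : Flat g)) hf)
    (locP_mono (fun _ _ g (hg : Smooth g) => (inferInstance : LocallyOfFinitePresentation g)) hf)

theorem covClass_fppf :
    CovClass (S := S) (fun _ _ f => LocP @Flat f ∧ LocP @LocallyOfFinitePresentation f) where
  ofOI := fun j hA _ hj =>
    ⟨locP_mono (fun _ _ g (hg : Etale g) => (inferInstance : Flat g))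
      (locP_etale_of_repWith_isOpenImmersion hA j hj),
     locP_mono (fun _ _ g (hg : Etale g) => (inferInstance : LocallyOfFinitePresentation g))
      (locP_etale_of_repWith_isOpenImmersion hA j hj)⟩
  baseChange := fun f g g' f' hA hB hB' hA' sq hf =>
    ⟨locP_of_isPullback @Flat hA hB hB' hA' f g g' f' sq hf.1,
     locP_of_isPullback @LocallyOfFinitePresentation hA hB hB' hA' f g g' f' sq hf.2⟩
  comp := fun f g hA hB hC hf hg =>
    ⟨locP_comp @Flat hA hB hC f g hf.1 hg.1,
     locP_comp @LocallyOfFinitePresentation hA hB hC f g hf.2 hg.2⟩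
  isOpenMap := fun f hA hB hf => isOpenMap_points_of_flat_lfp hA hB f hf.1 hf.2

end Groth.Agent.Helper2.AlgSpBasic
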