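import Mathlib
import Groth.Prelude.Def_AlgSpInf
import Groth.Prelude.Def_AlgSp4
import Groth.Agent.Lib.Helper2.AlgSp.LargestOpen
namespace Groth.Agent.Helper2.AlgSpBasic
open CategoryTheory CategoryTheory.Limits AlgebraicGeometry Opposite AlgSp Topology
open Groth.Agent.Helper2.EtaleLocal
universe u
variable {S : Scheme.{u}}

/-- An open immersion of algebraic spaces is open on points. -/
theorem isOpenMap_points_of_repWith_isOpenImmersion {W Y : Sp S} (hW : IsAlgSpace W)
    (hY : IsAlgSpace Y) (j : W ⟶ Y) (hj : RepWith @IsOpenImmersion j) :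
    IsOpenMap (Points.map j) :=
  isOpenMap_points_of_isEtaleMor hW j
    (isEtaleMor_of_locP_etale hW hY j (locP_etale_of_repWith_isOpenImmersion hW j hj))

theorem mono_of_repWith_isOpenImmersion {W Y : Sp S} (j : W ⟶ Y)
    (hj : RepWith @IsOpenImmersion j) : Mono j :=
  mono_of_repWith_monomorphisms j (repWith_mono (fun _ _ g (hg : IsOpenImmersion g) =>
    (inferInstance : Mono g)) hj)

/-- An open immersion of algebraic spaces is canonically isomorphic to the open subsheaf cut out
by its image. -/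
theorem isIso_openSubLift_of_range_eq {W Y : Sp S} (hW : IsAlgSpace W) (hY : IsAlgSpace Y)
    (j : W ⟶ Y) (hj : RepWith @IsOpenImmersion j) (V : Set (Points Y))
    (hV : Set.range (Points.map j) = V) (h : ∀ p : Points W, Points.map j p ∈ V) :
    IsIso (openSubLift V j h) := by
  have hVo : IsOpen V := hV ▸ (isOpenMap_points_of_repWith_isOpenImmersion hW hY j hj).isOpen_range
  have hYV := isAlgSpace_openSub hY hVo
  haveI := mono_of_repWith_isOpenImmersion j hj
  have hl : openSubLift V j h ≫ openSubι Y V = j := openSubLift_ι _ _ _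
  haveI : Mono (openSubLift V j h) := by
    haveI : Mono (openSubLift V j h ≫ openSubι Y V) := by rw [hl]; infer_instance
    exact mono_of_mono _ (openSubι Y V)
  have hlOI : RepWith @IsOpenImmersion (openSubLift V j h) :=
    repWith_lift_of_mono @IsOpenImmersion (openSubι Y V) j _ hl hj
  rw [isIso_iff_mono_etale_surjective hW hYV]
  refine ⟨inferInstance, locP_etale_of_repWith_isOpenImmersion hW _ hlOI, ?_⟩
  intro p
  have : Points.map (openSubι Y V) p ∈ Set.range (Points.map j) := by
    rw [hV]; exact points_map_openSubι_mem Y V p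
  obtain ⟨q, hq⟩ := this
  refine ⟨q, injective_points_map_of_mono (openSubι Y V) ?_⟩
  rw [← Points.map_comp, hl, hq]

/-- A morphism whose image on points lies in the image of an open immersion factors through
it. -/
theorem exists_lift_of_range_subset {W Y T : Sp S} (hW : IsAlgSpace W) (hY : IsAlgSpace Y)
    (j : W ⟶ Y) (hj : RepWith @IsOpenImmersion j) (f : T ⟶ Y)
    (h : Set.range (Points.map f) ⊆ Set.range (Points.map j)) : ∃ g : T ⟶ W, g ≫ j = f := by
  haveI := isIso_openSubLift_of_range_eq hW hY j hj _ rfl (fun p => ⟨p, rfl⟩)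
  set l := openSubLift (Set.range (Points.map j)) j (fun p => ⟨p, rfl⟩) with hldef
  have hl : l ≫ openSubι Y _ = j := openSubLift_ι _ _ _
  refine ⟨openSubLift _ f (fun p => h ⟨p, rfl⟩) ≫ inv l, ?_⟩
  have h2 : inv l ≫ j = openSubι Y _ := by
    rw [IsIso.inv_comp_eq, hl]
  rw [Category.assoc, h2, openSubLift_ι]

/-- A thickening is a homeomorphism on points. -/
theorem isHomeomorph_points_of_isThickMor {X X' : Sp S} (hX' : IsAlgSpace X') (i : X ⟶ X')
    (hi : IsThickMor i) : IsHomeomorph (Points.map i) := by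
  obtain ⟨ι, T, a, hT, hae, hs⟩ := exists_affine_chartFamily hX'
  have hrep := hi.rep
  refine isHomeomorph_points_of_chartFamily i T a hae hs
    (fun k => (yon S).obj (hrep.pullback (a k))) (fun k => hrep.fst (a k))
    (fun k => (yon S).map (hrep.snd (a k))) (fun k => hrep.isPullback (a k)) fun k => ?_
  have hth : thick (hrep.snd (a k)).left := hi.property (a k) _ _ (hrep.isPullback (a k))
  rw [Points.map_yon_map_eq]
  haveI : IsClosedImmersion (hrep.snd (a k)).left := hth.1
  haveI : Surjective (hrep.snd (a k)).left := hth.2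
  have h1 : IsHomeomorph (hrep.snd (a k)).left :=
    isHomeomorph_iff_isEmbedding_surjective.mpr
      ⟨(hrep.snd (a k)).left.isClosedEmbedding.isEmbedding, (hrep.snd (a k)).left.surjective⟩
  exact ((Points.schemeHomeo _).isHomeomorph.comp h1).comp (Points.schemeHomeo _).symm.isHomeomorph

theorem isThickMor_of_isPullback {A B C D : Sp S} {f' : A ⟶ B} {g' : A ⟶ C} {g : B ⟶ D}
    {f : C ⟶ D} (sq : IsPullback f' g' g f) (hg : IsThickMor g) : IsThickMor g' :=
  repWith_of_isPullback thick sq hg

theorem mono_of_isThickMor {X X' : Sp S} (i : X ⟶ X') (hi : IsThickMor i) : Mono i :=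
  mono_of_repWith_monomorphisms i (repWith_mono (fun _ _ g hg => by
    haveI : IsClosedImmersion g := hg.1
    exact (inferInstance : Mono g)) hi)

end Groth.Agent.Helper2.AlgSpBasic

namespace Groth.Agent.Helper2.AlgSpBasic
open CategoryTheory CategoryTheory.Limits AlgebraicGeometry Opposite AlgSp Topology
universe u
variable {S : Scheme.{u}}

/-- The kernel pair of a representable étale map from a scheme is an étale equivalence
relation. -/
theorem isEtaleEqvRel_of_isPullback {F : Sp S} {R U : Over S} (s t : R ⟶ U)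
    (a : (yon S).obj U ⟶ F) (ha : RepWith @Etale a)
    (sq : IsPullback ((yon S).map t) ((yon S).map s) a a) : IsEtaleEqvRel s t where
  injective := by
    intro T r r' h1 h2
    apply (yon S).map_injective
    apply sq.hom_ext
    · rw [← Functor.map_comp, ← Functor.map_comp, h1]
    · rw [← Functor.map_comp, ← Functor.map_comp, h2]
  equivalence := by
    intro T
    have key : ∀ x y : T ⟶ U, (∃ r : T ⟶ R, r ≫ t = x ∧ r ≫ s = y) ↔
        (yon S).map x ≫ a = (yon S).map y ≫ a := by
      intro x y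
      constructor
      · rintro ⟨r, rfl, rfl⟩
        rw [Functor.map_comp, Functor.map_comp, Category.assoc, Category.assoc, sq.w]
      · intro h
        obtain ⟨r, hr⟩ := (yon S).map_surjective (sq.lift _ _ h)
        refine ⟨r, (yon S).map_injective ?_, (yon S).map_injective ?_⟩
        · rw [Functor.map_comp, hr, sq.lift_fst]
        · rw [Functor.map_comp, hr, sq.lift_snd]
    refine ⟨fun x => (key x x).mpr rfl, fun {x y} h => (key y x).mpr ((key x y).mp h).symm,
      fun {x y z} h1 h2 => (key x z).mpr (((key x y).mp h1).trans ((key y z).mp h2))⟩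
  etale_left := ha.property a _ _ sq
  etale_right := ha.property a _ _ sq.flip

/-- `S10196`. -/
theorem exists_presentation_of_open_image {X X' : Sp S} (hX : IsAlgSpace X) (hX' : IsAlgSpace X')
    {U : Over S} (a : (yon S).obj U ⟶ X) (ha : RepWith @Etale a) (j : X' ⟶ X)
    (hj : RepWith @IsOpenImmersion j)
    (himage : Set.range (Points.map j) = Set.range (Points.ofPt a)) :
    ∃ a' : (yon S).obj U ⟶ X', a' ≫ j = a ∧ RepWith @Etale a' ∧ RepWith @Surjective a' ∧
      ∀ (R : Over S) (s t : R ⟶ U), IsPullback ((yon S).map t) ((yon S).map s) a a →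
        IsPresentation s t a' := by
  haveI := mono_of_repWith_isOpenImmersion j hj
  have hsub : Set.range (Points.map a) ⊆ Set.range (Points.map j) := by
    rintro _ ⟨p, rfl⟩
    obtain ⟨t, rfl⟩ := (Points.schemeHomeo U).surjective p
    rw [himage]
    exact ⟨t, Points.ofPt_eq_map_ofScheme a t⟩
  obtain ⟨a', ha'⟩ := exists_lift_of_range_subset hX' hX j hj a hsub
  have hae : RepWith @Etale a' := repWith_lift_of_mono @Etale j a a' ha' ha
  have hsurj : Function.Surjective (Points.ofPt a') := by
    intro q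
    have : Points.map j q ∈ Set.range (Points.ofPt a) := himage ▸ ⟨q, rfl⟩
    obtain ⟨t, ht⟩ := this
    refine ⟨t, injective_points_map_of_mono j ?_⟩
    rw [Points.map_ofPt, ha', ht]
  have has : RepWith @Surjective a' := repWith_surjective_of_surjective_ofPt a' hae.rep hsurj
  refine ⟨a', ha', hae, has, fun R s t sq => ?_⟩
  have sq' : IsPullback ((yon S).map t) ((yon S).map s) a' a' := by
    rw [← ha'] at sq
    exact IsKernelPair.cancel_right_of_mono sq
  exact ⟨isEtaleEqvRel_of_isPullback s t a' hae sq', hae, has, sq'⟩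

end Groth.Agent.Helper2.AlgSpBasic

namespace Groth.Agent.Helper2.AlgSpBasic
open CategoryTheory CategoryTheory.Limits AlgebraicGeometry Opposite AlgSp Topology
universe u
variable {S : Scheme.{u}}

/-- A pullback square stays a pullback square after composing the cospan with a
monomorphism. -/
theorem isPullback_comp_mono {C : Type*} [Category C] {P X Y Z W : C} {fst : P ⟶ X}
    {snd : P ⟶ Z} {f : X ⟶ Y} {g : Z ⟶ Y} (sq : IsPullback fst snd f g) (j : Y ⟶ W) [Mono j] :
    IsPullback fst snd (f ≫ j) (g ≫ j) := by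
  refine IsPullback.mk' ?_ ?_ ?_
  · rw [sq.w_assoc]
  · intro T φ φ' h1 h2
    exact sq.hom_ext h1 h2
  · intro T a b hab
    have : a ≫ f = b ≫ g := by
      rw [← cancel_mono j, Category.assoc, Category.assoc, hab]
    exact ⟨sq.lift a b this, sq.lift_fst _ _ _, sq.lift_snd _ _ _⟩

section transfer
variable {X X' Y Y' : Sp S} (hX : IsAlgSpace X) (hX' : IsAlgSpace X') (hY : IsAlgSpace Y)
  (hY' : IsAlgSpace Y') (i : X ⟶ X') (j : Y ⟶ Y') (f : X ⟶ Y) (f' : X' ⟶ Y')
  (hi : IsThickMor i) (hj : IsThickMor j) (w : i ≫ f' = f ≫ j)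

include hX hX' hY hY' hi hj w

/-- Base changes of `f'` are homeomorphic to base changes of `f`. -/
theorem thick_transfer_down {Z P' : Sp S} (hZ : IsAlgSpace Z) (g : Z ⟶ Y') (fst : P' ⟶ X')
    (snd : P' ⟶ Z) (sq : IsPullback fst snd f' g) :
    ∃ (Z₀ P₀ : Sp S) (z₁ : Z₀ ⟶ Z) (z₂ : Z₀ ⟶ Y) (p₁ : P₀ ⟶ Z₀) (p₂ : P₀ ⟶ X) (k : P₀ ⟶ P'),
      IsAlgSpace Z₀ ∧ IsAlgSpace P₀ ∧ IsAlgSpace P' ∧ IsPullback p₂ p₁ f z₂ ∧
      IsHomeomorph (Points.map z₁) ∧ IsHomeomorph (Points.map k) ∧ k ≫ snd = p₁ ≫ z₁ := by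
  have hP' : IsAlgSpace P' := isAlgSpace_of_isPullback hY'.diag hX' hZ f' g fst snd sq
  have sqZ : IsPullback (pullback.fst g j) (pullback.snd g j) g j := IsPullback.of_hasPullback g j
  have hZ₀ : IsAlgSpace (pullback g j) := isAlgSpace_of_isPullback hY'.diag hZ hY g j _ _ sqZ
  have sqP₀ : IsPullback (pullback.fst (pullback.snd g j) f) (pullback.snd (pullback.snd g j) f)
      (pullback.snd g j) f := IsPullback.of_hasPullback _ _
  have hP₀ : IsAlgSpace (pullback (pullback.snd g j) f) :=
    isAlgSpace_of_isPullback hY.diag hZ₀ hX _ _ _ _ sqP₀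
  have hcomm : (pullback.snd (pullback.snd g j) f ≫ i) ≫ f' =
      (pullback.fst (pullback.snd g j) f ≫ pullback.fst g j) ≫ g := by
    rw [Category.assoc, w, ← Category.assoc, ← sqP₀.w, Category.assoc, Category.assoc, sqZ.w]
  let k : pullback (pullback.snd g j) f ⟶ P' := sq.lift _ _ hcomm
  have hk1 : k ≫ fst = pullback.snd (pullback.snd g j) f ≫ i := sq.lift_fst _ _ _
  have hk2 : k ≫ snd = pullback.fst (pullback.snd g j) f ≫ pullback.fst g j := sq.lift_snd _ _ _
  have outer : IsPullback (pullback.fst (pullback.snd g j) f ≫ pullback.fst g j)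
      (pullback.snd (pullback.snd g j) f) g (f ≫ j) := sqP₀.paste_horiz sqZ
  rw [← w, ← hk2] at outer
  have sqk : IsPullback k (pullback.snd (pullback.snd g j) f) fst i :=
    IsPullback.of_right outer hk1 sq.flip
  have hkth : IsThickMor k := isThickMor_of_isPullback sqk.flip hi
  have hz₁th : IsThickMor (pullback.fst g j) := isThickMor_of_isPullback sqZ.flip hj
  exact ⟨_, _, pullback.fst g j, pullback.snd g j, pullback.fst _ f, pullback.snd _ f, k, hZ₀, hP₀,
    hP', sqP₀.flip, isHomeomorph_points_of_isThickMor hZ _ hz₁th,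
    isHomeomorph_points_of_isThickMor hP' _ hkth, hk2⟩

/-- Base changes of `f` are homeomorphic to base changes of `f'`. -/
theorem thick_transfer_up {Z P : Sp S} (hZ : IsAlgSpace Z) (g : Z ⟶ Y) (fst : P ⟶ X)
    (snd : P ⟶ Z) (sq : IsPullback fst snd f g) :
    ∃ (P' : Sp S) (pfst : P' ⟶ X') (psnd : P' ⟶ Z) (k : P ⟶ P'),
      IsAlgSpace P ∧ IsAlgSpace P' ∧ IsPullback pfst psnd f' (g ≫ j) ∧
      IsHomeomorph (Points.map k) ∧ k ≫ psnd = snd := by
  haveI := mono_of_isThickMor j hj
  have hP : IsAlgSpace P := isAlgSpace_of_isPullback hY.diag hX hZ f g fst snd sq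
  have sqP' : IsPullback (pullback.fst f' (g ≫ j)) (pullback.snd f' (g ≫ j)) f' (g ≫ j) :=
    IsPullback.of_hasPullback _ _
  have hP' : IsAlgSpace (pullback f' (g ≫ j)) :=
    isAlgSpace_of_isPullback hY'.diag hX' hZ _ _ _ _ sqP'
  have hcomm : (fst ≫ i) ≫ f' = snd ≫ g ≫ j := by
    rw [Category.assoc, w, ← Category.assoc, sq.w, Category.assoc]
  let k : P ⟶ pullback f' (g ≫ j) := sqP'.lift _ _ hcomm
  have hk1 : k ≫ pullback.fst f' (g ≫ j) = fst ≫ i := sqP'.lift_fst _ _ _
  have hk2 : k ≫ pullback.snd f' (g ≫ j) = snd := sqP'.lift_snd _ _ _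
  have outer : IsPullback snd fst (g ≫ j) (f ≫ j) := isPullback_comp_mono sq.flip j
  rw [← w, ← hk2] at outer
  have sqk : IsPullback k fst (pullback.fst f' (g ≫ j)) i :=
    IsPullback.of_right outer hk1 sqP'.flip
  have hkth : IsThickMor k := isThickMor_of_isPullback sqk.flip hi
  exact ⟨_, _, _, k, hP, hP', sqP', isHomeomorph_points_of_isThickMor hP' _ hkth, hk2⟩

/-- Universal topological properties invariant under homeomorphisms agree for a morphism of
thickenings. -/
theorem univSp_iff_of_thick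
    (Qs : ∀ {α β : Type (u + 1)} [TopologicalSpace α] [TopologicalSpace β], (α → β) → Prop)
    (hQ : ∀ {α β γ δ : Type (u + 1)} [TopologicalSpace α] [TopologicalSpace β] [TopologicalSpace γ]
      [TopologicalSpace δ] (a : α → β) (b : γ → δ) (e₁ : α → γ) (e₂ : β → δ),
      IsHomeomorph e₁ → IsHomeomorph e₂ → e₂ ∘ a = b ∘ e₁ → (Qs a ↔ Qs b)) :
    UnivSp (fun _ _ h => Qs (Points.map h)) f ↔ UnivSp (fun _ _ h => Qs (Points.map h)) f' := by
  constructor
  · intro h Z P' hZ g fst snd sq
    obtain ⟨Z₀, P₀, z₁, z₂, p₁, p₂, k, hZ₀, hP₀, hP', sq₀, hz₁, hk, hcomm⟩ :=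
      thick_transfer_down hX hX' hY hY' i j f f' hi hj w hZ g fst snd sq
    have h0 : Qs (Points.map p₁) := h hZ₀ z₂ p₂ p₁ sq₀
    refine (hQ (Points.map p₁) (Points.map snd) (Points.map k) (Points.map z₁) hk hz₁ ?_).mp h0
    funext x
    change Points.map z₁ (Points.map p₁ x) = Points.map snd (Points.map k x)
    rw [← Points.map_comp, ← Points.map_comp, hcomm]
  · intro h Z P hZ g fst snd sq
    obtain ⟨P', pfst, psnd, k, hP, hP', sq', hk, hcomm⟩ :=
      thick_transfer_up hX hX' hY hY' i j f f' hi hj w hZ g fst snd sq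
    have h0 : Qs (Points.map psnd) := h hZ (g ≫ j) pfst psnd sq'
    refine (hQ (Points.map snd) (Points.map psnd) (Points.map k) id hk
      (Homeomorph.refl _).isHomeomorph ?_).mpr h0
    funext x
    change Points.map snd x = Points.map psnd (Points.map k x)
    rw [← Points.map_comp, hcomm]

end transfer

end Groth.Agent.Helper2.AlgSpBasic
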