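import Mathlib
import Groth.Prelude.Def_AlgSpGpd
import Groth.Prelude.Def_AlgSp2
import Groth.Agent.Lib.Helper2.AlgSp.Basic

/-!
# Pre-equivalence relations of sheaves and points (helper2)
-/

set_option autoImplicit false
open CategoryTheory CategoryTheory.Limits AlgebraicGeometry Opposite AlgSp
open Groth.Agent.Helper2.AlgSpBasic

namespace Groth.Agent.Helper2.PreEqv
universe u
variable {S : Scheme.{u}}

/-- The point defined by a morphism from the spectrum of a field. -/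
theorem map_mk_hom {F G : Sp S} {Ω : Type u} [Field Ω] (w : Spec (CommRingCat.of Ω) ⟶ S)
    (m : (yon S).obj (Over.mk w) ⟶ F) (f : F ⟶ G) :
    Points.map f (Points.mk ⟨Ω, w, (J S).uliftYonedaEquiv m⟩) =
      Points.mk ⟨Ω, w, (J S).uliftYonedaEquiv (m ≫ f)⟩ := by
  rw [Points.map_mk]
  congr 1

/-- Restricting a field point along a morphism of spectra of fields does not change the point. -/
theorem mk_restrict {F : Sp S} (p : FieldPt F) {Ω : Type u} [Field Ω]
    (w : Spec (CommRingCat.of Ω) ⟶ S) (a : Over.mk w ⟶ p.pt) :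
    Points.mk (⟨Ω, w, F.obj.map a.op p.val⟩ : FieldPt F) = Points.mk p := by
  rw [Points.mk_eq_mk_iff]
  refine ⟨Ω, inferInstance, w, 𝟙 _, a, ?_⟩
  show F.obj.map (𝟙 _).op (F.obj.map a.op p.val) = F.obj.map a.op p.val
  rw [op_id, F.obj.map_id]
  rfl

theorem equiv_symm_eq {F : Sp S} (p : FieldPt F) :
    (⟨p.K, p.str, (J S).uliftYonedaEquiv.{u + 1} ((J S).uliftYonedaEquiv.{u + 1}.symm p.val)⟩ :
      FieldPt F) = p := by
  rw [Equiv.apply_symm_apply]
  cases p
  rfl

theorem points_rel_equivalence {R U : Sp S} (s t : R ⟶ U) (h : IsPreEqvRelSp s t) :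
    _root_.Equivalence (fun x y : Points U =>
      ∃ r : Points R, Points.map t r = x ∧ Points.map s r = y) := by
  refine ⟨fun x => ?_, ?_, ?_⟩
  · induction x using Points.ind with | h p => ?_
    let a : (yon S).obj p.pt ⟶ U := (J S).uliftYonedaEquiv.symm p.val
    obtain ⟨r, hr1, hr2⟩ := (h p.pt).refl a
    refine ⟨Points.mk ⟨p.K, p.str, (J S).uliftYonedaEquiv r⟩, ?_, ?_⟩
    · rw [map_mk_hom, hr1]
      exact congrArg Points.mk (equiv_symm_eq p)
    · rw [map_mk_hom, hr2]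
      exact congrArg Points.mk (equiv_symm_eq p)
  · rintro x y ⟨r, rfl, rfl⟩
    induction r using Points.ind with | h p => ?_
    let m : (yon S).obj p.pt ⟶ R := (J S).uliftYonedaEquiv.symm p.val
    have hp : Points.mk p = Points.mk ⟨p.K, p.str, (J S).uliftYonedaEquiv m⟩ :=
      congrArg Points.mk (equiv_symm_eq p).symm
    obtain ⟨r', hr1, hr2⟩ := (h p.pt).symm ⟨m, rfl, rfl⟩
    refine ⟨Points.mk ⟨p.K, p.str, (J S).uliftYonedaEquiv r'⟩, ?_, ?_⟩
    · rw [map_mk_hom, hr1, hp, map_mk_hom]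
    · rw [map_mk_hom, hr2, hp, map_mk_hom]
  · rintro x y z ⟨r₁, rfl, rfl⟩ ⟨r₂, h₂, rfl⟩
    induction r₁ using Points.ind with | h p₁ => ?_
    induction r₂ using Points.ind with | h p₂ => ?_
    rw [Points.map_mk, Points.map_mk, Points.mk_eq_mk_iff] at h₂
    obtain ⟨Ω, _, w, b, a, hab⟩ := h₂
    -- `a : Spec Ω ⟶ p₁.pt`, `b : Spec Ω ⟶ p₂.pt`
    let m₁ : (yon S).obj (Over.mk w) ⟶ R := (J S).uliftYonedaEquiv.symm (R.obj.map a.op p₁.val)
    let m₂ : (yon S).obj (Over.mk w) ⟶ R := (J S).uliftYonedaEquiv.symm (R.obj.map b.op p₂.val)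
    have hm : m₂ ≫ t = m₁ ≫ s := by
      apply (J S).uliftYonedaEquiv.injective
      rw [GrothendieckTopology.uliftYonedaEquiv_comp, GrothendieckTopology.uliftYonedaEquiv_comp]
      simp only [m₁, m₂, Equiv.apply_symm_apply]
      have h1 : t.hom.app _ (R.obj.map b.op p₂.val) = U.obj.map b.op (t.hom.app _ p₂.val) :=
        NatTrans.naturality_apply t.hom b.op p₂.val
      have h2 : s.hom.app _ (R.obj.map a.op p₁.val) = U.obj.map a.op (s.hom.app _ p₁.val) :=
        NatTrans.naturality_apply s.hom a.op p₁.val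
      rw [h1, h2]
      exact hab
    obtain ⟨r₃, hr1, hr2⟩ := (h (Over.mk w)).trans ⟨m₁, rfl, rfl⟩ ⟨m₂, hm, rfl⟩
    have hp₁ : Points.mk p₁ = Points.mk ⟨Ω, w, (J S).uliftYonedaEquiv m₁⟩ := by
      simp only [m₁, Equiv.apply_symm_apply]
      exact (mk_restrict p₁ w a).symm
    have hp₂ : Points.mk p₂ = Points.mk ⟨Ω, w, (J S).uliftYonedaEquiv m₂⟩ := by
      simp only [m₂, Equiv.apply_symm_apply]
      exact (mk_restrict p₂ w b).symm
    refine ⟨Points.mk ⟨Ω, w, (J S).uliftYonedaEquiv r₃⟩, ?_, ?_⟩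
    · rw [map_mk_hom, hr1, hp₁, map_mk_hom]
    · rw [map_mk_hom, hr2, hp₂, map_mk_hom]

end Groth.Agent.Helper2.PreEqv
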