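import Mathlib
import Groth.Prelude.Def_AlgSpGpd
import Groth.Agent.Lib.Helper2.AlgSp.EpiPullback
import Groth.Agent.Lib.Helper2.AlgSp.FpqcCover2
import Groth.Agent.Lib.Helper2.AlgSp.Fpqc

/-!
# Quotients of pre-equivalence relations of fppf sheaves: sections with the same image in the
quotient are locally related (helper2)
-/

set_option autoImplicit false
open CategoryTheory CategoryTheory.Limits AlgebraicGeometry Opposite AlgSp
open Groth.Agent.Helper2.AlgSpBasic

namespace Groth.Agent.Helper2.QuotEffSp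
universe u
variable {S : Scheme.{u}} {R U : Sp S} (s t : R ⟶ U)

/-- The pre-equivalence relation on sections. -/
theorem equivalence_sections (h : IsPreEqvRelSp s t) (T : Over S) :
    _root_.Equivalence (fun x y : U.obj.obj (op T) =>
      ∃ r : R.obj.obj (op T), t.hom.app (op T) r = x ∧ s.hom.app (op T) r = y) := by
  have key : ∀ x y : U.obj.obj (op T),
      (∃ r : R.obj.obj (op T), t.hom.app (op T) r = x ∧ s.hom.app (op T) r = y) ↔
      (∃ r : (yon S).obj T ⟶ R, r ≫ t = (J S).uliftYonedaEquiv.symm x ∧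
        r ≫ s = (J S).uliftYonedaEquiv.symm y) := by
    intro x y
    constructor
    · rintro ⟨r, rfl, rfl⟩
      refine ⟨(J S).uliftYonedaEquiv.symm r, ?_, ?_⟩
      · apply (J S).uliftYonedaEquiv.injective
        rw [GrothendieckTopology.uliftYonedaEquiv_comp, Equiv.apply_symm_apply,
          Equiv.apply_symm_apply]
      · apply (J S).uliftYonedaEquiv.injective
        rw [GrothendieckTopology.uliftYonedaEquiv_comp, Equiv.apply_symm_apply,
          Equiv.apply_symm_apply]
    · rintro ⟨r, hr1, hr2⟩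
      refine ⟨(J S).uliftYonedaEquiv r, ?_, ?_⟩
      · rw [← GrothendieckTopology.uliftYonedaEquiv_comp, hr1, Equiv.apply_symm_apply]
      · rw [← GrothendieckTopology.uliftYonedaEquiv_comp, hr2, Equiv.apply_symm_apply]
  have hT := h T
  refine ⟨fun x => (key x x).mpr (hT.refl _), fun {x y} hxy => (key y x).mpr (hT.symm ((key x y).mp hxy)),
    fun {x y z} hxy hyz => (key x z).mpr (hT.trans ((key x y).mp hxy) ((key y z).mp hyz))⟩

theorem rel_of_π_eq (h : IsPreEqvRelSp s t) (T : Over S) (x y : U.obj.obj (op T))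
    (hxy : (coequalizer.π s.hom t.hom).app (op T) x = (coequalizer.π s.hom t.hom).app (op T) y) :
    ∃ r : R.obj.obj (op T), t.hom.app (op T) r = x ∧ s.hom.app (op T) r = y := by
  let G := (evaluation (Over S)ᵒᵖ (Type (u+1))).obj (op T)
  have hcol := isColimitCoforkMapOfIsColimit G (coequalizer.condition s.hom t.hom)
    (coequalizerIsCoequalizer s.hom t.hom)
  let Us : Set (U.obj.obj (op T)) :=
    {z | ∃ r : R.obj.obj (op T), t.hom.app (op T) r = x ∧ s.hom.app (op T) r = z}
  have heq := equivalence_sections s t h T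
  have H : (G.map s.hom) ⁻¹' Us = (G.map t.hom) ⁻¹' Us := by
    ext r0
    constructor
    · rintro ⟨r, hr1, hr2⟩
      have h1 : ∃ r' : R.obj.obj (op T), t.hom.app (op T) r' = s.hom.app (op T) r0 ∧
          s.hom.app (op T) r' = t.hom.app (op T) r0 := heq.symm ⟨r0, rfl, rfl⟩
      exact heq.trans ⟨r, hr1, hr2⟩ h1
    · rintro ⟨r, hr1, hr2⟩
      exact heq.trans ⟨r, hr1, hr2⟩ ⟨r0, rfl, rfl⟩
  have key := Types.coequalizer_preimage_image_eq_of_preimage_eq (G.map s.hom)
    (G.map t.hom) (G.map (coequalizer.π s.hom t.hom)) _ hcol Us H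
  have hy : y ∈ (G.map (coequalizer.π s.hom t.hom)) ⁻¹'
      ((G.map (coequalizer.π s.hom t.hom)) '' Us) :=
    ⟨x, heq.refl _, hxy⟩
  rw [key] at hy
  exact hy


/-- Sections of `U` with the same image in the quotient sheaf are related locally for the fppf
topology. -/
theorem exists_local_rel (h : IsPreEqvRelSp s t) {T : Over S} (a b : (yon S).obj T ⟶ U)
    (hab : a ≫ coequalizer.π s t = b ≫ coequalizer.π s t) :
    ∃ (κ : Type u) (W : κ → Over S) (p : ∀ k, W k ⟶ T),
      (∀ k, (@Flat ⊓ @LocallyOfFinitePresentation : MorphismProperty Scheme.{u}) (p k).left) ∧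
      (∀ x : T.left, ∃ k, x ∈ Set.range (p k).left) ∧
      ∀ k, ∃ r : (yon S).obj (W k) ⟶ R, r ≫ t = (yon S).map (p k) ≫ a ∧
        r ≫ s = (yon S).map (p k) ≫ b := by
  let P := coequalizer s.hom t.hom
  let πP : U.obj ⟶ P := coequalizer.π s.hom t.hom
  let Q' : Sp S := (presheafToSheaf (J S) (Type (u+1))).obj P
  let π' : U ⟶ Q' := ⟨πP ≫ toSheafify (J S) P⟩
  have hπ' : s ≫ π' = t ≫ π' := by
    apply Sheaf.hom_ext
    show s.hom ≫ πP ≫ toSheafify (J S) P = t.hom ≫ πP ≫ toSheafify (J S) P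
    rw [← Category.assoc, ← Category.assoc, coequalizer.condition]
  let d : coequalizer s t ⟶ Q' := coequalizer.desc π' hπ'
  have hd : coequalizer.π s t ≫ d = π' := coequalizer.π_desc π' hπ'
  have hab' : a ≫ π' = b ≫ π' := by
    rw [← hd, ← Category.assoc, ← Category.assoc, hab]
  have h1 := congrArg (J S).uliftYonedaEquiv hab'
  rw [GrothendieckTopology.uliftYonedaEquiv_comp, GrothendieckTopology.uliftYonedaEquiv_comp] at h1
  have h2 : (toSheafify (J S) P).app (op T) (πP.app (op T) ((J S).uliftYonedaEquiv a)) =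
      (toSheafify (J S) P).app (op T) (πP.app (op T) ((J S).uliftYonedaEquiv b)) := h1
  have hmem := Presheaf.equalizerSieve_mem (J S) (toSheafify (J S) P) _ _ h2
  obtain ⟨κ, W, p, hp, hs, hR⟩ := Groth.Agent.Helper2.Coprod.exists_family_of_mem_J _ hmem
  refine ⟨κ, W, p, hp, hs, fun k => ?_⟩
  have hk : P.map (p k).op (πP.app (op T) ((J S).uliftYonedaEquiv a)) =
      P.map (p k).op (πP.app (op T) ((J S).uliftYonedaEquiv b)) := hR k
  have na : πP.app (op (W k)) (U.obj.map (p k).op ((J S).uliftYonedaEquiv a)) =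
      P.map (p k).op (πP.app (op T) ((J S).uliftYonedaEquiv a)) :=
    NatTrans.naturality_apply πP (p k).op _
  have nb : πP.app (op (W k)) (U.obj.map (p k).op ((J S).uliftYonedaEquiv b)) =
      P.map (p k).op (πP.app (op T) ((J S).uliftYonedaEquiv b)) :=
    NatTrans.naturality_apply πP (p k).op _
  obtain ⟨r0, hr1, hr2⟩ := rel_of_π_eq s t h (W k) _ _ (na.trans (hk.trans nb.symm))
  refine ⟨(J S).uliftYonedaEquiv.symm r0, ?_, ?_⟩
  · apply (J S).uliftYonedaEquiv.injective
    rw [GrothendieckTopology.uliftYonedaEquiv_comp, Equiv.apply_symm_apply,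
      ← GrothendieckTopology.uliftYonedaEquiv_naturality]
    exact hr1
  · apply (J S).uliftYonedaEquiv.injective
    rw [GrothendieckTopology.uliftYonedaEquiv_comp, Equiv.apply_symm_apply,
      ← GrothendieckTopology.uliftYonedaEquiv_naturality]
    exact hr2


open Groth.Agent.Helper2.EpiPullback in
/-- The map of quotient sheaves induced by restricting a pre-equivalence relation is a
monomorphism; the restriction is expressed by a lifting property. -/
theorem mono_restrict' {R' U' : Sp S} (hpre : IsPreEqvRelSp s t) (g : U' ⟶ U) (s' t' : R' ⟶ U')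
    (hres : ∀ {W : Over S} (a' b' : (yon S).obj W ⟶ U') (r0 : (yon S).obj W ⟶ R),
      r0 ≫ t = a' ≫ g → r0 ≫ s = b' ≫ g → ∃ r' : (yon S).obj W ⟶ R', r' ≫ t' = a' ∧ r' ≫ s' = b')
    (ψ : coequalizer s' t' ⟶ coequalizer s t)
    (hψ : coequalizer.π s' t' ≫ ψ = g ≫ coequalizer.π s t) : Mono ψ := by
  let π' := coequalizer.π s' t'
  let π := coequalizer.π s t
  haveI : Sheaf.IsLocallySurjective π' := (Sheaf.isLocallySurjective_iff_epi π').mpr inferInstance
  refine ⟨fun {A} x y hxy => ?_⟩
  apply hom_ext_yon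
  intro Q c
  have hxy' : (c ≫ x) ≫ ψ = (c ≫ y) ≫ ψ := by rw [Category.assoc, Category.assoc, hxy]
  obtain ⟨κ, W, p, hp, hs, hlift⟩ := exists_family_lift₂ π' (c ≫ x) (c ≫ y)
  apply Groth.Agent.Helper2.AlgSpFormal.hom_ext_of_family W p hp hs
  intro k
  obtain ⟨a, b, ha, hb⟩ := hlift k
  have hab : (a ≫ g) ≫ π = (b ≫ g) ≫ π := by
    have hψ' : π' ≫ ψ = g ≫ π := hψ
    calc (a ≫ g) ≫ π = (a ≫ π') ≫ ψ := by rw [Category.assoc, Category.assoc, hψ']
      _ = (yon S).map (p k) ≫ (c ≫ x) ≫ ψ := by rw [ha]; simp only [Category.assoc]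
      _ = (yon S).map (p k) ≫ (c ≫ y) ≫ ψ := by rw [hxy']
      _ = (b ≫ π') ≫ ψ := by rw [hb]; simp only [Category.assoc]
      _ = (b ≫ g) ≫ π := by rw [Category.assoc, Category.assoc, hψ']
  obtain ⟨κ', W', p', hp', hs', hrel⟩ := exists_local_rel s t hpre (a ≫ g) (b ≫ g) hab
  apply Groth.Agent.Helper2.AlgSpFormal.hom_ext_of_family W' p' hp' hs'
  intro l
  obtain ⟨r0, hr1, hr2⟩ := hrel l
  obtain ⟨r', hr't, hr's⟩ := hres ((yon S).map (p' l) ≫ a) ((yon S).map (p' l) ≫ b) r0
    (by rw [hr1, Category.assoc]) (by rw [hr2, Category.assoc])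
  calc (yon S).map (p' l) ≫ (yon S).map (p k) ≫ c ≫ x
      = (yon S).map (p' l) ≫ a ≫ π' := by rw [ha]
    _ = r' ≫ t' ≫ π' := by rw [← Category.assoc, ← hr't, Category.assoc]
    _ = r' ≫ s' ≫ π' := by rw [coequalizer.condition]
    _ = (yon S).map (p' l) ≫ b ≫ π' := by rw [← Category.assoc, hr's, Category.assoc]
    _ = (yon S).map (p' l) ≫ (yon S).map (p k) ≫ c ≫ y := by rw [hb]

/-- The map of quotient sheaves induced by restricting a pre-equivalence relation is a
monomorphism. -/
theorem mono_restrict {R' U' : Sp S} (hpre : IsPreEqvRelSp s t) (g : U' ⟶ U) (s' t' : R' ⟶ U')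
    (r : R' ⟶ R) (hsq : IsPullback (prod.lift t' s') r (prod.map g g) (prod.lift t s))
    (ψ : coequalizer s' t' ⟶ coequalizer s t)
    (hψ : coequalizer.π s' t' ≫ ψ = g ≫ coequalizer.π s t) : Mono ψ := by
  refine mono_restrict' s t hpre g s' t' ?_ ψ hψ
  intro W a' b' r0 hr1 hr2
  have hcond : prod.lift a' b' ≫ prod.map g g = r0 ≫ prod.lift t s := by
    apply Limits.prod.hom_ext
    · simp only [Category.assoc, prod.map_fst, prod.lift_fst, prod.lift_fst_assoc]
      rw [hr1]
    · simp only [Category.assoc, prod.map_snd, prod.lift_snd, prod.lift_snd_assoc]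
      rw [hr2]
  let r' : (yon S).obj W ⟶ R' := hsq.lift _ _ hcond
  have hr' : r' ≫ prod.lift t' s' = prod.lift a' b' := hsq.lift_fst _ _ _
  refine ⟨r', ?_, ?_⟩
  · have := congrArg (· ≫ prod.fst) hr'
    simpa only [Category.assoc, prod.lift_fst] using this
  · have := congrArg (· ≫ prod.snd) hr'
    simpa only [Category.assoc, prod.lift_snd] using this

theorem isIso_restrict_of_epi {R' U' : Sp S} (hpre : IsPreEqvRelSp s t) (g : U' ⟶ U)
    (s' t' : R' ⟶ U') (r : R' ⟶ R)
    (hsq : IsPullback (prod.lift t' s') r (prod.map g g) (prod.lift t s))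
    (ψ : coequalizer s' t' ⟶ coequalizer s t)
    (hψ : coequalizer.π s' t' ≫ ψ = g ≫ coequalizer.π s t) [Epi g] : IsIso ψ := by
  haveI := mono_restrict s t hpre g s' t' r hsq ψ hψ
  haveI : Epi ψ := by
    haveI : Epi (coequalizer.π s' t' ≫ ψ) := by rw [hψ]; infer_instance
    exact epi_of_epi (coequalizer.π s' t') ψ
  exact isIso_of_mono_of_epi ψ


/-- An equivalence relation of sheaves is the kernel pair of its quotient map. -/
theorem isPullback_quot (h : IsEqvRelSp s t) :
    IsPullback t s (coequalizer.π s t) (coequalizer.π s t) := by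
  apply Groth.Agent.Helper2.ZarGlue.isPullback_of_yon (coequalizer.condition s t).symm
  · intro Q α β hαβ
    obtain ⟨κ, W, p, hp, hs, hrel⟩ := exists_local_rel s t h.equivalence α β hαβ
    choose r hr1 hr2 using hrel
    obtain ⟨l, hl⟩ := Groth.Agent.Helper2.AlgSpFormal.exists_glue_of_family W p hp hs r (by
      intro i j Q' qi qj hq
      apply h.injective
      · rw [Category.assoc, Category.assoc, hr1, hr1, ← Category.assoc, ← Category.assoc,
          ← Functor.map_comp, ← Functor.map_comp, hq]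
      · rw [Category.assoc, Category.assoc, hr2, hr2, ← Category.assoc, ← Category.assoc,
          ← Functor.map_comp, ← Functor.map_comp, hq])
    refine ⟨l, ?_, ?_⟩
    · apply Groth.Agent.Helper2.AlgSpFormal.hom_ext_of_family W p hp hs
      intro k
      rw [← Category.assoc, hl k, hr1]
    · apply Groth.Agent.Helper2.AlgSpFormal.hom_ext_of_family W p hp hs
      intro k
      rw [← Category.assoc, hl k, hr2]
  · intro Q l l' h1 h2
    exact h.injective Q l l' h1 h2

/-- A locally surjective morphism of sheaves is surjective on points. -/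
theorem isSurjectiveMor_of_isLocallySurjective {X Y : Sp S} (f : X ⟶ Y)
    [Sheaf.IsLocallySurjective f] : IsSurjectiveMor f := by
  intro y
  obtain ⟨T, g, t0, rfl⟩ := exists_ofPt_eq y
  obtain ⟨κ, W, p, hp, hs, hlift⟩ := Groth.Agent.Helper2.EpiPullback.exists_family_lift f g
  obtain ⟨k, w, hw⟩ := hs t0
  obtain ⟨l, hl⟩ := hlift k
  refine ⟨Points.ofPt l w, ?_⟩
  rw [Points.map_ofPt, hl, ofPt_yon_map_comp, hw]


open Groth.Agent.Helper2.EtaleLocal in
/-- Properties satisfying fpqc descent pass from `s` to the quotient map of an equivalence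
relation whose quotient is an algebraic space. -/
theorem locP_quotπ (Q : MorphismProperty Scheme.{u}) [IsEtaleLocalST Q] [IsZariskiLocalAtTarget Q]
    [Q.DescendsAlong (@Surjective ⊓ @Flat ⊓ @QuasiCompact)]
    (hR : IsAlgSpace R) (hU : IsAlgSpace U) (h : IsEqvRelSp s t)
    (hF : IsAlgSpace (coequalizer s t)) (hs : LocP Q s) : LocP Q (coequalizer.π s t) := by
  let π := coequalizer.π s t
  haveI : Sheaf.IsLocallySurjective π := (Sheaf.isLocallySurjective_iff_epi π).mpr inferInstance
  obtain ⟨W, b, hbe, hbs⟩ := hF.atlas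
  have sqW := IsPullback.of_hasPullback π b
  refine locP_of_target_cover Q hU hF π W b hbe hbs _ _ sqW ?_
  have hW : IsAlgSpace ((yon S).obj W) := IsAlgSpace.yon_obj W
  have hUW : IsAlgSpace (pullback π b) :=
    isAlgSpace_of_isPullback hF.diag hU hW π b _ _ sqW
  obtain ⟨κ, W', p, hp, hs', hlift⟩ := Groth.Agent.Helper2.EpiPullback.exists_family_lift π b
  choose l hl using hlift
  have hcover : IsFppfCover (fun k => (yon S).obj (W' k)) (fun k => (yon S).map (p k)) := by
    refine ⟨fun k => ⟨?_, ?_⟩, fun x => ?_⟩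
    · exact locP_of_repWith @Flat (IsAlgSpace.yon_obj _).diag _
        ((repWith_yon_map_iff _ _).mpr (hp k).1)
    · exact locP_of_repWith @LocallyOfFinitePresentation (IsAlgSpace.yon_obj _).diag _
        ((repWith_yon_map_iff _ _).mpr (hp k).2)
    · obtain ⟨w, rfl⟩ := (Points.schemeHomeo W).surjective x
      obtain ⟨k, w', hw'⟩ := hs' w
      refine ⟨k, Points.schemeHomeo (W' k) w', ?_⟩
      have := Points.map_yon_map_apply (p k) w'
      rw [hw'] at this
      exact this
  have hfpqc := isFpqcCover_of_isFppfCover hW _ (fun k => IsAlgSpace.yon_obj (W' k)) _ hcover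
  have hloc := isLocalOnBase_fpqc_locP (S := S) Q
  have hXi : ∀ k, IsAlgSpace (pullback (pullback.snd π b) ((yon S).map (p k))) := fun k =>
    isAlgSpace_of_isPullback hW.diag hUW (IsAlgSpace.yon_obj (W' k)) _ _ _ _
      (IsPullback.of_hasPullback _ _)
  refine (hloc (fun k => (yon S).obj (W' k)) (fun k => (yon S).map (p k)) hW
    (fun k => IsAlgSpace.yon_obj (W' k)) hfpqc (pullback.snd π b) hUW
    (fun k => pullback (pullback.snd π b) ((yon S).map (p k)))
    (fun k => pullback.snd _ _) (fun k => pullback.fst _ _) hXi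
    (fun k => IsPullback.of_hasPullback _ _)).mpr (fun k => ?_)
  have sqk := IsPullback.of_hasPullback (pullback.snd π b) ((yon S).map (p k))
  have hK := isPullback_quot s t h
  have big : IsPullback (pullback.fst (pullback.snd π b) ((yon S).map (p k)) ≫ pullback.fst π b)
      (pullback.snd (pullback.snd π b) ((yon S).map (p k))) π ((yon S).map (p k) ≫ b) :=
    sqk.paste_horiz sqW
  rw [← hl k] at big
  let m : pullback (pullback.snd π b) ((yon S).map (p k)) ⟶ R :=
    hK.lift (pullback.fst (pullback.snd π b) ((yon S).map (p k)) ≫ pullback.fst π b)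
      (pullback.snd (pullback.snd π b) ((yon S).map (p k)) ≫ l k) (by
      have := big.w
      simp only [Category.assoc] at this ⊢
      exact this)
  have hm1 : m ≫ t = pullback.fst (pullback.snd π b) ((yon S).map (p k)) ≫ pullback.fst π b :=
    hK.lift_fst _ _ _
  have hm2 : m ≫ s = pullback.snd (pullback.snd π b) ((yon S).map (p k)) ≫ l k :=
    hK.lift_snd _ _ _
  rw [← hm1] at big
  have sqm : IsPullback m (pullback.snd (pullback.snd π b) ((yon S).map (p k))) s (l k) :=
    IsPullback.of_right big hm2 hK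
  exact locP_of_isPullback Q hR hU (IsAlgSpace.yon_obj (W' k)) (hXi k) s (l k) m _ sqm hs


section Groupoid

variable {B : Sp S} (G : GroupoidSp B)

/-- The arrows of a groupoid define a pre-equivalence relation on its objects. -/
theorem isPreEqvRelSp_groupoid : IsPreEqvRelSp G.s G.t := by
  intro T
  refine ⟨fun a => ⟨a ≫ G.e, ?_, ?_⟩, ?_, ?_⟩
  · rw [Category.assoc, G.e_t, Category.comp_id]
  · rw [Category.assoc, G.e_s, Category.comp_id]
  · rintro a b ⟨r, rfl, rfl⟩
    exact ⟨r ≫ G.i, by rw [Category.assoc, G.i_t], by rw [Category.assoc, G.i_s]⟩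
  · rintro a b c ⟨r₁, rfl, rfl⟩ ⟨r₂, h₂, rfl⟩
    exact ⟨pullback.lift r₁ r₂ h₂.symm ≫ G.c, G.comp_t r₁ r₂ h₂.symm, G.comp_s r₁ r₂ h₂.symm⟩

theorem mono_quot_restriction {G' : GroupoidSp B} (φ : GroupoidSp.Hom G' G) (hφ : φ.IsRestriction)
    (ψ : G'.quot ⟶ G.quot) (hψ : G'.quotπ ≫ ψ = φ.fU ≫ G.quotπ) : Mono ψ := by
  refine mono_restrict' G.s G.t (isPreEqvRelSp_groupoid G) φ.fU G'.s G'.t ?_ ψ hψ
  intro W a' b' r0 hr1 hr2
  have hab : a' ≫ G'.pU = b' ≫ G'.pU := by
    rw [← φ.fU_over, ← Category.assoc, ← Category.assoc, ← hr1, ← hr2, Category.assoc,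
      Category.assoc, G.t_over, G.s_over]
  have hcond : r0 ≫ G.j = pullback.lift a' b' hab ≫ φ.prodMap := by
    apply pullback.hom_ext
    · rw [Category.assoc, G.j_fst, Category.assoc]
      unfold GroupoidSp.Hom.prodMap
      rw [pullback.lift_fst, pullback.lift_fst_assoc, hr1]
    · rw [Category.assoc, G.j_snd, Category.assoc]
      unfold GroupoidSp.Hom.prodMap
      rw [pullback.lift_snd, pullback.lift_snd_assoc, hr2]
  let r' : (yon S).obj W ⟶ G'.R := hφ.lift r0 (pullback.lift a' b' hab) hcond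
  have hr' : r' ≫ G'.j = pullback.lift a' b' hab := hφ.lift_snd _ _ _
  refine ⟨r', ?_, ?_⟩
  · have := congrArg (· ≫ pullback.fst _ _) hr'
    simpa only [Category.assoc, G'.j_fst, pullback.lift_fst] using this
  · have := congrArg (· ≫ pullback.snd _ _) hr'
    simpa only [Category.assoc, G'.j_snd, pullback.lift_snd] using this

theorem isIso_quot_restriction {G' : GroupoidSp B} (φ : GroupoidSp.Hom G' G)
    (hφ : φ.IsRestriction) (ψ : G'.quot ⟶ G.quot) (hψ : G'.quotπ ≫ ψ = φ.fU ≫ G.quotπ)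
    [Epi (pullback.snd φ.fU G.t ≫ G.s)] : IsIso ψ := by
  haveI := mono_quot_restriction G φ hφ ψ hψ
  haveI : Epi G.quotπ := by unfold GroupoidSp.quotπ quotSpπ; exact coequalizer.π_epi
  have hcond : G.s ≫ G.quotπ = G.t ≫ G.quotπ := quotSp_condition G.s G.t
  have key : (pullback.snd φ.fU G.t ≫ G.s) ≫ G.quotπ =
      (pullback.fst φ.fU G.t ≫ G'.quotπ) ≫ ψ := by
    rw [Category.assoc, hcond, ← Category.assoc, ← pullback.condition, Category.assoc,
      Category.assoc, hψ]
  haveI : Epi ((pullback.fst φ.fU G.t ≫ G'.quotπ) ≫ ψ) := by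
    rw [← key]; infer_instance
  haveI : Epi ψ := epi_of_epi (pullback.fst φ.fU G.t ≫ G'.quotπ) ψ
  exact isIso_of_mono_of_epi ψ

end Groupoid

end Groth.Agent.Helper2.QuotEffSp
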