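import Mathlib
import Groth.Prelude.Def_AlgSpGpd
import Groth.Prelude.Def_AlgSp4
import Groth.Agent.Lib.Helper2.AlgSp.QuotEffSp
import Groth.Agent.Lib.Helper2.AlgSp.PreEqv
import Groth.Agent.Lib.Helper2.AlgSp.OpenSub
import Groth.Agent.Lib.Helper2.AlgSp.FormalUnr

/-!
# Open subsheaves of quotient sheaves cut out by invariant opens (helper2)
-/

set_option autoImplicit false
open CategoryTheory CategoryTheory.Limits AlgebraicGeometry Opposite AlgSp
open Groth.Agent.Helper2.AlgSpBasic

namespace Groth.Agent.Helper2.QuotOpen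
universe u
variable {S : Scheme.{u}}

/-- Local surjectivity from local lifts along flat lfp jointly surjective families. -/
theorem isLocallySurjective_of_family_lift {G H : Sp S} (b : H ⟶ G)
    (h : ∀ (T : Over S) (g : (yon S).obj T ⟶ G),
      ∃ (κ : Type u) (W : κ → Over S) (p : ∀ k, W k ⟶ T),
        (∀ k, (@Flat ⊓ @LocallyOfFinitePresentation : MorphismProperty Scheme.{u}) (p k).left) ∧
        (∀ x : T.left, ∃ k, x ∈ Set.range (p k).left) ∧
        ∀ k, ∃ l : (yon S).obj (W k) ⟶ H, l ≫ b = (yon S).map (p k) ≫ g) :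
    Sheaf.IsLocallySurjective b := by
  constructor
  intro T x
  obtain ⟨κ, W, p, hp, hs, hl⟩ := h T ((J S).uliftYonedaEquiv.{u+1}.symm x)
  refine (J S).superset_covering ((Sieve.generate_le_iff _ _).mpr ?_)
    (Groth.Agent.Helper2.AlgSpFormal.ofArrows_mem_J W p hp hs)
  intro T' f hf
  obtain ⟨k⟩ := hf
  obtain ⟨l, hl⟩ := hl k
  refine ⟨(J S).uliftYonedaEquiv.{u+1} l, ?_⟩
  have := congrArg (J S).uliftYonedaEquiv.{u+1} hl
  rw [GrothendieckTopology.uliftYonedaEquiv_comp,
    ← GrothendieckTopology.uliftYonedaEquiv_naturality, Equiv.apply_symm_apply] at this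
  exact this

/-- The point of a sheaf given by a morphism from the spectrum of a field. -/
theorem ofPt_spec_field {F : Sp S} {Ω : Type u} [Field Ω] (w : Spec (CommRingCat.of Ω) ⟶ S)
    (m : (yon S).obj (Over.mk w) ⟶ F) (z : ↥(Over.mk w).left) :
    Points.ofPt m z = Points.mk ⟨Ω, w, (J S).uliftYonedaEquiv m⟩ := by
  have hz : z = IsLocalRing.closedPoint Ω :=
    Subsingleton.elim (α := ↥(Spec (CommRingCat.of Ω))) _ _
  rw [hz]
  have := Points.ofScheme_apply_eq_mk (Over.mk w) (𝟙 _) (Category.id_comp _)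
  rw [Points.ofPt_eq_map_ofScheme]
  have h2 : (𝟙 (Spec (CommRingCat.of Ω)) : _ ⟶ _) (IsLocalRing.closedPoint Ω) =
      IsLocalRing.closedPoint Ω := rfl
  rw [h2] at this
  rw [this, Points.map_mk, Points.mk_eq_mk_iff]
  refine ⟨Ω, inferInstance, w, 𝟙 _, 𝟙 _, ?_⟩
  rfl


section PointsQuot
variable {R U : Sp S} (s t : R ⟶ U)

open Groth.Agent.Helper2.PreEqv Groth.Agent.Helper2.QuotEffSp in
/-- Two points of `U` with the same image in `U/R` are related by a point of `R`. -/
theorem exists_rel_of_map_π_eq (h : IsPreEqvRelSp s t) (x y : Points U)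
    (hxy : Points.map (coequalizer.π s t) x = Points.map (coequalizer.π s t) y) :
    ∃ r : Points R, Points.map t r = x ∧ Points.map s r = y := by
  induction x using Points.ind with | h p => ?_
  induction y using Points.ind with | h q => ?_
  rw [Points.map_mk, Points.map_mk, Points.mk_eq_mk_iff] at hxy
  obtain ⟨Ω, _, w, a, b, hab⟩ := hxy
  let α : (yon S).obj (Over.mk w) ⟶ U := (J S).uliftYonedaEquiv.{u+1}.symm (U.obj.map a.op p.val)
  let β : (yon S).obj (Over.mk w) ⟶ U := (J S).uliftYonedaEquiv.{u+1}.symm (U.obj.map b.op q.val)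
  have hαβ : α ≫ coequalizer.π s t = β ≫ coequalizer.π s t := by
    apply (J S).uliftYonedaEquiv.{u+1}.injective
    rw [GrothendieckTopology.uliftYonedaEquiv_comp, GrothendieckTopology.uliftYonedaEquiv_comp,
      Equiv.apply_symm_apply, Equiv.apply_symm_apply]
    change (coequalizer.π s t).hom.app _ (U.obj.map a.op p.val) =
      (coequalizer.π s t).hom.app _ (U.obj.map b.op q.val)
    rw [NatTrans.naturality_apply, NatTrans.naturality_apply]
    exact hab
  obtain ⟨κ, W, pk, hp, hs, hrel⟩ := exists_local_rel s t h α β hαβ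
  obtain ⟨k, y0, _⟩ := hs (IsLocalRing.closedPoint Ω)
  obtain ⟨r, hr1, hr2⟩ := hrel k
  refine ⟨Points.ofPt r y0, ?_, ?_⟩
  · rw [Points.map_ofPt, hr1, ofPt_yon_map_comp, ofPt_spec_field, Equiv.apply_symm_apply]
    exact mk_restrict p w a
  · rw [Points.map_ofPt, hr2, ofPt_yon_map_comp, ofPt_spec_field, Equiv.apply_symm_apply]
    exact mk_restrict q w b

/-- For an invariant set of points `A`, the preimage of its image in the quotient is `A`. -/
theorem preimage_image_π (h : IsPreEqvRelSp s t) (A : Set (Points U))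
    (hA : ∀ r : Points R, Points.map t r ∈ A ↔ Points.map s r ∈ A) :
    Points.map (coequalizer.π s t) ⁻¹' (Points.map (coequalizer.π s t) '' A) = A := by
  apply Set.Subset.antisymm
  · rintro x ⟨y, hy, hxy⟩
    obtain ⟨r, rfl, rfl⟩ := exists_rel_of_map_π_eq s t h y x hxy
    exact (hA r).mp hy
  · exact Set.subset_preimage_image _ _

end PointsQuot


section OpenImage
variable {R U : Sp S} (s t : R ⟶ U)

instance : Sheaf.IsLocallySurjective (coequalizer.π s t) :=
  (Sheaf.isLocallySurjective_iff_epi _).mpr (coequalizer.π_epi (f := s) (g := t))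

open Groth.Agent.Helper2.EpiPullback in
/-- The image in the quotient of an invariant open set of points is open. -/
theorem isOpen_image_π (h : IsPreEqvRelSp s t) (A : Set (Points U)) (hAo : IsOpen A)
    (hA : ∀ r : Points R, Points.map t r ∈ A ↔ Points.map s r ∈ A) :
    IsOpen (Points.map (coequalizer.π s t) '' A) := by
  rw [Points.isOpen_iff]
  intro T ξ
  obtain ⟨κ, W, p, hp, hs, hl⟩ := exists_family_lift (coequalizer.π s t) ξ
  choose a ha using hl
  have key : Points.ofPt ξ ⁻¹' (Points.map (coequalizer.π s t) '' A) =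
      ⋃ k, (p k).left '' (Points.ofPt (a k) ⁻¹' A) := by
    ext x
    constructor
    · intro hx
      obtain ⟨k, y, rfl⟩ := hs x
      refine Set.mem_iUnion.mpr ⟨k, y, ?_, rfl⟩
      have e : Points.ofPt ξ ((p k).left y) =
          Points.map (coequalizer.π s t) (Points.ofPt (a k) y) := by
        rw [← ofPt_yon_map_comp, ← ha k, Points.map_ofPt]
      have h1 : Points.ofPt (a k) y ∈
          Points.map (coequalizer.π s t) ⁻¹' (Points.map (coequalizer.π s t) '' A) := by
        change Points.map (coequalizer.π s t) (Points.ofPt (a k) y) ∈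
          Points.map (coequalizer.π s t) '' A
        rw [← e]
        exact hx
      rwa [preimage_image_π s t h A hA] at h1
    · intro hx
      obtain ⟨k, y, hy, rfl⟩ := Set.mem_iUnion.mp hx
      change Points.ofPt ξ ((p k).left y) ∈ Points.map (coequalizer.π s t) '' A
      rw [← ofPt_yon_map_comp, ← ha k, ← Points.map_ofPt]
      exact ⟨_, hy, rfl⟩
  rw [key]
  refine isOpen_iUnion fun k => ?_
  have : Flat (p k).left := (hp k).1
  have : LocallyOfFinitePresentation (p k).left := (hp k).2
  exact (p k).left.isOpenMap _ (hAo.preimage (Points.continuous_ofPt (a k)))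

end OpenImage


section Main
variable {R U R' U' : Sp S} (s t : R ⟶ U) (g : U' ⟶ U) (s' t' : R' ⟶ U')

open Groth.Agent.Helper2.EpiPullback Groth.Agent.Helper2.QuotEffSp in
/-- The map of quotient sheaves induced by restricting a pre-equivalence relation to `U'` is an
open immersion when the saturation of `U'` is an invariant open `A` onto which the arrows from
`U'` surject locally. -/
theorem repWith_isOpenImmersion_quot_restrict (hpre : IsPreEqvRelSp s t)
    (hres : ∀ {W : Over S} (a' b' : (yon S).obj W ⟶ U') (r0 : (yon S).obj W ⟶ R),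
      r0 ≫ t = a' ≫ g → r0 ≫ s = b' ≫ g →
        ∃ r' : (yon S).obj W ⟶ R', r' ≫ t' = a' ∧ r' ≫ s' = b')
    (φ : coequalizer s' t' ⟶ coequalizer s t)
    (hφ : coequalizer.π s' t' ≫ φ = g ≫ coequalizer.π s t)
    (A : Set (Points U)) (hAo : IsOpen A)
    (hA : ∀ r : Points R, Points.map t r ∈ A ↔ Points.map s r ∈ A)
    (h1 : ∀ p : Points U', Points.map g p ∈ A)
    (h2 : ∀ (T : Over S) (a : (yon S).obj T ⟶ U),
      (∀ x : Points ((yon S).obj T), Points.map a x ∈ A) →
      ∃ (κ : Type u) (W : κ → Over S) (p : ∀ k, W k ⟶ T),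
        (∀ k, (@Flat ⊓ @LocallyOfFinitePresentation : MorphismProperty Scheme.{u}) (p k).left) ∧
        (∀ x : T.left, ∃ k, x ∈ Set.range (p k).left) ∧
        ∀ k, ∃ (b : (yon S).obj (W k) ⟶ U') (r : (yon S).obj (W k) ⟶ R),
          r ≫ t = b ≫ g ∧ r ≫ s = (yon S).map (p k) ≫ a) :
    RepWith @IsOpenImmersion φ := by
  have hV : IsOpen (Points.map (coequalizer.π s t) '' A) := isOpen_image_π s t hpre A hAo hA
  haveI : Mono φ := mono_restrict' s t hpre g s' t' hres φ hφ
  have hφV : ∀ q : Points (coequalizer s' t'),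
      Points.map φ q ∈ Points.map (coequalizer.π s t) '' A := by
    intro q
    obtain ⟨p0, rfl⟩ := isSurjectiveMor_of_isLocallySurjective (coequalizer.π s' t') q
    rw [← Points.map_comp, hφ, Points.map_comp]
    exact ⟨_, h1 p0, rfl⟩
  have hφ₀ : openSubLift _ φ hφV ≫ openSubι _ (Points.map (coequalizer.π s t) '' A) = φ :=
    openSubLift_ι _ φ hφV
  haveI : Mono (openSubLift _ φ hφV) := by
    haveI : Mono (openSubLift _ φ hφV ≫ openSubι _ (Points.map (coequalizer.π s t) '' A)) := by
      rw [hφ₀]; infer_instance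
    exact mono_of_mono (openSubLift _ φ hφV) (openSubι _ _)
  haveI : Sheaf.IsLocallySurjective (openSubLift _ φ hφV) := by
    apply isLocallySurjective_of_family_lift
    intro T ξ
    obtain ⟨κ, W, p, hp, hs, hl⟩ := exists_family_lift (coequalizer.π s t)
      (ξ ≫ openSubι _ (Points.map (coequalizer.π s t) '' A))
    choose a ha using hl
    have hak : ∀ k (x : Points ((yon S).obj (W k))), Points.map (a k) x ∈ A := by
      intro k x
      have h3 : Points.map (a k) x ∈ Points.map (coequalizer.π s t) ⁻¹'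
          (Points.map (coequalizer.π s t) '' A) := by
        change Points.map (coequalizer.π s t) (Points.map (a k) x) ∈
          Points.map (coequalizer.π s t) '' A
        rw [← Points.map_comp, ha k, Points.map_comp, Points.map_comp]
        exact points_map_openSubι_mem _ _ _
      rwa [preimage_image_π s t hpre A hA] at h3
    choose κ' W' p' hp' hs' hl' using fun k => h2 (W k) (a k) (hak k)
    choose b r hr1 hr2 using hl'
    refine ⟨Σ k, κ' k, fun i => W' i.1 i.2, fun i => p' i.1 i.2 ≫ p i.1, ?_, ?_, ?_⟩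
    · intro i
      rw [Over.comp_left]
      exact MorphismProperty.comp_mem _ _ _ (hp' i.1 i.2) (hp i.1)
    · intro x
      obtain ⟨k, y, rfl⟩ := hs x
      obtain ⟨j, z, rfl⟩ := hs' k y
      exact ⟨⟨k, j⟩, z, rfl⟩
    · intro i
      refine ⟨b i.1 i.2 ≫ coequalizer.π s' t', ?_⟩
      rw [← cancel_mono (openSubι _ (Points.map (coequalizer.π s t) '' A))]
      calc ((b i.1 i.2 ≫ coequalizer.π s' t') ≫ openSubLift _ φ hφV) ≫ openSubι _ _
          = b i.1 i.2 ≫ coequalizer.π s' t' ≫ φ := by
            simp only [Category.assoc, hφ₀]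
        _ = (b i.1 i.2 ≫ g) ≫ coequalizer.π s t := by rw [hφ, Category.assoc]
        _ = r i.1 i.2 ≫ t ≫ coequalizer.π s t := by rw [← hr1, Category.assoc]
        _ = (r i.1 i.2 ≫ s) ≫ coequalizer.π s t := by
            rw [← coequalizer.condition, Category.assoc]
        _ = (yon S).map (p' i.1 i.2) ≫ a i.1 ≫ coequalizer.π s t := by
            rw [hr2, Category.assoc]
        _ = ((yon S).map (p' i.1 i.2 ≫ p i.1) ≫ ξ) ≫ openSubι _ _ := by
            rw [ha, Functor.map_comp]
            simp only [Category.assoc]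
  haveI : Epi (openSubLift _ φ hφV) :=
    (Sheaf.isLocallySurjective_iff_epi _).mp inferInstance
  haveI : IsIso (openSubLift _ φ hφV) := isIso_of_mono_of_epi _
  rw [← hφ₀]
  exact (MorphismProperty.cancel_left_of_respectsIso (RepWith @IsOpenImmersion) _ _).mpr
    (repWith_isOpenImmersion_openSubι _ hV)

end Main

end Groth.Agent.Helper2.QuotOpen
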