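import Mathlib
import Groth.Prelude.Def_AlgSp4
import Groth.Agent.Lib.Helper2.AlgSp.Thick
import Groth.Agent.Lib.Helper2.AlgSp.FormalLift
import Groth.Agent.Lib.Helper2.AlgSp.QuotOpen
import Groth.Agent.Lib.Helper2.AlgSp.OpenSub
import Groth.Agent.Lib.Helper2.AlgSp.Points

/-!
# A sheaf covered by representable open subfunctors is representable (helper2)
-/

set_option autoImplicit false
universe u
open CategoryTheory CategoryTheory.Limits AlgebraicGeometry Opposite AlgSp
open Groth.Agent.Helper2.AlgSpBasic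

namespace Groth.Agent.Helper2.ZarRep

variable {S : Scheme.{u}} {F : Sp S} {ι : Type u} {U : ι → Over S}
  (a : ∀ i, (yon S).obj (U i) ⟶ F) (ha : ∀ i, RepWith @IsOpenImmersion (a i))

include ha in
theorem mono_a (i : ι) : Mono (a i) := mono_of_repWith_isOpenImmersion (a i) (ha i)

theorem fst'_self_eq_snd (i : ι) : (ha i).rep.fst' (a i) = (ha i).rep.snd (a i) := by
  have := mono_a a ha i
  apply (yon S).map_injective
  rw [← cancel_mono (a i), ((ha i).rep.isPullback' (a i)).w]

theorem isIso_fst'_self (i : ι) : IsIso ((ha i).rep.fst' (a i)) := by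
  have := mono_a a ha i
  have := ((ha i).rep.isPullback' (a i)).isIso_fst_of_mono
  exact (Functor.FullyFaithful.ofFullyFaithful (yon S)).isIso_of_isIso_map _

set_option backward.isDefEq.respectTransparency false in
open Functor.relativelyRepresentable in
/-- The gluing data in `Over S`. -/
noncomputable def glueDataOver : CategoryTheory.GlueData (Over S) where
  J := ι
  U := U
  V := fun (i, j) ↦ (ha i).rep.pullback (a j)
  f i j := (ha i).rep.fst' (a j)
  f_mono i j := by
    have h : IsOpenImmersion ((ha i).rep.fst' (a j)).left :=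
      (ha j).property _ _ _ ((ha i).rep.isPullback' (a j)).flip
    have : Mono ((Over.forget S).map ((ha i).rep.fst' (a j))) :=
      inferInstanceAs (Mono ((ha i).rep.fst' (a j)).left)
    exact (Over.forget S).mono_of_mono_map this
  f_id i := isIso_fst'_self a ha i
  t i j := (ha i).rep.symmetry (ha j).rep
  t_id i := by
    apply (ha i).rep.hom_ext' <;> simp [fst'_self_eq_snd a ha i]
  t' i j k := lift₃ _ _ _ (pullback₃.p₂ _ _ _) (pullback₃.p₃ _ _ _) (pullback₃.p₁ _ _ _)
    ((pullback₃.map_p₂_comp _ _ _).trans (pullback₃.map_p₃_comp _ _ _).symm)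
    ((pullback₃.map_p₂_comp _ _ _).trans (pullback₃.map_p₁_comp _ _ _).symm)
  t_fac i j k := (ha j).rep.hom_ext'
    (by
      simp only [Category.assoc, pullback₃.snd_fst'_eq_p₁, symmetry_fst, pullback₃.fst_snd_eq_p₂]
      exact lift₃_p₁ _ _ _ _ _ _ _ _)
    (by
      simp only [Category.assoc, pullback₃.snd_snd_eq_p₃, symmetry_snd, pullback₃.fst_fst'_eq_p₁]
      exact lift₃_p₃ _ _ _ _ _ _ _ _)
  cocycle i j k := pullback₃.hom_ext
    (by
      rw [Category.id_comp, Category.assoc, Category.assoc, lift₃_p₁, lift₃_p₂, lift₃_p₃])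
    (by
      rw [Category.id_comp, Category.assoc, Category.assoc, lift₃_p₂, lift₃_p₃, lift₃_p₁])
    (by
      rw [Category.id_comp, Category.assoc, Category.assoc, lift₃_p₃, lift₃_p₁, lift₃_p₂])

/-- The gluing data of schemes. -/
noncomputable def glueData : Scheme.GlueData where
  toGlueData := (glueDataOver a ha).mapGlueData (Over.forget S)
  f_open i j := (ha j).property _ _ _ ((ha i).rep.isPullback' (a j)).flip

/-- The overlaps. -/
noncomputable abbrev Vo (i j : ι) : Over S := (ha i).rep.pullback (a j)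

/-- The first projection of the overlap. -/
noncomputable abbrev fo (i j : ι) : Vo a ha i j ⟶ U i := (ha i).rep.fst' (a j)

/-- The second projection of the overlap. -/
noncomputable abbrev so (i j : ι) : Vo a ha i j ⟶ U j := (ha i).rep.snd (a j)

theorem fo_comp_a (i j : ι) : (yon S).map (fo a ha i j) ≫ a i = (yon S).map (so a ha i j) ≫ a j :=
  ((ha i).rep.isPullback' (a j)).w

theorem fo_w (i j : ι) : (fo a ha i j).left ≫ (U i).hom = (Vo a ha i j).hom := Over.w _

theorem so_w (i j : ι) : (so a ha i j).left ≫ (U j).hom = (Vo a ha i j).hom := Over.w _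

open Functor.relativelyRepresentable in
theorem t_f_eq_so (i j : ι) :
    (glueDataOver a ha).t i j ≫ (glueDataOver a ha).f j i = so a ha i j :=
  symmetry_fst _ _

/-- The structure morphism of the glued scheme. -/
noncomputable def gluedHom : (glueData a ha).glued ⟶ S :=
  Multicoequalizer.desc (glueData a ha).diagram S (fun i => (U i).hom) (by
    rintro ⟨i, j⟩
    have h2 : ((glueDataOver a ha).t i j ≫ (glueDataOver a ha).f j i).left ≫ (U j).hom =
        (Vo a ha i j).hom := by
      rw [t_f_eq_so]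
      exact so_w a ha i j
    exact (fo_w a ha i j).trans h2.symm)

/-- The glued scheme over `S`. -/
noncomputable def gluedOver : Over S := Over.mk (gluedHom a ha)

/-- The inclusions into the glued scheme. -/
noncomputable def κ (i : ι) : U i ⟶ gluedOver a ha :=
  Over.homMk ((glueData a ha).ι i) (Multicoequalizer.π_desc _ _ _ _ _)

theorem κ_left (i : ι) : (κ a ha i).left = (glueData a ha).ι i := rfl

instance (i : ι) : IsOpenImmersion (κ a ha i).left :=
  inferInstanceAs (IsOpenImmersion ((glueData a ha).ι i))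

theorem κ_jointly_surjective (x : (gluedOver a ha).left) :
    ∃ i, x ∈ Set.range (κ a ha i).left := by
  obtain ⟨i, y, hy⟩ := (glueData a ha).ι_jointly_surjective x
  exact ⟨i, y, hy⟩

theorem glue_condition_over (i j : ι) : so a ha i j ≫ κ a ha j = fo a ha i j ≫ κ a ha i := by
  have h1 : ((glueDataOver a ha).t i j ≫ (glueDataOver a ha).f j i) ≫ κ a ha j =
      (glueDataOver a ha).f i j ≫ κ a ha i :=
    Over.OverMorphism.ext ((Category.assoc _ _ _).trans ((glueData a ha).glue_condition i j))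
  rw [t_f_eq_so] at h1
  exact h1

open Functor.relativelyRepresentable in
theorem κ_comp_eq {Q : Over S} (i j : ι) (qi : Q ⟶ U i) (qj : Q ⟶ U j)
    (h : (yon S).map qi ≫ a i = (yon S).map qj ≫ a j) : qi ≫ κ a ha i = qj ≫ κ a ha j := by
  obtain ⟨l, h1, h2⟩ : ∃ l : Q ⟶ Vo a ha i j, l ≫ fo a ha i j = qi ∧ l ≫ so a ha i j = qj :=
    ⟨(ha i).rep.lift' qi qj h, lift'_fst _ _ _ _, lift'_snd _ _ _ _⟩
  rw [← h1, ← h2, Category.assoc, Category.assoc, glue_condition_over]

theorem a_comp_eq {Q : Over S} (i j : ι) (qi : Q ⟶ U i) (qj : Q ⟶ U j)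
    (h : qi ≫ κ a ha i = qj ≫ κ a ha j) : (yon S).map qi ≫ a i = (yon S).map qj ≫ a j := by
  have h' : qi.left ≫ (glueData a ha).ι i = qj.left ≫ (glueData a ha).ι j :=
    congrArg (fun m : Q ⟶ gluedOver a ha => m.left) h
  obtain ⟨m₀, hm1, hm2⟩ := PullbackCone.IsLimit.lift' ((glueData a ha).vPullbackConeIsLimit i j)
    qi.left qj.left h'
  obtain ⟨m₁, hm1', hm2'⟩ : ∃ m₁ : Q.left ⟶ (Vo a ha i j).left,
      m₁ ≫ (fo a ha i j).left = qi.left ∧ m₁ ≫ (so a ha i j).left = qj.left := by
    refine ⟨m₀, hm1, ?_⟩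
    have : ((glueDataOver a ha).t i j ≫ (glueDataOver a ha).f j i).left = (so a ha i j).left := by
      rw [t_f_eq_so]
    rw [← this]
    exact hm2
  let m : Q ⟶ Vo a ha i j := Over.homMk m₁
    ((congrArg (fun z => m₁ ≫ z) (fo_w a ha i j).symm).trans ((Category.assoc _ _ _).symm.trans
      ((congrArg (fun z => z ≫ (U i).hom) hm1').trans (Over.w qi))))
  have e1 : m ≫ fo a ha i j = qi := Over.OverMorphism.ext hm1'
  have e2 : m ≫ so a ha i j = qj := Over.OverMorphism.ext hm2'
  rw [← e1, ← e2, Functor.map_comp, Functor.map_comp, Category.assoc, Category.assoc, fo_comp_a]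

/-- The comparison map from the glued scheme. -/
theorem exists_fromGlued :
    ∃ b : (yon S).obj (gluedOver a ha) ⟶ F, ∀ i, (yon S).map (κ a ha i) ≫ b = a i := by
  refine Groth.Agent.Helper2.AlgSpFormal.exists_glue_of_family U (κ a ha) (fun i => ?_)
    (κ_jointly_surjective a ha) a (fun i j Q qi qj h => a_comp_eq a ha i j qi qj h)
  exact ⟨inferInstance, inferInstance⟩

variable {a ha}

theorem mono_fromGlued (b : (yon S).obj (gluedOver a ha) ⟶ F)
    (hb : ∀ i, (yon S).map (κ a ha i) ≫ b = a i) : Mono b := by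
  constructor
  intro A α β hαβ
  apply hom_ext_yon
  intro Q c
  obtain ⟨α₀, hα₀⟩ := (yon S).map_surjective (c ≫ α)
  obtain ⟨β₀, hβ₀⟩ := (yon S).map_surjective (c ≫ β)
  rw [← hα₀, ← hβ₀]
  have hc : (yon S).map α₀ ≫ b = (yon S).map β₀ ≫ b := by
    rw [hα₀, hβ₀, Category.assoc, Category.assoc, hαβ]
  have hloc : ∀ z : Q.left, ∃ W : Q.left.Opens, z ∈ W ∧
      opensOverι W ≫ α₀ = opensOverι W ≫ β₀ := by
    intro z
    obtain ⟨i, hi⟩ := κ_jointly_surjective a ha (α₀.left z)
    obtain ⟨j, hj⟩ := κ_jointly_surjective a ha (β₀.left z)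
    let W : Q.left.Opens := α₀.left ⁻¹ᵁ (κ a ha i).left.opensRange ⊓
      β₀.left ⁻¹ᵁ (κ a ha j).left.opensRange
    have hzW : z ∈ W := ⟨hi, hj⟩
    have hr1 : Set.range (W.ι ≫ α₀.left) ⊆ Set.range (κ a ha i).left := by
      rintro _ ⟨w, rfl⟩
      exact w.2.1
    have hr2 : Set.range (W.ι ≫ β₀.left) ⊆ Set.range (κ a ha j).left := by
      rintro _ ⟨w, rfl⟩
      exact w.2.2
    obtain ⟨α', hα'⟩ : ∃ α' : (W : Scheme.{u}) ⟶ (U i).left,
        α' ≫ (κ a ha i).left = W.ι ≫ α₀.left :=
      ⟨IsOpenImmersion.lift _ _ hr1, IsOpenImmersion.lift_fac _ _ _⟩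
    obtain ⟨β', hβ'⟩ : ∃ β' : (W : Scheme.{u}) ⟶ (U j).left,
        β' ≫ (κ a ha j).left = W.ι ≫ β₀.left :=
      ⟨IsOpenImmersion.lift _ _ hr2, IsOpenImmersion.lift_fac _ _ _⟩
    let α'o : opensOver W ⟶ U i := Over.homMk α' (by
      change α' ≫ (U i).hom = W.ι ≫ Q.hom
      rw [← Over.w (κ a ha i), ← Category.assoc, hα', Category.assoc, Over.w α₀])
    let β'o : opensOver W ⟶ U j := Over.homMk β' (by
      change β' ≫ (U j).hom = W.ι ≫ Q.hom
      rw [← Over.w (κ a ha j), ← Category.assoc, hβ', Category.assoc, Over.w β₀])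
    have e : α'o ≫ κ a ha i = opensOverι W ≫ α₀ := Over.OverMorphism.ext hα'
    have e' : β'o ≫ κ a ha j = opensOverι W ≫ β₀ := Over.OverMorphism.ext hβ'
    have h1 : (yon S).map α'o ≫ a i = (yon S).map β'o ≫ a j := by
      rw [← hb i, ← hb j, ← Category.assoc, ← Category.assoc, ← Functor.map_comp,
        ← Functor.map_comp, e, e', Functor.map_comp, Functor.map_comp, Category.assoc,
        Category.assoc, hc]
    have h2 := κ_comp_eq a ha i j α'o β'o h1
    exact ⟨W, hzW, by rw [← e, ← e', h2]⟩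
  choose W hzW hW using hloc
  exact Groth.Agent.Helper2.AlgSpFormal.hom_ext_of_family (fun z => opensOver (W z))
    (fun z => opensOverι (W z)) (fun z => ⟨inferInstanceAs (Flat (W z).ι),
      inferInstanceAs (LocallyOfFinitePresentation (W z).ι)⟩)
    (fun z => ⟨z, ⟨⟨z, hzW z⟩, rfl⟩⟩) _ _
    (fun z => by rw [← Functor.map_comp, ← Functor.map_comp, hW z])

theorem isLocallySurjective_fromGlued (b : (yon S).obj (gluedOver a ha) ⟶ F)
    (hb : ∀ i, (yon S).map (κ a ha i) ≫ b = a i)
    (hsurj : ∀ (Q : Over S) (ξ : (yon S).obj Q ⟶ F) (z : Q.left),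
      ∃ (i : ι) (Q' : Over S) (o : Q' ⟶ Q) (ξ' : Q' ⟶ U i), IsOpenImmersion o.left ∧
        z ∈ Set.range o.left ∧ (yon S).map o ≫ ξ = (yon S).map ξ' ≫ a i) :
    Sheaf.IsLocallySurjective b := by
  apply Groth.Agent.Helper2.QuotOpen.isLocallySurjective_of_family_lift
  intro T g
  choose i Q' o ξ' ho hzW hξ' using hsurj T g
  refine ⟨T.left, Q', o, fun z => ?_, fun z => ⟨z, hzW z⟩, fun z => ?_⟩
  · have := ho z
    exact ⟨inferInstance, inferInstance⟩
  refine ⟨(yon S).map (ξ' z ≫ κ a ha (i z)), ?_⟩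
  rw [Functor.map_comp, Category.assoc, hb, hξ']

variable (a ha)

include ha in
/-- **Zariski gluing of representability**: a sheaf covered by representable open subfunctors is
representable. -/
theorem exists_iso_yon_of_open_cover
    (hsurj : ∀ (Q : Over S) (ξ : (yon S).obj Q ⟶ F) (z : Q.left),
      ∃ (i : ι) (Q' : Over S) (o : Q' ⟶ Q) (ξ' : Q' ⟶ U i), IsOpenImmersion o.left ∧
        z ∈ Set.range o.left ∧ (yon S).map o ≫ ξ = (yon S).map ξ' ≫ a i) :
    ∃ W : Over S, Nonempty ((yon S).obj W ≅ F) := by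
  obtain ⟨b, hb⟩ := exists_fromGlued a ha
  have := mono_fromGlued b hb
  have := isLocallySurjective_fromGlued b hb hsurj
  have : Epi b := inferInstance
  have : IsIso b := isIso_of_mono_of_epi b
  exact ⟨gluedOver a ha, ⟨asIso b⟩⟩

include ha in
/-- Points version: a sheaf covered, on points, by representable open subfunctors is
representable. -/
theorem exists_iso_yon_of_points_cover
    (hcov : ∀ x : Points F, ∃ (i : ι) (u : (U i).left), Points.ofPt (a i) u = x) :
    ∃ W : Over S, Nonempty ((yon S).obj W ≅ F) := by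
  apply exists_iso_yon_of_open_cover a ha
  intro Q ξ z
  obtain ⟨i, u, hu⟩ := hcov (Points.ofPt ξ z)
  have sq := (ha i).rep.isPullback' ξ
  obtain ⟨w, -, hw⟩ := exists_point_of_isPullback_yon (a i) ξ _ _ sq u z hu
  exact ⟨i, _, (ha i).rep.snd ξ, (ha i).rep.fst' ξ, (ha i).property _ _ _ sq, ⟨w, hw⟩, sq.w.symm⟩

end Groth.Agent.Helper2.ZarRep
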