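import Mathlib
import Groth.Prelude.Def_AlgSp4
import Groth.Agent.Lib.Helper2.AlgSp.ZarRep
import Groth.Agent.Lib.Helper2.AlgSp.Thick
import Groth.Agent.Lib.Helper2.AlgSp.Mor2

/-!
# The largest open subspace of an algebraic space which is a scheme (helper2)
-/

set_option autoImplicit false
universe u
open CategoryTheory CategoryTheory.Limits AlgebraicGeometry Opposite AlgSp
open Groth.Agent.Helper2.AlgSpBasic

namespace Groth.Agent.Helper2.LargestSch

variable {S : Scheme.{u}}

/-- The set of points having an open neighbourhood which is a scheme. -/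
def schLocus (X : Sp S) : Set (Points X) :=
  {x | ∃ V : Set (Points X), IsOpen V ∧ x ∈ V ∧ ∃ W : Over S, Nonempty ((yon S).obj W ≅ openSub X V)}

theorem subset_schLocus {X : Sp S} {V : Set (Points X)} (hV : IsOpen V) {W : Over S}
    (e : (yon S).obj W ≅ openSub X V) : V ⊆ schLocus X :=
  fun _ hx => ⟨V, hV, hx, W, ⟨e⟩⟩

theorem isOpen_schLocus (X : Sp S) : IsOpen (schLocus X) := by
  rw [isOpen_iff_forall_mem_open]
  rintro x ⟨V, hV, hxV, W, ⟨e⟩⟩
  exact ⟨V, subset_schLocus hV e, hV, hxV⟩

/-- The scheme locus is a scheme. -/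
theorem exists_iso_yon_schLocus {X : Sp S} (hX : IsAlgSpace X) :
    ∃ W : Over S, Nonempty ((yon S).obj W ≅ openSub X (schLocus X)) := by
  obtain ⟨U, a, hae, has⟩ := hX.atlas
  have key : ∀ u : {u : U.left // Points.ofPt a u ∈ schLocus X}, ∃ (V : Set (Points X))
      (W : Over S), IsOpen V ∧ Points.ofPt a u.1 ∈ V ∧ Nonempty ((yon S).obj W ≅ openSub X V) := by
    rintro ⟨u, V, hV, hu, W, hW⟩
    exact ⟨V, W, hV, hu, hW⟩
  choose V W hVo hmem he using key
  have e : ∀ u, (yon S).obj (W u) ≅ openSub X (V u) := fun u => (he u).some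
  have hsub : ∀ u (p : Points ((yon S).obj (W u))),
      Points.map ((e u).hom ≫ openSubι X (V u)) p ∈ schLocus X := by
    intro u p
    rw [Points.map_comp]
    exact subset_schLocus (hVo u) (e u) (points_map_openSubι_mem X _ _)
  have hinj := injective_points_map_of_mono (openSubι X (schLocus X))
  refine Groth.Agent.Helper2.ZarRep.exists_iso_yon_of_points_cover
    (ι := {u : U.left // Points.ofPt a u ∈ schLocus X}) (U := W)
    (fun u => openSubLift _ ((e u).hom ≫ openSubι X (V u)) (hsub u))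
    (fun u => repWith_lift_of_mono @IsOpenImmersion (openSubι X _) _ _ (openSubLift_ι _ _ _)
      (repWith_comp @IsOpenImmersion (repWith_of_isIso @IsOpenImmersion (e u).hom)
        (repWith_isOpenImmersion_openSubι X (hVo u)))) (fun x => ?_)
  obtain ⟨u, hu⟩ := surjective_ofPt a has (Points.map (openSubι X (schLocus X)) x)
  have huI : Points.ofPt a u ∈ schLocus X := hu ▸ points_map_openSubι_mem X _ x
  have hu' := hmem ⟨u, huI⟩
  rw [← range_points_map_openSubι X (V ⟨u, huI⟩)] at hu'
  obtain ⟨p, hp⟩ := hu'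
  obtain ⟨w, hw⟩ := (Points.schemeHomeo (W ⟨u, huI⟩)).surjective (Points.map (e ⟨u, huI⟩).inv p)
  refine ⟨⟨u, huI⟩, w, hinj ?_⟩
  rw [Points.ofPt_eq_map_ofScheme, ← Points.map_comp, openSubLift_ι]
  have hw' : Points.ofScheme (W ⟨u, huI⟩) w = Points.map (e ⟨u, huI⟩).inv p := hw
  rw [hw', ← Points.map_comp, Iso.inv_hom_id_assoc, hp, hu]

/-- Every open subspace which is a scheme lands in the scheme locus. -/
theorem points_map_mem_schLocus {X X'' : Sp S} (hX : IsAlgSpace X) (hX'' : IsAlgSpace X'')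
    (j'' : X'' ⟶ X) (hj : RepWith @IsOpenImmersion j'') {W : Over S} (e : (yon S).obj W ≅ X'')
    (p : Points X'') : Points.map j'' p ∈ schLocus X := by
  have hiso := isIso_openSubLift_of_range_eq hX'' hX j'' hj _ rfl (fun p => ⟨p, rfl⟩)
  have hVo : IsOpen (Set.range (Points.map j'')) :=
    (isOpenMap_points_of_repWith_isOpenImmersion hX'' hX j'' hj).isOpen_range
  exact subset_schLocus hVo (e ≪≫ asIso (openSubLift (Set.range (Points.map j'')) j''
    (fun p => ⟨p, rfl⟩))) ⟨p, rfl⟩

end Groth.Agent.Helper2.LargestSch
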