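import Mathlib
import Groth.Agent.Lib.Helper2.AlgSp.FinLocFreeQuot2
import Groth.Agent.Lib.Helper2.AlgSp.LargestSch
import Groth.Agent.Lib.Helper2.Grpd.InvOpen4

/-!
# Finite locally free covers and the schematic locus (helper2)
-/

set_option autoImplicit false
set_option linter.style.haveILetI false
open CategoryTheory CategoryTheory.Limits AlgebraicGeometry Opposite AlgSp
open Groth.Agent.Helper2.AlgSpBasic Groth.Agent.Helper2.LargestSch

namespace Groth.Agent.Helper2.FinLocFreeQuot
universe u
variable {S : Scheme.{u}}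

/-- If `a : h_U ⟶ X` is finite locally free and the fibre of `|U| → |X|` through `u` lies in an affine
open of `U`, then the image of `u` lies in the schematic locus of `X`. -/
theorem mem_schLocus_of_orbit_subset_affine {X : Sp S} {U : Over S} (a : (yon S).obj U ⟶ X)
    (ha : RepWith finLocFree a) (u : U.left) (V : U.left.Opens) (hV : IsAffineOpen V)
    (horb : ∀ u' : U.left, Points.ofPt a u' = Points.ofPt a u → u' ∈ V) :
    Points.ofPt a u ∈ schLocus X := by
  have hrep := ha.rep
  obtain ⟨t, ht⟩ := (yon S).map_surjective (hrep.fst a)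
  obtain ⟨s, hs'⟩ : ∃ s, s = hrep.snd a := ⟨_, rfl⟩
  have sq : IsPullback ((yon S).map t) ((yon S).map s) a a := by
    rw [ht, hs']; exact hrep.isPullback a
  obtain ⟨hs1, hs2, hs3⟩ : Mor2.IsFinLocFree s.left := ha.property a _ s sq
  let G := KerPairGpd.gpd s t a sq
  haveI : IsFinite G.s := hs1
  haveI : Flat G.s := hs2
  haveI : LocallyOfFinitePresentation G.s := hs3
  have hrel : ∀ r : G.R, Points.ofPt a (t.left r) = Points.ofPt a (s.left r) := by
    intro r
    rw [← ofPt_yon_map_comp, ← ofPt_yon_map_comp, sq.w]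
  have huV : ∀ r : G.R, G.s r = u → G.t r ∈ V := by
    intro r hr
    refine horb _ ?_
    have : s.left r = u := hr
    rw [← this]
    exact hrel r
  obtain ⟨W, hW, hu, -, hinv⟩ :=
    Groth.Agent.Helper2.GrpdLib.InvOpen.exists_invariant_affine_open G u V hV huV
  have hsat : ∀ u₁ u₂ : U.left, Points.ofPt a u₁ = Points.ofPt a u₂ → u₁ ∈ W → u₂ ∈ W := by
    intro u₁ u₂ e h1
    obtain ⟨r, hr1, hr2⟩ := exists_point_of_isPullback_yon a a t s sq u₁ u₂ e
    have h2 : r ∈ G.t ⁻¹ᵁ W := by
      show t.left r ∈ W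
      rw [hr1]; exact h1
    rw [← hinv] at h2
    have h3 : s.left r ∈ W := h2
    rwa [hr2] at h3
  obtain ⟨V', hV', M, e, -, hV'def⟩ := exists_openSub_iso_yon a ha W hW hsat
  refine subset_schLocus hV' e ?_
  rw [hV'def]
  exact ⟨u, hu, rfl⟩

end Groth.Agent.Helper2.FinLocFreeQuot
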