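import Mathlib

/-!
# Degrees of finite schemes over fields: algebraic lemmas (helper2)

Used for the statements on universally bounded fibres.
-/

set_option autoImplicit false
set_option linter.style.haveILetI false

open CategoryTheory CategoryTheory.Limits AlgebraicGeometry TensorProduct

universe u

namespace Groth.Agent.Helper2.UBAlg

/-! ### Linear algebra -/

theorem finrank_le_of_exact {K V' V V'' : Type*} [Field K] [AddCommGroup V'] [Module K V']
    [AddCommGroup V] [Module K V] [AddCommGroup V''] [Module K V'']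
    (f : V' →ₗ[K] V) (g : V →ₗ[K] V'') (hfg : Function.Exact f g) (hg : Function.Surjective g)
    [Module.Finite K V'] [Module.Finite K V''] :
    Module.Finite K V ∧ Module.finrank K V ≤ Module.finrank K V' + Module.finrank K V'' := by
  have hfin : Module.Finite K V := by
    rw [← IsNoetherian.iff_fg]
    haveI : IsNoetherian K V' := IsNoetherian.iff_fg.mpr inferInstance
    haveI : IsNoetherian K V'' := IsNoetherian.iff_fg.mpr inferInstance
    exact isNoetherian_of_range_eq_ker f g (LinearMap.exact_iff.mp hfg).symm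
  refine ⟨hfin, ?_⟩
  have h1 := LinearMap.finrank_range_add_finrank_ker g
  have h2 : Module.finrank K (LinearMap.range g) = Module.finrank K V'' := by
    rw [LinearMap.range_eq_top.mpr hg, finrank_top]
  have h3 : Module.finrank K (LinearMap.ker g) ≤ Module.finrank K V' := by
    rw [LinearMap.exact_iff.mp hfg]
    exact LinearMap.finrank_range_le f
  omega

/-- A finite-dimensional algebra over a field has at most `dim` prime ideals. -/
theorem card_primeSpectrum_le_finrank (K A : Type*) [Field K] [CommRing A] [Algebra K A]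
    [Module.Finite K A] : Nat.card (PrimeSpectrum A) ≤ Module.finrank K A := by
  haveI : IsArtinianRing A := IsArtinianRing.of_finite K A
  haveI : Finite (PrimeSpectrum A) := inferInstance
  cases nonempty_fintype (PrimeSpectrum A)
  let I : PrimeSpectrum A → Ideal A := fun p => p.asIdeal
  have hI : Pairwise (Function.onFun IsCoprime I) := by
    intro p q hpq
    have hp : p.asIdeal.IsMaximal := IsArtinianRing.isMaximal_of_isPrime p.asIdeal
    have hq : q.asIdeal.IsMaximal := IsArtinianRing.isMaximal_of_isPrime q.asIdeal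
    rw [Function.onFun, Ideal.isCoprime_iff_sup_eq]
    exact Ideal.IsMaximal.coprime_of_ne hp hq (fun h => hpq (PrimeSpectrum.ext h))
  let g : A →ₗ[K] (∀ p : PrimeSpectrum A, A ⧸ I p) :=
    LinearMap.pi fun p => (Ideal.Quotient.mkₐ K (I p)).toLinearMap
  have hg : Function.Surjective g := fun x => by
    obtain ⟨r, hr⟩ := Ideal.pi_quotient_surjective hI x
    exact ⟨r, funext hr⟩
  have h1 := LinearMap.finrank_le_finrank_of_surjective hg
  rw [Module.finrank_pi_fintype] at h1
  have h2 : ∀ p : PrimeSpectrum A, 1 ≤ Module.finrank K (A ⧸ I p) := fun p => by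
    haveI : Nontrivial (A ⧸ I p) := Ideal.Quotient.nontrivial_iff.mpr p.2.ne_top
    exact Module.finrank_pos
  calc Nat.card (PrimeSpectrum A) = Fintype.card (PrimeSpectrum A) := Nat.card_eq_fintype_card
    _ = ∑ _p : PrimeSpectrum A, 1 := by simp
    _ ≤ ∑ p : PrimeSpectrum A, Module.finrank K (A ⧸ I p) := Finset.sum_le_sum fun p _ => h2 p
    _ ≤ Module.finrank K A := h1

/-- If all the fibres of an `A`-module `C` over the maximal ideals of a `K`-algebra `A` have
dimension at most `m`, then `N ⊗ C` has `K`-dimension at most `m * dim_K N` for every `A`-module `N`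
of finite dimension over `K`. -/
theorem tensor_finrank_le (K A C : Type u) [Field K] [CommRing A] [Algebra K A]
    [AddCommGroup C] [Module A C] (m : ℕ)
    (h : ∀ (𝔪 : Ideal A) [𝔪.IsMaximal], Module.Finite (A ⧸ 𝔪) ((A ⧸ 𝔪) ⊗[A] C) ∧
      Module.finrank (A ⧸ 𝔪) ((A ⧸ 𝔪) ⊗[A] C) ≤ m) :
    ∀ (d : ℕ) (N : Type u) [AddCommGroup N] [Module A N] [Module K N] [IsScalarTower K A N]
      [Module.Finite K N], Module.finrank K N = d →
      Module.Finite K (N ⊗[A] C) ∧ Module.finrank K (N ⊗[A] C) ≤ m * d := by
  intro d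
  induction d using Nat.strong_induction_on with
  | _ d ih =>
    intro N _ _ _ _ _ hd
    by_cases hN : Subsingleton N
    · haveI : Subsingleton (N ⊗[A] C) := inferInstance
      refine ⟨inferInstance, ?_⟩
      rw [Module.finrank_zero_of_subsingleton]
      exact Nat.zero_le _
    · rw [not_subsingleton_iff_nontrivial] at hN
      haveI : IsArtinian K N := inferInstance
      haveI : IsArtinian A N := isArtinian_of_tower K inferInstance
      obtain ⟨N₀, hN₀⟩ := IsAtomic.exists_atom (Submodule A N)
      have hsimple : IsSimpleModule A N₀ := isSimpleModule_iff_isAtom.mpr hN₀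
      obtain ⟨𝔪, h𝔪, ⟨e⟩⟩ := isSimpleModule_iff_quot_maximal.mp hsimple
      haveI := h𝔪
      obtain ⟨hf1, hf2⟩ := h 𝔪
      let e' : (N₀ ⊗[A] C) ≃ₗ[A] ((A ⧸ 𝔪) ⊗[A] C) := LinearEquiv.rTensor C e
      let e'K : (N₀ ⊗[A] C) ≃ₗ[K] ((A ⧸ 𝔪) ⊗[A] C) := e'.restrictScalars K
      letI : Field (A ⧸ 𝔪) := Ideal.Quotient.field 𝔪
      haveI : IsNoetherian K N := IsNoetherian.iff_fg.mpr inferInstance
      haveI : Module.Finite K N₀ :=
        Module.Finite.of_injective (N₀.subtype.restrictScalars K) N₀.subtype_injective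
      haveI : Module.Finite K (A ⧸ 𝔪) := Module.Finite.equiv (e.restrictScalars K)
      haveI : Module.Finite K ((A ⧸ 𝔪) ⊗[A] C) := Module.Finite.trans (A ⧸ 𝔪) _
      haveI : Module.Finite K (N₀ ⊗[A] C) := Module.Finite.equiv e'K.symm
      have hd0 : Module.finrank K (N₀ ⊗[A] C) ≤ m * Module.finrank K N₀ := by
        rw [e'K.finrank_eq, ← Module.finrank_mul_finrank K (A ⧸ 𝔪) ((A ⧸ 𝔪) ⊗[A] C),
          (e.restrictScalars K).finrank_eq, mul_comm]
        exact Nat.mul_le_mul_right _ hf2
      have hsum := Submodule.finrank_quotient_add_finrank (N₀.restrictScalars K)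
      have hq : Module.finrank K (N ⧸ N₀) = d - Module.finrank K N₀ := by
        have : Module.finrank K (N ⧸ N₀) + Module.finrank K N₀ = d := by
          rw [← hd]; exact hsum
        omega
      have hpos : 0 < Module.finrank K N₀ := by
        haveI : Nontrivial N₀ := by
          rw [Submodule.nontrivial_iff_ne_bot]; exact hN₀.1
        exact Module.finrank_pos
      have hle' : Module.finrank K N₀ ≤ d := by
        rw [← hd]; exact Submodule.finrank_le (N₀.restrictScalars K)
      have hlt : d - Module.finrank K N₀ < d := by omega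
      obtain ⟨hQ1, hQ2⟩ := ih _ hlt (N ⧸ N₀) hq
      have hex : Function.Exact (LinearMap.rTensor C N₀.subtype) (LinearMap.rTensor C N₀.mkQ) :=
        rTensor_exact C (LinearMap.exact_subtype_mkQ N₀) (Submodule.mkQ_surjective N₀)
      have hsurj : Function.Surjective (LinearMap.rTensor C N₀.mkQ) :=
        LinearMap.rTensor_surjective C (Submodule.mkQ_surjective N₀)
      obtain ⟨hfin, hle⟩ := finrank_le_of_exact
        ((LinearMap.rTensor C N₀.subtype).restrictScalars K)
        ((LinearMap.rTensor C N₀.mkQ).restrictScalars K) hex hsurj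
      refine ⟨hfin, hle.trans ?_⟩
      calc Module.finrank K (N₀ ⊗[A] C) + Module.finrank K ((N ⧸ N₀) ⊗[A] C)
          ≤ m * Module.finrank K N₀ + m * (d - Module.finrank K N₀) := Nat.add_le_add hd0 hQ2
        _ = m * d := by
          rw [← Nat.mul_add]
          congr 1
          omega

/-! ### Degree bounds for morphisms to the spectrum of a field -/

/-- `c : T ⟶ Spec K` is finite of degree at most `n`. -/
def DegLE {T : Scheme.{u}} {K : Type u} [Field K] (c : T ⟶ Spec (.of K)) (n : ℕ) : Prop :=
  IsFinite c ∧ ∀ s, c.finrank s ≤ n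

theorem degLE_specMap_iff (K : Type u) [Field K] (A : Type u) [CommRing A] [Algebra K A] (n : ℕ) :
    DegLE (Spec.map (CommRingCat.ofHom (algebraMap K A))) n ↔
      Module.Finite K A ∧ Module.finrank K A ≤ n := by
  constructor
  · rintro ⟨h1, h2⟩
    rw [IsFinite.SpecMap_iff] at h1
    have hfin : Module.Finite K A := RingHom.finite_algebraMap.mp h1
    refine ⟨hfin, ?_⟩
    have := h2 (IsLocalRing.closedPoint K)
    rw [Scheme.Hom.finrank_SpecMap_algebraMap, Module.rankAtStalk_eq_finrank_of_free] at this
    exact this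
  · rintro ⟨h1, h2⟩
    haveI := h1
    refine ⟨(IsFinite.SpecMap_iff _).mpr (RingHom.finite_algebraMap.mpr h1), fun s => ?_⟩
    have h3 := Scheme.Hom.finrank_SpecMap_algebraMap K A (show PrimeSpectrum K from s)
    rw [Module.rankAtStalk_eq_finrank_of_free] at h3
    exact h3.trans_le h2

theorem degLE_of_iso {T T' : Scheme.{u}} {K : Type u} [Field K] (e : T ≅ T')
    (c : T ⟶ Spec (.of K)) (c' : T' ⟶ Spec (.of K)) (h : e.hom ≫ c' = c) (n : ℕ) :
    DegLE c n ↔ DegLE c' n := by
  subst h
  constructor
  · rintro ⟨h1, h2⟩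
    have h1' : IsFinite c' := by
      have : c' = e.inv ≫ e.hom ≫ c' := by simp
      rw [this]; infer_instance
    refine ⟨h1', fun s => ?_⟩
    have := h2 s
    rwa [Scheme.Hom.finrank_comp_left_of_isIso] at this
  · rintro ⟨h1, h2⟩
    refine ⟨inferInstance, fun s => ?_⟩
    rw [Scheme.Hom.finrank_comp_left_of_isIso]
    exact h2 s

theorem DegLE.mono {T : Scheme.{u}} {K : Type u} [Field K] {c : T ⟶ Spec (.of K)} {n n' : ℕ}
    (h : DegLE c n) (hn : n ≤ n') : DegLE c n' :=
  ⟨h.1, fun s => (h.2 s).trans hn⟩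

theorem exists_algebra {T : Scheme.{u}} [IsAffine T] {K : Type u} [Field K]
    (c : T ⟶ Spec (.of K)) :
    ∃ (A : Type u) (_ : CommRing A) (_ : Algebra K A) (e : T ≅ Spec (.of A)),
      e.hom ≫ Spec.map (CommRingCat.ofHom (algebraMap K A)) = c := by
  let φ : CommRingCat.of K ⟶ Γ(T, ⊤) := (Scheme.ΓSpecIso (.of K)).inv ≫ c.appTop
  let _ : Algebra K Γ(T, ⊤) := φ.hom.toAlgebra
  refine ⟨Γ(T, ⊤), inferInstance, inferInstance, T.isoSpec, ?_⟩
  have h1 := Scheme.isoSpec_hom_naturality c
  have h2 := Scheme.isoSpec_Spec_hom (CommRingCat.of K)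
  have h3 : CommRingCat.ofHom (algebraMap K Γ(T, ⊤)) = φ := rfl
  rw [h3, Spec.map_comp, ← Category.assoc, h1, Category.assoc, h2, ← Spec.map_comp,
    Iso.inv_hom_id, Spec.map_id, Category.comp_id]

/-- A scheme finite over a field is a finite discrete space. -/
theorem finite_discrete_of_isFinite {T : Scheme.{u}} {K : Type u} [Field K]
    (c : T ⟶ Spec (.of K)) [IsFinite c] : Finite T ∧ DiscreteTopology T := by
  haveI : IsAffine T := isAffine_of_isAffineHom c
  obtain ⟨A, _, _, e, he⟩ := exists_algebra c
  have hfin : IsFinite (Spec.map (CommRingCat.ofHom (algebraMap K A))) := by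
    have : Spec.map (CommRingCat.ofHom (algebraMap K A)) = e.inv ≫ c := by
      rw [← he, Iso.inv_hom_id_assoc]
    rw [this]; infer_instance
  rw [IsFinite.SpecMap_iff] at hfin
  haveI : Module.Finite K A := RingHom.finite_algebraMap.mp hfin
  haveI : IsArtinianRing A := IsArtinianRing.of_finite K A
  haveI : Finite (PrimeSpectrum A) := inferInstance
  haveI : DiscreteTopology (PrimeSpectrum A) := inferInstance
  let hm : ↥T ≃ₜ PrimeSpectrum A := Scheme.homeoOfIso e
  exact ⟨Finite.of_equiv _ hm.symm.toEquiv, hm.isEmbedding.discreteTopology⟩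

theorem finite_discrete_of_flat_surjective {X Y : Scheme.{u}} (f : X ⟶ Y) [Flat f] [Surjective f]
    [Finite X] [DiscreteTopology X] : Finite Y ∧ DiscreteTopology Y := by
  have hfin : Finite Y := Finite.of_surjective f f.surjective
  refine ⟨hfin, ?_⟩
  haveI : T1Space Y := by
    refine ⟨fun y' => ?_⟩
    rw [← closure_eq_iff_isClosed]
    refine Set.Subset.antisymm ?_ subset_closure
    intro y hy
    rw [← specializes_iff_mem_closure] at hy
    obtain ⟨a, rfl⟩ := f.surjective y
    obtain ⟨a', ha', rfl⟩ := (Flat.generalizingMap f) hy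
    have : a' = a := ha'.eq
    rw [this]
    exact Set.mem_singleton _
  infer_instance

end Groth.Agent.Helper2.UBAlg
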