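import Mathlib
import Groth.Agent.Lib.Helper2.AlgSp.UBAlg

/-!
# Degrees of finite schemes over fields: scheme-level lemmas (helper2)
-/

set_option autoImplicit false
set_option linter.style.haveILetI false

open CategoryTheory CategoryTheory.Limits AlgebraicGeometry TensorProduct

universe u

namespace Groth.Agent.Helper2.UBAlg

/-- A scheme finite of degree at most `n` over a field has at most `n` points. -/
theorem card_le_of_degLE {T : Scheme.{u}} {K : Type u} [Field K] (c : T ⟶ Spec (.of K)) {n : ℕ}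
    (h : DegLE c n) : Finite T ∧ Nat.card T ≤ n := by
  haveI := h.1
  haveI : IsAffine T := isAffine_of_isAffineHom c
  obtain ⟨A, _, _, e, he⟩ := exists_algebra c
  rw [degLE_of_iso e _ _ he, degLE_specMap_iff] at h
  obtain ⟨h1, h2⟩ := h
  haveI := h1
  let hm : ↥T ≃ₜ PrimeSpectrum A := Scheme.homeoOfIso e
  haveI : IsArtinianRing A := IsArtinianRing.of_finite K A
  haveI : Finite (PrimeSpectrum A) := inferInstance
  refine ⟨Finite.of_equiv _ hm.symm.toEquiv, ?_⟩
  rw [Nat.card_congr hm.toEquiv]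
  exact (card_primeSpectrum_le_finrank K A).trans h2

/-- Descent of the degree bound along a flat surjective morphism. -/
theorem degLE_of_flat_surjective {T T' : Scheme.{u}} {K : Type u} [Field K]
    (c : T ⟶ Spec (.of K)) (π : T' ⟶ T) [Flat π] [Surjective π] {n : ℕ}
    (h : DegLE (π ≫ c) n) : DegLE c n := by
  haveI := h.1
  obtain ⟨hf', hd'⟩ := finite_discrete_of_isFinite (π ≫ c)
  haveI := hf'; haveI := hd'
  obtain ⟨hf, hd⟩ := finite_discrete_of_flat_surjective π
  haveI := hf; haveI := hd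
  haveI : IsAffine T := inferInstance
  haveI : IsAffine T' := isAffine_of_isAffineHom (π ≫ c)
  obtain ⟨B, _, _, eB, heB⟩ := exists_algebra c
  obtain ⟨A, _, _, eA, heA⟩ := exists_algebra (π ≫ c)
  obtain ⟨φ, hφ⟩ := Spec.map_surjective (eA.inv ≫ π ≫ eB.hom)
  have hcomp : φ.hom.comp (algebraMap K B) = algebraMap K A := by
    have h1 : Spec.map (CommRingCat.ofHom (algebraMap K B) ≫ φ) =
        Spec.map (CommRingCat.ofHom (algebraMap K A)) := by
      rw [Spec.map_comp, hφ, Category.assoc, Category.assoc, heB, ← heA, Iso.inv_hom_id_assoc]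
    have h2 := Spec.map_injective h1
    ext x
    exact congrArg (fun k => k.hom x) h2
  have hff : φ.hom.FaithfullyFlat := by
    rw [← flat_and_surjective_SpecMap_iff, hφ]
    exact ⟨inferInstance, inferInstance⟩
  have hinj : Function.Injective φ.hom := hff.injective
  let φl : B →ₗ[K] A :=
    { toFun := φ.hom
      map_add' := map_add _
      map_smul' := fun k b => by
        simp only [Algebra.smul_def, map_mul, RingHom.id_apply]
        rw [← hcomp]; rfl }
  rw [degLE_of_iso eA _ _ heA, degLE_specMap_iff] at h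
  obtain ⟨h1, h2⟩ := h
  haveI := h1
  rw [degLE_of_iso eB _ _ heB, degLE_specMap_iff]
  have hinj' : Function.Injective φl := hinj
  haveI : IsNoetherian K A := IsNoetherian.iff_fg.mpr inferInstance
  exact ⟨Module.Finite.of_injective φl hinj',
    (LinearMap.finrank_le_finrank_of_injective hinj').trans h2⟩

theorem finite_of_finite_baseChange (K Ω B : Type u) [Field K] [Field Ω] [Algebra K Ω]
    [AddCommGroup B] [Module K B] (h : Module.Finite Ω (Ω ⊗[K] B)) : Module.Finite K B := by
  rw [← Module.rank_lt_aleph0_iff] at h ⊢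
  rw [Module.rank_baseChange] at h
  simpa using h

/-- Descent of the degree bound along a field extension. -/
theorem degLE_of_fieldExt {K Ω : Type u} [Field K] [Field Ω] (ψ : K →+* Ω) {T TΩ : Scheme.{u}}
    (c : T ⟶ Spec (.of K)) (cΩ : TΩ ⟶ Spec (.of Ω)) (π : TΩ ⟶ T)
    (sq : IsPullback cΩ π (Spec.map (CommRingCat.ofHom ψ)) c) {n : ℕ} (h : DegLE cΩ n) :
    DegLE c n := by
  haveI := h.1
  haveI : Flat π := MorphismProperty.of_isPullback (P := @Flat) sq inferInstance
  haveI : Surjective (Spec.map (CommRingCat.ofHom ψ)) := by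
    refine ⟨fun y => ?_⟩
    exact ⟨IsLocalRing.closedPoint Ω, Subsingleton.elim (α := PrimeSpectrum K) _ _⟩
  haveI : Surjective π := MorphismProperty.of_isPullback (P := @Surjective) sq inferInstance
  obtain ⟨hf', hd'⟩ := finite_discrete_of_isFinite cΩ
  haveI := hf'; haveI := hd'
  obtain ⟨hf, hd⟩ := finite_discrete_of_flat_surjective π
  haveI := hf; haveI := hd
  haveI : IsAffine T := inferInstance
  obtain ⟨B, _, _, eB, heB⟩ := exists_algebra c
  algebraize [ψ]
  have hpo := CommRingCat.isPushout_tensorProduct K Ω B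
  have hpb := isPullback_SpecMap_of_isPushout _ _ _ _ hpo
  -- transport along eB
  have hpb' : IsPullback (Spec.map (CommRingCat.ofHom
      (Algebra.TensorProduct.includeLeftRingHom : Ω →+* Ω ⊗[K] B)))
      (Spec.map (CommRingCat.ofHom
        (Algebra.TensorProduct.includeRight : B →ₐ[K] Ω ⊗[K] B).toRingHom) ≫ eB.inv)
      (Spec.map (CommRingCat.ofHom ψ)) c := by
    have h1 : c = eB.hom ≫ Spec.map (CommRingCat.ofHom (algebraMap K B)) := heB.symm
    rw [h1]
    refine IsPullback.of_iso hpb (Iso.refl _) (Iso.refl _) eB.symm (Iso.refl _) ?_ ?_ ?_ ?_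
    · simp
    · simp
    · simp
    · simp
  let e : TΩ ≅ Spec (.of (Ω ⊗[K] B)) := sq.isoIsPullback _ _ hpb'
  have he : e.hom ≫ Spec.map (CommRingCat.ofHom (algebraMap Ω (Ω ⊗[K] B))) = cΩ :=
    sq.isoIsPullback_hom_fst _ _ hpb'
  rw [degLE_of_iso e _ _ he, degLE_specMap_iff] at h
  obtain ⟨h1, h2⟩ := h
  rw [degLE_of_iso eB _ _ heB, degLE_specMap_iff]
  refine ⟨finite_of_finite_baseChange K Ω B h1, ?_⟩
  rw [Module.finrank_baseChange] at h2
  exact h2

/-- A scheme with finite discrete fibres over a finite discrete scheme is finite discrete. -/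
theorem finite_discrete_of_fibres {X Y : Scheme.{u}} (l : X ⟶ Y) [Finite Y] [DiscreteTopology Y]
    (h : ∀ y : Y, Finite (l.fiber y) ∧ DiscreteTopology (l.fiber y)) :
    Finite X ∧ DiscreteTopology X := by
  have hfib : ∀ y : Y, Finite (l ⁻¹' {y}) ∧ DiscreteTopology (l ⁻¹' {y}) := fun y => by
    obtain ⟨h1, h2⟩ := h y
    let hm := l.fiberHomeo y
    exact ⟨Finite.of_equiv _ hm.toEquiv, hm.symm.isEmbedding.discreteTopology⟩
  constructor
  · rw [← Set.finite_univ_iff]
    refine Set.Finite.of_finite_fibers l (Set.toFinite _) (fun y _ => ?_)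
    rw [Set.univ_inter]
    exact Set.finite_coe_iff.mp (hfib y).1
  · rw [discreteTopology_iff_isOpen_singleton]
    intro x
    have hU : IsOpen (l ⁻¹' {l x}) := (isOpen_discrete _).preimage l.continuous
    haveI := (hfib (l x)).2
    have := hU.isOpenMap_subtype_val _ (isOpen_discrete ({⟨x, rfl⟩} : Set (l ⁻¹' {l x})))
    simpa using this

/-- Composition: degree bounds multiply. -/
theorem degLE_comp {X Y : Scheme.{u}} {K : Type u} [Field K] (l : X ⟶ Y) (c : Y ⟶ Spec (.of K))
    {m n : ℕ} (hc : DegLE c n)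
    (hl : ∀ (L : Type u) [Field L] (y : Spec (.of L) ⟶ Y) (F : Scheme.{u})
      (p₁ : F ⟶ Spec (.of L)) (p₂ : F ⟶ X), IsPullback p₁ p₂ y l → DegLE p₁ m) :
    DegLE (l ≫ c) (m * n) := by
  haveI := hc.1
  obtain ⟨hfY, hdY⟩ := finite_discrete_of_isFinite c
  haveI := hfY; haveI := hdY
  have hfib : ∀ y : Y, Finite (l.fiber y) ∧ DiscreteTopology (l.fiber y) := fun y => by
    have sq : IsPullback (l.fiberToSpecResidueField y) (l.fiberι y)
        (Y.fromSpecResidueField y) l := (IsPullback.of_hasPullback l _).flip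
    have hd := hl (Y.residueField y) (Y.fromSpecResidueField y) _ _ _ sq
    exact @finite_discrete_of_isFinite (l.fiber y) (Y.residueField y) _
      (l.fiberToSpecResidueField y) hd.1
  obtain ⟨hfX, hdX⟩ := finite_discrete_of_fibres l hfib
  haveI := hfX; haveI := hdX
  haveI : IsAffine X := inferInstance
  haveI : IsAffine Y := inferInstance
  obtain ⟨A, _, _, eY, heY⟩ := exists_algebra c
  obtain ⟨C, _, _, eX, heX⟩ := exists_algebra (l ≫ c)
  obtain ⟨φ, hφ⟩ := Spec.map_surjective (eX.inv ≫ l ≫ eY.hom)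
  have hcomp : φ.hom.comp (algebraMap K A) = algebraMap K C := by
    have h1 : Spec.map (CommRingCat.ofHom (algebraMap K A) ≫ φ) =
        Spec.map (CommRingCat.ofHom (algebraMap K C)) := by
      rw [Spec.map_comp, hφ, Category.assoc, Category.assoc, heY, ← heX, Iso.inv_hom_id_assoc]
    have h2 := Spec.map_injective h1
    ext x
    exact congrArg (fun k => k.hom x) h2
  algebraize [φ.hom]
  haveI : IsScalarTower K A C := IsScalarTower.of_algebraMap_eq' hcomp.symm
  rw [degLE_of_iso eY _ _ heY, degLE_specMap_iff] at hc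
  obtain ⟨hA1, hA2⟩ := hc
  haveI := hA1
  have hfib' : ∀ (𝔪 : Ideal A) [𝔪.IsMaximal], Module.Finite (A ⧸ 𝔪) ((A ⧸ 𝔪) ⊗[A] C) ∧
      Module.finrank (A ⧸ 𝔪) ((A ⧸ 𝔪) ⊗[A] C) ≤ m := by
    intro 𝔪 h𝔪
    letI : Field (A ⧸ 𝔪) := Ideal.Quotient.field 𝔪
    have hpo := CommRingCat.isPushout_tensorProduct A (A ⧸ 𝔪) C
    have hpb := isPullback_SpecMap_of_isPushout _ _ _ _ hpo
    have hpb' : IsPullback (Spec.map (CommRingCat.ofHom
        (Algebra.TensorProduct.includeLeftRingHom : (A ⧸ 𝔪) →+* (A ⧸ 𝔪) ⊗[A] C)))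
        (Spec.map (CommRingCat.ofHom
          (Algebra.TensorProduct.includeRight : C →ₐ[A] (A ⧸ 𝔪) ⊗[A] C).toRingHom) ≫ eX.inv)
        (Spec.map (CommRingCat.ofHom (algebraMap A (A ⧸ 𝔪))) ≫ eY.inv) l := by
      refine IsPullback.of_iso hpb (Iso.refl _) (Iso.refl _) eX.symm eY.symm ?_ ?_ ?_ ?_
      · simp
      · simp
      · simp
      · have : CommRingCat.ofHom (algebraMap A C) = φ := rfl
        rw [this, hφ]; simp
    have := hl (A ⧸ 𝔪) _ _ _ _ hpb'
    exact (degLE_specMap_iff (A ⧸ 𝔪) ((A ⧸ 𝔪) ⊗[A] C) m).mp this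
  obtain ⟨hT1, hT2⟩ := tensor_finrank_le K A C m hfib' (Module.finrank K A) A rfl
  let eT : (A ⊗[A] C) ≃ₗ[K] C := (TensorProduct.lid A C).restrictScalars K
  rw [degLE_of_iso eX _ _ heX, degLE_specMap_iff]
  haveI := hT1
  refine ⟨Module.Finite.equiv eT, ?_⟩
  rw [← eT.finrank_eq]
  exact hT2.trans (Nat.mul_le_mul_left m hA2)

end Groth.Agent.Helper2.UBAlg
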