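import Mathlib
import Groth.Prelude.Def_W4decUnivBdd
import Groth.Agent.Lib.Helper2.AlgSp.UBSch
import Groth.Agent.Lib.Helper2.AlgSp.Diag
import Groth.Agent.Lib.Helper2.AlgSp.FieldQuot
import Groth.Agent.Lib.Helper2.AlgSp.Points

/-!
# Universally bounded fibres for morphisms from schemes to algebraic spaces (helper2)
-/

set_option autoImplicit false
set_option linter.style.haveILetI false

open CategoryTheory CategoryTheory.Limits AlgebraicGeometry Opposite AlgSp

universe u

namespace Groth.Agent.Helper2.UBSp

open Groth.Agent.Helper2.UBAlg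

variable {S : Scheme.{u}}

/-- Reformulation of the degree bound with arbitrary morphisms from spectra of fields. -/
theorem degFibresLE_iff {F : Sp S} {U : Over S} (a : (yon S).obj U ⟶ F) (n : ℕ) :
    W4dec.DegFibresLE n a ↔ ∀ (K : Type u) [Field K] (str : Spec (.of K) ⟶ S)
      (m : (yon S).obj (Over.mk str) ⟶ F) (T : Over S) (c : T ⟶ Over.mk str)
      (snd : (yon S).obj T ⟶ (yon S).obj U),
      IsPullback ((yon S).map c) snd m a → DegLE c.left n := by
  constructor
  · intro h K _ str m T c snd sq
    have sq' : IsPullback ((yon S).map c) snd (AlgSpBasic.fieldPtOfHom str m).toHom a := by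
      rw [FieldQuot.toHom_fieldPtOfHom]; exact sq
    exact h (AlgSpBasic.fieldPtOfHom str m) T c snd sq'
  · intro h q T c snd sq
    exact h q.K q.str q.toHom T c snd sq

end Groth.Agent.Helper2.UBSp
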