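import Mathlib
import Groth.Agent.Lib.Helper2.AlgSp.UBSp

/-!
# Universally bounded fibres, part 2 (helper2)
-/

set_option autoImplicit false
set_option linter.style.haveILetI false

open CategoryTheory CategoryTheory.Limits AlgebraicGeometry Opposite AlgSp

universe u

namespace Groth.Agent.Helper2.UBSp

open Groth.Agent.Helper2.UBAlg

variable {S : Scheme.{u}}

/-- The empty scheme is finite of degree `0` over a field. -/
theorem degLE_of_isEmpty {T : Scheme.{u}} [IsEmpty T] {K : Type u} [Field K]
    (c : T ⟶ Spec (.of K)) (n : ℕ) : DegLE c n := by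
  haveI : IsAffine T := inferInstance
  obtain ⟨A, _, _, e, he⟩ := exists_algebra c
  rw [degLE_of_iso e _ _ he, degLE_specMap_iff]
  haveI : IsEmpty (PrimeSpectrum A) := by
    let hm : ↥T ≃ₜ PrimeSpectrum A := Scheme.homeoOfIso e
    exact hm.symm.toEquiv.isEmpty
  haveI : Subsingleton A := by
    by_contra hA
    rw [not_subsingleton_iff_nontrivial] at hA
    exact (inferInstance : IsEmpty (PrimeSpectrum A)).false (Classical.arbitrary _)
  refine ⟨inferInstance, ?_⟩
  rw [Module.finrank_zero_of_subsingleton]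
  exact Nat.zero_le _

/-- Two field-valued points in the same class agree on a common field extension. -/
theorem exists_common_of_mk_eq' {F : Sp S} {p q : FieldPt F} (h : Points.mk p = Points.mk q) :
    ∃ (Ω : Type u) (_ : Field Ω) (w : Spec (CommRingCat.of Ω) ⟶ S) (a : Over.mk w ⟶ p.pt)
      (b : Over.mk w ⟶ q.pt), (yon S).map a ≫ p.toHom = (yon S).map b ≫ q.toHom := by
  rw [Points.mk_eq_mk_iff] at h
  obtain ⟨Ω, hΩ, w, a, b, hab⟩ := h
  refine ⟨Ω, hΩ, w, a, b, ?_⟩
  have h1 : (yon S).map a ≫ p.toHom = (J S).uliftYonedaEquiv.symm (F.obj.map a.op p.val) :=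
    GrothendieckTopology.uliftYonedaEquiv_symm_naturality_left _ a F p.val
  have h2 : (yon S).map b ≫ q.toHom = (J S).uliftYonedaEquiv.symm (F.obj.map b.op q.val) :=
    GrothendieckTopology.uliftYonedaEquiv_symm_naturality_left _ b F q.val
  rw [h1, h2, hab]

end Groth.Agent.Helper2.UBSp
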