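import Mathlib
import Groth.Agent.Lib.Helper2.AlgSp.UBSp2
import Groth.Agent.Lib.Helper2.Sch.FibDeg11

/-!
# Fibre degrees at points of an algebraic space (helper2)
-/

set_option autoImplicit false
set_option linter.style.haveILetI false

open CategoryTheory CategoryTheory.Limits AlgebraicGeometry Opposite AlgSp

universe u

namespace Groth.Agent.Helper2.PtDeg

open Groth.Agent.Helper2.UBAlg Groth.Agent.Helper2.FibDeg

variable {S : Scheme.{u}}

/-- The fibres of `w` over the point `x` have degree at most `k`. -/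
def PtDegLE {F : Sp S} {W : Over S} (w : (yon S).obj W ⟶ F) (x : Points F) (k : ℕ) : Prop :=
  ∀ (q : FieldPt F), Points.mk q = x → ∀ (T : Over S) (c : T ⟶ q.pt)
    (snd : (yon S).obj T ⟶ (yon S).obj W),
    IsPullback ((yon S).map c) snd q.toHom w → DegLE c.left k

theorem PtDegLE.mono {F : Sp S} {W : Over S} {w : (yon S).obj W ⟶ F} {x : Points F} {k k' : ℕ}
    (H : PtDegLE w x k) (hk : k ≤ k') : PtDegLE w x k' :=
  fun q hq T c snd sq => (H q hq T c snd sq).mono hk

theorem degFibresLE_iff_forall {F : Sp S} {W : Over S} (w : (yon S).obj W ⟶ F) (n : ℕ) :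
    W4dec.DegFibresLE n w ↔ ∀ x, PtDegLE w x n :=
  ⟨fun H _ q _ T c snd sq => H q T c snd sq, fun H q T c snd sq => H _ q rfl T c snd sq⟩

/-- The degree bound only depends on the point. -/
theorem degLE_invariant {F : Sp S} {W : Over S} (w : (yon S).obj W ⟶ F) {q₁ q₂ : FieldPt F}
    (h : Points.mk q₁ = Points.mk q₂) {T₁ T₂ : Over S} (c₁ : T₁ ⟶ q₁.pt)
    (s₁ : (yon S).obj T₁ ⟶ (yon S).obj W) (sq₁ : IsPullback ((yon S).map c₁) s₁ q₁.toHom w)
    (c₂ : T₂ ⟶ q₂.pt) (s₂ : (yon S).obj T₂ ⟶ (yon S).obj W)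
    (sq₂ : IsPullback ((yon S).map c₂) s₂ q₂.toHom w) {k : ℕ} (H : DegLE c₁.left k) :
    DegLE c₂.left k := by
  obtain ⟨Ω, _, w', a, b, hab⟩ := Groth.Agent.Helper2.UBSp.exists_common_of_mk_eq' h
  have sqΩ := IsPullback.of_hasPullback a c₁
  have sqΩ' := sqΩ.map (yon S)
  have big := sqΩ'.paste_vert sq₁
  rw [hab] at big
  obtain ⟨lam, hlam⟩ : ∃ lam, lam = sq₂.lift
      ((yon S).map (pullback.fst a c₁) ≫ (yon S).map b)
      ((yon S).map (pullback.snd a c₁) ≫ s₁) (by
        have := big.w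
        simp only [Category.assoc] at this ⊢
        exact this) := ⟨_, rfl⟩
  have hl1 : lam ≫ (yon S).map c₂ = (yon S).map (pullback.fst a c₁) ≫ (yon S).map b := by
    rw [hlam, sq₂.lift_fst]
  have hl2 : lam ≫ s₂ = (yon S).map (pullback.snd a c₁) ≫ s₁ := by
    rw [hlam, sq₂.lift_snd]
  have sqV : IsPullback ((yon S).map (pullback.fst a c₁)) lam ((yon S).map b) ((yon S).map c₂) := by
    refine IsPullback.of_bot ?_ hl1.symm sq₂
    rw [hl2]
    exact big
  obtain ⟨π₂, hπ₂⟩ := (yon S).map_surjective lam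
  rw [← hπ₂] at sqV
  have sqV' : IsPullback (pullback.fst a c₁) π₂ b c₂ := IsPullback.of_map (yon S)
    ((yon S).map_injective (by
      rw [Functor.map_comp, Functor.map_comp]; exact sqV.w)) sqV
  obtain ⟨ψ₁, hψ₁⟩ := Spec.map_surjective a.left
  obtain ⟨ψ₂, hψ₂⟩ := Spec.map_surjective b.left
  have sq3 := sqΩ.map (Over.forget S)
  have sq4 : IsPullback (pullback.fst a c₁).left (pullback.snd a c₁).left
      (Spec.map (CommRingCat.ofHom ψ₁.hom)) c₁.left := by
    have : Spec.map (CommRingCat.ofHom ψ₁.hom) = a.left := hψ₁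
    rw [this]
    exact sq3
  have HΩ : DegLE (pullback.fst a c₁).left k :=
    degLE_baseChange_field ψ₁.hom c₁.left _ _ sq4 H
  have sq5 := sqV'.map (Over.forget S)
  have sq6 : IsPullback (pullback.fst a c₁).left π₂.left
      (Spec.map (CommRingCat.ofHom ψ₂.hom)) c₂.left := by
    have : Spec.map (CommRingCat.ofHom ψ₂.hom) = b.left := hψ₂
    rw [this]
    exact sq5
  exact degLE_of_fieldExt ψ₂.hom c₂.left _ _ sq6 HΩ

/-- The bound can be tested on one field valued point and one representing fibre. -/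
theorem ptDegLE_of_degLE {F : Sp S} {W : Over S} (w : (yon S).obj W ⟶ F) (q : FieldPt F)
    {T : Over S} (c : T ⟶ q.pt) (s : (yon S).obj T ⟶ (yon S).obj W)
    (sq : IsPullback ((yon S).map c) s q.toHom w) {k : ℕ} (H : DegLE c.left k) :
    PtDegLE w (Points.mk q) k :=
  fun _ hq' _ c' s' sq' => degLE_invariant w hq'.symm c s sq c' s' sq' H

/-- **Bridge**: on a scheme mapping to `F`, the point-wise degree bound is the fibre degree bound
of the base change of `w`. -/
theorem ptDegLE_ofPt_iff {F : Sp S} {W : Over S} (w : (yon S).obj W ⟶ F) {U V : Over S}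
    (a : (yon S).obj U ⟶ F) (fst' : (yon S).obj V ⟶ (yon S).obj W) (snd' : V ⟶ U)
    (sq' : IsPullback fst' ((yon S).map snd') w a) (u : ↥U.left) (k : ℕ) :
    PtDegLE w (Points.ofPt a u) k ↔ FibDegLE snd'.left u k := by
  obtain ⟨K, _, μ, T, c, p, sqT, e, -⟩ := exists_fiber snd'.left u
  let SpK : Over S := Over.mk (μ ≫ U.hom)
  let μ' : SpK ⟶ U := Over.homMk μ rfl
  let T' : Over S := Over.mk (c ≫ μ ≫ U.hom)
  let c' : T' ⟶ SpK := Over.homMk c rfl
  let p' : T' ⟶ V := Over.homMk p (by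
    have h1 : p ≫ snd'.left = c ≫ μ := sqT.w.symm
    have h2 : snd'.left ≫ U.hom = V.hom := Over.w snd'
    show p ≫ V.hom = c ≫ μ ≫ U.hom
    rw [← h2, ← Category.assoc, h1, Category.assoc])
  have sqT' : IsPullback ((yon S).map c') ((yon S).map p') ((yon S).map μ') ((yon S).map snd') :=
    Groth.Agent.Helper2.AlgSpBasic.yon_isPullback_of_left c' p' μ' snd' sqT
  have big := sqT'.paste_vert sq'.flip
  have hqhom : (Groth.Agent.Helper2.AlgSpBasic.fieldPtOfHom (μ ≫ U.hom)
      ((yon S).map μ' ≫ a)).toHom = (yon S).map μ' ≫ a :=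
    Groth.Agent.Helper2.FieldQuot.toHom_fieldPtOfHom _ _
  have hqmk : Points.mk (Groth.Agent.Helper2.AlgSpBasic.fieldPtOfHom (μ ≫ U.hom)
      ((yon S).map μ' ≫ a)) = Points.ofPt a u := by
    rw [Groth.Agent.Helper2.FieldQuot.mk_fieldPtOfHom (μ ≫ U.hom) ((yon S).map μ' ≫ a)
      (IsLocalRing.closedPoint K), Groth.Agent.Helper2.AlgSpBasic.ofPt_yon_map_comp]
    congr 1
  have big' : IsPullback ((yon S).map c') ((yon S).map p' ≫ fst')
      (Groth.Agent.Helper2.AlgSpBasic.fieldPtOfHom (μ ≫ U.hom) ((yon S).map μ' ≫ a)).toHom w := by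
    rw [hqhom]
    exact big
  constructor
  · intro H
    have hd : DegLE c k := H _ hqmk T' c' _ big'
    have := fibDegLE_of_degLE snd'.left μ c p sqT hd
    rw [e] at this
    exact this
  · intro H
    have hd : DegLE c k := H K μ (fun z => by
      rw [← e]; congr 1; exact Subsingleton.elim (α := PrimeSpectrum K) _ _) T c p sqT
    rw [← hqmk]
    exact ptDegLE_of_degLE w _ c' _ big' hd

end Groth.Agent.Helper2.PtDeg
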