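import Mathlib
import Groth.Agent.Lib.Helper2.AlgSp.PtDeg
import Groth.Prelude.Def_AlgSpMor5
import Groth.Prelude.Def_AlgSpSub

/-!
# The stratification of an algebraic space by fibre degree (helper2)
-/

set_option autoImplicit false
set_option linter.style.haveILetI false

open CategoryTheory CategoryTheory.Limits AlgebraicGeometry Opposite AlgSp

universe u

namespace Groth.Agent.Helper2.PtDeg

open Groth.Agent.Helper2.UBAlg Groth.Agent.Helper2.FibDeg

variable {S : Scheme.{u}}

section
variable {F : Sp S} {W : Over S} (w : (yon S).obj W ⟶ F) (hfl : RepWith @Flat w)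
  (hfp : RepWith @LocallyOfFinitePresentation w) (hsep : RepWith @IsSeparated w)
  (hqf : RepWith @LocallyQuasiFinite w)

include hfl hfp hsep hqf

/-- The locus where the fibre degree is at most `k` is closed. -/
theorem isClosed_ptDegLE (k : ℕ) : IsClosed {x : Points F | PtDegLE w x k} := by
  rw [← isOpen_compl_iff, Points.isOpen_iff]
  intro T g
  have hrep := hfl.rep
  have sq' := hrep.isPullback g
  haveI : Flat (hrep.snd g).left := hfl.property g _ _ sq'
  haveI : LocallyOfFinitePresentation (hrep.snd g).left := hfp.property g _ _ sq'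
  haveI : IsSeparated (hrep.snd g).left := hsep.property g _ _ sq'
  haveI : LocallyQuasiFinite (hrep.snd g).left := hqf.property g _ _ sq'
  rw [isOpen_iff_forall_mem_open]
  intro t ht
  have ht' : ¬ FibDegLE (hrep.snd g).left t k := fun H =>
    ht ((ptDegLE_ofPt_iff w g _ _ sq' t k).2 H)
  obtain ⟨O, htO, hO⟩ := exists_open_not_fibDegLE' (hrep.snd g).left t k ht'
  exact ⟨O, fun y hy hy' => hO y hy ((ptDegLE_ofPt_iff w g _ _ sq' y k).1 hy'), O.2, htO⟩

/-- The flattening criterion over an algebraic space. -/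
theorem isFinLocFreeOfDegMor_iff (r : ℕ) {T P : Sp S} (g : T ⟶ F) (fst : P ⟶ (yon S).obj W)
    (snd : P ⟶ T) (sq : IsPullback fst snd w g) :
    IsFinLocFreeOfDegMor r snd ↔
      ∀ τ : Points T, PtDegLE w (Points.map g τ) r ∧ ∀ k, PtDegLE w (Points.map g τ) k → r ≤ k := by
  constructor
  · intro h τ
    induction τ using Points.ind with | h q => ?_
    have hrepS := h.rep
    have sqq := hrepS.isPullback q.toHom
    have hc : Mor2.IsFinLocFreeOfDeg r (hrepS.snd q.toHom).left := h.property q.toHom _ _ sqq
    have big := sqq.paste_horiz sq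
    have big' : IsPullback ((yon S).map (hrepS.snd q.toHom)) (hrepS.fst q.toHom ≫ fst)
        (q.map g).toHom w := by
      rw [FieldPt.toHom_map]
      exact big.flip
    obtain ⟨⟨h1, h2, h3⟩, hr⟩ := hc
    haveI := h1
    have hdeg : ∀ k, DegLE (hrepS.snd q.toHom).left k ↔ r ≤ k := by
      intro k
      rw [degLE_iff]
      have : fdeg (hrepS.snd q.toHom).left = r := hr _
      rw [this]
      exact ⟨fun h => h.2, fun h => ⟨h1, h⟩⟩
    rw [Points.map_mk]
    refine ⟨ptDegLE_of_degLE w (q.map g) (hrepS.snd q.toHom) _ big' ((hdeg r).2 le_rfl), ?_⟩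
    intro k Hk
    exact (hdeg k).1 (Hk (q.map g) rfl _ (hrepS.snd q.toHom) _ big')
  · intro H
    have hrepS : Representable snd :=
      (Groth.Agent.Helper2.AlgSpBasic.repWith_of_isPullback @Flat sq hfl).rep
    refine ⟨hrepS, fun U V g' fst' snd' sq' => ?_⟩
    have big := sq'.paste_horiz sq
    haveI : Flat snd'.left := hfl.property _ _ _ big
    haveI : LocallyOfFinitePresentation snd'.left := hfp.property _ _ _ big
    haveI : IsSeparated snd'.left := hsep.property _ _ _ big
    haveI : LocallyQuasiFinite snd'.left := hqf.property _ _ _ big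
    have hpt : ∀ u : ↥U.left, Points.ofPt (g' ≫ g) u = Points.map g (Points.ofPt g' u) :=
      fun u => (Points.map_ofPt g' g u).symm
    show Mor2.IsFinLocFreeOfDeg r snd'.left
    apply isFinLocFreeOfDeg_of_fibDeg
    · intro u
      rw [← ptDegLE_ofPt_iff w (g' ≫ g) _ _ big u r, hpt]
      exact (H _).1
    · intro u k hk
      rw [← ptDegLE_ofPt_iff w (g' ≫ g) _ _ big u k, hpt] at hk
      exact (H _).2 k hk

end

end Groth.Agent.Helper2.PtDeg
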