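import Mathlib

/-!
# Quasi-finite algebras of finite type have universally bounded fibres (helper2)
-/

set_option autoImplicit false
set_option linter.style.haveILetI false

open TensorProduct

universe u

namespace Groth.Agent.Helper2.UBAlg

/-- Base change of a module spanned by `N` elements has dimension at most `N`. -/
theorem finrank_baseChange_le_of_span {R M : Type*} [CommRing R] [AddCommGroup M] [Module R M]
    (L : Type*) [Field L] [Algebra R L] {N : ℕ} (s : Fin N → M)
    (hs : Submodule.span R (Set.range s) = ⊤) :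
    Module.Finite L (L ⊗[R] M) ∧ Module.finrank L (L ⊗[R] M) ≤ N := by
  let f : (Fin N → R) →ₗ[R] M := Fintype.linearCombination R s
  have hf : Function.Surjective f := by
    rw [← LinearMap.range_eq_top, Fintype.range_linearCombination, hs]
  have hsurj : Function.Surjective (f.baseChange L) := by
    have : ⇑(f.baseChange L) = ⇑(f.lTensor L) := by
      ext x; rfl
    rw [this]
    exact LinearMap.lTensor_surjective L hf
  haveI : Module.Finite L (L ⊗[R] (Fin N → R)) := inferInstance
  refine ⟨Module.Finite.of_surjective _ hsurj, ?_⟩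
  have h1 := LinearMap.finrank_le_finrank_of_surjective hsurj
  haveI : Nontrivial R := (algebraMap R L).domain_nontrivial
  have h2 : Module.finrank L (L ⊗[R] (Fin N → R)) = N := by
    rw [Module.finrank_baseChange, Module.finrank_fin_fun]
  exact h1.trans h2.le

end Groth.Agent.Helper2.UBAlg

namespace Groth.Agent.Helper2.UBAlg

/-- Base change of a localization at one element of an algebra spanned by `N` elements. -/
theorem finrank_tensor_away_le {R A : Type*} [CommRing R] [CommRing A] [Algebra R A]
    (L : Type*) [Field L] [Algebra R L] {N : ℕ} (s : Fin N → A)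
    (hs : Submodule.span R (Set.range s) = ⊤) (r : A) :
    Module.Finite L (L ⊗[R] Localization.Away r) ∧
      Module.finrank L (L ⊗[R] Localization.Away r) ≤ N := by
  obtain ⟨h1, h2⟩ := finrank_baseChange_le_of_span L s hs
  haveI := h1
  haveI : IsArtinianRing (L ⊗[R] A) := IsArtinianRing.of_finite L _
  let b : L ⊗[R] A := (1 : L) ⊗ₜ[R] r
  have hsurj : Function.Surjective (algebraMap (L ⊗[R] A) (Localization.Away b)) :=
    IsArtinianRing.localization_surjective (Submonoid.powers b) _
  let g : (L ⊗[R] A) →ₗ[L] Localization.Away b :=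
    (IsScalarTower.toAlgHom L (L ⊗[R] A) (Localization.Away b)).toLinearMap
  have hg : Function.Surjective g := hsurj
  let e := IsLocalization.Away.tensorProductEquivTMulRight R L r (Localization.Away r)
  haveI : Module.Finite L (Localization.Away b) := Module.Finite.of_surjective g hg
  refine ⟨Module.Finite.equiv e.symm.toLinearEquiv, ?_⟩
  rw [e.toLinearEquiv.finrank_eq]
  exact (LinearMap.finrank_le_finrank_of_surjective hg).trans h2

end Groth.Agent.Helper2.UBAlg

namespace Groth.Agent.Helper2.UBAlg


/-- An element vanishing in the localizations at a family of elements spanning the unit ideal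
vanishes. -/
theorem eq_zero_of_forall_away {B : Type*} [CommRing B] {ι : Type*} (t : Finset ι) (b : ι → B)
    (hspan : Ideal.span (b '' (t : Set ι)) = ⊤) (x : B)
    (hx : ∀ p ∈ t, algebraMap B (Localization.Away (b p)) x = 0) : x = 0 := by
  have h1 : ∀ p ∈ t, ∃ n : ℕ, b p ^ n * x = 0 := by
    intro p hp
    obtain ⟨⟨_, n, rfl⟩, hm⟩ := (IsLocalization.map_eq_zero_iff (Submonoid.powers (b p))
      (Localization.Away (b p)) x).mp (hx p hp)
    exact ⟨n, hm⟩
  choose! n hn using h1
  let m := t.sup n
  have h2 : ∀ p ∈ t, b p ^ m * x = 0 := by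
    intro p hp
    have hle : n p ≤ m := Finset.le_sup hp
    obtain ⟨k, hk⟩ := Nat.exists_eq_add_of_le hle
    rw [hk, pow_add, mul_comm (b p ^ n p), mul_assoc, hn p hp, mul_zero]
  have hspan' := Ideal.span_pow_eq_top _ hspan m
  let I : Ideal B := LinearMap.ker (LinearMap.toSpanSingleton B B x)
  have hI : Ideal.span ((fun y => y ^ m) '' (b '' (t : Set ι))) ≤ I := by
    rw [Ideal.span_le]
    rintro _ ⟨_, ⟨p, hp, rfl⟩, rfl⟩
    show LinearMap.toSpanSingleton B B x (b p ^ m) = 0
    rw [LinearMap.toSpanSingleton_apply, smul_eq_mul]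
    exact h2 p hp
  rw [hspan'] at hI
  have : (1 : B) ∈ I := hI Submodule.mem_top
  have h3 : LinearMap.toSpanSingleton B B x 1 = 0 := this
  rwa [LinearMap.toSpanSingleton_apply, one_smul] at h3

/-- A quasi-finite algebra of finite type has universally bounded fibre dimensions. -/
theorem exists_bound_of_quasiFinite (R S : Type u) [CommRing R] [CommRing S] [Algebra R S]
    [Algebra.FiniteType R S] [Algebra.QuasiFinite R S] :
    ∃ N : ℕ, ∀ (L : Type u) [Field L] [Algebra R L],
      Module.Finite L (L ⊗[R] S) ∧ Module.finrank L (L ⊗[R] S) ≤ N := by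
  -- local data at each prime
  have hloc : ∀ p : PrimeSpectrum S, ∃ (r : S) (N : ℕ), r ∉ p.asIdeal ∧
      ∀ (L : Type u) [Field L] [Algebra R L],
        Module.Finite L (L ⊗[R] Localization.Away r) ∧
          Module.finrank L (L ⊗[R] Localization.Away r) ≤ N := by
    intro p
    obtain ⟨S', hS', r, hrp, hbij⟩ :=
      Algebra.QuasiFiniteAt.exists_fg_and_exists_notMem_and_awayMap_bijective (R := R) p.asIdeal
    haveI : Module.Finite R S' := ⟨(Submodule.fg_top _).mpr hS'⟩
    obtain ⟨N, s, hs⟩ := Module.Finite.exists_fin (R := R) (M := S')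
    refine ⟨r.1, N, hrp, ?_⟩
    intro L _ _
    obtain ⟨h1, h2⟩ := finrank_tensor_away_le (R := R) (A := S') L s hs r
    let e₀ : Localization.Away r ≃ₐ[R] Localization.Away (S'.val r) :=
      AlgEquiv.ofBijective (Localization.awayMapₐ S'.val r) hbij
    let e₁ : (L ⊗[R] Localization.Away r) ≃ₐ[L] (L ⊗[R] Localization.Away (S'.val r)) :=
      Algebra.TensorProduct.congr AlgEquiv.refl e₀
    haveI := h1
    refine ⟨Module.Finite.equiv e₁.toLinearEquiv, ?_⟩
    exact (e₁.toLinearEquiv.finrank_eq.symm.le).trans h2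
  choose r N hr hN using hloc
  -- compactness
  have hcover : (Set.univ : Set (PrimeSpectrum S)) ⊆ ⋃ p, (PrimeSpectrum.basicOpen (r p) : Set _) :=
    fun p _ => Set.mem_iUnion.mpr ⟨p, hr p⟩
  obtain ⟨t, ht⟩ := isCompact_univ.elim_finite_subcover _
    (fun p => (PrimeSpectrum.basicOpen (r p)).2) hcover
  refine ⟨∑ p ∈ t, N p, ?_⟩
  intro L _ _
  -- the elements `1 ⊗ r p` span the unit ideal
  have hspanS : Ideal.span ((fun p => r p) '' (t : Set (PrimeSpectrum S))) = ⊤ := by
    rw [← PrimeSpectrum.zeroLocus_empty_iff_eq_top, PrimeSpectrum.zeroLocus_span]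
    ext q
    simp only [Set.mem_empty_iff_false, iff_false]
    intro hq
    obtain ⟨p, hp, hqp⟩ := Set.mem_iUnion₂.mp (ht (Set.mem_univ q))
    exact hqp (hq ⟨p, hp, rfl⟩)
  let b : PrimeSpectrum S → L ⊗[R] S := fun p => (1 : L) ⊗ₜ[R] r p
  have hspanB : Ideal.span (b '' (t : Set (PrimeSpectrum S))) = ⊤ := by
    have h1 : Ideal.map (Algebra.TensorProduct.includeRight : S →ₐ[R] L ⊗[R] S).toRingHom
        (Ideal.span ((fun p => r p) '' (t : Set (PrimeSpectrum S)))) = ⊤ := by
      rw [hspanS, Ideal.map_top]
    rw [Ideal.map_span, ← Set.image_comp] at h1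
    exact h1
  -- the comparison map
  let G : (L ⊗[R] S) →ₗ[L] (∀ p : t, Localization.Away (b p.1)) :=
    LinearMap.pi fun p =>
      (IsScalarTower.toAlgHom L (L ⊗[R] S) (Localization.Away (b p.1))).toLinearMap
  have hG : Function.Injective G := by
    rw [injective_iff_map_eq_zero]
    intro x hx
    refine eq_zero_of_forall_away t b hspanB x (fun p hp => ?_)
    exact congrFun hx ⟨p, hp⟩
  have hfin : ∀ p : t, Module.Finite L (Localization.Away (b p.1)) ∧
      Module.finrank L (Localization.Away (b p.1)) ≤ N p.1 := by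
    intro p
    obtain ⟨h1, h2⟩ := hN p.1 L
    let e := IsLocalization.Away.tensorProductEquivTMulRight R L (r p.1)
      (Localization.Away (r p.1))
    haveI := h1
    exact ⟨Module.Finite.equiv e.toLinearEquiv, (e.toLinearEquiv.finrank_eq.symm.le).trans h2⟩
  haveI : ∀ p : t, Module.Finite L (Localization.Away (b p.1)) := fun p => (hfin p).1
  haveI : IsNoetherian L (∀ p : t, Localization.Away (b p.1)) :=
    IsNoetherian.iff_fg.mpr inferInstance
  refine ⟨Module.Finite.of_injective G hG, ?_⟩
  calc Module.finrank L (L ⊗[R] S)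
      ≤ Module.finrank L (∀ p : t, Localization.Away (b p.1)) :=
        LinearMap.finrank_le_finrank_of_injective hG
    _ = ∑ p : t, Module.finrank L (Localization.Away (b p.1)) := Module.finrank_pi_fintype L
    _ ≤ ∑ p : t, N p.1 := Finset.sum_le_sum fun p _ => (hfin p).2
    _ = ∑ p ∈ t, N p := Finset.sum_coe_sort t N

end Groth.Agent.Helper2.UBAlg
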