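import Mathlib
import Groth.Agent.Lib.Helper2.AlgSp.UBSch
import Groth.Agent.Lib.Helper2.AlgSp.UBQf

/-!
# Quasi-finite morphisms of affine schemes have universally bounded fibres; descent of degree
bounds along finite flat covers (helper2)
-/

set_option autoImplicit false
set_option linter.style.haveILetI false

open CategoryTheory CategoryTheory.Limits AlgebraicGeometry TensorProduct

universe u

namespace Groth.Agent.Helper2.UBAlg

/-- étale morphisms are locally quasi-finite -/
theorem lqf_of_etale' {X Y : Scheme.{u}} (f : X ⟶ Y) [Etale f] : LocallyQuasiFinite f := by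
  rw [HasRingHomProperty.iff_appLE (P := @LocallyQuasiFinite)]
  intro U V e
  have h1 := (HasRingHomProperty.iff_appLE (P := @FormallyUnramified)).mp inferInstance U V e
  have h2 := (HasRingHomProperty.iff_appLE (P := @LocallyOfFiniteType)).mp inferInstance U V e
  algebraize [(f.appLE U V e).hom]
  rw [← RingHom.algebraMap_toAlgebra (f.appLE U V e).hom, RingHom.quasiFinite_algebraMap]
  infer_instance

/-- A quasi-finite morphism of finite type between spectra has universally bounded fibres. -/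
theorem exists_degLE_of_quasiFinite_spec {A B : Type u} [CommRing A] [CommRing B] [Algebra A B]
    [Algebra.FiniteType A B] [Algebra.QuasiFinite A B] :
    ∃ N : ℕ, ∀ (L : Type u) [Field L] (y : Spec (.of L) ⟶ Spec (.of A)) (F : Scheme.{u})
      (p₁ : F ⟶ Spec (.of L)) (p₂ : F ⟶ Spec (.of B)),
      IsPullback p₁ p₂ y (Spec.map (CommRingCat.ofHom (algebraMap A B))) → DegLE p₁ N := by
  obtain ⟨N, hN⟩ := exists_bound_of_quasiFinite A B
  refine ⟨N, ?_⟩
  intro L _ y F p₁ p₂ sq
  obtain ⟨ψ, rfl⟩ := Spec.map_surjective y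
  algebraize [ψ.hom]
  have hpo := CommRingCat.isPushout_tensorProduct A L B
  have hpb := isPullback_SpecMap_of_isPushout _ _ _ _ hpo
  let e : F ≅ Spec (.of (L ⊗[A] B)) := sq.isoIsPullback _ _ hpb
  have he : e.hom ≫ Spec.map (CommRingCat.ofHom (algebraMap L (L ⊗[A] B))) = p₁ :=
    sq.isoIsPullback_hom_fst _ _ hpb
  rw [degLE_of_iso e _ _ he, degLE_specMap_iff]
  exact hN L

/-- A quasi-finite morphism of finite type between affine schemes has universally bounded
fibres. -/
theorem exists_degLE_of_quasiFinite_affine {X Y : Scheme.{u}} [IsAffine X] [IsAffine Y]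
    (f : X ⟶ Y) [LocallyQuasiFinite f] [LocallyOfFiniteType f] :
    ∃ N : ℕ, ∀ (L : Type u) [Field L] (y : Spec (.of L) ⟶ Y) (F : Scheme.{u})
      (p₁ : F ⟶ Spec (.of L)) (p₂ : F ⟶ X), IsPullback p₁ p₂ y f → DegLE p₁ N := by
  have h1 : RingHom.FiniteType f.appTop.hom :=
    HasRingHomProperty.appTop (P := @LocallyOfFiniteType) f inferInstance
  have h2 : RingHom.QuasiFinite f.appTop.hom :=
    HasRingHomProperty.appTop (P := @LocallyQuasiFinite) f inferInstance
  algebraize [f.appTop.hom]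
  obtain ⟨N, hN⟩ := exists_degLE_of_quasiFinite_spec (A := Γ(Y, ⊤)) (B := Γ(X, ⊤))
  refine ⟨N, ?_⟩
  intro L _ y F p₁ p₂ sq
  have hnat := Scheme.isoSpec_hom_naturality f
  have sq' : IsPullback p₁ (p₂ ≫ X.isoSpec.hom) (y ≫ Y.isoSpec.hom)
      (Spec.map (CommRingCat.ofHom (algebraMap Γ(Y, ⊤) Γ(X, ⊤)))) := by
    have : CommRingCat.ofHom (algebraMap Γ(Y, ⊤) Γ(X, ⊤)) = f.appTop := rfl
    rw [this]
    refine IsPullback.of_iso sq (Iso.refl _) (Iso.refl _) X.isoSpec Y.isoSpec ?_ ?_ ?_ ?_
    · simp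
    · simp
    · simp
    · exact hnat.symm
  exact hN L _ F p₁ _ sq'

/-- Descent of the degree bound along a finite flat jointly surjective family. -/
theorem degLE_of_flat_cover {T : Scheme.{u}} {K : Type u} [Field K] (c : T ⟶ Spec (.of K))
    {ι : Type u} [Fintype ι] (Tk : ι → Scheme.{u}) (π : ∀ k, Tk k ⟶ T) [∀ k, Flat (π k)]
    (hsurj : ∀ t : T, ∃ k, t ∈ Set.range (π k)) (d : ι → ℕ)
    (h : ∀ k, DegLE (π k ≫ c) (d k)) : DegLE c (∑ k, d k) := by
  haveI : ∀ k, IsAffine (Tk k) := fun k => by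
    haveI := (h k).1
    exact isAffine_of_isAffineHom (π k ≫ c)
  choose A hA1 hA2 e he using fun k => exists_algebra (π k ≫ c)
  letI := hA1
  letI := hA2
  have hfin : ∀ k, Module.Finite K (A k) ∧ Module.finrank K (A k) ≤ d k := fun k => by
    have := h k
    rwa [degLE_of_iso (e k) _ _ (he k), degLE_specMap_iff] at this
  -- the coproduct
  let R : ι → CommRingCat.{u} := fun k => CommRingCat.of (A k)
  let m : (∐ Tk) ⟶ Spec (.of (∀ k, A k)) :=
    Sigma.desc (fun k => (e k).hom ≫ Spec.map (CommRingCat.ofHom (Pi.evalRingHom (fun k => A k) k)))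
  have hm : m = Limits.Sigma.map (fun k => (e k).hom) ≫ sigmaSpec R := by
    apply Sigma.hom_ext
    intro k
    rw [Sigma.ι_desc, Limits.Sigma.ι_map_assoc, ι_sigmaSpec]
  haveI : IsIso m := by
    rw [hm]
    infer_instance
  have hE : m ≫ Spec.map (CommRingCat.ofHom (algebraMap K (∀ k, A k))) =
      Sigma.desc π ≫ c := by
    apply Sigma.hom_ext
    intro k
    rw [Sigma.ι_desc_assoc, Sigma.ι_desc_assoc, Category.assoc, ← Spec.map_comp, ← he k]
    rfl
  haveI : Flat (Sigma.desc π) := inferInstance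
  haveI : Surjective (Sigma.desc π) := by
    refine ⟨fun t => ?_⟩
    obtain ⟨k, x, rfl⟩ := hsurj t
    refine ⟨Sigma.ι Tk k x, ?_⟩
    rw [← Scheme.Hom.comp_apply, Sigma.ι_desc]
  apply degLE_of_flat_surjective c (Sigma.desc π)
  rw [← hE, degLE_of_iso (asIso m) _ (Spec.map (CommRingCat.ofHom (algebraMap K (∀ k, A k))))
    (by rw [asIso_hom]), degLE_specMap_iff]
  haveI : ∀ k, Module.Finite K (A k) := fun k => (hfin k).1
  refine ⟨inferInstance, ?_⟩
  rw [Module.finrank_pi_fintype]
  exact Finset.sum_le_sum fun k _ => (hfin k).2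

end Groth.Agent.Helper2.UBAlg
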