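import Mathlib
import Groth.Agent.Lib.Helper2.AlgSp.PtDeg2
import Groth.Agent.Lib.Helper2.AlgSp.FinLocFreeQuot3
import Groth.Agent.S10428
import Groth.Agent.Lib.Helper2.AlgSp.Sep
import Groth.Agent.Lib.Helper2.AlgSp.UBEt

/-!
# Open subschemes of algebraic spaces with an étale chart with universally bounded fibres (helper2)
-/

set_option autoImplicit false
set_option linter.style.haveILetI false

open CategoryTheory CategoryTheory.Limits AlgebraicGeometry Opposite AlgSp

universe u

namespace Groth.Agent.Helper2.DecentOpen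

open Groth.Agent.Helper2.UBAlg Groth.Agent.Helper2.FibDeg Groth.Agent.Helper2.PtDeg
open Groth.Agent.Helper2.AlgSpBasic Groth.Agent.Helper2.LargestSch

variable {S : Scheme.{u}}

/-- A point outside of the image of `b` has empty fibre. -/
theorem ptDegLE_zero_of_not_mem_range {F : Sp S} {V : Over S} (b : (yon S).obj V ⟶ F)
    (x : Points F) (hx : x ∉ Set.range (Points.ofPt b)) : PtDegLE b x 0 := by
  intro q hq T c snd sq
  by_cases hT : IsEmpty ↥T.left
  · exact Groth.Agent.Helper2.UBSp.degLE_of_isEmpty c.left 0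
  exfalso
  rw [not_isEmpty_iff] at hT
  obtain ⟨t⟩ := hT
  obtain ⟨snd₀, rfl⟩ := (yon S).map_surjective snd
  apply hx
  refine ⟨snd₀.left t, ?_⟩
  rw [← ofPt_yon_map_comp, ← sq.w, ofPt_yon_map_comp, Points.ofPt_toHom]
  exact hq

/-- The properties of an étale chart from an affine scheme. -/
theorem repWith_of_etale_affine {F : Sp S} {V : Over S} [IsAffine V.left] (b : (yon S).obj V ⟶ F)
    (hbe : RepWith @Etale b) :
    RepWith @Flat b ∧ RepWith @LocallyOfFinitePresentation b ∧ RepWith @IsSeparated b ∧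
      RepWith @LocallyQuasiFinite b := by
  refine ⟨repWith_flat_of_etale hbe, repWith_lfp_of_etale hbe,
    repWith_isSeparated_of_isSeparated_source b hbe.rep, ?_⟩
  exact repWith_mono (fun _ _ g (hg : Etale g) => lqf_of_etale' g) hbe

/-- The schematic locus of an open subspace maps into the schematic locus. -/
theorem map_openSubι_mem_schLocus {X : Sp S} (hX : IsAlgSpace X) {E : Set (Points X)}
    (hE : IsOpen E) (x' : Points (openSub X E)) (hx' : x' ∈ schLocus (openSub X E)) :
    Points.map (openSubι X E) x' ∈ schLocus X := by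
  obtain ⟨V'', hV'', hxV, W, ⟨e⟩⟩ := hx'
  have hXE := isAlgSpace_openSub hX hE
  have hX'' := isAlgSpace_openSub hXE hV''
  have hj : RepWith @IsOpenImmersion (openSubι (openSub X E) V'' ≫ openSubι X E) :=
    repWith_comp @IsOpenImmersion (repWith_isOpenImmersion_openSubι _ hV'')
      (repWith_isOpenImmersion_openSubι _ hE)
  obtain ⟨p, hp⟩ : x' ∈ Set.range (Points.map (openSubι (openSub X E) V'')) := by
    rw [range_points_map_openSubι]; exact hxV
  have := points_map_mem_schLocus hX hX'' _ hj e p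
  rw [Points.map_comp, hp] at this
  exact this

/-- The form of `PtDegLE` for a morphism from the spectrum of a field. -/
theorem PtDegLE.apply_hom {F : Sp S} {W : Over S} {w : (yon S).obj W ⟶ F} {x : Points F} {k : ℕ}
    (H : PtDegLE w x k) {K : Type u} [Field K] (str : Spec (CommRingCat.of K) ⟶ S)
    (μ : (yon S).obj (Over.mk str) ⟶ F)
    (hμ : Points.ofPt μ (IsLocalRing.closedPoint K) = x) (T : Over S) (c : T ⟶ Over.mk str)
    (snd : (yon S).obj T ⟶ (yon S).obj W) (sq : IsPullback ((yon S).map c) snd μ w) :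
    DegLE c.left k := by
  have h1 : (fieldPtOfHom str μ).toHom = μ := Groth.Agent.Helper2.FieldQuot.toHom_fieldPtOfHom _ _
  have h2 : Points.mk (fieldPtOfHom str μ) = x := by
    rw [Groth.Agent.Helper2.FieldQuot.mk_fieldPtOfHom str μ (IsLocalRing.closedPoint K)]
    exact hμ
  refine H (fieldPtOfHom str μ) h2 T c snd ?_
  rw [h1]
  exact sq

/-- A bound on the fibre degree at `x` bounds the number of points of the chart over `x`. -/
theorem encard_fiber_le_of_ptDegLE {F : Sp S} (hF : Representable (Limits.diag F)) {U : Over S}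
    (φ : (yon S).obj U ⟶ F) (x : Points F) (n : ℕ) (H : PtDegLE φ x n) :
    (Points.ofPt φ ⁻¹' {x}).encard ≤ n := by
  by_cases hne : (Points.ofPt φ ⁻¹' {x}).Nonempty
  swap
  · rw [Set.not_nonempty_iff_eq_empty] at hne
    rw [hne, Set.encard_empty]
    exact zero_le
  obtain ⟨u₀, hu₀⟩ := hne
  let str : Spec (CommRingCat.of ↑(U.left.residueField u₀)) ⟶ S :=
    U.left.fromSpecResidueField u₀ ≫ U.hom
  let ι₀ : Over.mk str ⟶ U := Over.homMk (U.left.fromSpecResidueField u₀) rfl
  obtain ⟨W, fst, snd, sq⟩ := exists_isPullback_yon hF ((yon S).map ι₀ ≫ φ) φ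
  let cu : ↥(Over.mk str).left := IsLocalRing.closedPoint ↥(U.left.residueField u₀)
  have hcu : ι₀.left cu = u₀ := Scheme.fromSpecResidueField_apply u₀ cu
  have hd := PtDegLE.apply_hom H str ((yon S).map ι₀ ≫ φ) (by
    rw [ofPt_yon_map_comp]
    show Points.ofPt φ (ι₀.left cu) = x
    rw [hcu]; exact hu₀) W fst ((yon S).map snd) sq
  obtain ⟨hfin, hcard⟩ := card_le_of_degLE fst.left hd
  haveI := hfin
  have hsub : Points.ofPt φ ⁻¹' {x} ⊆ Set.range snd.left := by
    intro u hu
    have e : Points.ofPt ((yon S).map ι₀ ≫ φ) cu = Points.ofPt φ u := by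
      rw [ofPt_yon_map_comp, hcu]
      exact hu₀.trans hu.symm
    obtain ⟨w, -, hw⟩ := exists_point_of_isPullback_yon ((yon S).map ι₀ ≫ φ) φ fst snd sq cu u e
    exact ⟨w, hw⟩
  calc (Points.ofPt φ ⁻¹' {x}).encard ≤ (Set.range snd.left).encard := Set.encard_mono hsub
    _ ≤ (Set.univ : Set ↥W.left).encard := by
      rw [← Set.image_univ]; exact Set.encard_image_le _ _
    _ = (Nat.card ↥W.left : ℕ∞) := by
      rw [Set.encard_univ, ENat.card_eq_coe_natCard]
    _ ≤ n := by exact_mod_cast hcard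

/-- **Reasonable case.** If an affine scheme `U` has an étale morphism to the algebraic space `X`
whose fibre degrees are bounded over a nonempty open `D` of `U`, then some point of the image of `D`
lies in the schematic locus. -/
theorem exists_mem_schLocus_of_bdd_on_open (X : Space S) {V : Over S} [IsAffine V.left]
    (b : (yon S).obj V ⟶ X.obj) (hbe : RepWith @Etale b) (D : V.left.Opens) (d : ℕ)
    (hD : ∀ u ∈ D, PtDegLE b (Points.ofPt b u) d) (v : V.left) (hv : v ∈ D) :
    ∃ v₀ ∈ D, Points.ofPt b v₀ ∈ schLocus X.obj := by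
  classical
  obtain ⟨hfl, hfp, hsep, hqf⟩ := repWith_of_etale_affine b hbe
  -- the degree function
  have hex : ∀ v : D, ∃ k, PtDegLE b (Points.ofPt b v.1) k := fun v => ⟨d, hD v.1 v.2⟩
  let deg : D → ℕ := fun v => Nat.find (hex v)
  have hdeg : ∀ (v : D) k, deg v ≤ k ↔ PtDegLE b (Points.ofPt b v.1) k := fun v k =>
    ⟨fun h => (Nat.find_spec (hex v)).mono h, fun h => Nat.find_min' (hex v) h⟩
  have hbdd : BddAbove (Set.range deg) :=
    ⟨d, by rintro _ ⟨v, rfl⟩; exact (hdeg v d).2 (hD v.1 v.2)⟩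
  have hne : (Set.range deg).Nonempty := ⟨deg ⟨v, hv⟩, ⟨v, hv⟩, rfl⟩
  obtain ⟨⟨v₀, hv₀D⟩, hv₀⟩ := Nat.sSup_mem hne hbdd
  obtain ⟨m, hm⟩ : ∃ m, m = deg ⟨v₀, hv₀D⟩ := ⟨_, rfl⟩
  have hmax : ∀ v, deg v ≤ m := fun v => by rw [hm, hv₀]; exact le_csSup hbdd ⟨v, rfl⟩
  -- the open set `E`
  obtain ⟨E, hEdef⟩ : ∃ E : Set (Points X.obj),
      E = Points.ofPt b '' (D : Set V.left) ∩ {x | m = 0 ∨ ¬ PtDegLE b x (m - 1)} := ⟨_, rfl⟩
  have hE : IsOpen E := by
    rw [hEdef]
    refine (Groth.Agent.Helper2.ImmDescent.isOpenMap_ofPt_of_flat_lfp b hfl hfp _ D.isOpen).inter ?_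
    by_cases h0 : m = 0
    · have : {x : Points X.obj | m = 0 ∨ ¬ PtDegLE b x (m - 1)} = Set.univ := by
        ext x; simp [h0]
      rw [this]; exact isOpen_univ
    · have : {x : Points X.obj | m = 0 ∨ ¬ PtDegLE b x (m - 1)} =
          {x | PtDegLE b x (m - 1)}ᶜ := by ext x; simp [h0]
      rw [this]
      exact (isClosed_ptDegLE b hfl hfp hsep hqf (m - 1)).isOpen_compl
  have hv₀E : Points.ofPt b v₀ ∈ E := by
    rw [hEdef]
    refine ⟨⟨v₀, hv₀D, rfl⟩, ?_⟩
    by_cases h0 : m = 0
    · exact Or.inl h0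
    · right
      intro H
      have := (hdeg ⟨v₀, hv₀D⟩ (m - 1)).2 H
      omega
  have hexact : ∀ x ∈ E, PtDegLE b x m ∧ ∀ k, PtDegLE b x k → m ≤ k := by
    intro x hx
    rw [hEdef] at hx
    obtain ⟨⟨v', hv'D, rfl⟩, hx⟩ := hx
    constructor
    · exact (hdeg ⟨v', hv'D⟩ m).1 (hmax _)
    · intro k Hk
      rcases hx with h0 | hx
      · omega
      · by_contra hlt
        exact hx (Hk.mono (by omega))
  -- the restricted chart
  have sqE := isPullback_openSub_yon b hE
  obtain ⟨bE, hbE⟩ : ∃ bE, bE = openSubLift E ((yon S).map (preimageOverι b hE) ≫ b)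
    (points_map_preimageOverι_mem b hE) := ⟨_, rfl⟩
  rw [← hbE] at sqE
  have hbEι : bE ≫ openSubι X.obj E = (yon S).map (preimageOverι b hE) ≫ b := by
    rw [hbE, openSubLift_ι]
  have hfin : IsFinLocFreeOfDegMor m bE := by
    rw [isFinLocFreeOfDegMor_iff b hfl hfp hsep hqf m (openSubι X.obj E) _ _ sqE.flip]
    intro τ
    exact hexact _ (points_map_openSubι_mem X.obj E τ)
  have hfin' : RepWith finLocFree bE := repWith_mono (fun _ _ _ h => h.1) hfin
  -- the orbit of `v₀`
  have horbfin : (Points.ofPt b ⁻¹' {Points.ofPt b v₀}).Finite :=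
    Set.finite_of_encard_le_coe (encard_fiber_le_of_ptDegLE X.property.diag b _ d (hD v₀ hv₀D))
  have horbE : Points.ofPt b ⁻¹' {Points.ofPt b v₀} ⊆ (preimageOpens b hE : Set V.left) := by
    intro v' hv'
    show Points.ofPt b v' ∈ E
    rw [hv']; exact hv₀E
  obtain ⟨f, hf1, hf2⟩ := Groth.Agent.Helper2.GrpdLib.InvOpen.exists_basicOpen_of_finite_subset
    (isAffineOpen_top V.left) (preimageOpens b hE) _ horbfin horbE (fun _ _ => trivial)
  have hVaff : IsAffineOpen ((preimageOpens b hE).ι ⁻¹ᵁ V.left.basicOpen f) := by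
    apply IsAffineOpen.preimage_of_isOpenImmersion ((isAffineOpen_top V.left).basicOpen f)
    rw [Scheme.Opens.opensRange_ι]; exact hf2
  have hofPt : ∀ u' : (preimageOver b hE).left,
      Points.map (openSubι X.obj E) (Points.ofPt bE u') =
        Points.ofPt b ((preimageOpens b hE).ι u') := by
    intro u'
    rw [Points.map_ofPt, hbEι, ofPt_yon_map_comp]
    rfl
  have key := Groth.Agent.Helper2.FinLocFreeQuot.mem_schLocus_of_orbit_subset_affine bE hfin'
    (⟨v₀, hv₀E⟩ : (preimageOver b hE).left) _ hVaff (by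
      intro u' hu'
      show (preimageOpens b hE).ι u' ∈ V.left.basicOpen f
      apply hf1
      show Points.ofPt b ((preimageOpens b hE).ι u') = Points.ofPt b v₀
      have := congrArg (Points.map (openSubι X.obj E)) hu'
      rw [hofPt, hofPt] at this
      exact this)
  refine ⟨v₀, hv₀D, ?_⟩
  have := map_openSubι_mem_schLocus X.property hE _ key
  rw [hofPt] at this
  exact this

end Groth.Agent.Helper2.DecentOpen
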