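import Mathlib
import Groth.Agent.Lib.Helper2.AlgSp.DecentOpen1
import Groth.Prelude.Def_AlgSpDec

/-!
# Decent algebraic spaces have a dense open subscheme (helper2)
-/

set_option autoImplicit false
set_option linter.style.haveILetI false

open CategoryTheory CategoryTheory.Limits AlgebraicGeometry Opposite AlgSp

universe u

namespace Groth.Agent.Helper2.DecentOpen

open Groth.Agent.Helper2.UBAlg Groth.Agent.Helper2.FibDeg Groth.Agent.Helper2.PtDeg
open Groth.Agent.Helper2.AlgSpBasic Groth.Agent.Helper2.LargestSch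

variable {S : Scheme.{u}}

/-- On a decent space, an étale chart from an affine scheme has finite fibres. -/
theorem exists_ptDegLE_of_decent {F : Sp S} (hF : IsDecent F) {U : Over S} [IsAffine U.left]
    (a : (yon S).obj U ⟶ F) (hae : RepWith @Etale a) (x : Points F) : ∃ n, PtDegLE a x n := by
  obtain ⟨p, hp, -, hq⟩ := hF x
  have hrep := hae.rep
  have sq := hrep.isPullback p.toHom
  obtain ⟨fst₀, hfst₀⟩ := (yon S).map_surjective (hrep.fst p.toHom)
  obtain ⟨c, hc⟩ : ∃ c, c = hrep.snd p.toHom := ⟨_, rfl⟩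
  rw [← hc, ← hfst₀] at sq
  haveI : Etale c.left := hae.property p.toHom _ _ sq
  have sq' : IsPullback ((yon S).map c) ((yon S).map fst₀) p.toHom a := sq.flip
  haveI hqc : QuasiCompact fst₀.left := hq.property a _ _ sq'
  haveI : CompactSpace ↥(hrep.pullback p.toHom).left :=
    QuasiCompact.compactSpace_of_compactSpace fst₀.left
  obtain ⟨c', hc'⟩ : ∃ c' : (hrep.pullback p.toHom).left ⟶ Spec (CommRingCat.of p.K),
    c' = c.left := ⟨_, rfl⟩
  haveI : Etale c' := by rw [hc']; infer_instance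
  haveI : QuasiCompact c' := by
    rw [HasAffineProperty.iff_of_isAffine (P := @QuasiCompact)]
    infer_instance
  haveI : LocallyQuasiFinite c' := lqf_of_etale' c'
  haveI : IsFinite c' := IsFinite.of_locallyQuasiFinite c'
  refine ⟨fdeg c', ?_⟩
  rw [← hp]
  refine ptDegLE_of_degLE a p c _ sq' ?_
  rw [← hc']
  exact (degLE_iff _ _).2 ⟨inferInstance, le_rfl⟩

/-- A Baire type property of affine schemes: countably many opens, each meeting every nonempty
basic open, have a common point. -/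
theorem exists_forall_mem_of_dense_loci {X : Scheme.{u}} [IsAffine X] [Nonempty X]
    (Dset : ℕ → X.Opens)
    (h : ∀ (n : ℕ) (f : Γ(X, ⊤)), (X.basicOpen f : Set X).Nonempty →
      ((X.basicOpen f ⊓ Dset n : X.Opens) : Set X).Nonempty) :
    ∃ x : X, ∀ n, x ∈ Dset n := by
  classical
  have hstep : ∀ (n : ℕ) (f : {f : Γ(X, ⊤) // (X.basicOpen f : Set X).Nonempty}),
      ∃ g : {f : Γ(X, ⊤) // (X.basicOpen f : Set X).Nonempty},
        X.basicOpen g.1 ≤ X.basicOpen f.1 ⊓ Dset n := by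
    intro n f
    obtain ⟨u, hu⟩ := h n f.1 f.2
    obtain ⟨V, ⟨g, rfl⟩, huV, hV⟩ := TopologicalSpace.Opens.isBasis_iff_nbhd.mp
      (isBasis_basicOpen X) (show u ∈ X.basicOpen f.1 ⊓ Dset n from hu)
    exact ⟨⟨g, ⟨u, huV⟩⟩, hV⟩
  choose step hstep' using hstep
  have h1 : (X.basicOpen (1 : Γ(X, ⊤)) : Set X).Nonempty := by
    rw [X.basicOpen_of_isUnit isUnit_one]
    exact ⟨Classical.arbitrary X, trivial⟩
  let F : ℕ → {f : Γ(X, ⊤) // (X.basicOpen f : Set X).Nonempty} :=
    fun n => Nat.rec ⟨1, h1⟩ (fun n f => step n f) n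
  have hF : ∀ n, X.basicOpen (F (n + 1)).1 ≤ X.basicOpen (F n).1 ⊓ Dset n := fun n => hstep' n (F n)
  have hanti : ∀ n m, n ≤ m → X.basicOpen (F m).1 ≤ X.basicOpen (F n).1 := by
    intro n m hnm
    induction m, hnm using Nat.le_induction with
    | base => exact le_rfl
    | succ m _ ih => exact ((hF m).trans inf_le_left).trans ih
  let M : Submonoid Γ(X, ⊤) :=
    { carrier := {f | ∃ n, X.basicOpen (F n).1 ≤ X.basicOpen f}
      one_mem' := ⟨0, by rw [X.basicOpen_of_isUnit isUnit_one]; exact le_top⟩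
      mul_mem' := by
        rintro f g ⟨n, hn⟩ ⟨m, hm⟩
        refine ⟨max n m, ?_⟩
        rw [X.basicOpen_mul]
        exact le_inf ((hanti n _ (le_max_left n m)).trans hn)
          ((hanti m _ (le_max_right n m)).trans hm) }
  have hdisj : Disjoint ((⊥ : Ideal Γ(X, ⊤)) : Set Γ(X, ⊤)) (M : Set Γ(X, ⊤)) := by
    rw [Set.disjoint_left]
    rintro f hf ⟨n, hn⟩
    have hf0 : f = 0 := hf
    rw [hf0, X.basicOpen_zero] at hn
    obtain ⟨u, hu⟩ := (F n).2
    exact hn hu
  obtain ⟨P, hPprime, -, hPM⟩ := Ideal.exists_le_prime_disjoint (⊥ : Ideal Γ(X, ⊤)) M hdisj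
  have hU := isAffineOpen_top X
  refine ⟨hU.fromSpec ⟨P, hPprime⟩, fun n => ?_⟩
  have hmem : hU.fromSpec ⟨P, hPprime⟩ ∈ X.basicOpen (F (n + 1)).1 := by
    show (⟨P, hPprime⟩ : PrimeSpectrum Γ(X, ⊤)) ∈ hU.fromSpec ⁻¹ᵁ X.basicOpen (F (n + 1)).1
    rw [hU.fromSpec_preimage_basicOpen]
    show (F (n + 1)).1 ∉ P
    intro hP
    exact Set.disjoint_left.1 hPM hP ⟨n + 1, le_rfl⟩
  exact ((hF n).trans inf_le_right) hmem

/-- **Decent case.** On a decent algebraic space every nonempty open meets the schematic locus. -/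
theorem inter_schLocus_nonempty_of_decent (X : Space S) (hX : IsDecent X.obj)
    (O : Set (Points X.obj)) (hO : IsOpen O) (hne : O.Nonempty) :
    (O ∩ schLocus X.obj).Nonempty := by
  classical
  obtain ⟨x₀, hx₀⟩ := hne
  obtain ⟨U₀, a₀, hae₀, has₀⟩ := X.property.atlas
  obtain ⟨u₀, hu₀⟩ := surjective_ofPt a₀ has₀ x₀
  obtain ⟨_, ⟨W', hW', rfl⟩, hu₀W, hWO⟩ := U₀.left.isBasis_affineOpens.exists_subset_of_mem_open
    (show u₀ ∈ (preimageOpens a₀ hO : Set U₀.left) from by
      show Points.ofPt a₀ u₀ ∈ O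
      rw [hu₀]; exact hx₀) (preimageOpens a₀ hO).2
  obtain ⟨W, hWe⟩ : ∃ W : U₀.left.Opens, W = W' := ⟨_, rfl⟩
  rw [← hWe] at hW' hu₀W hWO
  obtain ⟨a, ha⟩ : ∃ a, a = (yon S).map (opensOverι W) ≫ a₀ := ⟨_, rfl⟩
  have hae : RepWith @Etale a := by
    rw [ha]
    exact repWith_comp @Etale ((repWith_yon_map_iff @Etale (opensOverι W)).mpr
      (inferInstanceAs (Etale W.ι))) hae₀
  haveI : IsAffine (opensOver W).left := hW'
  have haO : ∀ u : (opensOver W).left, Points.ofPt a u ∈ O := fun u => by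
    rw [ha, ofPt_yon_map_comp]
    exact hWO u.2
  obtain ⟨hfl, hfp, hsep, hqf⟩ := repWith_of_etale_affine a hae
  let Dset : ℕ → (opensOver W).left.Opens := fun n =>
    ⟨{u | ¬ PtDegLE a (Points.ofPt a u) n},
      ((isClosed_ptDegLE a hfl hfp hsep hqf n).isOpen_compl).preimage (Points.continuous_ofPt a)⟩
  by_cases hcase : ∃ (n : ℕ) (f : Γ((opensOver W).left, ⊤)),
      ((opensOver W).left.basicOpen f : Set (opensOver W).left).Nonempty ∧
        ¬ (((opensOver W).left.basicOpen f ⊓ Dset n : (opensOver W).left.Opens) :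
          Set (opensOver W).left).Nonempty
  · obtain ⟨n, f, ⟨v, hv⟩, hempty⟩ := hcase
    obtain ⟨v₀, -, hmem⟩ := exists_mem_schLocus_of_bdd_on_open X a hae
      ((opensOver W).left.basicOpen f) n (fun u hu => by
        by_contra H
        exact hempty ⟨u, hu, H⟩) v hv
    exact ⟨_, haO v₀, hmem⟩
  · exfalso
    simp only [not_exists, not_and, not_not] at hcase
    haveI : Nonempty (opensOver W).left := ⟨⟨u₀, hu₀W⟩⟩
    obtain ⟨x, hx⟩ := exists_forall_mem_of_dense_loci Dset (fun n f hf => hcase n f hf)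
    obtain ⟨n, hn⟩ := exists_ptDegLE_of_decent hX a hae (Points.ofPt a x)
    exact hx n hn

end Groth.Agent.Helper2.DecentOpen
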