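import Mathlib
import Groth.Agent.Lib.Helper2.AlgSp.PtDeg2
import Groth.Agent.Lib.Helper2.AlgSp.OpenSub

/-!
# Restricting a chart to an open subscheme does not increase fibre degrees (helper2)
-/

set_option autoImplicit false
set_option linter.style.haveILetI false

open CategoryTheory CategoryTheory.Limits AlgebraicGeometry Opposite AlgSp

universe u

namespace Groth.Agent.Helper2.PtDeg

open Groth.Agent.Helper2.UBAlg Groth.Agent.Helper2.FibDeg Groth.Agent.Helper2.AlgSpBasic

variable {S : Scheme.{u}}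

theorem ptDegLE_of_open {F : Sp S} {U : Over S} (a : (yon S).obj U ⟶ F) (hrep : Representable a)
    (W : U.left.Opens) (x : Points F) (k : ℕ) (H : PtDegLE a x k) :
    PtDegLE ((yon S).map (opensOverι W) ≫ a) x k := by
  obtain ⟨T, g, t, rfl⟩ := exists_ofPt_eq x
  have sqa := hrep.isPullback g
  obtain ⟨fa, hfa⟩ := (yon S).map_surjective (hrep.fst g)
  obtain ⟨sa, hsa⟩ : ∃ sa, sa = hrep.snd g := ⟨_, rfl⟩
  rw [← hfa, ← hsa] at sqa
  let W' : (hrep.pullback g).left.Opens := fa.left ⁻¹ᵁ W
  let fb : opensOver W' ⟶ opensOver W := Over.homMk (fa.left ∣_ W) (by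
    show (fa.left ∣_ W) ≫ W.ι ≫ U.hom = W'.ι ≫ (hrep.pullback g).hom
    rw [← Category.assoc, morphismRestrict_ι, Category.assoc, Over.w fa])
  have sq1 : IsPullback ((yon S).map fb) ((yon S).map (opensOverι W'))
      ((yon S).map (opensOverι W)) ((yon S).map fa) :=
    yon_isPullback_of_left fb (opensOverι W') (opensOverι W) fa
      (isPullback_morphismRestrict fa.left W)
  have big := sq1.paste_vert sqa
  rw [← Functor.map_comp] at big
  rw [ptDegLE_ofPt_iff ((yon S).map (opensOverι W) ≫ a) g _ _ big t k]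
  have h1 := (ptDegLE_ofPt_iff a g _ _ sqa t k).1 H
  exact h1.of_open W'

end Groth.Agent.Helper2.PtDeg
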