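import Mathlib
import Groth.Agent.Lib.Helper2.AlgSp.DecentOpen2
import Groth.Agent.Lib.Helper2.AlgSp.PtDeg3

/-!
# Spaces with a finite étale cover by a scheme have a dense open subscheme (helper2)
-/

set_option autoImplicit false
set_option linter.style.haveILetI false

open CategoryTheory CategoryTheory.Limits AlgebraicGeometry Opposite AlgSp

universe u

namespace Groth.Agent.Helper2.DecentOpen

open Groth.Agent.Helper2.UBAlg Groth.Agent.Helper2.FibDeg Groth.Agent.Helper2.PtDeg
open Groth.Agent.Helper2.AlgSpBasic Groth.Agent.Helper2.LargestSch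

variable {S : Scheme.{u}}

/-- For a finite étale chart, the fibre degrees are bounded on every quasi-compact scheme mapping
to the space. -/
theorem exists_bound_of_finite_etale {F : Sp S} {U : Over S} (a : (yon S).obj U ⟶ F)
    (hf : RepWith @IsFinite a) (he : RepWith @Etale a) {T : Over S} [CompactSpace T.left]
    (g : (yon S).obj T ⟶ F) : ∃ d, ∀ t : T.left, PtDegLE a (Points.ofPt g t) d := by
  have hrep := he.rep
  have sq := hrep.isPullback g
  haveI : IsFinite (hrep.snd g).left := hf.property g _ _ sq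
  haveI : Etale (hrep.snd g).left := he.property g _ _ sq
  have hlc := Scheme.Hom.isLocallyConstant_finrank (hrep.snd g).left
  obtain ⟨d, hd⟩ := hlc.range_finite.bddAbove
  refine ⟨d, fun t => ?_⟩
  rw [ptDegLE_ofPt_iff a g _ _ sq t d, fibDegLE_iff_of_isFinite]
  exact hd ⟨t, rfl⟩

theorem inter_schLocus_nonempty_of_finite_etale (X : Space S) {U : Over S}
    (a : (yon S).obj U ⟶ X.obj) (hf : RepWith @IsFinite a) (he : RepWith @Etale a)
    (hs : RepWith @Surjective a) (O : Set (Points X.obj)) (hO : IsOpen O) (hne : O.Nonempty) :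
    (O ∩ schLocus X.obj).Nonempty := by
  obtain ⟨x₀, hx₀⟩ := hne
  obtain ⟨u₀, hu₀⟩ := surjective_ofPt a hs x₀
  obtain ⟨_, ⟨W', hW', rfl⟩, hu₀W, hWO⟩ := U.left.isBasis_affineOpens.exists_subset_of_mem_open
    (show u₀ ∈ (preimageOpens a hO : Set U.left) from by
      show Points.ofPt a u₀ ∈ O
      rw [hu₀]; exact hx₀) (preimageOpens a hO).2
  obtain ⟨W, hWe⟩ : ∃ W : U.left.Opens, W = W' := ⟨_, rfl⟩
  rw [← hWe] at hW' hu₀W hWO
  have hbe : RepWith @Etale ((yon S).map (opensOverι W) ≫ a) :=
    repWith_comp @Etale ((repWith_yon_map_iff @Etale (opensOverι W)).mpr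
      (inferInstanceAs (Etale W.ι))) he
  haveI : IsAffine (opensOver W).left := hW'
  have hbO : ∀ u : (opensOver W).left, Points.ofPt ((yon S).map (opensOverι W) ≫ a) u ∈ O :=
    fun u => by
      rw [ofPt_yon_map_comp]
      exact hWO u.2
  obtain ⟨d, hd⟩ := exists_bound_of_finite_etale a hf he ((yon S).map (opensOverι W) ≫ a)
  obtain ⟨v₀, -, hmem⟩ := exists_mem_schLocus_of_bdd_on_open X
    ((yon S).map (opensOverι W) ≫ a) hbe ⊤ d
    (fun u _ => ptDegLE_of_open a he.rep W _ d (hd u)) ⟨u₀, hu₀W⟩ trivial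
  exact ⟨_, hbO v₀, hmem⟩

end Groth.Agent.Helper2.DecentOpen
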