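import Mathlib
import Groth.Prelude.Def_AlgSp4
import Groth.Prelude.Def_AlgSpDec
import Groth.Agent.Lib.Helper2.AlgSp.QfAtSp

/-!
# Quasi-finiteness over points of codimension zero
-/

set_option autoImplicit false
set_option backward.isDefEq.respectTransparency false

open CategoryTheory CategoryTheory.Limits AlgebraicGeometry Opposite AlgSp

namespace Groth.Agent.Helper2.QfCodimZero
universe u
variable {S : Scheme.{u}}

open Groth.Agent.Helper2.ChartIndep Groth.Agent.Helper2.QfAt Groth.Agent.Helper2.QfAtSp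

abbrev DimZ : ∀ U : Scheme.{u}, ↥U → Prop := fun U u => ringKrullDim ↥(U.presheaf.stalk u) = 0

theorem hasAt_dimZ_iff {X : Sp S} (hX : IsAlgSpace X) {U : Over S} (a : (yon S).obj U ⟶ X)
    (ha : RepWith @Etale a) (u : ↥U.left) :
    HasAt DimZ X (Points.ofPt a u) ↔ ringKrullDim ↥(U.left.presheaf.stalk u) = 0 := by
  constructor
  · intro h
    exact (hasAt_iff_forall (etaleInvariant_ringKrullDim 0) hX _).mp h U a u ha rfl
  · intro h
    exact ⟨U, a, u, ha, rfl, h⟩

/-- S10399. -/
theorem main {X Y : Sp S} (hX : IsAlgSpace X) (hY : IsAlgSpace Y) (f : X ⟶ Y)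
    (hf : LocP @LocallyOfFiniteType f) (y : Points Y) (hy : HasAt DimZ Y y) :
    ((∀ x : Points X, Points.map f x = y → HasAt DimZ X x) ↔
        (∀ x : Points X, Points.map f x = y → HasAtMor QfQ f x)) ∧
      ((∀ x : Points X, Points.map f x = y → HasAt DimZ X x → HasAtMor QfQ f x) →
        ∀ x : Points X, Points.map f x = y → HasAt DimZ X x) := by
  obtain ⟨V, b, hbe, hbs⟩ := hY.atlas
  obtain ⟨U, a, h, hae, has, c⟩ := AlgSpBasic.exists_chart_lift hX f b hbe hbs
  haveI : LocallyOfFiniteType h.left := hf a b h hae hbe c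
  have hmap : ∀ u : ↥U.left, Points.map f (Points.ofPt a u) = Points.ofPt b (h.left u) := by
    intro u
    have : Points.map f (Points.ofPt a u) = Points.ofPt (a ≫ f) u := rfl
    rw [this, c, AlgSpBasic.ofPt_yon_map_comp]
  have hV0 : ∀ v : ↥V.left, Points.ofPt b v = y → ringKrullDim ↥(V.left.presheaf.stalk v) = 0 := by
    intro v hv
    exact (hasAt_dimZ_iff hY b hbe v).mp (hv ▸ hy)
  have factC : ∀ u : ↥U.left, HasAtMor QfQ f (Points.ofPt a u) ↔ h.left.QuasiFiniteAt u := by
    intro u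
    constructor
    · intro hq
      exact quasiFiniteAt_of_hasAtMor hX.diag hY.diag f hf _ hq a b h hae hbe c u rfl
    · intro hq
      exact hasAtMor_of_quasiFiniteAt f hf a b h hae hbe c u hq
  refine ⟨⟨?_, ?_⟩, ?_⟩
  · intro h1 x hx
    obtain ⟨u, rfl⟩ := AlgSpBasic.surjective_ofPt a has x
    rw [factC]
    refine quasiFiniteAt_of_fibre_isMax u fun u' hu' => ?_
    rw [← ringKrullDim_stalk_eq_zero_iff, ← hasAt_dimZ_iff hX a hae u']
    apply h1
    rw [hmap, hu', ← hmap]
    exact hx
  · intro h2 x hx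
    obtain ⟨u, rfl⟩ := AlgSpBasic.surjective_ofPt a has x
    rw [hasAt_dimZ_iff hX a hae u]
    have hq : h.left.QuasiFiniteAt u := (factC u).mp (h2 _ hx)
    have hle := ringKrullDim_stalk_le_of_quasiFiniteAt hq
    rw [hV0 (h.left u) (by rw [← hmap]; exact hx)] at hle
    exact le_antisymm hle ringKrullDim_nonneg_of_nontrivial
  · intro h3 x hx
    obtain ⟨u, rfl⟩ := AlgSpBasic.surjective_ofPt a has x
    rw [hasAt_dimZ_iff hX a hae u]
    obtain ⟨ξ, hξs, hξ0⟩ := exists_generization_dim_zero u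
    have hv0 : ringKrullDim ↥(V.left.presheaf.stalk (h.left u)) = 0 :=
      hV0 (h.left u) (by rw [← hmap]; exact hx)
    have hξv : h.left ξ = h.left u :=
      eq_of_specializes_of_dim_zero hv0 (hξs.map h.left.continuous)
    have hxξ : Points.map f (Points.ofPt a ξ) = y := by
      rw [hmap, hξv, ← hmap]
      exact hx
    have hq : h.left.QuasiFiniteAt ξ :=
      (factC ξ).mp (h3 _ hxξ ((hasAt_dimZ_iff hX a hae ξ).mpr hξ0))
    have : u = ξ := eq_of_specializes_of_quasiFiniteAt hξs hξv.symm hq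
    rw [this]
    exact hξ0

end Groth.Agent.Helper2.QfCodimZero
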