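import Mathlib
import Groth.Agent.Lib.Helper2.AlgSp.DecentOpen3
import Groth.Agent.Lib.Helper2.AlgSp.QfCodimZero
import Groth.Agent.Lib.Helper2.Sch.DimFormula
import Groth.Agent.Lib.Helper2.Sch.FieldBCDim
import Groth.Agent.Lib.Helper6.GenPt2

/-!
# Codimension zero points lie in the schematic locus for finite étale quasi-separated charts (helper2)
-/

set_option autoImplicit false
set_option linter.style.haveILetI false

open CategoryTheory CategoryTheory.Limits AlgebraicGeometry Opposite AlgSp

universe u

namespace Groth.Agent.Helper2.CodimZeroSch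

open Groth.Agent.Helper2.UBAlg Groth.Agent.Helper2.FibDeg Groth.Agent.Helper2.PtDeg
open Groth.Agent.Helper2.AlgSpBasic Groth.Agent.Helper2.LargestSch
open Groth.Agent.Helper2.DecentOpen

/-- A point of a scheme whose local ring has dimension zero has no proper generization. -/
theorem eq_of_specializes_of_dimZ {U : Scheme.{u}} (u u' : ↥U)
    (hu : ringKrullDim ↥(U.presheaf.stalk u) = 0) (h : u' ⤳ u) : u' = u := by
  rw [Groth.Agent.Helper2.DimFormula.ringKrullDim_stalk_eq_coheight] at hu
  have h0 : Order.coheight u = 0 := by exact_mod_cast hu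
  rw [Order.coheight_eq_zero] at h0
  have h1 : u ≤ u' := (AlgebraicGeometry.Scheme.le_iff_specializes).mpr h
  have h2 : u ⤳ u' := (AlgebraicGeometry.Scheme.le_iff_specializes).mp (h0 h1)
  exact (h.antisymm h2).eq

theorem closure_mem_irreducibleComponents_of_dimZ {U : Scheme.{u}} (u : ↥U)
    (hu : ringKrullDim ↥(U.presheaf.stalk u) = 0) :
    closure ({u} : Set U) ∈ irreducibleComponents U := by
  apply Groth.Agent.Helper2.FieldBCDim.closure_mem_irreducibleComponents_of_max
  intro b hb
  rw [eq_of_specializes_of_dimZ u b hu hb]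

/-- In a quasi-separated scheme finitely many codimension zero points lie in an affine open. -/
theorem exists_affine_of_finite_dimZ {U : Scheme.{u}} [QuasiSeparatedSpace U] (E : Set U)
    (hE : E.Finite) (hdim : ∀ u ∈ E, ringKrullDim ↥(U.presheaf.stalk u) = 0) (x : U) :
    ∃ V : U.Opens, IsAffineOpen V ∧ x ∈ V ∧ E ⊆ V := by
  obtain ⟨n, η, hη⟩ := hE.fin_embedding
  obtain ⟨V, hV, hxV, hηV⟩ := Groth.Agent.Helper6.GenPt.affine_contains U η (fun i =>
    closure_mem_irreducibleComponents_of_dimZ _ (hdim _ (by rw [← hη]; exact ⟨i, rfl⟩))) x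
  refine ⟨V, hV, hxV, ?_⟩
  intro e he
  rw [← hη] at he
  obtain ⟨i, rfl⟩ := he
  exact hηV i

variable {S : Scheme.{u}}

/-- For a finite étale chart the fibres of `|U| → |X|` are finite. -/
theorem finite_fiber_of_finite_etale (X : Space S) {U : Over S}
    (a : (yon S).obj U ⟶ X.obj) (hf : RepWith @IsFinite a) (he : RepWith @Etale a) (u : U.left) :
    (Points.ofPt a ⁻¹' {Points.ofPt a u}).Finite := by
  obtain ⟨_, ⟨W', hW', rfl⟩, huW, -⟩ := U.left.isBasis_affineOpens.exists_subset_of_mem_open
    (Set.mem_univ u) isOpen_univ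
  obtain ⟨W, hWe⟩ : ∃ W : U.left.Opens, W = W' := ⟨_, rfl⟩
  rw [← hWe] at hW' huW
  haveI : IsAffine (opensOver W).left := hW'
  obtain ⟨d, hd⟩ := exists_bound_of_finite_etale a hf he ((yon S).map (opensOverι W) ≫ a)
  have h1 := hd ⟨u, huW⟩
  rw [ofPt_yon_map_comp] at h1
  exact Set.finite_of_encard_le_coe (encard_fiber_le_of_ptDegLE X.property.diag a _ d h1)

/-- S10204 core: codimension zero points lie in the schematic locus. -/
theorem mem_schLocus_of_dimZ (X : Space S) {U : Over S}
    (a : (yon S).obj U ⟶ X.obj) (hf : RepWith @IsFinite a) (he : RepWith @Etale a)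
    (hs : RepWith @Surjective a) [QuasiSeparatedSpace ↥U.left] (x : Points X.obj)
    (hx : HasAt (fun U u => ringKrullDim ↥(U.presheaf.stalk u) = 0) X.obj x) :
    x ∈ schLocus X.obj := by
  obtain ⟨u, rfl⟩ := surjective_ofPt a hs x
  have hfin := finite_fiber_of_finite_etale X a hf he u
  have hdim : ∀ u' ∈ Points.ofPt a ⁻¹' {Points.ofPt a u},
      ringKrullDim ↥(U.left.presheaf.stalk u') = 0 := by
    intro u' hu'
    have hu'' : Points.ofPt a u' = Points.ofPt a u := hu'
    rw [← Groth.Agent.Helper2.QfCodimZero.hasAt_dimZ_iff X.property a he u', hu'']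
    exact hx
  obtain ⟨V, hV, -, hEV⟩ := exists_affine_of_finite_dimZ _ hfin hdim u
  have hflf : RepWith finLocFree a := by
    refine ⟨he.rep, fun T V' g fst snd sq => ?_⟩
    haveI h1 : IsFinite snd.left := hf.property g fst snd sq
    haveI h2 : Etale snd.left := he.property g fst snd sq
    exact ⟨h1, (inferInstance : Flat snd.left),
      (inferInstance : LocallyOfFinitePresentation snd.left)⟩
  exact Groth.Agent.Helper2.FinLocFreeQuot.mem_schLocus_of_orbit_subset_affine a hflf u V hV
    (fun u' hu' => hEV hu')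

end Groth.Agent.Helper2.CodimZeroSch
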