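import Mathlib
import Groth.Prelude.Def_AlgSp4
import Groth.Prelude.Def_AlgSpCov
import Groth.Agent.Lib.Helper2.AlgSp.OpenSub
import Groth.Agent.Lib.Helper2.AlgSp.QC
import Groth.Agent.Lib.Helper2.AlgSp.ImmDescent
import Groth.Agent.Lib.Helper2.AlgSp.Mor2

/-!
# Equivalent conditions for very reasonable spaces (helper2)
-/

set_option autoImplicit false
set_option backward.isDefEq.respectTransparency false

open CategoryTheory CategoryTheory.Limits AlgebraicGeometry Opposite AlgSp

namespace Groth.Agent.Helper2.VeryReasonable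
universe u
variable {S : Scheme.{u}}

theorem mono_of_repWith_isOpenImmersion {F G : Sp S} (f : F ⟶ G)
    (hf : RepWith @IsOpenImmersion f) : Mono f :=
  AlgSpBasic.mono_of_repWith_monomorphisms f
    (AlgSpBasic.repWith_mono (fun _ _ g (hg : IsOpenImmersion g) =>
      (inferInstance : Mono g)) hf)

/-- Direction (1) ⇒ (2). -/
theorem forward {X : Sp S} {ι : Type u} (Xi : ι → Sp S) (j : ∀ i, Xi i ⟶ X) (U : ι → Over S)
    (a : ∀ i, (yon S).obj (U i) ⟶ Xi i) (hcov : IsZarCover Xi j)
    (ha : ∀ i, RepWith @Etale (a i) ∧ RepWith @Surjective (a i) ∧ RepWith @QuasiCompact (a i)) :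
    (∀ i, RepWith @Etale (a i ≫ j i)) ∧
      (∀ x : Points X, ∃ (i : ι) (v : ↥(U i).left), Points.ofPt (a i ≫ j i) v = x) ∧
      ∀ (i : ι) (R : Over S) (s t : R ⟶ U i),
        IsPullback ((yon S).map t) ((yon S).map s) (a i ≫ j i) (a i ≫ j i) →
          QuasiCompact s.left ∧ QuasiCompact t.left := by
  refine ⟨fun i => ?_, fun x => ?_, fun i R s t sq => ?_⟩
  · exact AlgSpBasic.repWith_comp @Etale (ha i).1
      (AlgSpBasic.repWith_isOpenImmersion_le_etale (hcov.1 i))
  · obtain ⟨i, xi, rfl⟩ := hcov.2 x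
    obtain ⟨v, rfl⟩ := AlgSpBasic.surjective_ofPt (a i) (ha i).2.1 xi
    exact ⟨i, v, rfl⟩
  · haveI : Mono (j i) := mono_of_repWith_isOpenImmersion (j i) (hcov.1 i)
    have sq' : IsPullback ((yon S).map t) ((yon S).map s) (a i) (a i) :=
      ImmDescent.isPullback_of_comp_mono (j i) sq
    exact ⟨(ha i).2.2.property (a i) ((yon S).map t) s sq',
      (ha i).2.2.property (a i) ((yon S).map s) t sq'.flip⟩

/-- Direction (2) ⇒ (1), for a single chart. -/
theorem backward_one {X : Sp S} (hX : IsAlgSpace X) {U : Over S} (φ : (yon S).obj U ⟶ X)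
    (hφ : RepWith @Etale φ)
    (hqc : ∀ (R : Over S) (s t : R ⟶ U), IsPullback ((yon S).map t) ((yon S).map s) φ φ →
      QuasiCompact s.left ∧ QuasiCompact t.left) :
    ∃ (a : (yon S).obj U ⟶ AlgSpBasic.openSub X (Set.range (Points.ofPt φ))),
      a ≫ AlgSpBasic.openSubι X (Set.range (Points.ofPt φ)) = φ ∧
      RepWith @Etale a ∧ RepWith @Surjective a ∧ RepWith @QuasiCompact a := by
  have hV : IsOpen (Set.range (Points.ofPt φ)) := (AlgSpBasic.isOpenMap_ofPt φ hφ).isOpen_range
  have hXi : IsAlgSpace (AlgSpBasic.openSub X (Set.range (Points.ofPt φ))) :=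
    AlgSpBasic.isAlgSpace_openSub hX hV
  have hmem : ∀ p : Points ((yon S).obj U), Points.map φ p ∈ Set.range (Points.ofPt φ) := by
    intro p
    obtain ⟨t, rfl⟩ := (Points.schemeHomeo U).surjective p
    exact ⟨t, by rw [Points.ofPt_eq_map_ofScheme]; rfl⟩
  let a := AlgSpBasic.openSubLift (Set.range (Points.ofPt φ)) φ hmem
  have haι : a ≫ AlgSpBasic.openSubι X (Set.range (Points.ofPt φ)) = φ :=
    AlgSpBasic.openSubLift_ι _ _ _
  have hae : RepWith @Etale a :=
    AlgSpBasic.repWith_lift_of_mono @Etale (AlgSpBasic.openSubι X _) φ a haι hφ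
  have has : RepWith @Surjective a := by
    refine AlgSpBasic.repWith_surjective_of_surjective_ofPt a (hXi.representable_from_yon _) ?_
    intro x'
    have h1 : Points.map (AlgSpBasic.openSubι X (Set.range (Points.ofPt φ))) x' ∈
        Set.range (Points.ofPt φ) := AlgSpBasic.points_map_openSubι_mem X _ x'
    obtain ⟨v, hv⟩ := h1
    refine ⟨v, AlgSpBasic.injective_points_map_of_mono (AlgSpBasic.openSubι X _) ?_⟩
    rw [Points.map_ofPt, haι, hv]
  refine ⟨a, haι, hae, has, ?_⟩
  obtain ⟨R, t, s, sq⟩ := AlgSpBasic.exists_isPullback_yon hX.diag φ φ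
  have hs : QuasiCompact s.left := (hqc R s t sq).1
  have sq' : IsPullback ((yon S).map t) ((yon S).map s) a a := by
    refine ImmDescent.isPullback_of_comp_mono (AlgSpBasic.openSubι X _) ?_
    rw [haι]; exact sq
  have hU := IsAlgSpace.yon_obj (S := S) U
  have hR := IsAlgSpace.yon_obj (S := S) R
  have h1 : IsQuasiCompactMor ((yon S).map s) :=
    AlgSpBasic.isQuasiCompactMor_of_repWith hR hU.diag _
      ((repWith_yon_map_iff @QuasiCompact s).2 hs)
  have h2 : IsQuasiCompactMor a := by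
    refine AlgSpBasic.isQuasiCompactMor_of_open_surjective_base_change hU hXi hU
      a a ((yon S).map t) ((yon S).map s) sq' ?_ h1
    intro Z W hZ h π₁ π₂ sqW
    have hW : IsAlgSpace W := AlgSpBasic.isAlgSpace_of_isPullback hXi.diag hZ hU h a π₁ π₂ sqW
    refine ⟨?_, AlgSpBasic.isSurjectiveMor_of_isPullback a h π₂ π₁ sqW.flip
      (AlgSpBasic.isSurjectiveMor_of_repWith_surjective a has)⟩
    have h3 : LocP @Etale a := AlgSpBasic.locP_of_repWith @Etale hU.diag a hae
    have h4 : LocP @Etale π₁ :=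
      AlgSpBasic.locP_of_isPullback @Etale hU hXi hZ hW a h π₂ π₁ sqW.flip h3
    exact AlgSpBasic.isOpenMap_points_of_isEtaleMor hW π₁
      (AlgSpBasic.isEtaleMor_of_locP_etale hW hZ π₁ h4)
  exact AlgSpBasic.repWith_quasiCompact_of_isQuasiCompactMor a
    (hXi.representable_from_yon _) h2

end Groth.Agent.Helper2.VeryReasonable
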