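import Mathlib
import Groth.Prelude.Def_AlgSp4
import Groth.Prelude.Def_AlgSpCov
import Groth.Agent.Lib.Helper2.AlgSp.VeryReasonable
import Groth.Agent.Lib.Helper2.AlgSp.Sep
import Groth.Agent.Lib.Helper2.AlgSp.Thick

/-!
# Zariski locally quasi-separated algebraic spaces (helper2)
-/

set_option autoImplicit false
set_option linter.style.haveILetI false
universe u
open CategoryTheory CategoryTheory.Limits AlgebraicGeometry Opposite AlgSp
open Groth.Agent.Helper2.AlgSpBasic

namespace Groth.Agent.Helper2.ZarLocQs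
variable {S : Scheme.{u}}

/-- Around every point of a scheme over `S` there is an affine open whose image in `S` lies in an
affine open. -/
theorem exists_affine_nhd_over_affine {V : Scheme.{u}} (f : V ⟶ S) (v : V) :
    ∃ (W : V.Opens) (B : S.Opens), IsAffineOpen W ∧ IsAffineOpen B ∧ v ∈ W ∧ W ≤ f ⁻¹ᵁ B := by
  obtain ⟨B, hB, hvB, -⟩ := exists_isAffineOpen_mem_and_subset (x := f v) (U := ⊤) trivial
  obtain ⟨W, hW, hvW, hWB⟩ := exists_isAffineOpen_mem_and_subset (x := v) (U := f ⁻¹ᵁ B) hvB
  exact ⟨W, B, hW, hB, hvW, hWB⟩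

/-- If the structure morphism of `U` factors through an affine open of `S`, then `U ×_S U` is
quasi-compact over `U` for affine `U`. -/
theorem quasiCompact_prod_fst_left (U : Over S) [IsAffine U.left] {B : S.Opens}
    (hB : IsAffineOpen B) (g : U.left ⟶ B) (hg : g ≫ B.ι = U.hom) :
    QuasiCompact (prod.fst : U ⨯ U ⟶ U).left := by
  haveI : IsAffine (B : Scheme.{u}) := hB
  have sq : IsPullback (pullback.fst g g) (pullback.snd g g) (g ≫ B.ι) (g ≫ B.ι) :=
    Groth.Agent.Helper2.AlgSpBasic.isPullback_comp_mono (IsPullback.of_hasPullback g g) B.ι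
  rw [hg] at sq
  haveI : IsAffine (pullback U.hom U.hom) := .of_isIso sq.isoPullback.inv
  haveI : CompactSpace ↥(U ⨯ U).left :=
    (Scheme.homeoOfIso (Over.prodLeftIsoPullback U U)).symm.compactSpace
  exact (quasiCompact_iff_compactSpace _).mpr inferInstance

/-- The forward direction for one quasi-separated space: around each point there is an open
subspace with a quasi-compact étale surjective affine chart. -/
theorem exists_chart_of_isQuasiSeparatedSp {X : Sp S} (hX : IsAlgSpace X)
    (hqs : IsQuasiSeparatedSp X) (x : Points X) :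
    ∃ (V : Set (Points X)) (_ : IsOpen V) (U : Over S) (p : (yon S).obj U ⟶ openSub X V),
      x ∈ V ∧ IsAffine U.left ∧ RepWith @QuasiCompact p ∧ RepWith @Etale p ∧
        RepWith @Surjective p := by
  obtain ⟨V₀, q, hqe, hqs'⟩ := hX.atlas
  obtain ⟨v, rfl⟩ := surjective_ofPt q hqs' x
  obtain ⟨W, B, hW, hB, hvW, hWB⟩ := exists_affine_nhd_over_affine V₀.hom v
  let U : Over S := Over.mk (W.ι ≫ V₀.hom)
  let incl : U ⟶ V₀ := Over.homMk W.ι rfl
  haveI hUaff : IsAffine U.left := hW
  let φ : (yon S).obj U ⟶ X := (yon S).map incl ≫ q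
  have hφ : RepWith @Etale φ :=
    repWith_comp @Etale ((repWith_yon_map_iff @Etale incl).mpr
      (inferInstanceAs (Etale W.ι))) hqe
  have hfst : QuasiCompact (prod.fst : U ⨯ U ⟶ U).left :=
    quasiCompact_prod_fst_left U hB (V₀.hom.resLE B W hWB) (Scheme.Hom.resLE_comp_ι _ _)
  have hsnd : QuasiCompact (prod.snd : U ⨯ U ⟶ U).left := by
    have e : (prod.snd : U ⨯ U ⟶ U) = (prod.braiding U U).hom ≫ prod.fst := by
      rw [prod.braiding_hom, prod.lift_fst]
    rw [e, Over.comp_left]
    haveI : IsIso ((prod.braiding U U).hom).left :=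
      (Over.forget S).map_isIso (prod.braiding U U).hom
    infer_instance
  have hqc : ∀ (R : Over S) (s t : R ⟶ U),
      IsPullback ((yon S).map t) ((yon S).map s) φ φ →
        QuasiCompact s.left ∧ QuasiCompact t.left := by
    intro R s t sq
    have h1 : QuasiCompact (prod.lift t s).left :=
      prop_prod_lift_of_repWith_diag @QuasiCompact hqs φ φ t s sq
    constructor
    · have e : s.left = (prod.lift t s).left ≫ (prod.snd : U ⨯ U ⟶ U).left := by
        rw [← Over.comp_left, prod.lift_snd]
      rw [e]; infer_instance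
    · have e : t.left = (prod.lift t s).left ≫ (prod.fst : U ⨯ U ⟶ U).left := by
        rw [← Over.comp_left, prod.lift_fst]
      rw [e]; infer_instance
  obtain ⟨a, -, hae, has, haq⟩ :=
    Groth.Agent.Helper2.VeryReasonable.backward_one hX φ hφ hqc
  refine ⟨Set.range (Points.ofPt φ), (isOpenMap_ofPt φ hφ).isOpen_range, U, a, ?_, hUaff, haq,
    hae, has⟩
  refine ⟨⟨v, hvW⟩, ?_⟩
  rw [ofPt_yon_map_comp]
  rfl

/-- The backward direction for one space. -/
theorem isQuasiSeparatedSp_of_chart {X : Sp S} (hX : IsAlgSpace X) {U : Over S}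
    (p : (yon S).obj U ⟶ X) (hU : IsAffine U.left) (hpq : RepWith @QuasiCompact p)
    (hpe : RepWith @Etale p) (hps : RepWith @Surjective p) : IsQuasiSeparatedSp X := by
  haveI := hU
  obtain ⟨R, t, s, sq⟩ := exists_isPullback_yon hX.diag p p
  haveI : QuasiCompact t.left := hpq.property p ((yon S).map s) t sq.flip
  exact Groth.Agent.Helper2.AlgSpBasic.isQuasiSeparatedSp_of_chart_proj_quasiCompact hX p hpe hps
    s t sq

end Groth.Agent.Helper2.ZarLocQs
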