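import Mathlib
import Groth.Agent.Lib.Helper2.AlgSp.CodimZeroSch
import Groth.Agent.Lib.Helper2.AlgSp.ZarLocQs
import Groth.Agent.Lib.Helper2.AlgSp.ChartIndep
import Groth.Agent.Lib.Helper6.GenFin.Fiber

/-!
# Codimension zero points of quasi-separated algebraic spaces lie in the schematic locus (helper2)
-/

set_option autoImplicit false
set_option linter.style.haveILetI false

open CategoryTheory CategoryTheory.Limits AlgebraicGeometry Opposite AlgSp

universe u

namespace Groth.Agent.Helper2.CodimZeroQs

open Groth.Agent.Helper2.AlgSpBasic Groth.Agent.Helper2.LargestSch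
open Groth.Agent.Helper2.DecentOpen Groth.Agent.Helper2.QfCodimZero

variable {S : Scheme.{u}}

/-- Lemma C: a codimension zero point in the image of a quasi-compact étale affine chart lies in
the schematic locus. -/
theorem mem_schLocus_of_qc_chart (X : Space S) {U : Over S} [IsAffine U.left]
    (p : (yon S).obj U ⟶ X.obj) (hq : RepWith @QuasiCompact p) (he : RepWith @Etale p)
    (u : ↥U.left) (hu : ringKrullDim ↥(U.left.presheaf.stalk u) = 0) :
    Points.ofPt p u ∈ schLocus X.obj := by
  obtain ⟨R, t, s, sq⟩ := exists_isPullback_yon X.property.diag p p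
  haveI hsqc : QuasiCompact s.left := hq.property p ((yon S).map t) s sq
  haveI hse : Etale s.left := he.property p ((yon S).map t) s sq
  obtain ⟨-, -, hsep, hlqf⟩ := repWith_of_etale_affine p he
  haveI hss : IsSeparated s.left := hsep.property p ((yon S).map t) s sq
  haveI hsl : LocallyQuasiFinite s.left := hlqf.property p ((yon S).map t) s sq
  obtain ⟨V, -, huV, hVfin⟩ :=
    Groth.Agent.Lib.Helper6.GenFin.exists_isFinite_morphismRestrict_of_qcqs s.left u
      (fun y hy => Groth.Agent.Helper2.CodimZeroSch.eq_of_specializes_of_dimZ u y hu hy)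
      (s.left.finite_preimage_singleton u)
  -- the open image of `V`
  obtain ⟨O, hOdef⟩ : ∃ O : Set (Points X.obj), O = Points.ofPt p '' (V : Set U.left) := ⟨_, rfl⟩
  have hO : IsOpen O := by
    rw [hOdef]
    exact isOpenMap_ofPt p he _ V.isOpen
  have hXO : IsAlgSpace (openSub X.obj O) := isAlgSpace_openSub X.property hO
  have sqW := isPullback_openSub_yon p hO
  obtain ⟨bW, hbW⟩ : ∃ bW, bW = openSubLift O ((yon S).map (preimageOverι p hO) ≫ p)
      (points_map_preimageOverι_mem p hO) := ⟨_, rfl⟩
  rw [← hbW] at sqW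
  have hbWι : bW ≫ openSubι X.obj O = (yon S).map (preimageOverι p hO) ≫ p := by
    rw [hbW, openSubLift_ι]
  have hbWe : RepWith @Etale bW := repWith_of_isPullback @Etale sqW.flip he
  -- the chart `V ⟶ X_O`
  have hVmem : ∀ q : Points ((yon S).obj (opensOver V)),
      Points.map ((yon S).map (opensOverι V) ≫ p) q ∈ O := by
    intro q
    obtain ⟨v, rfl⟩ := (Points.schemeHomeo (opensOver V)).surjective q
    change Points.map _ (Points.ofScheme _ v) ∈ O
    rw [← Points.ofPt_eq_map_ofScheme, ofPt_yon_map_comp, hOdef]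
    exact ⟨v.1, v.2, rfl⟩
  obtain ⟨bV, hbV⟩ : ∃ bV, bV = openSubLift O ((yon S).map (opensOverι V) ≫ p) hVmem := ⟨_, rfl⟩
  have hbVι : bV ≫ openSubι X.obj O = (yon S).map (opensOverι V) ≫ p := by
    rw [hbV, openSubLift_ι]
  have hιVe : RepWith @Etale ((yon S).map (opensOverι V) ≫ p) :=
    repWith_comp @Etale ((repWith_yon_map_iff @Etale (opensOverι V)).mpr
      (inferInstanceAs (Etale V.ι))) he
  have hbVe : RepWith @Etale bV := repWith_lift_of_mono @Etale (openSubι X.obj O) _ bV hbVι hιVe
  have hbVs : RepWith @Surjective bV := by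
    apply repWith_surjective_of_surjective_ofPt bV hbVe.rep
    intro y
    have hy := points_map_openSubι_mem X.obj O y
    obtain ⟨v, hv, hvy⟩ := (Set.ext_iff.mp hOdef _).mp hy
    refine ⟨⟨v, hv⟩, ?_⟩
    apply injective_points_map_of_mono (openSubι X.obj O)
    rw [Points.map_ofPt, hbVι, ofPt_yon_map_comp, ← hvy]
    rfl
  -- the restricted square
  let W' : R.left.Opens := s.left ⁻¹ᵁ V
  let s' : opensOver W' ⟶ opensOver V := Over.homMk (s.left ∣_ V) (by
    show (s.left ∣_ V) ≫ V.ι ≫ U.hom = W'.ι ≫ R.hom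
    rw [← Category.assoc, morphismRestrict_ι, Category.assoc, Over.w s])
  have sq1 : IsPullback ((yon S).map (opensOverι W')) ((yon S).map s')
      ((yon S).map s) ((yon S).map (opensOverι V)) :=
    (yon_isPullback_of_left s' (opensOverι W') (opensOverι V) s
      (isPullback_morphismRestrict s.left V)).flip
  have big := sq1.paste_horiz sq
  -- the first projection lands in the preimage of `O`
  have hrange : Set.range (W'.ι ≫ t.left) ⊆ Set.range (preimageOpens p hO).ι := by
    rw [Scheme.Opens.range_ι]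
    rintro _ ⟨r, rfl⟩
    show Points.ofPt p ((W'.ι ≫ t.left) r) ∈ O
    have h1 : Points.ofPt p (t.left (W'.ι r)) = Points.ofPt p (s.left (W'.ι r)) := by
      rw [← ofPt_yon_map_comp, ← ofPt_yon_map_comp, sq.w]
    rw [Scheme.Hom.comp_apply, h1, hOdef]
    exact ⟨s.left (W'.ι r), r.2, rfl⟩
  let t' : opensOver W' ⟶ preimageOver p hO :=
    Over.homMk (IsOpenImmersion.lift (preimageOpens p hO).ι (W'.ι ≫ t.left) hrange) (by
      show IsOpenImmersion.lift (preimageOpens p hO).ι (W'.ι ≫ t.left) hrange ≫
        (preimageOpens p hO).ι ≫ U.hom = W'.ι ≫ R.hom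
      rw [← Category.assoc, IsOpenImmersion.lift_fac, Category.assoc, Over.w t])
  have ht' : t' ≫ preimageOverι p hO = opensOverι W' ≫ t := by
    apply Over.OverMorphism.ext
    exact IsOpenImmersion.lift_fac _ _ _
  rw [← Functor.map_comp, ← ht', Functor.map_comp, ← hbVι] at big
  have hw : (yon S).map t' ≫ bW = (yon S).map s' ≫ bV := by
    rw [← cancel_mono (openSubι X.obj O), Category.assoc, Category.assoc, hbWι, hbVι,
      ← Category.assoc, ← Category.assoc, ← Functor.map_comp, ← Functor.map_comp, ht']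
    have : s' ≫ opensOverι V = opensOverι W' ≫ s := by
      apply Over.OverMorphism.ext
      exact morphismRestrict_ι s.left V
    rw [this, Functor.map_comp, Functor.map_comp, Category.assoc, Category.assoc, sq.w]
  have sq' : IsPullback ((yon S).map t') ((yon S).map s') bW bV :=
    IsPullback.of_right big hw sqW.flip
  have hbWf : RepWith @IsFinite bW :=
    (repWith_iff_of_chart bW hbWe.rep bV hbVe hbVs ((yon S).map t') s' sq' @IsFinite).mpr hVfin
  have hbWs : RepWith @Surjective bW := by
    apply repWith_surjective_of_surjective_ofPt bW hbWe.rep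
    intro y
    obtain ⟨v, rfl⟩ := surjective_ofPt bV hbVs y
    have hvW : (v.1 : U.left) ∈ preimageOpens p hO := by
      show Points.ofPt p v.1 ∈ O
      rw [hOdef]
      exact ⟨v.1, v.2, rfl⟩
    refine ⟨⟨v.1, hvW⟩, ?_⟩
    apply injective_points_map_of_mono (openSubι X.obj O)
    rw [Points.map_ofPt, Points.map_ofPt, hbWι, hbVι, ofPt_yon_map_comp, ofPt_yon_map_comp]
    rfl
  haveI : QuasiSeparatedSpace ↥(preimageOver p hO).left :=
    quasiSeparatedSpace_of_quasiSeparated (preimageOpens p hO).ι
  have huW : u ∈ preimageOpens p hO := by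
    show Points.ofPt p u ∈ O
    rw [hOdef]
    exact ⟨u, huV, rfl⟩
  have hdim : ringKrullDim ↥((preimageOver p hO).left.presheaf.stalk ⟨u, huW⟩) = 0 := by
    have := Groth.Agent.Helper2.ChartIndep.ringKrullDim_stalk_eq_of_etale
      (preimageOpens p hO).ι ⟨u, huW⟩
    rw [← hu]
    exact this
  have hx' : HasAt DimZ (openSub X.obj O) (Points.ofPt bW ⟨u, huW⟩) :=
    (hasAt_dimZ_iff hXO bW hbWe _).mpr hdim
  have hmem := Groth.Agent.Helper2.CodimZeroSch.mem_schLocus_of_dimZ
    (⟨openSub X.obj O, hXO⟩ : Space S) bW hbWf hbWe hbWs _ hx'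
  have h2 := map_openSubι_mem_schLocus X.property hO _ hmem
  rw [Points.map_ofPt, hbWι, ofPt_yon_map_comp] at h2
  exact h2

/-- Codimension zero points of a quasi-separated algebraic space lie in the schematic locus. -/
theorem mem_schLocus_of_isQuasiSeparatedSp (X : Space S) (hqs : IsQuasiSeparatedSp X.obj)
    (x : Points X.obj) (hx : HasAt DimZ X.obj x) : x ∈ schLocus X.obj := by
  obtain ⟨V, hV, U, p, hxV, hUaff, hpq, hpe, hps⟩ :=
    Groth.Agent.Helper2.ZarLocQs.exists_chart_of_isQuasiSeparatedSp X.property hqs x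
  haveI := hUaff
  have hXV : IsAlgSpace (openSub X.obj V) := isAlgSpace_openSub X.property hV
  have hιe : RepWith @Etale (openSubι X.obj V) :=
    repWith_isOpenImmersion_le_etale (repWith_isOpenImmersion_openSubι X.obj hV)
  have hpιe : RepWith @Etale (p ≫ openSubι X.obj V) := repWith_comp @Etale hpe hιe
  obtain ⟨x', rfl⟩ : x ∈ Set.range (Points.map (openSubι X.obj V)) := by
    rw [range_points_map_openSubι]
    exact hxV
  obtain ⟨u, rfl⟩ := surjective_ofPt p hps x'
  rw [Points.map_ofPt] at hx ⊢
  have hu := (hasAt_dimZ_iff X.property (p ≫ openSubι X.obj V) hpιe u).mp hx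
  have h1 := mem_schLocus_of_qc_chart (⟨openSub X.obj V, hXV⟩ : Space S) p hpq hpe u hu
  have h2 := map_openSubι_mem_schLocus X.property hV _ h1
  rw [Points.map_ofPt] at h2
  exact h2

end Groth.Agent.Helper2.CodimZeroQs
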