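import Mathlib
import Groth.Prelude.Def_AlgSp4
import Groth.Prelude.Def_AlgSpDec
import Groth.Prelude.Def_AlgSp3
import Groth.Agent.Lib.Helper2.AlgSp.DecentOpen2
import Groth.Agent.Lib.Helper2.AlgSp.Points
import Groth.Agent.Lib.Helper2.Sch.QfAt

/-!
# No specializations in finite fibres of etale charts (helper2)

Copy of the results of `FibreSpec` in a separate namespace, with finiteness of fibres obtained
from `DecentOpen.exists_ptDegLE_of_decent`, so that it can be imported together with `Thick`.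
-/

set_option autoImplicit false
set_option backward.isDefEq.respectTransparency false
set_option linter.style.haveILetI false

open CategoryTheory CategoryTheory.Limits AlgebraicGeometry Opposite AlgSp

namespace Groth.Agent.Helper2.FibreSpecB
universe u
variable {S : Scheme.{u}}

/-- On a decent space, étale charts from affine schemes have finite fibres. -/
theorem finite_fibre_of_isDecent {X : Sp S} (hX : IsAlgSpace X) (hd : IsDecent X) (y : Points X)
    (V : Over S) (b : (yon S).obj V ⟶ X) (hV : IsAffine V.left) (hb : RepWith @Etale b) :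
    (Points.ofPt b ⁻¹' {y}).Finite := by
  haveI := hV
  obtain ⟨n, hn⟩ := Groth.Agent.Helper2.DecentOpen.exists_ptDegLE_of_decent hd b hb y
  exact Set.finite_of_encard_le_coe
    (Groth.Agent.Helper2.DecentOpen.encard_fiber_le_of_ptDegLE hX.diag b y n hn)

theorem repWith_etale_opensOverι_comp {X : Sp S} {U : Over S} (a : (yon S).obj U ⟶ X)
    (ha : RepWith @Etale a) (V : U.left.Opens) :
    RepWith @Etale ((yon S).map (AlgSpBasic.opensOverι V) ≫ a) :=
  AlgSpBasic.repWith_comp @Etale ((repWith_yon_map_iff @Etale (AlgSpBasic.opensOverι V)).mpr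
    (inferInstanceAs (Etale V.ι))) ha

theorem exists_affine_chart_through {X : Sp S} (hX : IsAlgSpace X) (x : Points X) :
    ∃ (V : Over S) (φ : (yon S).obj V ⟶ X), IsAffine V.left ∧ RepWith @Etale φ ∧
      ∃ u : ↥V.left, Points.ofPt φ u = x := by
  obtain ⟨U, a, hae, has⟩ := hX.atlas
  obtain ⟨u, hu⟩ := AlgSpBasic.surjective_ofPt a has x
  obtain ⟨_, ⟨V, hV, rfl⟩, huV, -⟩ := U.left.isBasis_affineOpens.exists_subset_of_mem_open
    (Set.mem_univ u) isOpen_univ
  refine ⟨AlgSpBasic.opensOver V, (yon S).map (AlgSpBasic.opensOverι V) ≫ a, (hV : IsAffine _),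
    repWith_etale_opensOverι_comp a hae V, ⟨u, huV⟩, ?_⟩
  rw [AlgSpBasic.ofPt_yon_map_comp]
  exact hu

/-- If the fibre of an etale chart over a point is finite, there are no nontrivial
specializations among its points. -/
theorem eq_of_specializes_of_finite_fibre {X : Sp S} {U R : Over S} (a : (yon S).obj U ⟶ X)
    (ha : RepWith @Etale a) (s t : R ⟶ U)
    (hR : IsPullback ((yon S).map t) ((yon S).map s) a a) (x : Points X)
    (hfin : (Points.ofPt a ⁻¹' {x}).Finite) (u u' : ↥U.left) (hu : Points.ofPt a u = x)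
    (hu' : Points.ofPt a u' = x) (hs : u' ⤳ u) : u = u' := by
  haveI : Etale s.left := ha.property a ((yon S).map t) s hR
  haveI : Etale t.left := ha.property a ((yon S).map s) t hR.flip
  haveI : LocallyQuasiFinite s.left := QfAt.locallyQuasiFinite_of_etale _
  -- Step A: a maximal generization in the fibre is trivial
  have stepA : ∀ w v : ↥U.left, Points.ofPt a w = x → Points.ofPt a v = x → w ⤳ v →
      (∀ z, Points.ofPt a z = x → z ⤳ w → z = w) → w = v := by
    intro w v hw hv hwv hmax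
    obtain ⟨r, hr1, hr2⟩ := AlgSpBasic.exists_point_of_isPullback_yon a a t s hR v w
      (hv.trans hw.symm)
    have hgen : GeneralizingMap t.left := Flat.generalizingMap t.left
    obtain ⟨r', hr'1, hr'2⟩ := hgen (show w ⤳ t.left r by rw [hr1]; exact hwv)
    have h1 : s.left r' ⤳ s.left r := hr'1.map s.left.continuous
    have h2 : Points.ofPt a (s.left r') = x := by
      rw [← AlgSpBasic.ofPt_yon_map_comp, ← hR.w, AlgSpBasic.ofPt_yon_map_comp, hr'2, hw]
    have h3 : s.left r' = w := hmax _ h2 (by rw [← hr2]; exact h1)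
    have hdisc := (s.left.isDiscrete_preimage_singleton w).to_subtype
    have h4 : (⟨r', h3⟩ : ↥(s.left ⁻¹' {w})) ⤳ ⟨r, hr2⟩ :=
      (subtype_specializes_iff _ _).2 hr'1
    have h5 : r' = r := congrArg Subtype.val h4.eq
    rw [← hr'2, h5, hr1]
  -- Step B: every point of the fibre is maximal
  have stepB : ∀ v : ↥U.left, Points.ofPt a v = x →
      ∀ z, Points.ofPt a z = x → z ⤳ v → z = v := by
    intro v hv
    letI := specializationPreorder ↥U.left
    have hG : {w : ↥U.left | Points.ofPt a w = x ∧ w ⤳ v}.Finite :=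
      hfin.subset (fun w hw => hw.1)
    obtain ⟨w, ⟨hw1, hw2⟩, hwmax⟩ := hG.exists_maximal ⟨v, hv, specializes_rfl⟩
    have hwv : w = v := by
      refine stepA w v hw1 hv hw2 ?_
      intro z hz hzw
      have h1 : w ⤳ z := hwmax ⟨hz, hzw.trans hw2⟩ hzw
      exact (hzw.antisymm h1).eq
    subst hwv
    intro z hz hzw
    have h1 : w ⤳ z := hwmax ⟨hz, hzw⟩ hzw
    exact (hzw.antisymm h1).eq
  exact (stepB u hu u' hu' hs).symm

/-- `S10341`. -/
theorem eq_of_specializes {X : Sp S} (hX : IsAlgSpace X) (x : Points X)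
    (hx : ∀ (V : Over S) (b : (yon S).obj V ⟶ X), IsAffine V.left → RepWith @Etale b →
      (Points.ofPt b ⁻¹' {x}).Finite)
    {U : Over S} (a : (yon S).obj U ⟶ X) (ha : RepWith @Etale a) (u u' : ↥U.left)
    (hu : Points.ofPt a u = x) (hu' : Points.ofPt a u' = x) (hs : u' ⤳ u) : u = u' := by
  obtain ⟨_, ⟨V, hV, rfl⟩, huV, -⟩ := U.left.isBasis_affineOpens.exists_subset_of_mem_open
    (Set.mem_univ u) isOpen_univ
  have hu'V : u' ∈ (V : Set ↥U.left) := hs.mem_open V.isOpen huV
  have ha₀ := repWith_etale_opensOverι_comp a ha V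
  have hfin := hx (AlgSpBasic.opensOver V) _ (hV : IsAffine _) ha₀
  obtain ⟨R, t, s, hR⟩ := AlgSpBasic.exists_isPullback_yon hX.diag
    ((yon S).map (AlgSpBasic.opensOverι V) ≫ a) ((yon S).map (AlgSpBasic.opensOverι V) ≫ a)
  have h1 : Points.ofPt ((yon S).map (AlgSpBasic.opensOverι V) ≫ a)
      (⟨u, huV⟩ : ↥(AlgSpBasic.opensOver V).left) = x := by
    rw [AlgSpBasic.ofPt_yon_map_comp]; exact hu
  have h2 : Points.ofPt ((yon S).map (AlgSpBasic.opensOverι V) ≫ a)
      (⟨u', hu'V⟩ : ↥(AlgSpBasic.opensOver V).left) = x := by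
    rw [AlgSpBasic.ofPt_yon_map_comp]; exact hu'
  have h3 : (⟨u', hu'V⟩ : ↥(AlgSpBasic.opensOver V).left) ⤳ ⟨u, huV⟩ :=
    (subtype_specializes_iff _ _).2 hs
  have h4 := eq_of_specializes_of_finite_fibre _ ha₀ s t hR x hfin _ _ h1 h2 h3
  exact congrArg Subtype.val h4

/-- Generizations lift along an etale chart to a point whose fibre is finite. -/
theorem exists_specializes_of_finite_fibre {X : Sp S} {U : Over S} (a : (yon S).obj U ⟶ X)
    (ha : RepWith @Etale a) (x' : Points X) (hfin : (Points.ofPt a ⁻¹' {x'}).Finite) (u : ↥U.left)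
    (h : x' ⤳ Points.ofPt a u) : ∃ u' : ↥U.left, Points.ofPt a u' = x' ∧ u' ⤳ u := by
  have h1 : u ∈ closure (Points.ofPt a ⁻¹' {x'}) := by
    rw [mem_closure_iff]
    intro N hN huN
    have h2 : IsOpen (Points.ofPt a '' N) := AlgSpBasic.isOpenMap_ofPt a ha N hN
    obtain ⟨n, hn1, hn2⟩ := h.mem_open h2 ⟨u, huN, rfl⟩
    exact ⟨n, hn1, hn2⟩
  have h3 : (Points.ofPt a ⁻¹' {x'}) = ⋃ v ∈ (Points.ofPt a ⁻¹' {x'}), ({v} : Set ↥U.left) :=
    (Set.biUnion_of_singleton _).symm
  rw [h3, hfin.closure_biUnion] at h1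
  simp only [Set.mem_iUnion] at h1
  obtain ⟨u', hu'1, hu'2⟩ := h1
  exact ⟨u', hu'1, specializes_iff_mem_closure.2 hu'2⟩

/-- The space of points of a decent algebraic space is Kolmogorov. -/
theorem t0Space_of_isDecent {X : Sp S} (hX : IsAlgSpace X) (hd : IsDecent X) :
    T0Space (Points X) := by
  rw [t0Space_iff_inseparable]
  intro x x' hxx'
  obtain ⟨h1, h2⟩ := inseparable_iff_specializes_and.1 hxx'
  have hfin : ∀ (y : Points X) (V : Over S) (b : (yon S).obj V ⟶ X), IsAffine V.left →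
      RepWith @Etale b → (Points.ofPt b ⁻¹' {y}).Finite :=
    fun y V b hV hb => finite_fibre_of_isDecent hX hd y V b hV hb
  obtain ⟨V, φ, hV, hφ, ⟨u, hu⟩⟩ := exists_affine_chart_through hX x
  obtain ⟨u', hu'1, hu'2⟩ := exists_specializes_of_finite_fibre φ hφ x' (hfin x' V φ hV hφ) u
    (by rw [hu]; exact h2)
  obtain ⟨u'', hu''1, hu''2⟩ := exists_specializes_of_finite_fibre φ hφ x (hfin x V φ hV hφ) u'
    (by rw [hu'1]; exact h1)
  have h3 : u = u'' := eq_of_specializes hX x (hfin x) φ hφ u u'' hu hu''1 (hu''2.trans hu'2)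
  have h4 : u = u' := ((h3 ▸ hu''2 : u ⤳ u').antisymm hu'2).eq
  rw [← hu, ← hu'1, h4]

/-- Generizations lift along etale charts of a decent space. -/
theorem exists_specializes_of_isDecent {X : Sp S} (hX : IsAlgSpace X) (hd : IsDecent X)
    (x x' : Points X) (h : x' ⤳ x)
    {U : Over S} (a : (yon S).obj U ⟶ X) (ha : RepWith @Etale a) (u : ↥U.left)
    (hu : Points.ofPt a u = x) : ∃ u' : ↥U.left, u' ⤳ u ∧ Points.ofPt a u' = x' := by
  obtain ⟨_, ⟨V, hV, rfl⟩, huV, -⟩ := U.left.isBasis_affineOpens.exists_subset_of_mem_open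
    (Set.mem_univ u) isOpen_univ
  have ha₀ := repWith_etale_opensOverι_comp a ha V
  haveI : IsAffine (AlgSpBasic.opensOver V).left := hV
  have hfin : (Points.ofPt ((yon S).map (AlgSpBasic.opensOverι V) ≫ a) ⁻¹' {x'}).Finite :=
    finite_fibre_of_isDecent hX hd x' _ _ hV ha₀
  let uV : ↥(AlgSpBasic.opensOver V).left := ⟨u, huV⟩
  obtain ⟨u', hu'1, hu'2⟩ := exists_specializes_of_finite_fibre _ ha₀ x' hfin uV (by
    rw [AlgSpBasic.ofPt_yon_map_comp]
    have : (AlgSpBasic.opensOverι V).left uV = u := rfl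
    rw [this, hu]; exact h)
  refine ⟨(AlgSpBasic.opensOverι V).left u', ?_, ?_⟩
  · have := hu'2.map (AlgSpBasic.opensOverι V).left.continuous
    exact this
  · rw [← AlgSpBasic.ofPt_yon_map_comp]; exact hu'1

/-- On a decent space, there are no specializations inside the fibres of an étale chart. -/
theorem eq_of_specializes_of_isDecent {X : Sp S} (hX : IsAlgSpace X) (hd : IsDecent X)
    {U : Over S} (a : (yon S).obj U ⟶ X) (ha : RepWith @Etale a) (u u' : ↥U.left)
    (he : Points.ofPt a u = Points.ofPt a u') (hs : u' ⤳ u) : u = u' :=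
  eq_of_specializes hX (Points.ofPt a u')
    (fun V b hV hb => finite_fibre_of_isDecent hX hd _ V b hV hb)
    a ha u u' he rfl hs

end Groth.Agent.Helper2.FibreSpecB
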