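import Mathlib
import Groth.Agent.Lib.Helper2.AlgSp.CodimZeroQs
import Groth.Agent.Lib.Helper2.AlgSp.FiniteMor
import Groth.Agent.Lib.Helper2.AlgSp.QC
import Groth.Agent.Lib.Helper2.AlgSp.FinLocFreeQuot2
import Groth.Agent.Lib.Helper2.AlgSp.QfAtSp
import Groth.Agent.Lib.Helper2.AlgSp.FibreSpecB
import Groth.Agent.Lib.Helper6.GenFin.Fiber
import Groth.Agent.S10268
import Groth.Agent.S10267
import Groth.Agent.S9903

/-!
# Generic finiteness for morphisms of algebraic spaces (helper2)
-/

set_option autoImplicit false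
set_option linter.style.haveILetI false

open CategoryTheory CategoryTheory.Limits AlgebraicGeometry Opposite AlgSp

universe u

namespace Groth.Agent.Helper2.GenFiniteSp

open Groth.Agent.Helper2.AlgSpBasic Groth.Agent.Helper2.LargestSch
open Groth.Agent.Helper2.DecentOpen Groth.Agent.Helper2.QfCodimZero

section Cat

variable {C : Type*} [Category C]

theorem isPullback_cancel_mono {P X Y W Z : C} {fst : P ⟶ X} {snd : P ⟶ Y} {f : X ⟶ W}
    {g : Y ⟶ W} (i : W ⟶ Z) [Mono i] (sq : IsPullback fst snd (f ≫ i) (g ≫ i)) :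
    IsPullback fst snd f g := by
  refine ⟨⟨by rw [← cancel_mono i, Category.assoc, Category.assoc, sq.w]⟩,
    ⟨PullbackCone.IsLimit.mk _ (fun s => sq.lift s.fst s.snd (by
      rw [← Category.assoc, s.condition, Category.assoc])) (fun s => sq.lift_fst _ _ _)
      (fun s => sq.lift_snd _ _ _) (fun s m h1 h2 => sq.hom_ext ?_ ?_)⟩⟩
  · rw [h1, sq.lift_fst]
  · rw [h2, sq.lift_snd]

theorem isPullback_shift_mono {P X X' Y W : C} {p : P ⟶ X'} (m : X' ⟶ X) [Mono m] {q : P ⟶ Y}
    {a : X ⟶ W} {g : Y ⟶ W} (sq : IsPullback (p ≫ m) q a g) : IsPullback p q (m ≫ a) g := by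
  refine ⟨⟨by rw [← Category.assoc, sq.w]⟩,
    ⟨PullbackCone.IsLimit.mk _ (fun s => sq.lift (s.fst ≫ m) s.snd (by
      rw [Category.assoc, s.condition])) (fun s => ?_)
      (fun s => sq.lift_snd _ _ _) (fun s l h1 h2 => sq.hom_ext ?_ ?_)⟩⟩
  · rw [← cancel_mono m, Category.assoc, sq.lift_fst]
  · rw [sq.lift_fst, ← Category.assoc, h1]
  · rw [h2, sq.lift_snd]

end Cat

variable {S : Scheme.{u}}

/-- Restricting a kernel pair to an open subscheme whose preimages under the two projections
agree. -/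
theorem isPullback_restrict_kernelPair {P : Sp S} {U R : Over S} (a : (yon S).obj U ⟶ P)
    (t s : R ⟶ U) (sq : IsPullback ((yon S).map t) ((yon S).map s) a a) (U' : U.left.Opens)
    (hU' : ∀ r : R.left, s.left r ∈ U' → t.left r ∈ U') :
    ∃ (t' : opensOver (s.left ⁻¹ᵁ U') ⟶ opensOver U') (s' : opensOver (s.left ⁻¹ᵁ U') ⟶ opensOver U'),
      s'.left = s.left ∣_ U' ∧
      IsPullback ((yon S).map t') ((yon S).map s') ((yon S).map (opensOverι U') ≫ a)
        ((yon S).map (opensOverι U') ≫ a) := by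
  let W' : R.left.Opens := s.left ⁻¹ᵁ U'
  let s' : opensOver W' ⟶ opensOver U' := Over.homMk (s.left ∣_ U') (by
    show (s.left ∣_ U') ≫ U'.ι ≫ U.hom = W'.ι ≫ R.hom
    rw [← Category.assoc, morphismRestrict_ι, Category.assoc, Over.w s])
  have sq1 : IsPullback ((yon S).map (opensOverι W')) ((yon S).map s')
      ((yon S).map s) ((yon S).map (opensOverι U')) :=
    (yon_isPullback_of_left s' (opensOverι W') (opensOverι U') s
      (isPullback_morphismRestrict s.left U')).flip
  have big := sq1.paste_horiz sq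
  have hrange : Set.range (W'.ι ≫ t.left) ⊆ Set.range U'.ι := by
    rw [Scheme.Opens.range_ι]
    rintro _ ⟨r, rfl⟩
    rw [Scheme.Hom.comp_apply]
    exact hU' _ r.2
  let t' : opensOver W' ⟶ opensOver U' :=
    Over.homMk (IsOpenImmersion.lift U'.ι (W'.ι ≫ t.left) hrange) (by
      show IsOpenImmersion.lift U'.ι (W'.ι ≫ t.left) hrange ≫ U'.ι ≫ U.hom = W'.ι ≫ R.hom
      rw [← Category.assoc, IsOpenImmersion.lift_fac, Category.assoc, Over.w t])
  have ht' : t' ≫ opensOverι U' = opensOverι W' ≫ t := by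
    apply Over.OverMorphism.ext
    exact IsOpenImmersion.lift_fac _ _ _
  rw [← Functor.map_comp, ← ht', Functor.map_comp] at big
  haveI : Mono (opensOverι U') := by
    haveI : Mono (opensOverι U').left := inferInstanceAs (Mono U'.ι)
    exact (Over.forget S).mono_of_mono_map ‹_›
  haveI : Mono ((yon S).map (opensOverι U')) := inferInstance
  exact ⟨t', s', rfl, isPullback_shift_mono _ big⟩

/-- Core: over an affine open `V'` of `V` where the chart and its kernel pair are finite, the base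
change of `P` is an affine scheme, universally closed over `V'`. -/
theorem exists_affine_of_restrict {P : Sp S} (hP : IsAlgSpace P) {U V : Over S}
    [IsAffine U.left] [IsAffine V.left]
    (sndP : P ⟶ (yon S).obj V) (a : (yon S).obj U ⟶ P) (hae : RepWith @Etale a)
    (has : RepWith @Surjective a) (g : U ⟶ V) (hg : (yon S).map g = a ≫ sndP)
    {R : Over S} (t s : R ⟶ U) (sq : IsPullback ((yon S).map t) ((yon S).map s) a a)
    (V' : V.left.Opens) (hV' : IsAffineOpen V') (hfin1 : IsFinite (g.left ∣_ V'))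
    (hfin2 : IsFinite ((s.left ≫ g.left) ∣_ V'))
    {P' : Sp S} (κ : P' ⟶ P) (sndP' : P' ⟶ (yon S).obj (opensOver V'))
    (sqκ : IsPullback κ sndP' sndP ((yon S).map (opensOverι V'))) :
    ∃ (M : Over S) (m : M ⟶ opensOver V') (e : (yon S).obj M ≅ P'), IsAffine M.left ∧
      e.hom ≫ sndP' = (yon S).map m ∧ UniversallyClosed m.left := by
  haveI hVOaff : IsAffine (opensOver V').left := hV'
  have hP' : IsAlgSpace P' :=
    isAlgSpace_of_isPullback (IsAlgSpace.yon_obj V).diag hP (IsAlgSpace.yon_obj (opensOver V'))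
      sndP ((yon S).map (opensOverι V')) κ sndP' sqκ
  -- the restricted chart
  let U' : U.left.Opens := g.left ⁻¹ᵁ V'
  let g' : opensOver U' ⟶ opensOver V' := Over.homMk (g.left ∣_ V') (by
    show (g.left ∣_ V') ≫ V'.ι ≫ V.hom = U'.ι ≫ U.hom
    rw [← Category.assoc, morphismRestrict_ι, Category.assoc, Over.w g])
  haveI hg'fin : IsFinite g'.left := hfin1
  haveI hUOaff : IsAffine (opensOver U').left := isAffine_of_isAffineHom g'.left
  have hg'ι : g' ≫ opensOverι V' = opensOverι U' ≫ g := by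
    apply Over.OverMorphism.ext
    exact morphismRestrict_ι g.left V'
  have hcomm : ((yon S).map (opensOverι U') ≫ a) ≫ sndP =
      (yon S).map g' ≫ (yon S).map (opensOverι V') := by
    rw [Category.assoc, ← hg, ← Functor.map_comp, ← Functor.map_comp, hg'ι]
  obtain ⟨a', ha'⟩ : ∃ a', a' = sqκ.lift ((yon S).map (opensOverι U') ≫ a) ((yon S).map g') hcomm :=
    ⟨_, rfl⟩
  have ha'κ : a' ≫ κ = (yon S).map (opensOverι U') ≫ a := by rw [ha', sqκ.lift_fst]
  have ha'snd : a' ≫ sndP' = (yon S).map g' := by rw [ha', sqκ.lift_snd]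
  have big : IsPullback ((yon S).map (opensOverι U')) (a' ≫ sndP') (a ≫ sndP)
      ((yon S).map (opensOverι V')) := by
    rw [ha'snd, ← hg]
    exact (yon_isPullback_of_left g' (opensOverι U') (opensOverι V') g
      (isPullback_morphismRestrict g.left V')).flip
  have sqa' : IsPullback ((yon S).map (opensOverι U')) a' a κ :=
    IsPullback.of_bot big ha'κ.symm sqκ
  have ha'e : RepWith @Etale a' := repWith_of_isPullback @Etale sqa' hae
  have ha's : RepWith @Surjective a' := repWith_of_isPullback @Surjective sqa' has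
  -- the kernel pair of the restricted chart
  have hst : t ≫ g = s ≫ g := by
    apply (yon S).map_injective
    rw [Functor.map_comp, Functor.map_comp, hg, ← Category.assoc, ← Category.assoc, sq.w]
  have hU'sat : ∀ r : R.left, s.left r ∈ U' → t.left r ∈ U' := by
    intro r hr
    show g.left (t.left r) ∈ V'
    have h1 : g.left (t.left r) = g.left (s.left r) := by
      rw [← Scheme.Hom.comp_apply, ← Scheme.Hom.comp_apply, ← Over.comp_left, ← Over.comp_left, hst]
    rw [h1]
    exact hr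
  obtain ⟨t', s', hs', sq'⟩ := isPullback_restrict_kernelPair a t s sq U' hU'sat
  rw [← ha'κ] at sq'
  haveI : Mono ((yon S).map (opensOverι V')) := by
    haveI : Mono (opensOverι V') := by
      haveI : Mono (opensOverι V').left := inferInstanceAs (Mono V'.ι)
      exact (Over.forget S).mono_of_mono_map ‹_›
    infer_instance
  haveI : Mono κ := sqκ.mono_fst_of_mono
  have sq'' : IsPullback ((yon S).map t') ((yon S).map s') a' a' := isPullback_cancel_mono κ sq'
  haveI hs'fin : IsFinite s'.left := by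
    rw [hs']
    have h1 : (s.left ≫ g.left) ∣_ V' = (s.left ∣_ U') ≫ (g.left ∣_ V') :=
      morphismRestrict_comp s.left g.left V'
    rw [h1] at hfin2
    haveI hsep : IsSeparated (g.left ∣_ V') := inferInstance
    exact @IsFinite.of_comp _ _ _ (s.left ∣_ U') (g.left ∣_ V') hfin2 hsep
  have ha'f : RepWith @IsFinite a' :=
    (repWith_iff_of_chart a' ha'e.rep a' ha'e ha's ((yon S).map t') s' sq'' @IsFinite).mpr hs'fin
  have hflf : RepWith finLocFree a' := by
    refine ⟨ha'e.rep, fun T W g₀ fst snd sq₀ => ?_⟩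
    haveI h1 : IsFinite snd.left := ha'f.property g₀ fst snd sq₀
    haveI h2 : Etale snd.left := ha'e.property g₀ fst snd sq₀
    exact ⟨h1, (inferInstance : Flat snd.left),
      (inferInstance : LocallyOfFinitePresentation snd.left)⟩
  obtain ⟨M, q, e, hMaff, hqe⟩ :=
    Groth.Agent.Helper2.FinLocFreeQuot.exists_iso_yon_of_finLocFree_affine a' hflf ha's
  obtain ⟨m, hm⟩ := (yon S).map_surjective (e.hom ≫ sndP')
  refine ⟨M, m, e, hMaff, hm.symm, ?_⟩
  have hqm : q ≫ m = g' := by
    apply (yon S).map_injective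
    rw [Functor.map_comp, hm, ← Category.assoc, hqe, ha'snd]
  have hqs : Surjective q.left := by
    have h1 : RepWith @Surjective ((yon S).map q ≫ e.hom) := by rw [hqe]; exact ha's
    have h2 : RepWith @Surjective ((yon S).map q) :=
      ((RepWith (S := S) @Surjective).cancel_right_of_respectsIso _ e.hom).mp h1
    exact (repWith_yon_map_iff @Surjective q).mp h2
  haveI : UniversallyClosed (q.left ≫ m.left) := by
    rw [← Over.comp_left, hqm]
    infer_instance
  exact UniversallyClosed.of_comp_surjective q.left m.left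

open Groth.Agent.Helper2.QfAt Groth.Agent.Helper2.QfAtSp in
/-- S10398 core: generic finiteness over a codimension zero point. -/
theorem exists_open_finite {X Y : Space S} (f : X ⟶ Y) (hqs : IsQuasiSeparatedMor f.hom)
    (hft : IsFiniteTypeMor f.hom) (y : Points Y.obj) (hy : HasAt DimZ Y.obj y)
    (hqf : ∀ x : Points X.obj, Points.map f.hom x = y → HasAtMor QfQ f.hom x) :
    ∃ O : Set (Points Y.obj), IsOpen O ∧ y ∈ O ∧
      ∀ (X' : Sp S) (fst : X' ⟶ openSub Y.obj O) (snd : X' ⟶ X.obj),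
        IsPullback fst snd (openSubι Y.obj O) f.hom → IsFiniteMor fst := by
  obtain ⟨V, b, hVaff, hbe, v, hv⟩ :=
    Groth.Agent.Helper2.FibreSpecB.exists_affine_chart_through Y.property y
  haveI := hVaff
  have hvdim : ringKrullDim ↥(V.left.presheaf.stalk v) = 0 :=
    (hasAt_dimZ_iff Y.property b hbe v).mp (hv ▸ hy)
  -- the base change to `V`
  obtain ⟨P, fstP, sndP, sqP⟩ : ∃ (P : Sp S) (fstP : P ⟶ X.obj) (sndP : P ⟶ (yon S).obj V),
      IsPullback fstP sndP f.hom b := ⟨_, _, _, IsPullback.of_hasPullback f.hom b⟩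
  have hP : IsAlgSpace P :=
    isAlgSpace_of_isPullback Y.property.diag X.property (IsAlgSpace.yon_obj V) f.hom b _ _ sqP
  have hPq : IsQuasiCompactSp P :=
    hft.2 (IsAlgSpace.yon_obj V) ((isQuasiCompactSp_yon_iff V).mpr inferInstance) b fstP sndP sqP
  obtain ⟨U, a, hUaff, hae, has⟩ := (isQuasiCompactSp_iff_exists_affine_chart hP).mp hPq
  haveI := hUaff
  obtain ⟨g, hg⟩ := (yon S).map_surjective (a ≫ sndP)
  have hfstPe : RepWith @Etale fstP := repWith_of_isPullback @Etale sqP.flip hbe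
  have hafe : RepWith @Etale (a ≫ fstP) := repWith_comp @Etale hae hfstPe
  have hc : (a ≫ fstP) ≫ f.hom = (yon S).map g ≫ b := by
    rw [Category.assoc, sqP.w, ← Category.assoc, hg]
  haveI hglft : LocallyOfFiniteType g.left := hft.1 (a ≫ fstP) b g hafe hbe hc
  haveI hgqc : QuasiCompact g.left := (quasiCompact_iff_compactSpace _).mpr inferInstance
  -- finiteness of the fibre of `g`
  have hgqf : ∀ u : ↥U.left, g.left u = v → g.left.QuasiFiniteAt u := by
    intro u hu
    have hx : Points.map f.hom (Points.ofPt (a ≫ fstP) u) = y := by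
      rw [Points.map_ofPt, hc, ofPt_yon_map_comp, hu, hv]
    exact quasiFiniteAt_of_hasAtMor X.property.diag Y.property.diag f.hom hft.1 _
      (hqf _ hx) (a ≫ fstP) b g hafe hbe hc u rfl
  have hfib1 : (g.left ⁻¹' {v}).Finite :=
    (finite_quasiFiniteAt_fibre g.left v).subset fun u hu => ⟨hu, hgqf u hu⟩
  have hvgen : ∀ y' : ↥V.left, y' ⤳ v → y' = v := fun y' hy' =>
    Groth.Agent.Helper2.CodimZeroSch.eq_of_specializes_of_dimZ v y' hvdim hy'
  obtain ⟨V₁, -, hvV₁, hV₁fin⟩ :=
    Groth.Agent.Lib.Helper6.GenFin.exists_isFinite_morphismRestrict_of_qcqs g.left v hvgen hfib1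
  -- the chart is quasi-compact
  have hgq : IsQuasiCompactMor (a ≫ sndP) := by
    rw [← hg]
    exact isQuasiCompactMor_of_repWith (IsAlgSpace.yon_obj U) (IsAlgSpace.yon_obj V).diag _
      ((repWith_yon_map_iff @QuasiCompact g).mpr hgqc)
  have hsndqs : IsQuasiSeparatedMor sndP :=
    ((Groth.Agent.S9903.result f).2.mp hqs) V hVaff b P fstP sndP sqP
  have haq : IsQuasiCompactMor a :=
    isQuasiCompactMor_of_comp_of_isQuasiSeparatedMor (IsAlgSpace.yon_obj U) hP
      (IsAlgSpace.yon_obj V) a sndP hgq hsndqs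
  have haqc : RepWith @QuasiCompact a := repWith_quasiCompact_of_isQuasiCompactMor a hae.rep haq
  -- the kernel pair
  obtain ⟨R, t, s, sq⟩ := exists_isPullback_yon hP.diag a a
  haveI hsqc : QuasiCompact s.left := haqc.property a ((yon S).map t) s sq
  haveI hse : Etale s.left := hae.property a ((yon S).map t) s sq
  obtain ⟨-, -, hsep, hlqf⟩ := repWith_of_etale_affine a hae
  haveI hss : IsSeparated s.left := hsep.property a ((yon S).map t) s sq
  haveI hsl : LocallyQuasiFinite s.left := hlqf.property a ((yon S).map t) s sq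
  have hfib2 : ((s.left ≫ g.left) ⁻¹' {v}).Finite := by
    have : (s.left ≫ g.left) ⁻¹' {v} = s.left ⁻¹' (g.left ⁻¹' {v}) := by
      ext r
      simp only [Set.mem_preimage, Set.mem_singleton_iff, Scheme.Hom.comp_apply]
    rw [this]
    exact hfib1.preimage' fun u _ => s.left.finite_preimage_singleton u
  obtain ⟨V₂, -, hvV₂, hV₂fin⟩ :=
    Groth.Agent.Lib.Helper6.GenFin.exists_isFinite_morphismRestrict_of_qcqs (s.left ≫ g.left) v
      hvgen hfib2
  obtain ⟨V', hV', hvV', hV'le⟩ := exists_isAffineOpen_mem_and_subset (x := v) (U := V₁ ⊓ V₂)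
    ⟨hvV₁, hvV₂⟩
  have hfin1 : IsFinite (g.left ∣_ V') :=
    Groth.Agent.Lib.Helper6.GenFin.isFinite_morphismRestrict_of_le g.left
      (hV'le.trans inf_le_left) hV₁fin
  have hfin2 : IsFinite ((s.left ≫ g.left) ∣_ V') :=
    Groth.Agent.Lib.Helper6.GenFin.isFinite_morphismRestrict_of_le (s.left ≫ g.left)
      (hV'le.trans inf_le_right) hV₂fin
  haveI hVOaff : IsAffine (opensOver V').left := hV'
  -- the base change to `V'`
  obtain ⟨b', hb'⟩ : ∃ b', b' = (yon S).map (opensOverι V') ≫ b := ⟨_, rfl⟩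
  have hb'e : RepWith @Etale b' := by
    rw [hb']
    exact repWith_comp @Etale ((repWith_yon_map_iff @Etale _).mpr
      (inferInstanceAs (Etale V'.ι))) hbe
  obtain ⟨P', fstP', sndP', sqP'⟩ : ∃ (P' : Sp S) (fstP' : P' ⟶ X.obj)
      (sndP' : P' ⟶ (yon S).obj (opensOver V')), IsPullback fstP' sndP' f.hom b' :=
    ⟨_, _, _, IsPullback.of_hasPullback f.hom b'⟩
  have hκc : fstP' ≫ f.hom = (sndP' ≫ (yon S).map (opensOverι V')) ≫ b := by
    rw [sqP'.w, hb', Category.assoc]
  obtain ⟨κ, hκ⟩ : ∃ κ, κ = sqP.lift fstP' (sndP' ≫ (yon S).map (opensOverι V')) hκc := ⟨_, rfl⟩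
  have hκ1 : κ ≫ fstP = fstP' := by rw [hκ, sqP.lift_fst]
  have hκ2 : κ ≫ sndP = sndP' ≫ (yon S).map (opensOverι V') := by rw [hκ, sqP.lift_snd]
  have sqκ : IsPullback κ sndP' sndP ((yon S).map (opensOverι V')) := by
    have big : IsPullback (κ ≫ fstP) sndP' f.hom ((yon S).map (opensOverι V') ≫ b) := by
      rw [hκ1, ← hb']
      exact sqP'
    exact IsPullback.of_right big hκ2 sqP
  obtain ⟨M, m, e, hMaff, hem, hmuc⟩ :=
    exists_affine_of_restrict hP sndP a hae has g hg t s sq V' hV' hfin1 hfin2 κ sndP' sqκ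
  haveI := hMaff
  have hfstP'e : RepWith @Etale fstP' := repWith_of_isPullback @Etale sqP'.flip hb'e
  have hc' : (e.hom ≫ fstP') ≫ f.hom = (yon S).map m ≫ b' := by
    rw [Category.assoc, sqP'.w, ← Category.assoc, hem]
  haveI hmlft : LocallyOfFiniteType m.left :=
    hft.1 (e.hom ≫ fstP') b' m (repWith_of_iso_comp @Etale e.hom hfstP'e) hb'e hc'
  haveI hmfin : IsFinite m.left := by
    have hint : IsIntegralHom m.left :=
      (IsIntegralHom.iff_universallyClosed_and_isAffineHom).2 ⟨hmuc, inferInstance⟩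
    exact (IsFinite.iff_isIntegralHom_and_locallyOfFiniteType _).2 ⟨hint, inferInstance⟩
  -- the open image
  obtain ⟨O, hOdef⟩ : ∃ O, O = Set.range (Points.ofPt b') := ⟨_, rfl⟩
  have hO : IsOpen O := by
    rw [hOdef]
    exact (isOpenMap_ofPt b' hb'e).isOpen_range
  refine ⟨O, hO, ?_, ?_⟩
  · rw [hOdef]
    refine ⟨⟨v, hvV'⟩, ?_⟩
    rw [hb', ofPt_yon_map_comp]
    exact hv
  intro X' fst snd sqX
  have hY' : IsAlgSpace (openSub Y.obj O) := isAlgSpace_openSub Y.property hO
  have hX' : IsAlgSpace X' :=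
    isAlgSpace_of_isPullback Y.property.diag hY' X.property (openSubι Y.obj O) f.hom fst snd sqX
  have hpmem : ∀ q : Points ((yon S).obj (opensOver V')), Points.map b' q ∈ O := by
    intro q
    obtain ⟨w, rfl⟩ := (Points.schemeHomeo (opensOver V')).surjective q
    change Points.map _ (Points.ofScheme _ w) ∈ O
    rw [← Points.ofPt_eq_map_ofScheme, hOdef]
    exact ⟨w, rfl⟩
  obtain ⟨p, hp⟩ : ∃ p, p = openSubLift O b' hpmem := ⟨_, rfl⟩
  have hpι : p ≫ openSubι Y.obj O = b' := by rw [hp, openSubLift_ι]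
  have hpe : RepWith @Etale p := repWith_lift_of_mono @Etale (openSubι Y.obj O) _ p hpι hb'e
  have hps : RepWith @Surjective p := by
    apply repWith_surjective_of_surjective_ofPt p hpe.rep
    intro z
    have hz := points_map_openSubι_mem Y.obj O z
    obtain ⟨w, hw⟩ := (Set.ext_iff.mp hOdef _).mp hz
    refine ⟨w, ?_⟩
    apply injective_points_map_of_mono (openSubι Y.obj O)
    rw [Points.map_ofPt, hpι, hw]
  have hlc : ((yon S).map m ≫ p) ≫ openSubι Y.obj O = (e.hom ≫ fstP') ≫ f.hom := by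
    rw [Category.assoc, hpι, hc']
  obtain ⟨fst₂, hfst₂⟩ : ∃ fst₂, fst₂ = sqX.lift ((yon S).map m ≫ p) (e.hom ≫ fstP') hlc :=
    ⟨_, rfl⟩
  have hfst₂a : fst₂ ≫ fst = (yon S).map m ≫ p := by rw [hfst₂, sqX.lift_fst]
  have hfst₂b : fst₂ ≫ snd = e.hom ≫ fstP' := by rw [hfst₂, sqX.lift_snd]
  have sqM : IsPullback (e.hom ≫ fstP') ((yon S).map m) f.hom b' := by
    rw [← hem]
    exact sqP'.of_iso e.symm (Iso.refl _) (Iso.refl _) (Iso.refl _) (by simp) (by simp)
      (by simp) (by simp)
  have sq₂ : IsPullback fst₂ ((yon S).map m) fst p := by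
    have big : IsPullback (fst₂ ≫ snd) ((yon S).map m) f.hom (p ≫ openSubι Y.obj O) := by
      rw [hfst₂b, hpι]
      exact sqM
    exact IsPullback.of_right big hfst₂a sqX.flip
  have hfinm : IsFiniteMor ((yon S).map m) :=
    (Groth.Agent.S10267.result (X := ⟨(yon S).obj M, IsAlgSpace.yon_obj M⟩)
      (Y := ⟨(yon S).obj (opensOver V'), IsAlgSpace.yon_obj _⟩)
      (ObjectProperty.homMk ((yon S).map m))).2.mpr ((repWith_yon_map_iff @IsFinite m).mpr hmfin)
  exact (Groth.Agent.S10268.result (X := ⟨X', hX'⟩) (Y := ⟨openSub Y.obj O, hY'⟩)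
    (ObjectProperty.homMk fst) (opensOver V') p hpe hps fst₂ ((yon S).map m) sq₂).2 hfinm

end Groth.Agent.Helper2.GenFiniteSp
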