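import Mathlib
import Groth.Agent.Lib.Helper2.AlgSp.Coprod

/-!
# Gluing algebraic spaces along open subsheaves (helper2)
-/

set_option autoImplicit false
open CategoryTheory CategoryTheory.Limits AlgebraicGeometry Opposite AlgSp
open Groth.Agent.Helper2.AlgSpBasic

namespace Groth.Agent.Helper2.GlueSp
universe u
variable {S : Scheme.{u}}

/-- The diagonal of a sheaf covered by open subsheaves with representable diagonals is
representable. -/
theorem representable_diag_of_open_cover {G : Sp S} {ι : Type u} (Gi : ι → Sp S)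
    (j : ∀ i, Gi i ⟶ G) (hj : ∀ i, RepWith @IsOpenImmersion (j i))
    (hd : ∀ i, Representable (Limits.diag (Gi i)))
    (hcov : ∀ (T : Over S) (s : (yon S).obj T ⟶ G) (t : T.left), ∃ (i : ι) (Q : Over S)
      (β : Q ⟶ T) (α : (yon S).obj Q ⟶ Gi i) (q : Q.left),
      α ≫ j i = (yon S).map β ≫ s ∧ β.left q = t) :
    Representable (Limits.diag G) := by
  intro T g
  haveI : ∀ i, Mono (j i) := fun i => mono_of_repWith_isImmersion (j i)
    (repWith_mono (fun _ _ f (hf : IsOpenImmersion f) => (inferInstance : IsImmersion f)) (hj i))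
  have hrep : ∀ i, Representable (j i) := fun i => (hj i).rep
  let s : (yon S).obj T ⟶ G := g ≫ prod.fst
  let s' : (yon S).obj T ⟶ G := g ≫ prod.snd
  suffices hex : ∃ (W : Over S) (p : W ⟶ T) (fst : (yon S).obj W ⟶ G),
      IsPullback fst ((yon S).map p) (Limits.diag G) g ∧
        (⊤ : MorphismProperty Scheme.{u}) p.left by
    obtain ⟨W, p, fst, sq, -⟩ := hex
    exact ⟨W, p, fst, sq⟩
  refine Groth.Agent.Helper2.ZarGlue.exists_rep_of_family ⊤
    (Limits.diag G) g (fun i => (hrep i).pullback s') (fun i => (hrep i).snd s')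
    (fun i => (hj i).property s' _ _ ((hrep i).isPullback s')) ?_ ?_
  · intro x
    obtain ⟨i, Q, β, α, q, hα, hq⟩ := hcov T s' x
    have sqi := (hrep i).isPullback s'
    obtain ⟨l₀, hl₀⟩ := (yon S).map_surjective (sqi.lift α ((yon S).map β) hα)
    have h1 : l₀ ≫ (hrep i).snd s' = β :=
      (yon S).map_injective (by rw [Functor.map_comp, hl₀, sqi.lift_snd])
    refine ⟨i, l₀.left q, ?_⟩
    rw [← hq, ← h1]
    rfl
  · intro i
    -- the open `Z` on which `s'` lifts to `Gi i`
    let o := (hrep i).snd s'
    let σ' := (hrep i).fst s'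
    have sqZ : IsPullback σ' ((yon S).map o) (j i) s' := (hrep i).isPullback s'
    let sZ : (yon S).obj ((hrep i).pullback s') ⟶ G := (yon S).map o ≫ s
    -- the open `Z''` of `Z` on which `s` lifts as well
    let ι'' := (hrep i).snd sZ
    let σ := (hrep i).fst sZ
    have sqZ'' : IsPullback σ ((yon S).map ι'') (j i) sZ := (hrep i).isPullback sZ
    haveI : Mono ι''.left := by
      haveI : IsOpenImmersion ι''.left := (hj i).property sZ _ _ sqZ''
      infer_instance
    haveI : Mono ι'' := (Over.forget S).mono_of_mono_map ‹_›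
    haveI : Mono ((yon S).map ι'') := inferInstance
    let γ : (yon S).obj ((hrep i).pullback sZ) ⟶ Gi i ⨯ Gi i :=
      prod.lift σ ((yon S).map ι'' ≫ σ')
    have sqW := (hd i).isPullback γ
    let w := (hd i).snd γ
    let δ := (hd i).fst γ
    have dfst : ∀ X : Sp S, Limits.diag X ≫ prod.fst = 𝟙 X := fun X => prod.lift_fst _ _
    have dsnd : ∀ X : Sp S, Limits.diag X ≫ prod.snd = 𝟙 X := fun X => prod.lift_snd _ _
    have γfst : γ ≫ prod.fst = σ := prod.lift_fst _ _
    have γsnd : γ ≫ prod.snd = (yon S).map ι'' ≫ σ' := prod.lift_snd _ _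
    have hδ1 : δ = (yon S).map w ≫ σ := by
      calc δ = δ ≫ Limits.diag (Gi i) ≫ prod.fst := by rw [dfst, Category.comp_id]
        _ = ((yon S).map w ≫ γ) ≫ prod.fst := by rw [← Category.assoc, sqW.w]
        _ = (yon S).map w ≫ σ := by rw [Category.assoc, γfst]
    have hδ2 : δ = (yon S).map w ≫ (yon S).map ι'' ≫ σ' := by
      calc δ = δ ≫ Limits.diag (Gi i) ≫ prod.snd := by rw [dsnd, Category.comp_id]
        _ = ((yon S).map w ≫ γ) ≫ prod.snd := by rw [← Category.assoc, sqW.w]
        _ = (yon S).map w ≫ (yon S).map ι'' ≫ σ' := by rw [Category.assoc, γsnd]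
    refine ⟨(hd i).pullback γ, w ≫ ι'', δ ≫ j i, ?_, trivial⟩
    apply Groth.Agent.Helper2.ZarGlue.isPullback_of_yon
    · apply Limits.prod.hom_ext
      · rw [Category.assoc, dfst, Category.comp_id, Category.assoc, Functor.map_comp]
        show δ ≫ j i = ((yon S).map w ≫ (yon S).map ι'') ≫ (yon S).map o ≫ s
        rw [hδ1, Category.assoc, sqZ''.w, Category.assoc]
      · rw [Category.assoc, dsnd, Category.comp_id, Category.assoc, Functor.map_comp]
        show δ ≫ j i = ((yon S).map w ≫ (yon S).map ι'') ≫ (yon S).map o ≫ s'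
        rw [hδ2, Category.assoc, Category.assoc, sqZ.w, Category.assoc]
    · intro Q α β' hαβ
      have h1 : α = β' ≫ sZ := by
        calc α = α ≫ Limits.diag G ≫ prod.fst := by rw [dfst, Category.comp_id]
          _ = (β' ≫ (yon S).map o ≫ g) ≫ prod.fst := by rw [← Category.assoc, hαβ]
          _ = β' ≫ sZ := by simp only [Category.assoc, sZ, s]
      have h2 : α = β' ≫ σ' ≫ j i := by
        calc α = α ≫ Limits.diag G ≫ prod.snd := by rw [dsnd, Category.comp_id]
          _ = (β' ≫ (yon S).map o ≫ g) ≫ prod.snd := by rw [← Category.assoc, hαβ]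
          _ = β' ≫ (yon S).map o ≫ s' := by simp only [Category.assoc, s']
          _ = β' ≫ σ' ≫ j i := by rw [sqZ.w]
      have h3 : (β' ≫ σ') ≫ j i = β' ≫ sZ := by rw [Category.assoc, ← h2, h1]
      let l'' := sqZ''.lift (β' ≫ σ') β' h3
      have hl1 : l'' ≫ σ = β' ≫ σ' := sqZ''.lift_fst _ _ _
      have hl2 : l'' ≫ (yon S).map ι'' = β' := sqZ''.lift_snd _ _ _
      have h4 : (β' ≫ σ') ≫ Limits.diag (Gi i) = l'' ≫ γ := by
        apply Limits.prod.hom_ext
        · rw [Category.assoc, dfst, Category.comp_id, Category.assoc, γfst, hl1]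
        · rw [Category.assoc, dsnd, Category.comp_id, Category.assoc, γsnd, ← Category.assoc, hl2]
      refine ⟨sqW.lift (β' ≫ σ') l'' h4, ?_, ?_⟩
      · rw [← Category.assoc, sqW.lift_fst, Category.assoc, ← h2]
      · rw [Functor.map_comp, ← Category.assoc, sqW.lift_snd, hl2]
    · intro Q l l' e1 e2
      apply sqW.hom_ext
      · rw [← Category.assoc, ← Category.assoc] at e1
        exact (cancel_mono (j i)).mp e1
      · rw [Functor.map_comp, ← Category.assoc, ← Category.assoc] at e2
        exact (cancel_mono _).mp e2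

/-- A map from a representable sheaf is representable with a Zariski-source-local property `P` as
soon as its restrictions to the members of an open cover of the source are. -/
theorem repWith_of_source_openCover (P : MorphismProperty Scheme.{u}) [IsZariskiLocalAtSource P]
    {G : Sp S} {U : Over S} (p : (yon S).obj U ⟶ G) {κ : Type u} (Uk : κ → Over S)
    (o : ∀ k, Uk k ⟶ U) (ho : ∀ k, IsOpenImmersion (o k).left)
    (hcov : ∀ x : U.left, ∃ k, x ∈ Set.range (o k).left)
    (h : ∀ k, RepWith P ((yon S).map (o k) ≫ p)) : RepWith P p := by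
  haveI : (P.inverseImage (Over.forget S)).RespectsIso :=
    MorphismProperty.RespectsIso.inverseImage P _
  refine MorphismProperty.relative.of_exists fun T s => ?_
  obtain ⟨W, pW, fst, sq, -⟩ := Groth.Agent.Helper2.ZarGlue.exists_rep_of_family ⊤ s p Uk o ho
    hcov (fun k => by
      have hrep := (h k).rep
      obtain ⟨pk, hpk⟩ := (yon S).map_surjective (hrep.fst s)
      refine ⟨hrep.pullback s, pk, (yon S).map (hrep.snd s), ?_, trivial⟩
      rw [hpk]
      exact (hrep.isPullback s).flip)
  obtain ⟨r, hr⟩ := (yon S).map_surjective fst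
  refine ⟨W, (yon S).map pW, r, ?_, ?_⟩
  · rw [hr]
    exact sq.flip
  · show P r.left
    have sqk : ∀ k, IsPullback (pullback.fst pW (o k)) (pullback.snd pW (o k)) pW (o k) :=
      fun k => IsPullback.of_hasPullback _ _
    have hoi : ∀ k, IsOpenImmersion (pullback.fst pW (o k)).left := fun k =>
      MorphismProperty.of_isPullback (P := @IsOpenImmersion)
        ((sqk k).map (Over.forget S)).flip (ho k)
    let 𝒲 : Scheme.OpenCover.{u} W.left :=
      Scheme.Cover.mkOfCovers κ (fun k => (pullback pW (o k)).left)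
        (fun k => (pullback.fst pW (o k)).left)
        (fun x => by
          obtain ⟨k, y, hy⟩ := hcov (pW.left x)
          obtain ⟨z, hz, -⟩ := Groth.Agent.Helper2.Coprod.exists_point_of_isPullback_scheme
            ((sqk k).map (Over.forget S)) x y hy.symm
          exact ⟨k, z, hz⟩) hoi
    refine IsZariskiLocalAtSource.of_openCover 𝒲 fun k => ?_
    have hbig := ((sqk k).map (yon S)).paste_horiz sq
    rw [← hr, ← Functor.map_comp] at hbig
    exact (h k).property s _ _ hbig.flip

end Groth.Agent.Helper2.GlueSp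

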