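import Mathlib
import Groth.Prelude.Def_AlgSpGpd
import Groth.Agent.Lib.Helper2.AlgSp.Basic

/-!
# Groupoids in fppf sheaves: elementary identities (helper2)
-/

set_option autoImplicit false
open CategoryTheory CategoryTheory.Limits AlgebraicGeometry Opposite AlgSp

namespace Groth.Agent.Helper2.GpdSp
universe u
variable {S : Scheme.{u}} {B : Sp S} (G : GroupoidSp B)

/-- Composition of `T`-valued arrows. -/
noncomputable def comp {T : Sp S} (α β : T ⟶ G.R) (h : α ≫ G.s = β ≫ G.t) : T ⟶ G.R :=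
  pullback.lift α β h ≫ G.c

theorem comp_s {T : Sp S} (α β : T ⟶ G.R) (h : α ≫ G.s = β ≫ G.t) :
    comp G α β h ≫ G.s = β ≫ G.s := G.comp_s α β h

theorem comp_t {T : Sp S} (α β : T ⟶ G.R) (h : α ≫ G.s = β ≫ G.t) :
    comp G α β h ≫ G.t = α ≫ G.t := G.comp_t α β h

theorem comp_congr {T : Sp S} {α α' β β' : T ⟶ G.R} (h : α ≫ G.s = β ≫ G.t) (hα : α = α')
    (hβ : β = β') : comp G α β h = comp G α' β' (by rw [← hα, ← hβ]; exact h) := by
  subst hα; subst hβ; rfl

theorem precomp {T T' : Sp S} (f : T' ⟶ T) (α β : T ⟶ G.R) (h : α ≫ G.s = β ≫ G.t) :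
    f ≫ comp G α β h = comp G (f ≫ α) (f ≫ β) (by rw [Category.assoc, Category.assoc, h]) := by
  unfold comp
  rw [← Category.assoc]
  congr 1
  apply pullback.hom_ext
  · rw [Category.assoc, pullback.lift_fst, pullback.lift_fst]
  · rw [Category.assoc, pullback.lift_snd, pullback.lift_snd]

theorem assoc {T : Sp S} (α β γ : T ⟶ G.R) (h₁ : α ≫ G.s = β ≫ G.t) (h₂ : β ≫ G.s = γ ≫ G.t) :
    comp G (comp G α β h₁) γ ((comp_s G α β h₁).trans h₂) =
      comp G α (comp G β γ h₂) (h₁.trans (comp_t G β γ h₂).symm) := G.assoc α β γ h₁ h₂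

theorem comp_e {T : Sp S} (α : T ⟶ G.R) :
    comp G α (α ≫ G.s ≫ G.e)
      (by rw [Category.assoc, Category.assoc, G.e_t, Category.comp_id]) = α := G.comp_e α

theorem e_comp {T : Sp S} (α : T ⟶ G.R) :
    comp G (α ≫ G.t ≫ G.e) α
      (by rw [Category.assoc, Category.assoc, G.e_s, Category.comp_id]) = α := G.e_comp α

theorem comp_i {T : Sp S} (α : T ⟶ G.R) :
    comp G α (α ≫ G.i) (by rw [Category.assoc, G.i_t]) = α ≫ G.t ≫ G.e := G.comp_i α

theorem i_comp {T : Sp S} (α : T ⟶ G.R) :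
    comp G (α ≫ G.i) α (by rw [Category.assoc, G.i_s]) = α ≫ G.s ≫ G.e := G.i_comp α

/-- `(γ ∘ β⁻¹) ∘ β = γ` when `s γ = s β`. -/
theorem comp_inv_comp {T : Sp S} (γ β : T ⟶ G.R) (h : γ ≫ G.s = β ≫ G.s) :
    comp G (comp G γ (β ≫ G.i) (by rw [Category.assoc, G.i_t]; exact h)) β
      (by rw [comp_s, Category.assoc, G.i_s]) = γ := by
  rw [assoc G γ (β ≫ G.i) β (by rw [Category.assoc, G.i_t]; exact h)
    (by rw [Category.assoc, G.i_s])]
  have h1 := i_comp G β
  rw [comp_congr G _ rfl h1]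
  have h2 : β ≫ G.s ≫ G.e = γ ≫ G.s ≫ G.e := by
    rw [← Category.assoc, ← h, Category.assoc]
  rw [comp_congr G _ rfl h2]
  exact comp_e G γ

/-- `(α ∘ β) ∘ β⁻¹ = α`. -/
theorem comp_comp_inv {T : Sp S} (α β : T ⟶ G.R) (h : α ≫ G.s = β ≫ G.t) :
    comp G (comp G α β h) (β ≫ G.i) (by rw [comp_s, Category.assoc, G.i_t]) = α := by
  rw [assoc G α β (β ≫ G.i) h (by rw [Category.assoc, G.i_t])]
  have h1 := comp_i G β
  rw [comp_congr G _ rfl h1]
  have h2 : β ≫ G.t ≫ G.e = α ≫ G.s ≫ G.e := by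
    rw [← Category.assoc, ← h, Category.assoc]
  rw [comp_congr G _ rfl h2]
  exact comp_e G α

/-- `α ∘ (α⁻¹ ∘ β) = β` when `t α = t β`. -/
theorem comp_inv_comp' {T : Sp S} (α β : T ⟶ G.R) (h : α ≫ G.t = β ≫ G.t) :
    comp G α (comp G (α ≫ G.i) β (by rw [Category.assoc, G.i_s]; exact h))
      (by rw [comp_t, Category.assoc, G.i_t]) = β := by
  rw [← assoc G α (α ≫ G.i) β (by rw [Category.assoc, G.i_t])
    (by rw [Category.assoc, G.i_s]; exact h)]
  have h1 := comp_i G α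
  rw [comp_congr G _ h1 rfl]
  have h2 : α ≫ G.t ≫ G.e = β ≫ G.t ≫ G.e := by
    rw [← Category.assoc, h, Category.assoc]
  rw [comp_congr G _ h2 rfl]
  exact e_comp G β

/-- `α⁻¹ ∘ (α ∘ β) = β`. -/
theorem inv_comp_comp {T : Sp S} (α β : T ⟶ G.R) (h : α ≫ G.s = β ≫ G.t) :
    comp G (α ≫ G.i) (comp G α β h) (by rw [comp_t, Category.assoc, G.i_s]) = β := by
  rw [← assoc G (α ≫ G.i) α β (by rw [Category.assoc, G.i_s]) h]
  have h1 := i_comp G α
  rw [comp_congr G _ h1 rfl]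
  have h2 : α ≫ G.s ≫ G.e = β ≫ G.t ≫ G.e := by
    rw [← Category.assoc, h, Category.assoc]
  rw [comp_congr G _ h2 rfl]
  exact e_comp G β


theorem comp_fst_snd :
    comp G (pullback.fst G.s G.t) (pullback.snd G.s G.t) pullback.condition = G.c := by
  unfold comp
  have : pullback.lift (pullback.fst G.s G.t) (pullback.snd G.s G.t) pullback.condition = 𝟙 _ := by
    apply pullback.hom_ext <;> simp
  rw [this, Category.id_comp]

theorem lift_comp_c {T : Sp S} (l : T ⟶ pullback G.s G.t) :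
    l ≫ G.c = comp G (l ≫ pullback.fst G.s G.t) (l ≫ pullback.snd G.s G.t)
      (by rw [Category.assoc, Category.assoc, pullback.condition]) := by
  rw [← comp_fst_snd, precomp]

open Groth.Agent.Helper2.AlgSpBasic in
/-- The square `(α, β) ↦ (α ∘ β, β)` over `s, s` is cartesian. -/
theorem isPullback_c_snd : IsPullback G.c (pullback.snd G.s G.t) G.s G.s := by
  have w : G.c ≫ G.s = pullback.snd G.s G.t ≫ G.s := by
    rw [← comp_fst_snd, comp_s]
  refine isPullback_of_existsUnique w ?_ ?_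
  · intro A γ β h
    have h1 : γ ≫ G.s = (β ≫ G.i) ≫ G.t := by rw [Category.assoc, G.i_t]; exact h
    have h2 : comp G γ (β ≫ G.i) h1 ≫ G.s = β ≫ G.t := by rw [comp_s, Category.assoc, G.i_s]
    refine ⟨pullback.lift (comp G γ (β ≫ G.i) h1) β h2, ?_, pullback.lift_snd _ _ _⟩
    exact comp_inv_comp G γ β h
  · intro A l l' hc hsnd
    apply pullback.hom_ext _ hsnd
    have e1 := lift_comp_c G l
    have e2 := lift_comp_c G l'
    have h1 := comp_comp_inv G (l ≫ pullback.fst G.s G.t) (l ≫ pullback.snd G.s G.t)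
      (by rw [Category.assoc, Category.assoc, pullback.condition])
    have h2 := comp_comp_inv G (l' ≫ pullback.fst G.s G.t) (l' ≫ pullback.snd G.s G.t)
      (by rw [Category.assoc, Category.assoc, pullback.condition])
    rw [← h1, ← h2]
    exact comp_congr G _ (e1.symm.trans (hc.trans e2)) (by rw [hsnd])

theorem shear_props (φ : pullback G.t G.t ⟶ pullback G.s G.t)
    (h1 : φ ≫ pullback.fst G.s G.t = pullback.fst G.t G.t)
    (h2 : φ ≫ pullback.snd G.s G.t =
      pullback.lift (pullback.fst G.t G.t ≫ G.i) (pullback.snd G.t G.t)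
        ((Category.assoc _ _ _).trans ((congrArg (pullback.fst G.t G.t ≫ ·) G.i_s).trans
          pullback.condition)) ≫ G.c) :
    IsIso φ ∧ φ ≫ G.c = pullback.snd G.t G.t := by
  have hc : φ ≫ G.c = pullback.snd G.t G.t := by
    rw [lift_comp_c]
    have := comp_inv_comp' G (pullback.fst G.t G.t) (pullback.snd G.t G.t) pullback.condition
    rw [← this]
    exact comp_congr G _ h1 h2
  refine ⟨?_, hc⟩
  have hψ : pullback.fst G.s G.t ≫ G.t = G.c ≫ G.t := by
    rw [← comp_fst_snd, comp_t]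
  let ψ : pullback G.s G.t ⟶ pullback G.t G.t := pullback.lift (pullback.fst G.s G.t) G.c hψ
  refine ⟨ψ, ?_, ?_⟩
  · apply pullback.hom_ext
    · rw [Category.assoc, pullback.lift_fst, h1, Category.id_comp]
    · rw [Category.assoc, pullback.lift_snd, hc, Category.id_comp]
  · apply pullback.hom_ext
    · rw [Category.assoc, h1, pullback.lift_fst, Category.id_comp]
    · rw [Category.assoc, h2, Category.id_comp]
      have e : ψ ≫ pullback.lift (pullback.fst G.t G.t ≫ G.i) (pullback.snd G.t G.t)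
          ((Category.assoc _ _ _).trans ((congrArg (pullback.fst G.t G.t ≫ ·) G.i_s).trans
            pullback.condition)) ≫ G.c =
          comp G ((pullback.fst G.s G.t) ≫ G.i) G.c (by
            rw [Category.assoc, G.i_s]; exact hψ) := by
        change ψ ≫ comp G _ _ _ = _
        rw [precomp]
        exact comp_congr G _ (by rw [← Category.assoc, pullback.lift_fst])
          (pullback.lift_snd _ _ _)
      rw [e]
      have := inv_comp_comp G (pullback.fst G.s G.t) (pullback.snd G.s G.t) pullback.condition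
      rw [← this]
      exact comp_congr G _ rfl (comp_fst_snd G).symm

/-- Left translation by a section `a` of `s` with `t ∘ a` invertible is an automorphism. -/
theorem translate_props
    (a : G.U ⟶ G.R) (ha : a ≫ G.s = 𝟙 G.U) [IsIso (a ≫ G.t)] :
    IsIso (pullback.lift (G.t ≫ a) (𝟙 G.R) (((Category.assoc _ _ _).trans (congrArg (G.t ≫ ·) ha)).trans ((Category.comp_id _).trans (Category.id_comp _).symm)) ≫ G.c) ∧
      G.e ≫ (pullback.lift (G.t ≫ a) (𝟙 G.R) (((Category.assoc _ _ _).trans (congrArg (G.t ≫ ·) ha)).trans ((Category.comp_id _).trans (Category.id_comp _).symm)) ≫ G.c) = a := by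
  have hm0 : (G.t ≫ a) ≫ G.s = 𝟙 G.R ≫ G.t := by
    rw [Category.assoc, ha, Category.comp_id, Category.id_comp]
  change IsIso (comp G (G.t ≫ a) (𝟙 G.R) hm0) ∧ G.e ≫ comp G (G.t ≫ a) (𝟙 G.R) hm0 = a
  set m := comp G (G.t ≫ a) (𝟙 G.R) hm0 with hm
  have hmt : m ≫ G.t = G.t ≫ a ≫ G.t := by
    rw [hm, comp_t, Category.assoc]
  set α : G.R ⟶ G.R := G.t ≫ inv (a ≫ G.t) ≫ a with hα
  have hαs : α ≫ G.s = G.t ≫ inv (a ≫ G.t) := by
    rw [hα, Category.assoc, Category.assoc, ha, Category.comp_id]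
  have hαt : α ≫ G.t = G.t := by
    rw [hα, Category.assoc, Category.assoc, IsIso.inv_hom_id, Category.comp_id]
  have hn0 : (α ≫ G.i) ≫ G.s = 𝟙 G.R ≫ G.t := by
    rw [Category.assoc, G.i_s, hαt, Category.id_comp]
  set n := comp G (α ≫ G.i) (𝟙 G.R) hn0 with hn
  have hnt : n ≫ G.t = G.t ≫ inv (a ≫ G.t) := by
    rw [hn, comp_t, Category.assoc, G.i_t, hαs]
  refine ⟨⟨n, ?_, ?_⟩, ?_⟩
  · -- m ≫ n = 𝟙
    rw [hn, precomp]
    have e1 : m ≫ α ≫ G.i = (G.t ≫ a) ≫ G.i := by
      rw [hα]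
      simp only [Category.assoc]
      rw [← Category.assoc m, hmt]
      have : (a ≫ G.t) ≫ inv (a ≫ G.t) = 𝟙 _ := IsIso.hom_inv_id _
      calc (G.t ≫ a ≫ G.t) ≫ inv (a ≫ G.t) ≫ a ≫ G.i = G.t ≫ ((a ≫ G.t) ≫ inv (a ≫ G.t)) ≫ a ≫ G.i := by
            simp only [Category.assoc]
        _ = G.t ≫ a ≫ G.i := by rw [this, Category.id_comp]
    have e2 : m ≫ 𝟙 G.R = comp G (G.t ≫ a) (𝟙 G.R) hm0 := by rw [Category.comp_id]
    rw [comp_congr G _ e1 e2]
    exact inv_comp_comp G (G.t ≫ a) (𝟙 G.R) hm0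
  · -- n ≫ m = 𝟙
    rw [hm, precomp]
    have e1 : n ≫ G.t ≫ a = α := by
      rw [← Category.assoc, hnt, hα, Category.assoc]
    have e2 : n ≫ 𝟙 G.R = comp G (α ≫ G.i) (𝟙 G.R) hn0 := by rw [Category.comp_id]
    rw [comp_congr G _ e1 e2]
    exact comp_inv_comp' G α (𝟙 G.R) (by rw [hαt, Category.id_comp])
  · rw [hm, precomp]
    have e1 : G.e ≫ G.t ≫ a = a := by rw [← Category.assoc, G.e_t, Category.id_comp]
    have e2 : G.e ≫ 𝟙 G.R = a ≫ G.s ≫ G.e := by
      rw [Category.comp_id, ← Category.assoc, ha, Category.id_comp]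
    rw [comp_congr G _ e1 e2]
    exact comp_e G a



section Fibre
variable {T : Sp S} (r r' : T ⟶ G.R) (h : r ≫ G.t = r' ≫ G.t)

/-- `r⁻¹ ∘ r'`. -/
noncomputable def delta : T ⟶ G.R :=
  comp G (r ≫ G.i) r' (by rw [Category.assoc, G.i_s]; exact h)

theorem delta_s : delta G r r' h ≫ G.s = r' ≫ G.s := by
  unfold delta; rw [comp_s]

theorem delta_t : delta G r r' h ≫ G.t = r ≫ G.s := by
  unfold delta; rw [comp_t, Category.assoc, G.i_t]

theorem delta_comp_delta :
    comp G (delta G r r' h) (delta G r' r h.symm)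
      (by rw [delta_s, delta_t]) = r ≫ G.s ≫ G.e := by
  have h1 : (r ≫ G.i) ≫ G.s = r' ≫ G.t := by rw [Category.assoc, G.i_s]; exact h
  have h2 : r' ≫ G.s = delta G r' r h.symm ≫ G.t := by rw [delta_t]
  have e := assoc G (r ≫ G.i) r' (delta G r' r h.symm) h1 h2
  have e' : comp G r' (delta G r' r h.symm) h2 = r := comp_inv_comp' G r' r h.symm
  calc comp G (delta G r r' h) (delta G r' r h.symm) _
      = comp G (r ≫ G.i) (comp G r' (delta G r' r h.symm) h2) _ := e
    _ = comp G (r ≫ G.i) r (by rw [Category.assoc, G.i_s]) := comp_congr G _ rfl e'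
    _ = r ≫ G.s ≫ G.e := i_comp G r

/-- The map of fibres `(x, f) ↦ (x, f ∘ r(x)⁻¹ ∘ r'(x))`. -/
noncomputable def fibreMap : pullback (r ≫ G.s) G.s ⟶ pullback (r' ≫ G.s) G.s :=
  pullback.lift (pullback.fst (r ≫ G.s) G.s)
    (comp G (pullback.snd (r ≫ G.s) G.s) (pullback.fst (r ≫ G.s) G.s ≫ delta G r r' h)
      (by rw [Category.assoc, delta_t, ← pullback.condition]))
    (by rw [comp_s, Category.assoc, delta_s])

theorem fibreMap_fst : fibreMap G r r' h ≫ pullback.fst (r' ≫ G.s) G.s =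
    pullback.fst (r ≫ G.s) G.s := pullback.lift_fst _ _ _

theorem fibreMap_snd : fibreMap G r r' h ≫ pullback.snd (r' ≫ G.s) G.s =
    comp G (pullback.snd (r ≫ G.s) G.s) (pullback.fst (r ≫ G.s) G.s ≫ delta G r r' h)
      (by rw [Category.assoc, delta_t, ← pullback.condition]) := pullback.lift_snd _ _ _

theorem fibreMap_comp : fibreMap G r r' h ≫ fibreMap G r' r h.symm = 𝟙 _ := by
  apply pullback.hom_ext
  · rw [Category.assoc, fibreMap_fst, fibreMap_fst, Category.id_comp]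
  · rw [Category.assoc, fibreMap_snd, precomp, Category.id_comp]
    have e1 := fibreMap_snd G r r' h
    have e2 : fibreMap G r r' h ≫ pullback.fst (r' ≫ G.s) G.s ≫ delta G r' r h.symm =
        pullback.fst (r ≫ G.s) G.s ≫ delta G r' r h.symm := by
      rw [← Category.assoc, fibreMap_fst]
    rw [comp_congr G _ e1 e2]
    rw [assoc G (pullback.snd (r ≫ G.s) G.s) (pullback.fst (r ≫ G.s) G.s ≫ delta G r r' h)
      (pullback.fst (r ≫ G.s) G.s ≫ delta G r' r h.symm)
      (by rw [Category.assoc, delta_t, ← pullback.condition])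
      (by rw [Category.assoc, Category.assoc, delta_s, delta_t])]
    have e3 : comp G (pullback.fst (r ≫ G.s) G.s ≫ delta G r r' h)
        (pullback.fst (r ≫ G.s) G.s ≫ delta G r' r h.symm)
        (by rw [Category.assoc, Category.assoc, delta_s, delta_t]) =
        pullback.snd (r ≫ G.s) G.s ≫ G.s ≫ G.e := by
      rw [← precomp G (pullback.fst (r ≫ G.s) G.s) (delta G r r' h) (delta G r' r h.symm)
        (by rw [delta_s, delta_t]), delta_comp_delta]
      have hc : pullback.fst (r ≫ G.s) G.s ≫ r ≫ G.s = pullback.snd (r ≫ G.s) G.s ≫ G.s :=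
        pullback.condition
      calc pullback.fst (r ≫ G.s) G.s ≫ r ≫ G.s ≫ G.e
          = (pullback.fst (r ≫ G.s) G.s ≫ r ≫ G.s) ≫ G.e := by simp only [Category.assoc]
        _ = pullback.snd (r ≫ G.s) G.s ≫ G.s ≫ G.e := by rw [hc, Category.assoc]
    rw [comp_congr G _ rfl e3]
    exact comp_e G _

include h in
theorem fibre_iso : Nonempty (Over.mk (pullback.fst (r ≫ G.s) G.s) ≅
    Over.mk (pullback.fst (r' ≫ G.s) G.s)) :=
  ⟨Over.isoMk ⟨fibreMap G r r' h, fibreMap G r' r h.symm, fibreMap_comp G r r' h,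
    fibreMap_comp G r' r h.symm⟩ (fibreMap_fst G r r' h)⟩

end Fibre


section Conj
variable {T : Sp S}

/-- `β⁻¹ ∘ ((β ∘ h ∘ β⁻¹) ∘ β) = h`. -/
theorem inv_conj_conj (h β : T ⟶ G.R) (h1 : β ≫ G.s = h ≫ G.t) (h2 : h ≫ G.s = β ≫ G.s) :
    comp G (β ≫ G.i)
      (comp G (comp G (comp G β h h1) (β ≫ G.i)
        (by rw [comp_s, Category.assoc, G.i_t]; exact h2)) β
        (by rw [comp_s, Category.assoc, G.i_s]))
      (by rw [comp_t, comp_t, comp_t, Category.assoc, G.i_s]) = h := by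
  have e1 := comp_inv_comp G (comp G β h h1) β (by rw [comp_s]; exact h2)
  rw [comp_congr G _ rfl e1]
  exact inv_comp_comp G β h h1

/-- `(β ∘ (β⁻¹ ∘ (g ∘ β))) ∘ β⁻¹ = g`. -/
theorem conj_inv_conj (g β : T ⟶ G.R) (k1 : g ≫ G.s = β ≫ G.t) (k2 : g ≫ G.t = β ≫ G.t) :
    comp G (comp G β (comp G (β ≫ G.i) (comp G g β k1)
        (by rw [comp_t, Category.assoc, G.i_s]; exact k2.symm))
        (by rw [comp_t, Category.assoc, G.i_t])) (β ≫ G.i)
      (by rw [comp_s, comp_s, comp_s, Category.assoc, G.i_t]) = g := by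
  have e1 := comp_inv_comp' G β (comp G g β k1) (by rw [comp_t]; exact k2.symm)
  rw [comp_congr G _ e1 rfl]
  exact comp_comp_inv G g β k1

end Conj

end Groth.Agent.Helper2.GpdSp
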