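import Mathlib
import Groth.Prelude.Def_AlgSpGpd
import Groth.Prelude.Def_AlgSp4
import Groth.Agent.Lib.Helper2.AlgSp.Basic
import Groth.Agent.Lib.Helper2.AlgSp.GpdSp
import Groth.Agent.Lib.Helper2.AlgSp.OpenSub
import Groth.Agent.Lib.Helper2.AlgSp.LocP

/-!
# Invariant open subspaces for groupoids in algebraic spaces (helper2)
-/

set_option autoImplicit false
open CategoryTheory CategoryTheory.Limits AlgebraicGeometry Opposite AlgSp
open Groth.Agent.Helper2.AlgSpBasic

namespace Groth.Agent.Helper2.GpdInv
universe u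
variable {S : Scheme.{u}}

/-- A `T`-valued point factors through an open subspace iff it does so on points. -/
theorem factors_iff_points_of_openImm {U W : Sp S} (w : W ⟶ U) (hw : RepWith @IsOpenImmersion w)
    {T : Over S} (a : (yon S).obj T ⟶ U) :
    (∃ b : (yon S).obj T ⟶ W, b ≫ w = a) ↔
      ∀ x : Points ((yon S).obj T), Points.map a x ∈ Set.range (Points.map w) := by
  constructor
  · rintro ⟨b, rfl⟩ x
    exact ⟨Points.map b x, (Points.map_comp b w x).symm⟩
  · intro h
    have hrep : Representable w := hw.1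
    have hoi : IsOpenImmersion (hrep.snd a).left := hw.property a _ _ (hrep.isPullback a)
    have hsurj : Function.Surjective (hrep.snd a).left := by
      intro t
      obtain ⟨y, hy⟩ := h (Points.schemeHomeo T t)
      obtain ⟨p, _, hp2⟩ := points_exists_of_isPullback a w (hrep.fst a)
        ((yon S).map (hrep.snd a)) (hrep.isPullback a) y (Points.schemeHomeo T t) hy
      obtain ⟨t', rfl⟩ := (Points.schemeHomeo (hrep.pullback a)).surjective p
      rw [Points.map_yon_map_apply] at hp2
      exact ⟨t', (Points.schemeHomeo T).injective hp2⟩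
    have hiso : IsIso (hrep.snd a).left :=
      (isIso_iff_isOpenImmersion_and_surjective _).mpr ⟨hoi, ⟨hsurj⟩⟩
    have hiso' : IsIso (hrep.snd a) := by
      have : IsIso ((Over.forget S).map (hrep.snd a)) := hiso
      exact isIso_of_reflects_iso _ (Over.forget S)
    refine ⟨(yon S).map (inv (hrep.snd a)) ≫ hrep.fst a, ?_⟩
    rw [Category.assoc, (hrep.isPullback a).w, ← Category.assoc, ← Functor.map_comp,
      IsIso.inv_hom_id, CategoryTheory.Functor.map_id, Category.id_comp]

variable {B : Sp S} (G : GroupoidSp B)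

/-- The set `s(t⁻¹ V)` is stable: if `ρ ∈ |R|` has `s ρ ∈ s(t⁻¹ V)` then `t ρ ∈ s(t⁻¹ V)`. -/
theorem mem_sat_of_s (V : Set (Points G.U)) (ρ : Points G.R)
    (h : Points.map G.s ρ ∈ Points.map G.s '' (Points.map G.t ⁻¹' V)) :
    Points.map G.t ρ ∈ Points.map G.s '' (Points.map G.t ⁻¹' V) := by
  obtain ⟨σ, hσV, hσ⟩ := h
  -- the composable pair `(σ, i ρ)`
  have e : Points.map G.s σ = Points.map G.t (Points.map G.i ρ) := by
    rw [← Points.map_comp, G.i_t, hσ]
  obtain ⟨p, hp1, hp2⟩ := points_exists_of_isPullback G.t G.s (pullback.fst G.s G.t)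
    (pullback.snd G.s G.t) (IsPullback.of_hasPullback G.s G.t) σ (Points.map G.i ρ) e
  refine ⟨Points.map G.c p, ?_, ?_⟩
  · change Points.map G.t (Points.map G.c p) ∈ V
    have hct : G.c ≫ G.t = pullback.fst G.s G.t ≫ G.t := by
      rw [← GpdSp.comp_fst_snd, GpdSp.comp_t]
    rw [← Points.map_comp, hct, Points.map_comp, hp1]
    exact hσV
  · have hcs : G.c ≫ G.s = pullback.snd G.s G.t ≫ G.s := by
      rw [← GpdSp.comp_fst_snd, GpdSp.comp_s]
    rw [← Points.map_comp, hcs, Points.map_comp, hp2, ← Points.map_comp, G.i_s]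

theorem mem_sat_of_t (V : Set (Points G.U)) (ρ : Points G.R)
    (h : Points.map G.t ρ ∈ Points.map G.s '' (Points.map G.t ⁻¹' V)) :
    Points.map G.s ρ ∈ Points.map G.s '' (Points.map G.t ⁻¹' V) := by
  have := mem_sat_of_s G V (Points.map G.i ρ) (by rw [← Points.map_comp, G.i_s]; exact h)
  rwa [← Points.map_comp, G.i_t] at this

theorem isInvariant_sat {W W' : Sp S} (w : W ⟶ G.U) (w' : W' ⟶ G.U)
    (hw' : RepWith @IsOpenImmersion w')
    (himg : Set.range (Points.map w') =
      Points.map G.s '' (Points.map G.t ⁻¹' Set.range (Points.map w))) :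
    G.IsInvariant w' := by
  intro T r
  rw [factors_iff_points_of_openImm w' hw', factors_iff_points_of_openImm w' hw', himg]
  constructor
  · intro h x
    have := mem_sat_of_t G _ (Points.map r x) (by rw [← Points.map_comp]; exact h x)
    rwa [← Points.map_comp] at this
  · intro h x
    have := mem_sat_of_s G _ (Points.map r x) (by rw [← Points.map_comp]; exact h x)
    rwa [← Points.map_comp] at this


/-- The points of an open subspace embed openly. -/
theorem isOpenEmbedding_points_openSubι {Y : Sp S} (hY : IsAlgSpace Y) {V : Set (Points Y)}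
    (hV : IsOpen V) : Topology.IsOpenEmbedding (Points.map (openSubι Y V)) := by
  refine Topology.IsOpenEmbedding.of_continuous_injective_isOpenMap
    (Points.continuous_map _) (injective_points_map_of_mono _) ?_
  refine isOpenMap_points_of_isEtaleMor (isAlgSpace_openSub hY hV) _ ?_
  intro T φ hφ
  exact (RepWith @Etale).comp_mem _ _ hφ
    (repWith_isOpenImmersion_le_etale (repWith_isOpenImmersion_openSubι Y hV))

theorem compactSpace_openSub_iff {Y : Sp S} (hY : IsAlgSpace Y) {V : Set (Points Y)}
    (hV : IsOpen V) : CompactSpace (Points (openSub Y V)) ↔ IsCompact V := by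
  rw [← isCompact_univ_iff,
    (isOpenEmbedding_points_openSubι hY hV).toIsInducing.isCompact_iff, Set.image_univ,
    range_points_map_openSubι]

theorem isQuasiCompactSp_openSub_iff {Y : Sp S} (hY : IsAlgSpace Y) {V : Set (Points Y)}
    (hV : IsOpen V) : IsQuasiCompactSp (openSub Y V) ↔ IsCompact V := by
  rw [isQuasiCompactSp_iff_compactSpace_points (isAlgSpace_openSub hY hV),
    compactSpace_openSub_iff hY hV]

theorem exists_invariant_qc_nhd (hU : IsAlgSpace G.U) (hR : IsAlgSpace G.R)
    (hs : IsOpenMor G.s) (ht : IsQuasiCompactMor G.t) (x : Points G.U) :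
    ∃ (W : Sp S) (w : W ⟶ G.U), RepWith @IsOpenImmersion w ∧ G.IsInvariant w ∧
      IsQuasiCompactSp W ∧ x ∈ Set.range (Points.map w) := by
  obtain ⟨V, hVo, hVc, hxV, -⟩ := exists_isOpen_isCompact_nhd hU x Set.univ isOpen_univ trivial
  have hV'o : IsOpen (Points.map G.t ⁻¹' V) := hVo.preimage (Points.continuous_map G.t)
  have hOo : IsOpen (Points.map G.s '' (Points.map G.t ⁻¹' V)) := hs _ hV'o
  have hZ : IsAlgSpace (openSub G.U V) := isAlgSpace_openSub hU hVo
  have hZqc : IsQuasiCompactSp (openSub G.U V) := (isQuasiCompactSp_openSub_iff hU hVo).mpr hVc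
  have hZ'qc : IsQuasiCompactSp (openSub G.R (Points.map G.t ⁻¹' V)) :=
    ht hZ hZqc (openSubι G.U V) (openSubι G.R _) _ (isPullback_openSub G.t V)
  have hV'c : IsCompact (Points.map G.t ⁻¹' V) := (isQuasiCompactSp_openSub_iff hR hV'o).mp hZ'qc
  have hOc : IsCompact (Points.map G.s '' (Points.map G.t ⁻¹' V)) :=
    hV'c.image (Points.continuous_map G.s)
  refine ⟨openSub G.U _, openSubι G.U _, repWith_isOpenImmersion_openSubι G.U hOo, ?_, ?_, ?_⟩
  · exact isInvariant_sat G (openSubι G.U V) (openSubι G.U _)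
      (repWith_isOpenImmersion_openSubι G.U hOo)
      (by rw [range_points_map_openSubι, range_points_map_openSubι])
  · exact (isQuasiCompactSp_openSub_iff hU hOo).mpr hOc
  · rw [range_points_map_openSubι]
    refine ⟨Points.map G.e x, ?_, ?_⟩
    · change Points.map G.t (Points.map G.e x) ∈ V
      rw [← Points.map_comp, G.e_t, Points.map_id]
      exact hxV
    · rw [← Points.map_comp, G.e_s, Points.map_id]

end Groth.Agent.Helper2.GpdInv
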