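import Mathlib
import Groth.Prelude.Def_AlgSp4
import Groth.Prelude.Def_AlgSpSub
import Groth.Prelude.Def_CurvBase
import Groth.Prelude.Def_W4stk3spdivLocPr
import Groth.Prelude.Def_CInt
import Groth.Prelude.Def_BlowUp2
import Groth.Agent.Lib.Helper2.AlgSp.AffDescApp
import Groth.Agent.Lib.Helper2.AlgSp.PointsMor

/-!
# The complement of a locally principal closed subspace is affine over the space (helper2)
-/

set_option autoImplicit false
set_option backward.isDefEq.respectTransparency false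
set_option linter.style.haveILetI false

open CategoryTheory CategoryTheory.Limits AlgebraicGeometry Opposite AlgSp TopologicalSpace

namespace Groth.Agent.Helper2.ComplAffine
open Groth.Agent.Helper2.AlgSpBasic
universe u

theorem inf_eq_basicOpen {V : Scheme.{u}} (I : V.IdealSheafData) (W : V.Opens)
    (hW : (W : Set ↥V) = (I.support : Set ↥V)ᶜ) (U : V.affineOpens) (f : Γ(V, U.1))
    (hf : I.ideal U = Ideal.span {f}) : W ⊓ U.1 = V.basicOpen f := by
  ext x
  have key : ∀ hxU : x ∈ U.1, (x ∈ I.support ↔ x ∉ V.basicOpen f) := by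
    intro hxU
    rw [I.mem_support_iff_of_mem hxU, hf, V.zeroLocus_span, V.zeroLocus_singleton]
    rfl
  constructor
  · rintro ⟨hxW, hxU⟩
    have hx : x ∉ I.support := by
      have : x ∈ (I.support : Set ↥V)ᶜ := hW ▸ hxW
      exact this
    rw [key hxU, not_not] at hx
    exact hx
  · intro hx
    have hxU : x ∈ U.1 := V.basicOpen_le f hx
    refine ⟨?_, hxU⟩
    show x ∈ (W : Set ↥V)
    rw [hW]
    intro hs
    exact (key hxU).mp hs hx

theorem isAffineHom_ι_of_isLocPrincipal {V : Scheme.{u}} (I : V.IdealSheafData)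
    (hI : Curv2.IsLocPrincipal I) (W : V.Opens) (hW : (W : Set ↥V) = (I.support : Set ↥V)ᶜ) :
    IsAffineHom W.ι := by
  apply isAffineHom_of_forall_exists_isAffineOpen
  intro v
  by_cases hv : v ∈ I.support
  · obtain ⟨U, hvU, f, hf⟩ := hI v hv
    refine ⟨U.1, hvU, U.2, ?_⟩
    rw [← W.ι.isAffineOpen_iff_of_isOpenImmersion, W.ι.image_preimage_eq_opensRange_inf,
      Scheme.Opens.opensRange_ι, inf_eq_basicOpen I W hW U f hf]
    exact U.2.basicOpen f
  · have hvW : v ∈ W := by
      have : v ∈ (I.support : Set ↥V)ᶜ := hv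
      rw [← hW] at this
      exact this
    obtain ⟨_, ⟨U, hU, rfl⟩, hvU, hUW⟩ :=
      (V.isBasis_affineOpens).exists_subset_of_mem_open hvW W.isOpen
    refine ⟨U, hvU, hU, ?_⟩
    rw [← W.ι.isAffineOpen_iff_of_isOpenImmersion, W.ι.image_preimage_eq_opensRange_inf,
      Scheme.Opens.opensRange_ι, inf_eq_right.mpr (show U ≤ W from hUW)]
    exact hU

theorem isSchematicallyDense_of_isEffCartierIdeal {V : Scheme.{u}} (I : V.IdealSheafData)
    (hI : BlowUp.IsEffCartierIdeal I) (W : V.Opens)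
    (hW : (W : Set ↥V) = (I.support : Set ↥V)ᶜ) : CInt.IsSchematicallyDense W := by
  intro V'
  rw [injective_iff_map_eq_zero]
  intro s hs
  have hloc : ∀ x : ↥V', ∃ (N : V.Opens) (hN : N ≤ V'), x.1 ∈ N ∧
      V.presheaf.map (homOfLE hN).op s = 0 := by
    intro x
    obtain ⟨U, hxU, f, hfnzd, hf⟩ := hI x.1
    obtain ⟨g, hgV', hxg⟩ := U.2.exists_basicOpen_le (V := V') x hxU
    refine ⟨V.basicOpen g, hgV', hxg, ?_⟩
    have hNU : V.basicOpen g ≤ U.1 := V.basicOpen_le g
    have hN : IsAffineOpen (V.basicOpen g) := U.2.basicOpen g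
    set t := V.presheaf.map (homOfLE hgV').op s with ht
    set fN := V.presheaf.map (homOfLE hNU).op f with hfN
    haveI := U.2.isLocalization_basicOpen g
    haveI := hN.isLocalization_basicOpen fN
    have hfNnzd : fN ∈ nonZeroDivisors Γ(V, V.basicOpen g) :=
      IsLocalization.map_nonZeroDivisors_le (Submonoid.powers g) Γ(V, V.basicOpen g)
        ⟨f, hfnzd, rfl⟩
    have hle : V.basicOpen fN ≤ V' ⊓ W := by
      rw [hfN, V.basicOpen_res, ← inf_eq_basicOpen I W hW U f hf]
      exact le_inf (inf_le_left.trans hgV') (inf_le_right.trans inf_le_left)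
    have h0 : algebraMap Γ(V, V.basicOpen g) Γ(V, V.basicOpen fN) t = 0 := by
      have h1 : algebraMap Γ(V, V.basicOpen g) Γ(V, V.basicOpen fN) t =
          V.presheaf.map (homOfLE hle).op
            (V.presheaf.map (homOfLE (inf_le_left : V' ⊓ W ≤ V')).op s) := by
        rw [ht]
        show (V.presheaf.map _ ≫ V.presheaf.map _) s = (V.presheaf.map _ ≫ V.presheaf.map _) s
        rw [← V.presheaf.map_comp, ← V.presheaf.map_comp]
        rfl
      rw [h1, hs, map_zero]
    exact IsLocalization.injective Γ(V, V.basicOpen fN)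
      (Submonoid.powers_le.mpr hfNnzd) (by rw [h0, map_zero])
  choose N hN hxN h0 using hloc
  apply V.sheaf.eq_of_locally_eq' N V' (fun x => homOfLE (hN x)) (fun x hx => by
    rw [Opens.mem_iSup]
    exact ⟨⟨x, hx⟩, hxN ⟨x, hx⟩⟩)
  intro x
  exact (h0 x).trans (map_zero (V.presheaf.map (homOfLE (hN x)).op).hom).symm

variable {S : Scheme.{u}}

/-- An affine morphism of schemes over `S` gives an affine morphism of sheaves. -/
theorem isAffineMor_yon_map {W V : Over S} (g : W ⟶ V) (hg : IsAffineHom g.left) :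
    IsAffineMor ((yon S).map g) := by
  intro Z hZ c
  obtain ⟨c', rfl⟩ := (yon S).map_surjective c
  haveI := hZ
  haveI := hg
  have sq := IsPullback.of_hasPullback g c'
  refine ⟨pullback g c', pullback.snd g c', (yon S).map (pullback.fst g c'), sq.map (yon S), ?_⟩
  have sq2 := (sq.map (Over.forget S)).flip
  exact IsAffine.of_isPullback (X := Z.left) (f := c'.left) (g := g.left) sq2

theorem range_snd_eq {X Y : Sp S} {T W : Over S} (f : X ⟶ Y) (g : (yon S).obj T ⟶ Y)
    (fst : (yon S).obj W ⟶ X) (snd : W ⟶ T) (sq : IsPullback fst ((yon S).map snd) f g) :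
    Set.range snd.left = {t | Points.ofPt g t ∈ Set.range (Points.map f)} := by
  ext t
  constructor
  · rintro ⟨w, rfl⟩
    refine ⟨Points.ofPt fst w, ?_⟩
    rw [Points.map_ofPt, sq.w, ofPt_yon_map_comp]
  · rintro ⟨x, hx⟩
    obtain ⟨w, -, hw⟩ := exists_point_of_isPullback_right f g fst snd sq x t hx
    exact ⟨w, hw⟩

/-- S10806. -/
theorem main06 {X Z U : Sp S} (i : Z ⟶ X) (hZ : IsLocPrincipalSub i) (j : U ⟶ X)
    (hj : RepWith @IsOpenImmersion j)
    (hU : Set.range (Points.map j) = (Set.range (Points.map i))ᶜ) : IsAffineMor j := by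
  obtain ⟨hi, V, φ, I, fstZ, hφe, hφs, sqZ, hI⟩ := hZ
  have hrep := hj.rep
  have hoi : IsOpenImmersion (hrep.snd φ).left := hj.property_snd φ
  have sqU := hrep.isPullback φ
  have hr : Set.range (hrep.snd φ).left = (I.support : Set ↥V.left)ᶜ := by
    rw [range_snd_eq j φ _ (hrep.snd φ) sqU, ← I.range_subschemeι]
    have h2 := range_snd_eq i φ fstZ (Over.homMk I.subschemeι rfl) sqZ
    have h3 : Set.range I.subschemeι =
        {t | Points.ofPt φ t ∈ Set.range (Points.map i)} := h2
    rw [h3, hU]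
    rfl
  haveI := hoi
  have haff : IsAffineHom (hrep.snd φ).left := by
    have hWι : IsAffineHom (hrep.snd φ).left.opensRange.ι :=
      isAffineHom_ι_of_isLocPrincipal I hI _ (by
        rw [← hr]
        rfl)
    rw [← (hrep.snd φ).left.isoOpensRange_hom_ι]
    infer_instance
  exact isAffineMor_of_etale_cover j V φ hφe hφs (hrep.fst φ) ((yon S).map (hrep.snd φ))
    sqU (isAffineMor_yon_map _ haff)

/-- S10793. -/
theorem main93 {X D U : Sp S} (i : D ⟶ X) (hD : IsEffCartierSub i) (j : U ⟶ X)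
    (hj : RepWith @IsOpenImmersion j)
    (hU : Set.range (Points.map j) = (Set.range (Points.map i))ᶜ) :
    IsAffineMor j ∧ IsSchDense j := by
  obtain ⟨hi, V, φ, I, fstZ, hφe, hφs, sqZ, hI⟩ := hD
  have hLP : IsLocPrincipalSub i := ⟨hi, V, φ, I, fstZ, hφe, hφs, sqZ, fun x _ => by
    obtain ⟨U', hxU', f, -, hf⟩ := hI x
    exact ⟨U', hxU', f, hf⟩⟩
  refine ⟨main06 i hLP j hj hU, hj, ?_⟩
  have hrep := hj.rep
  have hoi : IsOpenImmersion (hrep.snd φ).left := hj.property_snd φ
  have sqU := hrep.isPullback φ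
  have hr : Set.range (hrep.snd φ).left = (I.support : Set ↥V.left)ᶜ := by
    rw [range_snd_eq j φ _ (hrep.snd φ) sqU, ← I.range_subschemeι]
    have h2 := range_snd_eq i φ fstZ (Over.homMk I.subschemeι rfl) sqZ
    have h3 : Set.range I.subschemeι =
        {t | Points.ofPt φ t ∈ Set.range (Points.map i)} := h2
    rw [h3, hU]
    rfl
  haveI := hoi
  let W : V.left.Opens := (hrep.snd φ).left.opensRange
  have hW : (W : Set ↥V.left) = (I.support : Set ↥V.left)ᶜ := by
    rw [← hr]
    rfl
  have hw : (hrep.snd φ).left.isoOpensRange.hom ≫ (W.ι ≫ V.hom) = (hrep.pullback φ).hom := by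
    rw [← Category.assoc, (hrep.snd φ).left.isoOpensRange_hom_ι]
    exact Over.w (hrep.snd φ)
  let e : hrep.pullback φ ≅ Over.mk (W.ι ≫ V.hom) :=
    Over.isoMk (hrep.snd φ).left.isoOpensRange hw
  have he : e.hom ≫ (Over.homMk W.ι rfl : Over.mk (W.ι ≫ V.hom) ⟶ V) = hrep.snd φ := by
    apply Over.OverMorphism.ext
    exact (hrep.snd φ).left.isoOpensRange_hom_ι
  refine ⟨V, φ, W, (yon S).map e.inv ≫ hrep.fst φ, hφe, hφs, ?_,
    isSchematicallyDense_of_isEffCartierIdeal I hI W hW⟩
  refine sqU.of_iso ((yon S).mapIso e) (Iso.refl _) (Iso.refl _) (Iso.refl _) ?_ ?_ ?_ ?_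
  · simp only [Functor.mapIso_hom, Iso.refl_hom, Category.comp_id]
    rw [← Category.assoc, ← Functor.map_comp, e.hom_inv_id, CategoryTheory.Functor.map_id,
      Category.id_comp]
  · simp only [Functor.mapIso_hom, Iso.refl_hom, Category.comp_id]
    rw [← Functor.map_comp, he]
  · simp
  · simp

end Groth.Agent.Helper2.ComplAffine
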