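import Groth.Agent.Lib.Helper2.AlgSp.CartierPull
import Groth.Agent.Lib.Helper2.AlgSp.ComplAffine

set_option autoImplicit false
set_option backward.isDefEq.respectTransparency false
set_option linter.style.haveILetI false
universe u
open CategoryTheory CategoryTheory.Limits AlgebraicGeometry Opposite AlgSp

namespace Groth.Agent.Helper2.CartierDescent
open Groth.Agent.Helper2.AlgSpBasic Groth.Agent.Helper2.CartierPull

variable {S : Scheme.{u}}

/-- Restriction between affine opens is flat. -/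
theorem flat_res {X : Scheme.{u}} {U V : X.Opens} (hU : IsAffineOpen U) (hV : IsAffineOpen V)
    (e : V ≤ U) : (X.presheaf.map (homOfLE e).op).hom.Flat := by
  have h := Flat.flat_appLE (𝟙 X) hU hV (by simpa using e)
  have h2 : (𝟙 X : X ⟶ X).appLE U V (by simpa using e) = X.presheaf.map (homOfLE e).op := by
    simp [Scheme.Hom.appLE]
  rwa [h2] at h

/-- fpqc-local descent of the effective Cartier property at a point (flat open morphisms). -/
theorem exists_affine_of_comap {W W' : Scheme.{u}} (p : W' ⟶ W) [Flat p] (hp : IsOpenMap p)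
    (I : W.IdealSheafData) (hI : BlowUp.IsEffCartierIdeal (I.comap p)) (w' : W') :
    ∃ O : W.affineOpens, p w' ∈ O.1 ∧
      ∃ a : Γ(W, O.1), a ∈ nonZeroDivisors Γ(W, O.1) ∧ I.ideal O = Ideal.span {a} := by
  obtain ⟨_, ⟨W₀, hW₀, rfl⟩, hwW₀, -⟩ :=
    W.isBasis_affineOpens.exists_subset_of_mem_open (Set.mem_univ (p w')) isOpen_univ
  obtain ⟨W₁, hw'W₁, hW₁W₀, c, hc, hIc⟩ := exists_affine_le (I.comap p) hI w' (p ⁻¹ᵁ W₀) hwW₀
  let φ := p.appLE W₀ W₁.1 hW₁W₀
  have hmap : (I.ideal ⟨W₀, hW₀⟩).map φ.hom = Ideal.span {c} := by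
    rw [← Groth.Agent.Helper4.IdealComap.ideal_comap_eq_map p I W₁ ⟨W₀, hW₀⟩ hW₁W₀, hIc]
  have key : ∃ a ∈ I.ideal ⟨W₀, hW₀⟩, ∃ x : Γ(W', W₁.1),
      φ.hom a = c * x ∧ w' ∈ W'.basicOpen x := by
    by_contra hcon
    have hcon' : ∀ a ∈ I.ideal ⟨W₀, hW₀⟩, ∀ x : Γ(W', W₁.1), φ.hom a = c * x →
        w' ∉ W'.basicOpen x := fun a ha x hx hw => hcon ⟨a, ha, x, hx, hw⟩
    let 𝔮 : Ideal Γ(W', W₁.1) := (IsLocalRing.maximalIdeal (W'.presheaf.stalk w')).comap
      (W'.presheaf.germ W₁.1 w' hw'W₁).hom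
    have h𝔮 : ∀ y, y ∈ 𝔮 ↔ w' ∉ W'.basicOpen y := by
      intro y
      rw [Ideal.mem_comap, IsLocalRing.mem_maximalIdeal, mem_nonunits_iff,
        Scheme.mem_basicOpen _ _ _ hw'W₁]
    have hle : (I.ideal ⟨W₀, hW₀⟩).map φ.hom ≤ Ideal.span {c} * 𝔮 := by
      rw [Ideal.map_le_iff_le_comap]
      intro a ha
      have h1 : φ.hom a ∈ Ideal.span {c} := by
        rw [← hmap]
        exact Ideal.mem_map_of_mem _ ha
      obtain ⟨x, hx⟩ := Ideal.mem_span_singleton'.mp h1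
      rw [Ideal.mem_comap, Ideal.mem_span_singleton_mul]
      exact ⟨x, (h𝔮 x).mpr (hcon' a ha x (by rw [← hx, mul_comm])), by rw [← hx, mul_comm]⟩
    have hc1 : c ∈ Ideal.span {c} * 𝔮 := hle (hmap ▸ Ideal.mem_span_singleton_self c)
    obtain ⟨y, hy, hcy⟩ := Ideal.mem_span_singleton_mul.mp hc1
    have hy1 : y = 1 := by
      have h0 : c * (y - 1) = 0 := by rw [mul_sub, hcy, mul_one, sub_self]
      exact sub_eq_zero.mp ((mem_nonZeroDivisors_iff.mp hc).1 _ h0)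
    rw [hy1] at hy
    have h1 : (1 : Γ(W', W₁.1)) ∉ 𝔮 :=
      (Ideal.ne_top_iff_one _).mp (Ideal.comap_ne_top _ (IsLocalRing.maximalIdeal.isMaximal _).ne_top)
    exact h1 hy
  obtain ⟨a, ha, x, hax, hw'x⟩ := key
  let W₂ : W'.Opens := W'.basicOpen x
  have hW₂ : IsAffineOpen W₂ := W₁.2.basicOpen x
  have hW₂W₁ : W₂ ≤ W₁.1 := W'.basicOpen_le x
  have himg : IsOpen (p '' (W₂ : Set W')) := hp _ W₂.isOpen
  let Oimg : W.Opens := ⟨p '' (W₂ : Set W'), himg⟩
  obtain ⟨t, htle, hwt⟩ := hW₀.exists_basicOpen_le (V := Oimg) ⟨p w', ⟨w', hw'x, rfl⟩⟩ hwW₀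
  let O : W.Opens := W.basicOpen t
  have hO : IsAffineOpen O := hW₀.basicOpen t
  have hOW₀ : O ≤ W₀ := W.basicOpen_le t
  have e₂ : W₂ ≤ p ⁻¹ᵁ W₀ := hW₂W₁.trans hW₁W₀
  let t' := (p.appLE W₀ W₂ e₂).hom t
  let W₃ : W'.Opens := W'.basicOpen t'
  have hW₃eq : W₃ = W₂ ⊓ p ⁻¹ᵁ O := Scheme.basicOpen_appLE p W₂ W₀ e₂ t
  have hW₃ : IsAffineOpen W₃ := hW₂.basicOpen t'
  have e₃ : W₃ ≤ p ⁻¹ᵁ O := by rw [hW₃eq]; exact inf_le_right
  have hW₃W₂ : W₃ ≤ W₂ := by rw [hW₃eq]; exact inf_le_left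
  have hW₃W₁ : W₃ ≤ W₁.1 := hW₃W₂.trans hW₂W₁
  let φ₃ := p.appLE O W₃ e₃
  have hff : φ₃.hom.FaithfullyFlat := by
    haveI : IsAffine (O : Scheme.{u}) := hO
    haveI : IsAffine (W₃ : Scheme.{u}) := hW₃
    have hsurj : Surjective (p.resLE O W₃ e₃) := ⟨fun o => by
      obtain ⟨z, hz, hzo⟩ := htle o.2
      have hz3 : z ∈ W₃ := by
        rw [hW₃eq]
        refine ⟨hz, ?_⟩
        show p z ∈ O
        rw [hzo]
        exact o.2
      exact ⟨⟨z, hz3⟩, Subtype.ext (by rw [Scheme.Hom.coe_resLE_apply]; exact hzo)⟩⟩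
    have h1 := (Flat.flat_and_surjective_iff_faithfullyFlat_of_isAffine
      (f := p.resLE O W₃ e₃)).mp ⟨inferInstance, hsurj⟩
    have h2 : φ₃ = O.topIso.inv ≫ (p.resLE O W₃ e₃).appTop ≫ W₃.topIso.hom := by
      rw [Scheme.Hom.appTop, Scheme.Hom.resLE_app_top]
      simp
      rfl
    rw [h2]
    simp only [CommRingCat.hom_comp]
    refine RingHom.FaithfullyFlat.stableUnderComposition _ _ ?_
      (RingHom.FaithfullyFlat.stableUnderComposition _ _ h1 ?_)
    · exact RingHom.FaithfullyFlat.of_bijective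
        (O.topIso.symm.commRingCatIsoToRingEquiv.bijective)
    · exact RingHom.FaithfullyFlat.of_bijective
        (W₃.topIso.commRingCatIsoToRingEquiv.bijective)
  let a₃ := (W.presheaf.map (homOfLE hOW₀).op).hom a
  let c₃ := (W'.presheaf.map (homOfLE hW₃W₁).op).hom c
  let x₃ := (W'.presheaf.map (homOfLE hW₃W₁).op).hom x
  have hx₃ : IsUnit x₃ := by
    have h1 := RingedSpace.isUnit_res_basicOpen W'.toRingedSpace x
    have h2 : x₃ = (W'.presheaf.map (homOfLE hW₃W₂).op).hom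
        ((W'.presheaf.map (homOfLE (W'.basicOpen_le x)).op).hom x) := by
      show _ = (W'.presheaf.map (homOfLE (W'.basicOpen_le x)).op ≫
        W'.presheaf.map (homOfLE hW₃W₂).op).hom x
      rw [← Functor.map_comp]
      rfl
    rw [h2]
    exact h1.map _
  have hI₃ : (I.comap p).ideal ⟨W₃, hW₃⟩ = Ideal.span {c₃} := by
    rw [← (I.comap p).map_ideal (U := ⟨W₃, hW₃⟩) (V := W₁) hW₃W₁, hIc, Ideal.map_span,
      Set.image_singleton]
    rfl
  have hI₃' : (I.ideal ⟨O, hO⟩).map φ₃.hom = Ideal.span {c₃} := by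
    rw [← Groth.Agent.Helper4.IdealComap.ideal_comap_eq_map p I ⟨W₃, hW₃⟩ ⟨O, hO⟩ e₃, hI₃]
  have ha₃ : a₃ ∈ I.ideal ⟨O, hO⟩ :=
    I.ideal_le_comap_ideal (U := ⟨O, hO⟩) (V := ⟨W₀, hW₀⟩) hOW₀ ha
  have hφa : φ₃.hom a₃ = c₃ * x₃ := by
    have h1 : W.presheaf.map (homOfLE hOW₀).op ≫ p.appLE O W₃ e₃ =
        p.appLE W₀ W₁.1 hW₁W₀ ≫ W'.presheaf.map (homOfLE hW₃W₁).op := by
      rw [Scheme.Hom.map_appLE, Scheme.Hom.appLE_map]
    have h2 : φ₃.hom a₃ = (W'.presheaf.map (homOfLE hW₃W₁).op).hom (φ.hom a) :=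
      congrArg (fun f => f.hom a) h1
    rw [h2, hax, map_mul]
  have hspan : Ideal.span {φ₃.hom a₃} = Ideal.span {c₃} := by
    rw [hφa]
    exact Ideal.span_singleton_mul_right_unit hx₃ c₃
  letI : Algebra Γ(W, O) Γ(W', W₃) := φ₃.hom.toAlgebra
  haveI : Module.FaithfullyFlat Γ(W, O) Γ(W', W₃) := hff
  have hIO : I.ideal ⟨O, hO⟩ = Ideal.span {a₃} := by
    apply le_antisymm
    · have h1 := Ideal.comap_map_eq_self_of_faithfullyFlat (B := Γ(W', W₃))
        (Ideal.span {a₃} : Ideal Γ(W, O))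
      rw [← h1, Ideal.map_span, Set.image_singleton]
      have h2 : Ideal.span {(algebraMap Γ(W, O) Γ(W', W₃)) a₃} = Ideal.span {c₃} := hspan
      rw [h2, ← hI₃']
      exact Ideal.le_comap_map
    · rw [Ideal.span_singleton_le_iff_mem]
      exact ha₃
  have hnzd : a₃ ∈ nonZeroDivisors Γ(W, O) := by
    have hc₃ : c₃ ∈ nonZeroDivisors Γ(W', W₃) := nzd_of_flat _ (flat_res W₁.2 hW₃ hW₃W₁) hc
    have h1 : φ₃.hom a₃ ∈ nonZeroDivisors Γ(W', W₃) := by
      rw [hφa]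
      exact mul_mem hc₃ hx₃.mem_nonZeroDivisors
    rw [mem_nonZeroDivisors_iff_right]
    intro y hy
    apply hff.injective
    rw [map_zero]
    apply (mem_nonZeroDivisors_iff_right.mp h1)
    rw [← map_mul, hy, map_zero]
  exact ⟨⟨O, hO⟩, hwt, a₃, hnzd, hIO⟩

/-- Away from the support an ideal sheaf is locally the unit ideal. -/
theorem exists_affine_of_not_mem_support {W : Scheme.{u}} (I : W.IdealSheafData) (w : W)
    (hw : w ∉ I.support) :
    ∃ O : W.affineOpens, w ∈ O.1 ∧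
      ∃ a : Γ(W, O.1), a ∈ nonZeroDivisors Γ(W, O.1) ∧ I.ideal O = Ideal.span {a} := by
  obtain ⟨_, ⟨U₀, hU₀, rfl⟩, hwU₀, -⟩ :=
    W.isBasis_affineOpens.exists_subset_of_mem_open (Set.mem_univ w) isOpen_univ
  rw [I.mem_support_iff_of_mem (U := ⟨U₀, hU₀⟩) hwU₀, Scheme.mem_zeroLocus_iff] at hw
  have hw' : ∃ g ∈ I.ideal ⟨U₀, hU₀⟩, w ∈ W.basicOpen g := by
    by_contra hcon
    exact hw fun f hf hwf => hcon ⟨f, hf, hwf⟩
  obtain ⟨g, hg, hwg⟩ := hw'
  have hO : IsAffineOpen (W.basicOpen g) := hU₀.basicOpen g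
  refine ⟨⟨W.basicOpen g, hO⟩, hwg, 1, one_mem _, ?_⟩
  rw [Ideal.span_singleton_one, Ideal.eq_top_iff_one]
  have h1 := RingedSpace.isUnit_res_basicOpen W.toRingedSpace g
  have h2 : (W.presheaf.map (homOfLE (W.basicOpen_le g)).op).hom g ∈
      I.ideal ⟨W.basicOpen g, hO⟩ :=
    I.ideal_le_comap_ideal (U := ⟨W.basicOpen g, hO⟩) (V := ⟨U₀, hU₀⟩) (W.basicOpen_le g) hg
  exact (Ideal.eq_top_of_isUnit_mem _ h2 h1) ▸ Submodule.mem_top

/-- Two ideal sheaves on a chart cutting out the pullback of the same subspace agree. -/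
theorem ideal_unique {X D : Sp S} (i : D ⟶ X) {W : Over S} (J₁ J₂ : W.left.IdealSheafData)
    (a : (yon S).obj W ⟶ X)
    (fst₁ : (yon S).obj (Over.mk (J₁.subschemeι ≫ W.hom)) ⟶ D)
    (fst₂ : (yon S).obj (Over.mk (J₂.subschemeι ≫ W.hom)) ⟶ D)
    (sq₁ : IsPullback fst₁ ((yon S).map
      (Over.homMk J₁.subschemeι rfl : Over.mk (J₁.subschemeι ≫ W.hom) ⟶ W)) i a)
    (sq₂ : IsPullback fst₂ ((yon S).map
      (Over.homMk J₂.subschemeι rfl : Over.mk (J₂.subschemeι ≫ W.hom) ⟶ W)) i a) :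
    J₁ = J₂ := by
  let e' := sq₁.isoIsPullback _ _ sq₂
  have he' : e'.hom ≫ (yon S).map
      (Over.homMk J₂.subschemeι rfl : Over.mk (J₂.subschemeι ≫ W.hom) ⟶ W) =
      (yon S).map (Over.homMk J₁.subschemeι rfl : Over.mk (J₁.subschemeι ≫ W.hom) ⟶ W) :=
    sq₁.isoIsPullback_hom_snd _ _ sq₂
  let ε := (yon S).preimageIso e'
  have hε : ε.hom ≫ (Over.homMk J₂.subschemeι rfl : Over.mk (J₂.subschemeι ≫ W.hom) ⟶ W) =
      (Over.homMk J₁.subschemeι rfl : Over.mk (J₁.subschemeι ≫ W.hom) ⟶ W) := by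
    apply (yon S).map_injective
    rw [Functor.map_comp, Functor.preimageIso_hom, Functor.map_preimage]
    exact he'
  have hε' : ε.hom.left ≫ J₂.subschemeι = J₁.subschemeι := congrArg (fun f => f.left) hε
  haveI : IsIso ε.hom.left := (Over.forget S).map_isIso ε.hom
  rw [← J₁.ker_subschemeι, ← hε', Scheme.Hom.ker_comp_of_isIso, J₂.ker_subschemeι]

/-- A closed subspace is cut out on any chart by some ideal sheaf. -/
theorem exists_ideal_sq {X D : Sp S} (i : D ⟶ X) (hi : RepWith @IsClosedImmersion i)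
    {U : Over S} (φ : (yon S).obj U ⟶ X) :
    ∃ (I : U.left.IdealSheafData)
      (fst : (yon S).obj (Over.mk (I.subschemeι ≫ U.hom)) ⟶ D),
      IsPullback fst ((yon S).map
        (Over.homMk I.subschemeι rfl : Over.mk (I.subschemeι ≫ U.hom) ⟶ U)) i φ := by
  have hrep := hi.rep
  have sq := hrep.isPullback φ
  haveI hci : IsClosedImmersion (hrep.snd φ).left := hi.property_snd φ
  let I : U.left.IdealSheafData := (hrep.snd φ).left.ker
  have hw : (hrep.snd φ).left.toImage ≫ (I.subschemeι ≫ U.hom) = (hrep.pullback φ).hom := by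
    rw [← Category.assoc]
    have : (hrep.snd φ).left.toImage ≫ I.subschemeι = (hrep.snd φ).left :=
      (hrep.snd φ).left.toImage_imageι
    rw [this]
    exact Over.w (hrep.snd φ)
  let e : hrep.pullback φ ≅ Over.mk (I.subschemeι ≫ U.hom) :=
    Over.isoMk (asIso (hrep.snd φ).left.toImage) hw
  have he : e.hom ≫ (Over.homMk I.subschemeι rfl : Over.mk (I.subschemeι ≫ U.hom) ⟶ U) =
      hrep.snd φ := by
    apply Over.OverMorphism.ext
    exact (hrep.snd φ).left.toImage_imageι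
  refine ⟨I, (yon S).map e.inv ≫ hrep.fst φ, ?_⟩
  refine sq.of_iso ((yon S).mapIso e) (Iso.refl _) (Iso.refl _) (Iso.refl _) ?_ ?_ ?_ ?_
  · simp only [Functor.mapIso_hom, Iso.refl_hom, Category.comp_id]
    rw [← Category.assoc, ← Functor.map_comp, e.hom_inv_id, CategoryTheory.Functor.map_id,
      Category.id_comp]
  · simp only [Functor.mapIso_hom, Iso.refl_hom, Category.comp_id]
    rw [← Functor.map_comp, he]
  · simp
  · simp

/-- Descent of the effective Cartier property from one etale chart to another, at a point. -/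
theorem descend_at {X D : Sp S} (i : D ⟶ X) {W U : Over S}
    (φ : (yon S).obj W ⟶ X) (hφ : RepWith @Etale φ) (IW : W.left.IdealSheafData)
    (fstW : (yon S).obj (Over.mk (IW.subschemeι ≫ W.hom)) ⟶ D)
    (sqW : IsPullback fstW ((yon S).map
      (Over.homMk IW.subschemeι rfl : Over.mk (IW.subschemeι ≫ W.hom) ⟶ W)) i φ)
    (a : (yon S).obj U ⟶ X) (ha : RepWith @Etale a) (IU : U.left.IdealSheafData)
    (fstU : (yon S).obj (Over.mk (IU.subschemeι ≫ U.hom)) ⟶ D)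
    (sqU : IsPullback fstU ((yon S).map
      (Over.homMk IU.subschemeι rfl : Over.mk (IU.subschemeι ≫ U.hom) ⟶ U)) i a)
    (hIU : BlowUp.IsEffCartierIdeal IU) (w : ↥W.left) (u : ↥U.left)
    (e : Points.ofPt a u = Points.ofPt φ w) :
    ∃ O : W.left.affineOpens, w ∈ O.1 ∧
      ∃ b : Γ(W.left, O.1), b ∈ nonZeroDivisors Γ(W.left, O.1) ∧ IW.ideal O = Ideal.span {b} := by
  have hrep := ha.rep
  obtain ⟨qT, hqT⟩ := (yon S).map_surjective (hrep.fst φ)
  have sq : IsPullback ((yon S).map qT) ((yon S).map (hrep.snd φ)) a φ := by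
    rw [hqT]
    exact hrep.isPullback φ
  haveI hpe : Etale (hrep.snd φ).left := ha.property_snd φ
  haveI hqe : Etale qT.left :=
    (repWith_yon_map_iff @Etale qT).mp (repWith_of_isPullback @Etale sq.flip hφ)
  obtain ⟨t, ht1, ht2⟩ := exists_point_of_isPullback_yon a φ qT (hrep.snd φ) sq u w e
  obtain ⟨f₁, sq₁⟩ := exists_sq_comap i φ IW fstW sqW (hrep.snd φ)
  obtain ⟨f₂, sq₂⟩ := exists_sq_comap i a IU fstU sqU qT
  rw [sq.w] at sq₂
  have hJ : IW.comap (hrep.snd φ).left = IU.comap qT.left := ideal_unique i _ _ _ f₁ f₂ sq₁ sq₂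
  have hI' : BlowUp.IsEffCartierIdeal (IW.comap (hrep.snd φ).left) := by
    rw [hJ]
    exact isEffCartierIdeal_comap_of_flat qT.left IU hIU
  have := exists_affine_of_comap (hrep.snd φ).left (hrep.snd φ).left.isOpenMap IW hI' t
  rwa [ht2] at this

/-- S10791. -/
theorem main91 {X D : Sp S} (hX : IsAlgSpace X) (i : D ⟶ X)
    (hi : RepWith @IsClosedImmersion i) :
    IsEffCartierSub i ↔
      ∀ (U : Over S) (φ : (yon S).obj U ⟶ X), RepWith @Etale φ →
        ∀ (I : U.left.IdealSheafData)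
          (fst : (yon S).obj (Over.mk (I.subschemeι ≫ U.hom)) ⟶ D),
          IsPullback fst ((yon S).map
            (Over.homMk I.subschemeι rfl : Over.mk (I.subschemeι ≫ U.hom) ⟶ U)) i φ →
            BlowUp.IsEffCartierIdeal I := by
  constructor
  · rintro ⟨-, V, φV, IV, fstV, hVe, hVs, sqV, hIV⟩ U φ hφ I fst sq u
    obtain ⟨v, hv⟩ := surjective_ofPt φV hVs (Points.ofPt φ u)
    exact descend_at i φ hφ I fst sq φV hVe IV fstV sqV hIV u v hv
  · intro h
    obtain ⟨U, φ, hφe, hφs⟩ := hX.atlas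
    obtain ⟨I, fst, sq⟩ := exists_ideal_sq i hi φ
    exact ⟨hi, U, φ, I, fst, hφe, hφs, sq, h U φ hφe I fst sq⟩

/-- S10792. -/
theorem main92 {X D : Sp S} (hX : IsAlgSpace X) (i : D ⟶ X)
    (hi : RepWith @IsClosedImmersion i) :
    IsEffCartierSub i ↔
      ∀ x : Points D,
        ∃ (U : Over S) (_ : IsAffine U.left) (a : (yon S).obj U ⟶ X) (u : ↥U.left)
          (f : Γ(U.left, ⊤)) (I : U.left.IdealSheafData)
          (fst : (yon S).obj (Over.mk (I.subschemeι ≫ U.hom)) ⟶ D),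
          RepWith @Etale a ∧ Points.ofPt a u = Points.map i x ∧
            f ∈ nonZeroDivisors Γ(U.left, ⊤) ∧
            I.ideal ⟨⊤, isAffineOpen_top U.left⟩ = Ideal.span {f} ∧
            IsPullback fst ((yon S).map
              (Over.homMk I.subschemeι rfl : Over.mk (I.subschemeι ≫ U.hom) ⟶ U)) i a := by
  constructor
  · rintro ⟨-, V, φV, IV, fstV, hVe, hVs, sqV, hIV⟩ x
    obtain ⟨v, hv⟩ := surjective_ofPt φV hVs (Points.map i x)
    obtain ⟨V', hvV', f, hf, hIf⟩ := hIV v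
    let U : Over S := Over.mk (V'.1.ι ≫ V.hom)
    let ι' : U ⟶ V := Over.homMk V'.1.ι rfl
    haveI : IsAffine U.left := V'.2
    have e : (⊤ : U.left.Opens) ≤ V'.1.ι ⁻¹ᵁ V'.1 := fun y _ => y.2
    obtain ⟨fst', sq'⟩ := exists_sq_comap i φV IV fstV sqV ι'
    refine ⟨U, V'.2, (yon S).map ι' ≫ φV, ⟨v, hvV'⟩, (V'.1.ι.appLE V'.1 ⊤ e).hom f,
      IV.comap V'.1.ι, fst', ?_, ?_, ?_, ?_, sq'⟩
    · exact repWith_comp @Etale ((repWith_yon_map_iff @Etale ι').mpr
        (inferInstanceAs (Etale V'.1.ι))) hVe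
    · rw [ofPt_yon_map_comp]
      exact hv
    · exact nzd_of_flat _ (Flat.flat_appLE V'.1.ι V'.2 (isAffineOpen_top _) e) hf
    · rw [Groth.Agent.Helper4.IdealComap.ideal_comap_eq_map V'.1.ι IV ⟨⊤, isAffineOpen_top _⟩ V' e,
        hIf, Ideal.map_span, Set.image_singleton]
      rfl
  · intro h
    obtain ⟨W, φ, hφe, hφs⟩ := hX.atlas
    obtain ⟨IW, fstW, sqW⟩ := exists_ideal_sq i hi φ
    refine ⟨hi, W, φ, IW, fstW, hφe, hφs, sqW, fun w => ?_⟩
    by_cases hw : Points.ofPt φ w ∈ Set.range (Points.map i)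
    · obtain ⟨x, hx⟩ := hw
      obtain ⟨U, hU, a, u, f, I, fst, hae, hau, hf, hIf, sq⟩ := h x
      have hI : BlowUp.IsEffCartierIdeal I :=
        fun y => ⟨⟨⊤, isAffineOpen_top _⟩, trivial, f, hf, hIf⟩
      exact descend_at i φ hφe IW fstW sqW a hae I fst sq hI w u (hau.trans hx)
    · apply exists_affine_of_not_mem_support IW w
      intro hws
      apply hw
      have h1 := Groth.Agent.Helper2.ComplAffine.range_snd_eq i φ fstW
        (Over.homMk IW.subschemeι rfl : Over.mk (IW.subschemeι ≫ W.hom) ⟶ W) sqW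
      have h2 : w ∈ Set.range IW.subschemeι := by
        rw [IW.range_subschemeι]
        exact hws
      have h3 : w ∈ {t | Points.ofPt φ t ∈ Set.range (Points.map i)} := h1 ▸ h2
      exact h3

end Groth.Agent.Helper2.CartierDescent
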