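import Groth.Prelude.Def_AlgSpModX
import Groth.Agent.Lib.Helper2.AlgSp.CartierDescent

set_option autoImplicit false
set_option backward.isDefEq.respectTransparency false
set_option linter.style.haveILetI false
universe u
open CategoryTheory CategoryTheory.Limits AlgebraicGeometry Opposite AlgSp

namespace Groth.Agent.Helper2.CartierSum
open Groth.Agent.Helper2.AlgSpBasic Groth.Agent.Helper2.CartierPull
  Groth.Agent.Helper2.CartierDescent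

variable {S : Scheme.{u}}

/-- The value of the ideal sheaf of a closed subspace on an affine object of the etale site is
the ideal of global sections of any ideal sheaf cutting out the pullback. -/
theorem idealOfRep_ideal_eq {X D : Sp S} (i : D ⟶ X) (hi : RepWith @IsClosedImmersion i)
    (E : EtOver X) (hE : IsAffine E.obj.left.left) (I : E.obj.left.left.IdealSheafData)
    (fst : (yon S).obj (Over.mk (I.subschemeι ≫ E.obj.left.hom)) ⟶ D)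
    (sq : IsPullback fst ((yon S).map (Over.homMk I.subschemeι rfl :
      Over.mk (I.subschemeι ≫ E.obj.left.hom) ⟶ E.obj.left)) i E.obj.hom) :
    (idealOfRep hi.1).ideal E hE = I.ideal ⟨⊤, isAffineOpen_top _⟩ := by
  have sq' := hi.1.isPullback E.obj.hom
  let e' := sq.isoIsPullback _ _ sq'
  have he' : e'.hom ≫ (yon S).map (hi.1.snd E.obj.hom) = (yon S).map (Over.homMk I.subschemeι rfl :
      Over.mk (I.subschemeι ≫ E.obj.left.hom) ⟶ E.obj.left) := sq.isoIsPullback_hom_snd _ _ sq'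
  let ε := (yon S).preimageIso e'
  have hε : ε.hom ≫ hi.1.snd E.obj.hom = (Over.homMk I.subschemeι rfl :
      Over.mk (I.subschemeι ≫ E.obj.left.hom) ⟶ E.obj.left) := by
    apply (yon S).map_injective
    rw [Functor.map_comp, Functor.preimageIso_hom, Functor.map_preimage]
    exact he'
  have hε' : ε.hom.left ≫ (hi.1.snd E.obj.hom).left = I.subschemeι :=
    congrArg (fun f => f.left) hε
  haveI : IsIso ε.hom.left := (Over.forget S).map_isIso ε.hom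
  have hinj : Function.Injective ε.hom.left.appTop.hom :=
    (ConcreteCategory.bijective_of_isIso ε.hom.left.appTop).1
  ext a
  rw [mem_idealOfRep_iff, ← I.ker_subschemeι_app ⟨⊤, isAffineOpen_top _⟩, RingHom.mem_ker]
  have h1 : (I.subschemeι.app ⊤).hom a =
      ε.hom.left.appTop.hom ((hi.1.snd E.obj.hom).left.appTop.hom a) := by
    have h2 : I.subschemeι.appTop = (hi.1.snd E.obj.hom).left.appTop ≫ ε.hom.left.appTop := by
      rw [← Scheme.Hom.comp_appTop, hε']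
    exact congrArg (fun f => f.hom a) h2
  constructor
  · intro h
    show (I.subschemeι.app ⊤).hom a = 0
    rw [h1]
    have : (hi.1.snd E.obj.hom).left.appTop.hom a = 0 := h
    rw [this, map_zero]
  · intro h
    have h3 : (I.subschemeι.app ⊤).hom a = 0 := h
    rw [h1] at h3
    show (hi.1.snd E.obj.hom).left.appTop.hom a = 0
    apply hinj
    rw [map_zero]
    exact h3

/-- S10814. -/
theorem main14 {X D₁ D₂ D : Sp S} (hX : IsAlgSpace X) (i₁ : D₁ ⟶ X) (i₂ : D₂ ⟶ X) (i : D ⟶ X)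
    (I₁ I₂ : IdealEt X) (h₁ : IsCutOutBy I₁ i₁) (h₂ : IsCutOutBy I₂ i₂)
    (hD : IsCutOutBy (I₁ * I₂) i) (e₁ : IsEffCartierSub i₁) (e₂ : IsEffCartierSub i₂) :
    IsEffCartierSub i := by
  obtain ⟨hi₁, rfl⟩ := h₁
  obtain ⟨hi₂, rfl⟩ := h₂
  obtain ⟨hi, hID⟩ := hD
  rw [main92 hX i hi]
  intro x
  obtain ⟨W, φ, hφe, hφs⟩ := hX.atlas
  obtain ⟨w, hw⟩ := surjective_ofPt φ hφs (Points.map i x)
  obtain ⟨J₁, f₁, s₁⟩ := exists_ideal_sq i₁ hi₁ φ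
  obtain ⟨J₂, f₂, s₂⟩ := exists_ideal_sq i₂ hi₂ φ
  obtain ⟨J, f, s⟩ := exists_ideal_sq i hi φ
  have hJ₁ := (main91 hX i₁ hi₁).mp e₁ W φ hφe J₁ f₁ s₁
  have hJ₂ := (main91 hX i₂ hi₂).mp e₂ W φ hφe J₂ f₂ s₂
  obtain ⟨W₁, hwW₁, -, a₁, ha₁, hJa₁⟩ := exists_affine_le J₁ hJ₁ w ⊤ trivial
  obtain ⟨W₂, hwW₂, hW₂W₁, a₂, ha₂, hJa₂⟩ := exists_affine_le J₂ hJ₂ w W₁.1 hwW₁
  let U : Over S := Over.mk (W₂.1.ι ≫ W.hom)
  let ι' : U ⟶ W := Over.homMk W₂.1.ι rfl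
  have hae : RepWith @Etale ((yon S).map ι' ≫ φ) :=
    repWith_comp @Etale ((repWith_yon_map_iff @Etale ι').mpr (inferInstanceAs (Etale W₂.1.ι))) hφe
  let E : EtOver X := EtOver.mk ((yon S).map ι' ≫ φ) hae
  have hE : IsAffine E.obj.left.left := W₂.2
  obtain ⟨g₁, t₁⟩ := exists_sq_comap i₁ φ J₁ f₁ s₁ ι'
  obtain ⟨g₂, t₂⟩ := exists_sq_comap i₂ φ J₂ f₂ s₂ ι'
  obtain ⟨g, t⟩ := exists_sq_comap i φ J f s ι'
  have k₁ : (idealOfRep hi₁.1).ideal E hE = (J₁.comap W₂.1.ι).ideal ⟨⊤, isAffineOpen_top _⟩ :=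
    idealOfRep_ideal_eq i₁ hi₁ E hE _ g₁ t₁
  have k₂ : (idealOfRep hi₂.1).ideal E hE = (J₂.comap W₂.1.ι).ideal ⟨⊤, isAffineOpen_top _⟩ :=
    idealOfRep_ideal_eq i₂ hi₂ E hE _ g₂ t₂
  have k : (idealOfRep hi.1).ideal E hE = (J.comap W₂.1.ι).ideal ⟨⊤, isAffineOpen_top _⟩ :=
    idealOfRep_ideal_eq i hi E hE _ g t
  have e : (⊤ : U.left.Opens) ≤ W₂.1.ι ⁻¹ᵁ W₂.1 := fun y _ => y.2
  let ρ := W₂.1.ι.appLE W₂.1 ⊤ e
  let a₁' := (W.left.presheaf.map (homOfLE hW₂W₁).op).hom a₁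
  have m₁ : (J₁.comap W₂.1.ι).ideal ⟨⊤, isAffineOpen_top _⟩ = Ideal.span {ρ.hom a₁'} := by
    rw [Groth.Agent.Helper4.IdealComap.ideal_comap_eq_map W₂.1.ι J₁ ⟨⊤, isAffineOpen_top _⟩ W₂ e,
      ← J₁.map_ideal (U := W₂) (V := W₁) hW₂W₁, hJa₁, Ideal.map_span, Set.image_singleton,
      Ideal.map_span, Set.image_singleton]
    rfl
  have m₂ : (J₂.comap W₂.1.ι).ideal ⟨⊤, isAffineOpen_top _⟩ = Ideal.span {ρ.hom a₂} := by
    rw [Groth.Agent.Helper4.IdealComap.ideal_comap_eq_map W₂.1.ι J₂ ⟨⊤, isAffineOpen_top _⟩ W₂ e,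
      hJa₂, Ideal.map_span, Set.image_singleton]
  have m : (J.comap W₂.1.ι).ideal ⟨⊤, isAffineOpen_top _⟩ =
      Ideal.span {ρ.hom a₁' * ρ.hom a₂} := by
    rw [← k, hID, IdealEt.mul_ideal, k₁, k₂, m₁, m₂, Ideal.span_singleton_mul_span_singleton]
  have hρ : ρ.hom.Flat := Flat.flat_appLE W₂.1.ι W₂.2 (isAffineOpen_top _) e
  refine ⟨U, W₂.2, (yon S).map ι' ≫ φ, ⟨w, hwW₂⟩, ρ.hom a₁' * ρ.hom a₂, J.comap W₂.1.ι, g, hae,
    ?_, ?_, m, t⟩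
  · rw [ofPt_yon_map_comp]
    exact hw
  · exact mul_mem (nzd_of_flat _ hρ (nzd_of_flat _ (flat_res W₁.2 W₂.2 hW₂W₁) ha₁))
      (nzd_of_flat _ hρ ha₂)

/-- If `I * J = (c)` with `c` a nonzerodivisor, then away from any proper ideal some product
`x₀ y₀` generates `(c)` up to a factor outside that ideal. -/
theorem exists_factor {A : Type u} [CommRing A] (IA JA : Ideal A) (c : A)
    (hc : c ∈ nonZeroDivisors A) (hIJ : IA * JA = Ideal.span {c}) (𝔭 : Ideal A) (h𝔭 : 𝔭 ≠ ⊤) :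
    ∃ x₀ ∈ IA, ∃ y₀ ∈ JA, ∃ z : A, x₀ * y₀ = c * z ∧ z ∉ 𝔭 := by
  by_contra hcon
  have hcon' : ∀ x₀ ∈ IA, ∀ y₀ ∈ JA, ∀ z : A, x₀ * y₀ = c * z → z ∈ 𝔭 := by
    intro x₀ hx₀ y₀ hy₀ z hz
    by_contra hz'
    exact hcon ⟨x₀, hx₀, y₀, hy₀, z, hz, hz'⟩
  have hle : IA * JA ≤ Ideal.span {c} * 𝔭 := by
    rw [Ideal.mul_le]
    intro r hr s hs
    have h1 : r * s ∈ Ideal.span {c} := by
      rw [← hIJ]
      exact Ideal.mul_mem_mul hr hs
    obtain ⟨z, hz⟩ := Ideal.mem_span_singleton'.mp h1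
    rw [Ideal.mem_span_singleton_mul]
    exact ⟨z, hcon' r hr s hs z (by rw [← hz, mul_comm]), by rw [← hz, mul_comm]⟩
  have hc1 : c ∈ Ideal.span {c} * 𝔭 := hle (hIJ ▸ Ideal.mem_span_singleton_self c)
  obtain ⟨y, hy, hcy⟩ := Ideal.mem_span_singleton_mul.mp hc1
  have hy1 : y = 1 := by
    have h0 : c * (y - 1) = 0 := by rw [mul_sub, hcy, mul_one, sub_self]
    exact sub_eq_zero.mp ((mem_nonZeroDivisors_iff.mp hc).1 _ h0)
  rw [hy1] at hy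
  exact h𝔭 ((Ideal.eq_top_iff_one _).mpr hy)

/-- After inverting `z`, the ideal `I` becomes principal generated by a nonzerodivisor. -/
theorem map_eq_span_of_factor {A B : Type u} [CommRing A] [CommRing B] (σ : A →+* B)
    (hσ : σ.Flat) (IA JA : Ideal A) (c x₀ y₀ z : A) (hc : c ∈ nonZeroDivisors A)
    (hIJ : IA * JA = Ideal.span {c}) (hx₀ : x₀ ∈ IA) (hy₀ : y₀ ∈ JA) (hxy : x₀ * y₀ = c * z)
    (hz : IsUnit (σ z)) :
    IA.map σ = Ideal.span {σ x₀} ∧ σ x₀ ∈ nonZeroDivisors B := by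
  have hσc : σ c ∈ nonZeroDivisors B := nzd_of_flat σ hσ hc
  constructor
  · apply le_antisymm
    · rw [Ideal.map_le_iff_le_comap]
      intro x hx
      have h1 : x * y₀ ∈ Ideal.span {c} := by
        rw [← hIJ]
        exact Ideal.mul_mem_mul hx hy₀
      obtain ⟨r, hr⟩ := Ideal.mem_span_singleton'.mp h1
      have h2 : c * (x * z - x₀ * r) = 0 := by
        have e1 : c * (x * z) = x * (x₀ * y₀) := by rw [hxy]; ring
        have e2 : c * (x₀ * r) = x₀ * (x * y₀) := by rw [← hr]; ring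
        rw [mul_sub, e1, e2]
        ring
      have h3 : x * z = x₀ * r := sub_eq_zero.mp ((mem_nonZeroDivisors_iff.mp hc).1 _ h2)
      rw [Ideal.mem_comap, Ideal.mem_span_singleton']
      obtain ⟨v, hv⟩ := hz
      refine ⟨σ r * ↑v⁻¹, ?_⟩
      have h4 : σ x * σ z = σ x₀ * σ r := by rw [← map_mul, h3, map_mul]
      calc σ r * ↑v⁻¹ * σ x₀ = (σ x₀ * σ r) * ↑v⁻¹ := by ring
        _ = σ x * σ z * ↑v⁻¹ := by rw [h4]
        _ = σ x * (↑v * ↑v⁻¹) := by rw [← hv]; ring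
        _ = σ x := by rw [Units.mul_inv, mul_one]
    · rw [Ideal.span_singleton_le_iff_mem]
      exact Ideal.mem_map_of_mem σ hx₀
  · have h1 : σ x₀ * σ y₀ ∈ nonZeroDivisors B := by
      rw [← map_mul, hxy, map_mul]
      exact mul_mem hσc hz.mem_nonZeroDivisors
    rw [mem_nonZeroDivisors_iff_right]
    intro b hb
    apply (mem_nonZeroDivisors_iff_right.mp h1)
    rw [← mul_assoc, hb, zero_mul]

theorem main13_left {X Z D : Sp S} (hX : IsAlgSpace X) (iZ : Z ⟶ X) (iD : D ⟶ X)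
    (I J : IdealEt X) (hI : I.IsQCoh) (hZ : IsCutOutBy I iZ)
    (hD : IsCutOutBy (I * J) iD) (hDc : IsEffCartierSub iD) : IsEffCartierSub iZ := by
  obtain ⟨hiZ, rfl⟩ := hZ
  obtain ⟨hiD, hID⟩ := hD
  rw [main92 hX iZ hiZ]
  intro x
  obtain ⟨W, φ, hφe, hφs⟩ := hX.atlas
  obtain ⟨w, hw⟩ := surjective_ofPt φ hφs (Points.map iZ x)
  obtain ⟨JD, fD, sD⟩ := exists_ideal_sq iD hiD φ
  obtain ⟨JZ, fZ, sZ⟩ := exists_ideal_sq iZ hiZ φ
  have hJD := (main91 hX iD hiD).mp hDc W φ hφe JD fD sD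
  obtain ⟨W₁, hwW₁, c, hc, hJc⟩ := hJD w
  let U₁ : Over S := Over.mk (W₁.1.ι ≫ W.hom)
  let ι₁ : U₁ ⟶ W := Over.homMk W₁.1.ι rfl
  have ha₁ : RepWith @Etale ((yon S).map ι₁ ≫ φ) :=
    repWith_comp @Etale ((repWith_yon_map_iff @Etale ι₁).mpr (inferInstanceAs (Etale W₁.1.ι))) hφe
  let E₁ : EtOver X := EtOver.mk ((yon S).map ι₁ ≫ φ) ha₁
  have hE₁ : IsAffine E₁.obj.left.left := W₁.2
  haveI : IsAffine U₁.left := W₁.2
  obtain ⟨gD, tD⟩ := exists_sq_comap iD φ JD fD sD ι₁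
  have kD : (idealOfRep hiD.1).ideal E₁ hE₁ =
      (JD.comap W₁.1.ι).ideal ⟨⊤, isAffineOpen_top _⟩ := idealOfRep_ideal_eq iD hiD E₁ hE₁ _ gD tD
  have e₁ : (⊤ : U₁.left.Opens) ≤ W₁.1.ι ⁻¹ᵁ W₁.1 := fun y _ => y.2
  let ρ := W₁.1.ι.appLE W₁.1 ⊤ e₁
  have hρ : ρ.hom.Flat := Flat.flat_appLE W₁.1.ι W₁.2 (isAffineOpen_top _) e₁
  have mD : (JD.comap W₁.1.ι).ideal ⟨⊤, isAffineOpen_top _⟩ = Ideal.span {ρ.hom c} := by
    rw [Groth.Agent.Helper4.IdealComap.ideal_comap_eq_map W₁.1.ι JD ⟨⊤, isAffineOpen_top _⟩ W₁ e₁,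
      hJc, Ideal.map_span, Set.image_singleton]
  have hIJ : (idealOfRep hiZ.1).ideal E₁ hE₁ * J.ideal E₁ hE₁ = Ideal.span {ρ.hom c} := by
    rw [← IdealEt.mul_ideal, ← hID, kD, mD]
  have hc' : ρ.hom c ∈ nonZeroDivisors Γ(U₁.left, ⊤) := nzd_of_flat _ hρ hc
  let p : ↥U₁.left := ⟨w, hwW₁⟩
  let 𝔭 : Ideal Γ(U₁.left, ⊤) := (IsLocalRing.maximalIdeal (U₁.left.presheaf.stalk p)).comap
    (U₁.left.presheaf.germ ⊤ p trivial).hom
  have h𝔭 : 𝔭 ≠ ⊤ := Ideal.comap_ne_top _ (IsLocalRing.maximalIdeal.isMaximal _).ne_top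
  obtain ⟨x₀, hx₀, y₀, hy₀, z, hxy, hz⟩ := exists_factor _ _ _ hc' hIJ 𝔭 h𝔭
  have hpz : p ∈ U₁.left.basicOpen z := by
    rw [Scheme.mem_basicOpen_top]
    by_contra hu
    exact hz (by
      rw [Ideal.mem_comap, IsLocalRing.mem_maximalIdeal, mem_nonunits_iff]
      exact hu)
  let Dz : U₁.left.Opens := U₁.left.basicOpen z
  have hDz : IsAffineOpen Dz := (isAffineOpen_top U₁.left).basicOpen z
  let U₂ : Over S := Over.mk (Dz.ι ≫ U₁.hom)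
  let ι₂ : U₂ ⟶ U₁ := Over.homMk Dz.ι rfl
  haveI : IsAffine U₂.left := hDz
  have ha₂ : RepWith @Etale ((yon S).map (ι₂ ≫ ι₁) ≫ φ) := by
    refine repWith_comp @Etale ((repWith_yon_map_iff @Etale (ι₂ ≫ ι₁)).mpr ?_) hφe
    show Etale (Dz.ι ≫ W₁.1.ι)
    infer_instance
  let E₂ : EtOver X := EtOver.mk ((yon S).map (ι₂ ≫ ι₁) ≫ φ) ha₂
  have hE₂ : IsAffine E₂.obj.left.left := hDz
  let g : E₂ ⟶ E₁ := EtOver.homMk ι₂ (by
    show (yon S).map ι₂ ≫ (yon S).map ι₁ ≫ φ = (yon S).map (ι₂ ≫ ι₁) ≫ φ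
    rw [Functor.map_comp, Category.assoc])
  let σ := Dz.ι.appTop
  have hσflat : σ.hom.Flat := Scheme.Hom.flat_appTop (f := Dz.ι)
  have hσz : IsUnit (σ.hom z) := by
    apply RingedSpace.isUnit_of_isUnit_germ (X := U₂.left.toRingedSpace) ⊤
    intro q _
    have h1 : q ∈ U₂.left.basicOpen (σ.hom z) := by
      have h2 := Scheme.preimage_basicOpen_top Dz.ι z
      have h3 : q ∈ Dz.ι ⁻¹ᵁ U₁.left.basicOpen z := q.2
      rw [h2] at h3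
      exact h3
    exact (Scheme.mem_basicOpen_top _ _ _).mp h1
  obtain ⟨hmap, hnzd⟩ := map_eq_span_of_factor σ.hom hσflat _ _ _ x₀ y₀ z hc' hIJ hx₀ hy₀ hxy hσz
  have hIE₂ : (idealOfRep hiZ.1).ideal E₂ hE₂ = ((idealOfRep hiZ.1).ideal E₁ hE₁).map σ.hom :=
    le_antisymm (hI g hE₁ hE₂) ((idealOfRep hiZ.1).map_le g hE₁ hE₂)
  obtain ⟨gZ, tZ⟩ := exists_sq_comap iZ φ JZ fZ sZ (ι₂ ≫ ι₁)
  have kZ : (idealOfRep hiZ.1).ideal E₂ hE₂ =
      (JZ.comap (ι₂ ≫ ι₁).left).ideal ⟨⊤, isAffineOpen_top _⟩ :=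
    idealOfRep_ideal_eq iZ hiZ E₂ hE₂ _ gZ tZ
  refine ⟨U₂, hDz, (yon S).map (ι₂ ≫ ι₁) ≫ φ, ⟨p, hpz⟩, σ.hom x₀, JZ.comap (ι₂ ≫ ι₁).left, gZ,
    ha₂, ?_, hnzd, ?_, tZ⟩
  · rw [ofPt_yon_map_comp]
    exact hw
  · rw [← kZ, hIE₂, hmap]
    rfl

theorem idealEt_mul_comm {X : Sp S} (I J : IdealEt X) : I * J = J * I := by
  apply IdealEt.ext
  funext E hE
  exact Ideal.mul_comm _ _

/-- S10813. -/
theorem main13 {X Z Y D : Sp S} (hX : IsAlgSpace X) (iZ : Z ⟶ X) (iY : Y ⟶ X) (iD : D ⟶ X)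
    (I J : IdealEt X) (hI : I.IsQCoh) (hJ : J.IsQCoh) (hZ : IsCutOutBy I iZ)
    (hY : IsCutOutBy J iY) (hD : IsCutOutBy (I * J) iD) (hDc : IsEffCartierSub iD) :
    IsEffCartierSub iZ ∧ IsEffCartierSub iY :=
  ⟨main13_left hX iZ iD I J hI hZ hD hDc,
    main13_left hX iY iD J I hJ hY (idealEt_mul_comm I J ▸ hD) hDc⟩

end Groth.Agent.Helper2.CartierSum
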