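import Groth.Prelude.Def_AlgSpModX
import Groth.Agent.Lib.Helper2.AlgSp.CartierSum
import Groth.Agent.Lib.Helper2.AlgSp.Mono

set_option autoImplicit false
set_option backward.isDefEq.respectTransparency false
set_option linter.style.haveILetI false
universe u
open CategoryTheory CategoryTheory.Limits AlgebraicGeometry Opposite AlgSp

namespace Groth.Agent.Helper2.CutOut
open Groth.Agent.Helper2.AlgSpBasic Groth.Agent.Helper2.CartierPull
  Groth.Agent.Helper2.CartierDescent Groth.Agent.Helper2.CartierSum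

variable {S : Scheme.{u}}

/-- The comparison of sections on an affine open with the global sections of the open subscheme
is bijective. -/
theorem bijective_ι_appLE_top {X : Scheme.{u}} (U : X.Opens)
    (e : (⊤ : U.toScheme.Opens) ≤ U.ι ⁻¹ᵁ U) :
    Function.Bijective (U.ι.appLE U ⊤ e).hom := by
  have h1 : U.ι ''ᵁ ⊤ = U := U.ι_image_top
  have h2 : U.ι.appLE U ⊤ e = X.presheaf.map (eqToHom h1).op := by
    rw [Scheme.Opens.ι_appLE]
    rfl
  rw [h2]
  exact ConcreteCategory.bijective_of_isIso _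

/-- The ideal sheaf on a chart is recovered on affine opens from the values of the ideal of the
closed subspace on the etale site. -/
theorem map_ideal_eq_idealOfRep {X D : Sp S} (i : D ⟶ X) (hi : RepWith @IsClosedImmersion i)
    {W : Over S} (φ : (yon S).obj W ⟶ X) (hφ : RepWith @Etale φ) (J : W.left.IdealSheafData)
    (f : (yon S).obj (Over.mk (J.subschemeι ≫ W.hom)) ⟶ D)
    (s : IsPullback f ((yon S).map
      (Over.homMk J.subschemeι rfl : Over.mk (J.subschemeι ≫ W.hom) ⟶ W)) i φ)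
    (W₁ : W.left.affineOpens) :
    ∃ (ha : RepWith @Etale ((yon S).map (Over.homMk W₁.1.ι rfl :
        Over.mk (W₁.1.ι ≫ W.hom) ⟶ W) ≫ φ))
      (e : (⊤ : W₁.1.toScheme.Opens) ≤ W₁.1.ι ⁻¹ᵁ W₁.1),
      (J.ideal W₁).map (W₁.1.ι.appLE W₁.1 ⊤ e).hom =
        (idealOfRep hi.1).ideal (EtOver.mk _ ha) W₁.2 := by
  let ι₁ : Over.mk (W₁.1.ι ≫ W.hom) ⟶ W := Over.homMk W₁.1.ι rfl
  have ha : RepWith @Etale ((yon S).map ι₁ ≫ φ) :=
    repWith_comp @Etale ((repWith_yon_map_iff @Etale ι₁).mpr (inferInstanceAs (Etale W₁.1.ι))) hφ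
  have e : (⊤ : W₁.1.toScheme.Opens) ≤ W₁.1.ι ⁻¹ᵁ W₁.1 := fun y _ => y.2
  refine ⟨ha, e, ?_⟩
  obtain ⟨g, t⟩ := exists_sq_comap i φ J f s ι₁
  have k : (idealOfRep hi.1).ideal (EtOver.mk _ ha) W₁.2 =
      (J.comap W₁.1.ι).ideal ⟨⊤, isAffineOpen_top _⟩ :=
    idealOfRep_ideal_eq i hi (EtOver.mk _ ha) W₁.2 _ g t
  rw [k, Groth.Agent.Helper4.IdealComap.ideal_comap_eq_map W₁.1.ι J ⟨⊤, isAffineOpen_top _⟩ W₁ e]

/-- S9989. -/
theorem main89 {X Z Z' : Sp S} (hX : IsAlgSpace X) (i : Z ⟶ X) (i' : Z' ⟶ X)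
    (I I' : IdealEt X) (h : IsCutOutBy I i) (h' : IsCutOutBy I' i') :
    I ≤ I' ↔ ∃ k : Z' ⟶ Z, k ≫ i = i' := by
  obtain ⟨hi, rfl⟩ := h
  obtain ⟨hi', rfl⟩ := h'
  constructor
  · intro hle
    obtain ⟨W, φ, hφe, hφs⟩ := hX.atlas
    obtain ⟨J, f, s⟩ := exists_ideal_sq i hi φ
    obtain ⟨J', f', s'⟩ := exists_ideal_sq i' hi' φ
    have hJ : J ≤ J' := by
      intro W₁
      obtain ⟨ha, e, h1⟩ := map_ideal_eq_idealOfRep i hi φ hφe J f s W₁
      obtain ⟨ha', e', h2⟩ := map_ideal_eq_idealOfRep i' hi' φ hφe J' f' s' W₁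
      have hb := bijective_ι_appLE_top W₁.1 e
      have h3 : (J.ideal W₁).map (W₁.1.ι.appLE W₁.1 ⊤ e).hom ≤
          (J'.ideal W₁).map (W₁.1.ι.appLE W₁.1 ⊤ e).hom := by
        rw [h1, h2]
        exact hle _ _
      have h4 := Ideal.comap_mono (f := (W₁.1.ι.appLE W₁.1 ⊤ e).hom) h3
      rwa [Ideal.comap_map_of_bijective _ hb, Ideal.comap_map_of_bijective _ hb] at h4
    let κ : Over.mk (J'.subschemeι ≫ W.hom) ⟶ Over.mk (J.subschemeι ≫ W.hom) :=
      Over.homMk (Scheme.IdealSheafData.inclusion hJ) (by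
        show Scheme.IdealSheafData.inclusion hJ ≫ J.subschemeι ≫ W.hom = J'.subschemeι ≫ W.hom
        rw [← Category.assoc, Scheme.IdealSheafData.inclusion_subschemeι])
    have hκ : κ ≫ (Over.homMk J.subschemeι rfl : Over.mk (J.subschemeι ≫ W.hom) ⟶ W) =
        (Over.homMk J'.subschemeι rfl : Over.mk (J'.subschemeι ≫ W.hom) ⟶ W) := by
      apply Over.OverMorphism.ext
      exact Scheme.IdealSheafData.inclusion_subschemeι hJ
    have hf'e : RepWith @Etale f' := repWith_of_isPullback @Etale s'.flip hφe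
    have hf's : RepWith @Surjective f' := repWith_of_isPullback @Surjective s'.flip hφs
    haveI : Epi f' := (Sheaf.isLocallySurjective_iff_epi f').mp
      (isLocallySurjective_of_etale_surjective f' hf'e hf's)
    haveI : Mono i := mono_of_repWith_monomorphisms i
      (repWith_mono (fun _ _ g (hg : IsClosedImmersion g) => (inferInstance : Mono g)) hi)
    have w : f' ≫ i' = ((yon S).map κ ≫ f) ≫ i := by
      rw [s'.w, Category.assoc, s.w, ← Category.assoc, ← Functor.map_comp, hκ]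
    obtain ⟨l, hl, -⟩ := exists_lift_of_epi_mono f' i i' ((yon S).map κ ≫ f) w
    exact ⟨l, hl⟩
  · rintro ⟨k, hk⟩ E hE a ha
    rw [mem_idealOfRep_iff] at ha ⊢
    have sqZ := hi.1.isPullback E.obj.hom
    have sqZ' := hi'.1.isPullback E.obj.hom
    have w : (hi'.1.fst E.obj.hom ≫ k) ≫ i = (yon S).map (hi'.1.snd E.obj.hom) ≫ E.obj.hom := by
      rw [Category.assoc, hk]
      exact sqZ'.w
    obtain ⟨μ, hμ⟩ := (yon S).map_surjective (sqZ.lift _ _ w)
    have hμ2 : μ ≫ hi.1.snd E.obj.hom = hi'.1.snd E.obj.hom := by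
      apply (yon S).map_injective
      rw [Functor.map_comp, hμ]
      exact sqZ.lift_snd _ _ w
    have h3 : (hi'.1.snd E.obj.hom).left.appTop =
        (hi.1.snd E.obj.hom).left.appTop ≫ μ.left.appTop := by
      rw [← Scheme.Hom.comp_appTop, ← Over.comp_left, hμ2]
    have h4 : (hi'.1.snd E.obj.hom).left.appTop.hom a =
        μ.left.appTop.hom ((hi.1.snd E.obj.hom).left.appTop.hom a) :=
      congrArg (fun f => f.hom a) h3
    show (hi'.1.snd E.obj.hom).left.appTop.hom a = 0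
    rw [h4]
    have h5 : (hi.1.snd E.obj.hom).left.appTop.hom a = 0 := ha
    rw [h5, map_zero]

theorem comp_morphismRestrict_appTop {X Y : Scheme.{u}} (f : X ⟶ Y) (U : Y.Opens)
    (e : (⊤ : U.toScheme.Opens) ≤ U.ι ⁻¹ᵁ U) :
    ∃ (i : op (f ⁻¹ᵁ U) ⟶ op ((f ⁻¹ᵁ U).ι ''ᵁ ⊤)), IsIso i ∧
      U.ι.appLE U ⊤ e ≫ (f ∣_ U).appTop = f.app U ≫ X.presheaf.map i := by
  have h1 : (f ⁻¹ᵁ U).ι ''ᵁ ⊤ = f ⁻¹ᵁ U := (f ⁻¹ᵁ U).ι_image_top
  refine ⟨(eqToHom h1).op, inferInstance, ?_⟩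
  rw [Scheme.Hom.appTop, Scheme.Hom.app_eq_appLE, morphismRestrict_appLE,
    Scheme.Opens.ι_appLE, Scheme.Hom.map_appLE]
  rw [Scheme.Hom.appLE]
  rfl

/-- The ideal of a representable morphism on an affine open of a chart, in terms of the
projection from the chosen pullback over the whole chart. -/
theorem mem_idealOfRep_iff_app {X F : Sp S} (h : F ⟶ X) (hh : Representable h)
    {W : Over S} (φ : (yon S).obj W ⟶ X) (W₁ : W.left.affineOpens)
    (ha : RepWith @Etale ((yon S).map (Over.homMk W₁.1.ι rfl :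
      Over.mk (W₁.1.ι ≫ W.hom) ⟶ W) ≫ φ))
    (e : (⊤ : W₁.1.toScheme.Opens) ≤ W₁.1.ι ⁻¹ᵁ W₁.1) (a : Γ(W.left, W₁.1)) :
    (W₁.1.ι.appLE W₁.1 ⊤ e).hom a ∈ (idealOfRep hh).ideal (EtOver.mk _ ha) W₁.2 ↔
      ((hh.snd φ).left.app W₁.1).hom a = 0 := by
  let U₁ : Over S := Over.mk (W₁.1.ι ≫ W.hom)
  let ι₁ : U₁ ⟶ W := Over.homMk W₁.1.ι rfl
  let pW := hh.snd φ
  let f := pW.left
  let O₁ : (hh.pullback φ).left.Opens := f ⁻¹ᵁ W₁.1
  let O₁' : Over S := Over.mk (O₁.ι ≫ (hh.pullback φ).hom)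
  let r : O₁' ⟶ U₁ := Over.homMk (f ∣_ W₁.1) (by
    show (f ∣_ W₁.1) ≫ W₁.1.ι ≫ W.hom = O₁.ι ≫ (hh.pullback φ).hom
    rw [← Category.assoc, morphismRestrict_ι, Category.assoc, Over.w pW])
  let j : O₁' ⟶ hh.pullback φ := Over.homMk O₁.ι rfl
  have sq₀ : IsPullback r j ι₁ pW :=
    IsPullback.of_map (Over.forget S) (by
      apply Over.OverMorphism.ext
      exact morphismRestrict_ι f W₁.1) (isPullback_morphismRestrict f W₁.1)
  have sq₁ := sq₀.map (yon S)
  have sq₂ : IsPullback ((yon S).map j ≫ hh.fst φ) ((yon S).map r) h ((yon S).map ι₁ ≫ φ) :=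
    sq₁.flip.paste_horiz (hh.isPullback φ)
  have sqE := hh.isPullback ((yon S).map ι₁ ≫ φ)
  let e' := sq₂.isoIsPullback _ _ sqE
  have he' : e'.hom ≫ (yon S).map (hh.snd ((yon S).map ι₁ ≫ φ)) = (yon S).map r :=
    sq₂.isoIsPullback_hom_snd _ _ sqE
  let ε := (yon S).preimageIso e'
  have hε : ε.hom ≫ hh.snd ((yon S).map ι₁ ≫ φ) = r := by
    apply (yon S).map_injective
    rw [Functor.map_comp, Functor.preimageIso_hom, Functor.map_preimage]
    exact he'
  have hε' : ε.hom.left ≫ (hh.snd ((yon S).map ι₁ ≫ φ)).left = f ∣_ W₁.1 :=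
    congrArg (fun f => f.left) hε
  haveI : IsIso ε.hom.left := (Over.forget S).map_isIso ε.hom
  have hinj : Function.Injective ε.hom.left.appTop.hom :=
    (ConcreteCategory.bijective_of_isIso ε.hom.left.appTop).1
  obtain ⟨i₀, hi₀, hcomp⟩ := comp_morphismRestrict_appTop f W₁.1 e
  have hinj2 : Function.Injective ((hh.pullback φ).left.presheaf.map i₀).hom :=
    (ConcreteCategory.bijective_of_isIso ((hh.pullback φ).left.presheaf.map i₀)).1
  have h1 : (f ∣_ W₁.1).appTop = (hh.snd ((yon S).map ι₁ ≫ φ)).left.appTop ≫ ε.hom.left.appTop := by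
    rw [← Scheme.Hom.comp_appTop, hε']
  have key : ε.hom.left.appTop.hom ((hh.snd ((yon S).map ι₁ ≫ φ)).left.appTop.hom
      ((W₁.1.ι.appLE W₁.1 ⊤ e).hom a)) =
      ((hh.pullback φ).left.presheaf.map i₀).hom ((f.app W₁.1).hom a) := by
    have h2 := congrArg (fun g => g.hom a) hcomp
    rw [h1] at h2
    exact h2
  rw [mem_idealOfRep_iff]
  constructor
  · intro hz
    have hz' : (hh.snd ((yon S).map ι₁ ≫ φ)).left.appTop.hom
        ((W₁.1.ι.appLE W₁.1 ⊤ e).hom a) = 0 := hz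
    rw [hz', map_zero] at key
    apply hinj2
    rw [map_zero]
    exact key.symm
  · intro hz
    have hz' : (f.app W₁.1).hom a = 0 := hz
    rw [hz', map_zero] at key
    show (hh.snd ((yon S).map ι₁ ≫ φ)).left.appTop.hom ((W₁.1.ι.appLE W₁.1 ⊤ e).hom a) = 0
    apply hinj
    rw [map_zero]
    exact key

/-- If `h` factors through `i` then the ideal of `i` is contained in the ideal of `h`. -/
theorem idealOfRep_le_of_factor {X Z F : Sp S} (i : Z ⟶ X) (hi : Representable i) (h : F ⟶ X)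
    (hh : Representable h) (k : F ⟶ Z) (hk : k ≫ i = h) : idealOfRep hi ≤ idealOfRep hh := by
  intro E hE a ha
  rw [mem_idealOfRep_iff] at ha ⊢
  have sqZ := hi.isPullback E.obj.hom
  have sqZ' := hh.isPullback E.obj.hom
  have w : (hh.fst E.obj.hom ≫ k) ≫ i = (yon S).map (hh.snd E.obj.hom) ≫ E.obj.hom := by
    rw [Category.assoc, hk]
    exact sqZ'.w
  obtain ⟨μ, hμ⟩ := (yon S).map_surjective (sqZ.lift _ _ w)
  have hμ2 : μ ≫ hi.snd E.obj.hom = hh.snd E.obj.hom := by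
    apply (yon S).map_injective
    rw [Functor.map_comp, hμ]
    exact sqZ.lift_snd _ _ w
  have h3 : (hh.snd E.obj.hom).left.appTop =
      (hi.snd E.obj.hom).left.appTop ≫ μ.left.appTop := by
    rw [← Scheme.Hom.comp_appTop, ← Over.comp_left, hμ2]
  have h4 : (hh.snd E.obj.hom).left.appTop.hom a =
      μ.left.appTop.hom ((hi.snd E.obj.hom).left.appTop.hom a) :=
    congrArg (fun f => f.hom a) h3
  show (hh.snd E.obj.hom).left.appTop.hom a = 0
  rw [h4]
  have h5 : (hi.snd E.obj.hom).left.appTop.hom a = 0 := ha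
  rw [h5, map_zero]

/-- S10001. -/
theorem main01 {Z X : Sp S} (hX : IsAlgSpace X) (i : Z ⟶ X) (I : IdealEt X)
    (hZ : IsCutOutBy I i) {T : Over S} (h : (yon S).obj T ⟶ X) (hh : Representable h) :
    (∃ k : (yon S).obj T ⟶ Z, k ≫ i = h) ↔ I ≤ idealOfRep hh := by
  obtain ⟨hi, rfl⟩ := hZ
  constructor
  · rintro ⟨k, hk⟩
    exact idealOfRep_le_of_factor i hi.1 h hh k hk
  · intro hle
    obtain ⟨W, φ, hφe, hφs⟩ := hX.atlas
    obtain ⟨J, f, s⟩ := exists_ideal_sq i hi φ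
    have sqT := hh.isPullback φ
    have hJ : J.subschemeι.ker ≤ (hh.snd φ).left.ker := by
      rw [J.ker_subschemeι]
      apply Scheme.IdealSheafData.le_ofIdeals_iff.mpr
      intro W₁ a ha
      obtain ⟨hae, e, h1⟩ := map_ideal_eq_idealOfRep i hi φ hφe J f s W₁
      have h2 : (W₁.1.ι.appLE W₁.1 ⊤ e).hom a ∈ (idealOfRep hi.1).ideal (EtOver.mk _ hae) W₁.2 := by
        rw [← h1]
        exact Ideal.mem_map_of_mem _ ha
      exact (mem_idealOfRep_iff_app h hh φ W₁ hae e a).mp (hle _ _ h2)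
    let l₀ := IsClosedImmersion.lift J.subschemeι (hh.snd φ).left hJ
    have hl₀ : l₀ ≫ J.subschemeι = (hh.snd φ).left := IsClosedImmersion.lift_fac _ _ hJ
    let lam : hh.pullback φ ⟶ Over.mk (J.subschemeι ≫ W.hom) := Over.homMk l₀ (by
      show l₀ ≫ J.subschemeι ≫ W.hom = (hh.pullback φ).hom
      rw [← Category.assoc, hl₀]
      exact Over.w (hh.snd φ))
    have hlam : lam ≫ (Over.homMk J.subschemeι rfl : Over.mk (J.subschemeι ≫ W.hom) ⟶ W) =
        hh.snd φ := by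
      apply Over.OverMorphism.ext
      exact hl₀
    have hfe : RepWith @Etale (hh.fst φ) := repWith_of_isPullback @Etale sqT.flip hφe
    have hfs : RepWith @Surjective (hh.fst φ) := repWith_of_isPullback @Surjective sqT.flip hφs
    haveI : Epi (hh.fst φ) := (Sheaf.isLocallySurjective_iff_epi (hh.fst φ)).mp
      (isLocallySurjective_of_etale_surjective (hh.fst φ) hfe hfs)
    haveI : Mono i := mono_of_repWith_monomorphisms i
      (repWith_mono (fun _ _ g (hg : IsClosedImmersion g) => (inferInstance : Mono g)) hi)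
    have w : hh.fst φ ≫ h = ((yon S).map lam ≫ f) ≫ i := by
      rw [sqT.w, Category.assoc, s.w, ← Category.assoc, ← Functor.map_comp, hlam]
    obtain ⟨l, hl, -⟩ := exists_lift_of_epi_mono (hh.fst φ) i h ((yon S).map lam ≫ f) w
    exact ⟨l, hl⟩

end Groth.Agent.Helper2.CutOut
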