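import Mathlib
import Groth.Prelude.Def_AlgSp
import Groth.Agent.Lib.Helper2.AlgSp.Basic
import Groth.Agent.Lib.Helper2.AlgSp.ZarGlue
import Groth.Agent.Lib.Helper2.AlgSp.ImmDescent
import Groth.Agent.Lib.Helper2.AlgSp.EpiPullback
import Groth.Agent.Lib.Helper2.AlgSp.FormalUnr
import Groth.Agent.Lib.Helper2.AlgSp.Coprod

/-!
# Invariant immersions into the chart of a presentation descend (helper2)
-/

set_option autoImplicit false
open CategoryTheory CategoryTheory.Limits AlgebraicGeometry Opposite AlgSp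
open Groth.Agent.Helper2.AlgSpBasic

namespace Groth.Agent.Helper2.InvImm
universe u
variable {S : Scheme.{u}}

section
variable {X : Sp S} {R U : Over S} (s t : R ⟶ U) (p : (yon S).obj U ⟶ X)
  (hp : IsPullback ((yon S).map t) ((yon S).map s) p p)
  {Z' R' : Scheme.{u}} (i' : Z' ⟶ U.left) [Mono i'] (k : R' ⟶ R.left) (s' t' : R' ⟶ Z')
  (hs : k ≫ s.left = s' ≫ i') (ht : IsPullback k t' t.left i')

abbrev zOver (i' : Z' ⟶ U.left) : Over S := Over.mk (i' ≫ U.hom)
abbrev zι (i' : Z' ⟶ U.left) : zOver i' ⟶ U := Over.homMk i' rfl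

instance : Sheaf.IsLocallySurjective (Sheaf.toImage ((yon S).map (zι i') ≫ p)) :=
  (Sheaf.isLocallySurjective_iff_epi _).mpr inferInstance

include hp hs ht in
open Groth.Agent.Helper2.EpiPullback Groth.Agent.Helper2.AlgSpFormal in
theorem isPullback_image :
    IsPullback (Sheaf.toImage ((yon S).map (zι i') ≫ p)) ((yon S).map (zι i'))
      (Sheaf.imageι ((yon S).map (zι i') ≫ p)) p := by
  have hmono : ∀ {Q : Over S} (a b : Q ⟶ zOver i'), a ≫ zι i' = b ≫ zι i' → a = b := by
    intro Q a b hab
    apply Over.OverMorphism.ext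
    have := congrArg (fun m => m.left) hab
    simp only [Over.comp_left, Over.homMk_left] at this
    exact (cancel_mono i').mp this
  apply Groth.Agent.Helper2.ZarGlue.isPullback_of_yon (Sheaf.toImage_ι _)
  · intro Q α β hαβ
    obtain ⟨b, rfl⟩ := (yon S).map_surjective β
    obtain ⟨κ, W, pk, hpk, hsk, hl⟩ :=
      exists_family_lift (Sheaf.toImage ((yon S).map (zι i') ≫ p)) α
    choose z hz using hl
    -- each restriction of `b` factors through `Z'`
    have hfac : ∀ j, ∃ b' : W j ⟶ zOver i', b' ≫ zι i' = pk j ≫ b := by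
      intro j
      obtain ⟨ζ, hζ⟩ := (yon S).map_surjective (z j)
      have e1 : ((yon S).map ζ ≫ (yon S).map (zι i')) ≫ p = ((yon S).map (pk j ≫ b)) ≫ p := by
        calc ((yon S).map ζ ≫ (yon S).map (zι i')) ≫ p
            = z j ≫ (Sheaf.toImage ((yon S).map (zι i') ≫ p) ≫
                Sheaf.imageι ((yon S).map (zι i') ≫ p)) := by
              rw [Sheaf.toImage_ι, hζ, Category.assoc]
          _ = ((yon S).map (pk j) ≫ α) ≫ Sheaf.imageι ((yon S).map (zι i') ≫ p) := by
              rw [← Category.assoc, hz j]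
          _ = ((yon S).map (pk j ≫ b)) ≫ p := by
              rw [Category.assoc, hαβ, Functor.map_comp, Category.assoc]
      obtain ⟨ρ, hρ⟩ := (yon S).map_surjective
        (hp.lift ((yon S).map ζ ≫ (yon S).map (zι i')) ((yon S).map (pk j ≫ b)) e1)
      have hρt : ρ ≫ t = ζ ≫ zι i' :=
        (yon S).map_injective (by rw [Functor.map_comp, hρ, hp.lift_fst, Functor.map_comp])
      have hρs : ρ ≫ s = pk j ≫ b :=
        (yon S).map_injective (by rw [Functor.map_comp, hρ, hp.lift_snd])
      have hρt' : ρ.left ≫ t.left = ζ.left ≫ i' := congrArg (fun m => m.left) hρt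
      have hρs' : ρ.left ≫ s.left = (pk j).left ≫ b.left := congrArg (fun m => m.left) hρs
      have hlam : ht.lift ρ.left ζ.left hρt' ≫ k = ρ.left := ht.lift_fst _ _ _
      have hb' : (ht.lift ρ.left ζ.left hρt' ≫ s') ≫ i' = (pk j).left ≫ b.left := by
        rw [Category.assoc, ← hs, ← Category.assoc, hlam, hρs']
      refine ⟨Over.homMk (ht.lift ρ.left ζ.left hρt' ≫ s') ?_, ?_⟩
      · change (ht.lift ρ.left ζ.left hρt' ≫ s') ≫ i' ≫ U.hom = (W j).hom
        rw [← Category.assoc, hb', Category.assoc, Over.w b, Over.w (pk j)]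
      · apply Over.OverMorphism.ext
        exact hb'
    choose b' hb' using hfac
    obtain ⟨l, hl⟩ := exists_glue_of_family W pk hpk hsk (fun j => (yon S).map (b' j)) (by
      intro j j' Q' qj qj' e
      rw [← Functor.map_comp, ← Functor.map_comp]
      congr 1
      apply hmono
      rw [Category.assoc, Category.assoc, hb', hb', ← Category.assoc, ← Category.assoc, e])
    have hlβ : l ≫ (yon S).map (zι i') = (yon S).map b := by
      apply hom_ext_of_family W pk hpk hsk
      intro j
      rw [← Category.assoc, hl j, ← Functor.map_comp, hb', Functor.map_comp]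
    refine ⟨l, ?_, hlβ⟩
    rw [← cancel_mono (Sheaf.imageι ((yon S).map (zι i') ≫ p)), Category.assoc, Sheaf.toImage_ι,
      ← Category.assoc, hlβ, hαβ]
  · intro Q l l' _ h2
    obtain ⟨a, rfl⟩ := (yon S).map_surjective l
    obtain ⟨a', rfl⟩ := (yon S).map_surjective l'
    congr 1
    apply hmono
    exact (yon S).map_injective (by rw [Functor.map_comp, Functor.map_comp]; exact h2)

end


theorem main {X : AlgSp.Space S} {R U : Over S} (s t : R ⟶ U)
    (p : (AlgSp.yon S).obj U ⟶ X.obj) (hp : AlgSp.IsPresentation s t p)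
    {Z' R' : Scheme.{u}} (i' : Z' ⟶ U.left) [IsImmersion i'] (k : R' ⟶ R.left) (s' t' : R' ⟶ Z')
    (hs : IsPullback k s' s.left i') (ht : IsPullback k t' t.left i') :
    ∃ (Z : AlgSp.Space S) (i : Z ⟶ X) (q : (AlgSp.yon S).obj (Over.mk (i' ≫ U.hom)) ⟶ Z.obj),
      AlgSp.RepWith @IsImmersion i.hom ∧
      IsPullback q ((AlgSp.yon S).map (Over.homMk i' rfl : Over.mk (i' ≫ U.hom) ⟶ U)) i.hom p ∧
      (IsClosedImmersion i' → AlgSp.RepWith @IsClosedImmersion i.hom) ∧
      (IsOpenImmersion i' → AlgSp.RepWith @IsOpenImmersion i.hom) := by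
  have sq := isPullback_image s t p hp.isPullback i' k s' t' hs.w ht
  have himm : RepWith @IsImmersion (Sheaf.imageι ((yon S).map (zι i') ≫ p)) :=
    Groth.Agent.Helper2.ImmDescent.repWith_isImmersion_of_etale_cover X.property _ U p hp.etale
      hp.surjective _ _ sq ((repWith_yon_map_iff @IsImmersion (zι i')).mpr (inferInstanceAs (IsImmersion i')))
  have hZ : IsAlgSpace (Sheaf.image ((yon S).map (zι i') ≫ p)) :=
    Groth.Agent.Helper2.Coprod.isAlgSpace_of_representable_mono _ himm.rep X.property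
  refine ⟨⟨Sheaf.image ((yon S).map (zι i') ≫ p), hZ⟩,
    ObjectProperty.homMk (Sheaf.imageι ((yon S).map (zι i') ≫ p)),
    Sheaf.toImage ((yon S).map (zι i') ≫ p), himm, sq, ?_, ?_⟩
  · intro hc
    exact Groth.Agent.Helper2.ImmDescent.repWith_isClosedImmersion_of_etale_cover _ U p hp.etale
      hp.surjective _ _ sq ((repWith_yon_map_iff @IsClosedImmersion (zι i')).mpr hc)
  · intro ho
    exact Groth.Agent.Helper2.ImmDescent.repWith_isOpenImmersion_of_etale_cover hZ X.property _ U p
      hp.etale hp.surjective _ _ sq ((repWith_yon_map_iff @IsOpenImmersion (zι i')).mpr ho)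

end Groth.Agent.Helper2.InvImm
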