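import Groth.Prelude.Def_AlgSpModX
import Groth.Agent.Lib.Helper2.AlgSp.CutOut
import Groth.Agent.Lib.Helper2.AlgSp.ImmDescent
import Groth.Agent.Lib.Helper2.AlgSp.ZarGlue
import Groth.Agent.Lib.Helper2.AlgSp.Coprod
import Groth.Agent.Lib.Helper2.AlgSp.InvImm

set_option autoImplicit false
set_option backward.isDefEq.respectTransparency false
set_option linter.style.haveILetI false
universe u
open CategoryTheory CategoryTheory.Limits AlgebraicGeometry Opposite AlgSp

namespace Groth.Agent.Helper2.ChartIdeal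
open Groth.Agent.Helper2.AlgSpBasic Groth.Agent.Helper2.CartierPull
  Groth.Agent.Helper2.CartierDescent Groth.Agent.Helper2.CartierSum Groth.Agent.Helper2.CutOut

variable {S : Scheme.{u}}

/-- Local surjectivity is stable under base change in `Sp S`. -/
theorem isLocallySurjective_of_isPullback {A B C D : Sp S} {f' : A ⟶ B} {g' : A ⟶ C} {g : B ⟶ D}
    {f : C ⟶ D} (sq : IsPullback f' g' g f) [Sheaf.IsLocallySurjective g] :
    Sheaf.IsLocallySurjective g' := by
  constructor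
  intro T s
  let σ : (yon S).obj T ⟶ C := (J S).uliftYonedaEquiv.symm s
  have h0 := Presheaf.imageSieve_mem (J S) g.hom (f.hom.app (op T) s)
  refine (J S).superset_covering ?_ h0
  rintro V p ⟨b, hb⟩
  let β : (yon S).obj V ⟶ B := (J S).uliftYonedaEquiv.symm b
  have hcomm : β ≫ g = ((yon S).map p ≫ σ) ≫ f := by
    apply (J S).uliftYonedaEquiv.injective
    rw [GrothendieckTopology.uliftYonedaEquiv_comp, GrothendieckTopology.uliftYonedaEquiv_comp,
      ← GrothendieckTopology.uliftYonedaEquiv_naturality]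
    simp only [β, σ, Equiv.apply_symm_apply]
    rw [hb]
    exact (NatTrans.naturality_apply f.hom p.op s).symm
  refine ⟨(J S).uliftYonedaEquiv (sq.lift β ((yon S).map p ≫ σ) hcomm), ?_⟩
  rw [← GrothendieckTopology.uliftYonedaEquiv_comp, sq.lift_snd,
    ← GrothendieckTopology.uliftYonedaEquiv_naturality]
  simp [σ]

theorem epi_of_isPullback {A B C D : Sp S} {f' : A ⟶ B} {g' : A ⟶ C} {g : B ⟶ D}
    {f : C ⟶ D} (sq : IsPullback f' g' g f) [Epi g] : Epi g' := by
  haveI : Sheaf.IsLocallySurjective g := (Sheaf.isLocallySurjective_iff_epi g).mpr inferInstance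
  exact (Sheaf.isLocallySurjective_iff_epi g').mp (isLocallySurjective_of_isPullback sq)

variable {X : Sp S}

theorem repWith_etale_chartObj {W : Over S} (φ : (yon S).obj W ⟶ X) (hφ : RepWith @Etale φ)
    (W₁ : W.left.Opens) :
    RepWith @Etale ((yon S).map (Over.homMk W₁.ι rfl : Over.mk (W₁.ι ≫ W.hom) ⟶ W) ≫ φ) :=
  repWith_comp @Etale ((repWith_yon_map_iff @Etale
    (Over.homMk W₁.ι rfl : Over.mk (W₁.ι ≫ W.hom) ⟶ W)).mpr (inferInstanceAs (Etale W₁.ι))) hφ

/-- The object of the small etale site of `X` given by an open of a chart. -/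
noncomputable def chartObj {W : Over S} (φ : (yon S).obj W ⟶ X) (hφ : RepWith @Etale φ)
    (W₁ : W.left.Opens) : EtOver X :=
  EtOver.mk _ (repWith_etale_chartObj φ hφ W₁)

/-- Sections over an open as global sections of the open subscheme. -/
noncomputable def rho {Y : Scheme.{u}} (U : Y.Opens) : Γ(Y, U) ⟶ Γ(U.toScheme, ⊤) :=
  U.ι.appLE U ⊤ (fun y _ => y.2)

theorem rho_bijective {Y : Scheme.{u}} (U : Y.Opens) : Function.Bijective (rho U).hom :=
  bijective_ι_appLE_top U _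

theorem map_comap_square {A B A' B' : Type u} [CommRing A] [CommRing B] [CommRing A']
    [CommRing B'] (ρ₁ : A →+* B) (ρ₂ : A' →+* B') (r : A →+* A') (g : B →+* B')
    (h : ρ₂.comp r = g.comp ρ₁) (h₁ : Function.Bijective ρ₁) (h₂ : Function.Bijective ρ₂)
    (K : Ideal B) : (K.comap ρ₁).map r = (K.map g).comap ρ₂ := by
  rw [← Ideal.comap_map_of_bijective ρ₂ h₂ (I := (K.comap ρ₁).map r), Ideal.map_map, h,
    ← Ideal.map_map, Ideal.map_comap_of_surjective ρ₁ h₁.2]

/-- Compatibility of `rho` with restriction of a morphism of schemes. -/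
theorem rho_square {Y Y' : Scheme.{u}} (α : Y' ⟶ Y) (U : Y.Opens) (U' : Y'.Opens)
    (e : U' ≤ α ⁻¹ᵁ U) :
    α.appLE U U' e ≫ rho U' = rho U ≫ (α.resLE U U' e).appTop := by
  have h1 : (α.resLE U U' e).appTop = (α.resLE U U' e).appLE ⊤ ⊤ le_top := by
    rw [Scheme.Hom.appTop, Scheme.Hom.app_eq_appLE]
    rfl
  rw [h1, Scheme.Hom.resLE_appLE]
  unfold rho
  rw [Scheme.Opens.ι_appLE, Scheme.Opens.ι_appLE, Scheme.Hom.appLE_map, Scheme.Hom.map_appLE]

/-- The family of ideals on affine opens of a chart defined by an ideal sheaf on the etale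
site. -/
noncomputable def fam (I : IdealEt X) {W : Over S} (φ : (yon S).obj W ⟶ X)
    (hφ : RepWith @Etale φ) (W₁ : W.left.affineOpens) : Ideal Γ(W.left, W₁.1) :=
  (I.ideal (chartObj φ hφ W₁.1) W₁.2).comap (rho W₁.1).hom

theorem fam_map_rho (I : IdealEt X) {W : Over S} (φ : (yon S).obj W ⟶ X)
    (hφ : RepWith @Etale φ) (W₁ : W.left.affineOpens) :
    (fam I φ hφ W₁).map (rho W₁.1).hom = I.ideal (chartObj φ hφ W₁.1) W₁.2 :=
  Ideal.map_comap_of_surjective _ (rho_bijective _).2 _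

theorem fam_map_appLE (I : IdealEt X) (hI : I.IsQCoh) {W W' : Over S}
    (φ : (yon S).obj W ⟶ X) (hφ : RepWith @Etale φ) (φ' : (yon S).obj W' ⟶ X)
    (hφ' : RepWith @Etale φ') (α : W' ⟶ W) (hα : (yon S).map α ≫ φ = φ')
    (W₁ : W.left.affineOpens) (W'₁ : W'.left.affineOpens) (e : W'₁.1 ≤ α.left ⁻¹ᵁ W₁.1) :
    (fam I φ hφ W₁).map (α.left.appLE W₁.1 W'₁.1 e).hom = fam I φ' hφ' W'₁ := by
  let g₀ : Over.mk (W'₁.1.ι ≫ W'.hom) ⟶ Over.mk (W₁.1.ι ≫ W.hom) :=
    Over.homMk (α.left.resLE W₁.1 W'₁.1 e) (by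
      show α.left.resLE W₁.1 W'₁.1 e ≫ W₁.1.ι ≫ W.hom = W'₁.1.ι ≫ W'.hom
      rw [← Category.assoc, Scheme.Hom.resLE_comp_ι, Category.assoc, Over.w α])
  have hg₀ : g₀ ≫ (Over.homMk W₁.1.ι rfl : Over.mk (W₁.1.ι ≫ W.hom) ⟶ W) =
      (Over.homMk W'₁.1.ι rfl : Over.mk (W'₁.1.ι ≫ W'.hom) ⟶ W') ≫ α := by
    apply Over.OverMorphism.ext
    exact Scheme.Hom.resLE_comp_ι _ _
  let g : chartObj φ' hφ' W'₁.1 ⟶ chartObj φ hφ W₁.1 := EtOver.homMk g₀ (by
    show (yon S).map g₀ ≫ (yon S).map (Over.homMk W₁.1.ι rfl) ≫ φ =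
      (yon S).map (Over.homMk W'₁.1.ι rfl) ≫ φ'
    rw [← hα, ← Category.assoc, ← Functor.map_comp, hg₀, Functor.map_comp, Category.assoc])
  have hq : I.ideal (chartObj φ' hφ' W'₁.1) W'₁.2 =
      (I.ideal (chartObj φ hφ W₁.1) W₁.2).map (α.left.resLE W₁.1 W'₁.1 e).appTop.hom :=
    le_antisymm (hI g W₁.2 W'₁.2) (I.map_le g W₁.2 W'₁.2)
  unfold fam
  rw [hq]
  apply map_comap_square
  · exact congrArg CommRingCat.Hom.hom (rho_square α.left W₁.1 W'₁.1 e)
  · exact rho_bijective _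
  · exact rho_bijective _

/-- The quasi-coherent ideal sheaf on a chart defined by a quasi-coherent ideal sheaf on the
etale site. -/
noncomputable def chartIdeal (I : IdealEt X) (hI : I.IsQCoh) {W : Over S}
    (φ : (yon S).obj W ⟶ X) (hφ : RepWith @Etale φ) : W.left.IdealSheafData where
  ideal := fam I φ hφ
  map_ideal_basicOpen := by
    intro W₁ f
    have e : (W.left.affineBasicOpen f).1 ≤ (𝟙 W : W ⟶ W).left ⁻¹ᵁ W₁.1 := W.left.basicOpen_le f
    have h := fam_map_appLE I hI φ hφ φ hφ (𝟙 W)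
      (by rw [CategoryTheory.Functor.map_id, Category.id_comp]) W₁ (W.left.affineBasicOpen f) e
    have h2 : ((𝟙 W : W ⟶ W).left).appLE W₁.1 (W.left.affineBasicOpen f).1 e =
        W.left.presheaf.map (homOfLE (W.left.basicOpen_le f)).op := by
      simp [Scheme.Hom.appLE]
    rw [h2] at h
    exact h

theorem chartIdeal_ideal (I : IdealEt X) (hI : I.IsQCoh) {W : Over S}
    (φ : (yon S).obj W ⟶ X) (hφ : RepWith @Etale φ) (W₁ : W.left.affineOpens) :
    (chartIdeal I hI φ hφ).ideal W₁ = fam I φ hφ W₁ := rfl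

theorem chartIdeal_comap (I : IdealEt X) (hI : I.IsQCoh) {W W' : Over S}
    (φ : (yon S).obj W ⟶ X) (hφ : RepWith @Etale φ) (φ' : (yon S).obj W' ⟶ X)
    (hφ' : RepWith @Etale φ') (α : W' ⟶ W) (hα : (yon S).map α ≫ φ = φ') :
    (chartIdeal I hI φ hφ).comap α.left = chartIdeal I hI φ' hφ' := by
  let ι := {p : W'.left.affineOpens × W.left.affineOpens // p.1.1 ≤ α.left ⁻¹ᵁ p.2.1}
  apply Scheme.IdealSheafData.ext_of_iSup_eq_top (fun i : ι => i.1.1)
  · rw [eq_top_iff]
    intro x _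
    obtain ⟨_, ⟨W₁, hW₁, rfl⟩, hx₁, -⟩ := W.left.isBasis_affineOpens.exists_subset_of_mem_open
      (Set.mem_univ (α.left x)) isOpen_univ
    have hx : x ∈ α.left ⁻¹ᵁ W₁ := hx₁
    obtain ⟨_, ⟨W'₁, hW'₁, rfl⟩, hx', hle⟩ :=
      W'.left.isBasis_affineOpens.exists_subset_of_mem_open hx (α.left ⁻¹ᵁ W₁).isOpen
    exact TopologicalSpace.Opens.mem_iSup.mpr ⟨⟨(⟨W'₁, hW'₁⟩, ⟨W₁, hW₁⟩), hle⟩, hx'⟩
  · rintro ⟨⟨W'₁, W₁⟩, e⟩
    show ((chartIdeal I hI φ hφ).comap α.left).ideal W'₁ = fam I φ' hφ' W'₁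
    rw [Groth.Agent.Helper4.IdealComap.ideal_comap_eq_map α.left _ W'₁ W₁ e]
    exact fam_map_appLE I hI φ hφ φ' hφ' α hα W₁ W'₁ e

theorem chartIdeal_congr (I : IdealEt X) (hI : I.IsQCoh) {W : Over S}
    (φ φ' : (yon S).obj W ⟶ X) (hφ : RepWith @Etale φ) (hφ' : RepWith @Etale φ') (h : φ = φ') :
    chartIdeal I hI φ hφ = chartIdeal I hI φ' hφ' := by
  subst h
  rfl

/-- The closed subscheme of the inverse image ideal is the fibre product, in `Over S`. -/
theorem exists_isPullback_comap {U V : Over S} (I : V.left.IdealSheafData) (α : U ⟶ V) :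
    ∃ k : Over.mk ((I.comap α.left).subschemeι ≫ U.hom) ⟶ Over.mk (I.subschemeι ≫ V.hom),
      IsPullback k (Over.homMk (I.comap α.left).subschemeι rfl :
        Over.mk ((I.comap α.left).subschemeι ≫ U.hom) ⟶ U)
        (Over.homMk I.subschemeι rfl : Over.mk (I.subschemeι ≫ V.hom) ⟶ V) α := by
  let J : U.left.IdealSheafData := I.comap α.left
  let k0 : J.subscheme ⟶ I.subscheme := (I.comapIso α.left).hom ≫ pullback.snd _ _
  have hk0 : k0 ≫ I.subschemeι = J.subschemeι ≫ α.left := by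
    simp only [k0, Category.assoc, ← pullback.condition]
    rw [← Category.assoc, Scheme.IdealSheafData.comapIso_hom_fst]
  let k : Over.mk (J.subschemeι ≫ U.hom) ⟶ Over.mk (I.subschemeι ≫ V.hom) := Over.homMk k0 (by
    show k0 ≫ I.subschemeι ≫ V.hom = J.subschemeι ≫ U.hom
    rw [← Category.assoc, hk0, Category.assoc, Over.w α])
  have sq0 : IsPullback k0 J.subschemeι I.subschemeι α.left := by
    have h0 := (IsPullback.of_hasPullback α.left I.subschemeι).flip
    exact h0.of_iso (I.comapIso α.left).symm (Iso.refl _) (Iso.refl _) (Iso.refl _)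
      (by simp only [Iso.refl_hom, Category.comp_id, Iso.symm_hom, k0, Iso.inv_hom_id_assoc])
      (by simp only [Iso.refl_hom, Category.comp_id, Iso.symm_hom]
          exact (I.comapIso_inv_subschemeι α.left).symm) (by simp) (by simp)
  exact ⟨k, IsPullback.of_map (Over.forget S) (by ext; exact hk0) sq0⟩

/-- Around any point of the source of a flat open morphism there are affine opens upstairs and
downstairs with faithfully flat map of sections. -/
theorem exists_faithfullyFlat_nbhd {W W' : Scheme.{u}} (p : W' ⟶ W) [Flat p] (hp : IsOpenMap p)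
    (w' : W') :
    ∃ (O : W.affineOpens) (W₃ : W'.affineOpens) (e : W₃.1 ≤ p ⁻¹ᵁ O.1),
      p w' ∈ O.1 ∧ (p.appLE O.1 W₃.1 e).hom.FaithfullyFlat := by
  obtain ⟨_, ⟨W₀, hW₀, rfl⟩, hwW₀, -⟩ :=
    W.isBasis_affineOpens.exists_subset_of_mem_open (Set.mem_univ (p w')) isOpen_univ
  have hx : w' ∈ p ⁻¹ᵁ W₀ := hwW₀
  obtain ⟨_, ⟨W₂, hW₂, rfl⟩, hw'W₂, hle⟩ :=
    W'.isBasis_affineOpens.exists_subset_of_mem_open hx (p ⁻¹ᵁ W₀).isOpen
  have e₂ : W₂ ≤ p ⁻¹ᵁ W₀ := hle
  have himg : IsOpen (p '' (W₂ : Set W')) := hp _ W₂.isOpen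
  let Oimg : W.Opens := ⟨p '' (W₂ : Set W'), himg⟩
  obtain ⟨t, htle, hwt⟩ := hW₀.exists_basicOpen_le (V := Oimg) ⟨p w', ⟨w', hw'W₂, rfl⟩⟩ hwW₀
  let O : W.Opens := W.basicOpen t
  have hO : IsAffineOpen O := hW₀.basicOpen t
  let t' := (p.appLE W₀ W₂ e₂).hom t
  let W₃ : W'.Opens := W'.basicOpen t'
  have hW₃eq : W₃ = W₂ ⊓ p ⁻¹ᵁ O := Scheme.basicOpen_appLE p W₂ W₀ e₂ t
  have hW₃ : IsAffineOpen W₃ := hW₂.basicOpen t'
  have e₃ : W₃ ≤ p ⁻¹ᵁ O := by rw [hW₃eq]; exact inf_le_right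
  refine ⟨⟨O, hO⟩, ⟨W₃, hW₃⟩, e₃, hwt, ?_⟩
  haveI : IsAffine (O : Scheme.{u}) := hO
  haveI : IsAffine (W₃ : Scheme.{u}) := hW₃
  have hsurj : Surjective (p.resLE O W₃ e₃) := ⟨fun o => by
    obtain ⟨z, hz, hzo⟩ := htle o.2
    have hz3 : z ∈ W₃ := by
      rw [hW₃eq]
      refine ⟨hz, ?_⟩
      show p z ∈ O
      rw [hzo]
      exact o.2
    exact ⟨⟨z, hz3⟩, Subtype.ext (by rw [Scheme.Hom.coe_resLE_apply]; exact hzo)⟩⟩
  have h1 := (Flat.flat_and_surjective_iff_faithfullyFlat_of_isAffine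
    (f := p.resLE O W₃ e₃)).mp ⟨inferInstance, hsurj⟩
  have h2 : p.appLE O W₃ e₃ = O.topIso.inv ≫ (p.resLE O W₃ e₃).appTop ≫ W₃.topIso.hom := by
    rw [Scheme.Hom.appTop, Scheme.Hom.resLE_app_top]
    simp
  show (p.appLE O W₃ e₃).hom.FaithfullyFlat
  rw [h2]
  simp only [CommRingCat.hom_comp]
  refine RingHom.FaithfullyFlat.stableUnderComposition _ _ ?_
    (RingHom.FaithfullyFlat.stableUnderComposition _ _ h1 ?_)
  · exact RingHom.FaithfullyFlat.of_bijective
      (O.topIso.symm.commRingCatIsoToRingEquiv.bijective)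
  · exact RingHom.FaithfullyFlat.of_bijective
      (W₃.topIso.commRingCatIsoToRingEquiv.bijective)

/-- Quasi-coherent ideal sheaves with the same inverse image under a flat open surjection are
equal. -/
theorem idealSheafData_ext_of_comap {W W' : Scheme.{u}} (p : W' ⟶ W) [Flat p]
    (hp : IsOpenMap p) (hs : Function.Surjective p) (K K' : W.IdealSheafData)
    (h : K.comap p = K'.comap p) : K = K' := by
  choose O W₃ e hO hff using exists_faithfullyFlat_nbhd p hp
  apply Scheme.IdealSheafData.ext_of_iSup_eq_top (fun w' : W' => O w')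
  · rw [eq_top_iff]
    intro x _
    obtain ⟨w', rfl⟩ := hs x
    exact TopologicalSpace.Opens.mem_iSup.mpr ⟨w', hO w'⟩
  · intro w'
    letI : Algebra Γ(W, (O w').1) Γ(W', (W₃ w').1) := (p.appLE (O w').1 (W₃ w').1 (e w')).hom.toAlgebra
    haveI : Module.FaithfullyFlat Γ(W, (O w').1) Γ(W', (W₃ w').1) := hff w'
    have h1 := Groth.Agent.Helper4.IdealComap.ideal_comap_eq_map p K (W₃ w') (O w') (e w')
    have h2 := Groth.Agent.Helper4.IdealComap.ideal_comap_eq_map p K' (W₃ w') (O w') (e w')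
    rw [h] at h1
    have h3 : (K.ideal (O w')).map (algebraMap Γ(W, (O w').1) Γ(W', (W₃ w').1)) =
        (K'.ideal (O w')).map (algebraMap Γ(W, (O w').1) Γ(W', (W₃ w').1)) := h1.symm.trans h2
    rw [← Ideal.comap_map_eq_self_of_faithfullyFlat (B := Γ(W', (W₃ w').1)) (K.ideal (O w')), h3,
      Ideal.comap_map_eq_self_of_faithfullyFlat]

/-- The value of the chart family at the whole chart. -/
theorem fam_top (I : IdealEt X) (hI : I.IsQCoh) (E : EtOver X) (hE : IsAffine E.obj.left.left) :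
    fam I E.obj.hom E.property ⟨⊤, isAffineOpen_top _⟩ = I.ideal E hE := by
  let g : chartObj E.obj.hom E.property (⊤ : E.obj.left.left.Opens) ⟶ E :=
    EtOver.homMk (Over.homMk (⊤ : E.obj.left.left.Opens).ι rfl) rfl
  have hA : IsAffine (chartObj E.obj.hom E.property (⊤ : E.obj.left.left.Opens)).obj.left.left :=
    isAffineOpen_top E.obj.left.left
  have hq : I.ideal (chartObj E.obj.hom E.property (⊤ : E.obj.left.left.Opens)) hA =
      (I.ideal E hE).map g.hom.left.left.appTop.hom :=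
    le_antisymm (hI g hE hA) (I.map_le g hE hA)
  have h1 : g.hom.left.left.appTop = rho (⊤ : E.obj.left.left.Opens) := by
    show (⊤ : E.obj.left.left.Opens).ι.appTop = _
    unfold rho
    rw [Scheme.Hom.appTop, Scheme.Hom.app_eq_appLE]
    rfl
  unfold fam
  show Ideal.comap _ (I.ideal _ hA) = _
  rw [hq, h1]
  exact Ideal.comap_map_of_bijective _ (rho_bijective _)

/-- Transport of the second projection through an equality of ideal sheaves. -/
theorem exists_snd_of_eq {U V : Over S} (J : V.left.IdealSheafData) (α : U ⟶ V)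
    (K : U.left.IdealSheafData) (h : K = J.comap α.left) :
    ∃ s' : K.subscheme ⟶ J.subscheme, K.subschemeι ≫ α.left = s' ≫ J.subschemeι := by
  subst h
  obtain ⟨k, sq⟩ := exists_isPullback_comap J α
  exact ⟨k.left, (congrArg (fun m => m.left) sq.w).symm⟩

/-- If a closed subspace is cut out on an atlas by the chart ideal of `I`, its ideal sheaf is
`I`. -/
theorem idealOfRep_eq_of_chartIdeal {Z : Sp S} (I : IdealEt X) (hI : I.IsQCoh) (i : Z ⟶ X)
    (hi : RepWith @IsClosedImmersion i) {W : Over S} (φ : (yon S).obj W ⟶ X)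
    (hφe : RepWith @Etale φ) (hφs : RepWith @Surjective φ)
    (e : (yon S).obj (Over.mk ((chartIdeal I hI φ hφe).subschemeι ≫ W.hom)) ⟶ Z)
    (sq : IsPullback e ((yon S).map (Over.homMk (chartIdeal I hI φ hφe).subschemeι rfl :
      Over.mk ((chartIdeal I hI φ hφe).subschemeι ≫ W.hom) ⟶ W)) i φ) :
    idealOfRep hi.1 = I := by
  apply IdealEt.ext
  funext E hE
  have hrep := hφe.rep
  obtain ⟨q, hq⟩ := (yon S).map_surjective (hrep.fst E.obj.hom)
  let p := hrep.snd E.obj.hom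
  have sqE : IsPullback ((yon S).map q) ((yon S).map p) φ E.obj.hom := by
    rw [hq]
    exact hrep.isPullback E.obj.hom
  haveI hpe : Etale p.left := hφe.property_snd E.obj.hom
  haveI hps : Surjective p.left := hφs.property_snd E.obj.hom
  obtain ⟨K, fK, sqK⟩ := exists_ideal_sq i hi E.obj.hom
  obtain ⟨f₁, sq₁⟩ := exists_sq_comap i E.obj.hom K fK sqK p
  obtain ⟨f₂, sq₂⟩ := exists_sq_comap i φ (chartIdeal I hI φ hφe) e sq q
  rw [sqE.w] at sq₂
  have hJ : K.comap p.left = (chartIdeal I hI φ hφe).comap q.left :=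
    ideal_unique i _ _ _ f₁ f₂ sq₁ sq₂
  have hp' : RepWith @Etale ((yon S).map p ≫ E.obj.hom) :=
    repWith_comp @Etale (repWith_of_isPullback @Etale sqE hφe) E.property
  have hq' : RepWith @Etale ((yon S).map q ≫ φ) :=
    repWith_comp @Etale (repWith_of_isPullback @Etale sqE.flip E.property) hφe
  have h1 := chartIdeal_comap I hI φ hφe ((yon S).map q ≫ φ) hq' q rfl
  have h2 := chartIdeal_comap I hI E.obj.hom E.property ((yon S).map p ≫ E.obj.hom) hp' p rfl
  have h3 := chartIdeal_congr I hI _ _ hq' hp' sqE.w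
  have hK : K = chartIdeal I hI E.obj.hom E.property := by
    apply idealSheafData_ext_of_comap p.left p.left.isOpenMap p.left.surjective
    rw [hJ, h1, h3, h2]
  rw [idealOfRep_ideal_eq i hi E hE K fK sqK, hK, chartIdeal_ideal]
  exact fam_top I hI E hE

/-- S9988. -/
theorem main88 (hX : IsAlgSpace X) (I : IdealEt X) (hI : I.IsQCoh) :
    ∃ (Z : Sp S) (_ : IsAlgSpace Z) (i : Z ⟶ X), IsCutOutBy I i := by
  obtain ⟨W, φ, hφe, hφs⟩ := hX.atlas
  have hrep := hφe.rep
  obtain ⟨pr₁, hpr₁⟩ := (yon S).map_surjective (hrep.fst φ)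
  let pr₂ := hrep.snd φ
  have sqR : IsPullback ((yon S).map pr₁) ((yon S).map pr₂) φ φ := by
    rw [hpr₁]
    exact hrep.isPullback φ
  have h₁ : RepWith @Etale ((yon S).map pr₁ ≫ φ) :=
    repWith_comp @Etale (repWith_of_isPullback @Etale sqR.flip hφe) hφe
  have h₂ : RepWith @Etale ((yon S).map pr₂ ≫ φ) :=
    repWith_comp @Etale (repWith_of_isPullback @Etale sqR hφe) hφe
  have e₁ := chartIdeal_comap I hI φ hφe ((yon S).map pr₁ ≫ φ) h₁ pr₁ rfl
  have e₂ := chartIdeal_comap I hI φ hφe ((yon S).map pr₂ ≫ φ) h₂ pr₂ rfl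
  have e₃ := chartIdeal_congr I hI _ _ h₁ h₂ sqR.w
  have hK : (chartIdeal I hI φ hφe).comap pr₁.left = (chartIdeal I hI φ hφe).comap pr₂.left := by
    rw [e₁, e₃, e₂]
  obtain ⟨k₁, sq₁⟩ := exists_isPullback_comap (chartIdeal I hI φ hφe) pr₁
  obtain ⟨s', hs'⟩ := exists_snd_of_eq (chartIdeal I hI φ hφe) pr₂ _ hK
  have ht : IsPullback ((chartIdeal I hI φ hφe).comap pr₁.left).subschemeι k₁.left pr₁.left
      (chartIdeal I hI φ hφe).subschemeι := (sq₁.map (Over.forget S)).flip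
  have sq := Groth.Agent.Helper2.InvImm.isPullback_image pr₂ pr₁ φ sqR
    (chartIdeal I hI φ hφe).subschemeι ((chartIdeal I hI φ hφe).comap pr₁.left).subschemeι
    s' k₁.left hs' ht
  have hi : RepWith @IsClosedImmersion (Sheaf.imageι ((yon S).map
      (Groth.Agent.Helper2.InvImm.zι (chartIdeal I hI φ hφe).subschemeι) ≫ φ)) :=
    Groth.Agent.Helper2.ImmDescent.repWith_isClosedImmersion_of_etale_cover _ W φ hφe hφs _ _ sq
      ((repWith_yon_map_iff @IsClosedImmersion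
        (Groth.Agent.Helper2.InvImm.zι (chartIdeal I hI φ hφe).subschemeι)).mpr
        (inferInstanceAs (IsClosedImmersion (chartIdeal I hI φ hφe).subschemeι)))
  have hZ : IsAlgSpace (Sheaf.image ((yon S).map
      (Groth.Agent.Helper2.InvImm.zι (chartIdeal I hI φ hφe).subschemeι) ≫ φ)) :=
    Groth.Agent.Helper2.Coprod.isAlgSpace_of_representable_mono _ hi.rep hX
  exact ⟨_, hZ, _, hi, idealOfRep_eq_of_chartIdeal I hI _ hi φ hφe hφs _ sq⟩

end Groth.Agent.Helper2.ChartIdeal
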