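import Groth.Prelude.Def_AlgSpSub
import Groth.Agent.Lib.Helper2.AlgSp.ChartIdeal
import Groth.Agent.Lib.Helper2.AlgSp.Reduced
import Groth.Agent.Lib.Helper1.SchSect

set_option autoImplicit false
set_option backward.isDefEq.respectTransparency false
set_option linter.style.haveILetI false
universe u
open CategoryTheory CategoryTheory.Limits AlgebraicGeometry Opposite AlgSp TopologicalSpace

namespace Groth.Agent.Helper2.RedInduced
open Groth.Agent.Helper2.AlgSpBasic Groth.Agent.Helper2.CartierPull
  Groth.Agent.Helper2.CartierDescent Groth.Agent.Helper2.CartierSum Groth.Agent.Helper2.CutOut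
  Groth.Agent.Helper2.ChartIdeal

variable {S : Scheme.{u}}

/-- The inverse image of the vanishing ideal of a closed set under a smooth morphism is the
vanishing ideal of the preimage. -/
theorem comap_vanishingIdeal_of_smooth {R W : Scheme.{u}} (p : R ⟶ W) [Smooth p]
    (Z : Closeds W) :
    (Scheme.IdealSheafData.vanishingIdeal Z).comap p =
      Scheme.IdealSheafData.vanishingIdeal (Z.preimage p.continuous) := by
  haveI : IsReduced (Scheme.IdealSheafData.vanishingIdeal Z).subscheme :=
    Groth.Agent.Helper1.SchSect.isReduced_subscheme_vanishingIdeal Z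
  haveI : IsReduced (pullback p (Scheme.IdealSheafData.vanishingIdeal Z).subschemeι) :=
    Groth.Agent.Helper2.SchLib.isReduced_of_smooth
      (pullback.snd p (Scheme.IdealSheafData.vanishingIdeal Z).subschemeι)
  haveI : IsReduced ((Scheme.IdealSheafData.vanishingIdeal Z).comap p).subscheme :=
    isReduced_of_isOpenImmersion ((Scheme.IdealSheafData.vanishingIdeal Z).comapIso p).hom
  have h1 : ((Scheme.IdealSheafData.vanishingIdeal Z).comap p).radical =
      (Scheme.IdealSheafData.vanishingIdeal Z).comap p := by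
    ext U : 2
    rw [Scheme.IdealSheafData.radical_ideal]
    exact (Groth.Agent.Helper1.SchImgRed.isRadical_ideal_of_isReduced_subscheme _ U).radical
  rw [← h1, ← Scheme.IdealSheafData.vanishingIdeal_support,
    Scheme.IdealSheafData.support_comap]
  congr 2


/-- S10192. -/
theorem main192 {X : Sp S} (hX : IsAlgSpace X) (T : Set (Points X)) (hT : IsClosed T) :
    ∃ (Z : Sp S) (_ : IsAlgSpace Z) (i : Z ⟶ X), IsRedInduced T i := by
  obtain ⟨W, φ, hφe, hφs⟩ := hX.atlas
  have hrep := hφe.rep
  obtain ⟨pr₁, hpr₁⟩ := (yon S).map_surjective (hrep.fst φ)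
  let pr₂ := hrep.snd φ
  have sqR : IsPullback ((yon S).map pr₁) ((yon S).map pr₂) φ φ := by
    rw [hpr₁]
    exact hrep.isPullback φ
  haveI he₂ : Etale pr₂.left := hφe.property_snd φ
  haveI he₁ : Etale pr₁.left :=
    (repWith_yon_map_iff @Etale pr₁).mp (repWith_of_isPullback @Etale sqR.flip hφe)
  let TW : Closeds W.left := ⟨Points.ofPt φ ⁻¹' T, hT.preimage (Points.continuous_ofPt φ)⟩
  let J : W.left.IdealSheafData := Scheme.IdealSheafData.vanishingIdeal TW
  have hTW : TW.preimage pr₁.left.continuous = TW.preimage pr₂.left.continuous := by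
    apply Closeds.ext
    ext r
    show Points.ofPt φ (pr₁.left r) ∈ T ↔ Points.ofPt φ (pr₂.left r) ∈ T
    rw [← ofPt_yon_map_comp, ← ofPt_yon_map_comp, sqR.w]
  have hK : J.comap pr₁.left = J.comap pr₂.left := by
    rw [comap_vanishingIdeal_of_smooth pr₁.left TW, comap_vanishingIdeal_of_smooth pr₂.left TW,
      hTW]
  obtain ⟨k₁, sq₁⟩ := exists_isPullback_comap J pr₁
  obtain ⟨s', hs'⟩ := exists_snd_of_eq J pr₂ _ hK
  have ht : IsPullback (J.comap pr₁.left).subschemeι k₁.left pr₁.left J.subschemeι :=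
    (sq₁.map (Over.forget S)).flip
  have sq := Groth.Agent.Helper2.InvImm.isPullback_image pr₂ pr₁ φ sqR
    J.subschemeι (J.comap pr₁.left).subschemeι s' k₁.left hs' ht
  have hi : RepWith @IsClosedImmersion (Sheaf.imageι ((yon S).map
      (Groth.Agent.Helper2.InvImm.zι J.subschemeι) ≫ φ)) :=
    Groth.Agent.Helper2.ImmDescent.repWith_isClosedImmersion_of_etale_cover _ W φ hφe hφs _ _ sq
      ((repWith_yon_map_iff @IsClosedImmersion
        (Groth.Agent.Helper2.InvImm.zι J.subschemeι)).mpr
        (inferInstanceAs (IsClosedImmersion J.subschemeι)))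
  have hZ : IsAlgSpace (Sheaf.image ((yon S).map
      (Groth.Agent.Helper2.InvImm.zι J.subschemeι) ≫ φ)) :=
    Groth.Agent.Helper2.Coprod.isAlgSpace_of_representable_mono _ hi.rep hX
  have hee : RepWith @Etale (Sheaf.toImage ((yon S).map
      (Groth.Agent.Helper2.InvImm.zι J.subschemeι) ≫ φ)) :=
    repWith_of_isPullback @Etale sq.flip hφe
  have hes : RepWith @Surjective (Sheaf.toImage ((yon S).map
      (Groth.Agent.Helper2.InvImm.zι J.subschemeι) ≫ φ)) :=
    repWith_of_isPullback @Surjective sq.flip hφs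
  have hrange : Set.range J.subschemeι = Points.ofPt φ ⁻¹' T := by
    rw [Scheme.IdealSheafData.range_subschemeι]
    exact Scheme.IdealSheafData.coe_support_vanishingIdeal TW
  have hcomp : ∀ w' : J.subscheme,
      Points.map (Sheaf.imageι ((yon S).map (Groth.Agent.Helper2.InvImm.zι J.subschemeι) ≫ φ))
        (Points.ofPt (Sheaf.toImage ((yon S).map
          (Groth.Agent.Helper2.InvImm.zι J.subschemeι) ≫ φ)) w') =
        Points.ofPt φ (J.subschemeι w') := by
    intro w'
    rw [Points.map_ofPt, Sheaf.toImage_ι, ofPt_yon_map_comp]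
    rfl
  refine ⟨_, hZ, _, hi, ?_, ⟨_, _, hee, hes,
    Groth.Agent.Helper1.SchSect.isReduced_subscheme_vanishingIdeal TW⟩⟩
  apply Set.eq_of_subset_of_subset
  · rintro _ ⟨z, rfl⟩
    obtain ⟨w', rfl⟩ := surjective_ofPt _ hes z
    rw [hcomp w']
    have : J.subschemeι w' ∈ Points.ofPt φ ⁻¹' T := by
      rw [← hrange]
      exact ⟨w', rfl⟩
    exact this
  · intro t ht'
    obtain ⟨w, rfl⟩ := surjective_ofPt φ hφs t
    have hw : w ∈ Set.range J.subschemeι := by
      rw [hrange]
      exact ht'
    obtain ⟨w', rfl⟩ := hw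
    exact ⟨_, hcomp w'⟩

end Groth.Agent.Helper2.RedInduced
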