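import Mathlib
import Groth.Agent.Lib.Helper2.AlgSp.DecentOpen2
import Groth.Agent.Lib.Helper2.AlgSp.GpdInv
import Groth.Agent.S10192

/-!
# Closed subspaces of decent spaces; sobriety of decent spaces (helper2)
-/

set_option autoImplicit false
set_option linter.style.haveILetI false

open CategoryTheory CategoryTheory.Limits AlgebraicGeometry Opposite AlgSp

universe u

namespace Groth.Agent.Helper2.DecentOpen

open Groth.Agent.Helper2.AlgSpBasic Groth.Agent.Helper2.LargestSch

variable {S : Scheme.{u}}

/-- A closed immersion of algebraic spaces induces a closed embedding on points. -/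
theorem isClosedEmbedding_points_of_closedImmersion {Z X : Sp S} (hX : IsAlgSpace X) (i : Z ⟶ X)
    (hi : RepWith @IsClosedImmersion i) : Topology.IsClosedEmbedding (Points.map i) := by
  have him : RepWith @IsImmersion i :=
    repWith_mono (fun _ _ g (hg : IsClosedImmersion g) => (inferInstance : IsImmersion g)) hi
  haveI : Mono i := mono_of_repWith_isImmersion i him
  have h1 : RepWith @UniversallyClosed i :=
    repWith_mono (fun _ _ g (hg : IsClosedImmersion g) => (inferInstance : UniversallyClosed g)) hi
  have h2 : IsUnivClosedMor i := (repWith_universallyClosed_iff i hi.rep).mp h1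
  exact Topology.IsClosedEmbedding.of_continuous_injective_isClosedMap (Points.continuous_map i)
    (injective_points_map_of_mono i) (isClosedMap_of_isUnivClosedMor hX i h2)

/-- A closed subspace of a decent space is decent. -/
theorem isDecent_of_closedImmersion {Z X : Sp S} (hXd : IsDecent X) (i : Z ⟶ X)
    (hi : RepWith @IsClosedImmersion i) : IsDecent Z := by
  have him : RepWith @IsImmersion i :=
    repWith_mono (fun _ _ g (hg : IsClosedImmersion g) => (inferInstance : IsImmersion g)) hi
  haveI : Mono i := mono_of_repWith_isImmersion i him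
  intro z
  obtain ⟨p, hp, hm, hq⟩ := hXd (Points.map i z)
  have hrep := hi.rep
  have sq := hrep.isPullback p.toHom
  obtain ⟨c, hc⟩ : ∃ c, c = hrep.snd p.toHom := ⟨_, rfl⟩
  rw [← hc] at sq
  obtain ⟨c', hc'⟩ : ∃ c' : (hrep.pullback p.toHom).left ⟶ Spec (CommRingCat.of p.K),
    c' = c.left := ⟨_, rfl⟩
  haveI : IsClosedImmersion c' := by rw [hc']; exact hi.property p.toHom _ _ sq
  obtain ⟨w, -, -⟩ := exists_point_of_isPullback_right i p.toHom _ c sq z
    (IsLocalRing.closedPoint p.K) (by rw [Points.ofPt_toHom]; exact hp.symm)
  haveI : Surjective c' := by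
    refine ⟨fun y => ⟨w, ?_⟩⟩
    exact Subsingleton.elim (α := PrimeSpectrum p.K) _ _
  haveI : IsIso c' := isIso_of_isClosedImmersion_of_surjective c'
  haveI : IsIso c.left := by rw [← hc']; infer_instance
  haveI : IsIso ((Over.forget S).map c) := inferInstanceAs (IsIso c.left)
  haveI : IsIso c := isIso_of_reflects_iso c (Over.forget S)
  obtain ⟨p', hp'⟩ : ∃ p' : (yon S).obj p.pt ⟶ Z,
      p' = (yon S).map (inv c) ≫ hrep.fst p.toHom := ⟨_, rfl⟩
  have hp'i : p' ≫ i = p.toHom := by
    rw [hp', Category.assoc, sq.w, ← Category.assoc, ← Functor.map_comp, IsIso.inv_hom_id,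
      CategoryTheory.Functor.map_id, Category.id_comp]
  refine ⟨fieldPtOfHom p.str p', ?_, ?_, ?_⟩
  · apply injective_points_map_of_mono i
    rw [Groth.Agent.Helper2.FieldQuot.mk_fieldPtOfHom p.str p' (IsLocalRing.closedPoint p.K),
      Points.map_ofPt, hp'i, Points.ofPt_toHom]
    exact hp
  · rw [Groth.Agent.Helper2.FieldQuot.toHom_fieldPtOfHom]
    haveI : Mono (p' ≫ i) := by rw [hp'i]; exact hm
    exact mono_of_mono p' i
  · rw [Groth.Agent.Helper2.FieldQuot.toHom_fieldPtOfHom]
    exact repWith_lift_of_mono @QuasiCompact i p.toHom p' hp'i hq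

/-- An isomorphism of sheaves induces a homeomorphism on points. -/
noncomputable def pointsHomeoOfIso {A B : Sp S} (e : A ≅ B) : Points A ≃ₜ Points B where
  toFun := Points.map e.hom
  invFun := Points.map e.inv
  left_inv x := by rw [← Points.map_comp, e.hom_inv_id, Points.map_id]
  right_inv x := by rw [← Points.map_comp, e.inv_hom_id, Points.map_id]
  continuous_toFun := Points.continuous_map _
  continuous_invFun := Points.continuous_map _

/-- **The space of points of a decent algebraic space is quasi-sober.** -/
theorem quasiSober_of_decent (X : Space S) (hX : IsDecent X.obj) :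
    QuasiSober (Points X.obj) := by
  constructor
  intro T hTirr hTcl
  obtain ⟨Z, i, hi, hrange, -⟩ := Groth.Agent.S10192.result X T hTcl
  have hZd : IsDecent Z.obj := isDecent_of_closedImmersion hX i.hom hi
  have hemb := isClosedEmbedding_points_of_closedImmersion X.property i.hom hi
  -- `|Z|` is irreducible
  have hirr' : IsIrreducible (Set.range (Points.map i.hom)) := hrange ▸ hTirr
  haveI : IrreducibleSpace (Set.range (Points.map i.hom)) := Subtype.irreducibleSpace hirr'
  haveI : IrreducibleSpace (Points Z.obj) :=
    (hemb.isEmbedding.toHomeomorph).irreducibleSpace_iff.2 inferInstance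
  -- the schematic locus
  have hLo := isOpen_schLocus Z.obj
  obtain ⟨z₀, -, hz₀⟩ := inter_schLocus_nonempty_of_decent Z hZd Set.univ isOpen_univ
    ⟨Classical.arbitrary _, trivial⟩
  obtain ⟨W, ⟨e⟩⟩ := exists_iso_yon_schLocus Z.property
  obtain ⟨g, hg⟩ : ∃ g : W.left → Points Z.obj, g = Points.map (openSubι Z.obj (schLocus Z.obj)) ∘
      (pointsHomeoOfIso e) ∘ (Points.schemeHomeo W) := ⟨_, rfl⟩
  have hgemb : Topology.IsOpenEmbedding g := by
    rw [hg]
    exact (Groth.Agent.Helper2.GpdInv.isOpenEmbedding_points_openSubι Z.property hLo).comp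
      ((pointsHomeoOfIso e).isOpenEmbedding.comp (Points.schemeHomeo W).isOpenEmbedding)
  have hgrange : Set.range g = schLocus Z.obj := by
    rw [hg, Set.range_comp, Set.range_comp, (Points.schemeHomeo W).surjective.range_eq,
      Set.image_univ, (pointsHomeoOfIso e).surjective.range_eq, Set.image_univ,
      range_points_map_openSubι]
  haveI : Nonempty W.left := by
    have : z₀ ∈ Set.range g := by rw [hgrange]; exact hz₀
    obtain ⟨w, -⟩ := this
    exact ⟨w⟩
  haveI : IrreducibleSpace W.left := hgemb.irreducibleSpace
  have hη : IsGenericPoint (genericPoint W.left) (⊤ : Set W.left) := genericPoint_spec W.left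
  rw [isGenericPoint_def] at hη
  refine ⟨Points.map i.hom (g (genericPoint W.left)), ?_⟩
  rw [isGenericPoint_def]
  apply Set.Subset.antisymm
  · apply closure_minimal _ hTcl
    rw [Set.singleton_subset_iff, ← hrange]
    exact ⟨_, rfl⟩
  · have hdense : Dense (schLocus Z.obj) := hLo.dense ⟨z₀, hz₀⟩
    have h1 : schLocus Z.obj ⊆ closure {g (genericPoint W.left)} := by
      rw [← hgrange, ← Set.image_univ, ← Set.top_eq_univ, ← hη]
      have := image_closure_subset_closure_image (s := {genericPoint W.left}) hgemb.continuous
      rwa [Set.image_singleton] at this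
    have h2 : (Set.univ : Set (Points Z.obj)) ⊆ closure {g (genericPoint W.left)} := by
      rw [← hdense.closure_eq]
      exact closure_minimal h1 isClosed_closure
    rw [← hrange, ← Set.image_univ]
    refine (Set.image_mono h2).trans ?_
    have := image_closure_subset_closure_image (s := {g (genericPoint W.left)})
      (Points.continuous_map i.hom)
    rwa [Set.image_singleton] at this

end Groth.Agent.Helper2.DecentOpen
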