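import Mathlib
import Groth.Agent.Lib.Helper2.AlgSp.FibreSpecB
import Groth.Agent.Lib.Helper2.AlgSp.DecentClosed
import Groth.Agent.Lib.Helper2.AlgSp.CodimZeroSch
import Groth.Agent.Lib.Helper2.AlgSp.QfCodimZero
import Groth.Agent.Lib.Helper2.Sch.DimFormula
import Groth.Agent.Lib.Helper2.Sch.FieldBCDim

/-!
# Generic points of irreducible components of decent spaces (helper2)
-/

set_option autoImplicit false
set_option linter.style.haveILetI false

open CategoryTheory CategoryTheory.Limits AlgebraicGeometry Opposite AlgSp

universe u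

namespace Groth.Agent.Helper2.GenericDecent

open Groth.Agent.Helper2.AlgSpBasic

variable {S : Scheme.{u}}

/-- A point of a scheme without proper generization has a zero-dimensional local ring. -/
theorem dimZ_of_forall_specializes {U : Scheme.{u}} (u : ↥U) (h : ∀ u' : ↥U, u' ⤳ u → u' = u) :
    ringKrullDim ↥(U.presheaf.stalk u) = 0 := by
  rw [Groth.Agent.Helper2.DimFormula.ringKrullDim_stalk_eq_coheight]
  have h0 : Order.coheight u = 0 := by
    rw [Order.coheight_eq_zero]
    intro u' hu'
    have := h u' ((AlgebraicGeometry.Scheme.le_iff_specializes).mp hu')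
    exact this.le
  rw [h0]
  rfl

theorem dimZ_iff_forall_specializes {U : Scheme.{u}} (u : ↥U) :
    ringKrullDim ↥(U.presheaf.stalk u) = 0 ↔ ∀ u' : ↥U, u' ⤳ u → u' = u :=
  ⟨fun h u' hu' => Groth.Agent.Helper2.CodimZeroSch.eq_of_specializes_of_dimZ u u' h hu',
    dimZ_of_forall_specializes u⟩

/-- Chart points over the generic point of an irreducible component of a decent space are
maximal. -/
theorem forall_specializes_eq_of_generic (X : Space S) (hX : IsDecent X.obj)
    (x : Points X.obj) (T : Set (Points X.obj)) (hT : T ∈ irreducibleComponents (Points X.obj))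
    (hx : IsGenericPoint x T) {U : Over S} (a : (yon S).obj U ⟶ X.obj) (ha : RepWith @Etale a)
    (u : ↥U.left) (hu : Points.ofPt a u = x) : ∀ u' : ↥U.left, u' ⤳ u → u' = u := by
  intro u' hs
  haveI := Groth.Agent.Helper2.FibreSpecB.t0Space_of_isDecent X.property hX
  have h1 : Points.ofPt a u' ⤳ x := hu ▸ hs.map (Points.continuous_ofPt a)
  have h2 : T ⊆ closure {Points.ofPt a u'} := by
    rw [← hx.def]
    exact closure_minimal (Set.singleton_subset_iff.mpr h1.mem_closure) isClosed_closure
  have h3 : closure {Points.ofPt a u'} ⊆ T := hT.2 isIrreducible_singleton.closure h2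
  have h4 : x ⤳ Points.ofPt a u' := by
    rw [specializes_iff_mem_closure, hx.def]
    exact h3 (subset_closure rfl)
  have h5 : Points.ofPt a u = Points.ofPt a u' := by
    rw [hu]; exact (h4.antisymm h1).eq
  exact (Groth.Agent.Helper2.FibreSpecB.eq_of_specializes_of_isDecent X.property hX a ha u u'
    h5 hs).symm

/-- The image of a maximal chart point of a decent space is the generic point of an irreducible
component. -/
theorem closure_mem_irreducibleComponents_of_max (X : Space S) (hX : IsDecent X.obj)
    {U : Over S} (a : (yon S).obj U ⟶ X.obj) (ha : RepWith @Etale a)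
    (u : ↥U.left) (hmax : ∀ u' : ↥U.left, u' ⤳ u → u' = u) :
    closure {Points.ofPt a u} ∈ irreducibleComponents (Points X.obj) := by
  haveI := Groth.Agent.Helper2.DecentOpen.quasiSober_of_decent X hX
  apply Groth.Agent.Helper2.FieldBCDim.closure_mem_irreducibleComponents_of_max
  intro b hb
  obtain ⟨u', hu'1, hu'2⟩ := Groth.Agent.Helper2.FibreSpecB.exists_specializes_of_isDecent
    X.property hX _ b hb a ha u rfl
  rw [← hu'2, hmax u' hu'1]

/-- Chart characterisation of generic points of irreducible components. -/
theorem generic_iff_max (X : Space S) (hX : IsDecent X.obj)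
    {U : Over S} (a : (yon S).obj U ⟶ X.obj) (ha : RepWith @Etale a) (u : ↥U.left) :
    (∃ T ∈ irreducibleComponents (Points X.obj), IsGenericPoint (Points.ofPt a u) T) ↔
      ∀ u' : ↥U.left, u' ⤳ u → u' = u := by
  constructor
  · rintro ⟨T, hT, hx⟩
    exact forall_specializes_eq_of_generic X hX _ T hT hx a ha u rfl
  · intro hmax
    exact ⟨_, closure_mem_irreducibleComponents_of_max X hX a ha u hmax, rfl⟩

theorem generic_iff_dimZ_chart (X : Space S) (hX : IsDecent X.obj)
    {U : Over S} (a : (yon S).obj U ⟶ X.obj) (ha : RepWith @Etale a) (u : ↥U.left) :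
    (∃ T ∈ irreducibleComponents (Points X.obj), IsGenericPoint (Points.ofPt a u) T) ↔
      ringKrullDim ↥(U.left.presheaf.stalk u) = 0 := by
  rw [generic_iff_max X hX a ha u, dimZ_iff_forall_specializes]

/-- `S10394`. -/
theorem generic_iff_dimZ (X : Space S) (hX : IsDecent X.obj) (x : Points X.obj) :
    (∃ T ∈ irreducibleComponents (Points X.obj), IsGenericPoint x T) ↔
      HasAt (fun U u => ringKrullDim ↥(U.presheaf.stalk u) = 0) X.obj x := by
  obtain ⟨U, a, hae, has⟩ := X.property.atlas
  obtain ⟨u, rfl⟩ := surjective_ofPt a has x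
  rw [generic_iff_dimZ_chart X hX a hae u]
  exact (Groth.Agent.Helper2.QfCodimZero.hasAt_dimZ_iff X.property a hae u).symm

end Groth.Agent.Helper2.GenericDecent
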