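import Mathlib
import Groth.Agent.Lib.Helper2.AlgSp.GenericDecent
import Groth.Agent.Lib.Helper2.AlgSp.EtaleOverFieldB
import Groth.Agent.Lib.Helper2.AlgSp.LocP

/-!
# Spaces étale over decent spaces are decent (helper2)
-/

set_option autoImplicit false
set_option linter.style.haveILetI false

open CategoryTheory CategoryTheory.Limits AlgebraicGeometry Opposite AlgSp

universe u

namespace Groth.Agent.Helper2.DecentEtale

open Groth.Agent.Helper2.AlgSpBasic

variable {S : Scheme.{u}}

set_option backward.isDefEq.respectTransparency false in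
/-- Schemes are decent. -/
theorem isDecent_yon (T : Over S) : IsDecent ((yon S).obj T) := by
  intro x
  have hx : Points.ofScheme T (Points.toScheme T x) = x := Points.ofScheme_toScheme T x
  set ξ := Points.toScheme T x with hξ
  refine ⟨FieldPt.ofPt (𝟙 _) ξ, hx, ?_, ?_⟩
  · rw [FieldPt.toHom_ofPt, Category.comp_id]
    haveI : Mono (Over.homMk (T.left.fromSpecResidueField ξ) rfl :
        Over.mk (T.left.fromSpecResidueField ξ ≫ T.hom) ⟶ T) := by
      apply (Over.forget S).mono_of_mono_map
      change Mono (T.left.fromSpecResidueField ξ)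
      infer_instance
    exact Functor.map_mono (yon S) _
  · rw [FieldPt.toHom_ofPt, Category.comp_id]
    refine (repWith_yon_map_iff @QuasiCompact _).2 ?_
    change QuasiCompact (T.left.fromSpecResidueField ξ)
    exact FieldQuot.quasiCompact_of_field (L := ↑(T.left.residueField ξ)) _

/-- An algebraic space étale over a decent algebraic space is decent. -/
theorem isDecent_of_isEtaleMor {X Y : Sp S} (hX : IsAlgSpace X) (hY : IsAlgSpace Y) (f : Y ⟶ X)
    (hf : IsEtaleMor f) (hd : IsDecent X) : IsDecent Y := by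
  intro y
  obtain ⟨q, hq, hqm, hqq⟩ := hd (Points.map f y)
  haveI := hqm
  have sq : IsPullback (pullback.fst f q.toHom) (pullback.snd f q.toHom) f q.toHom :=
    IsPullback.of_hasPullback _ _
  have hP : IsAlgSpace (pullback f q.toHom) :=
    isAlgSpace_of_isPullback hX.diag hY (IsAlgSpace.yon_obj _) f q.toHom _ _ sq
  have hsnd : IsEtaleMor (pullback.snd f q.toHom) := by
    rw [isEtaleMor_iff_locP_etale hP (IsAlgSpace.yon_obj _)]
    exact locP_of_isPullback @Etale hY hX (IsAlgSpace.yon_obj _) hP f q.toHom _ _ sq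
      ((isEtaleMor_iff_locP_etale hY hX f).mp hf)
  have hrepr := Groth.Agent.Helper2.EtaleOverFieldB.isRepresentable_of_isEtaleMor hP q.str
    (pullback.snd f q.toHom) hsnd
  obtain ⟨W, ⟨r⟩⟩ := hrepr.has_representation
  obtain ⟨e, he⟩ : ∃ e : (yon S).obj W ≅ pullback f q.toHom, e = isoOfRepresentableBy r :=
    ⟨_, rfl⟩
  obtain ⟨p, hp1, -⟩ := points_exists_of_isPullback q.toHom f (pullback.fst f q.toHom)
    (pullback.snd f q.toHom) sq y (Points.ofScheme q.pt (IsLocalRing.closedPoint q.K)) (by
      rw [← Points.ofPt_eq_map_ofScheme, Points.ofPt_toHom]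
      exact hq.symm)
  obtain ⟨t, ht, htm, htq⟩ := isDecent_yon W (Points.map e.inv p)
  refine ⟨t.map (e.hom ≫ pullback.fst f q.toHom), ?_, ?_, ?_⟩
  · rw [← Points.map_mk, ht, Points.map_comp, ← Points.map_comp e.inv e.hom, e.inv_hom_id,
      Points.map_id]
    exact hp1
  · rw [FieldPt.toHom_map]
    haveI : Mono (pullback.fst f q.toHom) := pullback.fst_of_mono
    haveI : Mono (e.hom ≫ pullback.fst f q.toHom) := mono_comp _ _
    exact @mono_comp _ _ _ _ _ _ htm _ inferInstance
  · rw [FieldPt.toHom_map]
    exact repWith_comp @QuasiCompact htq (repWith_comp @QuasiCompact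
      (repWith_of_isIso @QuasiCompact e.hom) (repWith_of_isPullback @QuasiCompact sq.flip hqq))

end Groth.Agent.Helper2.DecentEtale
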