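import Mathlib
import Groth.Agent.Lib.Helper2.AlgSp.GenericDecent

/-!
# Codimension of irreducible closed subsets of decent spaces (helper2)
-/

set_option autoImplicit false
set_option linter.style.haveILetI false

open CategoryTheory CategoryTheory.Limits AlgebraicGeometry Opposite AlgSp

universe u

namespace Groth.Agent.Helper2.CoheightDecent

open Groth.Agent.Helper2.AlgSpBasic

variable {S : Scheme.{u}}

theorem le_coheight_chart (X : Space S) (hX : IsDecent X.obj) {U : Over S}
    (a : (yon S).obj U ⟶ X.obj) (ha : RepWith @Etale a) (n : ℕ) :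
    ∀ (T : TopologicalSpace.IrreducibleCloseds (Points X.obj)) (u : ↥U.left),
      IsGenericPoint (Points.ofPt a u) (T : Set (Points X.obj)) →
      (n : ℕ∞) ≤ Order.coheight T → (n : ℕ∞) ≤ Order.coheight u := by
  haveI := Groth.Agent.Helper2.DecentOpen.quasiSober_of_decent X hX
  induction n with
  | zero => intro T u _ _; exact zero_le
  | succ n ih =>
    intro T u hgen hn
    obtain ⟨p, hp1, hp2⟩ := Order.exists_series_of_le_coheight T hn
    have h1lt : (0 : Fin (p.length + 1)) < ⟨1, by omega⟩ := by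
      rw [Fin.lt_def]; simp
    have hlt : T < p ⟨1, by omega⟩ := by
      rw [← hp1]
      exact p.strictMono h1lt
    have hco : (n : ℕ∞) ≤ Order.coheight (p ⟨1, by omega⟩) := by
      have := Order.rev_index_le_coheight p ⟨1, by omega⟩
      refine le_trans ?_ this
      have : ((⟨1, by omega⟩ : Fin (p.length + 1)).rev : ℕ) = n := by
        simp [Fin.rev, hp2]
      rw [this]
    obtain ⟨T₁, hT₁⟩ : ∃ T₁, T₁ = p ⟨1, by omega⟩ := ⟨_, rfl⟩
    rw [← hT₁] at hlt hco
    obtain ⟨ξ₁, hξ₁⟩ := QuasiSober.sober T₁.isIrreducible T₁.isClosed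
    have hspec : ξ₁ ⤳ Points.ofPt a u := by
      rw [specializes_iff_mem_closure, hξ₁.def]
      apply hlt.le
      rw [← SetLike.mem_coe, ← hgen.def]
      exact subset_closure rfl
    obtain ⟨u₁, hu₁s, hu₁⟩ := Groth.Agent.Helper2.FibreSpecB.exists_specializes_of_isDecent
      X.property hX _ ξ₁ hspec a ha u rfl
    have hgen₁ : IsGenericPoint (Points.ofPt a u₁) (T₁ : Set (Points X.obj)) := by
      rw [hu₁]; exact hξ₁
    have h2 := ih T₁ u₁ hgen₁ hco
    have hne : u ≠ u₁ := by
      intro h
      rw [← h] at hgen₁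
      have : (T : Set (Points X.obj)) = T₁ := hgen.def.symm.trans hgen₁.def
      exact hlt.ne (TopologicalSpace.IrreducibleCloseds.ext this)
    have hle : u ≤ u₁ := (AlgebraicGeometry.Scheme.le_iff_specializes).mpr hu₁s
    have hlt' : u < u₁ := by
      refine lt_of_le_not_ge hle (fun hge => hne ?_)
      have h' : u ⤳ u₁ := (AlgebraicGeometry.Scheme.le_iff_specializes).mp hge
      exact (h'.antisymm hu₁s).eq
    have h3 := Order.coheight_add_one_le hlt'
    calc ((n + 1 : ℕ) : ℕ∞) = (n : ℕ∞) + 1 := by push_cast; rfl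
      _ ≤ Order.coheight u₁ + 1 := by gcongr
      _ ≤ Order.coheight u := h3

theorem le_coheight_space (X : Space S) (hX : IsDecent X.obj) {U : Over S}
    (a : (yon S).obj U ⟶ X.obj) (ha : RepWith @Etale a) (n : ℕ) :
    ∀ (T : TopologicalSpace.IrreducibleCloseds (Points X.obj)) (u : ↥U.left),
      IsGenericPoint (Points.ofPt a u) (T : Set (Points X.obj)) →
      (n : ℕ∞) ≤ Order.coheight u → (n : ℕ∞) ≤ Order.coheight T := by
  haveI := Groth.Agent.Helper2.FibreSpecB.t0Space_of_isDecent X.property hX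
  induction n with
  | zero => intro T u _ _; exact zero_le
  | succ n ih =>
    intro T u hgen hn
    obtain ⟨p, hp1, hp2⟩ := Order.exists_series_of_le_coheight u hn
    have h1lt : (0 : Fin (p.length + 1)) < ⟨1, by omega⟩ := by
      rw [Fin.lt_def]; simp
    have hlt : u < p ⟨1, by omega⟩ := by
      rw [← hp1]
      exact p.strictMono h1lt
    have hco : (n : ℕ∞) ≤ Order.coheight (p ⟨1, by omega⟩) := by
      have := Order.rev_index_le_coheight p ⟨1, by omega⟩
      refine le_trans ?_ this
      have : ((⟨1, by omega⟩ : Fin (p.length + 1)).rev : ℕ) = n := by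
        simp [Fin.rev, hp2]
      rw [this]
    obtain ⟨u₁, hu₁⟩ : ∃ u₁, u₁ = p ⟨1, by omega⟩ := ⟨_, rfl⟩
    rw [← hu₁] at hlt hco
    have hs : u₁ ⤳ u := (AlgebraicGeometry.Scheme.le_iff_specializes).mp hlt.le
    obtain ⟨T₁, hT₁⟩ : ∃ T₁ : TopologicalSpace.IrreducibleCloseds (Points X.obj),
        T₁ = ⟨closure {Points.ofPt a u₁}, isIrreducible_singleton.closure, isClosed_closure⟩ :=
      ⟨_, rfl⟩
    have hgen₁ : IsGenericPoint (Points.ofPt a u₁) (T₁ : Set (Points X.obj)) := by
      rw [hT₁]; rfl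
    have h2 := ih T₁ u₁ hgen₁ hco
    have hspec : Points.ofPt a u₁ ⤳ Points.ofPt a u := hs.map (Points.continuous_ofPt a)
    have hle : T ≤ T₁ := by
      intro x hx
      rw [← SetLike.mem_coe, ← hgen.def] at hx
      rw [← SetLike.mem_coe, ← hgen₁.def]
      exact closure_minimal (Set.singleton_subset_iff.mpr hspec.mem_closure) isClosed_closure hx
    have hne : T ≠ T₁ := by
      intro h
      rw [← h] at hgen₁
      have h5 : Points.ofPt a u = Points.ofPt a u₁ := hgen.eq hgen₁
      exact hlt.ne (Groth.Agent.Helper2.FibreSpecB.eq_of_specializes_of_isDecent X.property hX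
        a ha u u₁ h5 hs)
    have hlt' : T < T₁ := lt_of_le_of_ne hle hne
    have h3 := Order.coheight_add_one_le hlt'
    calc ((n + 1 : ℕ) : ℕ∞) = (n : ℕ∞) + 1 := by push_cast; rfl
      _ ≤ Order.coheight T₁ + 1 := by gcongr
      _ ≤ Order.coheight T := h3

/-- `S10396`. -/
theorem coheight_eq (X : Space S) (hX : IsDecent X.obj)
    (T : TopologicalSpace.IrreducibleCloseds (Points X.obj)) (ξ : Points X.obj)
    (hξ : IsGenericPoint ξ (T : Set (Points X.obj))) {U : Over S} (a : (yon S).obj U ⟶ X.obj)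
    (ha : RepWith @Etale a) (u : ↥U.left) (hu : Points.ofPt a u = ξ) :
    (Order.coheight T : WithBot ℕ∞) = ringKrullDim ↥(U.left.presheaf.stalk u) := by
  rw [Groth.Agent.Helper2.DimFormula.ringKrullDim_stalk_eq_coheight]
  congr 1
  subst hu
  apply le_antisymm
  · rw [← ENat.forall_natCast_le_iff_le]
    intro n hn
    exact le_coheight_chart X hX a ha n T u hξ hn
  · rw [← ENat.forall_natCast_le_iff_le]
    intro n hn
    exact le_coheight_space X hX a ha n T u hξ hn

end Groth.Agent.Helper2.CoheightDecent
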