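import Mathlib
import Groth.Agent.Lib.Helper2.AlgSp.CoheightDecent

/-!
# Dimension of decent spaces (helper2)
-/

set_option autoImplicit false
set_option linter.style.haveILetI false

open CategoryTheory CategoryTheory.Limits AlgebraicGeometry Opposite AlgSp

universe u

namespace Groth.Agent.Helper2.DimDecent

open Groth.Agent.Helper2.AlgSpBasic

variable {S : Scheme.{u}}

/-- The Krull dimension of an étale chart is bounded by the Krull dimension of `|X|`. -/
theorem topologicalKrullDim_chart_le (X : Space S) (hX : IsDecent X.obj) {U : Over S}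
    (a : (yon S).obj U ⟶ X.obj) (ha : RepWith @Etale a) :
    topologicalKrullDim ↥U.left ≤ topologicalKrullDim (Points X.obj) := by
  rw [Groth.Agent.Helper2.DimFormula.topologicalKrullDim_eq_iSup]
  refine iSup_le fun u => ?_
  obtain ⟨T, hT⟩ : ∃ T : TopologicalSpace.IrreducibleCloseds (Points X.obj),
      T = ⟨closure {Points.ofPt a u}, isIrreducible_singleton.closure, isClosed_closure⟩ :=
    ⟨_, rfl⟩
  have hgen : IsGenericPoint (Points.ofPt a u) (T : Set (Points X.obj)) := by rw [hT]; rfl
  rw [← Groth.Agent.Helper2.CoheightDecent.coheight_eq X hX T _ hgen a ha u rfl]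
  unfold topologicalKrullDim
  exact_mod_cast Order.coheight_le_krullDim T

/-- `S10345`. -/
theorem topologicalKrullDim_eq_dim (X : Space S) (hX : IsDecent X.obj) :
    topologicalKrullDim (Points X.obj) = AlgSp.dim X.obj := by
  haveI := Groth.Agent.Helper2.DecentOpen.quasiSober_of_decent X hX
  apply le_antisymm
  · unfold topologicalKrullDim
    rw [Order.krullDim_eq_iSup_coheight]
    refine iSup_le fun T => ?_
    obtain ⟨ξ, hξ⟩ := QuasiSober.sober T.isIrreducible T.isClosed
    obtain ⟨U, a, hae, has⟩ := X.property.atlas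
    obtain ⟨u, hu⟩ := surjective_ofPt a has ξ
    rw [Groth.Agent.Helper2.CoheightDecent.coheight_eq X hX T ξ hξ a hae u hu]
    have h1 : ringKrullDim ↥(U.left.presheaf.stalk u) ≤ topologicalKrullDim ↥U.left := by
      rw [Groth.Agent.Helper2.DimFormula.topologicalKrullDim_eq_iSup]
      exact le_iSup (fun u => ringKrullDim ↥(U.left.presheaf.stalk u)) u
    refine h1.trans ?_
    unfold AlgSp.dim
    exact le_iSup_of_le U (le_iSup_of_le a (le_iSup_of_le hae le_rfl))
  · unfold AlgSp.dim
    refine iSup_le fun U => iSup_le fun a => iSup_le fun ha => ?_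
    exact topologicalKrullDim_chart_le X hX a ha

end Groth.Agent.Helper2.DimDecent
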