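import Mathlib
import Groth.Agent.Lib.Helper2.AlgSp.DimDecent
import Groth.Agent.Lib.Helper2.AlgSp.DecentEtale
import Groth.Agent.Lib.Helper2.AlgSp.GpdInv
import Groth.Prelude.Def_Flat

/-!
# Local dimension of decent spaces (helper2)
-/

set_option autoImplicit false
set_option linter.style.haveILetI false

open CategoryTheory CategoryTheory.Limits AlgebraicGeometry Opposite AlgSp

universe u

namespace Groth.Agent.Helper2.LocalDimDecent

open Groth.Agent.Helper2.AlgSpBasic

variable {S : Scheme.{u}}

/-- Open subspaces of decent spaces are decent. -/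
theorem isDecent_openSub (X : Space S) (hX : IsDecent X.obj) {N : Set (Points X.obj)}
    (hN : IsOpen N) : IsDecent (openSub X.obj N) := by
  have hXN := isAlgSpace_openSub X.property hN
  refine Groth.Agent.Helper2.DecentEtale.isDecent_of_isEtaleMor X.property hXN
    (openSubι X.obj N) ?_ hX
  exact isEtaleMor_of_locP_etale hXN X.property _
    (locP_etale_of_repWith_isOpenImmersion hXN _ (repWith_isOpenImmersion_openSubι X.obj hN))

/-- The points of an open subspace form the corresponding open subset. -/
noncomputable def pointsOpenSubHomeo (X : Space S) {N : Set (Points X.obj)} (hN : IsOpen N) :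
    Points (openSub X.obj N) ≃ₜ ↥N :=
  ((Groth.Agent.Helper2.GpdInv.isOpenEmbedding_points_openSubι X.property
    hN).isEmbedding.toHomeomorph).trans
    (Homeomorph.setCongr (range_points_map_openSubι X.obj N))

theorem topologicalKrullDim_openSub (X : Space S) {N : Set (Points X.obj)} (hN : IsOpen N) :
    topologicalKrullDim (Points (openSub X.obj N)) = topologicalKrullDim ↥N :=
  IsHomeomorph.topologicalKrullDim_eq _ (pointsOpenSubHomeo X hN).isHomeomorph

/-- For a surjective étale chart of a decent space, the Krull dimensions agree. -/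
theorem topologicalKrullDim_eq_chart (X : Space S) (hX : IsDecent X.obj) {U : Over S}
    (a : (yon S).obj U ⟶ X.obj) (hae : RepWith @Etale a)
    (has : Function.Surjective (Points.ofPt a)) :
    topologicalKrullDim (Points X.obj) = topologicalKrullDim ↥U.left := by
  haveI := Groth.Agent.Helper2.DecentOpen.quasiSober_of_decent X hX
  apply le_antisymm
  · unfold topologicalKrullDim
    rw [Order.krullDim_eq_iSup_coheight]
    refine iSup_le fun T => ?_
    obtain ⟨ξ, hξ⟩ := QuasiSober.sober T.isIrreducible T.isClosed
    obtain ⟨u, hu⟩ := has ξ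
    rw [Groth.Agent.Helper2.CoheightDecent.coheight_eq X hX T ξ hξ a hae u hu]
    show ringKrullDim ↥(U.left.presheaf.stalk u) ≤ topologicalKrullDim ↥U.left
    rw [Groth.Agent.Helper2.DimFormula.topologicalKrullDim_eq_iSup]
    exact le_iSup (fun u => ringKrullDim ↥(U.left.presheaf.stalk u)) u
  · exact Groth.Agent.Helper2.DimDecent.topologicalKrullDim_chart_le X hX a hae

/-- `S10346`. -/
theorem localDim_eq (X : Space S) (hX : IsDecent X.obj) {U : Over S}
    (a : (yon S).obj U ⟶ X.obj) (ha : RepWith @Etale a) (u : ↥U.left) :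
    FlatMor.localDim ↥U.left u = FlatMor.localDim (Points X.obj) (Points.ofPt a u) := by
  unfold FlatMor.localDim
  apply le_antisymm
  · refine le_iInf fun N => ?_
    obtain ⟨N, hxN⟩ := N
    -- the open `W = a⁻¹ N`
    have hN : IsOpen (N : Set (Points X.obj)) := N.2
    have sqN := isPullback_openSub_yon a hN
    obtain ⟨b, hb⟩ : ∃ b, b = openSubLift (N : Set (Points X.obj))
        ((yon S).map (preimageOverι a hN) ≫ a) (points_map_preimageOverι_mem a hN) := ⟨_, rfl⟩
    rw [← hb] at sqN
    have hbe : RepWith @Etale b := repWith_of_isPullback @Etale sqN.flip ha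
    have h1 := Groth.Agent.Helper2.DimDecent.topologicalKrullDim_chart_le
      ⟨openSub X.obj N, isAlgSpace_openSub X.property hN⟩ (isDecent_openSub X hX hN) b hbe
    rw [topologicalKrullDim_openSub X hN] at h1
    have huW : u ∈ preimageOpens a hN := hxN
    refine (iInf_le _ (⟨preimageOpens a hN, huW⟩ :
      {W : TopologicalSpace.Opens ↥U.left // u ∈ W})).trans ?_
    exact h1
  · refine le_iInf fun W => ?_
    obtain ⟨W, huW⟩ := W
    have hce : RepWith @Etale ((yon S).map (opensOverι W) ≫ a) :=
      repWith_comp @Etale ((repWith_yon_map_iff @Etale (opensOverι W)).mpr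
        (inferInstanceAs (Etale (Scheme.Opens.ι W)))) ha
    have hN : IsOpen (Set.range (Points.ofPt ((yon S).map (opensOverι W) ≫ a))) :=
      (isOpenMap_ofPt _ hce).isOpen_range
    obtain ⟨N, hNdef⟩ : ∃ N : TopologicalSpace.Opens (Points X.obj),
        N = ⟨Set.range (Points.ofPt ((yon S).map (opensOverι W) ≫ a)), hN⟩ := ⟨_, rfl⟩
    have hNo : IsOpen (N : Set (Points X.obj)) := N.2
    have hmem : ∀ p, Points.map ((yon S).map (opensOverι W) ≫ a) p ∈ (N : Set (Points X.obj)) := by
      intro p
      obtain ⟨w, rfl⟩ := (Points.schemeHomeo (opensOver W)).surjective p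
      rw [hNdef]
      refine ⟨w, ?_⟩
      rw [Points.ofPt_eq_map_ofScheme]
      rfl
    obtain ⟨c, hc⟩ : ∃ c, c = openSubLift (N : Set (Points X.obj))
        ((yon S).map (opensOverι W) ≫ a) hmem := ⟨_, rfl⟩
    have hcι : c ≫ openSubι X.obj N = (yon S).map (opensOverι W) ≫ a := by
      rw [hc, openSubLift_ι]
    have hcet : RepWith @Etale c :=
      repWith_lift_of_mono @Etale (openSubι X.obj N) _ c hcι hce
    have hcs : Function.Surjective (Points.ofPt c) := by
      intro y
      have hy := points_map_openSubι_mem X.obj N y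
      have hN' : (N : Set (Points X.obj)) =
          Set.range (Points.ofPt ((yon S).map (opensOverι W) ≫ a)) := by rw [hNdef]; rfl
      obtain ⟨w, hw⟩ := (Set.ext_iff.mp hN' _).mp hy
      refine ⟨w, injective_points_map_of_mono (openSubι X.obj N) ?_⟩
      rw [Points.map_ofPt, hcι]
      exact hw
    have h1 := topologicalKrullDim_eq_chart ⟨openSub X.obj N, isAlgSpace_openSub X.property hNo⟩
      (isDecent_openSub X hX hNo) c hcet hcs
    rw [topologicalKrullDim_openSub X hNo] at h1
    have hxN : Points.ofPt a u ∈ N := by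
      rw [hNdef]
      refine ⟨⟨u, huW⟩, ?_⟩
      rw [ofPt_yon_map_comp]
      rfl
    refine (iInf_le _ (⟨N, hxN⟩ :
      {N : TopologicalSpace.Opens (Points X.obj) // Points.ofPt a u ∈ N})).trans ?_
    rw [h1]
    rfl

end Groth.Agent.Helper2.LocalDimDecent
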