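import Mathlib
import Groth.Prelude.Def_AlgSp4
import Groth.Prelude.Def_AlgSpDec
import Groth.Agent.Lib.Helper2.AlgSp.FieldFibre
import Groth.Agent.Lib.Helper2.AlgSp.QcMonoPointB

/-!
# Fibres of etale charts over points represented by monomorphisms (helper2)

(copy in a separate namespace importing `MonoFieldB`, to avoid a name collision with `Thick`)
-/

set_option autoImplicit false
set_option backward.isDefEq.respectTransparency false

open CategoryTheory CategoryTheory.Limits AlgebraicGeometry Opposite AlgSp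

namespace Groth.Agent.Helper2.FieldFibreB
open Groth.Agent.Helper2.FieldFibre
universe u
variable {S : Scheme.{u}}

/-- Every point of `R = U ×_X U` comes from a point of the fibre product of the residue field
points of its two images. -/
theorem exists_point_of_fibre {X : Sp S} {U R : Over S} (φ : (yon S).obj U ⟶ X)
    (s t : R ⟶ U) (hR : IsPullback ((yon S).map t) ((yon S).map s) φ φ) (r : ↥R.left)
    {P : Over S} (π : P ⟶ resOver U (s.left r)) (π' : P ⟶ resOver U (t.left r))
    (sq : IsPullback ((yon S).map π) ((yon S).map π') ((yon S).map (resι U (s.left r)) ≫ φ)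
      ((yon S).map (resι U (t.left r)) ≫ φ))
    (ρ : P ⟶ R) (hρt : ρ ≫ t = π' ≫ resι U (t.left r))
    (hρs : ρ ≫ s = π ≫ resι U (s.left r)) :
    ∃ z : ↥P.left, ρ.left z = r := by
  have hs : Spec.map (s.left.residueFieldMap r) ≫ U.left.fromSpecResidueField (s.left r) =
      R.left.fromSpecResidueField r ≫ s.left :=
    Scheme.Hom.SpecMap_residueFieldMap_fromSpecResidueField s.left r
  have ht : Spec.map (t.left.residueFieldMap r) ≫ U.left.fromSpecResidueField (t.left r) =
      R.left.fromSpecResidueField r ≫ t.left :=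
    Scheme.Hom.SpecMap_residueFieldMap_fromSpecResidueField t.left r
  let a : resOver R r ⟶ resOver U (s.left r) :=
    Over.homMk (Spec.map (s.left.residueFieldMap r)) (by
      change Spec.map (s.left.residueFieldMap r) ≫ U.left.fromSpecResidueField (s.left r) ≫ U.hom =
        R.left.fromSpecResidueField r ≫ R.hom
      rw [← Category.assoc, hs, Category.assoc, Over.w s])
  let b : resOver R r ⟶ resOver U (t.left r) :=
    Over.homMk (Spec.map (t.left.residueFieldMap r)) (by
      change Spec.map (t.left.residueFieldMap r) ≫ U.left.fromSpecResidueField (t.left r) ≫ U.hom =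
        R.left.fromSpecResidueField r ≫ R.hom
      rw [← Category.assoc, ht, Category.assoc, Over.w t])
  have ha : a ≫ resι U (s.left r) = resι R r ≫ s := by
    apply Over.OverMorphism.ext
    exact hs
  have hb : b ≫ resι U (t.left r) = resι R r ≫ t := by
    apply Over.OverMorphism.ext
    exact ht
  have comm : (yon S).map a ≫ (yon S).map (resι U (s.left r)) ≫ φ =
      (yon S).map b ≫ (yon S).map (resι U (t.left r)) ≫ φ := by
    rw [← Category.assoc, ← Functor.map_comp, ha, ← Category.assoc, ← Functor.map_comp, hb,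
      Functor.map_comp, Functor.map_comp, Category.assoc, Category.assoc, hR.w]
  obtain ⟨l, hl⟩ := (yon S).map_surjective (sq.lift _ _ comm)
  have hl1 : l ≫ π = a := (yon S).map_injective (by rw [Functor.map_comp, hl, sq.lift_fst])
  have hl2 : l ≫ π' = b := (yon S).map_injective (by rw [Functor.map_comp, hl, sq.lift_snd])
  have hlρ : l ≫ ρ = resι R r := by
    apply (yon S).map_injective
    apply hR.hom_ext
    · rw [← Functor.map_comp, ← Functor.map_comp, Category.assoc, hρt, ← Category.assoc, hl2, hb]
    · rw [← Functor.map_comp, ← Functor.map_comp, Category.assoc, hρs, ← Category.assoc, hl1, ha]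
  let c : ↥(resOver R r).left := IsLocalRing.closedPoint ↥(R.left.residueField r)
  refine ⟨l.left c, ?_⟩
  have h1 : ρ.left (l.left c) = (l ≫ ρ).left c := rfl
  rw [h1, hlρ]
  exact Scheme.fromSpecResidueField_apply r c

/-- If the point `x` is represented by a monomorphism from the spectrum of a field, then for
every etale chart `U` and points `u`, `u'` over `x`, the fibre of `|U ×_X U|` over `(u, u')`
is finite. -/
theorem finite_fibre_of_mono_point {X : Sp S} (hX : IsAlgSpace X) (p : FieldPt X)
    (hm : Mono p.toHom) {U : Over S} (φ : (yon S).obj U ⟶ X) (hφ : RepWith @Etale φ)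
    (u u' : ↥U.left) (hu : Points.ofPt φ u = Points.mk p) (hu' : Points.ofPt φ u' = Points.mk p)
    {R : Over S} (s t : R ⟶ U) (hR : IsPullback ((yon S).map t) ((yon S).map s) φ φ) :
    {r : ↥R.left | s.left r = u ∧ t.left r = u'}.Finite := by
  obtain ⟨P, π, π', sq⟩ := AlgSpBasic.exists_isPullback_yon hX.diag
    ((yon S).map (resι U u) ≫ φ) ((yon S).map (resι U u') ≫ φ)
  haveI : Etale π.left :=
    etale_fst_of_isPullback_residue φ hφ u' _ ((yon S).map (resι U u) ≫ φ) π π' sq
  have hPL : EtaleField.IsFieldLike P.left :=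
    EtaleField.isFieldLike_of_etale (K := ↥(U.left.residueField u)) π.left
  haveI := hPL.discrete
  -- factor both residue field points through the monomorphism
  let cu : ↥(resOver U u).left := IsLocalRing.closedPoint ↥(U.left.residueField u)
  let cu' : ↥(resOver U u').left := IsLocalRing.closedPoint ↥(U.left.residueField u')
  have e1 : Points.mk (AlgSpBasic.fieldPtOfHom (U.left.fromSpecResidueField u ≫ U.hom)
      ((yon S).map (resι U u) ≫ φ)) = Points.mk p := by
    rw [FieldQuot.mk_fieldPtOfHom _ _ cu, AlgSpBasic.ofPt_yon_map_comp]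
    have h1 : (resι U u).left cu = u := Scheme.fromSpecResidueField_apply u cu
    rw [h1, hu]
  have e2 : Points.mk (AlgSpBasic.fieldPtOfHom (U.left.fromSpecResidueField u' ≫ U.hom)
      ((yon S).map (resι U u') ≫ φ)) = Points.mk p := by
    rw [FieldQuot.mk_fieldPtOfHom _ _ cu', AlgSpBasic.ofPt_yon_map_comp]
    have h1 : (resι U u').left cu' = u' := Scheme.fromSpecResidueField_apply u' cu'
    rw [h1, hu']
  obtain ⟨g, hg⟩ := QcMonoPointB.exists_factor_of_mono hX p _ hm e1
  obtain ⟨g', hg'⟩ := QcMonoPointB.exists_factor_of_mono hX p _ hm e2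
  rw [FieldQuot.toHom_fieldPtOfHom] at hg hg'
  obtain ⟨g₁, rfl⟩ := (yon S).map_surjective g
  obtain ⟨g₁', rfl⟩ := (yon S).map_surjective g'
  have hg2 : ∃ g₀ : resOver U u ⟶ p.pt, (yon S).map g₀ ≫ p.toHom = (yon S).map (resι U u) ≫ φ :=
    ⟨g₁, hg⟩
  have hg2' : ∃ g₀ : resOver U u' ⟶ p.pt,
      (yon S).map g₀ ≫ p.toHom = (yon S).map (resι U u') ≫ φ := ⟨g₁', hg'⟩
  clear hg hg'
  obtain ⟨g₀, hg⟩ := hg2
  obtain ⟨g₀', hg'⟩ := hg2'
  haveI := hm
  have sq' : IsPullback ((yon S).map π) ((yon S).map π') ((yon S).map g₀) ((yon S).map g₀') :=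
    ⟨⟨(cancel_mono p.toHom).1 (by rw [Category.assoc, Category.assoc, hg, hg']; exact sq.w)⟩,
      ⟨PullbackCone.isLimitOfFactors _ _ p.toHom _ _ hg hg' _ sq.isLimit⟩⟩
  have sq'' : IsPullback π π' g₀ g₀' :=
    IsPullback.of_map (yon S) ((yon S).map_injective (by
      simp only [Functor.map_comp]; exact sq'.w)) sq'
  have sq3 := sq''.map (Over.forget S)
  haveI : IsAffine ((Over.forget S).obj p.pt) :=
    inferInstanceAs (IsAffine (Spec (CommRingCat.of p.K)))
  haveI : IsAffine ((Over.forget S).obj (resOver U u)) :=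
    inferInstanceAs (IsAffine (Spec (U.left.residueField u)))
  haveI : IsAffine ((Over.forget S).obj (resOver U u')) :=
    inferInstanceAs (IsAffine (Spec (U.left.residueField u')))
  haveI : IsAffine P.left := IsAffine.of_isIso sq3.isoPullback.hom
  haveI : Finite ↥P.left := finite_of_compact_of_discrete
  -- the morphism to `R`
  obtain ⟨ρ, hρ⟩ := (yon S).map_surjective
    (hR.lift ((yon S).map (π' ≫ resι U u')) ((yon S).map (π ≫ resι U u)) (by
      rw [Functor.map_comp, Functor.map_comp, Category.assoc, Category.assoc, sq.w]))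
  have hρt : ρ ≫ t = π' ≫ resι U u' := (yon S).map_injective (by
    rw [Functor.map_comp, hρ, hR.lift_fst])
  have hρs : ρ ≫ s = π ≫ resι U u := (yon S).map_injective (by
    rw [Functor.map_comp, hρ, hR.lift_snd])
  refine (Set.finite_range ρ.left).subset ?_
  rintro r ⟨h1, h2⟩
  subst h1 h2
  exact exists_point_of_fibre φ s t hR r π π' sq ρ hρt hρs

/-- Points of the fibre product of a field-valued point with a chart lie over the point. -/
theorem ofPt_snd_of_isPullback {X : Sp S} (p : FieldPt X) {U T : Over S}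
    (φ : (yon S).obj U ⟶ X) (c : T ⟶ p.pt) (snd₀ : T ⟶ U)
    (sq : IsPullback ((yon S).map c) ((yon S).map snd₀) p.toHom φ) (w : ↥T.left) :
    Points.ofPt φ (snd₀.left w) = Points.mk p := by
  rw [← AlgSpBasic.ofPt_yon_map_comp, ← sq.w, AlgSpBasic.ofPt_yon_map_comp]
  exact Points.ofPt_toHom p _

/-- Every point of the chart over the point comes from the fibre product. -/
theorem exists_of_ofPt_eq {X : Sp S} (p : FieldPt X) {U T : Over S}
    (φ : (yon S).obj U ⟶ X) (c : T ⟶ p.pt) (snd₀ : T ⟶ U)
    (sq : IsPullback ((yon S).map c) ((yon S).map snd₀) p.toHom φ) (v : ↥U.left)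
    (hv : Points.ofPt φ v = Points.mk p) : ∃ w : ↥T.left, snd₀.left w = v := by
  let c₀ : ↥p.pt.left := (IsLocalRing.closedPoint p.K : ↥(Spec (CommRingCat.of p.K)))
  obtain ⟨w, hw1, -⟩ := AlgSpBasic.exists_point_of_isPullback_yon φ p.toHom snd₀ c sq.flip v c₀
    (by rw [hv]; exact (Points.ofPt_toHom p _).symm)
  exact ⟨w, hw1⟩

/-- The fibre product of a monomorphic field-valued point with a chart injects into the chart. -/
theorem injective_snd_of_isPullback {X : Sp S} (p : FieldPt X) (hm : Mono p.toHom) {U T : Over S}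
    (φ : (yon S).obj U ⟶ X) (c : T ⟶ p.pt) (snd₀ : T ⟶ U)
    (sq : IsPullback ((yon S).map c) ((yon S).map snd₀) p.toHom φ) :
    Function.Injective snd₀.left := by
  haveI := hm
  haveI : Mono ((yon S).map snd₀) := sq.mono_snd_of_mono
  haveI : Mono snd₀ := (yon S).mono_of_mono_map inferInstance
  haveI : Mono snd₀.left := inferInstance
  exact snd₀.left.injective

/-- If the fibre of an etale chart over a point represented by a monomorphism is finite and
nonempty, the fibre product is a nonempty scheme finite over the field. -/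
theorem finite_of_finite_fibre {X : Sp S} (p : FieldPt X) (hm : Mono p.toHom) {U : Over S}
    (φ : (yon S).obj U ⟶ X) (hφ : RepWith @Etale φ)
    (hne : Points.mk p ∈ Set.range (Points.ofPt φ))
    (hfin : (Points.ofPt φ ⁻¹' {Points.mk p}).Finite) {T : Over S} (c : T ⟶ p.pt)
    (snd : (yon S).obj T ⟶ (yon S).obj U)
    (sq : IsPullback ((yon S).map c) snd p.toHom φ) : Nonempty ↥T.left ∧ IsFinite c.left := by
  obtain ⟨snd₀, rfl⟩ := (yon S).map_surjective snd
  constructor
  · obtain ⟨v, hv⟩ := hne
    obtain ⟨w, -⟩ := exists_of_ofPt_eq p φ c snd₀ sq v hv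
    exact ⟨w⟩
  · haveI : Etale c.left := hφ.property p.toHom ((yon S).map snd₀) c sq.flip
    haveI := hfin.to_subtype
    let f : ↥T.left → (Points.ofPt φ ⁻¹' {Points.mk p}) := fun w =>
      ⟨snd₀.left w, ofPt_snd_of_isPullback p φ c snd₀ sq w⟩
    haveI : Finite ↥T.left := Finite.of_injective f (fun w w' h =>
      injective_snd_of_isPullback p hm φ c snd₀ sq (congrArg Subtype.val h))
    haveI : CompactSpace ↥T.left := Finite.compactSpace
    exact FieldQuot.isFinite_of_etale_field (K := p.K) c.left

/-- If the fibre product of a monomorphic field-valued point with an etale chart is nonempty and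
finite over the field, the fibres of the chart and of `R = U ×_X U` over the point are finite. -/
theorem finite_fibre_of_finite {X : Sp S} (hX : IsAlgSpace X) (p : FieldPt X)
    (hm : Mono p.toHom) {U : Over S} (φ : (yon S).obj U ⟶ X) (hφ : RepWith @Etale φ)
    {T : Over S} (c : T ⟶ p.pt) (snd₀ : T ⟶ U)
    (sq : IsPullback ((yon S).map c) ((yon S).map snd₀) p.toHom φ) (hne : Nonempty ↥T.left)
    (hfin : IsFinite c.left) :
    Points.mk p ∈ Set.range (Points.ofPt φ) ∧ (Points.ofPt φ ⁻¹' {Points.mk p}).Finite ∧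
      ∀ (R : Over S) (s t : R ⟶ U), IsPullback ((yon S).map t) ((yon S).map s) φ φ →
        (Points.ofPt ((yon S).map t ≫ φ) ⁻¹' {Points.mk p}).Finite := by
  have hT : Finite ↥T.left := by
    let c₀ : ↥p.pt.left := (IsLocalRing.closedPoint p.K : ↥(Spec (CommRingCat.of p.K)))
    have h1 := c.left.finite_preimage_singleton c₀
    refine Set.finite_univ_iff.mp (h1.subset (fun w _ => ?_))
    exact Subsingleton.elim (α := ↥(Spec (CommRingCat.of p.K))) _ _
  have hU : (Points.ofPt φ ⁻¹' {Points.mk p}).Finite :=
    (Set.finite_range snd₀.left).subset (fun v hv => exists_of_ofPt_eq p φ c snd₀ sq v hv)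
  refine ⟨?_, hU, ?_⟩
  · obtain ⟨w⟩ := hne
    exact ⟨snd₀.left w, ofPt_snd_of_isPullback p φ c snd₀ sq w⟩
  · intro R s t hR
    have hfin2 : (⋃ v ∈ (Points.ofPt φ ⁻¹' {Points.mk p}),
        ⋃ v' ∈ (Points.ofPt φ ⁻¹' {Points.mk p}),
          {r : ↥R.left | s.left r = v ∧ t.left r = v'}).Finite :=
      hU.biUnion (fun v hv => hU.biUnion (fun v' hv' =>
        finite_fibre_of_mono_point hX p hm φ hφ v v' hv hv' s t hR))
    refine hfin2.subset ?_
    intro r hr
    have h1 : Points.ofPt φ (t.left r) = Points.mk p := by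
      rw [← AlgSpBasic.ofPt_yon_map_comp]; exact hr
    have h2 : Points.ofPt φ (s.left r) = Points.mk p := by
      rw [← AlgSpBasic.ofPt_yon_map_comp, ← hR.w]; exact hr
    simp only [Set.mem_iUnion]
    exact ⟨s.left r, h2, t.left r, h1, rfl, rfl⟩

end Groth.Agent.Helper2.FieldFibreB
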