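import Mathlib
import Groth.Prelude.Def_AlgSp4
import Groth.Prelude.Def_AlgSpDec
import Groth.Agent.Lib.Helper2.AlgSp.FieldFibre2B
import Groth.Agent.Lib.Helper2.AlgSp.QC
import Groth.Agent.Lib.Helper2.AlgSp.LocP

/-!
# Quasi-compact monomorphic field points and finite fibres over affine charts (helper2)

(copy in a separate namespace importing `MonoFieldB`, to avoid a name collision with `Thick`)
-/

set_option autoImplicit false
set_option backward.isDefEq.respectTransparency false

open CategoryTheory CategoryTheory.Limits AlgebraicGeometry Opposite AlgSp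

namespace Groth.Agent.Helper2.FieldFibreB
open Groth.Agent.Helper2.FieldFibre
universe u
variable {S : Scheme.{u}}

/-- If the fibre product of a monomorphic field-valued point with an etale chart is a finite set,
the fibres of the chart and of `R = U ×_X U` over the point are finite. -/
theorem finite_fibre_of_finite_left {X : Sp S} (hX : IsAlgSpace X) (p : FieldPt X)
    (hm : Mono p.toHom) {U : Over S} (φ : (yon S).obj U ⟶ X) (hφ : RepWith @Etale φ)
    {T : Over S} (c : T ⟶ p.pt) (snd₀ : T ⟶ U)
    (sq : IsPullback ((yon S).map c) ((yon S).map snd₀) p.toHom φ) (hT : Finite ↥T.left) :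
    (Points.ofPt φ ⁻¹' {Points.mk p}).Finite ∧
      ∀ (R : Over S) (s t : R ⟶ U), IsPullback ((yon S).map t) ((yon S).map s) φ φ →
        (Points.ofPt ((yon S).map t ≫ φ) ⁻¹' {Points.mk p}).Finite := by
  have hU : (Points.ofPt φ ⁻¹' {Points.mk p}).Finite :=
    (Set.finite_range snd₀.left).subset (fun v hv => exists_of_ofPt_eq p φ c snd₀ sq v hv)
  refine ⟨hU, ?_⟩
  intro R s t hR
  have hfin2 : (⋃ v ∈ (Points.ofPt φ ⁻¹' {Points.mk p}),
      ⋃ v' ∈ (Points.ofPt φ ⁻¹' {Points.mk p}),
        {r : ↥R.left | s.left r = v ∧ t.left r = v'}).Finite :=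
    hU.biUnion (fun v hv => hU.biUnion (fun v' hv' =>
      finite_fibre_of_mono_point hX p hm φ hφ v v' hv hv' s t hR))
  refine hfin2.subset ?_
  intro r hr
  have h1 : Points.ofPt φ (t.left r) = Points.mk p := by
    rw [← AlgSpBasic.ofPt_yon_map_comp]; exact hr
  have h2 : Points.ofPt φ (s.left r) = Points.mk p := by
    rw [← AlgSpBasic.ofPt_yon_map_comp, ← hR.w]; exact hr
  simp only [Set.mem_iUnion]
  exact ⟨s.left r, h2, t.left r, h1, rfl, rfl⟩

/-- A quasi-compact monomorphic field-valued point has finite fibres over quasi-compact etale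
charts. -/
theorem finite_fibre_of_quasiCompact {X : Sp S} (hX : IsAlgSpace X) (p : FieldPt X)
    (hm : Mono p.toHom) (hq : RepWith @QuasiCompact p.toHom) {U : Over S} [CompactSpace ↥U.left]
    (φ : (yon S).obj U ⟶ X) (hφ : RepWith @Etale φ) :
    (Points.ofPt φ ⁻¹' {Points.mk p}).Finite ∧
      ∀ (R : Over S) (s t : R ⟶ U), IsPullback ((yon S).map t) ((yon S).map s) φ φ →
        (Points.ofPt ((yon S).map t ≫ φ) ⁻¹' {Points.mk p}).Finite := by
  obtain ⟨T, c, snd₀, sq⟩ := AlgSpBasic.exists_isPullback_yon hX.diag p.toHom φ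
  haveI : QuasiCompact snd₀.left := hq.property φ ((yon S).map c) snd₀ sq
  haveI : CompactSpace ↥T.left := QuasiCompact.compactSpace_of_compactSpace snd₀.left
  haveI : Etale c.left := hφ.property p.toHom ((yon S).map snd₀) c sq.flip
  have hPL : EtaleField.IsFieldLike T.left := EtaleField.isFieldLike_of_etale (K := p.K) c.left
  haveI := hPL.discrete
  haveI : Finite ↥T.left := finite_of_compact_of_discrete
  exact finite_fibre_of_finite_left hX p hm φ hφ c snd₀ sq inferInstance

/-- The restriction of a chart to an open subscheme. -/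
noncomputable abbrev opensOver (U : Over S) (V : U.left.Opens) : Over S := Over.mk (V.ι ≫ U.hom)

/-- The inclusion of an open subscheme of a chart. -/
noncomputable abbrev opensι (U : Over S) (V : U.left.Opens) : opensOver U V ⟶ U :=
  Over.homMk V.ι rfl

theorem repWith_etale_opensι_comp {X : Sp S} {U : Over S} (a : (yon S).obj U ⟶ X)
    (ha : RepWith @Etale a) (V : U.left.Opens) :
    RepWith @Etale ((yon S).map (opensι U V) ≫ a) := by
  refine AlgSpBasic.repWith_comp @Etale ?_ ha
  rw [repWith_yon_map_iff]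
  change Etale V.ι
  infer_instance

/-- If the fibres of all affine etale charts over the point are finite, a monomorphic field point
representing it is quasi-compact. -/
theorem repWith_quasiCompact_of_finite_fibres {X : Sp S} (hX : IsAlgSpace X) (p : FieldPt X)
    (hm : Mono p.toHom)
    (H : ∀ (U : Over S) (φ : (yon S).obj U ⟶ X), IsAffine U.left → RepWith @Etale φ →
      (Points.ofPt φ ⁻¹' {Points.mk p}).Finite) :
    RepWith @QuasiCompact p.toHom := by
  obtain ⟨U, a, hae, has⟩ := hX.atlas
  obtain ⟨F, c, snd₀, sq⟩ := AlgSpBasic.exists_isPullback_yon hX.diag p.toHom a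
  have hqc : QuasiCompact snd₀.left := by
    rw [quasiCompact_iff_forall_isAffineOpen]
    intro V hV
    have hfin := H (opensOver U V) ((yon S).map (opensι U V) ≫ a) (hV : IsAffine _)
      (repWith_etale_opensι_comp a hae V)
    haveI := hfin.to_subtype
    let f : (snd₀.left ⁻¹ᵁ V : Set ↥F.left) →
        (Points.ofPt ((yon S).map (opensι U V) ≫ a) ⁻¹' {Points.mk p}) := fun w =>
      ⟨⟨snd₀.left w.1, w.2⟩, by
        change Points.ofPt ((yon S).map (opensι U V) ≫ a) _ = Points.mk p
        rw [AlgSpBasic.ofPt_yon_map_comp]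
        exact ofPt_snd_of_isPullback p a c snd₀ sq w.1⟩
    have hf : Function.Injective f := by
      intro w w' h
      have h1 : snd₀.left w.1 = snd₀.left w'.1 :=
        congrArg (fun z => (z.1 : ↥(opensOver U V).left).1) h
      exact Subtype.ext (injective_snd_of_isPullback p hm a c snd₀ sq h1)
    haveI : Finite (snd₀.left ⁻¹ᵁ V : Set ↥F.left) := Finite.of_injective f hf
    exact (Set.toFinite _).isCompact
  have hF := IsAlgSpace.yon_obj (S := S) F
  have hU := IsAlgSpace.yon_obj (S := S) U
  have hK := IsAlgSpace.yon_obj (S := S) p.pt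
  have h1 : IsQuasiCompactMor ((yon S).map snd₀) :=
    AlgSpBasic.isQuasiCompactMor_of_repWith hF hU.diag _
      ((repWith_yon_map_iff @QuasiCompact snd₀).2 hqc)
  have h2 : IsQuasiCompactMor p.toHom := by
    refine AlgSpBasic.isQuasiCompactMor_of_open_surjective_base_change hK hX hU
      p.toHom a ((yon S).map c) ((yon S).map snd₀) sq ?_ h1
    intro Z W hZ h π₁ π₂ sqW
    have hW : IsAlgSpace W := AlgSpBasic.isAlgSpace_of_isPullback hX.diag hZ hU h a π₁ π₂ sqW
    refine ⟨?_, AlgSpBasic.isSurjectiveMor_of_isPullback a h π₂ π₁ sqW.flip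
      (AlgSpBasic.isSurjectiveMor_of_repWith_surjective a has)⟩
    have h3 : LocP @Etale a := AlgSpBasic.locP_of_repWith @Etale hU.diag a hae
    have h4 : LocP @Etale π₁ :=
      AlgSpBasic.locP_of_isPullback @Etale hU hX hZ hW a h π₂ π₁ sqW.flip h3
    exact AlgSpBasic.isOpenMap_points_of_isEtaleMor hW π₁
      (AlgSpBasic.isEtaleMor_of_locP_etale hW hZ π₁ h4)
  exact AlgSpBasic.repWith_quasiCompact_of_isQuasiCompactMor p.toHom
    (hX.representable_from_yon _) h2

/-- Every point of an algebraic space lies in an affine etale chart. -/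
theorem exists_affine_chart_through {X : Sp S} (hX : IsAlgSpace X) (x : Points X) :
    ∃ (V : Over S) (φ : (yon S).obj V ⟶ X), IsAffine V.left ∧ RepWith @Etale φ ∧
      x ∈ Set.range (Points.ofPt φ) := by
  obtain ⟨U, a, hae, has⟩ := hX.atlas
  obtain ⟨u, rfl⟩ := AlgSpBasic.surjective_ofPt a has x
  obtain ⟨_, ⟨V, hV, rfl⟩, huV, -⟩ := U.left.isBasis_affineOpens.exists_subset_of_mem_open
    (Set.mem_univ u) isOpen_univ
  refine ⟨opensOver U V, (yon S).map (opensι U V) ≫ a, (hV : IsAffine _),
    repWith_etale_opensι_comp a hae _, ⟨⟨u, huV⟩, ?_⟩⟩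
  rw [AlgSpBasic.ofPt_yon_map_comp]
  rfl

end Groth.Agent.Helper2.FieldFibreB
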