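import Mathlib
import Groth.Prelude.Def_AlgSp4
import Groth.Prelude.Def_AlgSpDec
import Groth.Agent.Lib.Helper2.AlgSp.FieldFibre3B

/-!
# Quasi-compact field points are represented by quasi-compact monomorphisms (helper2)

(copy of `QcPoint` in a separate namespace importing `FieldFibre3B`, to avoid a name collision with
`Thick`)
-/

set_option autoImplicit false
set_option backward.isDefEq.respectTransparency false

open CategoryTheory CategoryTheory.Limits AlgebraicGeometry Opposite AlgSp

namespace Groth.Agent.Helper2.QcPointB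
universe u
variable {S : Scheme.{u}}

/-- If `f ≫ g` is quasi-compact and `f` is surjective then `g` is quasi-compact. -/
theorem quasiCompact_of_comp_surjective {A B C : Scheme.{u}} (f : A ⟶ B) (g : B ⟶ C)
    [Surjective f] [QuasiCompact (f ≫ g)] : QuasiCompact g := by
  rw [quasiCompact_iff]
  intro U hU hUc
  have h1 : IsCompact ((f ≫ g) ⁻¹' U) := QuasiCompact.isCompact_preimage (f := f ≫ g) U hU hUc
  have h2 : g ⁻¹' U = f '' ((f ≫ g) ⁻¹' U) := by
    ext b
    constructor
    · intro hb
      obtain ⟨a, rfl⟩ := f.surjective b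
      exact ⟨a, hb, rfl⟩
    · rintro ⟨a, ha, rfl⟩
      exact ha
  rw [h2]
  exact h1.image f.continuous

/-- A morphism from a nonempty scheme to the spectrum of a field is surjective. -/
theorem surjective_of_field_target {A : Scheme.{u}} [Nonempty ↥A] {K : Type u} [Field K]
    (f : A ⟶ Spec (CommRingCat.of K)) : Surjective f := by
  refine ⟨fun y => ?_⟩
  obtain ⟨a⟩ := (inferInstance : Nonempty ↥A)
  exact ⟨a, Subsingleton.elim (α := ↥(Spec (CommRingCat.of K))) _ _⟩

/-- Two field-valued points in the same class agree on a common field extension. -/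
theorem exists_common_of_mk_eq {F : Sp S} {p q : FieldPt F} (h : Points.mk p = Points.mk q) :
    ∃ (Ω : Type u) (_ : Field Ω) (w : Spec (CommRingCat.of Ω) ⟶ S) (a : Over.mk w ⟶ p.pt)
      (b : Over.mk w ⟶ q.pt), (yon S).map a ≫ p.toHom = (yon S).map b ≫ q.toHom := by
  rw [Points.mk_eq_mk_iff] at h
  obtain ⟨Ω, hΩ, w, a, b, hab⟩ := h
  refine ⟨Ω, hΩ, w, a, b, ?_⟩
  have h1 : (yon S).map a ≫ p.toHom = (J S).uliftYonedaEquiv.symm (F.obj.map a.op p.val) :=
    GrothendieckTopology.uliftYonedaEquiv_symm_naturality_left _ a F p.val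
  have h2 : (yon S).map b ≫ q.toHom = (J S).uliftYonedaEquiv.symm (F.obj.map b.op q.val) :=
    GrothendieckTopology.uliftYonedaEquiv_symm_naturality_left _ b F q.val
  rw [h1, h2, hab]

/-- If `h_a ≫ b` is representable quasi-compact with `a` surjective then `b` is representable
quasi-compact. -/
theorem repWith_quasiCompact_of_comp_surjective {X : Sp S} (hX : IsAlgSpace X) {A B : Over S}
    (a₀ : A ⟶ B) (hs : Surjective a₀.left) (b : (yon S).obj B ⟶ X)
    (h : RepWith @QuasiCompact ((yon S).map a₀ ≫ b)) : RepWith @QuasiCompact b := by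
  refine MorphismProperty.relative.of_exists fun T g => ?_
  obtain ⟨W, fst, snd, sq⟩ := AlgSpBasic.exists_isPullback_yon hX.diag b g
  refine ⟨W, (yon S).map fst, snd, sq, ?_⟩
  have sqA := IsPullback.of_hasPullback a₀ fst
  have sqA' := sqA.map (yon S)
  have big := sqA'.paste_vert sq
  rw [← Functor.map_comp] at big
  haveI : QuasiCompact (pullback.snd a₀ fst ≫ snd).left := h.property g _ _ big
  have sq3 := sqA.map (Over.forget S)
  haveI : Surjective (pullback.snd a₀ fst).left :=
    MorphismProperty.of_isPullback (P := @Surjective) sq3 hs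
  haveI : QuasiCompact ((pullback.snd a₀ fst).left ≫ snd.left) := by
    rw [← Over.comp_left]; infer_instance
  exact quasiCompact_of_comp_surjective (pullback.snd a₀ fst).left snd.left

/-- `S10361`. -/
theorem exists_qc_mono_of_qc {X : Sp S} (hX : IsAlgSpace X) (q : FieldPt X)
    (hq : RepWith @QuasiCompact q.toHom) :
    ∃ p : FieldPt X, Points.mk p = Points.mk q ∧ Mono p.toHom ∧
      RepWith @QuasiCompact p.toHom := by
  obtain ⟨V, φ, hV, hφ, ⟨u, hu⟩⟩ := FieldFibreB.exists_affine_chart_through hX (Points.mk q)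
  let str := V.left.fromSpecResidueField u ≫ V.hom
  let a : (yon S).obj (Over.mk str) ⟶ X := (yon S).map (FieldFibre.resι V u) ≫ φ
  let cu : ↥(Over.mk str).left := IsLocalRing.closedPoint ↥(V.left.residueField u)
  have e0 : Points.ofPt a cu = Points.mk q := by
    rw [AlgSpBasic.ofPt_yon_map_comp]
    have h1 : (FieldFibre.resι V u).left cu = u := Scheme.fromSpecResidueField_apply u cu
    rw [h1, hu]
  have e1 : Points.mk (AlgSpBasic.fieldPtOfHom str a) = Points.mk q := by
    rw [FieldQuot.mk_fieldPtOfHom str a cu, e0]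
  obtain ⟨Ω, hΩ, w, α, β, hαβ⟩ := exists_common_of_mk_eq e1
  rw [FieldQuot.toHom_fieldPtOfHom] at hαβ
  have hα' : ∃ α' : Over.mk w ⟶ Over.mk str, (yon S).map α' ≫ a = (yon S).map β ≫ q.toHom :=
    ⟨α, hαβ⟩
  clear hαβ
  obtain ⟨α', hαβ⟩ := hα'
  have haq : RepWith @QuasiCompact a := by
    haveI : Nonempty ↥(Over.mk w).left :=
      inferInstanceAs (Nonempty ↥(Spec (CommRingCat.of Ω)))
    refine repWith_quasiCompact_of_comp_surjective hX α'
      (surjective_of_field_target (K := ↥(V.left.residueField u)) α'.left) a ?_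
    rw [hαβ]
    refine AlgSpBasic.repWith_comp @QuasiCompact ?_ hq
    rw [repWith_yon_map_iff]
    exact FieldQuot.quasiCompact_of_field (L := Ω) β.left
  obtain ⟨P, π, π', sq⟩ := AlgSpBasic.exists_isPullback_yon hX.diag a a
  haveI : Etale π.left := FieldFibre.etale_fst_of_isPullback_residue φ hφ u str a π π' sq
  haveI : QuasiCompact π.left := haq.property a ((yon S).map π') π sq.flip
  haveI : CompactSpace ↥(Over.mk str).left :=
    inferInstanceAs (CompactSpace ↥(Spec (V.left.residueField u)))
  haveI : CompactSpace ↥P.left := QuasiCompact.compactSpace_of_compactSpace π.left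
  obtain ⟨p, hp1, hp2, g, hg1, hg2⟩ := FieldQuot.exists_mono_fieldPt str π π' a sq.flip cu
  refine ⟨p, hp1.trans e0, hp2, ?_⟩
  haveI : Nonempty ↥(Over.mk str).left := ⟨cu⟩
  refine repWith_quasiCompact_of_comp_surjective hX g
    (surjective_of_field_target (K := p.K) g.left) p.toHom ?_
  rw [hg1]
  exact haq

end Groth.Agent.Helper2.QcPointB
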