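import Mathlib
import Groth.Agent.Lib.Helper2.AlgSp.QcPointB

/-!
# Quasi-separated algebraic spaces are decent (helper2)
-/

set_option autoImplicit false

open CategoryTheory CategoryTheory.Limits AlgebraicGeometry Opposite AlgSp

namespace Groth.Agent.Helper2.QsDecentB
universe u
variable {S : Scheme.{u}}

/-- An algebraic space with quasi-compact diagonal over the base is decent. -/
theorem isDecent_of_isQuasiSeparatedSp {F : Sp S} (hF : IsAlgSpace F)
    (hqs : IsQuasiSeparatedSp F) : IsDecent F := by
  intro x
  induction x using Points.ind with | h q => ?_
  have hq : RepWith @QuasiCompact q.toHom :=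
    FieldQuot.repWith_quasiCompact_of_field hqs q.str q.toHom
  exact QcPointB.exists_qc_mono_of_qc hF q hq

end Groth.Agent.Helper2.QsDecentB
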