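import Mathlib
import Groth.Prelude.Def_AlgSp4
import Groth.Agent.Lib.Helper2.AlgSp.ZarRep
import Groth.Agent.Lib.Helper2.Lqf.FieldPts

/-!
# Zariski gluing of representability: empty and binary versions (helper2)
-/

set_option autoImplicit false
universe u
open CategoryTheory CategoryTheory.Limits AlgebraicGeometry Opposite AlgSp
open Groth.Agent.Helper2.AlgSpBasic

namespace Groth.Agent.Helper2.ZarRep

variable {S : Scheme.{u}} {F : Sp S}

/-- A sheaf without points is representable (by the empty scheme). -/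
theorem exists_iso_yon_of_isEmpty_points (h : IsEmpty (Points F)) :
    ∃ W : Over S, Nonempty ((yon S).obj W ≅ F) :=
  exists_iso_yon_of_points_cover (ι := PEmpty.{u + 1}) (U := fun i => i.elim)
    (fun i => i.elim) (fun i => i.elim) (fun x => (h.false x).elim)

/-- A sheaf covered on points by two representable open subfunctors is representable. -/
theorem exists_iso_yon_of_two {U₁ U₂ : Over S} (a₁ : (yon S).obj U₁ ⟶ F)
    (a₂ : (yon S).obj U₂ ⟶ F) (h₁ : RepWith @IsOpenImmersion a₁)
    (h₂ : RepWith @IsOpenImmersion a₂)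
    (hcov : ∀ x : Points F, x ∈ Set.range (Points.map a₁) ∨ x ∈ Set.range (Points.map a₂)) :
    ∃ W : Over S, Nonempty ((yon S).obj W ≅ F) := by
  refine exists_iso_yon_of_points_cover (ι := ULift.{u} Bool)
    (U := fun b => Bool.rec U₂ U₁ b.down)
    (fun b => match b with
      | ⟨true⟩ => a₁
      | ⟨false⟩ => a₂)
    (fun b => match b with
      | ⟨true⟩ => h₁
      | ⟨false⟩ => h₂) (fun x => ?_)
  rcases hcov x with hx | hx
  · rw [Groth.Agent.Helper2.Lqf.range_points_map_yon] at hx
    obtain ⟨u, hu⟩ := hx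
    exact ⟨⟨true⟩, u, hu⟩
  · rw [Groth.Agent.Helper2.Lqf.range_points_map_yon] at hx
    obtain ⟨u, hu⟩ := hx
    exact ⟨⟨false⟩, u, hu⟩

end Groth.Agent.Helper2.ZarRep
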