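import Mathlib
import Groth.Prelude.Def_Desc
import Groth.Agent.Lib.Helper2.AlgSp.AffDescSp

/-!
# Representability of a sheaf from effectivity of descent along an fppf cover (helper2)

Let `g : F ⟶ h_T` be a map of fppf sheaves over `S` whose base change along `h_c : h_{T'} ⟶ h_T`,
`c` flat surjective locally of finite presentation, is a scheme `i : V ⟶ T'`.  The sheaf `F` endows
`V` with a descent datum relative to `c`; if this descent datum is effective then `F` is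
representable.
-/

set_option autoImplicit false
set_option backward.isDefEq.respectTransparency false
set_option linter.unusedSectionVars false
universe u
open CategoryTheory CategoryTheory.Limits AlgebraicGeometry Opposite AlgSp Desc

namespace Groth.Agent.Helper2.AlgSpDesc

open Groth.Agent.Helper2.AlgSpBasic

variable {S : Scheme.{u}} {T T' V : Over S} (c : T' ⟶ T) {F : Sp S}
  (g : F ⟶ (yon S).obj T) (fst : (yon S).obj V ⟶ F) (i : V ⟶ T')

section SameF

variable {T₀ : Scheme.{u}}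

/-- two points of `V` have the same image in `F` -/
def SameF (v w : T₀ ⟶ V.left) : Prop :=
  ∃ hvw : w ≫ V.hom = v ≫ V.hom,
    (yon S).map (Over.homMk v rfl : Over.mk (v ≫ V.hom) ⟶ V) ≫ fst =
      (yon S).map (Over.homMk w hvw : Over.mk (v ≫ V.hom) ⟶ V) ≫ fst

lemma sameF_iff (a : T₀ ⟶ S) (v w : T₀ ⟶ V.left) (hv : v ≫ V.hom = a) (hw : w ≫ V.hom = a) :
    SameF fst v w ↔ (yon S).map (Over.homMk v hv : Over.mk a ⟶ V) ≫ fst =
      (yon S).map (Over.homMk w hw : Over.mk a ⟶ V) ≫ fst := by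
  subst hv
  exact ⟨fun ⟨_, h⟩ => h, fun h => ⟨hw, h⟩⟩

variable {fst}

lemma SameF.hom_eq {v w : T₀ ⟶ V.left} (h : SameF fst v w) : w ≫ V.hom = v ≫ V.hom := h.1

variable (fst) in
lemma SameF.refl (v : T₀ ⟶ V.left) : SameF fst v v := ⟨rfl, rfl⟩

lemma SameF.symm {v w : T₀ ⟶ V.left} (h : SameF fst v w) : SameF fst w v :=
  (sameF_iff fst (w ≫ V.hom) w v rfl h.hom_eq.symm).mpr
    ((sameF_iff fst (w ≫ V.hom) v w h.hom_eq.symm rfl).mp h).symm

lemma SameF.trans {v w x : T₀ ⟶ V.left} (h : SameF fst v w) (h' : SameF fst w x) :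
    SameF fst v x := by
  have e1 := (sameF_iff fst (v ≫ V.hom) v w rfl h.hom_eq).mp h
  have e2 := (sameF_iff fst (v ≫ V.hom) w x h.hom_eq (h'.hom_eq.trans h.hom_eq)).mp h'
  exact (sameF_iff fst (v ≫ V.hom) v x rfl (h'.hom_eq.trans h.hom_eq)).mpr (e1.trans e2)

lemma SameF.precomp {T₁ : Scheme.{u}} (γ : T₁ ⟶ T₀) {v w : T₀ ⟶ V.left} (h : SameF fst v w) :
    SameF fst (γ ≫ v) (γ ≫ w) := by
  have e1 := (sameF_iff fst (v ≫ V.hom) v w rfl h.hom_eq).mp h
  have hv' : (γ ≫ v) ≫ V.hom = γ ≫ v ≫ V.hom := Category.assoc _ _ _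
  have hw' : (γ ≫ w) ≫ V.hom = γ ≫ v ≫ V.hom := by rw [Category.assoc, h.hom_eq]
  refine (sameF_iff fst (γ ≫ v ≫ V.hom) (γ ≫ v) (γ ≫ w) hv' hw').mpr ?_
  let γ' : Over.mk (γ ≫ v ≫ V.hom) ⟶ Over.mk (v ≫ V.hom) := Over.homMk γ rfl
  have h1 : (Over.homMk (γ ≫ v) hv' : Over.mk (γ ≫ v ≫ V.hom) ⟶ V) =
      γ' ≫ (Over.homMk v rfl : Over.mk (v ≫ V.hom) ⟶ V) := Over.OverMorphism.ext rfl
  have h2 : (Over.homMk (γ ≫ w) hw' : Over.mk (γ ≫ v ≫ V.hom) ⟶ V) =
      γ' ≫ (Over.homMk w h.hom_eq : Over.mk (v ≫ V.hom) ⟶ V) := Over.OverMorphism.ext rfl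
  rw [h1, h2, Functor.map_comp, Functor.map_comp, Category.assoc, Category.assoc, e1]

end SameF

variable (sq : IsPullback fst ((yon S).map i) g ((yon S).map c))

include sq in
/-- points of `V` are determined by their images in `F` and in `T'` -/
lemma eq_of_sameF {T₀ : Scheme.{u}} {v w : T₀ ⟶ V.left} (h : SameF fst v w)
    (h2 : v ≫ i.left = w ≫ i.left) : v = w := by
  have e1 := (sameF_iff fst (v ≫ V.hom) v w rfl h.hom_eq).mp h
  have : (Over.homMk v rfl : Over.mk (v ≫ V.hom) ⟶ V) = Over.homMk w h.hom_eq := by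
    apply (yon S).map_injective
    apply sq.hom_ext e1
    rw [← Functor.map_comp, ← Functor.map_comp]
    congr 1
    exact Over.OverMorphism.ext h2
  exact congrArg (fun m => m.left) this

include sq in
/-- transport of a point of `V` along the fibres of `c` -/
lemma exists_sameF {T₀ : Scheme.{u}} (v : T₀ ⟶ V.left) (x₁ : T₀ ⟶ T'.left)
    (h : (v ≫ i.left) ≫ c.left = x₁ ≫ c.left) :
    ∃ w : T₀ ⟶ V.left, w ≫ i.left = x₁ ∧ SameF fst v w := by
  have hx₁ : x₁ ≫ T'.hom = v ≫ V.hom := by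
    rw [← Over.w c, ← Category.assoc, ← h, Category.assoc, Category.assoc, Over.w c, Over.w i]
  let v' : Over.mk (v ≫ V.hom) ⟶ V := Over.homMk v rfl
  let x₁' : Over.mk (v ≫ V.hom) ⟶ T' := Over.homMk x₁ hx₁
  have hc : v' ≫ i ≫ c = x₁' ≫ c := Over.OverMorphism.ext (by
    change v ≫ i.left ≫ c.left = x₁ ≫ c.left
    rw [← Category.assoc]; exact h)
  have hcond : ((yon S).map v' ≫ fst) ≫ g = (yon S).map x₁' ≫ (yon S).map c := by
    rw [Category.assoc, sq.w, ← Functor.map_comp, ← Functor.map_comp, ← Functor.map_comp, hc]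
  obtain ⟨w', hw'⟩ := (yon S).map_surjective (sq.lift _ _ hcond)
  have hw1 : (yon S).map w' ≫ fst = (yon S).map v' ≫ fst := by rw [hw', sq.lift_fst]
  have hw2 : w' ≫ i = x₁' := (yon S).map_injective (by rw [Functor.map_comp, hw', sq.lift_snd])
  refine ⟨w'.left, congrArg (fun m => m.left) hw2, ?_⟩
  refine (sameF_iff fst (v ≫ V.hom) v w'.left rfl (Over.w w')).mpr ?_
  rw [← hw1]
  rfl

/-- the transported point -/
noncomputable def transPt {T₀ : Scheme.{u}} (x₀ x₁ : T₀ ⟶ T'.left)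
    (h : x₀ ≫ c.left = x₁ ≫ c.left) (v : Lifts (Over.mk i.left) x₀) :
    Lifts (Over.mk i.left) x₁ :=
  ⟨Classical.choose (exists_sameF c g fst i sq v.1 x₁ (by
      have hv : v.1 ≫ i.left = x₀ := v.2
      rw [hv, h])),
    (Classical.choose_spec (exists_sameF c g fst i sq v.1 x₁ (by
      have hv : v.1 ≫ i.left = x₀ := v.2
      rw [hv, h]))).1⟩

lemma transPt_sameF {T₀ : Scheme.{u}} (x₀ x₁ : T₀ ⟶ T'.left)
    (h : x₀ ≫ c.left = x₁ ≫ c.left) (v : Lifts (Over.mk i.left) x₀) :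
    SameF fst v.1 (transPt c g fst i sq x₀ x₁ h v).1 :=
  (Classical.choose_spec (exists_sameF c g fst i sq v.1 x₁ (by
      have hv : v.1 ≫ i.left = x₀ := v.2
      rw [hv, h]))).2

include sq in
lemma lifts_ext {T₀ : Scheme.{u}} {x : T₀ ⟶ T'.left} (v w : Lifts (Over.mk i.left) x)
    (h : SameF fst v.1 w.1) : v = w := by
  apply Subtype.ext
  apply eq_of_sameF c g fst i sq h
  have hv : v.1 ≫ i.left = x := v.2
  have hw : w.1 ≫ i.left = x := w.2
  rw [hv, hw]

/-- The descent datum on `V` relative to `c` induced by the sheaf `F`. -/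
noncomputable def descOfSheaf : SchDD c.left where
  obj := Over.mk i.left
  φ T₀ x₀ x₁ h :=
    { toFun := transPt c g fst i sq x₀ x₁ h
      invFun := transPt c g fst i sq x₁ x₀ h.symm
      left_inv := fun v => lifts_ext c g fst i sq _ _
        (((transPt_sameF c g fst i sq x₀ x₁ h v).trans
          (transPt_sameF c g fst i sq x₁ x₀ h.symm _)).symm)
      right_inv := fun v => lifts_ext c g fst i sq _ _
        (((transPt_sameF c g fst i sq x₁ x₀ h.symm v).trans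
          (transPt_sameF c g fst i sq x₀ x₁ h _)).symm) }
  φ_natural T₀ T₁ γ x₀ x₁ h h' v v' hv' := by
    have h1 : SameF fst v'.1 (transPt c g fst i sq (γ ≫ x₀) (γ ≫ x₁) h' v').1 :=
      transPt_sameF c g fst i sq _ _ h' v'
    have h2 : SameF fst (γ ≫ v.1) (γ ≫ (transPt c g fst i sq x₀ x₁ h v).1) :=
      (transPt_sameF c g fst i sq x₀ x₁ h v).precomp γ
    rw [← hv'] at h2
    refine eq_of_sameF c g fst i sq (h1.symm.trans h2) ?_
    have e1 : (transPt c g fst i sq (γ ≫ x₀) (γ ≫ x₁) h' v').1 ≫ i.left = γ ≫ x₁ :=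
      (transPt c g fst i sq (γ ≫ x₀) (γ ≫ x₁) h' v').2
    have e2 : (transPt c g fst i sq x₀ x₁ h v).1 ≫ i.left = x₁ :=
      (transPt c g fst i sq x₀ x₁ h v).2
    exact e1.trans ((congrArg (fun m => γ ≫ m) e2).symm.trans (Category.assoc _ _ _).symm)
  φ_self T₀ x v := lifts_ext c g fst i sq _ _ (transPt_sameF c g fst i sq x x rfl v).symm
  φ_comp T₀ x₀ x₁ x₂ h₀₁ h₁₂ v := lifts_ext c g fst i sq _ _
    (((transPt_sameF c g fst i sq x₀ x₁ h₀₁ v).trans
      (transPt_sameF c g fst i sq x₁ x₂ h₁₂ _)).symm.trans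
        (transPt_sameF c g fst i sq x₀ x₂ (h₀₁.trans h₁₂) v))

lemma descOfSheaf_obj : (descOfSheaf c g fst i sq).obj = Over.mk i.left := rfl

lemma descOfSheaf_sameF {T₀ : Scheme.{u}} (x₀ x₁ : T₀ ⟶ T'.left)
    (h : x₀ ≫ c.left = x₁ ≫ c.left) (v : Lifts (descOfSheaf c g fst i sq).obj x₀) :
    SameF fst v.1 ((descOfSheaf c g fst i sq).φ x₀ x₁ h v).1 :=
  transPt_sameF c g fst i sq x₀ x₁ h v

end Groth.Agent.Helper2.AlgSpDesc
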