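import Mathlib
import Groth.Agent.Lib.Helper2.AlgSp.RepDesc

/-!
# Representability of a sheaf from effectivity of descent along an fppf cover, II (helper2)
-/

set_option autoImplicit false
set_option backward.isDefEq.respectTransparency false
set_option linter.unusedSectionVars false
set_option linter.style.haveILetI false
universe u
open CategoryTheory CategoryTheory.Limits AlgebraicGeometry Opposite AlgSp Desc

namespace Groth.Agent.Helper2.AlgSpDesc

open Groth.Agent.Helper2.AlgSpBasic

/-- An isomorphism of a descent datum with a canonical one gives a cartesian quotient map which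
is invariant under the gluing bijections. -/
theorem exists_quotient_of_iso {X S : Scheme.{u}} (p : X ⟶ S) (D : SchDD p) (U : Over S)
    (e : (toDD p).obj U ≅ D) :
    ∃ q : D.obj.left ⟶ U.left, IsPullback D.obj.hom q p U.hom ∧
      ∀ ⦃T : Scheme.{u}⦄ (x₀ x₁ : T ⟶ X) (h : x₀ ≫ p = x₁ ≫ p) (v : Lifts D.obj x₀),
        (D.φ x₀ x₁ h v).1 ≫ q = v.1 ≫ q := by
  obtain ⟨a, ha⟩ : ∃ a : pullback p U.hom ⟶ D.obj.left, a = e.hom.hom.left := ⟨_, rfl⟩
  obtain ⟨b, hb⟩ : ∃ b : D.obj.left ⟶ pullback p U.hom, b = e.inv.hom.left := ⟨_, rfl⟩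
  have hab : a ≫ b = 𝟙 _ := by
    rw [ha, hb]
    exact congrArg (fun m : (toDD p).obj U ⟶ (toDD p).obj U => m.hom.left) e.hom_inv_id
  have hba : b ≫ a = 𝟙 _ := by
    rw [ha, hb]
    exact congrArg (fun m : D ⟶ D => m.hom.left) e.inv_hom_id
  have haw : a ≫ D.obj.hom = pullback.fst p U.hom := by rw [ha]; exact Over.w e.hom.hom
  have hbw : b ≫ pullback.fst p U.hom = D.obj.hom := by rw [hb]; exact Over.w e.inv.hom
  refine ⟨b ≫ pullback.snd p U.hom, ?_, ?_⟩
  · refine IsPullback.of_iso (IsPullback.of_hasPullback p U.hom) ⟨a, b, hab, hba⟩ (Iso.refl _)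
      (Iso.refl _) (Iso.refl _) ?_ ?_ ?_ ?_
    · simp only [Iso.refl_hom, Category.comp_id]; exact haw.symm
    · simp only [Iso.refl_hom, Category.comp_id]
      rw [← Category.assoc, hab, Category.id_comp]
    · simp
    · simp
  · intro T x₀ x₁ h v
    have hv2 : v.1 ≫ D.obj.hom = x₀ := v.2
    let w : Lifts ((toDD p).obj U).obj x₀ := ⟨v.1 ≫ b, by
      change (v.1 ≫ b) ≫ pullback.fst p U.hom = x₀
      rw [Category.assoc, hbw, hv2]⟩
    have hc := e.inv.comm x₀ x₁ h v w (by rw [← hb])
    rw [← hb] at hc
    rw [← Category.assoc, ← hc]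
    change (canMap p U x₀ x₁ h w).1 ≫ pullback.snd p U.hom = _
    rw [canMap_val, pullback.lift_snd, Category.assoc]

variable {S : Scheme.{u}} {T T' V : Over S} (c : T' ⟶ T) {F : Sp S}
  (g : F ⟶ (yon S).obj T) (fst : (yon S).obj V ⟶ F) (i : V ⟶ T')
  (sq : IsPullback fst ((yon S).map i) g ((yon S).map c))

include sq in
/-- If the descent datum induced by the sheaf `F` is effective, then `F` is representable. -/
theorem exists_rep_of_isEffective (hcf : Flat c.left) (hcs : Surjective c.left)
    (hcl : LocallyOfFinitePresentation c.left)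
    (heff : ∃ U₀ : Over T.left,
      Nonempty ((toDD c.left).obj U₀ ≅ descOfSheaf c g fst i sq)) :
    ∃ (U : Over S) (k : U ⟶ T) (q : V ⟶ U) (e : (yon S).obj U ⟶ F),
      IsIso e ∧ e ≫ g = (yon S).map k ∧ (yon S).map q ≫ e = fst ∧ IsPullback i q c k := by
  obtain ⟨U₀, ⟨e₀⟩⟩ := heff
  obtain ⟨q₀, sqU₀, hinv⟩ := exists_quotient_of_iso c.left (descOfSheaf c g fst i sq) U₀ e₀
  change IsPullback i.left q₀ c.left U₀.hom at sqU₀
  let U : Over S := Over.mk (U₀.hom ≫ T.hom)
  let k : U ⟶ T := Over.homMk U₀.hom rfl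
  let q : V ⟶ U := Over.homMk q₀ (by
    show q₀ ≫ U₀.hom ≫ T.hom = V.hom
    rw [← Category.assoc, ← sqU₀.w, Category.assoc, Over.w c, Over.w i])
  have sqU : IsPullback i q c k := over_isPullback_of_left i q c k sqU₀
  -- glue `fst` along the cover `q`
  have hqfl : Flat q.left := MorphismProperty.of_isPullback (P := @Flat) sqU₀ hcf
  have hqlfp : LocallyOfFinitePresentation q.left :=
    MorphismProperty.of_isPullback (P := @LocallyOfFinitePresentation) sqU₀ hcl
  have hqs : Surjective q.left := MorphismProperty.of_isPullback (P := @Surjective) sqU₀ hcs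
  obtain ⟨e, he⟩ := Groth.Agent.Helper2.AlgSpFormal.exists_glue_of_family (F := F) (Z' := U)
    (W := fun _ : Unit => V) (p := fun _ => q) (fun _ => ⟨hqfl, hqlfp⟩)
    (fun x => ⟨(), hqs.surj x⟩) (fun _ => fst) (by
      intro _ _ Q qi qj hq
      have hcond : (qi.left ≫ i.left) ≫ c.left = (qj.left ≫ i.left) ≫ c.left := by
        have h1 : (qi ≫ i) ≫ c = (qj ≫ i) ≫ c := by
          rw [Category.assoc, Category.assoc, sqU.w, ← Category.assoc, ← Category.assoc, hq]
        exact congrArg (fun m => m.left) h1
      let v : Lifts (descOfSheaf c g fst i sq).obj (qi.left ≫ i.left) := ⟨qi.left, rfl⟩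
      have hs := descOfSheaf_sameF c g fst i sq _ _ hcond v
      have hw : ((descOfSheaf c g fst i sq).φ _ _ hcond v).1 = qj.left := by
        apply sqU₀.hom_ext
        · exact ((descOfSheaf c g fst i sq).φ _ _ hcond v).2
        · rw [hinv]
          exact congrArg (fun m => m.left) hq
      rw [hw] at hs
      exact (sameF_iff fst Q.hom qi.left qj.left (Over.w qi) (Over.w qj)).mp hs)
  have he' : (yon S).map q ≫ e = fst := he ()
  -- `q` and `fst` are epimorphisms of sheaves
  have hcLS : Sheaf.IsLocallySurjective ((yon S).map q) :=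
    isLocallySurjective_of_fppf _ ((repWith_yon_map_iff @Flat q).mpr hqfl)
      ((repWith_yon_map_iff @LocallyOfFinitePresentation q).mpr hqlfp)
      ((repWith_yon_map_iff @Surjective q).mpr hqs)
  haveI hqepi : Epi ((yon S).map q) := inferInstance
  have hfst_fl : RepWith @Flat fst :=
    repWith_of_isPullback @Flat sq.flip ((repWith_yon_map_iff @Flat c).mpr hcf)
  have hfst_lfp : RepWith @LocallyOfFinitePresentation fst :=
    repWith_of_isPullback @LocallyOfFinitePresentation sq.flip
      ((repWith_yon_map_iff @LocallyOfFinitePresentation c).mpr hcl)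
  have hfst_s : RepWith @Surjective fst :=
    repWith_of_isPullback @Surjective sq.flip ((repWith_yon_map_iff @Surjective c).mpr hcs)
  have hfstLS : Sheaf.IsLocallySurjective fst :=
    isLocallySurjective_of_fppf _ hfst_fl hfst_lfp hfst_s
  haveI hfstepi : Epi fst := inferInstance
  have heg : e ≫ g = (yon S).map k := by
    rw [← cancel_epi ((yon S).map q), ← Category.assoc, he', sq.w, ← Functor.map_comp,
      ← Functor.map_comp, sqU.w]
  -- `e` is an isomorphism
  haveI heepi : Epi e := by
    haveI : Epi ((yon S).map q ≫ e) := by rw [he']; infer_instance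
    exact epi_of_epi ((yon S).map q) e
  have sqtop : IsPullback ((yon S).map q) (𝟙 _) e fst := by
    have hbig : IsPullback ((yon S).map q) (𝟙 _ ≫ (yon S).map i) (e ≫ g) ((yon S).map c) := by
      rw [Category.id_comp, heg]
      exact (sqU.flip).map (yon S)
    exact IsPullback.of_bot hbig (by rw [he', Category.id_comp]) sq
  haveI hemono : Mono e :=
    mono_of_isPullback_of_epi e fst (fun {A} c' => by
      have sq' := IsPullback.of_hasPullback c' fst
      haveI : Sheaf.IsLocallySurjective (pullback.fst c' fst) :=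
        isLocallySurjective_of_fppf _ (repWith_of_isPullback @Flat sq'.flip hfst_fl)
          (repWith_of_isPullback @LocallyOfFinitePresentation sq'.flip hfst_lfp)
          (repWith_of_isPullback @Surjective sq'.flip hfst_s)
      infer_instance) _ _ sqtop
  have heiso : IsIso e := isIso_of_mono_of_epi e
  exact ⟨U, k, q, e, heiso, heg, he', sqU⟩

include sq in
/-- If descent data relative to `c` whose scheme has a property `P` over the source are effective
and `i` has `P`, then `F` is representable. -/
theorem exists_rep_of_fppf_cover (hcf : Flat c.left) (hcs : Surjective c.left)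
    (hcl : LocallyOfFinitePresentation c.left) (P : MorphismProperty Scheme.{u})
    (hdesc : ∀ D : SchDD c.left, P D.obj.hom →
      ∃ U₀ : Over T.left, Nonempty ((toDD c.left).obj U₀ ≅ D)) (hi : P i.left) :
    ∃ (U : Over S) (k : U ⟶ T) (q : V ⟶ U) (e : (yon S).obj U ⟶ F),
      IsIso e ∧ e ≫ g = (yon S).map k ∧ (yon S).map q ≫ e = fst ∧ IsPullback i q c k :=
  exists_rep_of_isEffective c g fst i sq hcf hcs hcl (hdesc _ hi)

end Groth.Agent.Helper2.AlgSpDesc
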