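import Mathlib
import Groth.Prelude.Def_AlgSpMor5
import Groth.Agent.Lib.Helper2.AlgSp.Points
import Groth.Agent.Lib.Helper2.AlgSp.QC
import Groth.Agent.Lib.Helper2.AlgSp.UnivTop
namespace Groth.Agent.Helper2.AlgSpBasic
open CategoryTheory CategoryTheory.Limits AlgebraicGeometry Opposite AlgSp Topology
universe u
variable {S : Scheme.{u}}

/-- The existence part of the valuative criterion is stable under base change (sheaf level). -/
theorem existVC_of_isPullback {X Y Z X' : Sp S} (f : X ⟶ Y) (g : Z ⟶ Y)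
    (fst : X' ⟶ X) (f' : X' ⟶ Z) (sq : IsPullback fst f' f g) (he : ExistVC f) : ExistVC f' := by
  intro sq'
  let sq₂ : ValSq f :=
    { A := sq'.A, K := sq'.K, str := sq'.str, top := sq'.top ≫ fst, bot := sq'.bot ≫ g,
      comm := by rw [Category.assoc, sq.w, ← Category.assoc, sq'.comm, Category.assoc] }
  obtain ⟨e, l, hl1, hl2⟩ := he sq₂
  let e' : sq'.DomExt :=
    { A' := e.A', K' := e.K', φ := e.φ, ψ := e.ψ, comm := e.comm, isLocalHom := e.isLocalHom }
  have hcomm : l ≫ f = ((yon S).map (Over.homMk (Spec.map (CommRingCat.ofHom e.φ)) rfl :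
      e.ptA' ⟶ sq'.ptA) ≫ sq'.bot) ≫ g := by
    rw [hl2, Category.assoc]
  refine ⟨e', sq.lift l _ hcomm, ?_, ?_⟩
  · apply sq.hom_ext
    · rw [Category.assoc, sq.lift_fst, Category.assoc]
      exact hl1
    · rw [Category.assoc, sq.lift_snd, Category.assoc, sq'.comm, ← Category.assoc, ← Category.assoc,
        ← Functor.map_comp, ← Functor.map_comp]
      congr 2
      apply Over.OverMorphism.ext
      change Spec.map _ ≫ Spec.map _ = Spec.map _ ≫ Spec.map _
      rw [← Spec.map_comp, ← Spec.map_comp, ← CommRingCat.ofHom_comp, ← CommRingCat.ofHom_comp, e.comm]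
  · exact sq.lift_snd _ _ _

/-- For a morphism of affine schemes, the image of a closed set is closed as soon as it is stable
under specialization. -/
theorem isClosed_image_of_stableUnderSpecialization_of_isAffine {U V : Scheme.{u}} [IsAffine U]
    [IsAffine V] (h : U ⟶ V) (Z : Set U) (hZ : IsClosed Z)
    (H : StableUnderSpecialization (h '' Z)) : IsClosed (h '' Z) := by
  have hnat := Scheme.isoSpec_hom_naturality h
  -- the closed set transported to `Spec Γ(U)`
  let Z₁ : Set (Spec Γ(U, ⊤)) := U.isoSpec.hom '' Z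
  have hZ₁ : IsClosed Z₁ := (Scheme.Hom.homeomorph U.isoSpec.hom).isClosedMap _ hZ
  have himg : (Spec.map h.appTop) '' Z₁ = V.isoSpec.hom '' (h '' Z) := by
    ext p
    constructor
    · rintro ⟨_, ⟨z, hz, rfl⟩, rfl⟩
      refine ⟨h z, ⟨z, hz, rfl⟩, ?_⟩
      rw [← Scheme.Hom.comp_apply, ← Scheme.Hom.comp_apply, hnat]
    · rintro ⟨_, ⟨z, hz, rfl⟩, rfl⟩
      refine ⟨U.isoSpec.hom z, ⟨z, hz, rfl⟩, ?_⟩
      rw [← Scheme.Hom.comp_apply, ← Scheme.Hom.comp_apply, hnat]
  have hst : StableUnderSpecialization ((Spec.map h.appTop) '' Z₁) := by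
    rw [himg]
    intro p q hpq hp
    obtain ⟨v, hv, rfl⟩ := hp
    obtain ⟨v', rfl⟩ : ∃ v', V.isoSpec.hom v' = q := (Scheme.Hom.homeomorph V.isoSpec.hom).surjective q
    have : v ⤳ v' := V.isoSpec.hom.isOpenEmbedding.isInducing.specializes_iff.1 hpq
    exact ⟨v', H this hv, rfl⟩
  have hcl : IsClosed ((Spec.map h.appTop) '' Z₁) :=
    PrimeSpectrum.isClosed_image_of_stableUnderSpecialization h.appTop.hom Z₁ hZ₁ hst
  rw [himg] at hcl
  have := hcl.preimage V.isoSpec.hom.continuous
  rwa [Set.preimage_image_eq _ V.isoSpec.hom.isOpenEmbedding.injective] at this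

open IsLocalRing in
set_option backward.isDefEq.respectTransparency.types false in
/-- A specialization of the image of a point is the image of the closed point of a valuative
square whose generic point maps to the given point. -/
theorem exists_valuativeCommSq_of_specializes {U₀ V₀ : Scheme.{u}} (f₀ : U₀ ⟶ V₀) (r : U₀) (v' : V₀)
    (hspec : f₀ r ⤳ v') :
    ∃ Sq : ValuativeCommSq f₀, (∀ x, Sq.i₁ x = r) ∧ Sq.i₂ (closedPoint Sq.R) = v' := by
  let φ₀ : V₀.presheaf.stalk v' ⟶ U₀.residueField r :=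
    V₀.presheaf.stalkSpecializes hspec ≫ f₀.stalkMap r ≫ U₀.residue r
  obtain ⟨A, hA, hA_local⟩ := exists_factor_valuationRing φ₀.hom
  let toA : V₀.presheaf.stalk v' ⟶ .of A :=
    CommRingCat.ofHom (φ₀.hom.codRestrict _ hA)
  have w : U₀.fromSpecResidueField r ≫ f₀ =
      Spec.map (CommRingCat.ofHom (algebraMap A (U₀.residueField r))) ≫
        Spec.map toA ≫ V₀.fromSpecStalk v' := by
    rw [Scheme.fromSpecResidueField, Category.assoc, ← Scheme.SpecMap_stalkMap_fromSpecStalk,
      ← Scheme.SpecMap_stalkSpecializes_fromSpecStalk hspec]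
    simp_rw [← Spec.map_comp_assoc]
    rfl
  refine ⟨{ R := A, K := U₀.residueField r, commSq := ⟨w⟩, .. }, ?_, ?_⟩
  · intro x
    exact Scheme.fromSpecResidueField_apply _ _
  · change (V₀.fromSpecStalk v') ((Spec.map toA) (closedPoint A)) = v'
    have h5 : Spec.map toA (closedPoint A) = closedPoint (V₀.presheaf.stalk v') :=
      comap_closedPoint (S := A) (φ₀.hom.codRestrict A.toSubring hA)
    rw [h5, Scheme.fromSpecStalk_closedPoint]

theorem mem_closed_of_specializes_ofPt {P : Sp S} {T₀ T₁ : Over S} (m : (yon S).obj T₀ ⟶ P)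
    (c : T₁ ⟶ T₀) (t₁ : ↥T₁.left) (t' : ↥T₀.left) (hsp : c.left t₁ ⤳ t')
    (T : Set (Points P)) (hT : IsClosed T) (hmem : Points.ofPt ((yon S).map c ≫ m) t₁ ∈ T) :
    Points.ofPt m t' ∈ T := by
  rw [ofPt_yon_map_comp] at hmem
  exact (hsp.map (Points.continuous_ofPt m)).mem_closed hT hmem

theorem ofPt_yon_map_comp₂ {P : Sp S} {T₀ T₁ T₂ : Over S} (a : (yon S).obj T₀ ⟶ P)
    (c₂ : T₁ ⟶ T₀) (c₁ : T₂ ⟶ T₁) (t : ↥T₂.left) :
    Points.ofPt ((yon S).map c₁ ≫ (yon S).map c₂ ≫ a) t = Points.ofPt a (c₂.left (c₁.left t)) := by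
  rw [ofPt_yon_map_comp, ofPt_yon_map_comp]

theorem ofPt_yon_map_comp_yon_map {T₀ T₁ T₂ : Over S}
    (c₂ : T₁ ⟶ T₀) (c₁ : T₂ ⟶ T₁) (t : ↥T₂.left) :
    Points.ofPt ((yon S).map c₁ ≫ (yon S).map c₂) t = Points.ofScheme T₀ (c₂.left (c₁.left t)) := by
  have h3 : (yon S).map c₂ = (yon S).map c₂ ≫ 𝟙 _ := (Category.comp_id _).symm
  rw [h3, ofPt_yon_map_comp₂]

open IsLocalRing in
/-- Key step: the existence part of the valuative criterion lifts specializations, for a
morphism to a scheme with a chart `a`. -/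
theorem exists_specialization_of_existVC {P : Sp S} {U V : Over S}
    (snd : P ⟶ (yon S).obj V) (he : ExistVC snd) (a : (yon S).obj U ⟶ P) (h : U ⟶ V)
    (hh : (yon S).map h = a ≫ snd) (r : ↥U.left) (v' : ↥V.left) (hspec : h.left r ⤳ v')
    (T : Set (Points P)) (hT : IsClosed T) (hr : Points.ofPt a r ∈ T) :
    ∃ x' ∈ T, Points.map snd x' = Points.ofScheme V v' := by
  obtain ⟨Sq, hSq1, hSq2⟩ := exists_valuativeCommSq_of_specializes h.left r v' hspec
  let str : Spec (CommRingCat.of Sq.R) ⟶ S := Sq.i₂ ≫ V.hom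
  have hκ : Sq.i₁ ≫ U.hom = Spec.map (CommRingCat.ofHom (algebraMap Sq.R Sq.K)) ≫ str := by
    rw [← Over.w h, ← Category.assoc, Sq.commSq.w, Category.assoc]
  let κO : Over.mk (Spec.map (CommRingCat.ofHom (algebraMap Sq.R Sq.K)) ≫ str) ⟶ U :=
    Over.homMk Sq.i₁ hκ
  let botO : Over.mk str ⟶ V := Over.homMk Sq.i₂ rfl
  let jO : Over.mk (Spec.map (CommRingCat.ofHom (algebraMap Sq.R Sq.K)) ≫ str) ⟶ Over.mk str :=
    Over.homMk (Spec.map (CommRingCat.ofHom (algebraMap Sq.R Sq.K))) rfl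
  have hcomm : κO ≫ h = jO ≫ botO := by
    apply Over.OverMorphism.ext
    exact Sq.commSq.w
  let sqV : ValSq snd :=
    { A := Sq.R, K := Sq.K, str := str,
      top := (yon S).map κO ≫ a,
      bot := (yon S).map botO,
      comm := by
        rw [Category.assoc, ← hh, ← Functor.map_comp, hcomm, Functor.map_comp] }
  obtain ⟨e, l, hl1, hl2⟩ := he sqV
  refine ⟨Points.ofPt l (closedPoint e.A'), ?_, ?_⟩
  · refine mem_closed_of_specializes_ofPt (T₀ := e.ptA') (T₁ := e.ptK') l
      (Over.homMk (Spec.map (CommRingCat.ofHom (algebraMap e.A' e.K'))) rfl) (closedPoint e.K')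
      (closedPoint e.A') (specializes_closedPoint _) T hT ?_
    rw [hl1]
    have := ofPt_yon_map_comp₂ a κO (Over.homMk (Spec.map (CommRingCat.ofHom e.ψ)) (by
          change Spec.map _ ≫ Spec.map _ ≫ _ = Spec.map _ ≫ Spec.map _ ≫ _
          rw [← Spec.map_comp_assoc, ← Spec.map_comp_assoc, ← CommRingCat.ofHom_comp,
            ← CommRingCat.ofHom_comp, e.comm]) : e.ptK' ⟶ sqV.ptK) (closedPoint e.K')
    rw [this]
    have h2 : κO.left ((Over.homMk (Spec.map (CommRingCat.ofHom e.ψ)) (by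
          change Spec.map _ ≫ Spec.map _ ≫ _ = Spec.map _ ≫ Spec.map _ ≫ _
          rw [← Spec.map_comp_assoc, ← Spec.map_comp_assoc, ← CommRingCat.ofHom_comp,
            ← CommRingCat.ofHom_comp, e.comm]) : e.ptK' ⟶ sqV.ptK).left (closedPoint e.K')) = r :=
      hSq1 _
    rw [h2]
    exact hr
  · rw [Points.map_ofPt, hl2]
    have key := ofPt_yon_map_comp_yon_map botO
      (Over.homMk (Spec.map (CommRingCat.ofHom e.φ)) rfl : e.ptA' ⟶ sqV.ptA) (closedPoint e.A')
    haveI := e.isLocalHom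
    have h4 : (Spec.map (CommRingCat.ofHom e.φ)) (closedPoint e.A') = closedPoint Sq.R :=
      comap_closedPoint e.φ
    change _ = Points.ofScheme V (Sq.i₂ ((Spec.map (CommRingCat.ofHom e.φ)) (closedPoint e.A'))) at key
    rw [h4, hSq2] at key
    exact key

theorem ofPt_yon_map {T₀ T₁ : Over S} (c : T₁ ⟶ T₀) (t : ↥T₁.left) :
    Points.ofPt ((yon S).map c) t = Points.ofScheme T₀ (c.left t) := by
  have h3 : (yon S).map c = (yon S).map c ≫ 𝟙 _ := (Category.comp_id _).symm
  rw [h3, ofPt_yon_map_comp]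

/-- A quasi-compact algebraic space over an affine scheme satisfying the existence part of the
valuative criterion is closed over it. -/
theorem isClosedMap_points_of_existVC {P : Sp S} (hP : IsAlgSpace P) {V : Over S}
    [IsAffine V.left] (snd : P ⟶ (yon S).obj V) (hq : IsQuasiCompactSp P) (he : ExistVC snd) :
    IsClosedMap (Points.map snd) := by
  obtain ⟨U, a, hU, hae, has⟩ := (isQuasiCompactSp_iff_exists_affine_chart hP).mp hq
  obtain ⟨h, hh⟩ := (yon S).map_surjective (a ≫ snd)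
  have hkey : ∀ r : ↥U.left, Points.map snd (Points.ofPt a r) = Points.ofScheme V (h.left r) := by
    intro r
    rw [Points.map_ofPt, ← hh, ofPt_yon_map]
  intro T hT
  have hT' : IsClosed (Points.ofPt a ⁻¹' T) := hT.preimage (Points.continuous_ofPt a)
  have himg : Points.map snd '' T = Points.ofScheme V '' (h.left '' (Points.ofPt a ⁻¹' T)) := by
    ext y
    constructor
    · rintro ⟨x, hx, rfl⟩
      obtain ⟨r, rfl⟩ := surjective_ofPt a has x
      exact ⟨h.left r, ⟨r, hx, rfl⟩, (hkey r).symm⟩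
    · rintro ⟨_, ⟨r, hr, rfl⟩, rfl⟩
      exact ⟨Points.ofPt a r, hr, hkey r⟩
  rw [himg]
  refine (Points.schemeHomeo V).isClosedMap _ ?_
  haveI := hU
  apply isClosed_image_of_stableUnderSpecialization_of_isAffine h.left _ hT'
  rintro v v' hvv' ⟨r, hr, rfl⟩
  obtain ⟨x', hx'T, hx'⟩ := exists_specialization_of_existVC snd he a h hh r v' hvv' T hT hr
  obtain ⟨r', rfl⟩ := surjective_ofPt a has x'
  refine ⟨r', hx'T, ?_⟩
  have : Points.ofScheme V (h.left r') = Points.ofScheme V v' := by rw [← hx', hkey]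
  exact (Points.schemeEquiv V).injective this

/-- A quasi-compact morphism satisfying the existence part of the valuative criterion is
universally closed. -/
theorem isUnivClosedMor_of_existVC {X Y : Sp S} (hX : IsAlgSpace X) (hY : IsAlgSpace Y) (f : X ⟶ Y)
    (hq : IsQuasiCompactMor f) (he : ExistVC f) : IsUnivClosedMor f := by
  refine isUnivClosedMor_of_affine f fun V hV g P fst snd sq => ?_
  have hP : IsAlgSpace P := isAlgSpace_of_isPullback hY.diag hX (IsAlgSpace.yon_obj V) f g fst snd sq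
  have hPq : IsQuasiCompactSp P :=
    hq (IsAlgSpace.yon_obj V) ((isQuasiCompactSp_yon_iff V).2 inferInstance) g fst snd sq
  exact isClosedMap_points_of_existVC hP snd hPq (existVC_of_isPullback f g fst snd sq he)

end Groth.Agent.Helper2.AlgSpBasic
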