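import Mathlib
import Groth.Agent.Lib.Helper2.AlgSp.FiniteMor
import Groth.Agent.Lib.Helper2.AlgSp.Valuative
import Groth.Agent.Lib.Helper2.AlgSp.GeomPoint
namespace Groth.Agent.Helper2.AlgSpBasic
open CategoryTheory CategoryTheory.Limits AlgebraicGeometry Opposite AlgSp Topology
open Groth.Agent.Helper2.AlgStLib Groth.Agent.Helper2.EtaleLocal
open IsLocalRing
universe u
variable {S : Scheme.{u}}

section

variable {A K : Type u} [CommRing A] [IsDomain A] [ValuationRing A] [Field K] [Algebra A K]
  [IsFractionRing A K]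

/-- Topological step: over the spectrum of a valuation ring, for a closed map `snd`, some point
of the (finite) fibre `T` of the chart `U` over the generic point specializes to a point of `U`
over the closed point. -/
theorem exists_chart_specialization_over_closedPoint {P : Sp S}
    (str : Spec (CommRingCat.of A) ⟶ S)
    (snd : P ⟶ (yon S).obj (Over.mk str)) (hcl : IsClosedMap (Points.map snd))
    (top : (yon S).obj (Over.mk (Spec.map (CommRingCat.ofHom (algebraMap A K)) ≫ str)) ⟶ P)
    (comm : top ≫ snd =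
      (yon S).map (Over.homMk (Spec.map (CommRingCat.ofHom (algebraMap A K))) rfl :
        Over.mk (Spec.map (CommRingCat.ofHom (algebraMap A K)) ≫ str) ⟶ Over.mk str))
    {U T : Over S} (a : (yon S).obj U ⟶ P) (hae : RepWith @Etale a) (has : RepWith @Surjective a)
    (h : U ⟶ Over.mk str) (hh : (yon S).map h = a ≫ snd)
    (c : T ⟶ U) (d : T ⟶ Over.mk (Spec.map (CommRingCat.ofHom (algebraMap A K)) ≫ str))
    (sqT : IsPullback ((yon S).map c) ((yon S).map d) a top) [Finite ↥T.left] :
    ∃ (t : ↥T.left) (u' : ↥U.left), c.left t ⤳ u' ∧ h.left u' = closedPoint A := by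
  let ptK : Over S := Over.mk (Spec.map (CommRingCat.ofHom (algebraMap A K)) ≫ str)
  let ptA : Over S := Over.mk str
  let j : ptK ⟶ ptA := Over.homMk (Spec.map (CommRingCat.ofHom (algebraMap A K))) rfl
  let η : ↥ptK.left := closedPoint K
  let x : Points P := Points.ofPt top η
  have hx : Points.map snd x = Points.ofScheme ptA (j.left η) := by
    rw [Points.map_ofPt, comm, ofPt_yon_map]
  have hsp : j.left η ⤳ (closedPoint A : ↥ptA.left) := specializes_closedPoint _
  have hmem : Points.ofScheme ptA (closedPoint A) ∈ Points.map snd '' closure {x} := by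
    refine (hsp.map (Points.continuous_ofPt (𝟙 _))).mem_closed (hcl _ isClosed_closure) ?_
    exact ⟨x, subset_closure rfl, hx⟩
  obtain ⟨x', hx'c, hx'⟩ := hmem
  obtain ⟨u', hu'⟩ := surjective_ofPt a has x'
  have hu'A : h.left u' = closedPoint A := by
    have h1 : Points.map snd (Points.ofPt a u') = Points.ofScheme ptA (h.left u') := by
      rw [Points.map_ofPt, ← hh, ofPt_yon_map]
    rw [hu', hx'] at h1
    have h2 := congrArg (Points.toScheme ptA) h1
    rw [Points.toScheme_ofScheme, Points.toScheme_ofScheme] at h2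
    exact h2.symm
  -- the fibre of `ofPt a` over `x` is the range of `c`
  have hfib : Points.ofPt a ⁻¹' {x} = Set.range c.left := by
    ext u
    constructor
    · intro hu
      obtain ⟨w, hw1, -⟩ := exists_point_of_isPullback_yon a top c d sqT u η hu
      exact ⟨w, hw1⟩
    · rintro ⟨w, rfl⟩
      show Points.ofPt a (c.left w) = Points.ofPt top η
      rw [← ofPt_yon_map_comp, sqT.w, ofPt_yon_map_comp]
      congr 1
      exact Subsingleton.elim (α := PrimeSpectrum K) _ _
  have hu'c : u' ∈ closure (Set.range c.left) := by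
    rw [← hfib, ← (isOpenMap_ofPt a hae).preimage_closure_eq_closure_preimage
      (Points.continuous_ofPt a)]
    show Points.ofPt a u' ∈ closure {x}
    rw [hu']
    exact hx'c
  have hrange : Set.range c.left = ⋃ t : ↥T.left, {c.left t} := by
    ext u
    simp only [Set.mem_range, Set.mem_iUnion, Set.mem_singleton_iff]
    exact ⟨fun ⟨t, ht⟩ => ⟨t, ht.symm⟩, fun ⟨t, ht⟩ => ⟨t, ht.symm⟩⟩
  rw [hrange, closure_iUnion_of_finite] at hu'c
  obtain ⟨t, ht⟩ := Set.mem_iUnion.1 hu'c
  exact ⟨t, u', specializes_iff_mem_closure.2 ht, hu'A⟩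


/-- Existence of lifts after a dominating extension, over the spectrum of the valuation ring. -/
theorem hasLiftExt_of_bot_id {P : Sp S} (hP : IsAlgSpace P)
    (str : Spec (CommRingCat.of A) ⟶ S)
    (snd : P ⟶ (yon S).obj (Over.mk str)) (huc : IsUnivClosedMor snd)
    (hqs : IsQuasiSeparatedMor snd)
    (top : (yon S).obj (Over.mk (Spec.map (CommRingCat.ofHom (algebraMap A K)) ≫ str)) ⟶ P)
    (comm : top ≫ snd =
      (yon S).map (Over.homMk (Spec.map (CommRingCat.ofHom (algebraMap A K))) rfl :
        Over.mk (Spec.map (CommRingCat.ofHom (algebraMap A K)) ≫ str) ⟶ Over.mk str) ≫ 𝟙 _) :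
    ({ A := A, K := K, str := str, top := top, bot := 𝟙 _, comm := comm } : ValSq snd).HasLiftExt := by
  let ptK : Over S := Over.mk (Spec.map (CommRingCat.ofHom (algebraMap A K)) ≫ str)
  let ptA : Over S := Over.mk str
  let j : ptK ⟶ ptA := Over.homMk (Spec.map (CommRingCat.ofHom (algebraMap A K))) rfl
  have comm' : top ≫ snd = (yon S).map j := by rw [comm, Category.comp_id]
  haveI : IsAffine ptA.left := (inferInstance : IsAffine (Spec (CommRingCat.of A)))
  haveI : CompactSpace (Points P) := compactSpace_points_of_isUnivClosedMor_affine hP snd huc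
  have hq : IsQuasiCompactSp P := (isQuasiCompactSp_iff_compactSpace_points hP).2 inferInstance
  obtain ⟨U, a, hU, hae, has⟩ := (isQuasiCompactSp_iff_exists_affine_chart hP).mp hq
  obtain ⟨h, hh⟩ := (yon S).map_surjective (a ≫ snd)
  have hcl : IsClosedMap (Points.map snd) :=
    isClosedMap_of_isUnivClosedMor (IsAlgSpace.yon_obj ptA) snd huc
  have hjqc : IsQuasiCompactMor ((yon S).map j) :=
    isQuasiCompactMor_of_repWith (IsAlgSpace.yon_obj ptK) (IsAlgSpace.yon_obj ptA).diag _
      ((repWith_yon_map_iff _ _).2 (show QuasiCompact j.left from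
        (inferInstance : QuasiCompact (Spec.map (CommRingCat.ofHom (algebraMap A K))))))
  have htopqc : IsQuasiCompactMor top :=
    isQuasiCompactMor_of_comp_of_isQuasiSeparatedMor (IsAlgSpace.yon_obj ptK) hP
      (IsAlgSpace.yon_obj ptA) top snd (by rw [comm']; exact hjqc) hqs
  have hrep := hae.rep
  obtain ⟨c, hc⟩ := (yon S).map_surjective (hrep.fst top)
  let T : Over S := hrep.pullback top
  let d : T ⟶ ptK := hrep.snd top
  have sqT : IsPullback ((yon S).map c) ((yon S).map d) a top := by
    rw [hc]; exact hrep.isPullback top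
  have := hU
  have hTq : IsQuasiCompactSp ((yon S).obj T) :=
    htopqc (IsAlgSpace.yon_obj U) ((isQuasiCompactSp_yon_iff U).2 inferInstance) a _ _ sqT.flip
  haveI : CompactSpace ↥T.left := (isQuasiCompactSp_yon_iff T).1 hTq
  haveI hde : Etale d.left := hae.property top _ _ (hrep.isPullback top)
  let dd : T.left ⟶ Spec (CommRingCat.of K) := d.left
  haveI : Etale dd := hde
  haveI : DiscreteTopology ↥T.left := discreteTopology_of_etale_field dd
  haveI : Finite ↥T.left := finite_of_compact_of_discrete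
  obtain ⟨t, u', hsp, hu'A⟩ :=
    exists_chart_specialization_over_closedPoint str snd hcl top comm' a hae has h hh c d sqT
  obtain ⟨Sq, hSq1, hSq2⟩ := exists_valuativeCommSq_of_specializes c.left t u' hsp
  let hl : U.left ⟶ Spec (CommRingCat.of A) := h.left
  let φ : A →+* Sq.R := (Spec.preimage (Sq.i₂ ≫ hl)).hom
  let ψ : K →+* Sq.K := (Spec.preimage (Sq.i₁ ≫ dd)).hom
  have hφ : Spec.map (CommRingCat.ofHom φ) = Sq.i₂ ≫ hl := Spec.map_preimage _
  have hψ : Spec.map (CommRingCat.ofHom ψ) = Sq.i₁ ≫ dd := Spec.map_preimage _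
  have hcd : c ≫ h = d ≫ j := (yon S).map_injective (by
    rw [Functor.map_comp, Functor.map_comp, hh, ← Category.assoc, sqT.w, Category.assoc, comm'])
  have hcd' : c.left ≫ hl = dd ≫ Spec.map (CommRingCat.ofHom (algebraMap A K)) :=
    congrArg (fun m => m.left) hcd
  have hcomm : (algebraMap Sq.R Sq.K).comp φ = ψ.comp (algebraMap A K) := by
    have h1 : Spec.map (CommRingCat.ofHom ((algebraMap Sq.R Sq.K).comp φ)) =
        Spec.map (CommRingCat.ofHom (ψ.comp (algebraMap A K))) := by
      rw [CommRingCat.ofHom_comp, CommRingCat.ofHom_comp, Spec.map_comp, Spec.map_comp, hφ, hψ,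
        ← Category.assoc, ← Sq.commSq.w, Category.assoc, Category.assoc, hcd']
    have h2 := Spec.map_injective h1
    exact congrArg CommRingCat.Hom.hom h2
  have hloc : IsLocalHom φ := by
    rw [isLocalHom_iff_comap_closedPoint]
    have h1 : (Spec.map (CommRingCat.ofHom φ)) (closedPoint Sq.R) = closedPoint A := by
      rw [hφ, Scheme.Hom.comp_apply, hSq2]
      exact hu'A
    exact h1
  have hi₂ : Sq.i₂ ≫ U.hom = Spec.map (CommRingCat.ofHom φ) ≫ str := by
    rw [hφ, Category.assoc]
    congr 1
    exact (Over.w h).symm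
  have hi₁ : Sq.i₁ ≫ T.hom = Spec.map (CommRingCat.ofHom (algebraMap Sq.R Sq.K)) ≫
      Spec.map (CommRingCat.ofHom φ) ≫ str := by
    rw [← hi₂, ← Category.assoc, ← Sq.commSq.w, Category.assoc, Over.w c]
  let ptA' : Over S := Over.mk (Spec.map (CommRingCat.ofHom φ) ≫ str)
  let ptK' : Over S := Over.mk (Spec.map (CommRingCat.ofHom (algebraMap Sq.R Sq.K)) ≫
      Spec.map (CommRingCat.ofHom φ) ≫ str)
  let i₂O : ptA' ⟶ U := Over.homMk Sq.i₂ hi₂
  let i₁O : ptK' ⟶ T := Over.homMk Sq.i₁ hi₁
  let jK' : ptK' ⟶ ptA' := Over.homMk (Spec.map (CommRingCat.ofHom (algebraMap Sq.R Sq.K))) rfl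
  let ψO : ptK' ⟶ ptK := Over.homMk (Spec.map (CommRingCat.ofHom ψ)) (by
    change Spec.map _ ≫ Spec.map _ ≫ _ = Spec.map _ ≫ Spec.map _ ≫ _
    rw [← Spec.map_comp_assoc, ← Spec.map_comp_assoc, ← CommRingCat.ofHom_comp,
      ← CommRingCat.ofHom_comp, hcomm])
  let φO : ptA' ⟶ ptA := Over.homMk (Spec.map (CommRingCat.ofHom φ)) rfl
  have e1 : jK' ≫ i₂O = i₁O ≫ c := Over.OverMorphism.ext Sq.commSq.w.symm
  have e2 : ψO = i₁O ≫ d := Over.OverMorphism.ext hψ
  have e3 : i₂O ≫ h = φO := Over.OverMorphism.ext hφ.symm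
  have g1 : (yon S).map jK' ≫ (yon S).map i₂O ≫ a = (yon S).map ψO ≫ top := by
    rw [← Category.assoc, ← Functor.map_comp, e1, Functor.map_comp, Category.assoc, sqT.w,
      ← Category.assoc, ← Functor.map_comp, ← e2]
  have g2 : ((yon S).map i₂O ≫ a) ≫ snd = (yon S).map φO ≫ 𝟙 _ := by
    rw [Category.assoc, ← hh, ← Functor.map_comp, e3, Category.comp_id]
  exact ⟨{ A' := Sq.R, K' := Sq.K, φ := φ, ψ := ψ, comm := hcomm, isLocalHom := hloc },
    (yon S).map i₂O ≫ a, g1, g2⟩

end

/-- A quasi-separated universally closed morphism satisfies the existence part of the valuative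
criterion. -/
theorem existVC_of_isQuasiSeparatedMor_of_isUnivClosedMor {X Y : Sp S} (hX : IsAlgSpace X)
    (hY : IsAlgSpace Y) (f : X ⟶ Y) (hqs : IsQuasiSeparatedMor f) (hc : IsUnivClosedMor f) :
    ExistVC f := by
  intro sq
  have sqP := IsPullback.of_hasPullback f sq.bot
  have hP : IsAlgSpace (pullback f sq.bot) :=
    isAlgSpace_of_isPullback hY.diag hX (IsAlgSpace.yon_obj _) f sq.bot _ _ sqP
  have huc : IsUnivClosedMor (pullback.snd f sq.bot) := univSp_of_isPullback' IsClosedMor sqP hc
  have hqs' : IsQuasiSeparatedMor (pullback.snd f sq.bot) :=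
    repWith_diagonal_of_isPullback @QuasiCompact sqP hqs
  let top' : (yon S).obj sq.ptK ⟶ pullback f sq.bot :=
    pullback.lift sq.top ((yon S).map sq.j) sq.comm
  have comm' : top' ≫ pullback.snd f sq.bot = (yon S).map sq.j ≫ 𝟙 _ := by
    rw [Category.comp_id]; exact pullback.lift_snd _ _ _
  obtain ⟨e', l', hl1, hl2⟩ :=
    hasLiftExt_of_bot_id (A := sq.A) (K := sq.K) hP sq.str (pullback.snd f sq.bot) huc hqs' top' comm'
  let e : sq.DomExt :=
    { A' := e'.A', K' := e'.K', φ := e'.φ, ψ := e'.ψ, comm := e'.comm, isLocalHom := e'.isLocalHom }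
  refine ⟨e, l' ≫ pullback.fst f sq.bot, ?_, ?_⟩
  · have h3 := congrArg (· ≫ pullback.fst f sq.bot) hl1
    simp only [Category.assoc] at h3
    rw [h3]
    congr 1
    exact pullback.lift_fst _ _ _
  · rw [Category.assoc, pullback.condition, ← Category.assoc, hl2, Category.assoc,
      Category.id_comp]

end Groth.Agent.Helper2.AlgSpBasic
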