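import Mathlib
namespace Groth.Agent.Helper2.AlgSpBasic
open CategoryTheory CategoryTheory.Limits AlgebraicGeometry Opposite Topology
open IsLocalRing
universe u

/-- Finite residue field extensions for formally unramified morphisms locally of finite type. -/
theorem finite_residueField_of_formallyUnramified {X Y : Scheme.{u}} (f : X ⟶ Y)
    [FormallyUnramified f] [LocallyOfFiniteType f] (x : X) :
    letI : Algebra (Y.residueField (f x)) (X.residueField x) :=
      (f.residueFieldMap x).hom.toAlgebra
    Module.Finite (Y.residueField (f x)) (X.residueField x) := by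
  algebraize [(f.stalkMap x).hom]
  have : IsLocalHom (algebraMap (Y.presheaf.stalk (f x)) (X.presheaf.stalk x)) :=
    inferInstanceAs <| IsLocalHom (f.stalkMap x).hom
  suffices h : Module.Finite
      (IsLocalRing.ResidueField <| Y.presheaf.stalk (f x))
      (IsLocalRing.ResidueField <| X.presheaf.stalk x) by
    have e : (f.residueFieldMap x).hom.toAlgebra =
        (inferInstance : Algebra (IsLocalRing.ResidueField (Y.presheaf.stalk (f x)))
          (IsLocalRing.ResidueField (X.presheaf.stalk x))) := by
      refine Algebra.algebra_ext _ _ fun x ↦ ?_
      obtain ⟨x, rfl⟩ := IsLocalRing.residue_surjective x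
      rfl
    show @Module.Finite (Y.residueField (f x)) (X.residueField x) _ _
      (f.residueFieldMap x).hom.toAlgebra.toModule
    rw [e]
    exact h
  have : Algebra.EssFiniteType (Y.presheaf.stalk (f x)) (X.presheaf.stalk x) := by
    rw [← RingHom.essFiniteType_algebraMap, RingHom.algebraMap_toAlgebra]
    exact LocallyOfFiniteType.stalkMap f x
  have : Algebra.FormallyUnramified (Y.presheaf.stalk (f x)) (X.presheaf.stalk x) := by
    rw [← RingHom.formallyUnramified_algebraMap, RingHom.algebraMap_toAlgebra]
    exact FormallyUnramified.stalkMap f x
  infer_instance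

/-- For a field `K`, the canonical map `K ⟶ κ(y)` at a point of `Spec K` is bijective. -/
theorem bijective_preimage_fromSpecResidueField {K : Type u} [Field K]
    (y : Spec (CommRingCat.of K)) :
    Function.Bijective
      (Spec.preimage ((Spec (CommRingCat.of K)).fromSpecResidueField y)).hom := by
  have hmax : y.asIdeal.IsMaximal := by
    have : y.asIdeal = ⊥ := Ideal.eq_bot_of_prime _
    rw [this]; exact Ideal.bot_isMaximal
  have h1 := Scheme.Spec.map_residueFieldIso_inv_eq_fromSpecResidueField (CommRingCat.of K) y
  rw [← Spec.map_comp] at h1
  have h2 : Spec.preimage ((Spec (CommRingCat.of K)).fromSpecResidueField y) =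
      CommRingCat.ofHom (algebraMap K y.asIdeal.ResidueField) ≫
        (Scheme.Spec.residueFieldIso (CommRingCat.of K) y).inv := by
    apply Spec.map_injective
    rw [Spec.map_preimage, h1]
  rw [h2]
  have h3 : Function.Bijective (algebraMap K y.asIdeal.ResidueField) :=
    ⟨(algebraMap K y.asIdeal.ResidueField).injective, Ideal.algebraMap_residueField_surjective _⟩
  have h4 : Function.Bijective (Scheme.Spec.residueFieldIso (CommRingCat.of K) y).inv.hom :=
    ConcreteCategory.bijective_of_isIso _
  exact h4.comp h3

/-- For a formally unramified morphism locally of finite type to the spectrum of a field, the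
residue fields of the source are finite separable over the field. -/
theorem finite_separable_residueField_over_field {K : Type u} [Field K] {T : Scheme.{u}}
    (d : T ⟶ Spec (CommRingCat.of K)) [FormallyUnramified d] [LocallyOfFiniteType d] (t : T) :
    letI : Algebra K (T.residueField t) :=
      (Spec.preimage (T.fromSpecResidueField t ≫ d)).hom.toAlgebra
    Module.Finite K (T.residueField t) ∧ Algebra.IsSeparable K (T.residueField t) := by
  let alg1 : Algebra ((Spec (CommRingCat.of K)).residueField (d t)) (T.residueField t) :=
    (d.residueFieldMap t).hom.toAlgebra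
  let alg2 : Algebra K (T.residueField t) :=
    (Spec.preimage (T.fromSpecResidueField t ≫ d)).hom.toAlgebra
  have hfin : Module.Finite ((Spec (CommRingCat.of K)).residueField (d t)) (T.residueField t) :=
    finite_residueField_of_formallyUnramified d t
  have hsep : Algebra.IsSeparable ((Spec (CommRingCat.of K)).residueField (d t))
      (T.residueField t) := inferInstance
  let ι := (Spec.preimage ((Spec (CommRingCat.of K)).fromSpecResidueField (d t))).hom
  let e₁ : K ≃+* (Spec (CommRingCat.of K)).residueField (d t) :=
    RingEquiv.ofBijective ι (bijective_preimage_fromSpecResidueField (d t))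
  have hcomp : Spec.preimage (T.fromSpecResidueField t ≫ d) =
      Spec.preimage ((Spec (CommRingCat.of K)).fromSpecResidueField (d t)) ≫
        d.residueFieldMap t := by
    apply Spec.map_injective
    rw [Spec.map_preimage, Spec.map_comp, Spec.map_preimage,
      Scheme.Hom.SpecMap_residueFieldMap_fromSpecResidueField]
  have he : RingHom.comp (algebraMap K (T.residueField t)) (e₁.symm : _ →+* K) =
      RingHom.comp (RingEquiv.refl (T.residueField t) : _ →+* _)
        (algebraMap ((Spec (CommRingCat.of K)).residueField (d t)) (T.residueField t)) := by
    ext z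
    obtain ⟨w, rfl⟩ := e₁.surjective z
    simp only [RingHom.coe_comp, RingHom.coe_coe, Function.comp_apply,
      RingEquiv.symm_apply_apply, RingEquiv.refl_apply]
    show (Spec.preimage (T.fromSpecResidueField t ≫ d)).hom w = (d.residueFieldMap t).hom (ι w)
    rw [hcomp]
    rfl
  exact ⟨Module.Finite.of_equiv_equiv e₁.symm (RingEquiv.refl _) he,
    Algebra.IsSeparable.of_equiv_equiv e₁.symm (RingEquiv.refl _) he⟩

end Groth.Agent.Helper2.AlgSpBasic
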