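import Mathlib
import Groth.Agent.Lib.Helper2.AlgSp.ExistVC
import Groth.Agent.Lib.Helper2.AlgSp.ResidueSep
namespace Groth.Agent.Helper2.AlgSpBasic
open CategoryTheory CategoryTheory.Limits AlgebraicGeometry Opposite AlgSp Topology
open Groth.Agent.Helper2.AlgStLib Groth.Agent.Helper2.EtaleLocal
open IsLocalRing
universe u
variable {S : Scheme.{u}}

set_option backward.isDefEq.respectTransparency.types false in
/-- A specialization of the image of a point `r` is the image of the closed point of a valuation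
subring of the residue field of `r`. -/
theorem exists_valuationSubring_of_specializes {U₀ V₀ : Scheme.{u}} (f₀ : U₀ ⟶ V₀) (r : U₀)
    (v' : V₀) (hspec : f₀ r ⤳ v') :
    ∃ (R : ValuationSubring (U₀.residueField r)) (i₂ : Spec (CommRingCat.of R) ⟶ V₀),
      U₀.fromSpecResidueField r ≫ f₀ =
        Spec.map (CommRingCat.ofHom (algebraMap R (U₀.residueField r))) ≫ i₂ ∧
      i₂ (closedPoint R) = v' := by
  let φ₀ : V₀.presheaf.stalk v' ⟶ U₀.residueField r :=
    V₀.presheaf.stalkSpecializes hspec ≫ f₀.stalkMap r ≫ U₀.residue r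
  obtain ⟨A, hA, hA_local⟩ := exists_factor_valuationRing φ₀.hom
  let toA : V₀.presheaf.stalk v' ⟶ .of A :=
    CommRingCat.ofHom (φ₀.hom.codRestrict _ hA)
  have w : U₀.fromSpecResidueField r ≫ f₀ =
      Spec.map (CommRingCat.ofHom (algebraMap A (U₀.residueField r))) ≫
        Spec.map toA ≫ V₀.fromSpecStalk v' := by
    rw [Scheme.fromSpecResidueField, Category.assoc, ← Scheme.SpecMap_stalkMap_fromSpecStalk,
      ← Scheme.SpecMap_stalkSpecializes_fromSpecStalk hspec]
    simp_rw [← Spec.map_comp_assoc]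
    rfl
  refine ⟨A, Spec.map toA ≫ V₀.fromSpecStalk v', w, ?_⟩
  change (V₀.fromSpecStalk v') ((Spec.map toA) (closedPoint A)) = v'
  have h5 : Spec.map toA (closedPoint A) = closedPoint (V₀.presheaf.stalk v') :=
    comap_closedPoint (S := A) (φ₀.hom.codRestrict A.toSubring hA)
  rw [h5, Scheme.fromSpecStalk_closedPoint]

section

variable {A K : Type u} [CommRing A] [IsDomain A] [ValuationRing A] [Field K] [Algebra A K]
  [IsFractionRing A K]

/-- Algebraic step: from a specialization in a chart over the closed point, build a dominating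
extension with fraction field the residue field of a point of the generic fibre of the chart. -/
theorem exists_domExt_lift_of_specializes {P : Sp S}
    (str : Spec (CommRingCat.of A) ⟶ S)
    (snd : P ⟶ (yon S).obj (Over.mk str))
    (top : (yon S).obj (Over.mk (Spec.map (CommRingCat.ofHom (algebraMap A K)) ≫ str)) ⟶ P)
    (comm : top ≫ snd =
      (yon S).map (Over.homMk (Spec.map (CommRingCat.ofHom (algebraMap A K))) rfl :
        Over.mk (Spec.map (CommRingCat.ofHom (algebraMap A K)) ≫ str) ⟶ Over.mk str) ≫ 𝟙 _)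
    {U T : Over S} (a : (yon S).obj U ⟶ P)
    (h : U ⟶ Over.mk str) (hh : (yon S).map h = a ≫ snd)
    (c : T ⟶ U) (d : T ⟶ Over.mk (Spec.map (CommRingCat.ofHom (algebraMap A K)) ≫ str))
    (sqw : (yon S).map c ≫ a = (yon S).map d ≫ top)
    (hd : Etale d.left)
    (t : ↥T.left) (u' : ↥U.left) (hsp : c.left t ⤳ u') (hu'A : h.left u' = closedPoint A) :
    ∃ e : ({ A := A, K := K, str := str, top := top, bot := 𝟙 _, comm := comm } :
        ValSq snd).DomExt,
      (letI := e.ψ.toAlgebra; Module.Finite K e.K' ∧ Algebra.IsSeparable K e.K') ∧ e.HasLift := by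
  let ptK : Over S := Over.mk (Spec.map (CommRingCat.ofHom (algebraMap A K)) ≫ str)
  let ptA : Over S := Over.mk str
  let j : ptK ⟶ ptA := Over.homMk (Spec.map (CommRingCat.ofHom (algebraMap A K))) rfl
  have comm' : top ≫ snd = (yon S).map j := by rw [comm, Category.comp_id]
  let dd : T.left ⟶ Spec (CommRingCat.of K) := d.left
  haveI : Etale dd := hd
  obtain ⟨R, i₂, hw, hi₂cp⟩ := exists_valuationSubring_of_specializes c.left t u' hsp
  let K' := T.left.residueField t
  let i₁ : Spec (CommRingCat.of K') ⟶ T.left := T.left.fromSpecResidueField t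
  let hl : U.left ⟶ Spec (CommRingCat.of A) := h.left
  let φ : A →+* R := (Spec.preimage (i₂ ≫ hl)).hom
  let ψ : K →+* K' := (Spec.preimage (i₁ ≫ dd)).hom
  have hφ : Spec.map (CommRingCat.ofHom φ) = i₂ ≫ hl := Spec.map_preimage _
  have hψ : Spec.map (CommRingCat.ofHom ψ) = i₁ ≫ dd := Spec.map_preimage _
  have hcd : c ≫ h = d ≫ j := (yon S).map_injective (by
    rw [Functor.map_comp, Functor.map_comp, hh, ← Category.assoc, sqw, Category.assoc, comm'])
  have hcd' : c.left ≫ hl = dd ≫ Spec.map (CommRingCat.ofHom (algebraMap A K)) :=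
    congrArg (fun m => m.left) hcd
  have hcomm : (algebraMap R K').comp φ = ψ.comp (algebraMap A K) := by
    have h1 : Spec.map (CommRingCat.ofHom ((algebraMap R K').comp φ)) =
        Spec.map (CommRingCat.ofHom (ψ.comp (algebraMap A K))) := by
      rw [CommRingCat.ofHom_comp φ (algebraMap (↥R) K'),
        CommRingCat.ofHom_comp (algebraMap A K) ψ, Spec.map_comp, Spec.map_comp, hφ, hψ,
        ← Category.assoc, ← hw, Category.assoc, Category.assoc, hcd']
    have h2 := Spec.map_injective h1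
    exact congrArg CommRingCat.Hom.hom h2
  have hloc : IsLocalHom φ := by
    rw [isLocalHom_iff_comap_closedPoint]
    have h1 : (Spec.map (CommRingCat.ofHom φ)) (closedPoint R) = closedPoint A := by
      rw [hφ, Scheme.Hom.comp_apply, hi₂cp]
      exact hu'A
    exact h1
  have hi₂ : i₂ ≫ U.hom = Spec.map (CommRingCat.ofHom φ) ≫ str := by
    rw [hφ, Category.assoc]
    congr 1
    exact (Over.w h).symm
  have hi₁ : i₁ ≫ T.hom = Spec.map (CommRingCat.ofHom (algebraMap R K')) ≫
      Spec.map (CommRingCat.ofHom φ) ≫ str := by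
    rw [← hi₂, ← Category.assoc, ← hw, Category.assoc, Over.w c]
  let ptA' : Over S := Over.mk (Spec.map (CommRingCat.ofHom φ) ≫ str)
  let ptK' : Over S := Over.mk (Spec.map (CommRingCat.ofHom (algebraMap R K')) ≫
      Spec.map (CommRingCat.ofHom φ) ≫ str)
  let i₂O : ptA' ⟶ U := Over.homMk i₂ hi₂
  let i₁O : ptK' ⟶ T := Over.homMk i₁ hi₁
  let jK' : ptK' ⟶ ptA' := Over.homMk (Spec.map (CommRingCat.ofHom (algebraMap R K'))) rfl
  let ψO : ptK' ⟶ ptK := Over.homMk (Spec.map (CommRingCat.ofHom ψ)) (by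
    change Spec.map _ ≫ Spec.map _ ≫ _ = Spec.map _ ≫ Spec.map _ ≫ _
    rw [← Spec.map_comp_assoc, ← Spec.map_comp_assoc, ← CommRingCat.ofHom_comp,
      ← CommRingCat.ofHom_comp, hcomm])
  let φO : ptA' ⟶ ptA := Over.homMk (Spec.map (CommRingCat.ofHom φ)) rfl
  have e1 : jK' ≫ i₂O = i₁O ≫ c := Over.OverMorphism.ext hw.symm
  have e2 : ψO = i₁O ≫ d := Over.OverMorphism.ext hψ
  have e3 : i₂O ≫ h = φO := Over.OverMorphism.ext hφ.symm
  have g1 : (yon S).map jK' ≫ (yon S).map i₂O ≫ a = (yon S).map ψO ≫ top := by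
    rw [← Category.assoc, ← Functor.map_comp, e1, Functor.map_comp, Category.assoc, sqw,
      ← Category.assoc, ← Functor.map_comp, ← e2]
  have g2 : ((yon S).map i₂O ≫ a) ≫ snd = (yon S).map φO ≫ 𝟙 _ := by
    rw [Category.assoc, ← hh, ← Functor.map_comp, e3, Category.comp_id]
  have hfs := finite_separable_residueField_over_field dd t
  exact ⟨{ A' := R, K' := K', φ := φ, ψ := ψ, comm := hcomm, isLocalHom := hloc }, hfs,
    (yon S).map i₂O ≫ a, g1, g2⟩

end

/-- In the existence part of the valuative criterion one may restrict to finite separable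
extensions of the fraction field. -/
theorem exists_finite_separable_domExt {X Y : Sp S} (hX : IsAlgSpace X) (hY : IsAlgSpace Y)
    (f : X ⟶ Y) (hf : ExistVC f) (sq : ValSq f) :
    ∃ e : sq.DomExt, (letI := e.ψ.toAlgebra; Module.Finite sq.K e.K' ∧
      Algebra.IsSeparable sq.K e.K') ∧ e.HasLift := by
  obtain ⟨e₀, l₀, hl1, hl2⟩ := hf sq
  have sqP := IsPullback.of_hasPullback f sq.bot
  have hP : IsAlgSpace (pullback f sq.bot) :=
    isAlgSpace_of_isPullback hY.diag hX (IsAlgSpace.yon_obj _) f sq.bot _ _ sqP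
  let snd := pullback.snd f sq.bot
  let top' : (yon S).obj sq.ptK ⟶ pullback f sq.bot :=
    pullback.lift sq.top ((yon S).map sq.j) sq.comm
  have comm' : top' ≫ snd = (yon S).map sq.j ≫ 𝟙 _ := by
    rw [Category.comp_id]; exact pullback.lift_snd _ _ _
  have comm'' : top' ≫ snd = (yon S).map sq.j := pullback.lift_snd _ _ _
  -- the given lift, into the base change
  let φO₀ : e₀.ptA' ⟶ sq.ptA := Over.homMk (Spec.map (CommRingCat.ofHom e₀.φ)) rfl
  let jK₀ : e₀.ptK' ⟶ e₀.ptA' :=
    Over.homMk (Spec.map (CommRingCat.ofHom (algebraMap e₀.A' e₀.K'))) rfl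
  let ψO₀ : e₀.ptK' ⟶ sq.ptK := Over.homMk (Spec.map (CommRingCat.ofHom e₀.ψ)) (by
    change Spec.map _ ≫ Spec.map _ ≫ _ = Spec.map _ ≫ Spec.map _ ≫ _
    rw [← Spec.map_comp_assoc, ← Spec.map_comp_assoc, ← CommRingCat.ofHom_comp,
      ← CommRingCat.ofHom_comp, e₀.comm])
  have hl1' : (yon S).map jK₀ ≫ l₀ = (yon S).map ψO₀ ≫ sq.top := hl1
  have hl2' : l₀ ≫ f = (yon S).map φO₀ ≫ sq.bot := hl2
  let l' : (yon S).obj e₀.ptA' ⟶ pullback f sq.bot := pullback.lift l₀ ((yon S).map φO₀) hl2'
  have hl'snd : l' ≫ snd = (yon S).map φO₀ := pullback.lift_snd _ _ _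
  have hOver : jK₀ ≫ φO₀ = ψO₀ ≫ sq.j := by
    apply Over.OverMorphism.ext
    show Spec.map _ ≫ Spec.map _ = Spec.map _ ≫ Spec.map _
    rw [← Spec.map_comp, ← Spec.map_comp, ← CommRingCat.ofHom_comp, ← CommRingCat.ofHom_comp,
      e₀.comm]
  have hl'top : (yon S).map jK₀ ≫ l' = (yon S).map ψO₀ ≫ top' := by
    apply pullback.hom_ext
    · rw [Category.assoc, Category.assoc, pullback.lift_fst, pullback.lift_fst]
      exact hl1'
    · rw [Category.assoc, Category.assoc, pullback.lift_snd, pullback.lift_snd,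
        ← Functor.map_comp, ← Functor.map_comp, hOver]
  -- chart around the image of the closed point
  obtain ⟨U₀, a₀, hae, has⟩ := hP.atlas
  obtain ⟨u', hu'⟩ := surjective_ofPt a₀ has (Points.ofPt l' (closedPoint e₀.A'))
  obtain ⟨h, hh⟩ := (yon S).map_surjective (a₀ ≫ snd)
  have := e₀.isLocalHom
  have hu'A : h.left u' = closedPoint sq.A := by
    have h1 : Points.map snd (Points.ofPt a₀ u') = Points.ofScheme sq.ptA (h.left u') := by
      rw [Points.map_ofPt, ← hh, ofPt_yon_map]
    have h2 : Points.map snd (Points.ofPt l' (closedPoint e₀.A')) =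
        Points.ofScheme sq.ptA (φO₀.left (closedPoint e₀.A')) := by
      rw [Points.map_ofPt, hl'snd, ofPt_yon_map]
    rw [hu', h2] at h1
    have h3 := congrArg (Points.toScheme sq.ptA) h1
    rw [Points.toScheme_ofScheme, Points.toScheme_ofScheme] at h3
    rw [← h3]
    exact comap_closedPoint e₀.φ
  -- the pullback of the chart to Spec A'
  have hrep := hae.rep
  obtain ⟨w₁, hw₁⟩ := (yon S).map_surjective (hrep.fst l')
  let w₂ : hrep.pullback l' ⟶ e₀.ptA' := hrep.snd l'
  have sqW : IsPullback ((yon S).map w₁) ((yon S).map w₂) a₀ l' := by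
    rw [hw₁]; exact hrep.isPullback l'
  have hw₂e : Etale w₂.left := hae.property l' _ _ (hrep.isPullback l')
  obtain ⟨w', hw'1, hw'2⟩ :=
    exists_point_of_isPullback_yon a₀ l' w₁ w₂ sqW u' (closedPoint e₀.A') hu'
  let ξ' : ↥e₀.ptA'.left := jK₀.left (closedPoint e₀.K')
  have hξ' : ξ' ⤳ w₂.left w' := by
    rw [hw'2]; exact specializes_closedPoint (R := e₀.A') _
  have : Flat w₂.left := by have := hw₂e; infer_instance
  obtain ⟨w, hw1, hw2⟩ := (Flat.generalizingMap w₂.left) hξ'
  let u : ↥U₀.left := w₁.left w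
  have huu' : u ⤳ u' := by
    rw [← hw'1]; exact hw1.map w₁.left.continuous
  let η : ↥sq.ptK.left := closedPoint sq.K
  have hu : Points.ofPt a₀ u = Points.ofPt top' η := by
    show Points.ofPt a₀ (w₁.left w) = _
    rw [← ofPt_yon_map_comp, sqW.w, ofPt_yon_map_comp, hw2]
    show Points.ofPt l' (jK₀.left (closedPoint e₀.K')) = _
    rw [← ofPt_yon_map_comp, hl'top, ofPt_yon_map_comp]
    congr 1
    exact Subsingleton.elim (α := PrimeSpectrum sq.K) _ _
  -- the generic fibre of the chart
  obtain ⟨c, hc⟩ := (yon S).map_surjective (hrep.fst top')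
  let d : hrep.pullback top' ⟶ sq.ptK := hrep.snd top'
  have sqT : IsPullback ((yon S).map c) ((yon S).map d) a₀ top' := by
    rw [hc]; exact hrep.isPullback top'
  have hde : Etale d.left := hae.property top' _ _ (hrep.isPullback top')
  obtain ⟨t, ht1, -⟩ := exists_point_of_isPullback_yon a₀ top' c d sqT u η hu
  have hsp : c.left t ⤳ u' := by rw [ht1]; exact huu'
  obtain ⟨e', hfs, l'', hl''1, hl''2⟩ :=
    exists_domExt_lift_of_specializes (A := sq.A) (K := sq.K) sq.str snd top' comm' a₀ h hh c d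
      sqT.w hde t u' hsp hu'A
  let e : sq.DomExt :=
    { A' := e'.A', K' := e'.K', φ := e'.φ, ψ := e'.ψ, comm := e'.comm, isLocalHom := e'.isLocalHom }
  refine ⟨e, hfs, l'' ≫ pullback.fst f sq.bot, ?_, ?_⟩
  · have h3 := congrArg (· ≫ pullback.fst f sq.bot) hl''1
    simp only [Category.assoc] at h3
    rw [h3]
    congr 1
    exact pullback.lift_fst _ _ _
  · rw [Category.assoc, pullback.condition, ← Category.assoc, hl''2, Category.assoc,
      Category.id_comp]

end Groth.Agent.Helper2.AlgSpBasic
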