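import Mathlib
namespace Groth.Agent.Helper2.AlgSpBasic
open CategoryTheory CategoryTheory.Limits AlgebraicGeometry Opposite Topology
open TensorProduct IsLocalRing
universe u

/-- In a pushout square of commutative rings, the base change of an injective map along a flat
map is injective. -/
theorem injective_inl_of_isPushout_of_flat {R A B X : CommRingCat.{u}} {f : R ⟶ A} {g : R ⟶ B}
    {inl : A ⟶ X} {inr : B ⟶ X} (H : IsPushout f g inl inr) (hf : f.hom.Flat)
    (hg : Function.Injective g.hom) : Function.Injective inl.hom := by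
  algebraize [f.hom, g.hom]
  have H' := CommRingCat.isPushout_tensorProduct R A B
  let e := H'.isoIsPushout _ _ H
  have he : CommRingCat.ofHom (S := A ⊗[R] B) Algebra.TensorProduct.includeLeftRingHom ≫ e.hom =
      inl := H'.inl_isoIsPushout_hom _ _ H
  have hinj : Function.Injective
      (Algebra.TensorProduct.includeLeftRingHom : A →+* A ⊗[R] B) :=
    Algebra.TensorProduct.includeLeft_injective (S := R) (R := R) (A := A) (B := B) hg
  rw [← he]
  have he' : Function.Injective e.hom.hom := (ConcreteCategory.bijective_of_isIso e.hom).1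
  exact he'.comp hinj

/-- Flat base change preserves injectivity on global sections, for affine schemes. -/
theorem injective_appTop_fst_of_isPullback_of_flat {W' V' T' Q : Scheme.{u}} [IsAffine W']
    [IsAffine V'] [IsAffine T'] (p : W' ⟶ V') [Flat p] (m : T' ⟶ V')
    (hm : Function.Injective m.appTop.hom) (fst : Q ⟶ W') (snd : Q ⟶ T')
    (sq : IsPullback fst snd p m) : Function.Injective fst.appTop.hom := by
  have hpo := isPushout_appTop_of_isPullback sq
  exact injective_inl_of_isPushout_of_flat hpo (Scheme.Hom.flat_appTop p) hm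

/-- A morphism of affine schemes which is injective on global sections has trivial kernel. -/
theorem ker_eq_bot_of_injective_appTop {X Y : Scheme.{u}} [IsAffine X] [IsAffine Y] (f : X ⟶ Y)
    (hf : Function.Injective f.appTop.hom) : f.ker = ⊥ := by
  apply Scheme.IdealSheafData.ext_of_isAffine
  have h1 : RingHom.ker (f.app ⊤).hom = ⊥ := (RingHom.injective_iff_ker_eq_bot _).1 hf
  simpa [f.ker_apply ⟨⊤, isAffineOpen_top Y⟩] using h1

/-- Density: a morphism that factors through a closed immersion after precomposition with a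
morphism with trivial kernel factors through it. -/
theorem exists_lift_of_ker_eq_bot {T' V' Y Z : Scheme.{u}} (m : T' ⟶ V') (hm : m.ker = ⊥)
    (g : V' ⟶ Y) (i : Z ⟶ Y) [IsClosedImmersion i] (w : T' ⟶ Z) (hw : w ≫ i = m ≫ g) :
    ∃ g' : V' ⟶ Z, g' ≫ i = g := by
  have h1 : i.ker ≤ (w ≫ i).ker := Scheme.Hom.le_ker_comp w i
  have h2 : (m ≫ g).ker = g.ker := by
    rw [← Scheme.IdealSheafData.map_ker, hm, Scheme.IdealSheafData.map_bot]
  rw [hw, h2] at h1
  exact ⟨IsClosedImmersion.lift i g h1, IsClosedImmersion.lift_fac i g h1⟩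

section
variable {A K : Type u} [CommRing A] [IsDomain A] [ValuationRing A] [Field K] [Algebra A K]
  [IsFractionRing A K]

/-- An affine scheme over a valuation ring whose functions inject into those of a scheme over
the fraction field is flat. -/
theorem flat_of_injective_appTop_of_over_fractionRing {V T : Scheme.{u}} [IsAffine V]
    (v : V ⟶ Spec (CommRingCat.of A)) (c' : T ⟶ V) (hc' : Function.Injective c'.appTop.hom)
    (d : T ⟶ Spec (CommRingCat.of K))
    (hcomm : c' ≫ v = d ≫ Spec.map (CommRingCat.ofHom (algebraMap A K))) : Flat v := by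
  let φ : A →+* Γ(V, ⊤) := ((Scheme.ΓSpecIso (CommRingCat.of A)).inv ≫ v.appTop).hom
  let ψ : K →+* Γ(T, ⊤) := ((Scheme.ΓSpecIso (CommRingCat.of K)).inv ≫ d.appTop).hom
  have hφψ : c'.appTop.hom.comp φ = ψ.comp (algebraMap A K) := by
    have h1 := congrArg Scheme.Hom.appTop hcomm
    rw [Scheme.Hom.comp_appTop, Scheme.Hom.comp_appTop] at h1
    have h2 : (Scheme.ΓSpecIso (CommRingCat.of A)).inv ≫ v.appTop ≫ c'.appTop =
        CommRingCat.ofHom (algebraMap A K) ≫ (Scheme.ΓSpecIso (CommRingCat.of K)).inv ≫
          d.appTop := by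
      rw [h1, ← Category.assoc, ← Category.assoc, Scheme.ΓSpecIso_inv_naturality]
    exact congrArg CommRingCat.Hom.hom h2
  algebraize [φ]
  have hflat : Module.Flat A Γ(V, ⊤) := by
    rw [Module.Flat.flat_iff_torsion_eq_bot_of_isBezout, Submodule.eq_bot_iff]
    intro x hx
    rw [Submodule.mem_torsion_iff] at hx
    obtain ⟨⟨a, ha⟩, hax⟩ := hx
    have h3 : φ a * x = 0 := by
      have : a • x = 0 := hax
      rwa [Algebra.smul_def] at this
    have h4 : ψ (algebraMap A K a) * c'.appTop.hom x = 0 := by
      have := congrArg c'.appTop.hom h3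
      rw [map_mul, map_zero] at this
      have e : c'.appTop.hom (φ a) = ψ (algebraMap A K a) := DFunLike.congr_fun hφψ a
      rwa [e] at this
    have hunit : IsUnit (ψ (algebraMap A K a)) := by
      apply IsUnit.map
      exact (IsFractionRing.to_map_ne_zero_of_mem_nonZeroDivisors ha).isUnit
    have h5 : c'.appTop.hom x = 0 := (hunit.mul_right_eq_zero).1 h4
    exact hc' (by rw [h5, map_zero])
  have hφflat : φ.Flat := by
    show (algebraMap A Γ(V, ⊤)).Flat
    exact hflat
  have hv : v.appTop.hom.Flat := by
    have e : v.appTop = (Scheme.ΓSpecIso (CommRingCat.of A)).hom ≫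
        ((Scheme.ΓSpecIso (CommRingCat.of A)).inv ≫ v.appTop) := by
      rw [Iso.hom_inv_id_assoc]
    rw [e, CommRingCat.hom_comp]
    refine RingHom.Flat.comp ?_ hφflat
    exact RingHom.Flat.of_bijective (ConcreteCategory.bijective_of_isIso _)
  exact (HasRingHomProperty.iff_of_isAffine (P := @Flat)).2 hv

omit [IsDomain A] [ValuationRing A] in
theorem mono_specMap_fractionRing :
    Mono (Spec.map (CommRingCat.ofHom (algebraMap A K))) := by
  have : Epi (CommRingCat.ofHom (algebraMap A K)) := IsLocalization.epi (nonZeroDivisors A) K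
  have : Mono (CommRingCat.ofHom (algebraMap A K)).op := inferInstance
  exact (inferInstance : Mono (Scheme.Spec.map (CommRingCat.ofHom (algebraMap A K)).op))

/-- A flat morphism to the spectrum of a local ring whose image contains the closed point is
surjective. -/
theorem surjective_of_flat_of_closedPoint_mem {V : Scheme.{u}} (v : V ⟶ Spec (CommRingCat.of A))
    [Flat v] (x₀ : V) (hx₀ : v x₀ = closedPoint A) : Surjective v := by
  refine ⟨fun y => ?_⟩
  have hy : y ⤳ v x₀ := by rw [hx₀]; exact specializes_closedPoint (R := A) y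
  obtain ⟨x, -, hx⟩ := (Flat.generalizingMap v) hy
  exact ⟨x, hx⟩

omit [IsDomain A] [ValuationRing A] in
/-- The generic point inclusion of a domain is flat. -/
theorem flat_specMap_fractionRing : Flat (Spec.map (CommRingCat.ofHom (algebraMap A K))) := by
  rw [Flat.SpecMap_iff]
  have h : Module.Flat A K := IsLocalization.flat K (nonZeroDivisors A)
  exact (RingHom.flat_algebraMap_iff).2 h

end

end Groth.Agent.Helper2.AlgSpBasic
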