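import Mathlib
import Groth.Agent.Lib.Helper2.AlgSp.ExistVCSep
import Groth.Agent.Lib.Helper2.AlgSp.SepLiftAlg
import Groth.Agent.Lib.Helper2.AlgSp.FormalLift
namespace Groth.Agent.Helper2.AlgSpBasic
open CategoryTheory CategoryTheory.Limits AlgebraicGeometry Opposite AlgSp Topology
open Groth.Agent.Helper2.AlgStLib Groth.Agent.Helper2.EtaleLocal
open IsLocalRing
universe u
variable {S : Scheme.{u}}

/-- Relative diagonal: for `snd : F ⟶ h_B`, the map `U ×_F V ⟶ U ×_B V` is a base change of the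
diagonal of `snd`. -/
theorem prop_of_relDiag (P₀ : MorphismProperty Scheme.{u}) {F : Sp S} {B U V W E : Over S}
    (snd : F ⟶ (yon S).obj B) (hΔ : RepWith P₀ (pullback.diagonal snd))
    (a : (yon S).obj U ⟶ F) (b : (yon S).obj V ⟶ F) (w₁ : W ⟶ U) (w₂ : W ⟶ V)
    (sqW : IsPullback ((yon S).map w₁) ((yon S).map w₂) a b)
    (α : U ⟶ B) (β : V ⟶ B) (hα : a ≫ snd = (yon S).map α) (hβ : b ≫ snd = (yon S).map β)
    (e₁ : E ⟶ U) (e₂ : E ⟶ V)
    (sqE : IsPullback ((yon S).map e₁) ((yon S).map e₂) ((yon S).map α) ((yon S).map β))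
    (m : W ⟶ E) (hm₁ : m ≫ e₁ = w₁) (hm₂ : m ≫ e₂ = w₂) : P₀ m.left := by
  have hrel : RepWith P₀ (pullback.mapDesc a b snd) :=
    repWith_mapDesc_of_repWith_diagonal P₀ a b snd hΔ
  have sqE' : IsPullback ((yon S).map e₁) ((yon S).map e₂) (a ≫ snd) (b ≫ snd) := by
    rw [hα, hβ]; exact sqE
  have hcomm : sqW.isoPullback.hom ≫ pullback.mapDesc a b snd =
      (yon S).map m ≫ sqE'.isoPullback.hom := by
    apply pullback.hom_ext
    · rw [Category.assoc, Category.assoc, IsPullback.isoPullback_hom_fst, pullback.mapDesc,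
        pullback.lift_fst, Category.comp_id, IsPullback.isoPullback_hom_fst, ← Functor.map_comp,
        hm₁]
    · rw [Category.assoc, Category.assoc, IsPullback.isoPullback_hom_snd, pullback.mapDesc,
        pullback.lift_snd, Category.comp_id, IsPullback.isoPullback_hom_snd, ← Functor.map_comp,
        hm₂]
  have sq : IsPullback sqW.isoPullback.hom ((yon S).map m) (pullback.mapDesc a b snd)
      sqE'.isoPullback.hom := IsPullback.of_horiz_isIso ⟨hcomm⟩
  exact hrel.property _ _ _ sq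

/-- Over an affine base with separated structure map, fibre products of affine charts are
affine. -/
theorem isAffine_of_isPullback_of_isSeparatedMor {F : Sp S} {B U V W : Over S}
    [IsAffine B.left] [IsAffine U.left] [IsAffine V.left]
    (snd : F ⟶ (yon S).obj B) (hsep : IsSeparatedMor snd)
    (a : (yon S).obj U ⟶ F) (b : (yon S).obj V ⟶ F) (w₁ : W ⟶ U) (w₂ : W ⟶ V)
    (sqW : IsPullback ((yon S).map w₁) ((yon S).map w₂) a b)
    (α : U ⟶ B) (β : V ⟶ B) (hα : a ≫ snd = (yon S).map α) (hβ : b ≫ snd = (yon S).map β) :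
    IsAffine W.left := by
  have hw : w₁ ≫ α = w₂ ≫ β := (yon S).map_injective (by
    rw [Functor.map_comp, Functor.map_comp, ← hα, ← hβ, ← Category.assoc, sqW.w, Category.assoc])
  let m : W ⟶ pullback α β := pullback.lift w₁ w₂ hw
  have sqE : IsPullback ((yon S).map (pullback.fst α β)) ((yon S).map (pullback.snd α β))
      ((yon S).map α) ((yon S).map β) := (IsPullback.of_hasPullback α β).map (yon S)
  have hci : IsClosedImmersion m.left :=
    prop_of_relDiag @IsClosedImmersion snd hsep a b w₁ w₂ sqW α β hα hβ _ _ sqE m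
      (pullback.lift_fst _ _ _) (pullback.lift_snd _ _ _)
  have h1 : IsAffineHom (pullback.fst α β).left :=
    MorphismProperty.pullback_fst
      (P := MorphismProperty.inverseImage (@IsAffineHom : MorphismProperty Scheme.{u}) (Over.forget S)) α β
      (show IsAffineHom β.left from inferInstance)
  have h2 : IsAffine (pullback α β).left := isAffine_of_isAffineHom (pullback.fst α β).left
  exact isAffine_of_isAffineHom m.left


/-- The scheme theoretic closure of the image of a morphism of affine schemes over `S`, as an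
object over `S`. -/
theorem exists_closure_over {U T : Over S} [IsAffine U.left] [IsAffine T.left] (c : T ⟶ U) :
    ∃ (V : Over S) (ιV : V ⟶ U) (c' : T ⟶ V), c' ≫ ιV = c ∧ IsClosedImmersion ιV.left ∧
      IsAffine V.left ∧ Function.Injective c'.left.appTop.hom ∧
      ∀ u' : ↥U.left, u' ∈ closure (Set.range c.left) → u' ∈ Set.range ιV.left := by
  let V : Over S := Over.mk (c.left.imageι ≫ U.hom)
  let ιV : V ⟶ U := Over.homMk c.left.imageι rfl
  let c' : T ⟶ V := Over.homMk c.left.toImage (by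
    show c.left.toImage ≫ c.left.imageι ≫ U.hom = T.hom
    rw [← Category.assoc, Scheme.Hom.toImage_imageι]
    exact Over.w c)
  have hci : IsClosedImmersion ιV.left := (inferInstance : IsClosedImmersion c.left.imageι)
  have hVa : IsAffine V.left := isAffine_of_isAffineHom ιV.left
  refine ⟨V, ιV, c', Over.OverMorphism.ext (Scheme.Hom.toImage_imageι _), hci, hVa, ?_, ?_⟩
  · exact c.left.toImage_app_injective ⟨⊤, isAffineOpen_top _⟩
  · intro u' hu'
    show u' ∈ Set.range c.left.imageι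
    rw [Scheme.IdealSheafData.range_subschemeι, Scheme.Hom.support_ker]
    exact hu'


section Main

variable {A K : Type u} [CommRing A] [IsDomain A] [ValuationRing A] [Field K] [Algebra A K]
  [IsFractionRing A K]

/-- Main local step: over the spectrum of a valuation ring, for a separated structure map, a
specialization in an affine chart from the generic fibre to the closed fibre produces a lift. -/
theorem hasLift_of_chart_specialization {P : Sp S} (hP : IsAlgSpace P)
    (str : Spec (CommRingCat.of A) ⟶ S)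
    (snd : P ⟶ (yon S).obj (Over.mk str)) (hsep : IsSeparatedMor snd)
    (top : (yon S).obj (Over.mk (Spec.map (CommRingCat.ofHom (algebraMap A K)) ≫ str)) ⟶ P)
    (comm' : top ≫ snd =
      (yon S).map (Over.homMk (Spec.map (CommRingCat.ofHom (algebraMap A K))) rfl :
        Over.mk (Spec.map (CommRingCat.ofHom (algebraMap A K)) ≫ str) ⟶ Over.mk str))
    {U : Over S} [IsAffine U.left] (a : (yon S).obj U ⟶ P) (hae : RepWith @Etale a)
    (h : U ⟶ Over.mk str) (hh : (yon S).map h = a ≫ snd)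
    {T : Over S} (c : T ⟶ U)
    (d : T ⟶ Over.mk (Spec.map (CommRingCat.ofHom (algebraMap A K)) ≫ str))
    (sqT : IsPullback ((yon S).map c) ((yon S).map d) a top) (hd : Etale d.left)
    (t : ↥T.left) (u' : ↥U.left) (hsp : c.left t ⤳ u') (hu'A : h.left u' = closedPoint A) :
    ∃ l : (yon S).obj (Over.mk str) ⟶ P,
      (yon S).map (Over.homMk (Spec.map (CommRingCat.ofHom (algebraMap A K))) rfl :
        Over.mk (Spec.map (CommRingCat.ofHom (algebraMap A K)) ≫ str) ⟶ Over.mk str) ≫ l = top ∧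
      l ≫ snd = 𝟙 _ := by
  let ptK : Over S := Over.mk (Spec.map (CommRingCat.ofHom (algebraMap A K)) ≫ str)
  let ptA : Over S := Over.mk str
  let j : ptK ⟶ ptA := Over.homMk (Spec.map (CommRingCat.ofHom (algebraMap A K))) rfl
  haveI : IsAffine ptA.left := (inferInstance : IsAffine (Spec (CommRingCat.of A)))
  haveI : IsAffine ptK.left := (inferInstance : IsAffine (Spec (CommRingCat.of K)))
  have hcd : c ≫ h = d ≫ j := (yon S).map_injective (by
    rw [Functor.map_comp, Functor.map_comp, hh, ← Category.assoc, sqT.w, Category.assoc, comm'])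
  -- Step 1: `T` is affine
  haveI hTa : IsAffine T.left :=
    isAffine_of_isPullback_of_isSeparatedMor (B := ptA) snd hsep top a d c sqT.flip j h comm'
      hh.symm
  -- Step 2: the closure `V` of `T` in `U`
  obtain ⟨V, ιV, c', hc'ι, hιci, hVa, hc'inj, hclos⟩ := exists_closure_over c
  haveI := hιci
  haveI := hVa
  let v : V ⟶ ptA := ιV ≫ h
  have hc'v : c' ≫ v = d ≫ j := by
    show c' ≫ ιV ≫ h = d ≫ j
    rw [← Category.assoc, hc'ι, hcd]
  let vl : V.left ⟶ Spec (CommRingCat.of A) := v.left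
  let dl : T.left ⟶ Spec (CommRingCat.of K) := d.left
  have hvflat : Flat vl :=
    flat_of_injective_appTop_of_over_fractionRing (K := K) vl c'.left hc'inj dl
      (congrArg (fun m => m.left) hc'v)
  obtain ⟨x₀, hx₀⟩ := hclos u' (specializes_iff_mem_closure.1 hsp |> fun hm =>
    closure_mono (by rintro _ rfl; exact ⟨t, rfl⟩) hm)
  have hx₀A : vl x₀ = closedPoint A := by
    show h.left (ιV.left x₀) = closedPoint A
    rw [hx₀, hu'A]
  haveI := hvflat
  have hvsurj : Surjective vl := surjective_of_flat_of_closedPoint_mem vl x₀ hx₀A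
  -- Step 3: `W = V ×_P U`
  have hrep := hae.rep
  let g : (yon S).obj V ⟶ P := (yon S).map ιV ≫ a
  obtain ⟨w₁, hw₁⟩ := (yon S).map_surjective (hrep.fst g)
  let W : Over S := hrep.pullback g
  let w₂ : W ⟶ V := hrep.snd g
  have sqW : IsPullback ((yon S).map w₁) ((yon S).map w₂) a g := by
    rw [hw₁]; exact hrep.isPullback g
  have hw₂e : Etale w₂.left := hae.property g _ _ (hrep.isPullback g)
  have hgv : g ≫ snd = (yon S).map v := by
    show ((yon S).map ιV ≫ a) ≫ snd = _
    rw [Category.assoc, ← hh, ← Functor.map_comp]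
  haveI hWa : IsAffine W.left :=
    isAffine_of_isPullback_of_isSeparatedMor (B := ptA) snd hsep a g w₁ w₂ sqW h v hh.symm hgv
  have hgc' : (yon S).map c' ≫ g = (yon S).map d ≫ top := by
    show (yon S).map c' ≫ (yon S).map ιV ≫ a = _
    rw [← Category.assoc, ← Functor.map_comp, hc'ι, sqT.w]
  -- `Q = W ×_V T`
  let q₁ : pullback w₂ c' ⟶ W := pullback.fst w₂ c'
  let q₂ : pullback w₂ c' ⟶ T := pullback.snd w₂ c'
  have sqQ : IsPullback q₁.left q₂.left w₂.left c'.left :=
    (IsPullback.of_hasPullback w₂ c').map (Over.forget S)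
  haveI : Flat w₂.left := by haveI := hw₂e; infer_instance
  have hq₁inj : Function.Injective q₁.left.appTop.hom :=
    injective_appTop_fst_of_isPullback_of_flat w₂.left c'.left hc'inj q₁.left q₂.left sqQ
  haveI : IsAffine (pullback w₂ c').left := IsAffine.of_isPullback sqQ
  have hq₁ker : q₁.left.ker = ⊥ := ker_eq_bot_of_injective_appTop _ hq₁inj
  have hQcomm : (yon S).map (q₁ ≫ w₁) ≫ a = (yon S).map (q₂ ≫ d) ≫ top := by
    have e1 : q₁ ≫ w₂ = q₂ ≫ c' := pullback.condition
    calc (yon S).map (q₁ ≫ w₁) ≫ a = (yon S).map q₁ ≫ (yon S).map w₁ ≫ a := by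
          rw [Functor.map_comp, Category.assoc]
      _ = (yon S).map q₁ ≫ (yon S).map w₂ ≫ g := by rw [sqW.w]
      _ = (yon S).map (q₂ ≫ c') ≫ g := by rw [← Category.assoc, ← Functor.map_comp, e1]
      _ = (yon S).map q₂ ≫ (yon S).map c' ≫ g := by rw [Functor.map_comp, Category.assoc]
      _ = (yon S).map (q₂ ≫ d) ≫ top := by
          rw [hgc', ← Category.assoc, ← Functor.map_comp]
  obtain ⟨q₂', hq₂'⟩ := (yon S).map_surjective
    (sqT.lift ((yon S).map (q₁ ≫ w₁)) ((yon S).map (q₂ ≫ d)) hQcomm)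
  have hq₂'c : q₂' ≫ c = q₁ ≫ w₁ := (yon S).map_injective (by
    rw [Functor.map_comp, hq₂', sqT.lift_fst])
  obtain ⟨g', hg'⟩ := exists_lift_of_ker_eq_bot q₁.left hq₁ker w₁.left ιV.left
    (q₂'.left ≫ c'.left) (by
      rw [Category.assoc, ← Over.comp_left, hc'ι, ← Over.comp_left, hq₂'c, Over.comp_left])
  let w₁' : W ⟶ V := Over.homMk g' (by
    rw [← Over.w ιV, ← Category.assoc, hg', Over.w w₁])
  have hw₁' : w₁' ≫ ιV = w₁ := Over.OverMorphism.ext hg'
  -- Step 4: the two projections `V ×_A V ⇉ V ⟶ P` agree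
  let pr₁ : pullback v v ⟶ V := pullback.fst v v
  let pr₂ : pullback v v ⟶ V := pullback.snd v v
  obtain ⟨Z, z₁, z₂, sqZ⟩ := exists_isPullback_yon hP.diag g g
  have hz : z₁ ≫ v = z₂ ≫ v := (yon S).map_injective (by
    have e : (yon S).map z₁ ≫ (yon S).map v = (yon S).map z₂ ≫ (yon S).map v := by
      rw [← hgv, ← Category.assoc, sqZ.w, Category.assoc]
    exact ((yon S).map_comp z₁ v).trans (e.trans ((yon S).map_comp z₂ v).symm))
  let m : Z ⟶ pullback v v := pullback.lift z₁ z₂ hz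
  have sqVV : IsPullback ((yon S).map pr₁) ((yon S).map pr₂) ((yon S).map v) ((yon S).map v) :=
    (IsPullback.of_hasPullback v v).map (yon S)
  have hmci : IsClosedImmersion m.left :=
    prop_of_relDiag @IsClosedImmersion snd hsep g g z₁ z₂ sqZ v v hgv hgv pr₁ pr₂ sqVV m
      (pullback.lift_fst _ _ _) (pullback.lift_snd _ _ _)
  have hvflat' : Flat v.left := hvflat
  have hpr₁flat : Flat pr₁.left :=
    MorphismProperty.pullback_fst
      (P := MorphismProperty.inverseImage (@Flat : MorphismProperty Scheme.{u}) (Over.forget S))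
      v v hvflat'
  have sqVVl : IsPullback pr₁.left pr₂.left v.left v.left :=
    (IsPullback.of_hasPullback v v).map (Over.forget S)
  haveI : IsAffine (pullback v v).left := IsAffine.of_isPullback sqVVl
  -- `TV = (V ×_A V) ×_{pr₁, V} T`
  let θ₁ : pullback pr₁ c' ⟶ pullback v v := pullback.fst pr₁ c'
  let τ₁ : pullback pr₁ c' ⟶ T := pullback.snd pr₁ c'
  have sqTV : IsPullback θ₁.left τ₁.left pr₁.left c'.left :=
    (IsPullback.of_hasPullback pr₁ c').map (Over.forget S)
  haveI := hpr₁flat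
  have hθ₁inj : Function.Injective θ₁.left.appTop.hom :=
    injective_appTop_fst_of_isPullback_of_flat pr₁.left c'.left hc'inj θ₁.left τ₁.left sqTV
  haveI : IsAffine (pullback pr₁ c').left := IsAffine.of_isPullback sqTV
  have sqTV2 : IsPullback (θ₁ ≫ pr₂) τ₁ v (c' ≫ v) :=
    (IsPullback.of_hasPullback pr₁ c').paste_horiz (IsPullback.of_hasPullback v v).flip
  have hdjflat : Flat (c' ≫ v).left := by
    rw [hc'v, Over.comp_left]
    haveI : Flat d.left := by haveI := hd; infer_instance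
    haveI : Flat j.left := flat_specMap_fractionRing (A := A) (K := K)
    infer_instance
  have hθpr₂flat : Flat (θ₁ ≫ pr₂).left :=
    MorphismProperty.of_isPullback
      (P := MorphismProperty.inverseImage (@Flat : MorphismProperty Scheme.{u}) (Over.forget S))
      sqTV2.flip hdjflat
  -- `TT = TV ×_{V} T`
  let θ₂ : pullback (θ₁ ≫ pr₂) c' ⟶ pullback pr₁ c' := pullback.fst (θ₁ ≫ pr₂) c'
  let τ₂ : pullback (θ₁ ≫ pr₂) c' ⟶ T := pullback.snd (θ₁ ≫ pr₂) c'
  have sqTT : IsPullback θ₂.left τ₂.left (θ₁ ≫ pr₂).left c'.left :=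
    (IsPullback.of_hasPullback (θ₁ ≫ pr₂) c').map (Over.forget S)
  haveI := hθpr₂flat
  have hθ₂inj : Function.Injective θ₂.left.appTop.hom :=
    injective_appTop_fst_of_isPullback_of_flat (θ₁ ≫ pr₂).left c'.left hc'inj θ₂.left τ₂.left sqTT
  haveI : IsAffine (pullback (θ₁ ≫ pr₂) c').left := IsAffine.of_isPullback sqTT
  have hθinj : Function.Injective (θ₂ ≫ θ₁).left.appTop.hom := by
    rw [Over.comp_left, Scheme.Hom.comp_appTop, CommRingCat.hom_comp]
    exact hθ₂inj.comp hθ₁inj
  have hθker : (θ₂ ≫ θ₁).left.ker = ⊥ := ker_eq_bot_of_injective_appTop _ hθinj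
  haveI hjmono : Mono j := by
    haveI : Mono j.left := mono_specMap_fractionRing (A := A) (K := K)
    exact Over.mono_of_mono_left j
  have e1 : θ₁ ≫ pr₁ = τ₁ ≫ c' := pullback.condition
  have e2 : θ₂ ≫ (θ₁ ≫ pr₂) = τ₂ ≫ c' := pullback.condition
  have e3 : pr₁ ≫ v = pr₂ ≫ v := pullback.condition
  have hτd : θ₂ ≫ τ₁ ≫ d = τ₂ ≫ d := by
    rw [← cancel_mono j]
    calc (θ₂ ≫ τ₁ ≫ d) ≫ j = θ₂ ≫ τ₁ ≫ (d ≫ j) := by simp only [Category.assoc]
      _ = θ₂ ≫ τ₁ ≫ (c' ≫ v) := by rw [hc'v]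
      _ = θ₂ ≫ (τ₁ ≫ c') ≫ v := by simp only [Category.assoc]
      _ = θ₂ ≫ (θ₁ ≫ pr₁) ≫ v := by rw [← e1]
      _ = θ₂ ≫ θ₁ ≫ (pr₁ ≫ v) := by simp only [Category.assoc]
      _ = θ₂ ≫ θ₁ ≫ (pr₂ ≫ v) := by rw [e3]
      _ = (θ₂ ≫ (θ₁ ≫ pr₂)) ≫ v := by simp only [Category.assoc]
      _ = (τ₂ ≫ c') ≫ v := by rw [e2]
      _ = τ₂ ≫ (c' ≫ v) := by simp only [Category.assoc]
      _ = τ₂ ≫ (d ≫ j) := by rw [hc'v]
      _ = (τ₂ ≫ d) ≫ j := by simp only [Category.assoc]
  have hZcomm : (yon S).map (θ₂ ≫ θ₁ ≫ pr₁) ≫ g = (yon S).map (θ₂ ≫ θ₁ ≫ pr₂) ≫ g := by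
    calc (yon S).map (θ₂ ≫ θ₁ ≫ pr₁) ≫ g = (yon S).map ((θ₂ ≫ τ₁) ≫ c') ≫ g := by
          rw [e1, Category.assoc]
      _ = (yon S).map (θ₂ ≫ τ₁) ≫ (yon S).map c' ≫ g := by
          rw [(yon S).map_comp (θ₂ ≫ τ₁) c', Category.assoc]
      _ = (yon S).map (θ₂ ≫ τ₁) ≫ (yon S).map d ≫ top := by rw [hgc']
      _ = (yon S).map (θ₂ ≫ τ₁ ≫ d) ≫ top := by
          rw [← Category.assoc, ← (yon S).map_comp (θ₂ ≫ τ₁) d, Category.assoc]
      _ = (yon S).map (τ₂ ≫ d) ≫ top := by rw [hτd]
      _ = (yon S).map τ₂ ≫ (yon S).map d ≫ top := by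
          rw [(yon S).map_comp τ₂ d, Category.assoc]
      _ = (yon S).map τ₂ ≫ (yon S).map c' ≫ g := by rw [hgc']
      _ = (yon S).map (τ₂ ≫ c') ≫ g := by
          rw [← Category.assoc, ← (yon S).map_comp τ₂ c']
      _ = (yon S).map (θ₂ ≫ θ₁ ≫ pr₂) ≫ g := by rw [← e2]
  obtain ⟨ζ, hζ⟩ := (yon S).map_surjective (sqZ.lift _ _ hZcomm)
  have hζ1 : ζ ≫ z₁ = θ₂ ≫ θ₁ ≫ pr₁ := (yon S).map_injective (by
    rw [Functor.map_comp, hζ, sqZ.lift_fst])
  have hζ2 : ζ ≫ z₂ = θ₂ ≫ θ₁ ≫ pr₂ := (yon S).map_injective (by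
    rw [Functor.map_comp, hζ, sqZ.lift_snd])
  have hζm : ζ ≫ m = θ₂ ≫ θ₁ := by
    apply pullback.hom_ext
    · rw [Category.assoc, pullback.lift_fst, hζ1, Category.assoc]
    · rw [Category.assoc, pullback.lift_snd, hζ2, Category.assoc]
  haveI := hmci
  obtain ⟨σ₀, hσ₀⟩ := exists_lift_of_ker_eq_bot (θ₂ ≫ θ₁).left hθker (𝟙 _) m.left ζ.left (by
    rw [Category.comp_id, ← Over.comp_left, hζm])
  let σ : pullback v v ⟶ Z := Over.homMk σ₀ (by
    rw [← Over.w m, ← Category.assoc, hσ₀, Category.id_comp])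
  have hσ : σ ≫ m = 𝟙 _ := Over.OverMorphism.ext hσ₀
  have hC3 : (yon S).map pr₁ ≫ g = (yon S).map pr₂ ≫ g := by
    have h1 : pr₁ = σ ≫ z₁ := by
      have : σ ≫ m ≫ pr₁ = σ ≫ z₁ := by rw [pullback.lift_fst]
      rw [← this, ← Category.assoc, hσ, Category.id_comp]
    have h2 : pr₂ = σ ≫ z₂ := by
      have : σ ≫ m ≫ pr₂ = σ ≫ z₂ := by rw [pullback.lift_snd]
      rw [← this, ← Category.assoc, hσ, Category.id_comp]
    rw [h1, h2, Functor.map_comp, Functor.map_comp, Category.assoc, Category.assoc, sqZ.w]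
  -- Step 5: `pr₁` is étale, being isomorphic to `w₂`
  have hφcomm : (yon S).map (pr₂ ≫ ιV) ≫ a = (yon S).map pr₁ ≫ g := by
    rw [hC3]
    show _ = (yon S).map pr₂ ≫ (yon S).map ιV ≫ a
    rw [(yon S).map_comp pr₂ ιV, Category.assoc]
  obtain ⟨φ, hφ⟩ := (yon S).map_surjective (sqW.lift _ _ hφcomm)
  have hφ1 : φ ≫ w₁ = pr₂ ≫ ιV := (yon S).map_injective (by
    rw [Functor.map_comp, hφ, sqW.lift_fst])
  have hφ2 : φ ≫ w₂ = pr₁ := (yon S).map_injective (by
    rw [Functor.map_comp, hφ, sqW.lift_snd])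
  have hw₂v : w₂ ≫ v = w₁' ≫ v := by
    have e : w₂ ≫ v = w₁ ≫ h := (yon S).map_injective (by
      have e' : (yon S).map w₂ ≫ (yon S).map v = (yon S).map w₁ ≫ (yon S).map h := by
        rw [← hgv, ← Category.assoc, ← sqW.w, Category.assoc, hh]
      exact ((yon S).map_comp w₂ v).trans (e'.trans ((yon S).map_comp w₁ h).symm))
    rw [e, ← hw₁']
    exact Category.assoc _ _ _
  let ρ : W ⟶ pullback v v := pullback.lift w₂ w₁' hw₂v
  haveI : Mono ιV := by
    haveI : Mono ιV.left := inferInstance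
    exact Over.mono_of_mono_left ιV
  have hφρ : φ ≫ ρ = 𝟙 _ := by
    apply pullback.hom_ext
    · rw [Category.assoc, pullback.lift_fst, Category.id_comp, hφ2]
    · rw [Category.assoc, pullback.lift_snd, Category.id_comp, ← cancel_mono ιV, Category.assoc,
        hw₁', hφ1]
  have hρφ : ρ ≫ φ = 𝟙 _ := by
    apply (yon S).map_injective
    apply sqW.hom_ext
    · rw [← Functor.map_comp, Category.assoc, hφ1, ← Category.assoc, pullback.lift_snd, hw₁',
        CategoryTheory.Functor.map_id, Category.id_comp]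
    · rw [← Functor.map_comp, Category.assoc, hφ2, pullback.lift_fst,
        CategoryTheory.Functor.map_id, Category.id_comp]
  have hφiso : IsIso φ := ⟨ρ, hφρ, hρφ⟩
  have hφl : IsIso φ.left := (Over.forget S).map_isIso φ
  have hpr₁et : Etale pr₁.left := by
    rw [← hφ2, Over.comp_left]
    haveI := hw₂e
    infer_instance
  -- Step 6: descent of étaleness along the flat cover `v`
  have hvqc : QuasiCompact v.left := inferInstance
  have hvet : Etale v.left :=
    MorphismProperty.of_isPullback_of_descendsAlong (P := @Etale)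
      (Q := @Surjective ⊓ @Flat ⊓ @QuasiCompact) sqVVl ⟨⟨hvsurj, hvflat'⟩, hvqc⟩ hpr₁et
  have hvlfp : LocallyOfFinitePresentation v.left := by haveI := hvet; infer_instance
  -- Step 7: glue
  obtain ⟨l, hl⟩ := Groth.Agent.Helper2.AlgSpFormal.exists_glue_of_family (F := P) (Z' := ptA)
    (W := fun _ : Unit => V) (p := fun _ => v)
    (fun _ => ⟨hvflat', hvlfp⟩)
    (fun x => ⟨(), hvsurj.surj x⟩)
    (fun _ => g)
    (by
      intro _ _ Q qi qj e
      calc (yon S).map qi ≫ g = (yon S).map (pullback.lift qi qj e ≫ pr₁) ≫ g := by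
            rw [pullback.lift_fst]
        _ = (yon S).map (pullback.lift qi qj e) ≫ (yon S).map pr₁ ≫ g := by
            rw [Functor.map_comp, Category.assoc]
        _ = (yon S).map (pullback.lift qi qj e) ≫ (yon S).map pr₂ ≫ g := by rw [hC3]
        _ = (yon S).map (pullback.lift qi qj e ≫ pr₂) ≫ g := by
            rw [Functor.map_comp, Category.assoc]
        _ = (yon S).map qj ≫ g := by rw [pullback.lift_snd])
  have hl' : (yon S).map v ≫ l = g := hl ()
  have hvLS : Sheaf.IsLocallySurjective ((yon S).map v) :=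
    isLocallySurjective_of_fppf _ ((repWith_yon_map_iff @Flat v).mpr hvflat')
      ((repWith_yon_map_iff @LocallyOfFinitePresentation v).mpr hvlfp)
      ((repWith_yon_map_iff @Surjective v).mpr hvsurj)
  haveI hvepi : Epi ((yon S).map v) := inferInstance
  have hl2 : l ≫ snd = 𝟙 _ := by
    rw [← cancel_epi ((yon S).map v), ← Category.assoc, hl', hgv, Category.comp_id]
  have hdsurj : Surjective d.left := by
    have hss : Subsingleton (PrimeSpectrum K) := inferInstance
    exact ⟨fun x => ⟨t, @Subsingleton.elim (PrimeSpectrum K) hss _ _⟩⟩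
  have hdLS : Sheaf.IsLocallySurjective ((yon S).map d) :=
    isLocallySurjective_of_fppf _
      ((repWith_yon_map_iff @Flat d).mpr (by haveI := hd; infer_instance))
      ((repWith_yon_map_iff @LocallyOfFinitePresentation d).mpr (by haveI := hd; infer_instance))
      ((repWith_yon_map_iff @Surjective d).mpr hdsurj)
  haveI hdepi : Epi ((yon S).map d) := inferInstance
  have hl1 : (yon S).map j ≫ l = top := by
    rw [← cancel_epi ((yon S).map d)]
    calc (yon S).map d ≫ (yon S).map j ≫ l = (yon S).map (d ≫ j) ≫ l := by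
          rw [(yon S).map_comp d j, Category.assoc]
      _ = (yon S).map (c' ≫ v) ≫ l := by rw [hc'v]
      _ = (yon S).map c' ≫ (yon S).map v ≫ l := by
          rw [(yon S).map_comp c' v, Category.assoc]
      _ = (yon S).map c' ≫ g := by rw [hl']
      _ = (yon S).map d ≫ top := hgc'
  exact ⟨l, hl1, hl2⟩

end Main

/-- For a separated morphism of algebraic spaces, a valuative square with a lift after a
dominating extension of the valuation ring has a lift. -/
theorem hasLift_of_domExt_hasLift {X Y : Sp S} (hX : IsAlgSpace X) (hY : IsAlgSpace Y)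
    (f : X ⟶ Y) (hf : IsSeparatedMor f) (sq : ValSq f) (e₀ : sq.DomExt) (he : e₀.HasLift) :
    sq.HasLift := by
  obtain ⟨l₀, hl1, hl2⟩ := he
  have sqP := IsPullback.of_hasPullback f sq.bot
  have hP : IsAlgSpace (pullback f sq.bot) :=
    isAlgSpace_of_isPullback hY.diag hX (IsAlgSpace.yon_obj _) f sq.bot _ _ sqP
  let snd := pullback.snd f sq.bot
  have hsep : IsSeparatedMor snd := repWith_diagonal_of_isPullback @IsClosedImmersion sqP hf
  let top' : (yon S).obj sq.ptK ⟶ pullback f sq.bot :=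
    pullback.lift sq.top ((yon S).map sq.j) sq.comm
  have comm'' : top' ≫ snd = (yon S).map sq.j := pullback.lift_snd _ _ _
  -- the given lift, into the base change
  let φO₀ : e₀.ptA' ⟶ sq.ptA := Over.homMk (Spec.map (CommRingCat.ofHom e₀.φ)) rfl
  let jK₀ : e₀.ptK' ⟶ e₀.ptA' :=
    Over.homMk (Spec.map (CommRingCat.ofHom (algebraMap e₀.A' e₀.K'))) rfl
  let ψO₀ : e₀.ptK' ⟶ sq.ptK := Over.homMk (Spec.map (CommRingCat.ofHom e₀.ψ)) (by
    change Spec.map _ ≫ Spec.map _ ≫ _ = Spec.map _ ≫ Spec.map _ ≫ _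
    rw [← Spec.map_comp_assoc, ← Spec.map_comp_assoc, ← CommRingCat.ofHom_comp,
      ← CommRingCat.ofHom_comp, e₀.comm])
  have hl1' : (yon S).map jK₀ ≫ l₀ = (yon S).map ψO₀ ≫ sq.top := hl1
  have hl2' : l₀ ≫ f = (yon S).map φO₀ ≫ sq.bot := hl2
  let l' : (yon S).obj e₀.ptA' ⟶ pullback f sq.bot := pullback.lift l₀ ((yon S).map φO₀) hl2'
  have hl'snd : l' ≫ snd = (yon S).map φO₀ := pullback.lift_snd _ _ _
  have hOver : jK₀ ≫ φO₀ = ψO₀ ≫ sq.j := by
    apply Over.OverMorphism.ext
    show Spec.map _ ≫ Spec.map _ = Spec.map _ ≫ Spec.map _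
    rw [← Spec.map_comp, ← Spec.map_comp, ← CommRingCat.ofHom_comp, ← CommRingCat.ofHom_comp,
      e₀.comm]
  have hl'top : (yon S).map jK₀ ≫ l' = (yon S).map ψO₀ ≫ top' := by
    apply pullback.hom_ext
    · rw [Category.assoc, Category.assoc, pullback.lift_fst, pullback.lift_fst]
      exact hl1'
    · rw [Category.assoc, Category.assoc, pullback.lift_snd, pullback.lift_snd,
        ← Functor.map_comp, ← Functor.map_comp, hOver]
  -- chart around the image of the closed point
  obtain ⟨U₀, a₀, hae, has⟩ := hP.atlas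
  obtain ⟨u', hu'⟩ := surjective_ofPt a₀ has (Points.ofPt l' (closedPoint e₀.A'))
  obtain ⟨h₀, hh₀⟩ := (yon S).map_surjective (a₀ ≫ snd)
  have := e₀.isLocalHom
  have hu'A : h₀.left u' = closedPoint sq.A := by
    have h1 : Points.map snd (Points.ofPt a₀ u') = Points.ofScheme sq.ptA (h₀.left u') := by
      rw [Points.map_ofPt, ← hh₀, ofPt_yon_map]
    have h2 : Points.map snd (Points.ofPt l' (closedPoint e₀.A')) =
        Points.ofScheme sq.ptA (φO₀.left (closedPoint e₀.A')) := by
      rw [Points.map_ofPt, hl'snd, ofPt_yon_map]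
    rw [hu', h2] at h1
    have h3 := congrArg (Points.toScheme sq.ptA) h1
    rw [Points.toScheme_ofScheme, Points.toScheme_ofScheme] at h3
    rw [← h3]
    exact comap_closedPoint e₀.φ
  -- the pullback of the chart to Spec A'
  have hrep := hae.rep
  obtain ⟨w₁, hw₁⟩ := (yon S).map_surjective (hrep.fst l')
  let w₂ : hrep.pullback l' ⟶ e₀.ptA' := hrep.snd l'
  have sqW : IsPullback ((yon S).map w₁) ((yon S).map w₂) a₀ l' := by
    rw [hw₁]; exact hrep.isPullback l'
  have hw₂e : Etale w₂.left := hae.property l' _ _ (hrep.isPullback l')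
  obtain ⟨w', hw'1, hw'2⟩ :=
    exists_point_of_isPullback_yon a₀ l' w₁ w₂ sqW u' (closedPoint e₀.A') hu'
  let ξ' : ↥e₀.ptA'.left := jK₀.left (closedPoint e₀.K')
  have hξ' : ξ' ⤳ w₂.left w' := by
    rw [hw'2]; exact specializes_closedPoint (R := e₀.A') _
  have : Flat w₂.left := by have := hw₂e; infer_instance
  obtain ⟨w, hw1, hw2⟩ := (Flat.generalizingMap w₂.left) hξ'
  let u : ↥U₀.left := w₁.left w
  have huu' : u ⤳ u' := by
    rw [← hw'1]; exact hw1.map w₁.left.continuous
  let η : ↥sq.ptK.left := closedPoint sq.K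
  have hu : Points.ofPt a₀ u = Points.ofPt top' η := by
    show Points.ofPt a₀ (w₁.left w) = _
    rw [← ofPt_yon_map_comp, sqW.w, ofPt_yon_map_comp, hw2]
    show Points.ofPt l' (jK₀.left (closedPoint e₀.K')) = _
    rw [← ofPt_yon_map_comp, hl'top, ofPt_yon_map_comp]
    congr 1
    exact Subsingleton.elim (α := PrimeSpectrum sq.K) _ _
  -- shrink the chart to an affine open neighbourhood of `u'`
  obtain ⟨Uo, hUoaff, hu'Uo, -⟩ :=
    exists_isAffineOpen_mem_and_subset (X := U₀.left) (x := u') (U := ⊤) trivial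
  have huUo : u ∈ Uo := huu'.mem_open Uo.2 hu'Uo
  let Ua : Over S := Over.mk (Uo.ι ≫ U₀.hom)
  let ι : Ua ⟶ U₀ := Over.homMk Uo.ι rfl
  haveI : IsAffine Ua.left := hUoaff
  obtain ⟨x', hx'⟩ : ∃ x' : ↥Ua.left, ι.left x' = u' := by
    have : u' ∈ Set.range Uo.ι := by rw [Scheme.Opens.range_ι]; exact hu'Uo
    exact this
  obtain ⟨x, hx⟩ : ∃ x : ↥Ua.left, ι.left x = u := by
    have : u ∈ Set.range Uo.ι := by rw [Scheme.Opens.range_ι]; exact huUo
    exact this
  have hxx' : x ⤳ x' := by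
    have hind : Topology.IsInducing Uo.ι := Uo.ι.isOpenEmbedding.isInducing
    rw [← hind.specializes_iff]
    show ι.left x ⤳ ι.left x'
    rw [hx, hx']
    exact huu'
  let a : (yon S).obj Ua ⟶ pullback f sq.bot := (yon S).map ι ≫ a₀
  have hae' : RepWith @Etale a :=
    repWith_comp @Etale ((repWith_yon_map_iff @Etale ι).2 (inferInstance : Etale Uo.ι)) hae
  let h : Ua ⟶ sq.ptA := ι ≫ h₀
  have hh : (yon S).map h = a ≫ snd := by
    show (yon S).map (ι ≫ h₀) = ((yon S).map ι ≫ a₀) ≫ snd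
    rw [(yon S).map_comp ι h₀, hh₀, Category.assoc]
  have hx'A : h.left x' = closedPoint sq.A := by
    show h₀.left (ι.left x') = _
    rw [hx', hu'A]
  have hxη : Points.ofPt a x = Points.ofPt top' η := by
    show Points.ofPt ((yon S).map ι ≫ a₀) x = _
    rw [ofPt_yon_map_comp, hx, hu]
  -- the generic fibre of the chart
  have hrep' := hae'.rep
  obtain ⟨c, hc⟩ := (yon S).map_surjective (hrep'.fst top')
  let d : hrep'.pullback top' ⟶ sq.ptK := hrep'.snd top'
  have sqT : IsPullback ((yon S).map c) ((yon S).map d) a top' := by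
    rw [hc]; exact hrep'.isPullback top'
  have hde : Etale d.left := hae'.property top' _ _ (hrep'.isPullback top')
  obtain ⟨t, ht1, -⟩ := exists_point_of_isPullback_yon a top' c d sqT x η hxη
  have hsp : c.left t ⤳ x' := by rw [ht1]; exact hxx'
  obtain ⟨l, hl1, hl2⟩ :=
    hasLift_of_chart_specialization (A := sq.A) (K := sq.K) hP sq.str snd hsep top' comm'' a hae'
      h hh c d sqT hde t x' hsp hx'A
  refine ⟨l ≫ pullback.fst f sq.bot, ?_, ?_⟩
  · rw [← Category.assoc]
    have h3 : (yon S).map sq.j ≫ l = top' := hl1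
    rw [h3]
    exact pullback.lift_fst _ _ _
  · rw [Category.assoc, pullback.condition, ← Category.assoc]
    have h3 : l ≫ pullback.snd f sq.bot = 𝟙 _ := hl2
    rw [h3, Category.id_comp]

end Groth.Agent.Helper2.AlgSpBasic
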