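import Mathlib
import Groth.Agent.Lib.Helper2.AlgSp.GenFiniteSp
import Groth.Agent.Lib.Helper2.AlgSp.LocalDimDecent
import Groth.Agent.Lib.Helper2.AlgSp.QsDecentB
import Groth.Agent.Lib.Helper2.Lqf.Image

/-!
# Generic finiteness for morphisms of algebraic spaces, II (helper2)
-/

set_option autoImplicit false
set_option linter.style.haveILetI false

open CategoryTheory CategoryTheory.Limits AlgebraicGeometry Opposite AlgSp

universe u

namespace Groth.Agent.Helper2.GenFiniteSp

open Groth.Agent.Helper2.AlgSpBasic Groth.Agent.Helper2.LargestSch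
open Groth.Agent.Helper2.DecentOpen Groth.Agent.Helper2.QfCodimZero
open Groth.Agent.Helper2.QfAt Groth.Agent.Helper2.QfAtSp

/-- A morphism locally of finite type is quasi-finite at the points of a finite fibre. -/
theorem quasiFiniteAt_of_finite_fibre {X Y : Scheme.{u}} (h : X ⟶ Y) [LocallyOfFiniteType h]
    (u : ↥X) (hfin : (h ⁻¹' {h u}).Finite) : h.QuasiFiniteAt u := by
  haveI : Finite (h.fiber (h u)) := (h.fiberHomeo (h u)).finite_iff.mpr hfin
  haveI : DiscreteTopology (h.fiber (h u)) := inferInstance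
  rw [Scheme.Hom.quasiFiniteAt_iff_isOpen_singleton_asFiber]
  exact isOpen_discrete _

variable {S : Scheme.{u}}

/-- The source of a quasi-separated morphism to a quasi-separated space is quasi-separated. -/
theorem isQuasiSeparatedSp_of_isQuasiSeparatedMor {X Y : Sp S} (f : X ⟶ Y)
    (hf : IsQuasiSeparatedMor f) (hY : IsQuasiSeparatedSp Y) : IsQuasiSeparatedSp X := by
  have h1 : RepWith @QuasiCompact (prod.lift (pullback.fst f f) (pullback.snd f f)) :=
    repWith_of_isPullback @QuasiCompact (isPullback_prod_lift_diag f f).flip hY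
  have h2 : pullback.diagonal f ≫ prod.lift (pullback.fst f f) (pullback.snd f f) =
      Limits.diag X := by
    apply Limits.prod.hom_ext
    · rw [Category.assoc, prod.lift_fst, pullback.diagonal_fst]
      exact (prod.lift_fst _ _).symm
    · rw [Category.assoc, prod.lift_snd, pullback.diagonal_snd]
      exact (prod.lift_snd _ _).symm
  have h3 := repWith_comp @QuasiCompact hf h1
  rw [h2] at h3
  exact h3

/-- Finite morphisms have finite fibres on points. -/
theorem finite_fibre_of_isFiniteMor {X Y : Sp S} (hY : IsAlgSpace Y) (f : X ⟶ Y)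
    (hf : IsFiniteMor f) (y : Points Y) : (Points.map f ⁻¹' {y}).Finite := by
  obtain ⟨Z, c, hZ, hce, z, hz⟩ := Groth.Agent.Helper2.FibreSpecB.exists_affine_chart_through hY y
  obtain ⟨W, i, fst, sq, hW, hi⟩ := hf hZ c
  haveI := hi
  have hfin : (i.left ⁻¹' {z}).Finite := i.left.finite_preimage_singleton z
  refine (hfin.image (Points.ofPt fst)).subset ?_
  intro x hx
  have hx' : Points.map f x = Points.ofPt c z := by rw [hz]; exact hx
  obtain ⟨w, hw1, hw2⟩ := exists_point_of_isPullback_right f c fst i sq x z hx'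
  exact ⟨w, hw2, hw1⟩

/-- Quasi-finiteness at the points of a finite fibre, for a decent source. -/
theorem hasAtMor_qf_of_finite_fibre {X Y : Space S} (f : X ⟶ Y)
    (hft : LocP @LocallyOfFiniteType f.hom) (hXd : IsDecent X.obj) (y : Points Y.obj)
    (hfin : (Points.map f.hom ⁻¹' {y}).Finite) (x : Points X.obj)
    (hx : Points.map f.hom x = y) : HasAtMor QfQ f.hom x := by
  obtain ⟨U, a, hU, hae, u, hu⟩ :=
    Groth.Agent.Helper2.FibreSpecB.exists_affine_chart_through X.property x
  obtain ⟨V, b, hV, hbe, v, hv⟩ :=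
    Groth.Agent.Helper2.FibreSpecB.exists_affine_chart_through Y.property y
  obtain ⟨W, pr₁, pr₂, sq⟩ := exists_isPullback_yon Y.property.diag (a ≫ f.hom) b
  have he : Points.ofPt (a ≫ f.hom) u = Points.ofPt b v := by
    rw [← Points.map_ofPt, hu, hx, hv]
  obtain ⟨w, hw1, hw2⟩ := exists_point_of_isPullback_yon (a ≫ f.hom) b pr₁ pr₂ sq u v he
  obtain ⟨_, ⟨W₀', hW₀', rfl⟩, hwW₀, -⟩ := W.left.isBasis_affineOpens.exists_subset_of_mem_open
    (Set.mem_univ w) isOpen_univ
  obtain ⟨W₀, hW₀e⟩ : ∃ W₀ : W.left.Opens, W₀ = W₀' := ⟨_, rfl⟩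
  rw [← hW₀e] at hW₀' hwW₀
  haveI hW₀aff : IsAffine (opensOver W₀).left := hW₀'
  have hpr₁e : RepWith @Etale ((yon S).map pr₁) := repWith_of_isPullback @Etale sq.flip hbe
  have hιe : RepWith @Etale ((yon S).map (opensOverι W₀)) :=
    (repWith_yon_map_iff @Etale _).mpr (inferInstanceAs (Etale W₀.ι))
  obtain ⟨a₀, ha₀⟩ : ∃ a₀, a₀ = (yon S).map (opensOverι W₀) ≫ (yon S).map pr₁ ≫ a := ⟨_, rfl⟩
  have ha₀e : RepWith @Etale a₀ := by
    rw [ha₀]
    exact repWith_comp @Etale hιe (repWith_comp @Etale hpr₁e hae)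
  have hc : a₀ ≫ f.hom = (yon S).map (opensOverι W₀ ≫ pr₂) ≫ b := by
    rw [ha₀, Functor.map_comp, Category.assoc, Category.assoc, Category.assoc, ← sq.w]
  haveI : LocallyOfFiniteType (opensOverι W₀ ≫ pr₂).left := hft a₀ b _ ha₀e hbe hc
  have hmap : ∀ w' : ↥(opensOver W₀).left,
      Points.map f.hom (Points.ofPt a₀ w') = Points.ofPt b ((opensOverι W₀ ≫ pr₂).left w') := by
    intro w'
    rw [Points.map_ofPt, hc, ofPt_yon_map_comp]
  have hfib : ((opensOverι W₀ ≫ pr₂).left ⁻¹' {v}).Finite := by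
    have h1 : (Points.ofPt a₀ ⁻¹' (Points.map f.hom ⁻¹' {y})).Finite :=
      hfin.preimage' fun x' _ =>
        Groth.Agent.Helper2.FibreSpecB.finite_fibre_of_isDecent X.property hXd x' _ a₀ hW₀aff ha₀e
    refine h1.subset ?_
    intro w' hw'
    show Points.map f.hom (Points.ofPt a₀ w') = y
    rw [hmap, hw', hv]
  have hw₀v : (opensOverι W₀ ≫ pr₂).left ⟨w, hwW₀⟩ = v := by
    rw [Over.comp_left, Scheme.Hom.comp_apply]
    exact hw2
  have hq : (opensOverι W₀ ≫ pr₂).left.QuasiFiniteAt ⟨w, hwW₀⟩ :=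
    quasiFiniteAt_of_finite_fibre _ _ (by rw [hw₀v]; exact hfib)
  have hres := hasAtMor_of_quasiFiniteAt f.hom hft a₀ b _ ha₀e hbe hc ⟨w, hwW₀⟩ hq
  have hpt : Points.ofPt a₀ ⟨w, hwW₀⟩ = x := by
    rw [ha₀, ofPt_yon_map_comp, ofPt_yon_map_comp, ← hu]
    congr 1
  rw [hpt] at hres
  exact hres

/-- S10446, the forward direction. -/
theorem exists_finite_open_of_finite_fibre [QuasiSeparatedSpace ↥S] {X Y : Space S} (f : X ⟶ Y)
    (hqs : IsQuasiSeparatedMor f.hom) (hft : LocP @LocallyOfFiniteType f.hom)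
    (hY : IsQuasiSeparatedSp Y.obj) (y : Points Y.obj) (hy : HasAt DimZ Y.obj y)
    (hfin : (Points.map f.hom ⁻¹' {y}).Finite) :
    ∃ (X' Y' : Space S) (i : X' ⟶ X) (j : Y' ⟶ Y) (f' : X' ⟶ Y'),
      RepWith @IsOpenImmersion i.hom ∧ RepWith @IsOpenImmersion j.hom ∧ f' ≫ j = i ≫ f ∧
        y ∈ Set.range (Points.map j.hom) ∧
          Points.map f.hom ⁻¹' {y} ⊆ Set.range (Points.map i.hom) ∧ IsFiniteMor f'.hom := by
  have hXqs : IsQuasiSeparatedSp X.obj := isQuasiSeparatedSp_of_isQuasiSeparatedMor f.hom hqs hY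
  have hXd : IsDecent X.obj :=
    Groth.Agent.Helper2.QsDecentB.isDecent_of_isQuasiSeparatedSp X.property hXqs
  -- a quasi-compact open containing the fibre
  have hnhd : ∀ x : Points X.obj, ∃ V : Set (Points X.obj), IsOpen V ∧ IsCompact V ∧ x ∈ V := by
    intro x
    obtain ⟨V, hVo, hVc, hxV, -⟩ :=
      exists_isOpen_isCompact_nhd X.property x Set.univ isOpen_univ trivial
    exact ⟨V, hVo, hVc, hxV⟩
  choose Vx hVxo hVxc hxVx using hnhd
  obtain ⟨O'', hO''def⟩ : ∃ O'' : Set (Points X.obj),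
      O'' = ⋃ x ∈ Points.map f.hom ⁻¹' {y}, Vx x := ⟨_, rfl⟩
  have hO''o : IsOpen O'' := by
    rw [hO''def]
    exact isOpen_biUnion fun x _ => hVxo x
  have hO''c : IsCompact O'' := by
    rw [hO''def]
    exact hfin.isCompact_biUnion fun x _ => hVxc x
  have hFO'' : Points.map f.hom ⁻¹' {y} ⊆ O'' := by
    intro x hx
    rw [hO''def]
    exact Set.mem_biUnion hx (hxVx x)
  have hX'' : IsAlgSpace (openSub X.obj O'') := isAlgSpace_openSub X.property hO''o
  have hιoi := repWith_isOpenImmersion_openSubι X.obj hO''o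
  have hιe : RepWith @Etale (openSubι X.obj O'') := repWith_isOpenImmersion_le_etale hιoi
  have hemb := Groth.Agent.Helper2.GpdInv.isOpenEmbedding_points_openSubι X.property hO''o
  have hX''q : IsQuasiCompactSp (openSub X.obj O'') := by
    rw [isQuasiCompactSp_iff_compactSpace_points hX'', ← isCompact_univ_iff,
      hemb.isInducing.isCompact_iff, Set.image_univ, range_points_map_openSubι]
    exact hO''c
  have hX''d : IsDecent (openSub X.obj O'') :=
    Groth.Agent.Helper2.LocalDimDecent.isDecent_openSub X hXd hO''o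
  obtain ⟨f'', hf''⟩ : ∃ f'' : (⟨openSub X.obj O'', hX''⟩ : Space S) ⟶ Y,
      f''.hom = openSubι X.obj O'' ≫ f.hom := ⟨ObjectProperty.homMk _, rfl⟩
  have hqs'' : IsQuasiSeparatedMor f''.hom := by
    rw [hf'']
    exact Groth.Agent.Helper2.Lqf.repWith_diagonal_comp @QuasiCompact _ f.hom
      (isQuasiSeparatedMor_of_mono _) hqs
  have hlft'' : LocP @LocallyOfFiniteType f''.hom := by
    intro U V a b h ha hb c
    rw [hf''] at c
    exact hft (a ≫ openSubι X.obj O'') b h (repWith_comp @Etale ha hιe) hb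
      (by rw [Category.assoc, c])
  have hft'' : IsFiniteTypeMor f''.hom :=
    ⟨hlft'', isQuasiCompactMor_of_quasiCompactSp_quasiSeparatedSp hX'' Y.property f''.hom
      hX''q hY⟩
  have hfin'' : (Points.map f''.hom ⁻¹' {y}).Finite := by
    refine Set.Finite.of_finite_image (f := Points.map (openSubι X.obj O'')) (hfin.subset ?_)
      (hemb.injective.injOn)
    rintro _ ⟨x'', hx'', rfl⟩
    show Points.map f.hom (Points.map (openSubι X.obj O'') x'') = y
    rw [← Points.map_comp, ← hf'']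
    exact hx''
  have hqf'' : ∀ x'' : Points (openSub X.obj O''), Points.map f''.hom x'' = y →
      HasAtMor QfQ f''.hom x'' := fun x'' hx'' =>
    hasAtMor_qf_of_finite_fibre f'' hlft'' hX''d y hfin'' x'' hx''
  obtain ⟨O, hO, hyO, hfinO⟩ := exists_open_finite f'' hqs'' hft'' y hy hqf''
  obtain ⟨g', hg'⟩ : ∃ g', g' = openSubLift O
      (openSubι (openSub X.obj O'') (Points.map f''.hom ⁻¹' O) ≫ f''.hom) (fun p => by
        rw [Points.map_comp]
        exact points_map_openSubι_mem (openSub X.obj O'') _ p) := ⟨_, rfl⟩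
  have sq : IsPullback (openSubι (openSub X.obj O'') (Points.map f''.hom ⁻¹' O)) g' f''.hom
      (openSubι Y.obj O) := by
    rw [hg']
    exact isPullback_openSub f''.hom O
  have hpre : IsOpen (Points.map f''.hom ⁻¹' O) := hO.preimage (Points.continuous_map _)
  refine ⟨⟨openSub (openSub X.obj O'') (Points.map f''.hom ⁻¹' O), isAlgSpace_openSub hX'' hpre⟩,
    ⟨openSub Y.obj O, isAlgSpace_openSub Y.property hO⟩,
    ObjectProperty.homMk (openSubι (openSub X.obj O'') (Points.map f''.hom ⁻¹' O) ≫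
      openSubι X.obj O''),
    ObjectProperty.homMk (openSubι Y.obj O), ObjectProperty.homMk g', ?_,
    repWith_isOpenImmersion_openSubι Y.obj hO, ?_, ?_, ?_, hfinO _ _ _ sq.flip⟩
  · exact repWith_comp @IsOpenImmersion (repWith_isOpenImmersion_openSubι _ hpre) hιoi
  · apply ObjectProperty.hom_ext
    show g' ≫ openSubι Y.obj O = (_ ≫ openSubι X.obj O'') ≫ f.hom
    rw [← sq.w, hf'', Category.assoc]
  · show y ∈ Set.range (Points.map (openSubι Y.obj O))
    rw [range_points_map_openSubι]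
    exact hyO
  · intro x hx
    show x ∈ Set.range (Points.map (openSubι (openSub X.obj O'') (Points.map f''.hom ⁻¹' O) ≫
      openSubι X.obj O''))
    obtain ⟨x'', rfl⟩ : x ∈ Set.range (Points.map (openSubι X.obj O'')) := by
      rw [range_points_map_openSubι]
      exact hFO'' hx
    have hx''O : x'' ∈ Points.map f''.hom ⁻¹' O := by
      show Points.map f''.hom x'' ∈ O
      rw [hf'', Points.map_comp]
      have : Points.map f.hom (Points.map (openSubι X.obj O'') x'') = y := hx
      rw [this]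
      exact hyO
    obtain ⟨x', rfl⟩ : x'' ∈ Set.range (Points.map (openSubι (openSub X.obj O'')
        (Points.map f''.hom ⁻¹' O))) := by
      rw [range_points_map_openSubι]
      exact hx''O
    exact ⟨x', by rw [Points.map_comp]⟩

/-- S10446, the backward direction. -/
theorem finite_fibre_of_finite_open {X Y : Space S} (f : X ⟶ Y) (y : Points Y.obj)
    (h : ∃ (X' Y' : Space S) (i : X' ⟶ X) (j : Y' ⟶ Y) (f' : X' ⟶ Y'),
      RepWith @IsOpenImmersion i.hom ∧ RepWith @IsOpenImmersion j.hom ∧ f' ≫ j = i ≫ f ∧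
        y ∈ Set.range (Points.map j.hom) ∧
          Points.map f.hom ⁻¹' {y} ⊆ Set.range (Points.map i.hom) ∧ IsFiniteMor f'.hom) :
    (Points.map f.hom ⁻¹' {y}).Finite := by
  obtain ⟨X', Y', i, j, f', -, hj, hw, ⟨y', hy'⟩, hsub, hfin⟩ := h
  have h1 := finite_fibre_of_isFiniteMor Y'.property f'.hom hfin y'
  refine (h1.image (Points.map i.hom)).subset ?_
  intro x hx
  obtain ⟨x', rfl⟩ := hsub hx
  refine ⟨x', ?_, rfl⟩
  haveI := mono_of_repWith_isOpenImmersion j.hom hj
  apply injective_points_map_of_mono j.hom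
  have hw' : f'.hom ≫ j.hom = i.hom ≫ f.hom := congrArg (fun k => k.hom) hw
  rw [← Points.map_comp, hw', Points.map_comp, hy']
  exact hx

end Groth.Agent.Helper2.GenFiniteSp
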