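import Mathlib
import Groth.Agent.Lib.Helper2.AlgSp.GenFiniteSp2
import Groth.Agent.Lib.Helper2.Sch.GenFinSep

/-!
# Generic finiteness for morphisms of algebraic spaces, III (helper2)
-/

set_option autoImplicit false
set_option linter.style.haveILetI false

open CategoryTheory CategoryTheory.Limits AlgebraicGeometry Opposite AlgSp

universe u

namespace Groth.Agent.Helper2.GenFiniteSp

open Groth.Agent.Helper2.AlgSpBasic Groth.Agent.Helper2.LargestSch
open Groth.Agent.Helper2.DecentOpen Groth.Agent.Helper2.QfCodimZero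
open Groth.Agent.Helper2.QfAt Groth.Agent.Helper2.QfAtSp

variable {S : Scheme.{u}}

/-- Finiteness is invariant under precomposition with an isomorphism. -/
theorem isFiniteMor_iso_comp {A B C : Sp S} (e : A ≅ B) (f : B ⟶ C) (hf : IsFiniteMor f) :
    IsFiniteMor (e.hom ≫ f) := by
  intro Z hZ g
  obtain ⟨W, i, fst, sq, hW, hi⟩ := hf hZ g
  refine ⟨W, i, fst ≫ e.inv, ?_, hW, hi⟩
  exact sq.of_iso (Iso.refl _) e.symm (Iso.refl _) (Iso.refl _) (by simp) (by simp)
    (by simp) (by simp)

/-- Descent of finiteness to the open image of an etale chart. -/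
theorem isFiniteMor_over_range_of_etale {X Y : Space S} (f : X ⟶ Y) {W : Over S}
    (b' : (yon S).obj W ⟶ Y.obj) (hb'e : RepWith @Etale b') {P' : Sp S} (fstP' : P' ⟶ X.obj)
    (sndP' : P' ⟶ (yon S).obj W) (sqP' : IsPullback fstP' sndP' f.hom b')
    (hfin : IsFiniteMor sndP') (O : Set (Points Y.obj)) (hOdef : O = Set.range (Points.ofPt b')) :
    IsOpen O ∧ ∀ (X' : Sp S) (fst : X' ⟶ openSub Y.obj O) (snd : X' ⟶ X.obj),
        IsPullback fst snd (openSubι Y.obj O) f.hom → IsFiniteMor fst := by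
  have hO : IsOpen O := by
    rw [hOdef]
    exact (isOpenMap_ofPt b' hb'e).isOpen_range
  refine ⟨hO, ?_⟩
  intro X' fst snd sqX
  have hY' : IsAlgSpace (openSub Y.obj O) := isAlgSpace_openSub Y.property hO
  have hX' : IsAlgSpace X' :=
    isAlgSpace_of_isPullback Y.property.diag hY' X.property (openSubι Y.obj O) f.hom fst snd sqX
  have hpmem : ∀ q : Points ((yon S).obj W), Points.map b' q ∈ O := by
    intro q
    obtain ⟨w, rfl⟩ := (Points.schemeHomeo W).surjective q
    change Points.map _ (Points.ofScheme _ w) ∈ O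
    rw [← Points.ofPt_eq_map_ofScheme, hOdef]
    exact ⟨w, rfl⟩
  obtain ⟨p, hp⟩ : ∃ p, p = openSubLift O b' hpmem := ⟨_, rfl⟩
  have hpι : p ≫ openSubι Y.obj O = b' := by rw [hp, openSubLift_ι]
  have hpe : RepWith @Etale p := repWith_lift_of_mono @Etale (openSubι Y.obj O) _ p hpι hb'e
  have hps : RepWith @Surjective p := by
    apply repWith_surjective_of_surjective_ofPt p hpe.rep
    intro z
    have hz := points_map_openSubι_mem Y.obj O z
    obtain ⟨w, hw⟩ := (Set.ext_iff.mp hOdef _).mp hz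
    refine ⟨w, ?_⟩
    apply injective_points_map_of_mono (openSubι Y.obj O)
    rw [Points.map_ofPt, hpι, hw]
  have hlc : (sndP' ≫ p) ≫ openSubι Y.obj O = fstP' ≫ f.hom := by
    rw [Category.assoc, hpι, sqP'.w]
  obtain ⟨fst₂, hfst₂⟩ : ∃ fst₂, fst₂ = sqX.lift (sndP' ≫ p) fstP' hlc := ⟨_, rfl⟩
  have hfst₂a : fst₂ ≫ fst = sndP' ≫ p := by rw [hfst₂, sqX.lift_fst]
  have hfst₂b : fst₂ ≫ snd = fstP' := by rw [hfst₂, sqX.lift_snd]
  have sq₂ : IsPullback fst₂ sndP' fst p := by
    have big : IsPullback (fst₂ ≫ snd) sndP' f.hom (p ≫ openSubι Y.obj O) := by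
      rw [hfst₂b, hpι]
      exact sqP'
    exact IsPullback.of_right big hfst₂a sqX.flip
  exact (Groth.Agent.S10268.result (X := ⟨X', hX'⟩) (Y := ⟨openSub Y.obj O, hY'⟩)
    (ObjectProperty.homMk fst) W p hpe hps fst₂ sndP' sq₂).2 hfin

/-- The two projections of a kernel pair of schemes over `S` are jointly monic on the level of
underlying schemes. -/
theorem jointly_mono_of_isPullback_yon {P : Sp S} {U R : Over S} (a : (yon S).obj U ⟶ P)
    (t s : R ⟶ U) (sq : IsPullback ((yon S).map t) ((yon S).map s) a a) {T : Scheme.{u}}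
    (α β : T ⟶ R.left) (h1 : α ≫ t.left = β ≫ t.left) (h2 : α ≫ s.left = β ≫ s.left) :
    α = β := by
  have hβ : β ≫ R.hom = α ≫ R.hom := by
    rw [← Over.w s, ← Category.assoc, ← Category.assoc, h2]
  let α' : Over.mk (α ≫ R.hom) ⟶ R := Over.homMk α rfl
  let β' : Over.mk (α ≫ R.hom) ⟶ R := Over.homMk β hβ
  have e : (yon S).map α' = (yon S).map β' := by
    apply sq.hom_ext
    · rw [← Functor.map_comp, ← Functor.map_comp]
      congr 1
      apply Over.OverMorphism.ext
      exact h1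
    · rw [← Functor.map_comp, ← Functor.map_comp]
      congr 1
      apply Over.OverMorphism.ext
      exact h2
  have e' : α' = β' := (yon S).map_injective e
  exact congrArg (fun k => k.left) e'

/-- Generic finiteness over an affine base with a unique point of codimension zero, for a
quasi-compact source. -/
theorem exists_affine_open_finite_qc {P : Sp S} (hP : IsAlgSpace P) (hPq : IsQuasiCompactSp P)
    {V : Over S} [IsAffine V.left] (sndP : P ⟶ (yon S).obj V)
    (hlft : LocP @LocallyOfFiniteType sndP) (v : ↥V.left)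
    (hv0 : ringKrullDim ↥(V.left.presheaf.stalk v) = 0)
    (h1 : ∀ w : Points P, Points.map sndP w = Points.ofPt (𝟙 _) v → HasAt DimZ P w)
    (h2 : ∀ w : Points P, HasAt DimZ P w → Points.map sndP w = Points.ofPt (𝟙 _) v) :
    ∃ V' : V.left.Opens, IsAffineOpen V' ∧ v ∈ V' ∧
      ∀ (P' : Sp S) (κ : P' ⟶ P) (sndP' : P' ⟶ (yon S).obj (opensOver V')),
        IsPullback κ sndP' sndP ((yon S).map (opensOverι V')) → IsFiniteMor sndP' := by
  obtain ⟨U, a, hUaff, hae, has⟩ := (isQuasiCompactSp_iff_exists_affine_chart hP).mp hPq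
  haveI := hUaff
  obtain ⟨g, hg⟩ := (yon S).map_surjective (a ≫ sndP)
  have hide : RepWith @Etale (𝟙 ((yon S).obj V)) := repWith_id @Etale V
  have hc : a ≫ sndP = (yon S).map g ≫ 𝟙 _ := by rw [Category.comp_id, hg]
  haveI hglft : LocallyOfFiniteType g.left := hlft a (𝟙 _) g hae hide hc
  haveI hgqc : QuasiCompact g.left := (quasiCompact_iff_compactSpace _).mpr inferInstance
  have hmap : ∀ u : ↥U.left,
      Points.map sndP (Points.ofPt a u) = Points.ofPt (𝟙 ((yon S).obj V)) (g.left u) := by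
    intro u
    rw [Points.map_ofPt, hc, ofPt_yon_map_comp]
  have K1 : ∀ u : ↥U.left, g.left u = v → ringKrullDim ↥(U.left.presheaf.stalk u) = 0 :=
    fun u hu => (hasAt_dimZ_iff hP a hae u).mp (h1 _ (by rw [hmap, hu]))
  have hinj : Function.Injective (Points.ofPt (𝟙 ((yon S).obj V))) :=
    (Points.schemeHomeo V).injective
  have K2 : ∀ u : ↥U.left, ringKrullDim ↥(U.left.presheaf.stalk u) = 0 → g.left u = v :=
    fun u hu => hinj (by rw [← hmap]; exact h2 _ ((hasAt_dimZ_iff hP a hae u).mpr hu))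
  -- finiteness of the fibre of `g`
  have hgqf : ∀ u : ↥U.left, g.left u = v → g.left.QuasiFiniteAt u := by
    intro u hu
    refine quasiFiniteAt_of_fibre_isMax u fun x hx => ?_
    exact (ringKrullDim_stalk_eq_zero_iff x).mp (K1 x (hx.trans hu))
  have hfib1 : (g.left ⁻¹' {v}).Finite :=
    (finite_quasiFiniteAt_fibre g.left v).subset fun u hu => ⟨hu, hgqf u hu⟩
  have hvgen : ∀ y' : ↥V.left, y' ⤳ v → y' = v := fun y' hy' =>
    Groth.Agent.Helper2.CodimZeroSch.eq_of_specializes_of_dimZ v y' hv0 hy'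
  obtain ⟨V₁, -, hvV₁, hV₁fin⟩ :=
    Groth.Agent.Lib.Helper6.GenFin.exists_isFinite_morphismRestrict_of_qcqs g.left v hvgen hfib1
  -- the kernel pair
  obtain ⟨R, t, s, sq⟩ := exists_isPullback_yon hP.diag a a
  haveI hse : Etale s.left := hae.property a ((yon S).map t) s sq
  obtain ⟨-, -, hsep, -⟩ := repWith_of_etale_affine a hae
  haveI hss : IsSeparated s.left := hsep.property a ((yon S).map t) s sq
  have hst : t ≫ g = s ≫ g := by
    apply (yon S).map_injective
    rw [Functor.map_comp, Functor.map_comp, hg, ← Category.assoc, ← Category.assoc, sq.w]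
  have hst' : t.left ≫ g.left = s.left ≫ g.left := by
    rw [← Over.comp_left, ← Over.comp_left, hst]
  have hfib2 : ((s.left ≫ g.left) ⁻¹' {v}).Finite :=
    Groth.Agent.Helper2.GenFinSep.finite_fibre_comp_of_jointly_mono g.left t.left s.left hst'
      (fun α β e1 e2 => jointly_mono_of_isPullback_yon a t s sq α β e1 e2) V₁ hV₁fin v hvV₁
  have hgen : ∀ r : ↥R.left, ∃ r' : ↥R.left, (s.left ≫ g.left) r' = v ∧ r' ⤳ r := by
    intro r
    obtain ⟨ξ, hξs, hξ0⟩ := exists_generization_dim_zero r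
    refine ⟨ξ, ?_, hξs⟩
    rw [Scheme.Hom.comp_apply]
    apply K2
    rw [← Groth.Agent.Helper2.ChartIndep.ringKrullDim_stalk_eq_of_etale s.left ξ]
    exact hξ0
  obtain ⟨V₂, hvV₂, hV₂fin⟩ :=
    Groth.Agent.Helper2.GenFinSep.exists_isFinite_morphismRestrict (s.left ≫ g.left) v hvgen
      hfib2 hgen
  obtain ⟨V', hV', hvV', hV'le⟩ := exists_isAffineOpen_mem_and_subset (x := v) (U := V₁ ⊓ V₂)
    ⟨hvV₁, hvV₂⟩
  have hfin1 : IsFinite (g.left ∣_ V') :=
    Groth.Agent.Lib.Helper6.GenFin.isFinite_morphismRestrict_of_le g.left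
      (hV'le.trans inf_le_left) hV₁fin
  have hfin2 : IsFinite ((s.left ≫ g.left) ∣_ V') :=
    Groth.Agent.Lib.Helper6.GenFin.isFinite_morphismRestrict_of_le (s.left ≫ g.left)
      (hV'le.trans inf_le_right) hV₂fin
  haveI hVOaff : IsAffine (opensOver V').left := hV'
  refine ⟨V', hV', hvV', ?_⟩
  intro P' κ sndP' sqκ
  obtain ⟨M, m, e, hMaff, hem, hmuc⟩ :=
    exists_affine_of_restrict hP sndP a hae has g hg t s sq V' hV' hfin1 hfin2 κ sndP' sqκ
  haveI := hMaff
  have hκe : RepWith @Etale κ := repWith_of_isPullback @Etale sqκ.flip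
    ((repWith_yon_map_iff @Etale _).mpr (inferInstanceAs (Etale V'.ι)))
  have hc' : (e.hom ≫ κ) ≫ sndP = (yon S).map (m ≫ opensOverι V') ≫ 𝟙 _ := by
    rw [Category.comp_id, Category.assoc, sqκ.w, ← Category.assoc, hem, Functor.map_comp]
  haveI hmlft' : LocallyOfFiniteType (m ≫ opensOverι V').left :=
    hlft (e.hom ≫ κ) (𝟙 _) (m ≫ opensOverι V') (repWith_of_iso_comp @Etale e.hom hκe) hide hc'
  haveI hmlft : LocallyOfFiniteType m.left := by
    have h3 : LocallyOfFiniteType (m.left ≫ (opensOverι V').left) := by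
      rw [← Over.comp_left]; exact hmlft'
    exact locallyOfFiniteType_of_comp m.left (opensOverι V').left
  haveI hmfin : IsFinite m.left := by
    have hint : IsIntegralHom m.left :=
      (IsIntegralHom.iff_universallyClosed_and_isAffineHom).2 ⟨hmuc, inferInstance⟩
    exact (IsFinite.iff_isIntegralHom_and_locallyOfFiniteType _).2 ⟨hint, inferInstance⟩
  have hfinm : IsFiniteMor ((yon S).map m) :=
    (Groth.Agent.S10267.result (X := ⟨(yon S).obj M, IsAlgSpace.yon_obj M⟩)
      (Y := ⟨(yon S).obj (opensOver V'), IsAlgSpace.yon_obj _⟩)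
      (ObjectProperty.homMk ((yon S).map m))).2.mpr ((repWith_yon_map_iff @IsFinite m).mpr hmfin)
  have h4 : sndP' = e.symm.hom ≫ (yon S).map m := by
    rw [← hem, Iso.symm_hom, Iso.inv_hom_id_assoc]
  rw [h4]
  exact isFiniteMor_iso_comp e.symm _ hfinm

/-- Every point of an algebraic space is a specialization of a point of codimension zero. -/
theorem exists_generization_hasAt_dimZ {P : Sp S} (hP : IsAlgSpace P) (w : Points P) :
    ∃ w' : Points P, w' ⤳ w ∧ HasAt DimZ P w' := by
  obtain ⟨U, a, hae, has⟩ := hP.atlas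
  obtain ⟨u, rfl⟩ := surjective_ofPt a has w
  obtain ⟨ξ, hξs, hξ0⟩ := exists_generization_dim_zero u
  exact ⟨Points.ofPt a ξ, hξs.map (Points.continuous_ofPt a), U, a, ξ, hae, rfl, hξ0⟩

/-- Codimension zero is preserved and reflected by etale morphisms. -/
theorem hasAt_dimZ_map_iff {X Y : Sp S} (hX : IsAlgSpace X) (f : X ⟶ Y)
    (hf : RepWith @Etale f) (x : Points X) :
    HasAt DimZ X x ↔ HasAt DimZ Y (Points.map f x) :=
  Groth.Agent.Helper2.ChartIndep.hasAt_map_iff_of_isEtaleMor
    (Groth.Agent.Helper2.ChartIndep.etaleInvariant_ringKrullDim 0) hX f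
    (fun _ _ ha => repWith_comp @Etale ha hf) x

/-- Generic finiteness over an affine base with a unique point of codimension zero, for a
separated morphism with finite fibre. -/
theorem exists_affine_open_finite_sep {P : Sp S} (hP : IsAlgSpace P)
    {V : Over S} [IsAffine V.left] (sndP : P ⟶ (yon S).obj V) (hsep : IsSeparatedMor sndP)
    (hlft : LocP @LocallyOfFiniteType sndP) (v : ↥V.left)
    (hv0 : ringKrullDim ↥(V.left.presheaf.stalk v) = 0)
    (hfib : (Points.map sndP ⁻¹' {Points.ofPt (𝟙 _) v}).Finite)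
    (h1 : ∀ w : Points P, Points.map sndP w = Points.ofPt (𝟙 _) v → HasAt DimZ P w)
    (h2 : ∀ w : Points P, HasAt DimZ P w → Points.map sndP w = Points.ofPt (𝟙 _) v) :
    ∃ V' : V.left.Opens, IsAffineOpen V' ∧ v ∈ V' ∧
      ∀ (P' : Sp S) (κ : P' ⟶ P) (sndP' : P' ⟶ (yon S).obj (opensOver V')),
        IsPullback κ sndP' sndP ((yon S).map (opensOverι V')) → IsFiniteMor sndP' := by
  -- a quasi-compact open containing the fibre
  have hnhd : ∀ x : Points P, ∃ W : Set (Points P), IsOpen W ∧ IsCompact W ∧ x ∈ W := by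
    intro x
    obtain ⟨W, hWo, hWc, hxW, -⟩ := exists_isOpen_isCompact_nhd hP x Set.univ isOpen_univ trivial
    exact ⟨W, hWo, hWc, hxW⟩
  choose Vx hVxo hVxc hxVx using hnhd
  obtain ⟨O'', hO''def⟩ : ∃ O'' : Set (Points P),
      O'' = ⋃ x ∈ Points.map sndP ⁻¹' {Points.ofPt (𝟙 _) v}, Vx x := ⟨_, rfl⟩
  have hO''o : IsOpen O'' := by
    rw [hO''def]
    exact isOpen_biUnion fun x _ => hVxo x
  have hO''c : IsCompact O'' := by
    rw [hO''def]
    exact hfib.isCompact_biUnion fun x _ => hVxc x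
  have hFO'' : Points.map sndP ⁻¹' {Points.ofPt (𝟙 _) v} ⊆ O'' := by
    intro x hx
    rw [hO''def]
    exact Set.mem_biUnion hx (hxVx x)
  have hP'' : IsAlgSpace (openSub P O'') := isAlgSpace_openSub hP hO''o
  have hιoi := repWith_isOpenImmersion_openSubι P hO''o
  have hιe : RepWith @Etale (openSubι P O'') := repWith_isOpenImmersion_le_etale hιoi
  have hemb := Groth.Agent.Helper2.GpdInv.isOpenEmbedding_points_openSubι hP hO''o
  have hP''q : IsQuasiCompactSp (openSub P O'') := by
    rw [isQuasiCompactSp_iff_compactSpace_points hP'', ← isCompact_univ_iff,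
      hemb.isInducing.isCompact_iff, Set.image_univ, range_points_map_openSubι]
    exact hO''c
  have hlft'' : LocP @LocallyOfFiniteType (openSubι P O'' ≫ sndP) := by
    intro U V₀ a b h ha hb c
    exact hlft (a ≫ openSubι P O'') b h (repWith_comp @Etale ha hιe) hb
      (by rw [Category.assoc, c])
  have h1'' : ∀ w : Points (openSub P O''),
      Points.map (openSubι P O'' ≫ sndP) w = Points.ofPt (𝟙 _) v → HasAt DimZ (openSub P O'') w := by
    intro w hw
    rw [hasAt_dimZ_map_iff hP'' (openSubι P O'') hιe]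
    apply h1
    rw [← Points.map_comp]
    exact hw
  have h2'' : ∀ w : Points (openSub P O''), HasAt DimZ (openSub P O'') w →
      Points.map (openSubι P O'' ≫ sndP) w = Points.ofPt (𝟙 _) v := by
    intro w hw
    rw [Points.map_comp]
    apply h2
    rw [← hasAt_dimZ_map_iff hP'' (openSubι P O'') hιe]
    exact hw
  obtain ⟨V', hV', hvV', H''⟩ :=
    exists_affine_open_finite_qc hP'' hP''q (openSubι P O'' ≫ sndP) hlft'' v hv0 h1'' h2''
  refine ⟨V', hV', hvV', ?_⟩
  intro P' κ sndP' sqκ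
  have hP' : IsAlgSpace P' :=
    isAlgSpace_of_isPullback (IsAlgSpace.yon_obj V).diag hP (IsAlgSpace.yon_obj (opensOver V'))
      sndP ((yon S).map (opensOverι V')) κ sndP' sqκ
  have hκe : RepWith @Etale κ := repWith_of_isPullback @Etale sqκ.flip
    ((repWith_yon_map_iff @Etale _).mpr (inferInstanceAs (Etale V'.ι)))
  -- the base change of the quasi-compact open
  obtain ⟨Q, α, β, sqQ⟩ : ∃ (Q : Sp S) (α : Q ⟶ openSub P O'') (β : Q ⟶ P'),
      IsPullback α β (openSubι P O'') κ := ⟨_, _, _, IsPullback.of_hasPullback _ _⟩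
  have hQ : IsAlgSpace Q :=
    isAlgSpace_of_isPullback hP.diag hP'' hP' (openSubι P O'') κ α β sqQ
  have hfinβ' : IsFiniteMor (β ≫ sndP') := H'' Q α (β ≫ sndP') (sqQ.paste_vert sqκ)
  have hsep' : IsSeparatedMor sndP' := repWith_diagonal_of_isPullback @IsClosedImmersion sqκ hsep
  have hfinβ : IsFiniteMor β :=
    isAffQMor_of_comp_of_isSeparatedMor @IsFinite
      (fun j hj => by haveI := hj; infer_instance) β sndP' hsep' hfinβ'
  have hβoi : RepWith @IsOpenImmersion β := repWith_of_isPullback @IsOpenImmersion sqQ hιoi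
  haveI hβmono : Mono β := sqQ.mono_snd_of_mono
  have hclosed : IsClosedMap (Points.map β) :=
    (isUnivClosedMor_of_isIntegralMor (isIntegralMor_of_isFiniteMor hfinβ)) hP' (𝟙 P') (𝟙 Q) β
      IsPullback.of_id_fst
  have hsurj : IsSurjectiveMor β := by
    intro p'
    by_contra hp'
    obtain ⟨w', hw's, hw'0⟩ := exists_generization_hasAt_dimZ hP' p'
    have hw'C : w' ∈ (Set.range (Points.map β))ᶜ :=
      hw's.mem_open hclosed.isClosed_range.isOpen_compl hp'
    apply hw'C
    have hκw' : HasAt DimZ P (Points.map κ w') := (hasAt_dimZ_map_iff hP' κ hκe w').mp hw'0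
    have hmem : Points.map κ w' ∈ O'' := hFO'' (h2 _ hκw')
    rw [← range_points_map_openSubι P O''] at hmem
    obtain ⟨p'', hp''⟩ := hmem
    obtain ⟨q, -, hq⟩ := points_exists_of_isPullback κ (openSubι P O'') α β sqQ p'' w' hp''
    exact ⟨q, hq⟩
  haveI hβiso : IsIso β :=
    (isIso_iff_mono_etale_surjective hQ hP' β).mpr
      ⟨hβmono, locP_etale_of_repWith_isOpenImmersion hQ β hβoi, hsurj⟩
  have h4 : sndP' = (asIso β).symm.hom ≫ (β ≫ sndP') := by
    rw [Iso.symm_hom, asIso_inv, IsIso.inv_hom_id_assoc]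
  rw [h4]
  exact isFiniteMor_iso_comp (asIso β).symm _ hfinβ'

end Groth.Agent.Helper2.GenFiniteSp
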