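import Mathlib
import Groth.Agent.Lib.Helper2.AlgSp.GenFiniteSp3
import Groth.Agent.Lib.Helper2.AlgSp.FibreProdFiniteB
import Groth.Agent.S10336

/-!
# Generic finiteness for morphisms of algebraic spaces, IV: finiteness over a dense open (helper2)
-/

set_option autoImplicit false
set_option linter.style.haveILetI false

open CategoryTheory CategoryTheory.Limits AlgebraicGeometry Opposite AlgSp

universe u

namespace Groth.Agent.Helper2.GenFiniteSp

open Groth.Agent.Helper2.AlgSpBasic Groth.Agent.Helper2.LargestSch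
open Groth.Agent.Helper2.DecentOpen Groth.Agent.Helper2.QfCodimZero
open Groth.Agent.Helper2.QfAt Groth.Agent.Helper2.QfAtSp

variable {S : Scheme.{u}}

/-- On a decent space with finitely many points of codimension zero, every such point has an
affine etale chart in which it is the only point of codimension zero. -/
theorem exists_affine_chart_unique_dimZ {Y : Sp S} (hY : IsAlgSpace Y) (hYd : IsDecent Y)
    (hY0 : {y : Points Y | HasAt DimZ Y y}.Finite) (y : Points Y) (hy : HasAt DimZ Y y) :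
    ∃ (V : Over S) (b : (yon S).obj V ⟶ Y), IsAffine V.left ∧ RepWith @Etale b ∧
      ∃ v : ↥V.left, Points.ofPt b v = y ∧ ringKrullDim ↥(V.left.presheaf.stalk v) = 0 ∧
        ∀ v' : ↥V.left, ringKrullDim ↥(V.left.presheaf.stalk v') = 0 → v' = v := by
  classical
  obtain ⟨V₀, b₀, hV₀aff, hb₀e, v₀, hv₀⟩ :=
    Groth.Agent.Helper2.FibreSpecB.exists_affine_chart_through hY y
  have hv₀dim : ringKrullDim ↥(V₀.left.presheaf.stalk v₀) = 0 :=
    (hasAt_dimZ_iff hY b₀ hb₀e v₀).mp (hv₀ ▸ hy)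
  -- the finite set of codimension zero points of the chart
  have hD : {d : ↥V₀.left | ringKrullDim ↥(V₀.left.presheaf.stalk d) = 0}.Finite := by
    have h1 : (Points.ofPt b₀ ⁻¹' {y : Points Y | HasAt DimZ Y y}).Finite :=
      hY0.preimage' fun x' _ =>
        Groth.Agent.Helper2.FibreSpecB.finite_fibre_of_isDecent hY hYd x' _ b₀ hV₀aff hb₀e
    refine h1.subset ?_
    intro d hd
    exact (hasAt_dimZ_iff hY b₀ hb₀e d).mpr hd
  obtain ⟨Z, hZdef⟩ : ∃ Z : Set ↥V₀.left, Z = ⋃ d ∈ {d : ↥V₀.left |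
      ringKrullDim ↥(V₀.left.presheaf.stalk d) = 0 ∧ d ≠ v₀}, closure {d} := ⟨_, rfl⟩
  have hZc : IsClosed Z := by
    rw [hZdef]
    exact (hD.subset fun d hd => hd.1).isClosed_biUnion fun d _ => isClosed_closure
  have hv₀Z : v₀ ∈ (⟨Zᶜ, hZc.isOpen_compl⟩ : V₀.left.Opens) := by
    show v₀ ∉ Z
    rw [hZdef]
    intro hmem
    obtain ⟨d, ⟨hd0, hdne⟩, hcl⟩ := Set.mem_iUnion₂.mp hmem
    have hsp : d ⤳ v₀ := specializes_iff_mem_closure.mpr hcl
    exact hdne (eq_of_specializes_of_dim_zero hv₀dim hsp)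
  obtain ⟨V', hV', hv₀V', hV'le⟩ := exists_isAffineOpen_mem_and_subset hv₀Z
  haveI hVOaff : IsAffine (opensOver V').left := hV'
  refine ⟨opensOver V', (yon S).map (opensOverι V') ≫ b₀, hVOaff,
    Groth.Agent.Helper2.FibreSpecB.repWith_etale_opensOverι_comp b₀ hb₀e V', ⟨v₀, hv₀V'⟩, ?_, ?_, ?_⟩
  · rw [ofPt_yon_map_comp]
    exact hv₀
  · have := Groth.Agent.Helper2.ChartIndep.ringKrullDim_stalk_eq_of_etale V'.ι ⟨v₀, hv₀V'⟩
    exact this.trans hv₀dim
  · intro v' hv'
    have h1 := Groth.Agent.Helper2.ChartIndep.ringKrullDim_stalk_eq_of_etale V'.ι v'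
    have h2 : ringKrullDim ↥(V₀.left.presheaf.stalk (v'.1 : ↥V₀.left)) = 0 := h1.symm.trans hv'
    by_contra hne
    have hne' : (v'.1 : ↥V₀.left) ≠ v₀ := fun e => hne (Subtype.ext e)
    have hZ' : (v'.1 : ↥V₀.left) ∈ Z := by
      rw [hZdef]
      exact Set.mem_iUnion₂.mpr ⟨v'.1, ⟨h2, hne'⟩, subset_closure rfl⟩
    exact hV'le v'.2 hZ'

/-- Local form of S10400: finiteness over an open neighbourhood of a point of codimension
zero. -/
theorem exists_open_finite_of_decent {X Y : Space S} (f : X ⟶ Y)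
    (hf : LocP @LocallyOfFiniteType f.hom) (hY : IsDecent Y.obj)
    (hX0 : {x : Points X.obj | HasAt DimZ X.obj x}.Finite)
    (hY0 : {y : Points Y.obj | HasAt DimZ Y.obj y}.Finite)
    (hpre : ∀ x : Points X.obj, HasAt DimZ X.obj x ↔ HasAt DimZ Y.obj (Points.map f.hom x))
    (hqs : IsQuasiCompactMor f.hom ∨ IsSeparatedMor f.hom)
    (y : Points Y.obj) (hy : HasAt DimZ Y.obj y) :
    ∃ O : Set (Points Y.obj), IsOpen O ∧ y ∈ O ∧
      ∀ (X' : Sp S) (fst : X' ⟶ openSub Y.obj O) (snd : X' ⟶ X.obj),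
        IsPullback fst snd (openSubι Y.obj O) f.hom → IsFiniteMor fst := by
  obtain ⟨V, b, hVaff, hbe, v, hv, hv0, hvuniq⟩ :=
    exists_affine_chart_unique_dimZ Y.property hY hY0 y hy
  haveI := hVaff
  obtain ⟨P, fstP, sndP, sqP⟩ : ∃ (P : Sp S) (fstP : P ⟶ X.obj) (sndP : P ⟶ (yon S).obj V),
      IsPullback fstP sndP f.hom b := ⟨_, _, _, IsPullback.of_hasPullback f.hom b⟩
  have hP : IsAlgSpace P :=
    isAlgSpace_of_isPullback Y.property.diag X.property (IsAlgSpace.yon_obj V) f.hom b _ _ sqP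
  have hfstPe : RepWith @Etale fstP := repWith_of_isPullback @Etale sqP.flip hbe
  have hlftP : LocP @LocallyOfFiniteType sndP := by
    intro U V₁ a b₁ h ha hb₁ c
    refine hf (a ≫ fstP) (b₁ ≫ b) h (repWith_comp @Etale ha hfstPe) (repWith_comp @Etale hb₁ hbe) ?_
    rw [Category.assoc, sqP.w, ← Category.assoc, c, Category.assoc]
  have hbpt : ∀ v' : ↥V.left, Points.map b (Points.ofPt (𝟙 ((yon S).obj V)) v') =
      Points.ofPt b v' := by
    intro v'
    rw [Points.map_ofPt, Category.id_comp]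
  have hmapw : ∀ w : Points P, Points.map f.hom (Points.map fstP w) =
      Points.map b (Points.map sndP w) := by
    intro w
    rw [← Points.map_comp, ← Points.map_comp, sqP.w]
  have h1 : ∀ w : Points P, Points.map sndP w = Points.ofPt (𝟙 _) v → HasAt DimZ P w := by
    intro w hw
    rw [hasAt_dimZ_map_iff hP fstP hfstPe, hpre, hmapw, hw, hbpt, hv]
    exact hy
  have h2 : ∀ w : Points P, HasAt DimZ P w → Points.map sndP w = Points.ofPt (𝟙 _) v := by
    intro w hw
    rw [hasAt_dimZ_map_iff hP fstP hfstPe, hpre, hmapw] at hw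
    obtain ⟨v', hv'⟩ := (Points.schemeHomeo V).surjective (Points.map sndP w)
    have hv'' : Points.map sndP w = Points.ofPt (𝟙 ((yon S).obj V)) v' := hv'.symm
    rw [hv'', hbpt] at hw
    rw [hv'', hvuniq v' ((hasAt_dimZ_iff Y.property b hbe v').mp hw)]
  -- finiteness over an affine neighbourhood of `v`
  have key : ∃ V' : V.left.Opens, IsAffineOpen V' ∧ v ∈ V' ∧
      ∀ (P' : Sp S) (κ : P' ⟶ P) (sndP' : P' ⟶ (yon S).obj (opensOver V')),
        IsPullback κ sndP' sndP ((yon S).map (opensOverι V')) → IsFiniteMor sndP' := by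
    rcases hqs with hqc | hsep
    · have hPq : IsQuasiCompactSp P :=
        hqc (IsAlgSpace.yon_obj V) ((isQuasiCompactSp_yon_iff V).mpr inferInstance) b fstP sndP sqP
      exact exists_affine_open_finite_qc hP hPq sndP hlftP v hv0 h1 h2
    · have hsepP : IsSeparatedMor sndP :=
        repWith_diagonal_of_isPullback @IsClosedImmersion sqP hsep
      have hfy : (Points.map f.hom ⁻¹' {y}).Finite := by
        refine hX0.subset ?_
        intro x hx
        have hx' : Points.map f.hom x = y := hx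
        show HasAt DimZ X.obj x
        rw [hpre, hx']
        exact hy
      have hbqf : HasAtMor QfQ b (Points.ofPt (𝟙 ((yon S).obj V)) v) := by
        refine ⟨V, V, 𝟙 _, b, 𝟙 V, v, repWith_id @Etale V, hbe, ?_, rfl, ⊤, trivial, ?_, ?_⟩
        · rw [Category.id_comp, (yon S).map_id, Category.id_comp]
        · rw [Over.id_left, Category.comp_id]
          exact Groth.Agent.Helper2.QfAt.locallyQuasiFinite_of_etale _
        · rw [Over.id_left, Category.comp_id]
          infer_instance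
      have hfib : (Points.map sndP ⁻¹' {Points.ofPt (𝟙 _) v}).Finite := by
        have hfin2 : ∀ x ∈ Points.map f.hom ⁻¹' {y}, {w : Points P | Points.map fstP w = x ∧
            Points.map sndP w = Points.ofPt (𝟙 ((yon S).obj V)) v}.Finite := by
          intro x hx
          have hx' : Points.map f.hom x = y := hx
          obtain ⟨r, hr, hm, -⟩ := hY (Points.map b (Points.ofPt (𝟙 ((yon S).obj V)) v))
          exact Groth.Agent.Helper2.FibreProdFiniteB.main Y.property f.hom b fstP sndP sqP x _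
            (by rw [hx', hbpt, hv]) ⟨r, hr, hm⟩ hbqf
        refine (hfy.biUnion hfin2).subset ?_
        intro w hw
        have hw' : Points.map sndP w = Points.ofPt (𝟙 ((yon S).obj V)) v := hw
        refine Set.mem_iUnion₂.mpr ⟨Points.map fstP w, ?_, rfl, hw'⟩
        show Points.map f.hom (Points.map fstP w) = y
        rw [hmapw, hw', hbpt, hv]
      exact exists_affine_open_finite_sep hP sndP hsepP hlftP v hv0 hfib h1 h2
  obtain ⟨V', hV', hvV', H⟩ := key
  obtain ⟨P', κ, sndP', sqκ⟩ : ∃ (P' : Sp S) (κ : P' ⟶ P)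
      (sndP' : P' ⟶ (yon S).obj (opensOver V')),
      IsPullback κ sndP' sndP ((yon S).map (opensOverι V')) :=
    ⟨_, _, _, IsPullback.of_hasPullback _ _⟩
  have hfin := H P' κ sndP' sqκ
  have sqP' := sqκ.paste_horiz sqP
  have hb'e : RepWith @Etale ((yon S).map (opensOverι V') ≫ b) :=
    Groth.Agent.Helper2.FibreSpecB.repWith_etale_opensOverι_comp b hbe V'
  obtain ⟨hO, hfinO⟩ := isFiniteMor_over_range_of_etale f _ hb'e (κ ≫ fstP) sndP' sqP' hfin _ rfl
  refine ⟨_, hO, ?_, hfinO⟩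
  refine ⟨⟨v, hvV'⟩, ?_⟩
  rw [ofPt_yon_map_comp]
  exact hv

/-- S10400 core: finiteness over a dense open. -/
theorem exists_dense_open_finite {X Y : Space S} (f : X ⟶ Y)
    (hf : LocP @LocallyOfFiniteType f.hom) (hY : IsDecent Y.obj)
    (hX0 : {x : Points X.obj | HasAt DimZ X.obj x}.Finite)
    (hY0 : {y : Points Y.obj | HasAt DimZ Y.obj y}.Finite)
    (hpre : ∀ x : Points X.obj, HasAt DimZ X.obj x ↔ HasAt DimZ Y.obj (Points.map f.hom x))
    (hqs : IsQuasiCompactMor f.hom ∨ IsSeparatedMor f.hom) :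
    ∃ O : Set (Points Y.obj), IsOpen O ∧ Dense O ∧
      ∀ (X' : Sp S) (fst : X' ⟶ openSub Y.obj O) (snd : X' ⟶ X.obj),
        IsPullback fst snd (openSubι Y.obj O) f.hom → IsFiniteMor fst := by
  classical
  have hloc := fun (y : {y : Points Y.obj // HasAt DimZ Y.obj y}) =>
    exists_open_finite_of_decent f hf hY hX0 hY0 hpre hqs y.1 y.2
  choose Oy hOyo hyOy hOyfin using hloc
  haveI : Finite {y : Points Y.obj // HasAt DimZ Y.obj y} := hY0.to_subtype
  obtain ⟨n, ⟨e⟩⟩ := Finite.exists_equiv_fin {y : Points Y.obj // HasAt DimZ Y.obj y}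
  obtain ⟨O, hOdef⟩ : ∃ O : Set (Points Y.obj), O = ⋃ y, Oy y := ⟨_, rfl⟩
  have hO : IsOpen O := by
    rw [hOdef]
    exact isOpen_iUnion hOyo
  have hOyle : ∀ y, Oy y ⊆ O := by
    intro y z hz
    rw [hOdef]
    exact Set.mem_iUnion.mpr ⟨y, hz⟩
  refine ⟨O, hO, ?_, ?_⟩
  · rw [dense_iff_inter_open]
    intro U hU ⟨w, hw⟩
    obtain ⟨w', hsp, h0⟩ := exists_generization_hasAt_dimZ Y.property w
    exact ⟨w', hsp.mem_open hU hw, hOyle ⟨w', h0⟩ (hyOy ⟨w', h0⟩)⟩
  intro X' fst snd sqX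
  have hYO : IsAlgSpace (openSub Y.obj O) := isAlgSpace_openSub Y.property hO
  have hX' : IsAlgSpace X' :=
    isAlgSpace_of_isPullback Y.property.diag hYO X.property (openSubι Y.obj O) f.hom fst snd sqX
  obtain ⟨yi, hyi⟩ : ∃ yi : ULift.{u} (Fin n) → {y : Points Y.obj // HasAt DimZ Y.obj y},
      yi = fun i => e.symm i.down := ⟨_, rfl⟩
  have hyis : Function.Surjective yi := by
    intro y
    refine ⟨⟨e y⟩, ?_⟩
    rw [hyi]
    exact e.symm_apply_apply y
  have hmem : ∀ (i : ULift.{u} (Fin n)) (p : Points (openSub Y.obj (Oy (yi i)))),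
      Points.map (openSubι Y.obj (Oy (yi i))) p ∈ O :=
    fun i p => hOyle _ (points_map_openSubι_mem Y.obj _ p)
  obtain ⟨ji, hji⟩ : ∃ ji : ∀ i : ULift.{u} (Fin n),
      openSub Y.obj (Oy (yi i)) ⟶ openSub Y.obj O,
      ji = fun i => openSubLift O (openSubι Y.obj (Oy (yi i))) (hmem i) := ⟨_, rfl⟩
  have hjiι : ∀ i, ji i ≫ openSubι Y.obj O = openSubι Y.obj (Oy (yi i)) := by
    intro i
    rw [hji]
    exact openSubLift_ι _ _ _
  have hcov : IsZarCover (fun i => openSub Y.obj (Oy (yi i))) ji := by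
    refine ⟨fun i => ?_, fun x => ?_⟩
    · exact repWith_lift_of_mono @IsOpenImmersion (openSubι Y.obj O) _ (ji i) (hjiι i)
        (repWith_isOpenImmersion_openSubι Y.obj (hOyo _))
    · have hx := points_map_openSubι_mem Y.obj O x
      have hx' : Points.map (openSubι Y.obj O) x ∈ ⋃ y, Oy y := (Set.ext_iff.mp hOdef _).mp hx
      obtain ⟨y, hy⟩ := Set.mem_iUnion.mp hx'
      obtain ⟨i, rfl⟩ := hyis y
      rw [← range_points_map_openSubι Y.obj (Oy (yi i))] at hy
      obtain ⟨xi, hxi⟩ := hy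
      refine ⟨i, xi, ?_⟩
      apply injective_points_map_of_mono (openSubι Y.obj O)
      rw [← Points.map_comp, hjiι, hxi]
  have hfinq : ∀ i, IsFiniteMor (pullback.snd fst (ji i)) := by
    intro i
    have sqi := IsPullback.of_hasPullback fst (ji i)
    have big := (sqi.paste_horiz sqX.flip).flip
    rw [hjiι] at big
    exact hOyfin (yi i) _ _ _ big
  exact (Groth.Agent.S10336.result (X := ⟨X', hX'⟩) (Y := ⟨openSub Y.obj O, hYO⟩)
    (ObjectProperty.homMk fst) (ι := ULift.{u} (Fin n))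
    (fun i => ⟨openSub Y.obj (Oy (yi i)), isAlgSpace_openSub Y.property (hOyo _)⟩)
    (fun i => ObjectProperty.homMk (ji i)) hcov (fun i => pullback fst (ji i))
    (fun i => pullback.fst fst (ji i)) (fun i => pullback.snd fst (ji i))
    (fun i => IsPullback.of_hasPullback fst (ji i))).2.1 hfinq

end Groth.Agent.Helper2.GenFiniteSp
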