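import Mathlib
import Groth.Prelude.Def_AlgSp4
import Groth.Prelude.Def_AlgSpDec
import Groth.Prelude.Def_Flat
import Groth.Prelude.Def_Dual3
import Groth.Agent.Lib.Helper2.AlgSp.ChartIndep
import Groth.Agent.Lib.Helper2.AlgSp.DimSp
import Groth.Agent.Lib.Helper2.AlgSp.NoethDescent
import Groth.Agent.Lib.Helper4.DimIneq4
import Groth.Agent.Lib.Helper4.FTDim2

/-!
# The dimension inequality for morphisms locally of finite type of algebraic spaces
(S10323, S10324) (helper2)
-/

set_option autoImplicit false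
set_option backward.isDefEq.respectTransparency false

open CategoryTheory CategoryTheory.Limits AlgebraicGeometry Opposite AlgSp

namespace Groth.Agent.Helper2.DimIneqSp
universe u
variable {S : Scheme.{u}}

open Groth.Agent.Helper2.ChartIndep

/-- The local ring at the generic point of an irreducible component has dimension zero. -/
theorem ringKrullDim_stalk_eq_zero_of_closure_mem {X : Scheme.{u}} (ξ : ↥X)
    (h : closure ({ξ} : Set ↥X) ∈ irreducibleComponents ↥X) :
    ringKrullDim ↥(X.presheaf.stalk ξ) = 0 := by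
  rw [AlgebraicGeometry.ringKrullDim_stalk_eq_coheight]
  have hmax : IsMax ξ := by
    intro b hb
    have hb' : b ⤳ ξ := hb
    have := Groth.Agent.Lib.Helper4.FTDim2.isMax_of_closure_mem_irreducibleComponents ξ h b hb'
    rw [this]
  rw [Order.coheight_eq_zero.2 hmax]
  rfl

/-- The image of the point of the chart under the morphism. -/
theorem ofPt_map_eq {X Y : Sp S} (f : X ⟶ Y) {U V : Over S} (p : (yon S).obj U ⟶ X)
    (q : (yon S).obj V ⟶ Y) (h : U ⟶ V) (comm : p ≫ f = (yon S).map h ≫ q) (u : ↥U.left) :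
    Points.ofPt q (h.left u) = Points.map f (Points.ofPt p u) := by
  rw [Points.map_ofPt, comm, AlgSpBasic.ofPt_yon_map_comp]

/-- The dimension inequality on a chart, with cardinal valued `r` and `E`. -/
theorem chart_ineq {U V : Scheme.{u}} [IsLocallyNoetherian V] (h : U ⟶ V)
    [LocallyOfFiniteType h] (u : ↥U) (E : Cardinal.{u})
    (hE : ∀ ξ : ↥U, closure ({ξ} : Set ↥U) ∈ irreducibleComponents ↥U → ξ ⤳ u →
      Dual3.resTrdeg h ξ ≤ E) :
    ringKrullDim ↥(U.presheaf.stalk u) + ((Cardinal.toENat (Dual3.resTrdeg h u) : ℕ∞) : WithBot ℕ∞) ≤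
      ringKrullDim ↥(V.presheaf.stalk (h u)) + ((Cardinal.toENat E : ℕ∞) : WithBot ℕ∞) := by
  obtain ⟨n, hn⟩ := Groth.Agent.Lib.Helper4.DimIneq4.exists_trdeg_eq_nat h u
  have hn' : Dual3.resTrdeg h u = (n : Cardinal.{u}) := hn
  rw [hn']
  rcases lt_or_ge E Cardinal.aleph0 with hlt | hge
  · obtain ⟨e, rfl⟩ := Cardinal.lt_aleph0.1 hlt
    have := Groth.Agent.Lib.Helper4.DimIneq2.S9687_main h u n e hn (fun ξ hξ hsp => hE ξ hξ hsp)
    simpa using this
  · rw [Cardinal.toENat_eq_top.2 hge]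
    have h0 : (0 : WithBot ℕ∞) ≤ ringKrullDim ↥(V.presheaf.stalk (h u)) := ringKrullDim_nonneg_of_nontrivial
    have : ringKrullDim ↥(V.presheaf.stalk (h u)) + ((⊤ : ℕ∞) : WithBot ℕ∞) = ⊤ := by
      obtain ⟨m, hm⟩ : ∃ m : ℕ∞, ringKrullDim ↥(V.presheaf.stalk (h u)) = (m : WithBot ℕ∞) := by
        cases hd : ringKrullDim ↥(V.presheaf.stalk (h u)) with
        | bot => rw [hd] at h0; exact absurd h0 (by simp)
        | coe m => exact ⟨m, rfl⟩
      rw [hm, ← WithBot.coe_add, add_top]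
      rfl
    rw [this]
    exact le_top

/-- S10323 -/
theorem S10323_main {X Y : Sp S} (hX : IsAlgSpace X) (hYa : IsAlgSpace Y) (f : X ⟶ Y)
    (hY : IsLocNoethSp Y) (hf : LocP @LocallyOfFiniteType f) (x : Points X) (E : Cardinal.{u})
    (hE : ∀ ξ : Points X, ξ ⤳ x →
      HasAt (fun U u => ringKrullDim ↥(U.presheaf.stalk u) = 0) X ξ →
      ∀ s : Cardinal.{u}, HasAtMor (fun _ _ h u => Dual3.resTrdeg h u = s) f ξ → s ≤ E)
    (a b : WithBot ℕ∞) (r : Cardinal.{u})
    (ha : HasAt (fun U u => ringKrullDim ↥(U.presheaf.stalk u) = a) X x)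
    (hb : HasAt (fun U u => ringKrullDim ↥(U.presheaf.stalk u) = b) Y (Points.map f x))
    (hr : HasAtMor (fun _ _ h u => Dual3.resTrdeg h u = r) f x) :
    a + ((Cardinal.toENat r : ℕ∞) : WithBot ℕ∞) ≤ b + ((Cardinal.toENat E : ℕ∞) : WithBot ℕ∞) := by
  obtain ⟨U, V, p, q, h, u, hp, hq, comm, hu, hr'⟩ := hr
  haveI : IsLocallyNoetherian V.left :=
    AlgSpBasic.isLocallyNoetherian_of_etale_of_isLocNoethSp hY q hq
  haveI : LocallyOfFiniteType h.left := hf p q h hp hq comm
  have ha' : ringKrullDim ↥(U.left.presheaf.stalk u) = a :=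
    (hasAt_iff_forall (etaleInvariant_ringKrullDim a) hX x).1 ha U p u hp hu
  have hv : Points.ofPt q (h.left u) = Points.map f x := by
    rw [← hu]; exact ofPt_map_eq f p q h comm u
  have hb' : ringKrullDim ↥(V.left.presheaf.stalk (h.left u)) = b :=
    (hasAt_iff_forall (etaleInvariant_ringKrullDim b) hYa _).1 hb V q (h.left u) hq hv
  rw [← ha', ← hb', ← hr']
  refine chart_ineq h.left u E fun ξ hξ hsp => ?_
  refine hE (Points.ofPt p ξ) ?_ ⟨U, p, ξ, hp, rfl, ringKrullDim_stalk_eq_zero_of_closure_mem ξ hξ⟩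
    _ ⟨U, V, p, q, h, ξ, hp, hq, comm, rfl, rfl⟩
  rw [← hu]
  exact hsp.map (Points.continuous_ofPt p)

/-- S10324 -/
theorem S10324_main {X Y : Sp S} (hX : IsAlgSpace X) (hYa : IsAlgSpace Y) (f : X ⟶ Y)
    (hY : IsLocNoethSp Y) (hf : LocP @LocallyOfFiniteType f) (E : Cardinal.{u})
    (hE : ∀ ξ : Points X,
      HasAt (fun U u => ringKrullDim ↥(U.presheaf.stalk u) = 0) X ξ →
      ∀ s : Cardinal.{u}, HasAtMor (fun _ _ h u => Dual3.resTrdeg h u = s) f ξ → s ≤ E) :
    AlgSp.dim X ≤ AlgSp.dim Y + ((Cardinal.toENat E : ℕ∞) : WithBot ℕ∞) := by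
  obtain ⟨V, q, hq, hqs⟩ := hYa.atlas
  refine DimSp.dim_le_of_forall _ fun U' p' hp' u' => ?_
  -- refine the chart `U'` so that it maps to `V`
  have hrep := hq.rep
  let g := p' ≫ f
  let pV := hrep.fst' g
  let pU := hrep.snd g
  have sq : IsPullback ((yon S).map pV) ((yon S).map pU) q g := hrep.isPullback' g
  have hpU : Etale pU.left := hq.property_snd g
  have hpUs : Surjective pU.left := hqs.property_snd g
  obtain ⟨w, hw⟩ := hpUs.surj u'
  have hp : RepWith @Etale ((yon S).map pU ≫ p') :=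
    AlgSpBasic.repWith_comp @Etale ((repWith_yon_map_iff @Etale pU).2 hpU) hp'
  have comm : ((yon S).map pU ≫ p') ≫ f = (yon S).map pV ≫ q := by
    rw [Category.assoc]; exact sq.w.symm
  haveI : IsLocallyNoetherian V.left :=
    AlgSpBasic.isLocallyNoetherian_of_etale_of_isLocNoethSp hY q hq
  haveI : LocallyOfFiniteType pV.left := hf _ q pV hp hq comm
  have h1 : ringKrullDim ↥((hrep.pullback g).left.presheaf.stalk w) =
      ringKrullDim ↥(U'.left.presheaf.stalk u') := by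
    haveI := hpU
    rw [ringKrullDim_stalk_eq_of_etale pU.left w, hw]
  have h2 := chart_ineq pV.left w E fun ξ hξ _ =>
    hE (Points.ofPt ((yon S).map pU ≫ p') ξ)
      ⟨_, _, ξ, hp, rfl, ringKrullDim_stalk_eq_zero_of_closure_mem ξ hξ⟩ _
      ⟨_, V, _, q, pV, ξ, hp, hq, comm, rfl, rfl⟩
  rw [← h1]
  calc ringKrullDim ↥((hrep.pullback g).left.presheaf.stalk w)
      ≤ ringKrullDim ↥((hrep.pullback g).left.presheaf.stalk w) +
          ((Cardinal.toENat (Dual3.resTrdeg pV.left w) : ℕ∞) : WithBot ℕ∞) :=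
        le_add_of_nonneg_right (by exact_mod_cast bot_le)
    _ ≤ ringKrullDim ↥(V.left.presheaf.stalk (pV.left w)) + ((Cardinal.toENat E : ℕ∞) : WithBot ℕ∞) := h2
    _ ≤ AlgSp.dim Y + ((Cardinal.toENat E : ℕ∞) : WithBot ℕ∞) :=
        add_le_add (DimSp.stalk_le_dim q hq _) le_rfl

end Groth.Agent.Helper2.DimIneqSp
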