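import Mathlib
import Groth.Prelude.Def_AlgSp4
import Groth.Prelude.Def_AlgSpDec
import Groth.Prelude.Def_Dual3
import Groth.Agent.Lib.Helper2.AlgSp.ChartIndep
import Groth.Agent.Lib.Helper2.AlgSp.Diag
import Groth.Agent.Lib.Helper2.AlgSp.PointsMor
import Groth.Agent.Lib.Helper2.Sch.ResTrdeg

/-!
# Transcendence degree of a point over its image, for morphisms of algebraic spaces (helper2)
-/

set_option autoImplicit false
set_option linter.style.haveILetI false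
set_option backward.isDefEq.respectTransparency false

open CategoryTheory CategoryTheory.Limits AlgebraicGeometry Opposite AlgSp

namespace Groth.Agent.Helper2.ResTrdegSp
universe u
variable {S : Scheme.{u}}

open Groth.Agent.Helper2.ChartIndep Groth.Agent.Helper2.ResTrdeg Groth.Agent.Helper2.AlgSpBasic

/-- The transcendence degree at a point does not depend on the chart diagram. -/
theorem resTrdeg_chart_indep {X Y : Sp S} (hX : Representable (Limits.diag X))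
    (hY : Representable (Limits.diag Y)) (f : X ⟶ Y)
    {U₁ V₁ U₂ V₂ : Over S} (a₁ : (yon S).obj U₁ ⟶ X) (b₁ : (yon S).obj V₁ ⟶ Y) (h₁ : U₁ ⟶ V₁)
    (a₂ : (yon S).obj U₂ ⟶ X) (b₂ : (yon S).obj V₂ ⟶ Y) (h₂ : U₂ ⟶ V₂)
    (ha₁ : RepWith @Etale a₁) (hb₁ : RepWith @Etale b₁) (ha₂ : RepWith @Etale a₂)
    (hb₂ : RepWith @Etale b₂) (c₁ : a₁ ≫ f = (yon S).map h₁ ≫ b₁)
    (c₂ : a₂ ≫ f = (yon S).map h₂ ≫ b₂) (u₁ : ↥U₁.left) (u₂ : ↥U₂.left)
    (e : Points.ofPt a₁ u₁ = Points.ofPt a₂ u₂) :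
    Dual3.resTrdeg h₁.left u₁ = Dual3.resTrdeg h₂.left u₂ := by
  obtain ⟨U₃, p₁, p₂, sqU⟩ := AlgSpBasic.exists_isPullback_yon hX a₁ a₂
  obtain ⟨V₃, q₁, q₂, sqV⟩ := AlgSpBasic.exists_isPullback_yon hY b₁ b₂
  have hp₂ : Etale p₂.left := ha₁.property a₂ ((yon S).map p₁) p₂ sqU
  have hp₁ : Etale p₁.left := ha₂.property a₁ ((yon S).map p₂) p₁ sqU.flip
  have hq₂ : Etale q₂.left := hb₁.property b₂ ((yon S).map q₁) q₂ sqV
  have hq₁ : Etale q₁.left := hb₂.property b₁ ((yon S).map q₂) q₁ sqV.flip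
  have hcomm : (yon S).map (p₁ ≫ h₁) ≫ b₁ = (yon S).map (p₂ ≫ h₂) ≫ b₂ := by
    rw [Functor.map_comp, Functor.map_comp, Category.assoc, Category.assoc, ← c₁, ← c₂,
      ← Category.assoc, ← Category.assoc, sqU.w]
  obtain ⟨h₃, hh₃⟩ := (yon S).map_surjective (sqV.lift _ _ hcomm)
  have e₁ : h₃ ≫ q₁ = p₁ ≫ h₁ := by
    apply (yon S).map_injective
    rw [Functor.map_comp, hh₃, sqV.lift_fst]
  have e₂ : h₃ ≫ q₂ = p₂ ≫ h₂ := by
    apply (yon S).map_injective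
    rw [Functor.map_comp, hh₃, sqV.lift_snd]
  obtain ⟨u₃, hu₁, hu₂⟩ := AlgSpBasic.exists_point_of_isPullback_yon a₁ a₂ p₁ p₂ sqU u₁ u₂ e
  haveI := hp₁
  haveI := hp₂
  haveI := hq₁
  haveI := hq₂
  have s₁ : h₃.left ≫ q₁.left = p₁.left ≫ h₁.left := by
    rw [← Over.comp_left, ← Over.comp_left, e₁]
  have s₂ : h₃.left ≫ q₂.left = p₂.left ≫ h₂.left := by
    rw [← Over.comp_left, ← Over.comp_left, e₂]
  have i₁ := resTrdeg_square h₁.left h₃.left p₁.left q₁.left s₁ u₃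
  have i₂ := resTrdeg_square h₂.left h₃.left p₂.left q₂.left s₂ u₃
  rw [hu₁] at i₁
  rw [hu₂] at i₂
  exact i₁.trans i₂.symm

/-- Every etale chart of the source through a point refines to a chart diagram. -/
theorem exists_diagram_refining {X Y : Sp S} (hY : IsAlgSpace Y) (f : X ⟶ Y) {U₁ : Over S}
    (a₁ : (yon S).obj U₁ ⟶ X) (u₁ : ↥U₁.left) :
    ∃ (U V : Over S) (p : U ⟶ U₁) (b : (yon S).obj V ⟶ Y) (h : U ⟶ V) (u : ↥U.left),
      Etale p.left ∧ RepWith @Etale b ∧ ((yon S).map p ≫ a₁) ≫ f = (yon S).map h ≫ b ∧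
        p.left u = u₁ := by
  obtain ⟨V, b, hbe, hbs⟩ := hY.atlas
  obtain ⟨W, p, h, sq⟩ := AlgSpBasic.exists_isPullback_yon hY.diag (a₁ ≫ f) b
  have hp : Etale p.left := hbe.property (a₁ ≫ f) ((yon S).map h) p sq.flip
  have hps : Surjective p.left := hbs.property (a₁ ≫ f) ((yon S).map h) p sq.flip
  obtain ⟨u, hu⟩ := hps.surj u₁
  exact ⟨W, V, p, b, h, u, hp, hbe, by rw [Category.assoc]; exact sq.w, hu⟩

/-- A chart diagram through any point. -/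
theorem exists_diagram {X Y : Sp S} (hX : IsAlgSpace X) (hY : IsAlgSpace Y) (f : X ⟶ Y)
    (x : Points X) :
    ∃ (U V : Over S) (a : (yon S).obj U ⟶ X) (b : (yon S).obj V ⟶ Y) (h : U ⟶ V) (u : ↥U.left),
      RepWith @Etale a ∧ RepWith @Etale b ∧ a ≫ f = (yon S).map h ≫ b ∧ Points.ofPt a u = x := by
  obtain ⟨U₁, a₁, ha₁e, ha₁s⟩ := hX.atlas
  obtain ⟨t, rfl⟩ := isSurjectiveMor_of_repWith_surjective a₁ ha₁s x
  obtain ⟨u₁, rfl⟩ := (Points.schemeHomeo U₁).surjective t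
  obtain ⟨U, V, p, b, h, u, hp, hb, c, hu⟩ := exists_diagram_refining hY f a₁ u₁
  refine ⟨U, V, (yon S).map p ≫ a₁, b, h, u,
    repWith_comp @Etale ((repWith_yon_map_iff @Etale _).mpr hp) ha₁e, hb, c, ?_⟩
  rw [ofPt_yon_map_comp, hu, Points.ofPt_eq_map_ofScheme]
  rfl

/-- S10319. -/
theorem main19 {X Y Z : Sp S} (hX : IsAlgSpace X) (hY : IsAlgSpace Y) (hZ : IsAlgSpace Z)
    (f : X ⟶ Y) (g : Y ⟶ Z) (x : Points X) (r₁ r₂ : Cardinal.{u})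
    (h1 : HasAtMor (fun _ _ h u => Dual3.resTrdeg h u = r₁) f x)
    (h2 : HasAtMor (fun _ _ h u => Dual3.resTrdeg h u = r₂) g (Points.map f x)) :
    HasAtMor (fun _ _ h u => Dual3.resTrdeg h u = r₁ + r₂) (f ≫ g) x := by
  obtain ⟨U₁, V₁, a₁, b₁, h₁, u₁, ha₁, hb₁, c₁, hu₁, hr₁⟩ := h1
  obtain ⟨V₂, W₂, b₂, d₂, k₂, v₂, hb₂, hd₂, c₂, hv₂, hr₂⟩ := h2
  obtain ⟨U₃, p₁, p₂, sq⟩ := AlgSpBasic.exists_isPullback_yon hY.diag (a₁ ≫ f) b₂
  have hp₁ : Etale p₁.left := hb₂.property (a₁ ≫ f) ((yon S).map p₂) p₁ sq.flip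
  have e : Points.ofPt (a₁ ≫ f) u₁ = Points.ofPt b₂ v₂ := by
    rw [← Points.map_ofPt, hu₁, hv₂]
  obtain ⟨u₃, hu₃1, hu₃2⟩ :=
    AlgSpBasic.exists_point_of_isPullback_yon (a₁ ≫ f) b₂ p₁ p₂ sq u₁ v₂ e
  have ha₃ : RepWith @Etale ((yon S).map p₁ ≫ a₁) :=
    repWith_comp @Etale ((repWith_yon_map_iff @Etale _).mpr hp₁) ha₁
  have c₃ : ((yon S).map p₁ ≫ a₁) ≫ f = (yon S).map p₂ ≫ b₂ := by
    rw [Category.assoc]; exact sq.w
  have hx₃ : Points.ofPt ((yon S).map p₁ ≫ a₁) u₃ = x := by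
    rw [ofPt_yon_map_comp, hu₃1, hu₁]
  have i₁ : Dual3.resTrdeg p₂.left u₃ = r₁ := by
    rw [← hr₁]
    exact resTrdeg_chart_indep hX.diag hY.diag f _ b₂ p₂ a₁ b₁ h₁ ha₃ hb₂ ha₁ hb₁ c₃ c₁ u₃ u₁
      (hx₃.trans hu₁.symm)
  refine ⟨U₃, W₂, (yon S).map p₁ ≫ a₁, d₂, p₂ ≫ k₂, u₃, ha₃, hd₂, ?_, hx₃, ?_⟩
  · rw [← Category.assoc, c₃, Category.assoc, c₂, Functor.map_comp, Category.assoc]
  · show Dual3.resTrdeg (p₂.left ≫ k₂.left) u₃ = r₁ + r₂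
    rw [resTrdeg_comp, hu₃2, hr₂, i₁, add_comm]

/-- Uniqueness of the value. -/
theorem resTrdeg_unique {X Y : Sp S} (hX : IsAlgSpace X) (hY : IsAlgSpace Y) (f : X ⟶ Y)
    (x : Points X) (r r' : Cardinal.{u})
    (h1 : HasAtMor (fun _ _ h u => Dual3.resTrdeg h u = r) f x)
    (h2 : HasAtMor (fun _ _ h u => Dual3.resTrdeg h u = r') f x) : r = r' := by
  obtain ⟨U₁, V₁, a₁, b₁, h₁, u₁, ha₁, hb₁, c₁, hu₁, hr₁⟩ := h1
  obtain ⟨U₂, V₂, a₂, b₂, h₂, u₂, ha₂, hb₂, c₂, hu₂, hr₂⟩ := h2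
  rw [← hr₁, ← hr₂]
  exact resTrdeg_chart_indep hX.diag hY.diag f a₁ b₁ h₁ a₂ b₂ h₂ ha₁ hb₁ ha₂ hb₂ c₁ c₂ u₁ u₂
    (hu₁.trans hu₂.symm)

/-- Some value is always attained. -/
theorem exists_resTrdeg {X Y : Sp S} (hX : IsAlgSpace X) (hY : IsAlgSpace Y) (f : X ⟶ Y)
    (x : Points X) : ∃ r : Cardinal.{u}, HasAtMor (fun _ _ h u => Dual3.resTrdeg h u = r) f x := by
  obtain ⟨U, V, a, b, h, u, ha, hb, c, hu⟩ := exists_diagram hX hY f x
  exact ⟨Dual3.resTrdeg h.left u, U, V, a, b, h, u, ha, hb, c, hu, rfl⟩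

/-- A locally quasi-finite morphism has transcendence degree zero at every point. -/
theorem hasAtMor_zero_of_lqf {X Y : Sp S} (hX : IsAlgSpace X) (hY : IsAlgSpace Y) (f : X ⟶ Y)
    (hf : LocP ((@LocallyQuasiFinite : MorphismProperty Scheme.{u}) ⊓ @LocallyOfFiniteType) f)
    (x : Points X) : HasAtMor (fun _ _ h u => Dual3.resTrdeg h u = 0) f x := by
  obtain ⟨U, V, a, b, h, u, ha, hb, c, hu⟩ := exists_diagram hX hY f x
  haveI : LocallyQuasiFinite h.left := (hf a b h ha hb c).1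
  exact ⟨U, V, a, b, h, u, ha, hb, c, hu, resTrdeg_eq_zero_of_locallyQuasiFinite h.left u⟩

/-- S10316. -/
theorem main16 {X Y Z : Sp S} (hX : IsAlgSpace X) (hY : IsAlgSpace Y) (hZ : IsAlgSpace Z)
    (f : X ⟶ Y) (g : Y ⟶ Z)
    (hf : LocP ((@LocallyQuasiFinite : MorphismProperty Scheme.{u}) ⊓ @LocallyOfFiniteType) f)
    (x : Points X) (r : Cardinal.{u}) :
    HasAtMor (fun _ _ h u => Dual3.resTrdeg h u = r) (f ≫ g) x ↔
      HasAtMor (fun _ _ h u => Dual3.resTrdeg h u = r) g (Points.map f x) := by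
  have h0 := hasAtMor_zero_of_lqf hX hY f hf x
  constructor
  · intro h
    obtain ⟨r₂, hr₂⟩ := exists_resTrdeg hY hZ g (Points.map f x)
    have h3 := main19 hX hY hZ f g x 0 r₂ h0 hr₂
    rw [zero_add] at h3
    have := resTrdeg_unique hX hZ (f ≫ g) x r r₂ h h3
    rw [this]
    exact hr₂
  · intro h
    have h3 := main19 hX hY hZ f g x 0 r h0 h
    rw [zero_add] at h3
    exact h3

/-- S10318 (the hypothesis that the target is Jacobson is not needed). -/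
theorem main18 {X Y : Sp S} (hY : IsAlgSpace Y) (f : X ⟶ Y)
    (hf : LocP @LocallyOfFiniteType f) (x : Points X)
    (hx : HasAt (fun U u => IsClosed ({u} : Set ↥U)) X x) :
    HasAtMor (fun _ _ h u => Dual3.resTrdeg h u = 0) f x := by
  obtain ⟨U₁, a₁, u₁, ha₁, hu₁, hc⟩ := hx
  obtain ⟨U, V, p, b, h, u, hp, hb, c, hu⟩ := exists_diagram_refining hY f a₁ u₁
  haveI := hp
  have ha : RepWith @Etale ((yon S).map p ≫ a₁) :=
    repWith_comp @Etale ((repWith_yon_map_iff @Etale _).mpr hp) ha₁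
  haveI : LocallyOfFiniteType h.left := hf _ b h ha hb c
  have hcl : IsClosed ({u} : Set ↥U.left) := by
    apply isClosed_singleton_of_etale p.left u
    rw [hu]
    exact hc
  refine ⟨U, V, (yon S).map p ≫ a₁, b, h, u, ha, hb, c, ?_, resTrdeg_eq_zero_of_isClosed h.left u hcl⟩
  rw [ofPt_yon_map_comp, hu, hu₁]

end Groth.Agent.Helper2.ResTrdegSp
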