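import Mathlib
import Groth.Prelude.Def_AlgSp4
import Groth.Prelude.Def_AlgSpDec
import Groth.Prelude.Def_Dual3
import Groth.Prelude.Def_Flat
import Groth.Agent.Lib.Helper2.AlgSp.RelDimSp
import Groth.Agent.Lib.Helper2.AlgSp.ResTrdegSp
import Groth.Agent.Lib.Helper2.FibDim.StalkFibre

/-!
# Relative dimension at a point = dimension of the local ring of the fibre + transcendence degree,
for algebraic spaces (S10320) (helper2)
-/

set_option autoImplicit false
set_option backward.isDefEq.respectTransparency false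

open CategoryTheory CategoryTheory.Limits AlgebraicGeometry Opposite AlgSp

namespace Groth.Agent.Helper2.RelDimSp
universe u
variable {S : Scheme.{u}}

open Groth.Agent.Helper2.ChartIndepMor Groth.Agent.Helper2.QfAtSp

theorem etaleLocalST_stalk_fiber_dim (e : WithBot ℕ∞) :
    EtaleLocalST (fun _ _ h u =>
      ringKrullDim ↥((h.fiber (h u)).presheaf.stalk (h.asFiber u)) = e) := by
  intro U U' V V' h h' a b ha hb comm u'
  haveI := ha
  haveI := hb
  beta_reduce
  rw [Groth.Agent.Helper2.FibDim.stalk_fiber_dim_etale h h' a b comm u']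

theorem etaleLocalST_resTrdeg (r : Cardinal.{u}) :
    EtaleLocalST (fun _ _ h u => Dual3.resTrdeg h u = r) := by
  intro U U' V V' h h' a b ha hb comm u'
  haveI := ha
  haveI := hb
  beta_reduce
  rw [Groth.Agent.Helper2.ResTrdeg.resTrdeg_square h h' a b comm u']

/-- S10320 -/
theorem S10320_main {X Y : Sp S} (hX : IsAlgSpace X) (hY : IsAlgSpace Y) (f : X ⟶ Y)
    (hf : LocP @LocallyOfFiniteType f) (x : Points X) (d e : WithBot ℕ∞) (r : Cardinal.{u})
    (hd : HasAtMor (fun _ _ h u => FlatMor.fibreDimAt h u = d) f x)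
    (he : HasAtMor (fun _ _ h u =>
      ringKrullDim ↥((h.fiber (h u)).presheaf.stalk (h.asFiber u)) = e) f x)
    (hr : HasAtMor (fun _ _ h u => Dual3.resTrdeg h u = r) f x) :
    d = e + ((Cardinal.toENat r : ℕ∞) : WithBot ℕ∞) := by
  obtain ⟨V, b, hbe, hbs⟩ := hY.atlas
  obtain ⟨U, a, h, hae, has, c⟩ := AlgSpBasic.exists_chart_lift hX f b hbe hbs
  haveI hlft : LocallyOfFiniteType h.left := hf a b h hae hbe c
  obtain ⟨u, hu⟩ := AlgSpBasic.surjective_ofPt a has x
  have h1 : FlatMor.fibreDimAt h.left u = d :=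
    of_hasAtMor (etaleLocalST_fibreDimAt_eq d) hX.diag hY.diag f x hd a b h hae hbe c u hu
  have h2 : ringKrullDim ↥((h.left.fiber (h.left u)).presheaf.stalk (h.left.asFiber u)) = e :=
    of_hasAtMor (etaleLocalST_stalk_fiber_dim e) hX.diag hY.diag f x he a b h hae hbe c u hu
  have h3 : Dual3.resTrdeg h.left u = r :=
    of_hasAtMor (etaleLocalST_resTrdeg r) hX.diag hY.diag f x hr a b h hae hbe c u hu
  have key := Groth.Agent.Helper2.FibDim.fibreDimAt_eq_stalk_add_tr h.left u
  rw [h1, h2] at key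
  rw [key]
  congr 1
  have h4 : Dual3.resTrdeg h.left u = (Groth.Agent.Lib.Helper4.FibDim1.tr h.left u : Cardinal.{u}) :=
    Groth.Agent.Lib.Helper4.FibDim1.tr_spec h.left u
  rw [← h3, h4]
  simp

end Groth.Agent.Helper2.RelDimSp
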