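import Mathlib
import Groth.Prelude.Def_AlgSp4
import Groth.Prelude.Def_AlgSpDec
import Groth.Prelude.Def_Dual3
import Groth.Agent.Lib.Helper2.AlgSp.QfAtSp
import Groth.Agent.Lib.Helper2.AlgSp.DimIneqSp
import Groth.Agent.Lib.Helper2.AlgSp.RelDimSp4
import Groth.Agent.Lib.Helper2.FibDim.QfCodimOne

/-!
# Quasi-finiteness over points of codimension at most one, for algebraic spaces
(S10455, S10456, S10503) (helper2)
-/

set_option autoImplicit false
set_option backward.isDefEq.respectTransparency false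

open CategoryTheory CategoryTheory.Limits AlgebraicGeometry Opposite AlgSp

namespace Groth.Agent.Helper2.QfCodimOneSp
universe u
variable {S : Scheme.{u}}

open Groth.Agent.Helper2.ChartIndep Groth.Agent.Helper2.QfAt Groth.Agent.Helper2.QfAtSp
open Groth.Agent.Helper2.ChartIndepMor

theorem etaleInvariant_ringKrullDim_pred (P : WithBot ℕ∞ → Prop) :
    EtaleInvariant (fun (U : Scheme.{u}) u => P (ringKrullDim ↥(U.presheaf.stalk u))) := by
  intro W U g hg w
  haveI := hg
  show P (ringKrullDim ↥(W.presheaf.stalk w)) ↔ P (ringKrullDim ↥(U.presheaf.stalk (g w)))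
  rw [ringKrullDim_stalk_eq_of_etale g w]

/-- S10455 -/
theorem S10455_main {X Y : Sp S} (hX : IsAlgSpace X) (hYa : IsAlgSpace Y) (f : X ⟶ Y)
    (hf : LocP @LocallyOfFiniteType f) (hY : IsLocNoethSp Y) (y : Points Y)
    (hy : HasAt (fun U u => ringKrullDim ↥(U.presheaf.stalk u) ≤ 1) Y y)
    (h : ∀ x : Points X, HasAt (fun U u => ringKrullDim ↥(U.presheaf.stalk u) = 0) X x →
      Points.map f x ⤳ y → HasAtMor (fun _ _ h u => Dual3.resTrdeg h u = 0) f x)
    (x : Points X) (hx : Points.map f x = y) : HasAtMor QfQ f x := by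
  obtain ⟨V, b, hbe, hbs⟩ := hYa.atlas
  obtain ⟨U, a, h₀, hae, has, c⟩ := AlgSpBasic.exists_chart_lift hX f b hbe hbs
  haveI : LocallyOfFiniteType h₀.left := hf a b h₀ hae hbe c
  haveI : IsLocallyNoetherian V.left :=
    AlgSpBasic.isLocallyNoetherian_of_etale_of_isLocNoethSp hY b hbe
  obtain ⟨u, hu⟩ := AlgSpBasic.surjective_ofPt a has x
  have hv : Points.ofPt b (h₀.left u) = y := by
    rw [← hx, ← hu]; exact DimIneqSp.ofPt_map_eq f a b h₀ c u
  have hdim : ringKrullDim ↥(V.left.presheaf.stalk (h₀.left u)) ≤ 1 :=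
    (hasAt_iff_forall (etaleInvariant_ringKrullDim_pred (fun d => d ≤ 1)) hYa y).1 hy V b
      (h₀.left u) hbe hv
  rw [← hu]
  refine hasAtMor_of_quasiFiniteAt f hf a b h₀ hae hbe c u ?_
  refine Groth.Agent.Helper2.FibDim.quasiFiniteAt_of_codim_le_one h₀.left u hdim fun ξ hξ hsp => ?_
  have h1 := h (Points.ofPt a ξ)
    ⟨U, a, ξ, hae, rfl, DimIneqSp.ringKrullDim_stalk_eq_zero_of_closure_mem ξ hξ⟩ (by
      rw [← DimIneqSp.ofPt_map_eq f a b h₀ c ξ, ← hv]
      exact hsp.map (Points.continuous_ofPt b))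
  exact of_hasAtMor (Groth.Agent.Helper2.RelDimSp.etaleLocalST_resTrdeg 0) hX.diag hYa.diag f _ h1
    a b h₀ hae hbe c ξ rfl

/-- quasi-finite at a point implies residue transcendence degree zero -/
theorem hasAtMor_resTrdeg_zero_of_qf {X Y : Sp S} (f : X ⟶ Y)
    (hf : LocP @LocallyOfFiniteType f) (x : Points X) (hx : HasAtMor QfQ f x) :
    HasAtMor (fun _ _ h u => Dual3.resTrdeg h u = 0) f x := by
  obtain ⟨U, V, a, b, h, u, ha, hb, c, hu, hq⟩ := hx
  haveI : LocallyOfFiniteType h.left := hf a b h ha hb c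
  exact ⟨U, V, a, b, h, u, ha, hb, c, hu,
    Groth.Agent.Helper2.FibDim.resTrdeg_eq_zero_of_quasiFiniteAt h.left u (quasiFiniteAt_of_qfNear hq)⟩

/-- S10503 -/
theorem S10503_main {X Y : Sp S} (hX : IsAlgSpace X) (hYa : IsAlgSpace Y) (f : X ⟶ Y)
    (hf : LocP @LocallyOfFiniteType f) (hY : IsLocNoethSp Y) (y : Points Y)
    (hy : HasAt (fun U u => ringKrullDim ↥(U.presheaf.stalk u) ≤ 1) Y y)
    (h : ∀ x : Points X, HasAt (fun U u => ringKrullDim ↥(U.presheaf.stalk u) = 0) X x →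
      HasAtMor QfQ f x)
    (x : Points X) (hx : Points.map f x = y) : HasAtMor QfQ f x :=
  S10455_main hX hYa f hf hY y hy
    (fun x' hx' _ => hasAtMor_resTrdeg_zero_of_qf f hf x' (h x' hx')) x hx

/-- S10456 -/
theorem S10456_main {X Y : Sp S} (hX : IsAlgSpace X) (hYa : IsAlgSpace Y) (f : X ⟶ Y)
    (hf : LocP @LocallyOfFiniteType f) (hY : IsLocNoethSp Y) (y : Points Y)
    (hy : HasAt (fun U u => ringKrullDim ↥(U.presheaf.stalk u) ≤ 1) Y y)
    (h : Dense {x : Points X | HasAtMor QfQ f x})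
    (x : Points X) (hx : Points.map f x = y) : HasAtMor QfQ f x := by
  refine S10503_main hX hYa f hf hY y hy (fun x' hx' => ?_) x hx
  obtain ⟨V, b, hbe, hbs⟩ := hYa.atlas
  obtain ⟨U, a, h₀, hae, has, c⟩ := AlgSpBasic.exists_chart_lift hX f b hbe hbs
  haveI : LocallyOfFiniteType h₀.left := hf a b h₀ hae hbe c
  haveI : IsLocallyNoetherian V.left :=
    AlgSpBasic.isLocallyNoetherian_of_etale_of_isLocNoethSp hY b hbe
  haveI : IsLocallyNoetherian U.left := LocallyOfFiniteType.isLocallyNoetherian h₀.left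
  obtain ⟨ξ, hξ⟩ := AlgSpBasic.surjective_ofPt a has x'
  have hdim : ringKrullDim ↥(U.left.presheaf.stalk ξ) = 0 :=
    (hasAt_iff_forall (etaleInvariant_ringKrullDim 0) hX x').1 hx' U a ξ hae hξ
  have hmax : ∀ t : ↥U.left, t ⤳ ξ → t = ξ := fun t ht => eq_of_specializes_of_dim_zero hdim ht
  have hpre : Points.ofPt a ⁻¹' {x : Points X | HasAtMor QfQ f x} =
      (h₀.left.quasiFiniteLocus : Set ↥U.left) := by
    ext t
    constructor
    · intro ht
      exact quasiFiniteAt_of_hasAtMor hX.diag hYa.diag f hf _ ht a b h₀ hae hbe c t rfl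
    · intro ht
      exact hasAtMor_of_quasiFiniteAt f hf a b h₀ hae hbe c t ht
  have hdense : Dense (h₀.left.quasiFiniteLocus : Set ↥U.left) := by
    rw [← hpre]
    exact h.preimage (AlgSpBasic.isOpenMap_ofPt a hae)
  have hmem := Groth.Agent.Lib.Helper4.JacDim2.mem_of_dense_of_isMax U.left ξ hmax _
    h₀.left.quasiFiniteLocus.2 hdense
  rw [← hξ]
  exact hasAtMor_of_quasiFiniteAt f hf a b h₀ hae hbe c ξ hmem

end Groth.Agent.Helper2.QfCodimOneSp
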