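import Mathlib
import Groth.Prelude.Def_AlgSp4
import Groth.Prelude.Def_AlgSpDec
import Groth.Prelude.Def_Dual3
import Groth.Agent.Lib.Helper2.AlgSp.GenericSpB
import Groth.Agent.Lib.Helper2.AlgSp.GenFiniteSp4
import Groth.Agent.Lib.Helper2.AlgSp.GenericDecent

/-!
# Generically finite morphisms of integral algebraic spaces (S10500, S10488, S10487) (helper2)
-/

set_option autoImplicit false
set_option backward.isDefEq.respectTransparency false

open CategoryTheory CategoryTheory.Limits AlgebraicGeometry Opposite AlgSp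
open Groth.Agent.Helper2.AlgSpBasic

namespace Groth.Agent.Helper2.AlterationIff
universe u
variable {S : Scheme.{u}}

open Groth.Agent.Helper2.QfAtSp

/-- A morphism which is finite over an open subspace is quasi-finite at the points over it. -/
theorem hasAtMor_qf_of_finite_over_open {X Y : Sp S} (f : X ⟶ Y)
    (hft : LocP @LocallyOfFiniteType f) {V : Sp S} (hV : IsAlgSpace V) (j : V ⟶ Y)
    (hj : RepWith @IsOpenImmersion j) {P : Sp S} (fst : P ⟶ V) (snd : P ⟶ X)
    (sq : IsPullback fst snd j f) (hfin : IsFiniteMor fst) (x : Points X)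
    (hx : Points.map f x ∈ Set.range (Points.map j)) : HasAtMor QfQ f x := by
  obtain ⟨v₀, hv₀⟩ := hx
  obtain ⟨V₀, b₀, hV₀, hb₀e, v, hv⟩ := FibreSpecB.exists_affine_chart_through hV v₀
  obtain ⟨W, i, fst', sq', -, hi⟩ := hfin hV₀ b₀
  have hje : RepWith @Etale j :=
    repWith_mono (fun _ _ g (hg : IsOpenImmersion g) => (inferInstance : Etale g)) hj
  have hbe : RepWith @Etale (b₀ ≫ j) := repWith_comp @Etale hb₀e hje
  have sq2 : IsPullback (fst' ≫ snd) ((yon S).map i) f (b₀ ≫ j) := sq'.paste_horiz sq.flip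
  have hae : RepWith @Etale (fst' ≫ snd) := repWith_of_isPullback @Etale sq2.flip hbe
  have hxv : Points.map f x = Points.ofPt (b₀ ≫ j) v := by
    rw [← Points.map_ofPt, hv, hv₀]
  obtain ⟨w, hw, -⟩ := exists_point_of_isPullback_right f (b₀ ≫ j) (fst' ≫ snd) i sq2 x v hxv
  haveI : IsFinite i.left := hi
  haveI : LocallyQuasiFinite i.left := inferInstance
  have hq : i.left.QuasiFiniteAt w := Scheme.Hom.quasiFiniteAt i.left w
  rw [← hw]
  exact hasAtMor_of_quasiFiniteAt f hft (fst' ≫ snd) (b₀ ≫ j) i hae hbe sq2.w w hq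

open Groth.Agent.Helper2.QfCodimZero in
/-- Data on the codimension zero points of a dominant morphism of integral spaces with a single
point over the generic point. -/
theorem dimZ_data {X Y : Space S} (hXi : IsIntegralSp X.obj) (hYi : IsIntegralSp Y.obj)
    (f : X ⟶ Y) (hd : IsDominantMor f.hom)
    (x : Points X.obj) (hx : IsGenericPoint x (Set.univ : Set (Points X.obj)))
    (y : Points Y.obj) (hy : IsGenericPoint y (Set.univ : Set (Points Y.obj)))
    (huniq : ∀ x' : Points X.obj, Points.map f.hom x' = y → x' = x) :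
    {x : Points X.obj | HasAt DimZ X.obj x}.Finite ∧ {y : Points Y.obj | HasAt DimZ Y.obj y}.Finite ∧
      (∀ x : Points X.obj, HasAt DimZ X.obj x ↔ HasAt DimZ Y.obj (Points.map f.hom x)) ∧
      HasAt DimZ Y.obj y := by
  haveI := hXi.2.2
  haveI := hYi.2.2
  have hfx : Points.map f.hom x = y :=
    GenericSpB.map_generic Y.property hYi.2.1 f.hom hd x hx y hy
  have hxZ : HasAt DimZ X.obj x :=
    (GenericDecent.generic_iff_dimZ X hXi.2.1 x).mp
      ⟨Set.univ, by rw [irreducibleComponents_eq_singleton]; rfl, hx⟩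
  have hyZ : HasAt DimZ Y.obj y :=
    (GenericDecent.generic_iff_dimZ Y hYi.2.1 y).mp
      ⟨Set.univ, by rw [irreducibleComponents_eq_singleton]; rfl, hy⟩
  have hX1 : ∀ ξ : Points X.obj, HasAt DimZ X.obj ξ → ξ = x := fun ξ hξ =>
    GenericSpB.eq_generic_of_hasAt_zero X.property hXi.2.1 x hx ξ hξ
  have hY1 : ∀ ξ : Points Y.obj, HasAt DimZ Y.obj ξ → ξ = y := fun ξ hξ =>
    GenericSpB.eq_generic_of_hasAt_zero Y.property hYi.2.1 y hy ξ hξ
  refine ⟨(Set.finite_singleton x).subset (fun ξ hξ => hX1 ξ hξ),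
    (Set.finite_singleton y).subset (fun ξ hξ => hY1 ξ hξ), ?_, hyZ⟩
  intro x'
  constructor
  · intro h
    rw [hX1 x' h, hfx]
    exact hyZ
  · intro h
    rw [huniq x' (hY1 _ h)]
    exact hxZ

/-- S10500. -/
theorem main500 {X Y : Space S}
    (hXi : IsIntegralSp X.obj) (hYi : IsIntegralSp Y.obj) (f : X ⟶ Y) (hp : IsProperMor f.hom)
    (hd : IsDominantMor f.hom)
    (x : Points X.obj) (hx : IsGenericPoint x (Set.univ : Set (Points X.obj)))
    (y : Points Y.obj) (hy : IsGenericPoint y (Set.univ : Set (Points Y.obj))) :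
    (∃ (V : Space S) (j : V ⟶ Y), RepWith @IsOpenImmersion j.hom ∧ Nonempty (Points V.obj) ∧
      ∀ (P : Space S) (fst : P ⟶ V) (snd : P ⟶ X), IsPullback fst.hom snd.hom j.hom f.hom →
        IsFiniteMor fst.hom) ↔
      (∀ x' : Points X.obj, Points.map f.hom x' = y → x' = x) := by
  have hft : LocP @LocallyOfFiniteType f.hom := hp.2.1.1
  have hfx : Points.map f.hom x = y :=
    GenericSpB.map_generic Y.property hYi.2.1 f.hom hd x hx y hy
  constructor
  · rintro ⟨V, j, hj, ⟨v₀⟩, hfin⟩
    have hP : IsAlgSpace (pullback j.hom f.hom) :=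
      isAlgSpace_of_isPullback Y.property.diag V.property X.property j.hom f.hom _ _
        (IsPullback.of_hasPullback _ _)
    let P : Space S := ⟨pullback j.hom f.hom, hP⟩
    let fst : P ⟶ V := ObjectProperty.homMk (pullback.fst j.hom f.hom)
    let snd : P ⟶ X := ObjectProperty.homMk (pullback.snd j.hom f.hom)
    have sq : IsPullback fst.hom snd.hom j.hom f.hom := IsPullback.of_hasPullback _ _
    have hfin' := hfin P fst snd sq
    have hVo : IsOpen (Set.range (Points.map j.hom)) :=
      (isOpenMap_points_of_repWith_isOpenImmersion V.property Y.property j.hom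
        hj).isOpen_range
    have hymem : y ∈ Set.range (Points.map j.hom) := by
      rw [hy.mem_open_set_iff hVo]
      exact ⟨Points.map j.hom v₀, Set.mem_univ _, ⟨v₀, rfl⟩⟩
    have hq := hasAtMor_qf_of_finite_over_open f.hom hft V.property j.hom hj fst.hom snd.hom sq
      hfin' x (by rw [hfx]; exact hymem)
    exact (GenericSpB.generic_tfae X.property Y.property hXi.2.1 hYi.2.1 f.hom hft hd x hx y
      hy).2.mp hq
  · intro huniq
    obtain ⟨hX0, hY0, hpre, hyZ⟩ := dimZ_data hXi hYi f hd x hx y hy huniq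
    obtain ⟨O, hO, hyO, hfin⟩ := GenFiniteSp.exists_open_finite_of_decent f hft hYi.2.1 hX0 hY0 hpre
      (Or.inr hp.1) y hyZ
    refine ⟨⟨openSub Y.obj O, isAlgSpace_openSub Y.property hO⟩,
      ObjectProperty.homMk (openSubι Y.obj O), repWith_isOpenImmersion_openSubι Y.obj hO, ?_, ?_⟩
    · have : y ∈ Set.range (Points.map (openSubι Y.obj O)) := by
        rw [range_points_map_openSubι]; exact hyO
      obtain ⟨v, -⟩ := this
      exact ⟨v⟩
    · intro P fst snd sq
      exact hfin P.obj fst.hom snd.hom sq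

end Groth.Agent.Helper2.AlterationIff
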