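import Mathlib
import Groth.Agent.Lib.Helper2.AlgSp.AlterationIff

/-!
# Generically finite morphisms of integral algebraic spaces, affine opens (S10488) (helper2)
-/

set_option autoImplicit false
set_option backward.isDefEq.respectTransparency false

open CategoryTheory CategoryTheory.Limits AlgebraicGeometry Opposite AlgSp
open Groth.Agent.Helper2.AlgSpBasic

namespace Groth.Agent.Helper2.AlterationIff
universe u
variable {S : Scheme.{u}}

open Groth.Agent.Helper2.QfAtSp Groth.Agent.Helper2.LargestSch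

/-- Scheme-level form: finite base change to an etale chart gives quasi-finiteness. -/
theorem hasAtMor_qf_of_isPullback_finite {X Y : Sp S} (f : X ⟶ Y)
    (hft : LocP @LocallyOfFiniteType f) {U V : Over S} (a : (yon S).obj U ⟶ X)
    (b : (yon S).obj V ⟶ Y) (g : U ⟶ V) (hbe : RepWith @Etale b)
    (sq : IsPullback a ((yon S).map g) f b) (hg : IsFinite g.left) (x : Points X) (v : ↥V.left)
    (hxv : Points.map f x = Points.ofPt b v) : HasAtMor QfQ f x := by
  have hae : RepWith @Etale a := repWith_of_isPullback @Etale sq.flip hbe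
  obtain ⟨w, hw, -⟩ := exists_point_of_isPullback_right f b a g sq x v hxv
  haveI : IsFinite g.left := hg
  haveI : LocallyQuasiFinite g.left := inferInstance
  have hq : g.left.QuasiFiniteAt w := Scheme.Hom.quasiFiniteAt g.left w
  rw [← hw]
  exact hasAtMor_of_quasiFiniteAt f hft a b g hae hbe sq.w w hq

/-- A nonempty open of a decent space contains a nonempty affine open subscheme. -/
theorem exists_affine_open_subscheme (Y : Space S) (hYd : IsDecent Y.obj)
    (O : Set (Points Y.obj)) (hO : IsOpen O) (hne : O.Nonempty) :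
    ∃ (V : Over S) (b : (yon S).obj V ⟶ Y.obj), IsAffine V.left ∧ Nonempty ↥V.left ∧
      RepWith @IsOpenImmersion b ∧ ∀ p : Points ((yon S).obj V), Points.map b p ∈ O := by
  obtain ⟨y', hy'O, V₁, hV₁, hy'V₁, W, ⟨e⟩⟩ :=
    DecentOpen.inter_schLocus_nonempty_of_decent Y hYd O hO hne
  obtain ⟨c, hc⟩ : ∃ c : (yon S).obj W ⟶ Y.obj, c = e.hom ≫ openSubι Y.obj V₁ := ⟨_, rfl⟩
  have hcO : RepWith @IsOpenImmersion c := by
    rw [hc]
    exact ((RepWith (S := S) @IsOpenImmersion).cancel_left_of_respectsIso e.hom _).2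
      (repWith_isOpenImmersion_openSubι Y.obj hV₁)
  have hrange : y' ∈ Set.range (Points.map c) := by
    have h1 : y' ∈ Set.range (Points.map (openSubι Y.obj V₁)) := by
      rw [range_points_map_openSubι]; exact hy'V₁
    obtain ⟨q, hq⟩ := h1
    refine ⟨Points.map e.inv q, ?_⟩
    rw [hc, Points.map_comp, ← Points.map_comp e.inv e.hom, e.inv_hom_id, Points.map_id, hq]
  obtain ⟨q, hq⟩ := hrange
  obtain ⟨w, rfl⟩ := (Points.schemeHomeo W).surjective q
  have hw : Points.ofPt c w = y' := by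
    rw [Points.ofPt_eq_map_ofScheme]; exact hq
  have hopen : IsOpen (Points.ofPt c ⁻¹' O) := hO.preimage (Points.continuous_ofPt c)
  obtain ⟨_, ⟨W', hW', rfl⟩, hwW', hW'O⟩ := W.left.isBasis_affineOpens.exists_subset_of_mem_open
    (show w ∈ Points.ofPt c ⁻¹' O from by rw [Set.mem_preimage, hw]; exact hy'O) hopen
  obtain ⟨W'', hW''⟩ : ∃ W'' : W.left.Opens, W'' = W' := ⟨_, rfl⟩
  rw [← hW''] at hW' hwW' hW'O
  refine ⟨opensOver W'', (yon S).map (opensOverι W'') ≫ c, hW', ⟨⟨w, hwW'⟩⟩, ?_, ?_⟩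
  · refine repWith_comp @IsOpenImmersion ?_ hcO
    exact (repWith_yon_map_iff @IsOpenImmersion (opensOverι W'')).mpr
      (inferInstanceAs (IsOpenImmersion W''.ι))
  · intro p
    obtain ⟨t, rfl⟩ := (Points.schemeHomeo (opensOver W'')).surjective p
    have h1 : Points.map ((yon S).map (opensOverι W'') ≫ c) (Points.schemeHomeo (opensOver W'') t) =
        Points.ofPt ((yon S).map (opensOverι W'') ≫ c) t := by
      rw [Points.ofPt_eq_map_ofScheme]; rfl
    rw [h1, ofPt_yon_map_comp]
    exact hW'O t.2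

/-- A generic point lies in the image of every nonempty open subspace. -/
theorem exists_ofPt_eq_generic {Y : Sp S} (hY : IsAlgSpace Y) (y : Points Y)
    (hy : IsGenericPoint y (Set.univ : Set (Points Y))) {V : Over S} (b : (yon S).obj V ⟶ Y)
    (hb : RepWith @IsOpenImmersion b) (hne : Nonempty ↥V.left) :
    ∃ v : ↥V.left, Points.ofPt b v = y := by
  obtain ⟨v₀⟩ := hne
  have hVo : IsOpen (Set.range (Points.map b)) :=
    (isOpenMap_points_of_repWith_isOpenImmersion (IsAlgSpace.yon_obj V) hY b hb).isOpen_range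
  have hymem : y ∈ Set.range (Points.map b) := by
    rw [hy.mem_open_set_iff hVo]
    exact ⟨Points.map b (Points.schemeHomeo V v₀), Set.mem_univ _, ⟨_, rfl⟩⟩
  obtain ⟨q, hq⟩ := hymem
  obtain ⟨v, rfl⟩ := (Points.schemeHomeo V).surjective q
  refine ⟨v, ?_⟩
  rw [Points.ofPt_eq_map_ofScheme]
  exact hq

/-- S10488. -/
theorem main488 {X Y : Space S} (hXi : IsIntegralSp X.obj) (hYi : IsIntegralSp Y.obj)
    (f : X ⟶ Y) (hft : LocP @LocallyOfFiniteType f.hom) (hd : IsDominantMor f.hom)
    (x : Points X.obj) (hx : IsGenericPoint x (Set.univ : Set (Points X.obj)))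
    (y : Points Y.obj) (hy : IsGenericPoint y (Set.univ : Set (Points Y.obj)))
    (hsq : IsSeparatedMor f.hom ∨ IsQuasiCompactMor f.hom) :
    (∀ x' : Points X.obj, Points.map f.hom x' = y → x' = x) ↔
      ∃ (V : Over S) (b : (yon S).obj V ⟶ Y.obj) (U : Over S) (g : U ⟶ V)
        (a : (yon S).obj U ⟶ X.obj),
        IsAffine V.left ∧ Nonempty ↥V.left ∧ RepWith @IsOpenImmersion b ∧
          IsPullback a ((yon S).map g) f.hom b ∧ IsAffine U.left ∧ IsFinite g.left := by
  have hfx : Points.map f.hom x = y :=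
    GenericSpB.map_generic Y.property hYi.2.1 f.hom hd x hx y hy
  constructor
  · intro huniq
    obtain ⟨hX0, hY0, hpre, hyZ⟩ := dimZ_data hXi hYi f hd x hx y hy huniq
    obtain ⟨O, hO, hyO, hfin⟩ := GenFiniteSp.exists_open_finite_of_decent f hft hYi.2.1 hX0 hY0 hpre
      hsq.symm y hyZ
    obtain ⟨V, b, hV, hne, hb, hbO⟩ := exists_affine_open_subscheme Y hYi.2.1 O hO ⟨y, hyO⟩
    obtain ⟨b', hb'⟩ : ∃ b' : (yon S).obj V ⟶ openSub Y.obj O, b' ≫ openSubι Y.obj O = b :=
      ⟨openSubLift O b hbO, openSubLift_ι O b hbO⟩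
    have hfin' : IsFiniteMor (pullback.fst (openSubι Y.obj O) f.hom) :=
      hfin _ _ _ (IsPullback.of_hasPullback _ _)
    obtain ⟨U, i, fst', sq', hU, hi⟩ := hfin' hV b'
    have sq2 : IsPullback (fst' ≫ pullback.snd (openSubι Y.obj O) f.hom) ((yon S).map i) f.hom
        (b' ≫ openSubι Y.obj O) := sq'.paste_horiz (IsPullback.of_hasPullback _ _).flip
    rw [hb'] at sq2
    exact ⟨V, b, U, i, _, hV, hne, hb, sq2, hU, hi⟩
  · rintro ⟨V, b, U, g, a, hV, hne, hb, sq, hU, hg⟩
    obtain ⟨v, hv⟩ := exists_ofPt_eq_generic Y.property y hy b hb hne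
    have hbe : RepWith @Etale b := repWith_isOpenImmersion_le_etale hb
    have hq := hasAtMor_qf_of_isPullback_finite f.hom hft a b g hbe sq hg x v (by rw [hfx, hv])
    exact (GenericSpB.generic_tfae X.property Y.property hXi.2.1 hYi.2.1 f.hom hft hd x hx y
      hy).2.mp hq

end Groth.Agent.Helper2.AlterationIff
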