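import Mathlib
import Groth.Agent.Lib.Helper2.AlgSp.AlterationIff2
import Groth.Agent.Lib.Helper2.AlgSp.DecentEtale
import Groth.Agent.Lib.Helper2.AlgSp.Reduced

/-!
# Generically finite morphisms of integral algebraic spaces, affine opens on both sides (S10487)
(helper2)
-/

set_option autoImplicit false
set_option backward.isDefEq.respectTransparency false

open CategoryTheory CategoryTheory.Limits AlgebraicGeometry Opposite AlgSp
open Groth.Agent.Helper2.AlgSpBasic

namespace Groth.Agent.Helper2.AlterationIff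
universe u
variable {S : Scheme.{u}}

open Groth.Agent.Helper2.QfAtSp Groth.Agent.Helper2.LargestSch

/-- A nonempty open subscheme of an integral algebraic space is integral, and contains the
generic point. -/
theorem isIntegralSp_yon_of_open {X : Sp S} (hX : IsAlgSpace X) (hXi : IsIntegralSp X)
    (x : Points X) (hx : IsGenericPoint x (Set.univ : Set (Points X)))
    {U₀ : Over S} (a₀ : (yon S).obj U₀ ⟶ X) (ha₀ : RepWith @IsOpenImmersion a₀)
    (hne : Nonempty ↥U₀.left) :
    IsIntegralSp ((yon S).obj U₀) ∧ ∃ x₀ : Points ((yon S).obj U₀), Points.map a₀ x₀ = x ∧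
      IsGenericPoint x₀ (Set.univ : Set (Points ((yon S).obj U₀))) := by
  haveI := hXi.2.2
  haveI : Mono a₀ := mono_of_repWith_isOpenImmersion a₀ ha₀
  have hinj : Function.Injective (Points.map a₀) := injective_points_map_of_mono a₀
  have hopen : IsOpenMap (Points.map a₀) :=
    isOpenMap_points_of_repWith_isOpenImmersion (IsAlgSpace.yon_obj U₀) hX a₀ ha₀
  have hemb : Topology.IsOpenEmbedding (Points.map a₀) :=
    Topology.IsOpenEmbedding.of_continuous_injective_isOpenMap (Points.continuous_map a₀) hinj hopen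
  have hae : RepWith @Etale a₀ := repWith_isOpenImmersion_le_etale ha₀
  obtain ⟨u₀, hu₀⟩ := exists_ofPt_eq_generic hX x hx a₀ ha₀ hne
  obtain ⟨x₀, hx₀⟩ : ∃ x₀ : Points ((yon S).obj U₀), Points.map a₀ x₀ = x :=
    ⟨Points.ofScheme U₀ u₀, by rw [← Points.ofPt_eq_map_ofScheme]; exact hu₀⟩
  have hgen : IsGenericPoint x₀ (Set.univ : Set (Points ((yon S).obj U₀))) := by
    rw [isGenericPoint_iff_forall_closed isClosed_univ (Set.mem_univ _)]
    intro Z hZ hx₀Z
    by_contra hne'
    obtain ⟨z, -, hz⟩ := Set.not_subset.mp hne'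
    have hO : IsOpen (Points.map a₀ '' Zᶜ) := hopen _ hZ.isOpen_compl
    have hxm : x ∈ Points.map a₀ '' Zᶜ := by
      rw [hx.mem_open_set_iff hO]
      exact ⟨Points.map a₀ z, Set.mem_univ _, ⟨z, hz, rfl⟩⟩
    obtain ⟨z', hz', hz'x⟩ := hxm
    have : z' = x₀ := hinj (hz'x.trans hx₀.symm)
    rw [this] at hz'
    exact hz' hx₀Z
  refine ⟨⟨?_, DecentEtale.isDecent_yon U₀, ?_⟩, x₀, hx₀, hgen⟩
  · have hred : IsReduced U₀.left := isReduced_of_etale_of_isReducedSp hXi.1 a₀ hae
    exact ⟨U₀, 𝟙 _, repWith_id @Etale U₀, repWith_id @Surjective U₀, hred⟩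
  · have h1 : IsPreirreducible (Set.univ : Set (Points ((yon S).obj U₀))) := by
      have := (IrreducibleSpace.isIrreducible_univ (Points X)).isPreirreducible.preimage hemb
      rwa [Set.preimage_univ] at this
    haveI : PreirreducibleSpace (Points ((yon S).obj U₀)) := ⟨h1⟩
    exact ⟨⟨x₀⟩⟩

/-- A morphism into the target of an open immersion whose image on points lies in the image of
the open immersion factors through it. -/
theorem exists_factor_openImmersion {F Y : Sp S} (hY : IsAlgSpace Y) {V₀ : Over S}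
    (b₀ : (yon S).obj V₀ ⟶ Y) (hb₀ : RepWith @IsOpenImmersion b₀) (φ : F ⟶ Y)
    (h : ∀ p : Points F, Points.map φ p ∈ Set.range (Points.map b₀)) :
    ∃ ψ : F ⟶ (yon S).obj V₀, ψ ≫ b₀ = φ := by
  haveI := isIso_openSubLift_of_range_eq (IsAlgSpace.yon_obj V₀) hY b₀ hb₀ _ rfl
    (fun p => ⟨p, rfl⟩)
  refine ⟨openSubLift _ φ h ≫ inv (openSubLift (Set.range (Points.map b₀)) b₀ (fun p => ⟨p, rfl⟩)),
    ?_⟩
  have h1 : inv (openSubLift (Set.range (Points.map b₀)) b₀ (fun p => ⟨p, rfl⟩)) ≫ b₀ =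
      openSubι Y (Set.range (Points.map b₀)) := by
    rw [IsIso.inv_comp_eq, openSubLift_ι]
  rw [Category.assoc, h1, openSubLift_ι]

/-- S10487. -/
theorem main487 {X Y : Space S} (hXi : IsIntegralSp X.obj) (hYi : IsIntegralSp Y.obj)
    (f : X ⟶ Y) (hft : LocP @LocallyOfFiniteType f.hom) (hd : IsDominantMor f.hom)
    (x : Points X.obj) (hx : IsGenericPoint x (Set.univ : Set (Points X.obj)))
    (y : Points Y.obj) (hy : IsGenericPoint y (Set.univ : Set (Points Y.obj))) :
    (∃ (U V : Over S) (a : (yon S).obj U ⟶ X.obj) (b : (yon S).obj V ⟶ Y.obj) (g : U ⟶ V),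
      IsAffine U.left ∧ IsAffine V.left ∧ Nonempty ↥U.left ∧
        RepWith @IsOpenImmersion a ∧ RepWith @IsOpenImmersion b ∧
          a ≫ f.hom = (yon S).map g ≫ b ∧ IsFinite g.left) ↔
      (∀ x' : Points X.obj, Points.map f.hom x' = y → x' = x) := by
  have hfx : Points.map f.hom x = y :=
    GenericSpB.map_generic Y.property hYi.2.1 f.hom hd x hx y hy
  constructor
  · rintro ⟨U, V, a, b, g, hU, hV, hne, ha, hb, c, hg⟩
    obtain ⟨u, hu⟩ := exists_ofPt_eq_generic X.property x hx a ha hne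
    have hae : RepWith @Etale a := repWith_isOpenImmersion_le_etale ha
    have hbe : RepWith @Etale b := repWith_isOpenImmersion_le_etale hb
    haveI : IsFinite g.left := hg
    haveI : LocallyQuasiFinite g.left := inferInstance
    have hq : g.left.QuasiFiniteAt u := Scheme.Hom.quasiFiniteAt g.left u
    have hq' := hasAtMor_of_quasiFiniteAt f.hom hft a b g hae hbe c u hq
    rw [hu] at hq'
    exact (GenericSpB.generic_tfae X.property Y.property hXi.2.1 hYi.2.1 f.hom hft hd x hx y
      hy).2.mp hq'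
  · intro huniq
    -- affine open subschemes
    obtain ⟨V₀, b₀, hV₀, hneV₀, hb₀, -⟩ :=
      exists_affine_open_subscheme Y hYi.2.1 Set.univ isOpen_univ ⟨y, Set.mem_univ y⟩
    obtain ⟨v₀, hv₀⟩ := exists_ofPt_eq_generic Y.property y hy b₀ hb₀ hneV₀
    have hRo : IsOpen (Set.range (Points.map b₀)) :=
      (isOpenMap_points_of_repWith_isOpenImmersion (IsAlgSpace.yon_obj V₀) Y.property b₀
        hb₀).isOpen_range
    have hyR : y ∈ Set.range (Points.map b₀) :=
      ⟨Points.ofScheme V₀ v₀, by rw [← Points.ofPt_eq_map_ofScheme]; exact hv₀⟩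
    have hOo : IsOpen (Points.map f.hom ⁻¹' Set.range (Points.map b₀)) :=
      hRo.preimage (Points.continuous_map f.hom)
    obtain ⟨U₀, a₀, hU₀, hneU₀, ha₀, ha₀O⟩ :=
      exists_affine_open_subscheme X hXi.2.1 _ hOo ⟨x, by rw [Set.mem_preimage, hfx]; exact hyR⟩
    obtain ⟨g₀', hg₀'⟩ := exists_factor_openImmersion Y.property b₀ hb₀ (a₀ ≫ f.hom)
      (fun p => by rw [Points.map_comp]; exact ha₀O p)
    obtain ⟨g₀, rfl⟩ := (yon S).map_surjective g₀'
    -- integrality
    obtain ⟨hXi', x₀, hx₀, hx₀g⟩ := isIntegralSp_yon_of_open X.property hXi x hx a₀ ha₀ hneU₀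
    obtain ⟨hYi', y₀, hy₀, hy₀g⟩ := isIntegralSp_yon_of_open Y.property hYi y hy b₀ hb₀ hneV₀
    haveI : Mono a₀ := mono_of_repWith_isOpenImmersion a₀ ha₀
    haveI : Mono b₀ := mono_of_repWith_isOpenImmersion b₀ hb₀
    have hinja : Function.Injective (Points.map a₀) := injective_points_map_of_mono a₀
    have hinjb : Function.Injective (Points.map b₀) := injective_points_map_of_mono b₀
    have hae₀ : RepWith @Etale a₀ := repWith_isOpenImmersion_le_etale ha₀
    have hbe₀ : RepWith @Etale b₀ := repWith_isOpenImmersion_le_etale hb₀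
    let X' : Space S := ⟨(yon S).obj U₀, IsAlgSpace.yon_obj U₀⟩
    let Y' : Space S := ⟨(yon S).obj V₀, IsAlgSpace.yon_obj V₀⟩
    let f' : X' ⟶ Y' := ObjectProperty.homMk ((yon S).map g₀)
    have hf'hom : f'.hom = (yon S).map g₀ := rfl
    have hcompat : ∀ p : Points ((yon S).obj U₀),
        Points.map b₀ (Points.map ((yon S).map g₀) p) = Points.map f.hom (Points.map a₀ p) := by
      intro p
      rw [← Points.map_comp, ← Points.map_comp, hg₀']
    have hft' : LocP @LocallyOfFiniteType f'.hom := by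
      intro U' V' a' b' h ha' hb' c'
      refine hft (a' ≫ a₀) (b' ≫ b₀) h (repWith_comp @Etale ha' hae₀) (repWith_comp @Etale hb' hbe₀)
        ?_
      rw [Category.assoc, ← hg₀', ← Category.assoc, ← Category.assoc]
      exact congrArg (· ≫ b₀) c'
    have hf'x₀ : Points.map f'.hom x₀ = y₀ := by
      apply hinjb
      rw [hf'hom, hcompat, hx₀, hfx, hy₀]
    have hd' : IsDominantMor f'.hom := by
      show DenseRange (Points.map f'.hom)
      rw [DenseRange, dense_iff_closure_eq, ← Set.univ_subset_iff, ← hy₀g.def]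
      exact closure_mono (Set.singleton_subset_iff.mpr ⟨x₀, hf'x₀⟩)
    have huniq' : ∀ x' : Points X'.obj, Points.map f'.hom x' = y₀ → x' = x₀ := by
      intro x' hx'
      apply hinja
      rw [hx₀]
      apply huniq
      rw [← hcompat, ← hf'hom, hx', hy₀]
    have hqc' : IsQuasiCompactMor f'.hom := by
      haveI := hU₀
      haveI := hV₀
      exact isQuasiCompactMor_of_repWith (IsAlgSpace.yon_obj _) (IsAlgSpace.yon_obj _).diag _
        ((repWith_yon_map_iff _ _).2 (inferInstance : QuasiCompact g₀.left))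
    obtain ⟨V, b', U, g, a', hV, hneV, hb', sq, hU, hg⟩ :=
      (main488 (X := X') (Y := Y') hXi' hYi' f' hft' hd' x₀ hx₀g y₀ hy₀g (Or.inr hqc')).mp huniq'
    obtain ⟨v, hv⟩ := exists_ofPt_eq_generic (IsAlgSpace.yon_obj V₀) y₀ hy₀g b' hb' hneV
    obtain ⟨w, -, -⟩ := exists_point_of_isPullback_right ((yon S).map g₀) b' a' g sq x₀ v
      (by rw [← hf'hom, hf'x₀, hv])
    have ha' : RepWith @IsOpenImmersion a' := repWith_of_isPullback @IsOpenImmersion sq.flip hb'
    refine ⟨U, V, a' ≫ a₀, b' ≫ b₀, g, hU, hV, ⟨w⟩, repWith_comp @IsOpenImmersion ha' ha₀,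
      repWith_comp @IsOpenImmersion hb' hb₀, ?_, hg⟩
    have hw : a' ≫ (yon S).map g₀ = (yon S).map g ≫ b' := sq.w
    rw [Category.assoc, ← hg₀', ← Category.assoc, hw, Category.assoc]

end Groth.Agent.Helper2.AlterationIff
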