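import Groth.Prelude.Def_AlgSpSub
import Groth.Agent.Lib.Helper2.AlgSp.ChartIdeal

set_option autoImplicit false
set_option backward.isDefEq.respectTransparency false
set_option linter.style.haveILetI false
universe u
open CategoryTheory CategoryTheory.Limits AlgebraicGeometry Opposite AlgSp

namespace Groth.Agent.Helper2.SchImage
open Groth.Agent.Helper2.AlgSpBasic Groth.Agent.Helper2.CartierPull
  Groth.Agent.Helper2.CartierDescent Groth.Agent.Helper2.CartierSum Groth.Agent.Helper2.CutOut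
  Groth.Agent.Helper2.ChartIdeal

variable {S : Scheme.{u}}

/-- The ideal sheaf of a closed subspace is quasi-coherent. -/
theorem isQCoh_idealOfRep {X D : Sp S} (i : D ⟶ X) (hi : RepWith @IsClosedImmersion i) :
    (idealOfRep hi.1).IsQCoh := by
  intro E E' g hE hE'
  obtain ⟨K, fK, sqK⟩ := exists_ideal_sq i hi E.obj.hom
  obtain ⟨f', sq'⟩ := exists_sq_comap i E.obj.hom K fK sqK g.hom.left
  rw [EtOver.w g] at sq'
  rw [idealOfRep_ideal_eq i hi E hE K fK sqK,
    idealOfRep_ideal_eq i hi E' hE' (K.comap g.hom.left.left) f' sq',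
    Groth.Agent.Helper4.IdealComap.ideal_comap_eq_map g.hom.left.left K ⟨⊤, isAffineOpen_top _⟩
      ⟨⊤, isAffineOpen_top _⟩ le_top]
  have h1 : g.hom.left.left.appTop = g.hom.left.left.appLE ⊤ ⊤ le_top := by
    rw [Scheme.Hom.appTop, Scheme.Hom.app_eq_appLE]
    rfl
  rw [h1]

/-- The largest quasi-coherent ideal sheaf below a given ideal sheaf. -/
noncomputable def qcohBelow {Y : Sp S} (M : IdealEt Y) : IdealEt Y where
  ideal E hE := ⨆ (I' : IdealEt Y) (_ : I'.IsQCoh ∧ I' ≤ M), I'.ideal E hE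
  map_le := by
    intro E E' g hE hE'
    rw [Ideal.map_iSup]
    refine iSup_le fun I' => ?_
    rw [Ideal.map_iSup]
    refine iSup_le fun h => ?_
    exact le_trans (I'.map_le g hE hE') (le_iSup₂_of_le I' h le_rfl)

theorem isQCoh_qcohBelow {Y : Sp S} (M : IdealEt Y) : (qcohBelow M).IsQCoh := by
  intro E E' g hE hE'
  show (⨆ (I' : IdealEt Y) (_ : I'.IsQCoh ∧ I' ≤ M), I'.ideal E' hE') ≤
    Ideal.map _ (⨆ (I' : IdealEt Y) (_ : I'.IsQCoh ∧ I' ≤ M), I'.ideal E hE)
  refine iSup₂_le fun I' h => ?_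
  refine le_trans (h.1 g hE hE') (Ideal.map_mono ?_)
  exact le_iSup₂_of_le I' h le_rfl

theorem qcohBelow_le {Y : Sp S} (M : IdealEt Y) : qcohBelow M ≤ M := by
  intro E hE
  exact iSup₂_le fun I' h => h.2 E hE

theorem le_qcohBelow {Y : Sp S} (M I' : IdealEt Y) (h1 : I'.IsQCoh) (h2 : I' ≤ M) :
    I' ≤ qcohBelow M := by
  intro E hE
  exact le_iSup₂_of_le I' ⟨h1, h2⟩ le_rfl

/-- S9964. -/
theorem main64 {X Y : Sp S} (hX : IsAlgSpace X) (hY : IsAlgSpace Y) (f : X ⟶ Y) :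
    ∃ (Z : Sp S) (_ : IsAlgSpace Z) (i : Z ⟶ Y), IsSchImage f i := by
  obtain ⟨U, a, hae, has⟩ := hX.atlas
  haveI : Epi a := (Sheaf.isLocallySurjective_iff_epi a).mp
    (isLocallySurjective_of_etale_surjective a hae has)
  have hh : Representable (a ≫ f) := (Functor.relativelyRepresentable.diag_iff).mp hY.diag (a ≫ f)
  obtain ⟨Z, hZ, i, hZi⟩ := main88 hY (qcohBelow (idealOfRep hh)) (isQCoh_qcohBelow _)
  have hi : RepWith @IsClosedImmersion i := hZi.1
  haveI : Mono i := mono_of_repWith_monomorphisms i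
    (repWith_mono (fun _ _ g (hg : IsClosedImmersion g) => (inferInstance : Mono g)) hi)
  refine ⟨Z, hZ, i, hi, ?_, ?_⟩
  · obtain ⟨k, hk⟩ := (main01 hY i _ hZi (a ≫ f) hh).mpr (qcohBelow_le _)
    obtain ⟨l, hl, -⟩ := exists_lift_of_epi_mono a i f k hk.symm
    exact ⟨l, hl⟩
  · intro Z' i' hZ' hi' ⟨f'', hf''⟩
    have h1 : idealOfRep hi'.1 ≤ idealOfRep hh :=
      idealOfRep_le_of_factor i' hi'.1 (a ≫ f) hh (a ≫ f'') (by rw [Category.assoc, hf''])
    have h2 : idealOfRep hi'.1 ≤ qcohBelow (idealOfRep hh) :=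
      le_qcohBelow _ _ (isQCoh_idealOfRep i' hi') h1
    exact (main89 hY i' i _ _ ⟨hi', rfl⟩ hZi).mp h2

end Groth.Agent.Helper2.SchImage
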