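import Groth.Prelude.Def_AlgSpSub
import Groth.Agent.Lib.Helper2.AlgSp.SchImage
import Groth.Agent.Lib.Helper2.AlgSp.QC
import Groth.Agent.Lib.Helper2.Sch.KerFlat

set_option autoImplicit false
set_option backward.isDefEq.respectTransparency false
set_option linter.style.haveILetI false
universe u
open CategoryTheory CategoryTheory.Limits AlgebraicGeometry Opposite AlgSp

namespace Groth.Agent.Helper2.SchImage
open Groth.Agent.Helper2.AlgSpBasic Groth.Agent.Helper2.CartierPull
  Groth.Agent.Helper2.CartierDescent Groth.Agent.Helper2.CartierSum Groth.Agent.Helper2.CutOut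
  Groth.Agent.Helper2.ChartIdeal Groth.Agent.Helper2.KerFlat

variable {S : Scheme.{u}}

/-- The kernel ideal of a quasi-compact representable morphism is quasi-coherent. -/
theorem isQCoh_idealOfRep_of_quasiCompact {X Y : Sp S} (f : X ⟶ Y) (hf : Representable f)
    (hq : RepWith @QuasiCompact f) : (idealOfRep hf).IsQCoh := by
  intro E E' g hE hE'
  have sqP := EtOver.isPullback_bcMap_left hf g
  haveI : Etale g.hom.left.left := EtOver.etale_left g
  haveI : QuasiCompact (hf.snd E.obj.hom).left := hq.property_snd E.obj.hom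
  haveI : CompactSpace ↥(EtOver.bcObj hf E).obj.left.left :=
    QuasiCompact.compactSpace_of_compactSpace (hf.snd E.obj.hom).left
  exact le_of_eq (ker_appTop_of_isPullback_of_flat sqP)

/-- A closed subspace cut out by the kernel ideal of a representable morphism is its scheme
theoretic image. -/
theorem isSchImage_of_isCutOutBy {X Y Z : Sp S} (hX : IsAlgSpace X) (hY : IsAlgSpace Y)
    (f : X ⟶ Y) (hf : Representable f) (i : Z ⟶ Y) (h : IsCutOutBy (idealOfRep hf) i) :
    IsSchImage f i := by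
  have hi : RepWith @IsClosedImmersion i := h.1
  haveI : Mono i := mono_of_repWith_monomorphisms i
    (repWith_mono (fun _ _ g (hg : IsClosedImmersion g) => (inferInstance : Mono g)) hi)
  refine ⟨hi, ?_, ?_⟩
  · obtain ⟨U, a, hae, has⟩ := hX.atlas
    haveI : Epi a := (Sheaf.isLocallySurjective_iff_epi a).mp
      (isLocallySurjective_of_etale_surjective a hae has)
    have hh : Representable (a ≫ f) :=
      (Functor.relativelyRepresentable.diag_iff).mp hY.diag (a ≫ f)
    obtain ⟨k, hk⟩ := (main01 hY i _ h (a ≫ f) hh).mpr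
      (idealOfRep_le_of_factor f hf (a ≫ f) hh a rfl)
    obtain ⟨l, hl, -⟩ := exists_lift_of_epi_mono a i f k hk.symm
    exact ⟨l, hl⟩
  · intro Z' i' hZ' hi' ⟨f'', hf''⟩
    exact (main89 hY i' i _ _ ⟨hi', rfl⟩ h).mp (idealOfRep_le_of_factor i' hi'.1 f hf f'' hf'')

/-- S10003, second half. -/
theorem isSchImage_iff_isCutOutBy {X Y Z : Sp S} (hX : IsAlgSpace X) (hY : IsAlgSpace Y)
    (hZ : IsAlgSpace Z) (f : X ⟶ Y) (hf : Representable f) (hK : (idealOfRep hf).IsQCoh)
    (i : Z ⟶ Y) : IsSchImage f i ↔ IsCutOutBy (idealOfRep hf) i := by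
  constructor
  · intro h
    obtain ⟨ZK, hZK, iK, hcutK⟩ := main88 hY (idealOfRep hf) hK
    have hK' := isSchImage_of_isCutOutBy hX hY f hf iK hcutK
    obtain ⟨k, hk⟩ := h.2.2 iK hZK hK'.1 hK'.2.1
    obtain ⟨k', hk'⟩ := hK'.2.2 i hZ h.1 h.2.1
    have h1 : idealOfRep h.1.1 ≤ idealOfRep hf :=
      (main89 hY i iK _ _ ⟨h.1, rfl⟩ hcutK).mpr ⟨k', hk'⟩
    have h2 : idealOfRep hf ≤ idealOfRep h.1.1 :=
      (main89 hY iK i _ _ hcutK ⟨h.1, rfl⟩).mpr ⟨k, hk⟩
    refine ⟨h.1, ?_⟩
    apply IdealEt.ext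
    funext E hE
    exact le_antisymm (h1 E hE) (h2 E hE)
  · exact isSchImage_of_isCutOutBy hX hY f hf i

end Groth.Agent.Helper2.SchImage
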