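import Groth.Prelude.Def_AlgSpSub
import Groth.Agent.Lib.Helper2.AlgSp.SchImageQC
import Groth.Agent.Lib.Helper2.Sch.Reduced

set_option autoImplicit false
set_option backward.isDefEq.respectTransparency false
set_option linter.style.haveILetI false
universe u
open CategoryTheory CategoryTheory.Limits AlgebraicGeometry Opposite AlgSp

namespace Groth.Agent.Helper2.KerIdeal
open Groth.Agent.Helper2.AlgSpBasic Groth.Agent.Helper2.CartierPull
  Groth.Agent.Helper2.CartierDescent Groth.Agent.Helper2.CartierSum Groth.Agent.Helper2.CutOut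
  Groth.Agent.Helper2.ChartIdeal Groth.Agent.Helper2.KerFlat Groth.Agent.Helper2.SchImage

variable {S : Scheme.{u}}

/-- Pullback of global functions along a flat surjective morphism is injective. -/
theorem appTop_injective_of_flat_of_surjective {W' W : Scheme.{u}} (r : W' ⟶ W) [Flat r]
    [Surjective r] : Function.Injective r.appTop.hom := by
  rw [injective_iff_map_eq_zero]
  intro s hs
  apply TopCat.Presheaf.section_ext W.sheaf ⊤
  intro y hy
  obtain ⟨x, rfl⟩ := r.surjective y
  apply Groth.Agent.Helper2.SchLib.stalkMap_injective_of_flat r x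
  rw [map_zero, map_zero]
  have h1 := Scheme.Hom.germ_stalkMap_apply r ⊤ x trivial s
  have h2 : (r.app ⊤).hom s = 0 := hs
  refine h1.trans ?_
  show (W'.presheaf.germ (r ⁻¹ᵁ ⊤) x trivial).hom ((r.app ⊤).hom s) = 0
  rw [h2, map_zero]


/-- The kernel ideal of a representable morphism on an affine object, computed on any pullback
square. -/
theorem idealOfRep_ideal_eq_ker {F Y : Sp S} (h : F ⟶ Y) (hh : Representable h) (E : EtOver Y)
    (hE : IsAffine E.obj.left.left) {P : Over S} (fst : (yon S).obj P ⟶ F)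
    (p : P ⟶ E.obj.left) (sq : IsPullback fst ((yon S).map p) h E.obj.hom) :
    (idealOfRep hh).ideal E hE = RingHom.ker p.left.appTop.hom := by
  have sq' := hh.isPullback E.obj.hom
  let e' := sq.isoIsPullback _ _ sq'
  have he' : e'.hom ≫ (yon S).map (hh.snd E.obj.hom) = (yon S).map p :=
    sq.isoIsPullback_hom_snd _ _ sq'
  let ε := (yon S).preimageIso e'
  have hε : ε.hom ≫ hh.snd E.obj.hom = p := by
    apply (yon S).map_injective
    rw [Functor.map_comp, Functor.preimageIso_hom, Functor.map_preimage]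
    exact he'
  have hε' : ε.hom.left ≫ (hh.snd E.obj.hom).left = p.left := congrArg (fun f => f.left) hε
  haveI : IsIso ε.hom.left := (Over.forget S).map_isIso ε.hom
  have hinj : Function.Injective ε.hom.left.appTop.hom :=
    (ConcreteCategory.bijective_of_isIso ε.hom.left.appTop).1
  ext a
  rw [mem_idealOfRep_iff, RingHom.mem_ker]
  have h1 : p.left.appTop.hom a =
      ε.hom.left.appTop.hom ((hh.snd E.obj.hom).left.appTop.hom a) := by
    have h2 : p.left.appTop = (hh.snd E.obj.hom).left.appTop ≫ ε.hom.left.appTop := by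
      rw [← Scheme.Hom.comp_appTop, hε']
    exact congrArg (fun f => f.hom a) h2
  constructor
  · intro h
    rw [h1]
    have : (hh.snd E.obj.hom).left.appTop.hom a = 0 := h
    rw [this, map_zero]
  · intro h
    rw [h1] at h
    show (hh.snd E.obj.hom).left.appTop.hom a = 0
    apply hinj
    rw [map_zero]
    exact h

/-- The kernel of a composite with a flat surjective morphism. -/
theorem ker_comp_of_flat_of_surjective {W' W E : Scheme.{u}} (r : W' ⟶ W) [Flat r]
    [Surjective r] (p : W ⟶ E) :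
    RingHom.ker (r ≫ p).appTop.hom = RingHom.ker p.appTop.hom := by
  ext a
  rw [RingHom.mem_ker, RingHom.mem_ker]
  have h1 : (r ≫ p).appTop.hom a = r.appTop.hom (p.appTop.hom a) := by
    rw [Scheme.Hom.comp_appTop]
    rfl
  rw [h1]
  constructor
  · intro h
    apply appTop_injective_of_flat_of_surjective r
    rw [map_zero]
    exact h
  · intro h
    rw [h, map_zero]

/-- The kernel ideal of `a ≫ f` for a chart `a` of the source, on an affine object `E` of the
target, computed through any chart of the fibre product `X ×_Y E`. -/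
theorem idealOfRep_ideal_eq_ker_chart {X Y : Sp S} (f : X ⟶ Y) {U : Over S}
    (a : (yon S).obj U ⟶ X) (hae : RepWith @Etale a) (has : RepWith @Surjective a)
    (hh : Representable (a ≫ f)) (E : EtOver Y) (hE : IsAffine E.obj.left.left)
    {T : Sp S} (π₁ : T ⟶ X) (π₂ : T ⟶ (yon S).obj E.obj.left)
    (sqT : IsPullback π₁ π₂ f E.obj.hom) {W' : Over S} (c : (yon S).obj W' ⟶ T)
    (hce : RepWith @Etale c) (hcs : RepWith @Surjective c) (p' : W' ⟶ E.obj.left)
    (hp' : (yon S).map p' = c ≫ π₂) :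
    (idealOfRep hh).ideal E hE = RingHom.ker p'.left.appTop.hom := by
  have sq₀ := hh.isPullback E.obj.hom
  have w₀ : (hh.fst E.obj.hom ≫ a) ≫ f = (yon S).map (hh.snd E.obj.hom) ≫ E.obj.hom := by
    rw [Category.assoc]
    exact sq₀.w
  let c₀ : (yon S).obj (hh.pullback E.obj.hom) ⟶ T := sqT.lift _ _ w₀
  have hc₀1 : c₀ ≫ π₁ = hh.fst E.obj.hom ≫ a := sqT.lift_fst _ _ w₀
  have hc₀2 : c₀ ≫ π₂ = (yon S).map (hh.snd E.obj.hom) := sqT.lift_snd _ _ w₀
  have sqA : IsPullback c₀ (hh.fst E.obj.hom) π₁ a := by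
    refine IsPullback.of_right ?_ hc₀1 sqT.flip
    rw [hc₀2]
    exact sq₀.flip
  have hc₀e : RepWith @Etale c₀ := repWith_of_isPullback @Etale sqA.flip hae
  have hc₀s : RepWith @Surjective c₀ := repWith_of_isPullback @Surjective sqA.flip has
  have hrep₀ := hc₀e.rep
  obtain ⟨t₀, ht₀⟩ := (yon S).map_surjective (hrep₀.fst c)
  let t' := hrep₀.snd c
  have sq₁ : IsPullback ((yon S).map t₀) ((yon S).map t') c₀ c := by
    rw [ht₀]
    exact hrep₀.isPullback c
  haveI : Etale t'.left := hc₀e.property_snd c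
  haveI : Surjective t'.left := hc₀s.property_snd c
  haveI : Etale t₀.left :=
    (repWith_yon_map_iff @Etale t₀).mp (repWith_of_isPullback @Etale sq₁.flip hce)
  haveI : Surjective t₀.left :=
    (repWith_yon_map_iff @Surjective t₀).mp (repWith_of_isPullback @Surjective sq₁.flip hcs)
  have hcomm : t₀ ≫ hh.snd E.obj.hom = t' ≫ p' := by
    apply (yon S).map_injective
    rw [Functor.map_comp, Functor.map_comp, ← hc₀2, ← Category.assoc, sq₁.w, Category.assoc, hp']
  have hcomm' : t₀.left ≫ (hh.snd E.obj.hom).left = t'.left ≫ p'.left :=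
    congrArg (fun m => m.left) hcomm
  show RingHom.ker (hh.snd E.obj.hom).left.appTop.hom = _
  rw [← ker_comp_of_flat_of_surjective t₀.left (hh.snd E.obj.hom).left, hcomm',
    ker_comp_of_flat_of_surjective t'.left p'.left]


/-- Flat base change of the kernel ideal of a quasi-compact morphism of algebraic spaces. -/
theorem ideal_map_of_flat {V Y V' Y' : Sp S} (hV : IsAlgSpace V) (hY : IsAlgSpace Y)
    (g : V ⟶ Y) (hg : IsQuasiCompactMor g) {U : Over S} (a : (yon S).obj U ⟶ V)
    (hae : RepWith @Etale a) (has : RepWith @Surjective a) (hh : Representable (a ≫ g))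
    (g' : V' ⟶ Y') {U' : Over S} (a' : (yon S).obj U' ⟶ V') (hae' : RepWith @Etale a')
    (has' : RepWith @Surjective a') (hh' : Representable (a' ≫ g'))
    (φ : Y' ⟶ Y) (ν : V' ⟶ V) (sqV : IsPullback ν g' g φ)
    (E : EtOver Y) (hE : IsAffine E.obj.left.left) (E' : EtOver Y')
    (hE' : IsAffine E'.obj.left.left) (γ : E'.obj.left ⟶ E.obj.left)
    (hγ : (yon S).map γ ≫ E.obj.hom = E'.obj.hom ≫ φ) [Flat γ.left] :
    (idealOfRep hh').ideal E' hE' = ((idealOfRep hh).ideal E hE).map γ.left.appTop.hom := by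
  have sqT := IsPullback.of_hasPullback g E.obj.hom
  have hT : IsAlgSpace (pullback g E.obj.hom) :=
    isAlgSpace_of_isPullback hY.diag hV (IsAlgSpace.yon_obj _) g E.obj.hom _ _ sqT
  have hTq : IsQuasiCompactSp (pullback g E.obj.hom) :=
    hg (IsAlgSpace.yon_obj _) ((isQuasiCompactSp_yon_iff _).mpr
      (by haveI := hE; infer_instance)) E.obj.hom _ _ sqT
  obtain ⟨W', c, hW', hce, hcs⟩ := (isQuasiCompactSp_iff_exists_affine_chart hT).mp hTq
  obtain ⟨p', hp'⟩ := (yon S).map_surjective (c ≫ pullback.snd g E.obj.hom)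
  have hK := idealOfRep_ideal_eq_ker_chart g a hae has hh E hE _ _ sqT c hce hcs p' hp'
  have sqW := IsPullback.of_hasPullback p' γ
  have sqWs : IsPullback (pullback.fst p' γ).left (pullback.snd p' γ).left p'.left γ.left :=
    sqW.map (Over.forget S)
  have sqWy := sqW.map (yon S)
  have sqT' := IsPullback.of_hasPullback g' E'.obj.hom
  have wκ : (pullback.fst g' E'.obj.hom ≫ ν) ≫ g =
      (pullback.snd g' E'.obj.hom ≫ (yon S).map γ) ≫ E.obj.hom := by
    rw [Category.assoc, sqV.w, ← Category.assoc, sqT'.w, Category.assoc, Category.assoc, hγ]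
  let κ : pullback g' E'.obj.hom ⟶ pullback g E.obj.hom := sqT.lift _ _ wκ
  have hκ1 : κ ≫ pullback.fst g E.obj.hom = pullback.fst g' E'.obj.hom ≫ ν :=
    sqT.lift_fst _ _ wκ
  have hκ2 : κ ≫ pullback.snd g E.obj.hom = pullback.snd g' E'.obj.hom ≫ (yon S).map γ :=
    sqT.lift_snd _ _ wκ
  have sqR : IsPullback κ (pullback.snd g' E'.obj.hom) (pullback.snd g E.obj.hom)
      ((yon S).map γ) := by
    refine IsPullback.of_right ?_ hκ2 sqT
    rw [hκ1, hγ]
    exact sqT'.paste_horiz sqV
  have wu : ((yon S).map (pullback.fst p' γ) ≫ c ≫ pullback.fst g E.obj.hom) ≫ g =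
      ((yon S).map (pullback.snd p' γ) ≫ E'.obj.hom) ≫ φ := by
    rw [Category.assoc, Category.assoc, sqT.w, ← Category.assoc c, ← hp', ← Category.assoc,
      sqWy.w, Category.assoc, hγ, Category.assoc]
  let u : (yon S).obj (pullback p' γ) ⟶ V' := sqV.lift _ _ wu
  have hu1 : u ≫ ν = (yon S).map (pullback.fst p' γ) ≫ c ≫ pullback.fst g E.obj.hom :=
    sqV.lift_fst _ _ wu
  have hu2 : u ≫ g' = (yon S).map (pullback.snd p' γ) ≫ E'.obj.hom := sqV.lift_snd _ _ wu
  let c'' : (yon S).obj (pullback p' γ) ⟶ pullback g' E'.obj.hom := sqT'.lift _ _ hu2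
  have hc1 : c'' ≫ pullback.fst g' E'.obj.hom = u := sqT'.lift_fst _ _ hu2
  have hc2 : c'' ≫ pullback.snd g' E'.obj.hom = (yon S).map (pullback.snd p' γ) :=
    sqT'.lift_snd _ _ hu2
  have hcκ : c'' ≫ κ = (yon S).map (pullback.fst p' γ) ≫ c := by
    apply sqT.hom_ext
    · rw [Category.assoc, hκ1, ← Category.assoc, hc1, hu1, Category.assoc]
    · rw [Category.assoc, hκ2, ← Category.assoc, hc2, ← sqWy.w, hp', Category.assoc]
  have sqL : IsPullback c'' ((yon S).map (pullback.fst p' γ)) κ c := by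
    refine IsPullback.of_right ?_ hcκ sqR.flip
    rw [hc2, ← hp']
    exact sqWy.flip
  have hc''e : RepWith @Etale c'' := repWith_of_isPullback @Etale sqL.flip hce
  have hc''s : RepWith @Surjective c'' := repWith_of_isPullback @Surjective sqL.flip hcs
  have hK' := idealOfRep_ideal_eq_ker_chart g' a' hae' has' hh' E' hE' _ _ sqT' c'' hc''e hc''s
    (pullback.snd p' γ) hc2.symm
  rw [hK', hK]
  haveI := hE
  haveI := hE'
  haveI : IsAffine W'.left := hW'
  exact ker_appTop_of_isPullback_of_flat sqWs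


/-- The kernel ideal of a quasi-compact morphism of algebraic spaces (through a chart of the
source) is quasi-coherent. -/
theorem isQCoh_of_isQuasiCompactMor {X Y : Sp S} (hX : IsAlgSpace X) (hY : IsAlgSpace Y)
    (f : X ⟶ Y) (hf : IsQuasiCompactMor f) {U : Over S} (a : (yon S).obj U ⟶ X)
    (hae : RepWith @Etale a) (has : RepWith @Surjective a) (hh : Representable (a ≫ f)) :
    (idealOfRep hh).IsQCoh := by
  intro E E' g hE hE'
  haveI : Etale g.hom.left.left := EtOver.etale_left g
  exact le_of_eq (ideal_map_of_flat hX hY f hf a hae has hh f a hae has hh (𝟙 Y) (𝟙 X)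
    (IsPullback.id_horiz f) E hE E' hE' g.hom.left (by rw [Category.comp_id]; exact EtOver.w g))

/-- The scheme theoretic image only depends on the composite with an epimorphism. -/
theorem isSchImage_comp_epi_iff {A X Y Z : Sp S} (a : A ⟶ X) [Epi a] (f : X ⟶ Y) (i : Z ⟶ Y) :
    IsSchImage (a ≫ f) i ↔ IsSchImage f i := by
  have key : ∀ {Z' : Sp S} (i' : Z' ⟶ Y), RepWith @IsClosedImmersion i' →
      ((∃ f' : A ⟶ Z', f' ≫ i' = a ≫ f) ↔ ∃ f' : X ⟶ Z', f' ≫ i' = f) := by
    intro Z' i' hi'
    haveI : Mono i' := mono_of_repWith_monomorphisms i'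
      (repWith_mono (fun _ _ g (hg : IsClosedImmersion g) => (inferInstance : Mono g)) hi')
    constructor
    · rintro ⟨k, hk⟩
      obtain ⟨l, hl, -⟩ := exists_lift_of_epi_mono a i' f k hk.symm
      exact ⟨l, hl⟩
    · rintro ⟨l, hl⟩
      exact ⟨a ≫ l, by rw [Category.assoc, hl]⟩
  constructor
  · rintro ⟨hi, h1, h2⟩
    exact ⟨hi, (key i hi).mp h1, fun Z' i' hZ' hi' h3 => h2 i' hZ' hi' ((key i' hi').mpr h3)⟩
  · rintro ⟨hi, h1, h2⟩
    exact ⟨hi, (key i hi).mpr h1, fun Z' i' hZ' hi' h3 => h2 i' hZ' hi' ((key i' hi').mp h3)⟩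

/-- The scheme theoretic image of a quasi-compact morphism is the closed subspace cut out by
its kernel ideal. -/
theorem isSchImage_iff_isCutOutBy_of_isQuasiCompactMor {X Y Z : Sp S} (hX : IsAlgSpace X)
    (hY : IsAlgSpace Y) (hZ : IsAlgSpace Z) (f : X ⟶ Y) (hf : IsQuasiCompactMor f) {U : Over S}
    (a : (yon S).obj U ⟶ X) (hae : RepWith @Etale a) (has : RepWith @Surjective a)
    (hh : Representable (a ≫ f)) (i : Z ⟶ Y) :
    IsSchImage f i ↔ IsCutOutBy (idealOfRep hh) i := by
  haveI : Epi a := (Sheaf.isLocallySurjective_iff_epi a).mp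
    (isLocallySurjective_of_etale_surjective a hae has)
  rw [← isSchImage_comp_epi_iff a f i]
  exact isSchImage_iff_isCutOutBy (IsAlgSpace.yon_obj U) hY hZ (a ≫ f) hh
    (isQCoh_of_isQuasiCompactMor hX hY f hf a hae has hh) i

end Groth.Agent.Helper2.KerIdeal
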