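import Groth.Prelude.Def_AlgSpSub
import Groth.Agent.Lib.Helper2.AlgSp.KerIdeal

set_option autoImplicit false
set_option backward.isDefEq.respectTransparency false
set_option linter.style.haveILetI false
universe u
open CategoryTheory CategoryTheory.Limits AlgebraicGeometry Opposite AlgSp

namespace Groth.Agent.Helper2.SchImageFlat
open Groth.Agent.Helper2.AlgSpBasic Groth.Agent.Helper2.CartierPull
  Groth.Agent.Helper2.CartierDescent Groth.Agent.Helper2.CartierSum Groth.Agent.Helper2.CutOut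
  Groth.Agent.Helper2.ChartIdeal Groth.Agent.Helper2.KerFlat Groth.Agent.Helper2.SchImage
  Groth.Agent.Helper2.KerIdeal

variable {S : Scheme.{u}}

/-- The ideal of the inverse image of a closed subspace. -/
theorem idealOfRep_map_of_isPullback {X Y Z ZX : Sp S} (i : Z ⟶ Y)
    (hi : RepWith @IsClosedImmersion i) (f : X ⟶ Y) (i₁ : ZX ⟶ Z) (iX : ZX ⟶ X)
    (sqZ : IsPullback i₁ iX i f) (hiX : RepWith @IsClosedImmersion iX)
    (E : EtOver Y) (hE : IsAffine E.obj.left.left) (E' : EtOver X)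
    (hE' : IsAffine E'.obj.left.left) (γ : E'.obj.left ⟶ E.obj.left)
    (hγ : (yon S).map γ ≫ E.obj.hom = E'.obj.hom ≫ f) :
    (idealOfRep hiX.1).ideal E' hE' = ((idealOfRep hi.1).ideal E hE).map γ.left.appTop.hom := by
  obtain ⟨J, fJ, sqJ⟩ := exists_ideal_sq i hi E.obj.hom
  obtain ⟨f', sq'⟩ := exists_sq_comap i E.obj.hom J fJ sqJ γ
  obtain ⟨f'', sq''⟩ := exists_sq_of_isPullback i f i₁ iX sqZ _ _ f' sq' E'.obj.hom hγ.symm
  rw [idealOfRep_ideal_eq iX hiX E' hE' (J.comap γ.left) f'' sq'',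
    idealOfRep_ideal_eq i hi E hE J fJ sqJ,
    Groth.Agent.Helper4.IdealComap.ideal_comap_eq_map γ.left J ⟨⊤, isAffineOpen_top _⟩
      ⟨⊤, isAffineOpen_top _⟩ le_top, ← appTop_eq_appLE]

/-- Two quasi-coherent ideal sheaves agreeing on a basis of affine opens of an atlas agree. -/
theorem idealEt_ext_of_chart {X : Sp S} (I I' : IdealEt X) (hI : I.IsQCoh) (hI' : I'.IsQCoh)
    {W : Over S} (ψ : (yon S).obj W ⟶ X) (hψe : RepWith @Etale ψ) (hψs : RepWith @Surjective ψ)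
    (h : ∀ w : W.left, ∃ O : W.left.affineOpens, w ∈ O.1 ∧
      I.ideal (chartObj ψ hψe O.1) O.2 = I'.ideal (chartObj ψ hψe O.1) O.2) : I = I' := by
  have hW : chartIdeal I hI ψ hψe = chartIdeal I' hI' ψ hψe := by
    choose O hO hOeq using h
    apply Scheme.IdealSheafData.ext_of_iSup_eq_top (fun w => O w)
    · rw [eq_top_iff]
      intro x _
      exact TopologicalSpace.Opens.mem_iSup.mpr ⟨x, hO x⟩
    · intro w
      show fam I ψ hψe (O w) = fam I' ψ hψe (O w)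
      unfold fam
      rw [hOeq w]
  apply IdealEt.ext
  funext E hE
  have hrep := hψe.rep
  obtain ⟨q, hq⟩ := (yon S).map_surjective (hrep.fst E.obj.hom)
  let p := hrep.snd E.obj.hom
  have sqE : IsPullback ((yon S).map q) ((yon S).map p) ψ E.obj.hom := by
    rw [hq]
    exact hrep.isPullback E.obj.hom
  haveI hpe : Etale p.left := hψe.property_snd E.obj.hom
  haveI hps : Surjective p.left := hψs.property_snd E.obj.hom
  have hp' : RepWith @Etale ((yon S).map p ≫ E.obj.hom) :=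
    repWith_comp @Etale (repWith_of_isPullback @Etale sqE hψe) E.property
  have hq' : RepWith @Etale ((yon S).map q ≫ ψ) :=
    repWith_comp @Etale (repWith_of_isPullback @Etale sqE.flip E.property) hψe
  have h1 := chartIdeal_comap I hI ψ hψe ((yon S).map q ≫ ψ) hq' q rfl
  have h2 := chartIdeal_comap I hI E.obj.hom E.property ((yon S).map p ≫ E.obj.hom) hp' p rfl
  have h3 := chartIdeal_congr I hI _ _ hq' hp' sqE.w
  have h1' := chartIdeal_comap I' hI' ψ hψe ((yon S).map q ≫ ψ) hq' q rfl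
  have h2' := chartIdeal_comap I' hI' E.obj.hom E.property ((yon S).map p ≫ E.obj.hom) hp' p rfl
  have h3' := chartIdeal_congr I' hI' _ _ hq' hp' sqE.w
  have hK : chartIdeal I hI E.obj.hom E.property = chartIdeal I' hI' E.obj.hom E.property := by
    apply idealSheafData_ext_of_comap p.left p.left.isOpenMap p.left.surjective
    rw [h2, ← h3, ← h1, hW, h1', h3', ← h2']
  rw [← fam_top I hI E hE, ← fam_top I' hI' E hE]
  show (chartIdeal I hI E.obj.hom E.property).ideal _ =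
    (chartIdeal I' hI' E.obj.hom E.property).ideal _
  rw [hK]


/-- The morphism `f : X ⟶ Y` has, on a basis of affine opens of some atlas of `X`, flat lifts
to affine objects of the small etale site of `Y`. -/
def HasFlatCharts {X Y : Sp S} (f : X ⟶ Y) : Prop :=
  ∃ (W : Over S) (ψ : (yon S).obj W ⟶ X) (hψe : RepWith @Etale ψ), RepWith @Surjective ψ ∧
    ∀ w : W.left, ∃ (O : W.left.affineOpens) (E : EtOver Y) (_ : IsAffine E.obj.left.left)
      (γ : (chartObj ψ hψe O.1).obj.left ⟶ E.obj.left),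
      w ∈ O.1 ∧ Flat γ.left ∧ (yon S).map γ ≫ E.obj.hom = (chartObj ψ hψe O.1).obj.hom ≫ f

/-- Base change of the scheme theoretic image of a quasi-compact morphism along a morphism
with flat charts. -/
theorem isSchImage_of_hasFlatCharts {X Y V Z VX ZX : Sp S} (hX : IsAlgSpace X)
    (hY : IsAlgSpace Y) (hV : IsAlgSpace V) (hZ : IsAlgSpace Z) (hVX : IsAlgSpace VX)
    (hZX : IsAlgSpace ZX) (f : X ⟶ Y) (hf : HasFlatCharts f) (g : V ⟶ Y)
    (hg : IsQuasiCompactMor g) (i : Z ⟶ Y) (hZi : IsSchImage g i) (g₁ : VX ⟶ V) (gX : VX ⟶ X)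
    (sqV : IsPullback g₁ gX g f) (i₁ : ZX ⟶ Z) (iX : ZX ⟶ X) (sqZ : IsPullback i₁ iX i f) :
    IsSchImage gX iX := by
  obtain ⟨U, a, hae, has⟩ := hV.atlas
  have hh : Representable (a ≫ g) := (Functor.relativelyRepresentable.diag_iff).mp hY.diag _
  obtain ⟨hi, hKeq⟩ :=
    (isSchImage_iff_isCutOutBy_of_isQuasiCompactMor hV hY hZ g hg a hae has hh i).mp hZi
  have hgX : IsQuasiCompactMor gX := isQuasiCompactMor_of_isPullback sqV hg
  obtain ⟨U', a', hae', has'⟩ := hVX.atlas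
  have hh' : Representable (a' ≫ gX) :=
    (Functor.relativelyRepresentable.diag_iff).mp hX.diag _
  have hiX : RepWith @IsClosedImmersion iX := repWith_of_isPullback @IsClosedImmersion sqZ hi
  refine (isSchImage_iff_isCutOutBy_of_isQuasiCompactMor hVX hX hZX gX hgX a' hae' has' hh'
    iX).mpr ⟨hiX, ?_⟩
  obtain ⟨W, ψ, hψe, hψs, hcov⟩ := hf
  apply idealEt_ext_of_chart _ _ (isQCoh_idealOfRep iX hiX)
    (isQCoh_of_isQuasiCompactMor hVX hX gX hgX a' hae' has' hh') ψ hψe hψs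
  intro w
  obtain ⟨O, E, hE, γ, hwO, hγf, hγ⟩ := hcov w
  refine ⟨O, hwO, ?_⟩
  haveI := hγf
  rw [idealOfRep_map_of_isPullback i hi f i₁ iX sqZ hiX E hE (chartObj ψ hψe O.1) O.2 γ hγ,
    hKeq, ideal_map_of_flat hV hY g hg a hae has hh gX a' hae' has' hh' f g₁ sqV E hE
      (chartObj ψ hψe O.1) O.2 γ hγ]


theorem exists_affineOpens_mem_le {X : Scheme.{u}} (x : X) (V : X.Opens) (hx : x ∈ V) :
    ∃ O : X.affineOpens, x ∈ O.1 ∧ O.1 ≤ V := by
  obtain ⟨_, ⟨O, hO, rfl⟩, hxO, hle⟩ :=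
    X.isBasis_affineOpens.exists_subset_of_mem_open hx V.isOpen
  exact ⟨⟨O, hO⟩, hxO, hle⟩

theorem hasFlatCharts_of_isEtaleMor {X Y : Sp S} (hX : IsAlgSpace X) (f : X ⟶ Y)
    (hf : IsEtaleMor f) : HasFlatCharts f := by
  obtain ⟨W, ψ, hψe, hψs⟩ := hX.atlas
  refine ⟨W, ψ, hψe, hψs, fun w => ?_⟩
  obtain ⟨O, hwO, -⟩ := exists_affineOpens_mem_le w ⊤ trivial
  refine ⟨O, EtOver.mk ((chartObj ψ hψe O.1).obj.hom ≫ f)
    (hf _ (chartObj ψ hψe O.1).property), O.2, 𝟙 _, hwO, ?_, ?_⟩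
  · show Flat (𝟙 _)
    infer_instance
  · rw [CategoryTheory.Functor.map_id, Category.id_comp]
    rfl

theorem hasFlatCharts_of_locP_flat {X Y : Sp S} (hX : IsAlgSpace X) (hY : IsAlgSpace Y)
    (f : X ⟶ Y) (hf : LocP @Flat f) : HasFlatCharts f := by
  obtain ⟨WY, φY, hφYe, hφYs⟩ := hY.atlas
  have sqP := IsPullback.of_hasPullback f φY
  have hP : IsAlgSpace (pullback f φY) :=
    isAlgSpace_of_isPullback hY.diag hX (IsAlgSpace.yon_obj _) f φY _ _ sqP
  obtain ⟨W, b, hbe, hbs⟩ := hP.atlas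
  obtain ⟨γ₀, hγ₀⟩ := (yon S).map_surjective (b ≫ pullback.snd f φY)
  have hψe : RepWith @Etale (b ≫ pullback.fst f φY) :=
    repWith_comp @Etale hbe (repWith_of_isPullback @Etale sqP.flip hφYe)
  have hψs : RepWith @Surjective (b ≫ pullback.fst f φY) :=
    repWith_comp @Surjective hbs (repWith_of_isPullback @Surjective sqP.flip hφYs)
  have comm : (b ≫ pullback.fst f φY) ≫ f = (yon S).map γ₀ ≫ φY := by
    rw [Category.assoc, sqP.w, ← Category.assoc, hγ₀]
  haveI hflat : Flat γ₀.left := hf _ φY γ₀ hψe hφYe comm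
  refine ⟨W, b ≫ pullback.fst f φY, hψe, hψs, fun w => ?_⟩
  obtain ⟨E₀, hwE₀, -⟩ := exists_affineOpens_mem_le (γ₀.left w) ⊤ trivial
  have hx : w ∈ γ₀.left ⁻¹ᵁ E₀.1 := hwE₀
  obtain ⟨O, hwO, e⟩ := exists_affineOpens_mem_le w (γ₀.left ⁻¹ᵁ E₀.1) hx
  let γ : (chartObj (b ≫ pullback.fst f φY) hψe O.1).obj.left ⟶
      (chartObj φY hφYe E₀.1).obj.left :=
    Over.homMk (γ₀.left.resLE E₀.1 O.1 e) (by
      show γ₀.left.resLE E₀.1 O.1 e ≫ E₀.1.ι ≫ WY.hom = O.1.ι ≫ W.hom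
      rw [← Category.assoc, Scheme.Hom.resLE_comp_ι, Category.assoc, Over.w γ₀])
  have hγ' : γ ≫ (Over.homMk E₀.1.ι rfl : Over.mk (E₀.1.ι ≫ WY.hom) ⟶ WY) =
      (Over.homMk O.1.ι rfl : Over.mk (O.1.ι ≫ W.hom) ⟶ W) ≫ γ₀ := by
    apply Over.OverMorphism.ext
    exact Scheme.Hom.resLE_comp_ι _ _
  refine ⟨O, chartObj φY hφYe E₀.1, E₀.2, γ, hwO, ?_, ?_⟩
  · show Flat (γ₀.left.resLE E₀.1 O.1 e)
    infer_instance
  · show (yon S).map γ ≫ (yon S).map (Over.homMk E₀.1.ι rfl) ≫ φY =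
      ((yon S).map (Over.homMk O.1.ι rfl) ≫ b ≫ pullback.fst f φY) ≫ f
    rw [← Category.assoc, ← Functor.map_comp, hγ', Functor.map_comp, Category.assoc,
      Category.assoc, ← comm]

end Groth.Agent.Helper2.SchImageFlat
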