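import Groth.Prelude.Def_AlgSpSub
import Groth.Agent.Lib.Helper2.AlgSp.SchImageFlat
import Groth.Agent.Lib.Helper2.AlgSp.PointsMor

set_option autoImplicit false
set_option backward.isDefEq.respectTransparency false
set_option linter.style.haveILetI false
universe u
open CategoryTheory CategoryTheory.Limits AlgebraicGeometry Opposite AlgSp

namespace Groth.Agent.Helper2.SchImageFlat
open Groth.Agent.Helper2.AlgSpBasic Groth.Agent.Helper2.CartierPull
  Groth.Agent.Helper2.CartierDescent Groth.Agent.Helper2.CartierSum Groth.Agent.Helper2.CutOut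
  Groth.Agent.Helper2.ChartIdeal Groth.Agent.Helper2.KerFlat Groth.Agent.Helper2.SchImage
  Groth.Agent.Helper2.KerIdeal

variable {S : Scheme.{u}}

theorem isEmpty_of_subsingleton_Γ (X : Scheme.{u}) (h : Subsingleton Γ(X, ⊤)) : IsEmpty X := by
  refine ⟨fun x => ?_⟩
  have h1 : (1 : Γ(X, ⊤)) = 0 := Subsingleton.elim _ _
  have h2 := congrArg (X.presheaf.germ ⊤ x trivial).hom h1
  rw [map_one, map_zero] at h2
  exact one_ne_zero h2

theorem ofPt_chartObj {X : Sp S} {W : Over S} (φ : (yon S).obj W ⟶ X) (hφ : RepWith @Etale φ)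
    (W₁ : W.left.Opens) (e : (chartObj φ hφ W₁).obj.left.left) :
    Points.ofPt (chartObj φ hφ W₁).obj.hom e = Points.ofPt φ (W₁.ι e) :=
  ofPt_yon_map_comp _ _ _

/-- The kernel ideal is the unit ideal on objects whose image misses the closure of the image
of the morphism. -/
theorem ideal_eq_top_of_disjoint {X Y : Sp S} (f : X ⟶ Y) {U : Over S}
    (a : (yon S).obj U ⟶ X) (hh : Representable (a ≫ f)) (E : EtOver Y)
    (hE : IsAffine E.obj.left.left)
    (hdisj : ∀ e : E.obj.left.left,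
      Points.ofPt E.obj.hom e ∉ closure (Set.range (Points.map f))) :
    (idealOfRep hh).ideal E hE = ⊤ := by
  have hempty : IsEmpty ↥(EtOver.bcObj hh E).obj.left.left := by
    refine ⟨fun t => ?_⟩
    have sq₀ := hh.isPullback E.obj.hom
    obtain ⟨q, hq⟩ := (yon S).map_surjective (hh.fst E.obj.hom)
    have h1 : Points.ofPt ((yon S).map q ≫ a ≫ f) t =
        Points.ofPt ((yon S).map (hh.snd E.obj.hom) ≫ E.obj.hom) t := by
      rw [hq, sq₀.w]
    rw [ofPt_yon_map_comp, ofPt_yon_map_comp, ← Points.map_ofPt] at h1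
    apply hdisj ((hh.snd E.obj.hom).left t)
    rw [← h1]
    exact subset_closure ⟨_, rfl⟩
  rw [Ideal.eq_top_iff_one, mem_idealOfRep_iff]
  exact Subsingleton.elim _ _

/-- A closed subspace has no points over an object on which its ideal is the unit ideal. -/
theorem false_of_ideal_eq_top {Y Z : Sp S} (i : Z ⟶ Y) (hi : Representable i) (E : EtOver Y)
    (hE : IsAffine E.obj.left.left) (h : (idealOfRep hi).ideal E hE = ⊤) (z : Points Z)
    (e : E.obj.left.left) (he : Points.map i z = Points.ofPt E.obj.hom e) : False := by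
  have h1 : (1 : Γ(E.obj.left.left, ⊤)) ∈ (idealOfRep hi).ideal E hE := by
    rw [h]
    exact Submodule.mem_top
  rw [mem_idealOfRep_iff, map_one] at h1
  have hsub : Subsingleton Γ((hi.pullback E.obj.hom).left, ⊤) :=
    subsingleton_of_zero_eq_one h1.symm
  have hZempty := isEmpty_of_subsingleton_Γ _ hsub
  have sqZ := hi.isPullback E.obj.hom
  obtain ⟨t, -, -⟩ := exists_point_of_isPullback_right i E.obj.hom _ _ sqZ z e he
  exact hZempty.false t

/-- The image of a quasi-compact morphism is dense in its scheme theoretic image. -/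
theorem range_subset_closure {X Y Z : Sp S} (hX : IsAlgSpace X) (hY : IsAlgSpace Y)
    (hZ : IsAlgSpace Z) (f : X ⟶ Y) (hf : IsQuasiCompactMor f) (i : Z ⟶ Y)
    (hZi : IsSchImage f i) :
    Set.range (Points.map i) ⊆ closure (Set.range (Points.map f)) := by
  obtain ⟨U, a, hae, has⟩ := hX.atlas
  have hh : Representable (a ≫ f) := (Functor.relativelyRepresentable.diag_iff).mp hY.diag _
  obtain ⟨hi, hKeq⟩ :=
    (isSchImage_iff_isCutOutBy_of_isQuasiCompactMor hX hY hZ f hf a hae has hh i).mp hZi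
  rintro _ ⟨z, rfl⟩
  by_contra hz
  obtain ⟨WY, φY, hφYe, hφYs⟩ := hY.atlas
  obtain ⟨w, hw⟩ := surjective_ofPt φY hφYs (Points.map i z)
  have hopen : IsOpen (Points.ofPt φY ⁻¹' (closure (Set.range (Points.map f)))ᶜ) :=
    isClosed_closure.isOpen_compl.preimage (Points.continuous_ofPt φY)
  have hwO : w ∈ (⟨_, hopen⟩ : WY.left.Opens) := by
    show Points.ofPt φY w ∈ (closure (Set.range (Points.map f)))ᶜ
    rw [hw]
    exact hz
  obtain ⟨E₀, hwE₀, hE₀le⟩ := exists_affineOpens_mem_le w ⟨_, hopen⟩ hwO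
  have hKtop : (idealOfRep hh).ideal (chartObj φY hφYe E₀.1) E₀.2 = ⊤ := by
    apply ideal_eq_top_of_disjoint
    intro e
    rw [ofPt_chartObj]
    exact hE₀le e.2
  rw [← hKeq] at hKtop
  refine false_of_ideal_eq_top i hi.1 (chartObj φY hφYe E₀.1) E₀.2 hKtop z ⟨w, hwE₀⟩ ?_
  rw [ofPt_chartObj]
  exact hw.symm

/-- S9965. -/
theorem main65 {X Y Z : Sp S} (hX : IsAlgSpace X) (hY : IsAlgSpace Y) (hZ : IsAlgSpace Z)
    (f : X ⟶ Y) (i : Z ⟶ Y) (hq : IsQuasiCompactMor f) (hZi : IsSchImage f i) :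
    (∀ (V XV ZV : Sp S), IsAlgSpace V → IsAlgSpace XV → IsAlgSpace ZV → ∀ (b : V ⟶ Y),
      IsEtaleMor b → ∀ (f₁ : XV ⟶ X) (fV : XV ⟶ V) (i₁ : ZV ⟶ Z) (iV : ZV ⟶ V),
        IsPullback f₁ fV f b → IsPullback i₁ iV i b → IsSchImage fV iV) ∧
    Set.range (Points.map i) ⊆ closure (Set.range (Points.map f)) := by
  refine ⟨?_, range_subset_closure hX hY hZ f hq i hZi⟩
  intro V XV ZV hV hXV hZV b hb f₁ fV i₁ iV sqX sqZ
  exact isSchImage_of_hasFlatCharts hV hY hX hZ hXV hZV b (hasFlatCharts_of_isEtaleMor hV b hb)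
    f hq i hZi f₁ fV sqX i₁ iV sqZ

end Groth.Agent.Helper2.SchImageFlat
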