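import Groth.Prelude.Def_AlgSpSub
import Groth.Agent.Lib.Helper2.AlgSp.SchImageFlat2
import Groth.Agent.Lib.Helper2.AlgSp.ImmTop
import Groth.Agent.Lib.Helper2.AlgSp.SepDescent

/-!
# The scheme theoretic image of a proper space in a separated space is proper (helper2)
-/

set_option autoImplicit false
set_option backward.isDefEq.respectTransparency false
set_option linter.style.haveILetI false
universe u
open CategoryTheory CategoryTheory.Limits AlgebraicGeometry Opposite AlgSp

namespace Groth.Agent.Helper2.SchImageProper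
open Groth.Agent.Helper2.AlgSpBasic Groth.Agent.Helper2.SchImageFlat
  Groth.Agent.Helper2.AlgStLib Groth.Agent.Helper2.EtaleLocal

variable {S : Scheme.{u}}

/-- S10281. -/
theorem main81 {X Y Z B : Sp S} (hX : IsAlgSpace X) (hY : IsAlgSpace Y) (hZ : IsAlgSpace Z)
    (hB : IsAlgSpace B) (h : X ⟶ Y) (f : X ⟶ B) (g : Y ⟶ B) (comm : h ≫ g = f)
    (hf : IsProperMor f) (hg : IsSeparatedMor g) (hg' : LocP @LocallyOfFiniteType g)
    (i : Z ⟶ Y) (hZi : IsSchImage h i) (h' : X ⟶ Z) (fac : h' ≫ i = h) :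
    IsProperMor (i ≫ g) ∧ IsSurjectiveMor h' := by
  have hhp : IsProperMor h := cancelSp_isProperMor hX hY hB h g (comm ▸ hf) hg
  obtain ⟨-, ⟨-, hhq⟩, hhu⟩ := hhp
  -- `h` is closed on points
  have hcl : IsClosedMap (Points.map h) := by
    have sqid : IsPullback (𝟙 X) h h (𝟙 Y) := IsPullback.of_horiz_isIso ⟨by simp⟩
    exact hhu hY (𝟙 Y) (𝟙 X) h sqid
  have hsub : Set.range (Points.map i) ⊆ Set.range (Points.map h) := by
    have h1 := range_subset_closure hX hY hZ h hhq i hZi
    rwa [(hcl.isClosed_range).closure_eq] at h1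
  have hci : RepWith @IsImmersion i :=
    repWith_mono (fun _ _ g (hg : IsClosedImmersion g) => (inferInstance : IsImmersion g)) hZi.1
  have hinj := (Groth.Agent.Helper2.ImmTop.main hY i hci).1.injective
  have hsurj : IsSurjectiveMor h' := by
    intro z
    obtain ⟨x, hx⟩ := hsub ⟨z, rfl⟩
    refine ⟨x, hinj ?_⟩
    rw [← Points.map_comp, fac]
    exact hx
  refine ⟨?_, hsurj⟩
  have hcomp : h' ≫ i ≫ g = f := by rw [← Category.assoc, fac, comm]
  obtain ⟨hfs, ⟨hfl, hfq⟩, hfu⟩ := hf
  have hip := isProperMor_of_repWith_isClosedImmersion hZ hY.diag i hZi.1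
  refine ⟨repWith_diagonal_comp @IsClosedImmersion i g hip.1 hg,
    ⟨locP_comp _ hZ hY hB i g hip.2.1.1 hg', ?_⟩, ?_⟩
  · exact isQuasiCompactMor_of_surjective_triangle hX hZ hB.diag h' (i ≫ g) hsurj
      (hcomp ▸ hfq)
  · exact isUnivClosedMor_of_surjective_triangle h' (i ≫ g) (hcomp ▸ hfu) hsurj

end Groth.Agent.Helper2.SchImageProper
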