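import Groth.Prelude.Def_AlgSpSub
import Groth.Agent.Lib.Helper2.AlgSp.SchImageProper
import Groth.Agent.Lib.Helper2.AlgSp.SchImage

/-!
# Closed subspaces proper over a base (helper2)
-/

set_option autoImplicit false
set_option backward.isDefEq.respectTransparency false
set_option linter.style.haveILetI false
universe u
open CategoryTheory CategoryTheory.Limits AlgebraicGeometry Opposite AlgSp

namespace Groth.Agent.Helper2.ProperOver
open Groth.Agent.Helper2.AlgSpBasic Groth.Agent.Helper2.SchImageFlat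
  Groth.Agent.Helper2.AlgStLib Groth.Agent.Helper2.EtaleLocal

variable {S : Scheme.{u}}

/-- The points of a fibre product surject onto the fibre product of points: the image of the
second projection is the preimage of the image of the other map. -/
theorem range_snd_eq_preimage {X Y Z P : Sp S} (f : X ⟶ Y) (g : Z ⟶ Y)
    (fst : P ⟶ X) (snd : P ⟶ Z) (sq : IsPullback fst snd f g) :
    Set.range (Points.map snd) = Points.map g ⁻¹' Set.range (Points.map f) := by
  ext z
  constructor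
  · rintro ⟨p, rfl⟩
    refine ⟨Points.map fst p, ?_⟩
    rw [← Points.map_comp, ← Points.map_comp, sq.w]
  · rintro ⟨x, hx⟩
    obtain ⟨p, hp1, -⟩ := points_exists_of_isPullback f g snd fst sq.flip z x hx.symm
    exact ⟨p, hp1⟩

/-- S10761. -/
theorem main61 {X Y X' Y' Z Z' : Sp S} (hY : IsAlgSpace Y) (hY' : IsAlgSpace Y')
    (hZ : IsAlgSpace Z) (hZ' : IsAlgSpace Z')
    (f : X ⟶ Y) (g : Y' ⟶ Y) (f' : X' ⟶ Y') (g' : X' ⟶ X)
    (hsq : IsPullback g' f' f g) (i : Z ⟶ X) (hp : IsProperMor (i ≫ f))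
    (i' : Z' ⟶ X') (q : Z' ⟶ Z) (hsq' : IsPullback q i' i g') :
    IsProperMor (i' ≫ f') ∧
      Set.range (Points.map i') = Points.map g' ⁻¹' Set.range (Points.map i) := by
  refine ⟨?_, range_snd_eq_preimage i g' q i' hsq'⟩
  have sq : IsPullback q (i' ≫ f') (i ≫ f) g := hsq'.paste_vert hsq
  exact stableBC_isProperMor hZ hY hZ' hY' (i ≫ f) g (i' ≫ f') q sq hp

/-- S10764. -/
theorem main64' {X Y B Z Z' : Sp S} (hX : IsAlgSpace X) (hY : IsAlgSpace Y) (hB : IsAlgSpace B)
    (hZ : IsAlgSpace Z) (hZ' : IsAlgSpace Z')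
    (a : X ⟶ B) (b : Y ⟶ B) (f : X ⟶ Y) (hcomm : f ≫ b = a) (hfp : IsProperMor f)
    (i : Z ⟶ Y) (hp : IsProperMor (i ≫ b))
    (i' : Z' ⟶ X) (q : Z' ⟶ Z) (hsq : IsPullback q i' i f) :
    IsProperMor (i' ≫ a) ∧
      Set.range (Points.map i') = Points.map f ⁻¹' Set.range (Points.map i) := by
  refine ⟨?_, range_snd_eq_preimage i f q i' hsq⟩
  have hq : IsProperMor q := stableBC_isProperMor hX hY hZ' hZ f i q i' hsq.flip hfp
  have h1 : IsProperMor (q ≫ i ≫ b) := stableComp_isProperMor hZ' hZ hB q (i ≫ b) hq hp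
  have h2 : q ≫ i ≫ b = i' ≫ a := by
    rw [← hcomm, ← Category.assoc, hsq.w, Category.assoc]
  rwa [h2] at h1

/-- The image of a universally closed quasi-compact morphism, as a closed subspace: the scheme
theoretic image has the set theoretic image as its set of points. -/
theorem schImage_of_isUnivClosedMor {Z Y Z' : Sp S} (hZ : IsAlgSpace Z) (hY : IsAlgSpace Y)
    (hZ' : IsAlgSpace Z') (h : Z ⟶ Y) (hu : IsUnivClosedMor h) (i' : Z' ⟶ Y)
    (hZi : IsSchImage h i') (h' : Z ⟶ Z') (fac : h' ≫ i' = h) :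
    IsSurjectiveMor h' ∧ Set.range (Points.map i') = Set.range (Points.map h) := by
  have hq : IsQuasiCompactMor h := isQuasiCompactMor_of_isUnivClosedMor hZ hY h hu
  have hcl : IsClosedMap (Points.map h) := isClosedMap_of_isUnivClosedMor hY h hu
  have hsub : Set.range (Points.map i') ⊆ Set.range (Points.map h) := by
    have h1 := range_subset_closure hZ hY hZ' h hq i' hZi
    rwa [(hcl.isClosed_range).closure_eq] at h1
  have hci : RepWith @IsImmersion i' :=
    repWith_mono (fun _ _ g (hg : IsClosedImmersion g) => (inferInstance : IsImmersion g)) hZi.1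
  have hinj := (Groth.Agent.Helper2.ImmTop.main hY i' hci).1.injective
  have hsurj : IsSurjectiveMor h' := by
    intro z
    obtain ⟨x, hx⟩ := hsub ⟨z, rfl⟩
    refine ⟨x, hinj ?_⟩
    rw [← Points.map_comp, fac]
    exact hx
  refine ⟨hsurj, subset_antisymm hsub ?_⟩
  rintro _ ⟨z, rfl⟩
  refine ⟨Points.map h' z, ?_⟩
  rw [← Points.map_comp, fac]

theorem range_comp_eq_image {Z X Y : Sp S} (i : Z ⟶ X) (f : X ⟶ Y) :
    Set.range (Points.map (i ≫ f)) = Points.map f '' Set.range (Points.map i) := by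
  ext y
  constructor
  · rintro ⟨z, rfl⟩
    exact ⟨Points.map i z, ⟨z, rfl⟩, (Points.map_comp _ _ _).symm⟩
  · rintro ⟨_, ⟨z, rfl⟩, rfl⟩
    exact ⟨z, Points.map_comp _ _ _⟩

/-- S10762. -/
theorem main62 {X Y B Z : Sp S} (hY : IsAlgSpace Y) (hB : IsAlgSpace B)
    (hZ : IsAlgSpace Z) (a : X ⟶ B) (b : Y ⟶ B) (f : X ⟶ Y) (hcomm : f ≫ b = a)
    (hb : LocP @LocallyOfFiniteType b) (hbs : IsSeparatedMor b)
    (i : Z ⟶ X) (hZp : IsProperMor (i ≫ a)) :
    IsClosed (Points.map f '' Set.range (Points.map i)) ∧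
      ∃ (Z' : Sp S) (_ : IsAlgSpace Z') (i' : Z' ⟶ Y), RepWith @IsClosedImmersion i' ∧
        Set.range (Points.map i') = Points.map f '' Set.range (Points.map i) ∧
        IsProperMor (i' ≫ b) := by
  obtain ⟨Z', hZ', i', hZi⟩ := Groth.Agent.Helper2.SchImage.main64 hZ hY (i ≫ f)
  obtain ⟨h', fac⟩ := hZi.2.1
  have comm : (i ≫ f) ≫ b = i ≫ a := by rw [Category.assoc, hcomm]
  obtain ⟨hprop, hsurj⟩ := Groth.Agent.Helper2.SchImageProper.main81 hZ hY hZ' hB (i ≫ f)
    (i ≫ a) b comm hZp hbs hb i' hZi h' fac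
  have hr : Set.range (Points.map i') = Points.map f '' Set.range (Points.map i) := by
    rw [← range_comp_eq_image, ← fac]
    ext y
    constructor
    · rintro ⟨z', rfl⟩
      obtain ⟨z, rfl⟩ := hsurj z'
      exact ⟨z, Points.map_comp _ _ _⟩
    · rintro ⟨z, rfl⟩
      exact ⟨Points.map h' z, (Points.map_comp _ _ _).symm⟩
  have hci : RepWith @IsImmersion i' :=
    repWith_mono (fun _ _ g (hg : IsClosedImmersion g) => (inferInstance : IsImmersion g)) hZi.1
  refine ⟨?_, Z', hZ', i', hZi.1, hr, hprop⟩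
  rw [← hr]
  exact (repWith_isClosedImmersion_iff_isClosed_range hY i' hci).mp hZi.1

/-- S10763. -/
theorem main63 {X Y B Z : Sp S} (hX : IsAlgSpace X) (hY : IsAlgSpace Y) (hB : IsAlgSpace B)
    (hZ : IsAlgSpace Z) (a : X ⟶ B) (b : Y ⟶ B) (f : X ⟶ Y) (hcomm : f ≫ b = a)
    (hb : LocP @LocallyOfFiniteType b) (hfc : IsUnivClosedMor f)
    (i : Z ⟶ X) (hi : RepWith @IsClosedImmersion i) (hZp : IsProperMor (i ≫ a)) :
    IsClosed (Points.map f '' Set.range (Points.map i)) ∧
      ∃ (Z' : Sp S) (_ : IsAlgSpace Z') (i' : Z' ⟶ Y), RepWith @IsClosedImmersion i' ∧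
        Set.range (Points.map i') = Points.map f '' Set.range (Points.map i) ∧
        IsProperMor (i' ≫ b) := by
  have hu : IsUnivClosedMor (i ≫ f) :=
    isUnivClosedMor_comp hX hY i f (isUnivClosedMor_of_repWith_isClosedImmersion i hi) hfc
  obtain ⟨Z', hZ', i', hZi⟩ := Groth.Agent.Helper2.SchImage.main64 hZ hY (i ≫ f)
  obtain ⟨h', fac⟩ := hZi.2.1
  obtain ⟨hsurj, hr0⟩ := schImage_of_isUnivClosedMor hZ hY hZ' (i ≫ f) hu i' hZi h' fac
  have hr : Set.range (Points.map i') = Points.map f '' Set.range (Points.map i) := by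
    rw [hr0, range_comp_eq_image]
  have hci : RepWith @IsImmersion i' :=
    repWith_mono (fun _ _ g (hg : IsClosedImmersion g) => (inferInstance : IsImmersion g)) hZi.1
  haveI : Mono i' := mono_of_repWith_monomorphisms i'
    (repWith_mono (fun _ _ g (hg : IsClosedImmersion g) => (inferInstance : Mono g)) hZi.1)
  have hcl : IsClosed (Points.map f '' Set.range (Points.map i)) := by
    rw [← hr]
    exact (repWith_isClosedImmersion_iff_isClosed_range hY i' hci).mp hZi.1
  refine ⟨hcl, Z', hZ', i', hZi.1, hr, ?_⟩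
  have comm : h' ≫ i' ≫ b = i ≫ a := by
    rw [← Category.assoc, fac, Category.assoc, hcomm]
  have hh'u : IsUnivClosedMor h' :=
    isUnivClosedMor_of_comp_of_isSeparatedMor hZ hZ' hY h' i' (fac ▸ hu) (isSeparatedMor_of_mono i')
  obtain ⟨hps, ⟨hpl, hpq⟩, hpu⟩ := hZp
  have hip := isProperMor_of_repWith_isClosedImmersion hZ' hY.diag i' hZi.1
  refine ⟨(separation_of_surjective_univClosed hZ hZ' hB h' (i ≫ a) (i' ≫ b) comm hsurj hh'u).2 hps,
    ⟨locP_comp _ hZ' hY hB i' b hip.2.1.1 hb, ?_⟩, ?_⟩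
  · exact isQuasiCompactMor_of_surjective_triangle hZ hZ' hB.diag h' (i' ≫ b) hsurj
      (comm ▸ hpq)
  · exact isUnivClosedMor_of_surjective_triangle h' (i' ≫ b) (comm ▸ hpu) hsurj

/-- Properness descends along a surjective universally closed morphism, for a target which is
locally of finite type. -/
theorem isProperMor_of_surjective_univClosed {W Z Y : Sp S} (hW : IsAlgSpace W)
    (hZ : IsAlgSpace Z) (hY : IsAlgSpace Y) (j : W ⟶ Z) (q : Z ⟶ Y)
    (hs : IsSurjectiveMor j) (hc : IsUnivClosedMor j) (hq : LocP @LocallyOfFiniteType q)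
    (hp : IsProperMor (j ≫ q)) : IsProperMor q := by
  obtain ⟨hps, ⟨-, hpq⟩, hpu⟩ := hp
  exact ⟨(separation_of_surjective_univClosed hW hZ hY j (j ≫ q) q rfl hs hc).2 hps,
    ⟨hq, isQuasiCompactMor_of_surjective_triangle hW hZ hY.diag j q hs hpq⟩,
    isUnivClosedMor_of_surjective_triangle j q hpu hs⟩

/-- S10760. -/
theorem main60 {X Y Z Z' : Sp S} (hX : IsAlgSpace X) (hY : IsAlgSpace Y) (hZ : IsAlgSpace Z)
    (hZ' : IsAlgSpace Z') (f : X ⟶ Y) (hf : LocP @LocallyOfFiniteType f)
    (i : Z ⟶ X) (i' : Z' ⟶ X)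
    (hi : RepWith @IsClosedImmersion i) (hi' : RepWith @IsClosedImmersion i')
    (heq : Set.range (Points.map i) = Set.range (Points.map i'))
    (hp : IsProperMor (i ≫ f)) : IsProperMor (i' ≫ f) := by
  have sq := IsPullback.of_hasPullback i i'
  have hW : IsAlgSpace (pullback i i') := isAlgSpace_of_isPullback hX.diag hZ hZ' i i' _ _ sq
  have h1 : RepWith @IsClosedImmersion (pullback.fst i i') :=
    repWith_of_isPullback @IsClosedImmersion sq.flip hi'
  have h2 : RepWith @IsClosedImmersion (pullback.snd i i') :=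
    repWith_of_isPullback @IsClosedImmersion sq hi
  have hs : IsSurjectiveMor (pullback.snd i i') := by
    intro z'
    obtain ⟨z, hz⟩ : Points.map i' z' ∈ Set.range (Points.map i) := heq ▸ ⟨z', rfl⟩
    obtain ⟨p, hp1, -⟩ := points_exists_of_isPullback i i' (pullback.snd i i') (pullback.fst i i')
      sq.flip z' z hz.symm
    exact ⟨p, hp1⟩
  have hip' := isProperMor_of_repWith_isClosedImmersion hZ' hX.diag i' hi'
  have hfst : IsProperMor (pullback.fst i i') :=
    isProperMor_of_repWith_isClosedImmersion hW hZ.diag _ h1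
  have hWY : IsProperMor (pullback.fst i i' ≫ i ≫ f) :=
    stableComp_isProperMor hW hZ hY _ _ hfst hp
  have e : pullback.fst i i' ≫ i ≫ f = pullback.snd i i' ≫ i' ≫ f := by
    rw [← Category.assoc, pullback.condition, Category.assoc]
  rw [e] at hWY
  exact isProperMor_of_surjective_univClosed hW hZ' hY (pullback.snd i i') (i' ≫ f) hs
    (isUnivClosedMor_of_repWith_isClosedImmersion _ h2)
    (locP_comp _ hZ' hX hY i' f hip'.2.1.1 hf) hWY

end Groth.Agent.Helper2.ProperOver
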