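import Mathlib
import Groth.Prelude.Def_AlgSp4
import Groth.Prelude.Def_AlgSp3
import Groth.Prelude.Def_AlgSpDec
import Groth.Agent.Lib.Helper2.AlgSp.QcPointB
import Groth.Agent.Lib.Helper2.AlgSp.FieldQuot

/-!
# Quasi-separated morphisms are decent, second import world (helper2)
-/

set_option autoImplicit false
set_option backward.isDefEq.respectTransparency false

open CategoryTheory CategoryTheory.Limits AlgebraicGeometry Opposite AlgSp

namespace Groth.Agent.Helper2.QsDecentB2
universe u
variable {S : Scheme.{u}}

/-- Every field-valued point of an algebraic space which is quasi-separated over a scheme is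
quasi-compact. -/
theorem repWith_quasiCompact_of_isQuasiSeparatedMor {F : Sp S} (hF : IsAlgSpace F) {T : Over S}
    (i : F ⟶ (yon S).obj T) (hi : IsQuasiSeparatedMor i) {L : Type u} [Field L]
    (strL : Spec (CommRingCat.of L) ⟶ S) (b : (yon S).obj (Over.mk strL) ⟶ F) :
    RepWith @QuasiCompact b := by
  refine MorphismProperty.relative.of_exists fun V v => ?_
  obtain ⟨W, fst, snd, sq⟩ := AlgSpBasic.exists_isPullback_yon hF.diag b v
  refine ⟨W, (yon S).map fst, snd, sq, ?_⟩
  -- the comparison map to the fibre product over `T`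
  have h1 : RepWith @QuasiCompact (pullback.map b v (b ≫ i) (v ≫ i) (𝟙 _) (𝟙 _) i
      (Category.id_comp _).symm (Category.id_comp _).symm) :=
    AlgSpBasic.repWith_of_isPullback @QuasiCompact (pullback_map_diagonal_isPullback b v i) hi
  -- the projection of the fibre product over `T`
  obtain ⟨c, hc⟩ := (yon S).map_surjective (b ≫ i)
  have h2 : RepWith @QuasiCompact (b ≫ i) := by
    rw [← hc, repWith_yon_map_iff]
    exact FieldQuot.quasiCompact_of_field (L := L) c.left
  have h3 : RepWith @QuasiCompact (pullback.snd (b ≫ i) (v ≫ i)) :=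
    AlgSpBasic.repWith_of_isPullback @QuasiCompact
      (IsPullback.of_hasPullback (b ≫ i) (v ≫ i)) h2
  have h4 : RepWith @QuasiCompact (pullback.snd b v) := by
    have : pullback.snd b v = pullback.map b v (b ≫ i) (v ≫ i) (𝟙 _) (𝟙 _) i
        (Category.id_comp _).symm (Category.id_comp _).symm ≫ pullback.snd (b ≫ i) (v ≫ i) := by
      simp
    rw [this]
    exact AlgSpBasic.repWith_comp @QuasiCompact h1 h3
  -- transport to the chosen representing scheme
  let e : (yon S).obj W ≅ pullback b v := sq.isoPullback
  have he : e.hom ≫ pullback.snd b v = (yon S).map snd := sq.isoPullback_hom_snd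
  have h5 : RepWith @QuasiCompact ((yon S).map snd) := by
    rw [← he]
    exact MorphismProperty.RespectsIso.precomp _ e.hom _ h4
  exact (repWith_yon_map_iff @QuasiCompact snd).1 h5

/-- An algebraic space which is quasi-separated over a scheme is decent. -/
theorem isDecent_of_isQuasiSeparatedMor {F : Sp S} (hF : IsAlgSpace F) {T : Over S}
    (i : F ⟶ (yon S).obj T) (hi : IsQuasiSeparatedMor i) : IsDecent F := by
  intro x
  induction x using Points.ind with | h q => ?_
  have hq : RepWith @QuasiCompact q.toHom := by
    have := repWith_quasiCompact_of_isQuasiSeparatedMor hF i hi q.str q.toHom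
    exact this
  exact QcPointB.exists_qc_mono_of_qc hF q hq

/-- Quasi-separated morphisms are decent. -/
theorem isDecentMor_of_isQuasiSeparatedMor {X Y : Sp S} (hX : IsAlgSpace X) (hY : IsAlgSpace Y)
    (f : X ⟶ Y) (hf : IsQuasiSeparatedMor f) : IsDecentMor f := by
  intro T F' g fst snd sq
  have hF' : IsAlgSpace F' :=
    AlgSpBasic.isAlgSpace_of_isPullback hY.diag hX (IsAlgSpace.yon_obj T) f g fst snd sq
  have hsnd : IsQuasiSeparatedMor snd :=
    MorphismProperty.of_isPullback (P := (RepWith (S := S) @QuasiCompact).diagonal) sq hf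
  exact isDecent_of_isQuasiSeparatedMor hF' snd hsnd

end Groth.Agent.Helper2.QsDecentB2
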