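import Mathlib
import Groth.Agent.Lib.Helper2.AlgSp.AlterationIff3
import Groth.Agent.Lib.Helper2.AlgSp.QsDecentB2
import Groth.Agent.Lib.Helper2.AlgSp.ProperOver
import Groth.Agent.S10381
import Groth.Agent.S10496

/-!
# Existence of alterations inside proper surjective morphisms (S10458) (helper2)
-/

set_option autoImplicit false
set_option backward.isDefEq.respectTransparency false

open CategoryTheory CategoryTheory.Limits AlgebraicGeometry Opposite AlgSp
open Groth.Agent.Helper2.AlgSpBasic

namespace Groth.Agent.Helper2.AlterationIff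
universe u
variable {S : Scheme.{u}}

open Groth.Agent.Helper2.ChartIndep Groth.Agent.Helper2.ChartIndepMor

/-- A point which is closed in its fibre has transcendence degree zero over its image. -/
theorem hasAtMor_resTrdeg_zero_of_closed_in_fibre {Z Y : Sp S} (hZ : IsAlgSpace Z)
    (hY : IsAlgSpace Y) (hdZ : IsDecent Z) (g : Z ⟶ Y) (hft : LocP @LocallyOfFiniteType g)
    (z : Points Z)
    (hcl : ∀ z' : Points Z, Points.map g z' = Points.map g z → z ⤳ z' → z' = z) :
    HasAtMor (fun _ _ h u => Dual3.resTrdeg h u = 0) g z := by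
  obtain ⟨V, b, hbe, hbs⟩ := hY.atlas
  obtain ⟨U, a, h₀, hae, has, c⟩ := exists_chart_lift hZ g b hbe hbs
  haveI : LocallyOfFiniteType h₀.left := hft a b h₀ hae hbe c
  obtain ⟨u, hu⟩ := surjective_ofPt a has z
  have hmap : ∀ t : ↥U.left, Points.ofPt b (h₀.left t) = Points.map g (Points.ofPt a t) :=
    fun t => DimIneqSp.ofPt_map_eq g a b h₀ c t
  refine ⟨U, V, a, b, h₀, u, hae, hbe, c, hu, ?_⟩
  by_contra hne
  obtain ⟨w, hw1, hw2, hw3⟩ :=
    Groth.Agent.Helper2.FibDim.exists_specialization_of_tr_ne_zero h₀.left u hne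
  have h3 : Points.ofPt a w = z := by
    apply hcl
    · rw [← hmap, hw1, hmap, hu]
    · rw [← hu]
      exact hw2.map (Points.continuous_ofPt a)
  exact hw3 (GenericSpB.eq_of_specializes_of_isDecent hZ hdZ a hae w u (h3.trans hu.symm) hw2)

/-- The fibres of a quasi-compact morphism are quasi-compact subsets. -/
theorem isCompact_fibre_of_isQuasiCompactMor {X Y : Sp S} (hX : IsAlgSpace X) (hY : IsAlgSpace Y)
    (f : X ⟶ Y) (hqc : IsQuasiCompactMor f) (y : Points Y) :
    IsCompact (Points.map f ⁻¹' {y}) := by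
  induction y using Points.ind with | h q => ?_
  have sq : IsPullback (pullback.fst f q.toHom) (pullback.snd f q.toHom) f q.toHom :=
    IsPullback.of_hasPullback _ _
  have hP : IsAlgSpace (pullback f q.toHom) :=
    isAlgSpace_of_isPullback hY.diag hX (IsAlgSpace.yon_obj _) f q.toHom _ _ sq
  have hqK : IsQuasiCompactSp ((yon S).obj q.pt) := by
    rw [isQuasiCompactSp_iff_compactSpace_points (IsAlgSpace.yon_obj _)]
    haveI : CompactSpace ↥q.pt.left :=
      inferInstanceAs (CompactSpace ↥(Spec (CommRingCat.of q.K)))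
    exact (Points.schemeHomeo q.pt).compactSpace
  have hPqc : IsQuasiCompactSp (pullback f q.toHom) :=
    hqc (IsAlgSpace.yon_obj _) hqK q.toHom _ _ sq
  haveI : CompactSpace (Points (pullback f q.toHom)) :=
    (isQuasiCompactSp_iff_compactSpace_points hP).mp hPqc
  have himg : Points.map (pullback.fst f q.toHom) '' Set.univ = Points.map f ⁻¹' {Points.mk q} := by
    ext x
    constructor
    · rintro ⟨p, -, rfl⟩
      show Points.map f (Points.map (pullback.fst f q.toHom) p) = Points.mk q
      rw [← Points.map_comp, sq.w, Points.map_comp]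
      obtain ⟨t, ht⟩ := (Points.schemeHomeo q.pt).surjective
        (Points.map (pullback.snd f q.toHom) p)
      have : Points.map q.toHom (Points.schemeHomeo q.pt t) = Points.ofPt q.toHom t := by
        rw [Points.ofPt_eq_map_ofScheme]; rfl
      rw [← ht, this, Points.ofPt_toHom]
    · intro hx
      have e : Points.map q.toHom (Points.ofScheme q.pt (IsLocalRing.closedPoint q.K)) =
          Points.map f x := by
        rw [← Points.ofPt_eq_map_ofScheme, Points.ofPt_toHom]
        exact hx.symm
      obtain ⟨p, -, hp⟩ := points_exists_of_isPullback f q.toHom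
        (pullback.snd f q.toHom) (pullback.fst f q.toHom) sq.flip _ x e
      exact ⟨p, Set.mem_univ _, hp⟩
  rw [← himg]
  exact isCompact_univ.image (Points.continuous_map _)

open Groth.Agent.Helper2.AlgStLib in
/-- S10458. -/
theorem main458 {X Y : Space S} (f : X ⟶ Y)
    (hf : IsProperMor f.hom) (hs : IsSurjectiveMor f.hom) (hY : IsIntegralSp Y.obj) :
    ∃ (X' : Space S) (i : X' ⟶ X), RepWith @IsClosedImmersion i.hom ∧ IsIntegralSp X'.obj ∧
      IsProperMor (i ≫ f).hom ∧ IsDominantMor (i ≫ f).hom ∧
      ∃ (V : Space S) (j : V ⟶ Y), RepWith @IsOpenImmersion j.hom ∧ Nonempty (Points V.obj) ∧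
        ∀ (P : Space S) (fst : P ⟶ V) (snd : P ⟶ X'), IsPullback fst.hom snd.hom j.hom (i ≫ f).hom →
          IsFiniteMor fst.hom := by
  haveI := hY.2.2
  -- the generic point of `Y`
  haveI : QuasiSober (Points Y.obj) := DecentOpen.quasiSober_of_decent Y hY.2.1
  obtain ⟨y, hy⟩ : ∃ y : Points Y.obj, IsGenericPoint y (Set.univ : Set (Points Y.obj)) :=
    QuasiSober.sober (IrreducibleSpace.isIrreducible_univ _) isClosed_univ
  -- `X` is decent
  have hqs : IsQuasiSeparatedMor f.hom :=
    repWith_mono (fun _ _ g (hg : IsClosedImmersion g) => (inferInstance : QuasiCompact g)) hf.1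
  have hXd : IsDecent X.obj := Groth.Agent.S10381.result f
    (QsDecentB2.isDecentMor_of_isQuasiSeparatedMor X.property Y.property f.hom hqs) hY.2.1
  haveI : T0Space (Points X.obj) := FibreSpecB.t0Space_of_isDecent X.property hXd
  -- a closed point of the generic fibre
  have hFc : IsCompact (Points.map f.hom ⁻¹' {y}) :=
    isCompact_fibre_of_isQuasiCompactMor X.property Y.property f.hom hf.2.1.2 y
  haveI : CompactSpace ↥(Points.map f.hom ⁻¹' {y}) := isCompact_iff_compactSpace.mp hFc
  obtain ⟨x₁, hx₁⟩ := hs y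
  obtain ⟨x, -, hxcl⟩ := IsClosed.exists_closed_singleton
    (S := (Set.univ : Set ↥(Points.map f.hom ⁻¹' {y}))) isClosed_univ ⟨⟨x₁, hx₁⟩, Set.mem_univ _⟩
  have hxy : Points.map f.hom x.1 = y := x.2
  have hxF : ∀ z' : Points X.obj, Points.map f.hom z' = y → x.1 ⤳ z' → z' = x.1 := by
    intro z' hz' hsp
    have h1 : x ⤳ (⟨z', hz'⟩ : ↥(Points.map f.hom ⁻¹' {y})) :=
      Topology.IsInducing.subtypeVal.specializes_iff.mp hsp
    have h2 : (⟨z', hz'⟩ : ↥(Points.map f.hom ⁻¹' {y})) ∈ closure {x} :=
      specializes_iff_mem_closure.mp h1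
    rw [hxcl.closure_eq] at h2
    exact congrArg Subtype.val h2
  -- the integral closed subspace
  obtain ⟨X', i, hi, hX'i, hrange⟩ := Groth.Agent.S10496.result X hXd (closure {x.1})
    isClosed_closure (isIrreducible_singleton.closure)
  haveI := hX'i.2.2
  haveI : QuasiSober (Points X'.obj) := DecentOpen.quasiSober_of_decent X' hX'i.2.1
  obtain ⟨ξ, hξ⟩ : ∃ ξ : Points X'.obj, IsGenericPoint ξ (Set.univ : Set (Points X'.obj)) :=
    QuasiSober.sober (IrreducibleSpace.isIrreducible_univ _) isClosed_univ
  have hemb := DecentOpen.isClosedEmbedding_points_of_closedImmersion X.property i.hom hi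
  have hiξ : Points.map i.hom ξ = x.1 := by
    have h1 : IsGenericPoint (Points.map i.hom ξ) (closure (Points.map i.hom '' Set.univ)) :=
      hξ.image (Points.continuous_map i.hom)
    rw [Set.image_univ, hrange, closure_closure] at h1
    exact h1.eq (isGenericPoint_closure)
  have hip : IsProperMor i.hom :=
    isProperMor_of_repWith_isClosedImmersion X'.property X.property.diag i.hom hi
  have hcomp : IsProperMor (i ≫ f).hom :=
    stableComp_isProperMor X'.property X.property Y.property i.hom f.hom hip hf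
  have hmapξ : Points.map (i ≫ f).hom ξ = y := by
    show Points.map (i.hom ≫ f.hom) ξ = y
    rw [Points.map_comp, hiξ, hxy]
  have hdom : IsDominantMor (i ≫ f).hom := by
    show DenseRange (Points.map (i ≫ f).hom)
    rw [DenseRange, dense_iff_closure_eq, ← Set.univ_subset_iff, ← hy.def]
    exact closure_mono (Set.singleton_subset_iff.mpr ⟨ξ, hmapξ⟩)
  have hft' : LocP @LocallyOfFiniteType (i ≫ f).hom := hcomp.2.1.1
  have htr : HasAtMor (fun _ _ h u => Dual3.resTrdeg h u = 0) (i ≫ f).hom ξ := by
    refine hasAtMor_resTrdeg_zero_of_closed_in_fibre X'.property Y.property hX'i.2.1 _ hft' ξ ?_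
    intro z' hz' hsp
    apply hemb.injective
    rw [hiξ]
    apply hxF
    · have : Points.map (i ≫ f).hom z' = Points.map f.hom (Points.map i.hom z') := by
        show Points.map (i.hom ≫ f.hom) z' = _
        rw [Points.map_comp]
      rw [← this, hz', hmapξ]
    · rw [← hiξ]
      exact hsp.map (Points.continuous_map i.hom)
  have huniq := (GenericSpB.generic_tfae X'.property Y.property hX'i.2.1 hY.2.1 (i ≫ f).hom hft'
    hdom ξ hξ y hy).1.mp htr
  exact ⟨X', i, hi, hX'i, hcomp, hdom, (main500 hX'i hY (i ≫ f) hcomp hdom ξ hξ y hy).mpr huniq⟩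

end Groth.Agent.Helper2.AlterationIff
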