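import Mathlib
import Groth.Prelude.Def_AlgSpOX3
import Groth.Agent.Lib.Helper2.AlgSp.Basic

/-!
# Etale neighbourhoods of a geometric point of an algebraic space (helper2)
-/

set_option autoImplicit false
set_option backward.isDefEq.respectTransparency false

open CategoryTheory CategoryTheory.Limits AlgebraicGeometry Opposite AlgSp

namespace Groth.Agent.Helper2.EtNbhd
universe u

variable {S : Scheme.{u}} {X : Sp S} (p : FieldPt X)

/-- A section of an etale morphism to the spectrum of a separably closed field, through a given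
point. -/
theorem exists_section (hp : p.IsGeometric) {T : Over S} (π : T ⟶ p.pt) (hπ : Etale π.left)
    (t : ↥T.left) : ∃ s : p.pt ⟶ T, s ≫ π = 𝟙 _ := by
  haveI : IsAlgClosed p.K := hp
  obtain ⟨l, hl, -⟩ := Scheme.exists_fac_of_etale_of_isSepClosed π.left (Ω := p.K)
    (𝟙 (Spec (CommRingCat.of p.K))) t
    (Subsingleton.elim (α := ↥(Spec (CommRingCat.of p.K))) _ _)
  have hw : l ≫ T.hom = p.str := by
    have h1 : π.left ≫ p.str = T.hom := Over.w π
    rw [← h1, ← Category.assoc, hl]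
    exact Category.id_comp _
  exact ⟨Over.homMk l hw, Over.OverMorphism.ext hl⟩

/-- Etale neighbourhoods exist. -/
theorem nonempty (hX : IsAlgSpace X) (hp : p.IsGeometric) : Nonempty (EtNbhd p) := by
  obtain ⟨U, a, hae, has⟩ := hX.atlas
  have hrep := hae.rep
  have he : Etale (hrep.snd p.toHom).left := hae.property_snd p.toHom
  have hs : Surjective (hrep.snd p.toHom).left := has.property_snd p.toHom
  obtain ⟨t, -⟩ := hs.surj (default : ↥(Spec (CommRingCat.of p.K)))
  obtain ⟨s, hs⟩ := exists_section p hp (hrep.snd p.toHom) he t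
  refine ⟨⟨EtOver.mk a hae, ⟨s ≫ hrep.fst' p.toHom, ?_⟩⟩⟩
  show (yon S).map (s ≫ hrep.fst' p.toHom) ≫ a = p.toHom
  rw [Functor.map_comp, Category.assoc, hrep.map_fst', hrep.w, ← Category.assoc,
    ← Functor.map_comp, hs, CategoryTheory.Functor.map_id, Category.id_comp]

/-- A section of an etale morphism is an open immersion. -/
theorem isOpenImmersion_of_section {U W : Scheme.{u}} (s : U ⟶ W) (q : W ⟶ U) [Etale q]
    (h : s ≫ q = 𝟙 U) : IsOpenImmersion s := by
  have H : MorphismProperty.HasOfPostcompProperty @IsOpenImmersion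
      (@LocallyOfFiniteType ⊓ @FormallyUnramified) := by
    rw [MorphismProperty.hasOfPostcompProperty_iff_le_diagonal]
    intro X Y f ⟨hft, hfu⟩
    exact inferInstanceAs (IsOpenImmersion (pullback.diagonal f))
  exact H.of_postcomp s q ⟨inferInstance, inferInstance⟩ (by rw [h]; infer_instance)

/-- Two sections of an etale morphism agree on an open containing every point where they agree. -/
theorem exists_open_equalizing {U W : Scheme.{u}} (q : W ⟶ U) [Etale q] (s₁ s₂ : U ⟶ W)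
    (h₁ : s₁ ≫ q = 𝟙 U) (h₂ : s₂ ≫ q = 𝟙 U) :
    ∃ E : U.Opens, E.ι ≫ s₁ = E.ι ≫ s₂ ∧ ∀ x : U, s₁ x = s₂ x → x ∈ E := by
  haveI : IsOpenImmersion s₂ := isOpenImmersion_of_section s₂ q h₂
  refine ⟨s₁ ⁻¹ᵁ s₂.opensRange, ?_, ?_⟩
  · have hsub : Set.range (((s₁ ⁻¹ᵁ s₂.opensRange).ι ≫ s₁)) ⊆ Set.range s₂ := by
      rintro _ ⟨x, rfl⟩
      exact x.2
    have hfac := IsOpenImmersion.lift_fac s₂ ((s₁ ⁻¹ᵁ s₂.opensRange).ι ≫ s₁) hsub
    have hl : IsOpenImmersion.lift s₂ ((s₁ ⁻¹ᵁ s₂.opensRange).ι ≫ s₁) hsub =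
        (s₁ ⁻¹ᵁ s₂.opensRange).ι := by
      calc IsOpenImmersion.lift s₂ ((s₁ ⁻¹ᵁ s₂.opensRange).ι ≫ s₁) hsub
          = IsOpenImmersion.lift s₂ ((s₁ ⁻¹ᵁ s₂.opensRange).ι ≫ s₁) hsub ≫ s₂ ≫ q := by
            rw [h₂, Category.comp_id]
        _ = (s₁ ⁻¹ᵁ s₂.opensRange).ι := by
            rw [← Category.assoc, hfac, Category.assoc, h₁, Category.comp_id]
    rw [← hfac, hl]
  · intro x hx
    show s₁ x ∈ Set.range s₂
    exact ⟨x, hx.symm⟩

/-- Any two etale neighbourhoods are dominated by a third. -/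
theorem cone_objs (N₁ N₂ : EtNbhd p) : ∃ (N : EtNbhd p) (_ : N ⟶ N₁) (_ : N ⟶ N₂), True := by
  obtain ⟨U, u, hu⟩ := N₁
  obtain ⟨V, v, hv⟩ := N₂
  have hV := V.property.rep
  have he : Etale (hV.snd U.obj.hom).left := V.property.property_snd U.obj.hom
  let c : (yon S).obj (hV.pullback U.obj.hom) ⟶ X := (yon S).map (hV.snd U.obj.hom) ≫ U.obj.hom
  have hc : RepWith @Etale c :=
    AlgSpBasic.repWith_comp @Etale ((repWith_yon_map_iff @Etale _).2 he) U.property
  let w : p.pt ⟶ hV.pullback U.obj.hom := hV.lift' v u (by rw [hv, hu])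
  have hw1 : w ≫ hV.fst' U.obj.hom = v := hV.lift'_fst _ _ _
  have hw2 : w ≫ hV.snd U.obj.hom = u := hV.lift'_snd _ _ _
  have hwc : (yon S).map w ≫ c = p.toHom := by
    show (yon S).map w ≫ (yon S).map (hV.snd U.obj.hom) ≫ U.obj.hom = p.toHom
    rw [← Category.assoc, ← Functor.map_comp, hw2]
    exact hu
  have hc2 : (yon S).map (hV.fst' U.obj.hom) ≫ V.obj.hom = c := by
    rw [hV.map_fst']
    exact hV.w U.obj.hom
  refine ⟨⟨EtOver.mk c hc, ⟨w, hwc⟩⟩,
    ⟨EtOver.homMk (hV.snd U.obj.hom) rfl, Subtype.ext hw2⟩,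
    ⟨EtOver.homMk (hV.fst' U.obj.hom) hc2, Subtype.ext hw1⟩, trivial⟩

/-- Any two parallel morphisms of etale neighbourhoods are equalised by a further
neighbourhood. -/
theorem cone_maps {N₁ N₂ : EtNbhd p} (f g : N₁ ⟶ N₂) :
    ∃ (N : EtNbhd p) (h : N ⟶ N₁), h ≫ f = h ≫ g := by
  obtain ⟨U, u, hu⟩ := N₁
  obtain ⟨V, v, hv⟩ := N₂
  obtain ⟨f, hf⟩ := f
  obtain ⟨g, hg⟩ := g
  have hf' : u ≫ f.hom.left = v := congrArg Subtype.val hf
  have hg' : u ≫ g.hom.left = v := congrArg Subtype.val hg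
  have hV := V.property.rep
  haveI he : Etale (hV.snd U.obj.hom).left := V.property.property_snd U.obj.hom
  let s₁ : U.obj.left ⟶ hV.pullback U.obj.hom := hV.lift' f.hom.left (𝟙 _) (by
    rw [EtOver.w f, CategoryTheory.Functor.map_id, Category.id_comp])
  let s₂ : U.obj.left ⟶ hV.pullback U.obj.hom := hV.lift' g.hom.left (𝟙 _) (by
    rw [EtOver.w g, CategoryTheory.Functor.map_id, Category.id_comp])
  have h11 : s₁ ≫ hV.snd U.obj.hom = 𝟙 _ := hV.lift'_snd _ _ _
  have h12 : s₁ ≫ hV.fst' U.obj.hom = f.hom.left := hV.lift'_fst _ _ _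
  have h21 : s₂ ≫ hV.snd U.obj.hom = 𝟙 _ := hV.lift'_snd _ _ _
  have h22 : s₂ ≫ hV.fst' U.obj.hom = g.hom.left := hV.lift'_fst _ _ _
  obtain ⟨E, hE, hmem⟩ := exists_open_equalizing (hV.snd U.obj.hom).left s₁.left s₂.left
    (by rw [← Over.comp_left, h11]; rfl) (by rw [← Over.comp_left, h21]; rfl)
  have hus : u ≫ s₁ = u ≫ s₂ := by
    apply hV.hom_ext'
    · rw [Category.assoc, Category.assoc, h12, h22, hf', hg']
    · rw [Category.assoc, Category.assoc, h11, h21]
  have hpt : ∀ y : ↥(Spec (CommRingCat.of p.K)), u.left y ∈ E := by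
    intro y
    apply hmem
    have h1 : (u ≫ s₁).left = (u ≫ s₂).left := congrArg (fun m => Over.Hom.left m) hus
    rw [Over.comp_left, Over.comp_left] at h1
    have h2 := congrArg (fun (m : Spec (CommRingCat.of p.K) ⟶ (hV.pullback U.obj.hom).left) => m y) h1
    simpa using h2
  have hsub : Set.range u.left ⊆ Set.range E.ι := by
    rintro _ ⟨y, rfl⟩
    rw [Scheme.Opens.range_ι]
    exact hpt y
  let uE₀ : Spec (CommRingCat.of p.K) ⟶ (E : Scheme.{u}) := IsOpenImmersion.lift E.ι u.left hsub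
  have huE₀ : uE₀ ≫ E.ι = u.left := IsOpenImmersion.lift_fac _ _ _
  let E' : Over S := Over.mk (E.ι ≫ U.obj.left.hom)
  let ιE : E' ⟶ U.obj.left := Over.homMk E.ι rfl
  let uE : p.pt ⟶ E' := Over.homMk uE₀ (by
    show uE₀ ≫ E.ι ≫ U.obj.left.hom = p.str
    rw [← Category.assoc, huE₀]
    exact Over.w u)
  have huE : uE ≫ ιE = u := Over.OverMorphism.ext huE₀
  let c : (yon S).obj E' ⟶ X := (yon S).map ιE ≫ U.obj.hom
  have hc : RepWith @Etale c :=
    AlgSpBasic.repWith_comp @Etale ((repWith_yon_map_iff @Etale ιE).2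
      (inferInstanceAs (Etale E.ι))) U.property
  have hcu : (yon S).map uE ≫ c = p.toHom := by
    show (yon S).map uE ≫ (yon S).map ιE ≫ U.obj.hom = p.toHom
    rw [← Category.assoc, ← Functor.map_comp, huE]
    exact hu
  refine ⟨⟨EtOver.mk c hc, ⟨uE, hcu⟩⟩, ⟨EtOver.homMk ιE rfl, Subtype.ext huE⟩, ?_⟩
  apply CategoryOfElements.ext
  apply EtOver.hom_ext
  show ιE ≫ f.hom.left = ιE ≫ g.hom.left
  apply Over.OverMorphism.ext
  show E.ι ≫ f.hom.left.left = E.ι ≫ g.hom.left.left
  rw [← h12, ← h22, Over.comp_left, Over.comp_left, ← Category.assoc, ← Category.assoc, hE]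

theorem isCofiltered (hX : IsAlgSpace X) (hp : p.IsGeometric) : IsCofiltered (EtNbhd p) :=
  haveI : IsCofilteredOrEmpty (EtNbhd p) :=
    { cone_objs := cone_objs p
      cone_maps := fun _ _ f g => cone_maps p f g }
  { nonempty := nonempty p hX hp }

theorem spec_inv_hom {T : Scheme.{u}} {A B : T.AffineEtale} (θ : A ≅ B) :
    Scheme.Spec.map θ.inv.left ≫ Scheme.Spec.map θ.hom.left = 𝟙 _ := by
  have h : (θ.inv ≫ θ.hom).left = 𝟙 _ := by
    rw [θ.inv_hom_id]
    rfl
  have h' : θ.inv.left ≫ θ.hom.left = 𝟙 _ := h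
  rw [← Functor.map_comp, h', CategoryTheory.Functor.map_id]

theorem spec_w {T : Scheme.{u}} {A B : T.AffineEtale} (f : A ⟶ B) :
    Scheme.Spec.map f.left ≫ B.hom = A.hom := by
  simpa using f.w

/-- The category of etale neighbourhoods of a geometric point is initially small. -/
theorem initiallySmall (hX : IsAlgSpace X) (hp : p.IsGeometric) :
    InitiallySmall.{u} (EtNbhd p) := by
  haveI := isCofiltered p hX hp
  haveI : IsAlgClosed p.K := hp
  obtain ⟨U₀, a₀, hae, has⟩ := hX.atlas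
  let e : U₀.left.AffineEtale ≌ SmallModel.{u} U₀.left.AffineEtale := equivSmallModel.{u} _
  let ov : U₀.left.AffineEtale → Over S := fun B => Over.mk (B.hom ≫ U₀.hom)
  let toU : ∀ B, ov B ⟶ U₀ := fun B => Over.homMk B.hom rfl
  have hEt : ∀ B, RepWith @Etale ((yon S).map (toU B) ≫ a₀) := fun B =>
    AlgSpBasic.repWith_comp @Etale ((repWith_yon_map_iff @Etale (toU B)).2 B.prop) hae
  let obj : U₀.left.AffineEtale → EtOver X := fun B => EtOver.mk ((yon S).map (toU B) ≫ a₀) (hEt B)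
  let g : (Σ A : SmallModel.{u} U₀.left.AffineEtale,
      (FieldPt.liftsTo p).obj (obj (e.inverse.obj A))) → EtNbhd p :=
    fun x => ⟨obj (e.inverse.obj x.1), x.2⟩
  refine initiallySmall_of_small_weakly_initial_set (Set.range g) ?_
  rintro ⟨V, v, hv⟩
  have hrep := hae.rep
  have he1 : Etale (hrep.snd V.obj.hom).left := hae.property_snd V.obj.hom
  have hs1 : Surjective (hrep.snd V.obj.hom).left := has.property_snd V.obj.hom
  have he2 : Etale (hrep.fst' V.obj.hom).left :=
    V.property.property a₀ ((yon S).map (hrep.snd V.obj.hom)) (hrep.fst' V.obj.hom)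
      (hrep.isPullback' V.obj.hom).flip
  have hsq : (yon S).map (hrep.fst' V.obj.hom) ≫ a₀ =
      (yon S).map (hrep.snd V.obj.hom) ≫ V.obj.hom := (hrep.isPullback' V.obj.hom).w
  obtain ⟨t, ht⟩ := hs1.surj (v.left (default : ↥(Spec (CommRingCat.of p.K))))
  obtain ⟨l₀, hl₀, -⟩ := Scheme.exists_fac_of_etale_of_isSepClosed (hrep.snd V.obj.hom).left
    (Ω := p.K) v.left t ht
  obtain ⟨R, j, hj, hjm, -⟩ := Scheme.exists_affine_mem_range_and_range_subset
    (x := l₀ (default : ↥(Spec (CommRingCat.of p.K)))) (U := ⊤) (by simp)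
  have hsub : Set.range l₀ ⊆ Set.range j := by
    rintro _ ⟨y, rfl⟩
    rwa [Subsingleton.elim y default]
  have hy' := IsOpenImmersion.lift_fac j l₀ hsub
  haveI : Etale (j ≫ (hrep.fst' V.obj.hom).left) := inferInstance
  let B : U₀.left.AffineEtale := Scheme.AffineEtale.mk (j ≫ (hrep.fst' V.obj.hom).left)
  let θ : e.inverse.obj (e.functor.obj B) ≅ B := (e.unitIso.app B).symm
  -- the morphism from the model to the fibre product
  have hθw : Scheme.Spec.map θ.hom.left ≫ j ≫ (hrep.fst' V.obj.hom).left =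
      (e.inverse.obj (e.functor.obj B)).hom := spec_w θ.hom
  have hW : (hrep.fst' V.obj.hom).left ≫ U₀.hom = (hrep.pullback V.obj.hom).hom :=
    Over.w (hrep.fst' V.obj.hom)
  have hW' : (hrep.snd V.obj.hom).left ≫ V.obj.left.hom = (hrep.pullback V.obj.hom).hom :=
    Over.w (hrep.snd V.obj.hom)
  let m' : ov (e.inverse.obj (e.functor.obj B)) ⟶ hrep.pullback V.obj.hom :=
    Over.homMk (Scheme.Spec.map θ.hom.left ≫ j) (by
      show (Scheme.Spec.map θ.hom.left ≫ j) ≫ (hrep.pullback V.obj.hom).hom =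
        (e.inverse.obj (e.functor.obj B)).hom ≫ U₀.hom
      rw [← hW, ← hθw]
      simp only [Category.assoc])
  have hm'2 : m' ≫ hrep.fst' V.obj.hom = toU (e.inverse.obj (e.functor.obj B)) := by
    apply Over.OverMorphism.ext
    show (Scheme.Spec.map θ.hom.left ≫ j) ≫ (hrep.fst' V.obj.hom).left = _
    rw [Category.assoc]
    exact hθw
  let l' : p.pt ⟶ ov (e.inverse.obj (e.functor.obj B)) :=
    Over.homMk (IsOpenImmersion.lift j l₀ hsub ≫ Scheme.Spec.map θ.inv.left) (by
      show (IsOpenImmersion.lift j l₀ hsub ≫ Scheme.Spec.map θ.inv.left) ≫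
        (e.inverse.obj (e.functor.obj B)).hom ≫ U₀.hom = p.str
      have h1 : Scheme.Spec.map θ.inv.left ≫ (e.inverse.obj (e.functor.obj B)).hom =
          j ≫ (hrep.fst' V.obj.hom).left := spec_w θ.inv
      have h2 : v.left ≫ V.obj.left.hom = p.str := Over.w v
      rw [Category.assoc, ← Category.assoc (Scheme.Spec.map θ.inv.left), h1, Category.assoc, hW,
        ← hW', ← Category.assoc, ← Category.assoc, hy', hl₀, h2])
  have hl'm' : (l' ≫ m').left = l₀ := by
    show (IsOpenImmersion.lift j l₀ hsub ≫ Scheme.Spec.map θ.inv.left) ≫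
      (Scheme.Spec.map θ.hom.left ≫ j) = l₀
    rw [Category.assoc, ← Category.assoc (Scheme.Spec.map θ.inv.left), spec_inv_hom,
      Category.id_comp, hy']
  have hl'v : l' ≫ m' ≫ hrep.snd V.obj.hom = v := by
    apply Over.OverMorphism.ext
    rw [← Category.assoc, Over.comp_left, hl'm', hl₀]
  have hlift : (yon S).map l' ≫ ((yon S).map (toU (e.inverse.obj (e.functor.obj B))) ≫ a₀) =
      p.toHom := by
    rw [← hm'2, Functor.map_comp, Category.assoc, hsq, ← Category.assoc, ← Category.assoc,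
      ← Functor.map_comp, ← Functor.map_comp, Category.assoc, hl'v]
    exact hv
  refine ⟨g ⟨e.functor.obj B, ⟨l', hlift⟩⟩, ⟨_, rfl⟩, ⟨⟨EtOver.homMk (m' ≫ hrep.snd V.obj.hom) ?_,
    Subtype.ext hl'v⟩⟩⟩
  show (yon S).map (m' ≫ hrep.snd V.obj.hom) ≫ V.obj.hom =
    (yon S).map (toU (e.inverse.obj (e.functor.obj B))) ≫ a₀
  rw [← hm'2, Functor.map_comp, Functor.map_comp, Category.assoc, Category.assoc, hsq]

/-- A geometric point lifts along some member of an etale covering family. -/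
theorem exists_lift_of_ofArrows (hp : p.IsGeometric) {E : EtOver X} {ι : Type*}
    (Ui : ι → EtOver X) (g : ∀ i, Ui i ⟶ E) (hcov : Presieve.ofArrows Ui g ∈ etPre X E)
    (x : (FieldPt.liftsTo p).obj E) :
    ∃ (i : ι) (ui : (FieldPt.liftsTo p).obj (Ui i)), (FieldPt.liftsTo p).map (g i) ui = x := by
  haveI : IsAlgClosed p.K := hp
  have hcov' := (ofArrows_mem_etPre_iff Ui g).mp hcov
  obtain ⟨i, y, hy⟩ := hcov' (x.1.left (default : ↥(Spec (CommRingCat.of p.K))))
  haveI : Etale (g i).hom.left.left := EtOver.etale_left (g i)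
  obtain ⟨l, hl, -⟩ := Scheme.exists_fac_of_etale_of_isSepClosed (g i).hom.left.left
    (Ω := p.K) x.1.left y hy
  have hw : l ≫ (Ui i).obj.left.hom = p.str := by
    have h1 : (g i).hom.left.left ≫ E.obj.left.hom = (Ui i).obj.left.hom := Over.w (g i).hom.left
    have h2 : x.1.left ≫ E.obj.left.hom = p.str := Over.w x.1
    rw [← h1, ← Category.assoc, hl, h2]
  let ui : p.pt ⟶ (Ui i).obj.left := Over.homMk l hw
  have hui : ui ≫ (g i).hom.left = x.1 := Over.OverMorphism.ext hl
  refine ⟨i, ⟨ui, ?_⟩, ?_⟩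
  · rw [← EtOver.w (g i), ← Category.assoc, ← Functor.map_comp, hui]
    exact x.2
  · apply Subtype.ext
    exact hui

universe w v u'

/-- Joint surjectivity on a generating precoverage gives joint surjectivity for the generated
topology, when the category of elements is cofiltered. -/
theorem jointly_surjective_of_precoverage {C : Type u'} [Category.{v} C] (K : Precoverage C)
    (fib : C ⥤ Type w) [IsCofiltered fib.Elements]
    (h0 : ∀ {X : C} (R : Presieve X), R ∈ K X → ∀ x : fib.obj X,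
      ∃ (Y : C) (f : Y ⟶ X) (_ : R f) (y : fib.obj Y), fib.map f y = x)
    {X : C} (R : Sieve X) (hR : R ∈ K.toGrothendieck X) (x : fib.obj X) :
    ∃ (Y : C) (f : Y ⟶ X) (_ : R f) (y : fib.obj Y), fib.map f y = x := by
  rw [Precoverage.mem_toGrothendieck_iff] at hR
  induction hR with
  | of X S hS =>
    obtain ⟨Y, f, hf, y, hy⟩ := h0 S hS x
    exact ⟨Y, f, Sieve.le_generate S _ _ hf, y, hy⟩
  | top X => exact ⟨X, 𝟙 X, trivial, x, by simp⟩
  | pullback X S hS Y f ih =>
    obtain ⟨Z, g, hg, z, hz⟩ := ih (fib.map f x)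
    let a : (Functor.elementsMk fib Y x) ⟶ Functor.elementsMk fib X (fib.map f x) := ⟨f, rfl⟩
    let b : (Functor.elementsMk fib Z z) ⟶ Functor.elementsMk fib X (fib.map f x) := ⟨g, hz⟩
    obtain ⟨W, a', b', hab⟩ := IsCofiltered.cospan a b
    refine ⟨W.1, a'.1, ?_, W.2, a'.2⟩
    show S (a'.1 ≫ f)
    have h1 : a'.1 ≫ f = b'.1 ≫ g := congrArg Subtype.val hab
    rw [h1]
    exact S.downward_closed hg _
  | transitive X S R hS hR ih1 ih2 =>
    obtain ⟨Y, f, hf, y, hy⟩ := ih1 x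
    obtain ⟨Z, g, hg, z, hz⟩ := ih2 hf y
    exact ⟨Z, g ≫ f, hg, z, by rw [Functor.map_comp]; simp [hz, hy]⟩

/-- The point of the small etale site defined by a geometric point. -/
noncomputable def point (hX : IsAlgSpace X) (hp : p.IsGeometric) :
    GrothendieckTopology.Point.{u} (etTop X) where
  fiber := FieldPt.liftsTo p
  isCofiltered := isCofiltered p hX hp
  initiallySmall := initiallySmall p hX hp
  jointly_surjective := by
    haveI := isCofiltered p hX hp
    intro E R hR x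
    refine jointly_surjective_of_precoverage (etPre X) (FieldPt.liftsTo p) ?_ R hR x
    intro E R hR x
    obtain ⟨ι, Z, g, rfl⟩ := R.exists_eq_ofArrows
    obtain ⟨i, ui, hui⟩ := exists_lift_of_ofArrows p hp Z g hR x
    exact ⟨Z i, g i, ⟨i⟩, ui, hui⟩

end Groth.Agent.Helper2.EtNbhd
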