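import Mathlib
import Groth.Prelude.Def_AlgSpOX3
import Groth.Agent.Lib.Helper2.AlgSp.EtNbhd
import Groth.Agent.Lib.Helper2.AlgSp.Points

/-!
# Stalks at geometric points detect properties of etale sheaves on an algebraic space (helper2)
-/

set_option autoImplicit false
set_option backward.isDefEq.respectTransparency false

open CategoryTheory CategoryTheory.Limits AlgebraicGeometry Opposite AlgSp
open Groth.Agent.Helper2.EtNbhd

namespace Groth.Agent.Helper2.EtStalk
universe w' v' u' u

variable {S : Scheme.{u}} {X : Sp S}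

/-- Every point of a scheme etale over `X` is the image of a lift of a geometric point. -/
theorem exists_geometric_lift (E : EtOver X) (z : ↥E.obj.left.left) :
    ∃ (p : FieldPt X) (_ : p.IsGeometric) (x : (FieldPt.liftsTo p).obj E),
      x.1.left (default : ↥(Spec (CommRingCat.of p.K))) = z := by
  let K := AlgebraicClosure ↥(E.obj.left.left.residueField z)
  let φ : E.obj.left.left.residueField z ⟶ CommRingCat.of K :=
    CommRingCat.ofHom (algebraMap ↥(E.obj.left.left.residueField z) K)
  let w : Spec (CommRingCat.of K) ⟶ S :=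
    (Spec.map φ ≫ E.obj.left.left.fromSpecResidueField z) ≫ E.obj.left.hom
  let uu : Over.mk w ⟶ E.obj.left :=
    Over.homMk (Spec.map φ ≫ E.obj.left.left.fromSpecResidueField z) rfl
  let p : FieldPt X := AlgSpBasic.fieldPtOfHom w ((yon S).map uu ≫ E.obj.hom)
  have hp : p.IsGeometric := (inferInstance : IsAlgClosed K)
  have hto : p.toHom = (yon S).map uu ≫ E.obj.hom := Equiv.symm_apply_apply _ _
  refine ⟨p, hp, ⟨uu, hto.symm⟩, ?_⟩
  show (Spec.map φ ≫ E.obj.left.left.fromSpecResidueField z) _ = z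
  rw [Scheme.Hom.comp_apply]
  exact Scheme.fromSpecResidueField_apply _ _

/-- A lift of a geometric point lifts further along an etale map hitting its image point. -/
theorem exists_lift_of_mem_range (p : FieldPt X) (hp : p.IsGeometric) {V E : EtOver X}
    (g : V ⟶ E) (x : (FieldPt.liftsTo p).obj E)
    (hx : x.1.left (default : ↥(Spec (CommRingCat.of p.K))) ∈ Set.range g.hom.left.left) :
    ∃ y : (FieldPt.liftsTo p).obj V, (FieldPt.liftsTo p).map g y = x := by
  haveI : IsAlgClosed p.K := hp
  obtain ⟨y, hy⟩ := hx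
  haveI : Etale g.hom.left.left := EtOver.etale_left g
  obtain ⟨l, hl, -⟩ := Scheme.exists_fac_of_etale_of_isSepClosed g.hom.left.left
    (Ω := p.K) x.1.left y hy
  have hw : l ≫ V.obj.left.hom = p.str := by
    have h1 : g.hom.left.left ≫ E.obj.left.hom = V.obj.left.hom := Over.w g.hom.left
    have h2 : x.1.left ≫ E.obj.left.hom = p.str := Over.w x.1
    rw [← h1, ← Category.assoc, hl, h2]
  let ui : p.pt ⟶ V.obj.left := Over.homMk l hw
  have hui : ui ≫ g.hom.left = x.1 := Over.OverMorphism.ext hl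
  refine ⟨⟨ui, ?_⟩, Subtype.ext hui⟩
  rw [← EtOver.w g, ← Category.assoc, ← Functor.map_comp, hui]
  exact x.2

/-- The point of `|X|` under a lift of `p` to an etale `X`-scheme is the class of `p`. -/
theorem ofPt_lift (p : FieldPt X) {E : EtOver X} (x : (FieldPt.liftsTo p).obj E)
    (s : ↥(Spec (CommRingCat.of p.K))) :
    Points.ofPt E.obj.hom (x.1.left s) = Points.mk p := by
  have h := Groth.Agent.Helper2.AlgSpBasic.ofPt_yon_map_comp x.1 E.obj.hom s
  rw [← h, x.2]
  exact Points.ofPt_toHom p s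

/-- A geometric point whose class lies in the image of an etale `X`-scheme lifts to it. -/
theorem exists_lift_of_mk_eq_ofPt (p : FieldPt X) (hp : p.IsGeometric) (E : EtOver X)
    (y : ↥E.obj.left.left) (h : Points.mk p = Points.ofPt E.obj.hom y) :
    Nonempty ((FieldPt.liftsTo p).obj E) := by
  have hrep := E.property.rep
  have he : Etale (hrep.snd p.toHom).left := E.property.property_snd p.toHom
  obtain ⟨w, -, -⟩ := Groth.Agent.Helper2.AlgSpBasic.exists_point_of_isPullback_yon E.obj.hom
    p.toHom (hrep.fst' p.toHom) (hrep.snd p.toHom) (hrep.isPullback' p.toHom) y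
    (default : ↥(Spec (CommRingCat.of p.K))) (by rw [← h, Points.ofPt_toHom])
  obtain ⟨s, hs⟩ := exists_section p hp (hrep.snd p.toHom) he w
  refine ⟨⟨s ≫ hrep.fst' p.toHom, ?_⟩⟩
  show (yon S).map (s ≫ hrep.fst' p.toHom) ≫ E.obj.hom = p.toHom
  rw [Functor.map_comp, Category.assoc, hrep.map_fst', hrep.w, ← Category.assoc,
    ← Functor.map_comp, hs, CategoryTheory.Functor.map_id, Category.id_comp]

section germs

variable {A : Type u'} [Category.{v'} A] [HasColimitsOfSize.{u, u} A]
  {FC : A → A → Type*} {CC : A → Type w'} [∀ X Y : A, FunLike (FC X Y) (CC X) (CC Y)]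
  [ConcreteCategory.{w'} A FC] [PreservesFilteredColimitsOfSize.{u, u} (forget A)]

/-- Sections of a separated presheaf with the same germs at all geometric points are equal. -/
theorem eq_of_germs_eq (hX : IsAlgSpace X) (P : (EtOver X)ᵒᵖ ⥤ A)
    (hP : Presieve.IsSeparated (etTop X) (P ⋙ forget A)) {E : EtOver X}
    (s t : ToType (P.obj (op E)))
    (h : ∀ (p : FieldPt X) (hp : p.IsGeometric) (x : (FieldPt.liftsTo p).obj E),
      (point p hX hp).toPresheafFiber E x P s = (point p hX hp).toPresheafFiber E x P t) :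
    s = t := by
  have key : ∀ z : ↥E.obj.left.left, ∃ (Y : EtOver X) (f : Y ⟶ E),
      z ∈ Set.range f.hom.left.left ∧ P.map f.op s = P.map f.op t := by
    intro z
    obtain ⟨p, hp, x, hx⟩ := exists_geometric_lift E z
    obtain ⟨Y, f, y, hy, hst⟩ := ((point p hX hp).toPresheafFiber_eq_iff' E x s t).mp (h p hp x)
    refine ⟨Y, f, ⟨y.1.left (default : ↥(Spec (CommRingCat.of p.K))), ?_⟩, hst⟩
    have h1 : y.1 ≫ f.hom.left = x.1 := congrArg Subtype.val hy
    rw [← hx, ← h1]
    rfl
  choose Y f hz hst using key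
  have hcov : Sieve.ofArrows Y f ∈ etTop X E := ofArrows_mem_etTop Y f (fun z => ⟨z, hz z⟩)
  refine (hP _ hcov).ext ?_
  rintro W g ⟨V, a, _, ⟨z⟩, rfl⟩
  show (P ⋙ forget A).map (a ≫ f z).op s = (P ⋙ forget A).map (a ≫ f z).op t
  rw [op_comp, Functor.map_comp]
  show (forget A).map (P.map a.op) ((forget A).map (P.map (f z).op) s) = _
  exact congrArg _ (hst z)

end germs

section types

variable (hX : IsAlgSpace X) {F G : EtSh X (Type (u + 1))} (a : F ⟶ G)

include hX in
theorem mono_iff_stalk_injective :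
    Mono a ↔ ∀ p : FieldPt X, p.IsGeometric →
      Function.Injective ((stalkEtFunctor (Type (u + 1)) p).map a) := by
  constructor
  · intro ha p hp
    have hinj : ∀ U : (EtOver X)ᵒᵖ, Function.Injective (a.hom.app U) := by
      intro U
      haveI : Mono a.hom := (sheafToPresheaf (etTop X) (Type (u + 1))).map_mono a
      haveI : Mono (a.hom.app U) := inferInstance
      exact (mono_iff_injective (a.hom.app U)).mp inferInstance
    haveI : Presheaf.IsLocallyInjective (etTop X) a.hom :=
      (Sheaf.isLocallyInjective_iff_injective a).mpr hinj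
    exact (point p hX hp).toPresheafFiber_map_injective a.hom
  · intro h
    apply Sheaf.mono_of_injective
    rintro ⟨E⟩ s t hst
    refine eq_of_germs_eq hX F.obj ?_ s t ?_
    · exact ((isSheaf_iff_isSheaf_of_type _ _).1 F.property).isSeparated
    · intro p hp x
      apply h p hp
      show (point p hX hp).presheafFiber.map a.hom _ = (point p hX hp).presheafFiber.map a.hom _
      rw [(point p hX hp).toPresheafFiber_naturality_apply,
        (point p hX hp).toPresheafFiber_naturality_apply, hst]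

include hX in
theorem epi_iff_stalk_surjective :
    Epi a ↔ ∀ p : FieldPt X, p.IsGeometric →
      Function.Surjective ((stalkEtFunctor (Type (u + 1)) p).map a) := by
  rw [← Sheaf.isLocallySurjective_iff_epi]
  constructor
  · intro ha p hp
    haveI : Presheaf.IsLocallySurjective (etTop X) a.hom := ha
    exact (point p hX hp).toPresheafFiber_map_surjective a.hom
  · intro h
    refine ⟨fun {E} s => ?_⟩
    have key : ∀ z : ↥E.obj.left.left, ∃ (Y : EtOver X) (f : Y ⟶ E),
        z ∈ Set.range f.hom.left.left ∧ Presheaf.imageSieve a.hom s f := by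
      intro z
      obtain ⟨p, hp, x, hx⟩ := exists_geometric_lift E z
      obtain ⟨ξ, hξ⟩ := h p hp ((point p hX hp).toPresheafFiber E x G.obj s)
      obtain ⟨V, v, t, rfl⟩ := (point p hX hp).toPresheafFiber_jointly_surjective (P := F.obj)
        (show ToType ((point p hX hp).presheafFiber.obj F.obj) from ξ)
      have hξ' : (point p hX hp).toPresheafFiber V v G.obj (a.hom.app _ t) =
          (point p hX hp).toPresheafFiber E x G.obj s := by
        rw [← (point p hX hp).toPresheafFiber_naturality_apply]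
        exact hξ
      obtain ⟨⟨W, w⟩, ⟨α, hα⟩, ⟨β, hβ⟩, -⟩ := cone_objs p ⟨V, v⟩ ⟨E, x⟩
      have hα' : (FieldPt.liftsTo p).map α w = v := hα
      have hβ' : (FieldPt.liftsTo p).map β w = x := hβ
      have e1 : (point p hX hp).toPresheafFiber W w G.obj (G.obj.map α.op (a.hom.app _ t)) =
          (point p hX hp).toPresheafFiber V v G.obj (a.hom.app _ t) := by
        rw [(point p hX hp).toPresheafFiber_w_apply]
        exact congrArg (fun y => (point p hX hp).toPresheafFiber V y G.obj (a.hom.app _ t)) hα'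
      have e2 : (point p hX hp).toPresheafFiber W w G.obj (G.obj.map β.op s) =
          (point p hX hp).toPresheafFiber E x G.obj s := by
        rw [(point p hX hp).toPresheafFiber_w_apply]
        exact congrArg (fun y => (point p hX hp).toPresheafFiber E y G.obj s) hβ'
      obtain ⟨Y, f, y, hy, hst⟩ := ((point p hX hp).toPresheafFiber_eq_iff' W w _ _).mp
        (e1.trans (hξ'.trans e2.symm))
      refine ⟨Y, f ≫ β, ⟨y.1.left (default : ↥(Spec (CommRingCat.of p.K))), ?_⟩,
        ⟨F.obj.map (f ≫ α).op t, ?_⟩⟩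
      · have h1 : y.1 ≫ f.hom.left = w.1 := congrArg Subtype.val hy
        have h2 : w.1 ≫ β.hom.left = x.1 := congrArg Subtype.val hβ'
        rw [← hx, ← h2, ← h1]
        rfl
      · rw [NatTrans.naturality_apply, op_comp, Functor.map_comp_apply, hst, op_comp,
          Functor.map_comp_apply]
    choose Y f hz hst using key
    have hcov : Sieve.ofArrows Y f ∈ etTop X E := ofArrows_mem_etTop Y f (fun z => ⟨z, hz z⟩)
    refine (etTop X).superset_covering ?_ hcov
    rintro W g ⟨V, b, _, ⟨z⟩, rfl⟩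
    exact (Presheaf.imageSieve a.hom s).downward_closed (hst z) b

end types

section ab

variable (hX : IsAlgSpace X)

include hX in
/-- An abelian sheaf all of whose stalks at geometric points vanish is zero. -/
theorem isZero_of_stalks (H : EtSh X AddCommGrpCat.{u + 1})
    (h : ∀ p : FieldPt X, p.IsGeometric →
      IsZero ((stalkEtFunctor AddCommGrpCat.{u + 1} p).obj H)) : IsZero H := by
  haveI : PreservesFilteredColimitsOfSize.{u, u} (forget AddCommGrpCat.{u + 1}) :=
    preservesFilteredColimitsOfSize_shrink.{u, u + 1, u, u + 1} _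
  rw [IsZero.iff_id_eq_zero]
  apply Sheaf.hom_ext
  ext ⟨E⟩ s
  show s = 0
  refine eq_of_germs_eq hX H.obj ?_ s 0 ?_
  · exact ((isSheaf_iff_isSheaf_of_type _ _).1
      ((sheafCompose (etTop X) (forget AddCommGrpCat.{u + 1})).obj H).property).isSeparated
  · intro p hp x
    haveI : Subsingleton ↥((stalkEtFunctor AddCommGrpCat.{u + 1} p).obj H) :=
      AddCommGrpCat.subsingleton_of_isZero (h p hp)
    exact Subsingleton.elim (α := ↥((stalkEtFunctor AddCommGrpCat.{u + 1} p).obj H)) _ _

include hX in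
theorem exact_iff_stalks (C : ShortComplex (AbEt X)) :
    C.Exact ↔ ∀ p : FieldPt X, p.IsGeometric →
      ∀ y : ↥((stalkEtFunctor AddCommGrpCat.{u + 1} p).obj C.X₂),
        ((stalkEtFunctor AddCommGrpCat.{u + 1} p).map C.g) y = 0 →
          ∃ x : ↥((stalkEtFunctor AddCommGrpCat.{u + 1} p).obj C.X₁),
            ((stalkEtFunctor AddCommGrpCat.{u + 1} p).map C.f) x = y := by
  haveI : AB5OfSize.{u, u} AddCommGrpCat.{u + 1} :=
    AB5OfSize_of_univLE.{u, u, u + 1, u + 1} AddCommGrpCat.{u + 1}
  have hex : ∀ (p : FieldPt X) (hp : p.IsGeometric),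
      PreservesFiniteLimits (stalkEtFunctor AddCommGrpCat.{u + 1} p) ∧
      PreservesFiniteColimits (stalkEtFunctor AddCommGrpCat.{u + 1} p) ∧
      (stalkEtFunctor AddCommGrpCat.{u + 1} p).IsLeftAdjoint := by
    intro p hp
    exact ⟨(inferInstance : PreservesFiniteLimits
        ((point p hX hp).sheafFiber (A := AddCommGrpCat.{u + 1}))),
      (inferInstance : PreservesFiniteColimits
        ((point p hX hp).sheafFiber (A := AddCommGrpCat.{u + 1}))),
      (inferInstance : ((point p hX hp).sheafFiber (A := AddCommGrpCat.{u + 1})).IsLeftAdjoint)⟩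
  constructor
  · intro hC p hp
    obtain ⟨h1, h2, h3⟩ := hex p hp
    have := (hC.map (stalkEtFunctor AddCommGrpCat.{u + 1} p))
    exact (ShortComplex.ab_exact_iff _).mp this
  · intro h
    rw [ShortComplex.exact_iff_isZero_homology]
    apply isZero_of_stalks hX
    intro p hp
    obtain ⟨h1, h2, h3⟩ := hex p hp
    have hE : (C.map (stalkEtFunctor AddCommGrpCat.{u + 1} p)).Exact :=
      (ShortComplex.ab_exact_iff _).mpr (h p hp)
    rw [ShortComplex.exact_iff_isZero_homology] at hE
    exact hE.of_iso (C.mapHomologyIso (stalkEtFunctor AddCommGrpCat.{u + 1} p)).symm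

include hX in
/-- The largest open of `U` on which a section of an abelian sheaf vanishes. -/
theorem zero_locus (F : AbEt X) (U : EtOver X) (σ : ↥(F.obj.obj (op U))) :
    ∃ W : TopologicalSpace.Opens ↥U.obj.left.left,
      (∀ (V : EtOver X) (φ : V ⟶ U),
          (F.obj.map φ.op).hom σ = 0 ↔
            Set.range (fun v => φ.hom.left.left v) ⊆ (W : Set ↥U.obj.left.left)) ∧
      (∀ p : FieldPt X, p.IsGeometric → ∀ l : (FieldPt.liftsTo p).obj U,
          (stalkEtι p F ⟨U, l⟩).hom σ = 0 ↔ l.1.left (IsLocalRing.closedPoint p.K) ∈ W) := by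
  haveI : PreservesFilteredColimitsOfSize.{u, u} (forget AddCommGrpCat.{u + 1}) :=
    preservesFilteredColimitsOfSize_shrink.{u, u + 1, u, u + 1} _
  let ι := {Vφ : (V : EtOver X) × (V ⟶ U) // (F.obj.map Vφ.2.op).hom σ = 0}
  let W : TopologicalSpace.Opens ↥U.obj.left.left :=
    ⟨⋃ i : ι, Set.range i.1.2.hom.left.left, isOpen_iUnion (fun i => by
      haveI : Etale i.1.2.hom.left.left := EtOver.etale_left i.1.2
      exact i.1.2.hom.left.left.isOpenMap.isOpen_range)⟩
  have hb : ∀ p : FieldPt X, p.IsGeometric → ∀ l : (FieldPt.liftsTo p).obj U,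
      (stalkEtι p F ⟨U, l⟩).hom σ = 0 ↔ l.1.left (IsLocalRing.closedPoint p.K) ∈ W := by
    intro p hp l
    constructor
    · intro h0
      have h1 : (point p hX hp).toPresheafFiber U l F.obj σ =
          (point p hX hp).toPresheafFiber U l F.obj 0 := by
        rw [map_zero]
        exact h0
      obtain ⟨Y, f, y, hy, hst⟩ := ((point p hX hp).toPresheafFiber_eq_iff' U l σ 0).mp h1
      have hst' : (F.obj.map f.op).hom σ = 0 := by
        have : (F.obj.map f.op).hom σ = (F.obj.map f.op).hom 0 := hst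
        rw [this, map_zero]
      refine Set.mem_iUnion.mpr ⟨⟨⟨Y, f⟩, hst'⟩, y.1.left (IsLocalRing.closedPoint p.K), ?_⟩
      have h2 : y.1 ≫ f.hom.left = l.1 := congrArg Subtype.val hy
      rw [← h2]
      rfl
    · intro hl
      obtain ⟨⟨⟨V, φ⟩, h0⟩, hφ⟩ := Set.mem_iUnion.mp hl
      obtain ⟨y, hy⟩ := exists_lift_of_mem_range p hp φ l (by
        rwa [Subsingleton.elim (default : ↥(Spec (CommRingCat.of p.K)))
          (IsLocalRing.closedPoint p.K)])
      have h1 : (point p hX hp).toPresheafFiber U l F.obj σ =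
          (point p hX hp).toPresheafFiber V y F.obj (F.obj.map φ.op σ) := by
        rw [(point p hX hp).toPresheafFiber_w_apply]
        exact congrArg (fun z => (point p hX hp).toPresheafFiber U z F.obj σ) hy.symm
      have h2 : F.obj.map φ.op σ = 0 := h0
      show (point p hX hp).toPresheafFiber U l F.obj σ = 0
      rw [h1, h2, map_zero]
  refine ⟨W, ?_, hb⟩
  intro V φ
  constructor
  · intro h0
    rintro _ ⟨v, rfl⟩
    exact Set.mem_iUnion.mpr ⟨⟨⟨V, φ⟩, h0⟩, v, rfl⟩
  · intro hsub
    show F.obj.map φ.op σ = 0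
    refine eq_of_germs_eq hX F.obj ?_ _ _ ?_
    · exact ((isSheaf_iff_isSheaf_of_type _ _).1
        ((sheafCompose (etTop X) (forget AddCommGrpCat.{u + 1})).obj F).property).isSeparated
    · intro p hp y
      rw [(point p hX hp).toPresheafFiber_w_apply, map_zero]
      apply (hb p hp ((FieldPt.liftsTo p).map φ y)).mpr
      apply hsub
      exact ⟨y.1.left (IsLocalRing.closedPoint p.K), rfl⟩

include hX in
theorem support_iff (F : AbEt X) (x : Points X) :
    (∃ p : FieldPt X, p.IsGeometric ∧ Points.mk p = x ∧ ¬ IsZero (stalkEt p F)) ↔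
      ∃ (U : EtOver X) (σ : ↥(F.obj.obj (op U))) (u : ↥U.obj.left.left),
        Points.ofPt U.obj.hom u = x ∧
          ∀ (V : EtOver X) (φ : V ⟶ U), (F.obj.map φ.op).hom σ = 0 →
            u ∉ Set.range (fun v => φ.hom.left.left v) := by
  haveI : PreservesFilteredColimitsOfSize.{u, u} (forget AddCommGrpCat.{u + 1}) :=
    preservesFilteredColimitsOfSize_shrink.{u, u + 1, u, u + 1} _
  constructor
  · rintro ⟨p, hp, hx, hne⟩
    have hex : ∃ ξ : ↥(stalkEt p F), ξ ≠ 0 := by
      by_contra hcon
      apply hne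
      haveI : Subsingleton ↥(stalkEt p F) := ⟨fun a b => by
        have ha : a = 0 := by_contra fun h => hcon ⟨a, h⟩
        have hb : b = 0 := by_contra fun h => hcon ⟨b, h⟩
        rw [ha, hb]⟩
      exact AddCommGrpCat.isZero_of_subsingleton _
    obtain ⟨ξ, hξ⟩ := hex
    obtain ⟨U, l, σ, rfl⟩ := (point p hX hp).toPresheafFiber_jointly_surjective (P := F.obj)
      (show ToType ((point p hX hp).presheafFiber.obj F.obj) from ξ)
    refine ⟨U, σ, l.1.left (default : ↥(Spec (CommRingCat.of p.K))), ?_, ?_⟩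
    · rw [ofPt_lift, hx]
    · rintro V φ h0 hu
      apply hξ
      obtain ⟨y, hy⟩ := exists_lift_of_mem_range p hp φ l hu
      have h1 : (point p hX hp).toPresheafFiber U l F.obj σ =
          (point p hX hp).toPresheafFiber V y F.obj (F.obj.map φ.op σ) := by
        rw [(point p hX hp).toPresheafFiber_w_apply]
        exact congrArg (fun z => (point p hX hp).toPresheafFiber U z F.obj σ) hy.symm
      have h2 : F.obj.map φ.op σ = 0 := h0
      rw [h1, h2, map_zero]
  · rintro ⟨U, σ, u, hu, hcond⟩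
    obtain ⟨p, hp, l, hl⟩ := exists_geometric_lift U u
    refine ⟨p, hp, ?_, ?_⟩
    · rw [← hu, ← hl, ofPt_lift]
    · intro hz
      haveI : Subsingleton ↥(stalkEt p F) := AddCommGrpCat.subsingleton_of_isZero hz
      have h1 : (point p hX hp).toPresheafFiber U l F.obj σ =
          (point p hX hp).toPresheafFiber U l F.obj 0 :=
        Subsingleton.elim (α := ↥(stalkEt p F)) _ _
      obtain ⟨Y, f, y, hy, hst⟩ := ((point p hX hp).toPresheafFiber_eq_iff' U l σ 0).mp h1
      have hst' : (F.obj.map f.op).hom σ = 0 := by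
        have : (F.obj.map f.op).hom σ = (F.obj.map f.op).hom 0 := hst
        rw [this, map_zero]
      apply hcond Y f hst'
      refine ⟨y.1.left (default : ↥(Spec (CommRingCat.of p.K))), ?_⟩
      have h2 : y.1 ≫ f.hom.left = l.1 := congrArg Subtype.val hy
      rw [← hl, ← h2]
      rfl

end ab

section ring

variable (hX : IsAlgSpace X)

include hX in
/-- The support of a sheaf of rings on the small etale site is closed. -/
theorem isClosed_support_ring (O' : EtSh X CommRingCat.{u + 1}) :
    IsClosed {x : Points X |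
      ∃ p : FieldPt X, p.IsGeometric ∧ Points.mk p = x ∧ Nontrivial ↥(stalkEt p O')} := by
  haveI : HasColimitsOfSize.{u, u} CommRingCat.{u + 1} :=
    hasColimitsOfSizeShrink.{u, u, u + 1, u + 1} _
  haveI : PreservesFilteredColimitsOfSize.{u, u} (forget CommRingCat.{u + 1}) :=
    preservesFilteredColimitsOfSize_shrink.{u, u + 1, u, u + 1} _
  rw [← isOpen_compl_iff, isOpen_iff_forall_mem_open]
  intro x hx
  obtain ⟨U₀, a₀, hae, has⟩ := hX.atlas
  obtain ⟨u, rfl⟩ := Groth.Agent.Helper2.AlgSpBasic.surjective_ofPt a₀ has x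
  obtain ⟨p, hp, l, hl⟩ := exists_geometric_lift (EtOver.mk a₀ hae) u
  have hmk : Points.mk p = Points.ofPt a₀ u := by
    rw [← hl]
    exact (ofPt_lift p l _).symm
  have htriv : ¬ Nontrivial ↥(stalkEt p O') := fun hn => hx ⟨p, hp, hmk, hn⟩
  rw [not_nontrivial_iff_subsingleton] at htriv
  have h1 : (point p hX hp).toPresheafFiber (EtOver.mk a₀ hae) l O'.obj 1 =
      (point p hX hp).toPresheafFiber (EtOver.mk a₀ hae) l O'.obj 0 :=
    Subsingleton.elim (α := ↥(stalkEt p O')) _ _
  obtain ⟨Y, f, y, hy, hst⟩ :=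
    ((point p hX hp).toPresheafFiber_eq_iff' (EtOver.mk a₀ hae) l 1 0).mp h1
  have h10 : (1 : ↥(O'.obj.obj (op Y))) = 0 := by
    have h2 : (O'.obj.map f.op).hom 1 = (O'.obj.map f.op).hom 0 := hst
    rwa [map_one, map_zero] at h2
  refine ⟨Set.range (Points.ofPt Y.obj.hom), ?_, ?_, ?_⟩
  · rintro _ ⟨y', rfl⟩ ⟨p', hp', hmk', hn⟩
    obtain ⟨l'⟩ := exists_lift_of_mk_eq_ofPt p' hp' Y y' hmk'
    have h3 : (1 : ↥(stalkEt p' O')) = 0 := by
      have e1 : ((point p' hX hp').toPresheafFiber Y l' O'.obj).hom 1 = 1 := map_one _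
      have e0 : ((point p' hX hp').toPresheafFiber Y l' O'.obj).hom 0 = 0 := map_zero _
      rw [← e1, h10, e0]
    exact one_ne_zero h3
  · rw [← Set.image_univ]
    exact Groth.Agent.Helper2.AlgSpBasic.isOpenMap_ofPt Y.obj.hom Y.property _ isOpen_univ
  · refine ⟨y.1.left (default : ↥(Spec (CommRingCat.of p.K))), ?_⟩
    rw [ofPt_lift, hmk]

end ring

section subterminal

/-- Fibre products exist in the small etale site. -/
theorem exists_fibre_product (U V : EtOver X) :
    ∃ (W : EtOver X) (a : W ⟶ U) (b : W ⟶ V),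
      IsPullback ((yon S).map b.hom.left) ((yon S).map a.hom.left) V.obj.hom U.obj.hom := by
  have hV := V.property.rep
  have he : Etale (hV.snd U.obj.hom).left := V.property.property_snd U.obj.hom
  let c : (yon S).obj (hV.pullback U.obj.hom) ⟶ X := (yon S).map (hV.snd U.obj.hom) ≫ U.obj.hom
  have hc : RepWith @Etale c :=
    AlgSpBasic.repWith_comp @Etale ((repWith_yon_map_iff @Etale _).2 he) U.property
  have hc2 : (yon S).map (hV.fst' U.obj.hom) ≫ V.obj.hom = c := by
    rw [hV.map_fst']
    exact hV.w U.obj.hom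
  exact ⟨EtOver.mk c hc, EtOver.homMk (hV.snd U.obj.hom) rfl,
    EtOver.homMk (hV.fst' U.obj.hom) hc2, hV.isPullback' U.obj.hom⟩

/-- The open subscheme of an etale `X`-scheme as an object of the small etale site. -/
theorem exists_open_sub (U : EtOver X) (W : U.obj.left.left.Opens) :
    ∃ (E : EtOver X) (j : E ⟶ U), Set.range j.hom.left.left = (W : Set ↥U.obj.left.left) := by
  let E' : Over S := Over.mk (W.ι ≫ U.obj.left.hom)
  let ιE : E' ⟶ U.obj.left := Over.homMk W.ι rfl
  let c : (yon S).obj E' ⟶ X := (yon S).map ιE ≫ U.obj.hom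
  have hc : RepWith @Etale c :=
    AlgSpBasic.repWith_comp @Etale ((repWith_yon_map_iff @Etale ιE).2
      (inferInstanceAs (Etale W.ι))) U.property
  refine ⟨EtOver.mk c hc, EtOver.homMk ιE rfl, ?_⟩
  exact Scheme.Opens.range_ι W

variable (hX : IsAlgSpace X)

include hX in
/-- Subsheaves of the final object of the small etale topos correspond to opens of `|X|`. -/
theorem existsUnique_open_of_subsingleton (F : EtSh X (Type (u + 1)))
    (hF : ∀ E : EtOver X, Subsingleton (F.obj.obj (op E))) :
    ∃! W : Set (Points X), IsOpen W ∧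
      ∀ E : EtOver X, Nonempty (F.obj.obj (op E)) ↔ Set.range (Points.ofPt E.obj.hom) ⊆ W := by
  let W : Set (Points X) :=
    ⋃ E : {E : EtOver X // Nonempty (F.obj.obj (op E))}, Set.range (Points.ofPt E.1.obj.hom)
  have hWopen : IsOpen W := isOpen_iUnion (fun E => by
    rw [← Set.image_univ]
    exact Groth.Agent.Helper2.AlgSpBasic.isOpenMap_ofPt E.1.obj.hom E.1.property _ isOpen_univ)
  have hW : ∀ E : EtOver X, Nonempty (F.obj.obj (op E)) ↔
      Set.range (Points.ofPt E.obj.hom) ⊆ W := by
    intro E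
    constructor
    · intro hE
      exact Set.subset_iUnion (fun E : {E : EtOver X // Nonempty (F.obj.obj (op E))} =>
        Set.range (Points.ofPt E.1.obj.hom)) ⟨E, hE⟩
    · intro hsub
      have key : ∀ z : ↥E.obj.left.left, ∃ (T : EtOver X) (g : T ⟶ E),
          z ∈ Set.range g.hom.left.left ∧ Nonempty (F.obj.obj (op T)) := by
        intro z
        obtain ⟨⟨E', ⟨s'⟩⟩, z', hz'⟩ := Set.mem_iUnion.mp (hsub ⟨z, rfl⟩)
        obtain ⟨T, a, b, sq⟩ := exists_fibre_product E E'
        obtain ⟨w, -, hw⟩ := Groth.Agent.Helper2.AlgSpBasic.exists_point_of_isPullback_yon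
          E'.obj.hom E.obj.hom b.hom.left a.hom.left sq z' z hz'
        exact ⟨T, a, ⟨w, hw⟩, ⟨F.obj.map b.op s'⟩⟩
      choose T g hz hne using key
      have hcov : Sieve.ofArrows T g ∈ etTop X E := ofArrows_mem_etTop T g (fun z => ⟨z, hz z⟩)
      have hsh := (isSheaf_iff_isSheaf_of_type _ _).1 F.property (Sieve.ofArrows T g) hcov
      have hne' : ∀ {Y : EtOver X} (f : Y ⟶ E), (Sieve.ofArrows T g) f →
          Nonempty (F.obj.obj (op Y)) := by
        rintro Y f ⟨V, a, _, ⟨z⟩, rfl⟩
        obtain ⟨s⟩ := hne z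
        exact ⟨F.obj.map a.op s⟩
      let fam : Presieve.FamilyOfElements F.obj (Sieve.ofArrows T g).arrows :=
        fun Y f hf => (hne' f hf).some
      have hcompat : fam.Compatible := by
        intro Y₁ Y₂ Z g₁ g₂ f₁ f₂ h₁ h₂ _
        exact (hF Z).elim _ _
      exact ⟨hsh.amalgamate fam hcompat⟩
  refine ⟨W, ⟨hWopen, hW⟩, ?_⟩
  rintro W' ⟨hW'open, hW'⟩
  obtain ⟨U₀, a₀, hae, has⟩ := hX.atlas
  have aux : ∀ (W₁ W₂ : Set (Points X)), IsOpen W₁ →
      (∀ E : EtOver X, Nonempty (F.obj.obj (op E)) ↔ Set.range (Points.ofPt E.obj.hom) ⊆ W₁) →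
      (∀ E : EtOver X, Nonempty (F.obj.obj (op E)) ↔ Set.range (Points.ofPt E.obj.hom) ⊆ W₂) →
      W₁ ⊆ W₂ := by
    intro W₁ W₂ hopen h₁ h₂ x hx
    obtain ⟨u, rfl⟩ := Groth.Agent.Helper2.AlgSpBasic.surjective_ofPt a₀ has x
    let Wo : U₀.left.Opens := ⟨Points.ofPt a₀ ⁻¹' W₁, hopen.preimage (Points.continuous_ofPt a₀)⟩
    obtain ⟨E, j, hj⟩ := exists_open_sub (EtOver.mk a₀ hae) Wo
    have hE : Set.range (Points.ofPt E.obj.hom) ⊆ W₁ := by
      rintro _ ⟨e, rfl⟩
      have h := Groth.Agent.Helper2.AlgSpBasic.ofPt_yon_map_comp j.hom.left a₀ e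
      have hw : (yon S).map j.hom.left ≫ a₀ = E.obj.hom := EtOver.w j
      rw [hw] at h
      rw [h]
      have : j.hom.left.left e ∈ (Wo : Set ↥U₀.left) := hj ▸ ⟨e, rfl⟩
      exact this
    have hE₂ := (h₂ E).mp ((h₁ E).mpr hE)
    have hu : u ∈ (Wo : Set ↥U₀.left) := hx
    rw [← hj] at hu
    obtain ⟨e, rfl⟩ := hu
    apply hE₂
    refine ⟨e, ?_⟩
    have h := Groth.Agent.Helper2.AlgSpBasic.ofPt_yon_map_comp j.hom.left a₀ e
    have hw : (yon S).map j.hom.left ≫ a₀ = E.obj.hom := EtOver.w j
    rw [hw] at h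
    exact h
  exact Set.Subset.antisymm (aux W' W hW'open hW' hW) (aux W W' hWopen hW hW')

end subterminal

end Groth.Agent.Helper2.EtStalk
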