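import Mathlib
import Groth.Prelude.Def_AlgSpOX
import Groth.Prelude.Def_AlgSpDec
import Groth.Prelude.Def_AlgSpSub
import Groth.Agent.Lib.Helper2.AlgSp.EtStalk
import Groth.Agent.Lib.Helper2.AlgSp.PointsMor

/-!
# Global sections of the structure sheaf of an algebraic space (helper2)
-/

set_option autoImplicit false
set_option backward.isDefEq.respectTransparency false
set_option linter.style.haveILetI false

open CategoryTheory CategoryTheory.Limits AlgebraicGeometry Opposite AlgSp

namespace Groth.Agent.Helper2.GSect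
universe u
variable {S : Scheme.{u}} {X : Sp S}

/-- The component of a global section on an object of the small etale site. -/
noncomputable def comp (f : ↥(gsectEt (OEt X))) (E : EtOver X) : Γ(E.obj.left.left, ⊤) :=
  ((limit.π (OEt X).obj (op E)) f).down

theorem comp_map (f : ↥(gsectEt (OEt X))) {E E' : EtOver X} (g : E ⟶ E') :
    comp f E = g.hom.left.left.appTop.hom (comp f E') := by
  have h := limit.w (OEt X).obj g.op
  have h2 : (limit.π (OEt X).obj (op E)) f =
      ((OEt X).obj.map g.op) ((limit.π (OEt X).obj (op E')) f) := by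
    rw [← h]
    rfl
  unfold comp
  rw [h2, OEt_map]

theorem comp_zero (E : EtOver X) : comp (0 : ↥(gsectEt (OEt X))) E = 0 := by
  unfold comp
  rw [map_zero]
  rfl

theorem comp_one (E : EtOver X) : comp (1 : ↥(gsectEt (OEt X))) E = 1 := by
  unfold comp
  rw [map_one]
  rfl

theorem comp_mul (f g : ↥(gsectEt (OEt X))) (E : EtOver X) :
    comp (f * g) E = comp f E * comp g E := by
  unfold comp
  rw [map_mul]
  rfl

theorem comp_pow (f : ↥(gsectEt (OEt X))) (n : ℕ) (E : EtOver X) :
    comp (f ^ n) E = comp f E ^ n := by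
  induction n with
  | zero => rw [pow_zero, pow_zero, comp_one]
  | succ n ih => rw [pow_succ, pow_succ, comp_mul, ih]

theorem ext_zero (f : ↥(gsectEt (OEt X))) (h : ∀ E : EtOver X, comp f E = 0) : f = 0 := by
  apply Concrete.limit_ext
  rintro ⟨E⟩
  rw [map_zero]
  have := h E
  unfold comp at this
  exact ULift.ext _ _ this

/-- Global functions inject along flat surjective morphisms. -/
theorem appTop_injective_of_flat_surjective {W E : Scheme.{u}} (g : W ⟶ E) [Flat g]
    [Surjective g] : Function.Injective g.appTop.hom := by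
  haveI : Epi g := Flat.epi_of_flat_of_surjective g
  haveI : Scheme.Γ.rightOp.PreservesEpimorphisms :=
    Functor.preservesEpimorphisms_of_adjunction ΓSpec.adjunction
  have h1 : Epi (Scheme.Γ.rightOp.map g) := inferInstance
  have h2 : Mono g.appTop := by
    have : Scheme.Γ.rightOp.map g = g.appTop.op := rfl
    rw [this] at h1
    exact (op_epi_iff _).mp h1 |> fun h => h
  exact (ConcreteCategory.mono_iff_injective_of_preservesPullback g.appTop).mp h2

/-- A global section vanishing on a surjective etale chart vanishes. -/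
theorem eq_zero_of_comp_chart {U : Over S} (p : (yon S).obj U ⟶ X) (hpe : RepWith @Etale p)
    (hps : RepWith @Surjective p) (f : ↥(gsectEt (OEt X)))
    (h0 : comp f (EtOver.mk p hpe) = 0) : f = 0 := by
  apply ext_zero
  intro E
  obtain ⟨W, a, b, sq⟩ := EtStalk.exists_fibre_product E (EtOver.mk p hpe)
  haveI hs : Surjective a.hom.left.left := hps.property E.obj.hom ((yon S).map b.hom.left) a.hom.left sq
  haveI : Etale a.hom.left.left := EtOver.etale_left a
  have h1 : comp f W = a.hom.left.left.appTop.hom (comp f E) := comp_map f a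
  have h2 : comp f W = b.hom.left.left.appTop.hom (comp f (EtOver.mk p hpe)) := comp_map f b
  rw [h0, map_zero] at h2
  rw [h2] at h1
  apply appTop_injective_of_flat_surjective a.hom.left.left
  rw [← h1, map_zero]

/-- S10242. -/
theorem main42 (hX : IsReducedSp X) :
    _root_.IsReduced ↥(gsectEt (OEt X)) ∧
      ∀ f : ↥(gsectEt (OEt X)),
        (∀ E : EtOver X,
            E.obj.left.left.basicOpen ((limit.π (OEt X).obj (op E)) f).down = ⊥) →
          f = 0 := by
  obtain ⟨U, p, hpe, hps, hred⟩ := hX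
  haveI : AlgebraicGeometry.IsReduced (EtOver.mk p hpe).obj.left.left := hred
  constructor
  · constructor
    rintro f ⟨n, hn⟩
    apply eq_zero_of_comp_chart p hpe hps f
    have h1 : comp f (EtOver.mk p hpe) ^ n = 0 := by
      rw [← comp_pow, hn, comp_zero]
    exact IsReduced.eq_zero _ ⟨n, h1⟩
  · intro f hf
    apply eq_zero_of_comp_chart p hpe hps f
    exact (basicOpen_eq_bot_iff _).mp (hf (EtOver.mk p hpe))

/-- The non-vanishing locus of a global section in the space of points. -/
def nonvanishing (f : ↥(gsectEt (OEt X))) : Set (Points X) :=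
  {x | ∃ (E : EtOver X) (e : ↥E.obj.left.left),
    Points.ofPt E.obj.hom e = x ∧ e ∈ E.obj.left.left.basicOpen (comp f E)}

theorem isOpen_nonvanishing (f : ↥(gsectEt (OEt X))) : IsOpen (nonvanishing f) := by
  have : nonvanishing f = ⋃ E : EtOver X, Points.ofPt E.obj.hom ''
      (E.obj.left.left.basicOpen (comp f E) : Set ↥E.obj.left.left) := by
    ext x
    simp only [nonvanishing, Set.mem_ofPred_eq, Set.mem_iUnion, Set.mem_image]
    constructor
    · rintro ⟨E, e, he, hm⟩
      exact ⟨E, e, hm, he⟩
    · rintro ⟨E, e, hm, he⟩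
      exact ⟨E, e, he, hm⟩
  rw [this]
  exact isOpen_iUnion fun E =>
    AlgSpBasic.isOpenMap_ofPt E.obj.hom E.property _ (E.obj.left.left.basicOpen (comp f E)).isOpen

theorem mem_basicOpen_comp_map (f : ↥(gsectEt (OEt X))) {E E' : EtOver X} (g : E ⟶ E')
    (e : ↥E.obj.left.left) :
    e ∈ E.obj.left.left.basicOpen (comp f E) ↔
      g.hom.left.left e ∈ E'.obj.left.left.basicOpen (comp f E') := by
  rw [comp_map f g]
  have h := Scheme.preimage_basicOpen g.hom.left.left (comp f E')
  exact (congrArg (fun O : E.obj.left.left.Opens => e ∈ O) h).to_iff.symm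

theorem nonvanishing_inter_subset (hX : IsAlgSpace X) (f g : ↥(gsectEt (OEt X))) :
    nonvanishing f ∩ nonvanishing g ⊆ nonvanishing (f * g) := by
  rintro x ⟨⟨E, e, he, hm⟩, ⟨E', e', he', hm'⟩⟩
  obtain ⟨W, a, b, sq⟩ := EtStalk.exists_fibre_product E E'
  obtain ⟨w, hw1, hw2⟩ := AlgSpBasic.exists_point_of_isPullback_yon E'.obj.hom E.obj.hom
    b.hom.left a.hom.left sq e' e (he'.trans he.symm)
  refine ⟨W, w, ?_, ?_⟩
  · have := EtOver.w a
    rw [← this, AlgSpBasic.ofPt_yon_map_comp, hw2, he]
  · rw [comp_mul, Scheme.basicOpen_mul]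
    exact ⟨(mem_basicOpen_comp_map f a w).mpr (hw2 ▸ hm),
      (mem_basicOpen_comp_map g b w).mpr (hw1 ▸ hm')⟩

theorem nonvanishing_zero : nonvanishing (0 : ↥(gsectEt (OEt X))) = ∅ := by
  ext x
  simp only [nonvanishing, Set.mem_ofPred_eq, Set.mem_empty_iff_false, iff_false]
  rintro ⟨E, e, -, hm⟩
  rw [comp_zero, Scheme.basicOpen_zero] at hm
  exact hm

theorem basicOpen_eq_bot_of_nonvanishing_eq_empty (f : ↥(gsectEt (OEt X)))
    (h : nonvanishing f = ∅) (E : EtOver X) :
    E.obj.left.left.basicOpen (comp f E) = ⊥ := by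
  rw [eq_bot_iff]
  intro e he
  have : Points.ofPt E.obj.hom e ∈ nonvanishing f := ⟨E, e, rfl, he⟩
  rw [h] at this
  exact this.elim

/-- S10494. -/
theorem main94 (hXa : IsAlgSpace X) (hX : IsIntegralSp X) : IsDomain ↥(gsectEt (OEt X)) := by
  obtain ⟨hred, -, hirr⟩ := hX
  haveI := hirr
  have key := (main42 hred).2
  haveI : Nontrivial ↥(gsectEt (OEt X)) := by
    obtain ⟨U, p, hpe, hps, -⟩ := hred
    obtain ⟨x⟩ : Nonempty (Points X) := inferInstance
    obtain ⟨t, -⟩ := AlgSpBasic.isSurjectiveMor_of_repWith_surjective p hps x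
    obtain ⟨u, -⟩ := (Points.schemeHomeo U).surjective t
    haveI : Nonempty ↥U.left := ⟨u⟩
    refine ⟨⟨0, 1, fun h01 => ?_⟩⟩
    have h1 : comp (0 : ↥(gsectEt (OEt X))) (EtOver.mk p hpe) = comp 1 (EtOver.mk p hpe) := by
      rw [h01]
    rw [comp_zero, comp_one] at h1
    haveI : Nonempty ↥(EtOver.mk p hpe).obj.left.left := ⟨u⟩
    haveI : Nonempty ↥(⊤ : (EtOver.mk p hpe).obj.left.left.Opens) := ⟨⟨u, trivial⟩⟩
    exact zero_ne_one h1
  haveI : NoZeroDivisors ↥(gsectEt (OEt X)) := by
    refine ⟨fun {f g} hfg => ?_⟩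
    have hsub := nonvanishing_inter_subset hXa f g
    rw [hfg, nonvanishing_zero] at hsub
    by_contra hne
    rw [not_or] at hne
    have hf : (nonvanishing f).Nonempty := by
      by_contra h
      rw [Set.not_nonempty_iff_eq_empty] at h
      exact hne.1 (key f fun E => basicOpen_eq_bot_of_nonvanishing_eq_empty f h E)
    have hg : (nonvanishing g).Nonempty := by
      by_contra h
      rw [Set.not_nonempty_iff_eq_empty] at h
      exact hne.2 (key g fun E => basicOpen_eq_bot_of_nonvanishing_eq_empty g h E)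
    obtain ⟨x, hx⟩ := nonempty_preirreducible_inter (isOpen_nonvanishing f)
      (isOpen_nonvanishing g) hf hg
    exact hsub hx
  exact IsDomain.mk

end Groth.Agent.Helper2.GSect
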