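import Mathlib
import Groth.Prelude.Def_AlgSpOX
import Groth.Agent.Lib.Helper2.AlgSp.GSect
import Groth.Agent.Lib.Helper2.AlgSp.EpiPullback

/-!
# Morphisms from an algebraic space to an affine scheme (helper2)
-/

set_option autoImplicit false
set_option backward.isDefEq.respectTransparency false
set_option linter.style.haveILetI false

open CategoryTheory CategoryTheory.Limits AlgebraicGeometry Opposite AlgSp

namespace Groth.Agent.Helper2.HomAffine
open Groth.Agent.Helper2.GSect Groth.Agent.Helper2.AlgSpBasic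
universe u

theorem exists_hom_appTop {E T : Scheme.{u}} [IsAffine T] (ψ : Γ(T, ⊤) ⟶ Γ(E, ⊤)) :
    ∃ g : E ⟶ T, g.appTop = ψ := by
  refine ⟨E.toSpecΓ ≫ Spec.map ψ ≫ T.isoSpec.inv, ?_⟩
  have h1 : T.isoSpec.inv.appTop = (Scheme.ΓSpecIso Γ(T, ⊤)).inv := by
    have h := congrArg Scheme.Hom.appTop (T.toSpecΓ_isoSpec_inv)
    rw [Scheme.Hom.comp_appTop, Scheme.toSpecΓ_appTop, Scheme.Hom.id_appTop] at h
    rw [← cancel_mono (Scheme.ΓSpecIso Γ(T, ⊤)).hom, Iso.inv_hom_id]
    exact h
  rw [Scheme.Hom.comp_appTop, Scheme.Hom.comp_appTop, h1, Scheme.toSpecΓ_appTop, Category.assoc,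
    Scheme.ΓSpecIso_naturality, Iso.inv_hom_id_assoc]

variable {S : Scheme.{u}}

/-- Descent of morphisms of sheaves along an epimorphism with a given kernel pair. -/
theorem exists_desc_of_isPullback {R U M G : Sp S} (s t : R ⟶ U) (q : U ⟶ M)
    (sq : IsPullback t s q q) [Epi q] (g : U ⟶ G) (hg : s ≫ g = t ≫ g) :
    ∃ f : M ⟶ G, q ≫ f = g := by
  have w : s ≫ q = t ≫ q := sq.w.symm
  haveI : IsIso (pullback.lift t s w.symm : R ⟶ pullback q q) := by
    have : pullback.lift t s w.symm = sq.isoPullback.hom := by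
      apply pullback.hom_ext <;> simp
    rw [this]
    infer_instance
  haveI := EpiPullback.isIso_coequalizer_desc s t q w
  refine ⟨inv (coequalizer.desc q w) ≫ coequalizer.desc g hg, ?_⟩
  have h1 : q ≫ inv (coequalizer.desc q w) = coequalizer.π s t := by
    rw [IsIso.comp_inv_eq, coequalizer.π_desc]
  rw [← Category.assoc, h1, coequalizer.π_desc]

variable {X : Sp S}

/-- S10246. -/
theorem main (hS : IsTerminal S) (hX : IsAlgSpace X) (T : Over S) [IsAffine T.left]
    (φ : Γ(T.left, ⊤) →+* ↥(gsectEt (OEt X))) :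
    ∃! f : X ⟶ (yon S).obj T,
      ∀ (E : EtOver X) (r : Γ(T.left, ⊤)),
        ((limit.π (OEt X).obj (op E)) (φ r)).down =
          ((yon S).preimage (E.obj.hom ≫ f)).left.appTop r := by
  have hex : ∀ E : EtOver X, ∃ g : E.obj.left ⟶ T,
      ∀ r : Γ(T.left, ⊤), g.left.appTop r = comp (φ r) E := by
    intro E
    let ψ : Γ(T.left, ⊤) →+* Γ(E.obj.left.left, ⊤) :=
      ((ULift.ringEquiv (R := Γ(E.obj.left.left, ⊤))).toRingHom.comp
        (limit.π (OEt X).obj (op E)).hom).comp φ
    obtain ⟨g₀, hg₀⟩ := exists_hom_appTop (E := E.obj.left.left) (T := T.left) (CommRingCat.ofHom ψ)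
    refine ⟨Over.homMk g₀ (hS.hom_ext _ _), fun r => ?_⟩
    show g₀.appTop r = _
    rw [hg₀]
    rfl
  choose g hg using hex
  have hext : ∀ (E : EtOver X) (h₁ h₂ : E.obj.left ⟶ T),
      (∀ r : Γ(T.left, ⊤), h₁.left.appTop r = h₂.left.appTop r) → h₁ = h₂ := by
    intro E h₁ h₂ h
    apply Over.OverMorphism.ext
    apply ext_of_isAffine
    ext r
    exact h r
  have compat : ∀ {E E' : EtOver X} (a : E ⟶ E'), a.hom.left ≫ g E' = g E := by
    intro E E' a
    apply hext
    intro r
    rw [hg, comp_map (φ r) a, ← hg]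
    rfl
  obtain ⟨U, p, hpe, hps⟩ := hX.atlas
  let E₀ : EtOver X := EtOver.mk p hpe
  haveI : Epi p := (Sheaf.isLocallySurjective_iff_epi p).mp
    (isLocallySurjective_of_etale_surjective p hpe hps)
  obtain ⟨W, a, b, sq⟩ := EtStalk.exists_fibre_product E₀ E₀
  have hgab : (yon S).map a.hom.left ≫ (yon S).map (g E₀) =
      (yon S).map b.hom.left ≫ (yon S).map (g E₀) := by
    rw [← Functor.map_comp, ← Functor.map_comp, compat a, compat b]
  obtain ⟨f, hf⟩ := exists_desc_of_isPullback ((yon S).map a.hom.left) ((yon S).map b.hom.left) p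
    sq ((yon S).map (g E₀)) hgab
  have key : ∀ (f' : X ⟶ (yon S).obj T), p ≫ f' = (yon S).map (g E₀) →
      ∀ E : EtOver X, (yon S).preimage (E.obj.hom ≫ f') = g E := by
    intro f' hf' E
    obtain ⟨W', a', b', sq'⟩ := EtStalk.exists_fibre_product E E₀
    haveI hs : Surjective a'.hom.left.left :=
      hps.property E.obj.hom ((yon S).map b'.hom.left) a'.hom.left sq'
    haveI : Etale a'.hom.left.left := EtOver.etale_left a'
    haveI : Epi a'.hom.left.left := Flat.epi_of_flat_of_surjective _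
    have h1 : a'.hom.left ≫ (yon S).preimage (E.obj.hom ≫ f') = a'.hom.left ≫ g E := by
      apply (yon S).map_injective
      rw [Functor.map_comp, Functor.map_preimage, ← Category.assoc, EtOver.w a', compat a',
        ← compat b', Functor.map_comp, ← hf', ← Category.assoc]
      congr 1
      exact (EtOver.w b').symm
    apply Over.OverMorphism.ext
    have h2 := congrArg (fun m => m.left) h1
    simp only [Over.comp_left] at h2
    exact (cancel_epi a'.hom.left.left).mp h2
  refine ⟨f, fun E r => ?_, fun f' hf' => ?_⟩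
  · rw [key f hf E, hg]
    rfl
  · have h1 : ∀ E : EtOver X, (yon S).preimage (E.obj.hom ≫ f') = g E := by
      intro E
      apply hext
      intro r
      rw [hg, ← hf' E r]
      rfl
    have h2 : p ≫ f' = (yon S).map (g E₀) := by
      rw [← h1 E₀, Functor.map_preimage]
      rfl
    rw [← cancel_epi p, h2, hf]

end Groth.Agent.Helper2.HomAffine
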