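import Mathlib
import Groth.Agent.Lib.Helper2.AlgSp.Mono
import Groth.Agent.Lib.Helper2.AlgSp.FiniteMor
import Groth.Agent.Lib.Helper2.AlgSp.HomAffine
import Groth.Agent.Lib.Helper2.Sch.AffQuot

/-!
# Representability of an algebraic space over an affine scheme, fpqc locally quasi-affine (helper2)

Let `X` be an algebraic space over an affine scheme `Z`, quasi-compact and separated over `Z`, and
`W j ⟶ Z` a finite jointly surjective family of flat morphisms of affine schemes such that each
`X ×_Z W j` is a quasi-affine scheme.  Then there is an affine scheme `T` over `Z` and a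
representable open immersion `X ⟶ T`.
-/

set_option autoImplicit false
set_option linter.style.haveILetI false

namespace Groth.Agent.Helper2.RepFpqc
open CategoryTheory CategoryTheory.Limits AlgebraicGeometry Opposite AlgSp
open Groth.Agent.Helper2.AlgSpBasic Groth.Agent.Helper2.EtaleLocal
universe u
variable {S : Scheme.{u}}

/-- A finite jointly surjective family of flat morphisms of affine schemes is an fpqc covering. -/
theorem isFpqcCover_yon_of_family {Z : Over S} (hZ : IsAffine Z.left) {m : ℕ}
    (W : Fin m → Over S) (c : ∀ j, W j ⟶ Z) (hW : ∀ j, IsAffine (W j).left)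
    (hc : ∀ j, Flat (c j).left) (hsurj : ∀ z : ↥Z.left, ∃ j, z ∈ Set.range (c j).left) :
    IsFpqcCover (fun i : ULift.{u} (Fin m) => (yon S).obj (W i.down))
      (fun i => (yon S).map (c i.down)) := by
  refine ⟨fun i => locP_of_repWith @Flat (IsAlgSpace.yon_obj _).diag _
    ((repWith_yon_map_iff _ _).2 (hc i.down)), ?_⟩
  intro Z' hZ' h
  obtain ⟨γ, rfl⟩ := (yon S).map_surjective h
  obtain ⟨h1, h2, h3⟩ := fpqcFamily_baseChange γ hZ hZ' W c hW hc hsurj
  refine ⟨m, fun j => pullback γ (c j), fun j => pullback.fst γ (c j), h1, h2, h3,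
    fun j => ⟨⟨j⟩, (yon S).map (pullback.snd γ (c j)), ?_⟩⟩
  rw [← Functor.map_comp, ← Functor.map_comp, pullback.condition]

theorem isAffineMor_yon_map' {W V : Over S} (g : W ⟶ V) (hg : IsAffineHom g.left) :
    IsAffineMor ((yon S).map g) := by
  intro Z hZ c
  obtain ⟨c', rfl⟩ := (yon S).map_surjective c
  haveI := hZ
  haveI := hg
  have sq := IsPullback.of_hasPullback g c'
  refine ⟨pullback g c', pullback.snd g c', (yon S).map (pullback.fst g c'), sq.map (yon S), ?_⟩
  have sq2 := (sq.map (Over.forget S)).flip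
  exact IsAffine.of_isPullback (X := Z.left) (f := c'.left) (g := g.left) sq2

set_option maxHeartbeats 1600000 in
/-- The core: an algebraic space quasi-compact and separated over an affine scheme which is fpqc
locally a quasi-affine scheme admits a representable open immersion into an affine scheme. -/
theorem exists_openImmersion_affine ⦃Z : Over S⦄ ⦃X : Sp S⦄ (f : X ⟶ (yon S).obj Z)
    (hZ : IsAffine Z.left) (hX : IsAlgSpace X)
    (hqc : IsQuasiCompactMor f) (hsep : IsSeparatedMor f)
    {m : ℕ} (W : Fin m → Over S) (c : ∀ j, W j ⟶ Z) (hW : ∀ j, IsAffine (W j).left)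
    (hc : ∀ j, Flat (c j).left) (hsurj : ∀ z : ↥Z.left, ∃ j, z ∈ Set.range (c j).left)
    (V : Fin m → Over S) (fst : ∀ j, (yon S).obj (V j) ⟶ X) (v : ∀ j, V j ⟶ W j)
    (sq : ∀ j, IsPullback (fst j) ((yon S).map (v j)) f ((yon S).map (c j)))
    (hV : ∀ j, (V j).left.IsQuasiAffine) :
    ∃ (T : Over S) (tZ : T ⟶ Z) (π : X ⟶ (yon S).obj T), IsAffine T.left ∧
      π ≫ (yon S).map tZ = f ∧ RepWith @IsOpenImmersion π := by
  haveI := hZ
  have hXq : IsQuasiCompactSp X := isQuasiCompactSp_of_isQuasiCompactMor_of_affine hZ f hqc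
  obtain ⟨U, p, hU, hpe, hps⟩ := (isQuasiCompactSp_iff_exists_affine_chart hX).mp hXq
  haveI := hU
  obtain ⟨uZ, huZ⟩ := (yon S).map_surjective (p ≫ f)
  -- `p` is affine
  have hpaff : IsAffineMor p := by
    rw [isAffineMor_iff_isAffQMor]
    refine isAffQMor_of_comp_of_isSeparatedMor ⊤ (fun _ _ => trivial) p f hsep ?_
    rw [← isAffineMor_iff_isAffQMor, ← huZ]
    exact isAffineMor_yon_map' uZ inferInstance
  obtain ⟨R, r₂, fstR, sqR, hR⟩ := hpaff hU p
  obtain ⟨r₁, rfl⟩ := (yon S).map_surjective fstR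
  haveI := hR
  have hr : r₁ ≫ uZ = r₂ ≫ uZ := by
    apply (yon S).map_injective
    rw [Functor.map_comp, Functor.map_comp, huZ, ← Category.assoc, ← Category.assoc, sqR.w]
  -- the affine quotient
  obtain ⟨T₀, e₀, tZ₀, hT₀, he₀, heq₀, hinj, hrange⟩ :=
    AffQuot.exists_affine_quot r₁.left r₂.left uZ.left
      (by rw [← Over.comp_left, ← Over.comp_left, hr])
  let T : Over S := Over.mk (tZ₀ ≫ Z.hom)
  let tZ : T ⟶ Z := Over.homMk tZ₀ rfl
  let e : U ⟶ T := Over.homMk e₀ (by
    show e₀ ≫ tZ₀ ≫ Z.hom = U.hom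
    rw [← Category.assoc, he₀]
    exact Over.w uZ)
  have hT : IsAffine T.left := hT₀
  have he : e ≫ tZ = uZ := by
    ext1
    exact he₀
  have heq : r₁ ≫ e = r₂ ≫ e := by
    ext1
    exact heq₀
  -- the morphism to the affine quotient
  haveI := isLocallySurjective_of_etale_surjective p hpe hps
  obtain ⟨π, hπ⟩ := HomAffine.exists_desc_of_isPullback ((yon S).map r₂) ((yon S).map r₁) p sqR
    ((yon S).map e) (by rw [← Functor.map_comp, ← Functor.map_comp, heq])
  have hπf : π ≫ (yon S).map tZ = f := by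
    rw [← cancel_epi p, ← Category.assoc, hπ, ← Functor.map_comp, he, huZ]
  refine ⟨T, tZ, π, hT, hπf, ?_⟩
  -- the base changes
  obtain ⟨hTWaff, hTWflat, hTWsurj⟩ := fpqcFamily_baseChange tZ hZ hT W c hW hc hsurj
  have hcov := isFpqcCover_yon_of_family hT (fun j => pullback tZ (c j))
    (fun j => pullback.fst tZ (c j)) hTWaff hTWflat hTWsurj
  -- the induced maps
  have key : ∀ j, ∃ ρ : V j ⟶ pullback tZ (c j),
      IsPullback (fst j) ((yon S).map ρ) π ((yon S).map (pullback.fst tZ (c j))) ∧
        IsOpenImmersion ρ.left := by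
    intro j
    haveI := hW j
    haveI := hc j
    haveI := hV j
    haveI := hTWaff j
    have sqU := IsPullback.of_hasPullback uZ (c j)
    have sqRW := IsPullback.of_hasPullback (r₁ ≫ uZ) (c j)
    have sqT := IsPullback.of_hasPullback tZ (c j)
    -- maps between the base changes
    obtain ⟨r₁', hr₁'⟩ : ∃ r₁' : pullback (r₁ ≫ uZ) (c j) ⟶ pullback uZ (c j),
        r₁' ≫ pullback.fst uZ (c j) = pullback.fst (r₁ ≫ uZ) (c j) ≫ r₁ ∧
          r₁' ≫ pullback.snd uZ (c j) = pullback.snd (r₁ ≫ uZ) (c j) :=
      ⟨pullback.lift (pullback.fst _ _ ≫ r₁) (pullback.snd _ _)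
        (by rw [Category.assoc]; exact pullback.condition), pullback.lift_fst _ _ _,
        pullback.lift_snd _ _ _⟩
    obtain ⟨r₂', hr₂'⟩ : ∃ r₂' : pullback (r₁ ≫ uZ) (c j) ⟶ pullback uZ (c j),
        r₂' ≫ pullback.fst uZ (c j) = pullback.fst (r₁ ≫ uZ) (c j) ≫ r₂ ∧
          r₂' ≫ pullback.snd uZ (c j) = pullback.snd (r₁ ≫ uZ) (c j) :=
      ⟨pullback.lift (pullback.fst _ _ ≫ r₂) (pullback.snd _ _)
        (by rw [Category.assoc, ← hr]; exact pullback.condition), pullback.lift_fst _ _ _,
        pullback.lift_snd _ _ _⟩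
    obtain ⟨e', he'⟩ : ∃ e' : pullback uZ (c j) ⟶ pullback tZ (c j),
        e' ≫ pullback.fst tZ (c j) = pullback.fst uZ (c j) ≫ e ∧
          e' ≫ pullback.snd tZ (c j) = pullback.snd uZ (c j) :=
      ⟨pullback.lift (pullback.fst _ _ ≫ e) (pullback.snd _ _)
        (by rw [Category.assoc, he]; exact pullback.condition), pullback.lift_fst _ _ _,
        pullback.lift_snd _ _ _⟩
    -- the chart of `V j`
    have hw : ((yon S).map (pullback.fst uZ (c j)) ≫ p) ≫ f =
        (yon S).map (pullback.snd uZ (c j)) ≫ (yon S).map (c j) := by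
      rw [Category.assoc, ← huZ, ← Functor.map_comp, ← Functor.map_comp, pullback.condition]
    obtain ⟨q, hq⟩ := (yon S).map_surjective ((sq j).lift _ _ hw)
    have hq1 : (yon S).map q ≫ fst j = (yon S).map (pullback.fst uZ (c j)) ≫ p := by
      rw [hq, (sq j).lift_fst]
    have hq2 : q ≫ v j = pullback.snd uZ (c j) := by
      apply (yon S).map_injective
      rw [Functor.map_comp, hq, (sq j).lift_snd]
    have sqq : IsPullback ((yon S).map (pullback.fst uZ (c j))) ((yon S).map q) p (fst j) := by
      refine (IsPullback.of_right ?_ hq1 (sq j).flip).flip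
      rw [← Functor.map_comp, hq2, ← huZ]
      exact (sqU.map (yon S)).flip
    have hqe : Etale q.left := hpe.property (fst j) _ q sqq
    have hqs : Surjective q.left := hps.property (fst j) _ q sqq
    haveI : Flat q.left := inferInstance
    have hqr : r₁' ≫ q = r₂' ≫ q := by
      apply (yon S).map_injective
      apply (sq j).hom_ext
      · rw [Functor.map_comp, Functor.map_comp, Category.assoc, Category.assoc, hq1,
          ← Category.assoc, ← Category.assoc, ← Functor.map_comp, ← Functor.map_comp,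
          hr₁'.1, hr₂'.1, Functor.map_comp, Functor.map_comp, Category.assoc, Category.assoc,
          sqR.w]
      · rw [← Functor.map_comp, ← Functor.map_comp, Category.assoc, Category.assoc, hq2,
          hr₁'.2, hr₂'.2]
    -- the map to the base changed quotient
    obtain ⟨g₀, hg₀⟩ := (yon S).map_surjective (fst j ≫ π)
    have hcond : g₀ ≫ tZ = v j ≫ c j := by
      apply (yon S).map_injective
      rw [Functor.map_comp, hg₀, Category.assoc, hπf, (sq j).w, Functor.map_comp]
    obtain ⟨ρ, hρ⟩ : ∃ ρ : V j ⟶ pullback tZ (c j),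
        ρ ≫ pullback.fst tZ (c j) = g₀ ∧ ρ ≫ pullback.snd tZ (c j) = v j :=
      ⟨pullback.lift g₀ (v j) hcond, pullback.lift_fst _ _ _, pullback.lift_snd _ _ _⟩
    have hqρ : q ≫ ρ = e' := by
      apply pullback.hom_ext
      · rw [Category.assoc, hρ.1, he'.1]
        apply (yon S).map_injective
        rw [Functor.map_comp, hg₀, ← Category.assoc, hq1, Category.assoc, hπ, Functor.map_comp]
      · rw [Category.assoc, hρ.2, he'.2, hq2]
    refine ⟨ρ, ?_, ?_⟩
    · refine (IsPullback.of_right ?_ ?_ (sqT.map (yon S)).flip).flip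
      · rw [← Functor.map_comp, hρ.2, hπf]
        exact (sq j).flip
      · rw [← Functor.map_comp, hρ.1, hg₀]
    · have hbc := AffQuot.quot_baseChange (c j).left uZ.left r₁.left r₂.left (r₁ ≫ uZ).left
        (by rw [Over.comp_left]) (by rw [← Over.comp_left, hr]) e.left tZ.left
        (by rw [← Over.comp_left, he]) (by rw [← Over.comp_left, ← Over.comp_left, heq])
        hinj hrange
        (pullback.fst uZ (c j)).left (pullback.snd uZ (c j)).left (sqU.map (Over.forget S))
        (pullback.fst (r₁ ≫ uZ) (c j)).left (pullback.snd (r₁ ≫ uZ) (c j)).left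
        (sqRW.map (Over.forget S))
        (pullback.fst tZ (c j)).left (pullback.snd tZ (c j)).left (sqT.map (Over.forget S))
        r₁'.left r₂'.left
        (by rw [← Over.comp_left, ← Over.comp_left, hr₁'.1])
        (by rw [← Over.comp_left, hr₁'.2])
        (by rw [← Over.comp_left, ← Over.comp_left, hr₂'.1])
        (by rw [← Over.comp_left, hr₂'.2])
        e'.left
        (by rw [← Over.comp_left, ← Over.comp_left, he'.1])
        (by rw [← Over.comp_left, he'.2])
      exact AffQuot.isOpenImmersion_of_quot r₁'.left r₂'.left e'.left hbc.1 hbc.2 q.left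
        (by rw [← Over.comp_left, ← Over.comp_left, hqr]) ρ.left
        (by rw [← Over.comp_left, hqρ])
  choose ρ hρsq hρoi using key
  have hloc := isLocalOnBase_fpqc_repWith_isOpenImmersion (S := S)
    (fun i : ULift.{u} (Fin m) => (yon S).obj (pullback tZ (c i.down)))
    (fun i => (yon S).map (pullback.fst tZ (c i.down)))
    (IsAlgSpace.yon_obj T) (fun i => IsAlgSpace.yon_obj _) hcov π hX
    (fun i => (yon S).obj (V i.down)) (fun i => (yon S).map (ρ i.down)) (fun i => fst i.down)
    (fun i => IsAlgSpace.yon_obj _) (fun i => hρsq i.down)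
  exact hloc.mpr fun i => (repWith_yon_map_iff _ _).2 (hρoi i.down)

end Groth.Agent.Helper2.RepFpqc
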