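import Mathlib
import Groth.Agent.S0083
import Groth.Agent.Lib.Helper2.AlgSp.RepFpqc
import Groth.Agent.Lib.Helper2.AlgSp.FinLocFree
import Groth.Agent.Lib.Helper2.AlgSp.ZarGlue

/-!
# fpqc locality on the base of affine, integral, quasi-affine morphisms and quasi-compact
immersions of algebraic spaces (helper2)
-/

set_option autoImplicit false
set_option linter.style.haveILetI false

namespace Groth.Agent.Helper2.FpqcAffine
open CategoryTheory CategoryTheory.Limits AlgebraicGeometry Opposite AlgSp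
open Groth.Agent.Helper2.AlgSpBasic Groth.Agent.Helper2.EtaleLocal Groth.Agent.Helper2.RepFpqc
universe u
variable {S : Scheme.{u}}

/-- Quasi-compactness descends along a finite flat jointly surjective affine family. -/
theorem isQuasiCompactMor_of_family ⦃Z : Over S⦄ ⦃X : Sp S⦄ (f : X ⟶ (yon S).obj Z)
    (hZ : IsAffine Z.left) (hX : IsAlgSpace X) {m : ℕ} (W : Fin m → Over S) (c : ∀ j, W j ⟶ Z)
    (hW : ∀ j, IsAffine (W j).left) (hc : ∀ j, Flat (c j).left)
    (hsurj : ∀ z : ↥Z.left, ∃ j, z ∈ Set.range (c j).left)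
    (Xj : Fin m → Sp S) (fst : ∀ j, Xj j ⟶ X) (snd : ∀ j, Xj j ⟶ (yon S).obj (W j))
    (hXj : ∀ j, IsAlgSpace (Xj j)) (sq : ∀ j, IsPullback (fst j) (snd j) f ((yon S).map (c j)))
    (h : ∀ j, IsQuasiCompactMor (snd j)) : IsQuasiCompactMor f :=
  (isLocalOnBase_fpqc_isQuasiCompactMor (S := S) _ _ (IsAlgSpace.yon_obj Z)
    (fun _ => IsAlgSpace.yon_obj _) (isFpqcCover_yon_of_family hZ W c hW hc hsurj) f hX
    (fun i => Xj i.down) (fun i => snd i.down) (fun i => fst i.down) (fun i => hXj i.down)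
    (fun i => sq i.down)).mpr (fun i => h i.down)

/-- Separatedness descends along a finite flat jointly surjective affine family. -/
theorem isSeparatedMor_of_family ⦃Z : Over S⦄ ⦃X : Sp S⦄ (f : X ⟶ (yon S).obj Z)
    (hZ : IsAffine Z.left) (hX : IsAlgSpace X) {m : ℕ} (W : Fin m → Over S) (c : ∀ j, W j ⟶ Z)
    (hW : ∀ j, IsAffine (W j).left) (hc : ∀ j, Flat (c j).left)
    (hsurj : ∀ z : ↥Z.left, ∃ j, z ∈ Set.range (c j).left)
    (Xj : Fin m → Sp S) (fst : ∀ j, Xj j ⟶ X) (snd : ∀ j, Xj j ⟶ (yon S).obj (W j))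
    (hXj : ∀ j, IsAlgSpace (Xj j)) (sq : ∀ j, IsPullback (fst j) (snd j) f ((yon S).map (c j)))
    (h : ∀ j, IsSeparatedMor (snd j)) : IsSeparatedMor f := by
  haveI := Groth.Agent.S0083.result.{u}
  exact ((isLocalOnBase_fpqc_diagonal @IsClosedImmersion (S := S)) _ _ (IsAlgSpace.yon_obj Z)
    (fun i => IsAlgSpace.yon_obj _) (isFpqcCover_yon_of_family hZ W c hW hc hsurj) f hX
    (fun i => Xj i.down) (fun i => snd i.down) (fun i => fst i.down) (fun i => hXj i.down)
    (fun i => sq i.down)).mpr (fun i => h i.down)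

/-- Representability of a morphism to an affine scheme which is, after base change along a finite
flat jointly surjective affine family, a morphism from a quasi-affine scheme. -/
theorem exists_factor_of_family ⦃Z : Over S⦄ ⦃X : Sp S⦄ (f : X ⟶ (yon S).obj Z)
    (hZ : IsAffine Z.left) (hX : IsAlgSpace X) {m : ℕ} (W : Fin m → Over S) (c : ∀ j, W j ⟶ Z)
    (hW : ∀ j, IsAffine (W j).left) (hc : ∀ j, Flat (c j).left)
    (hsurj : ∀ z : ↥Z.left, ∃ j, z ∈ Set.range (c j).left)
    (V : Fin m → Over S) (fst : ∀ j, (yon S).obj (V j) ⟶ X) (v : ∀ j, V j ⟶ W j)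
    (sq : ∀ j, IsPullback (fst j) ((yon S).map (v j)) f ((yon S).map (c j)))
    (hV : ∀ j, (V j).left.IsQuasiAffine) :
    IsQuasiCompactMor f ∧ ∃ (T : Over S) (tZ : T ⟶ Z) (π : X ⟶ (yon S).obj T), IsAffine T.left ∧
      π ≫ (yon S).map tZ = f ∧ RepWith @IsOpenImmersion π := by
  have hqcj : ∀ j, IsQuasiCompactMor ((yon S).map (v j)) := fun j => by
    haveI := hV j
    haveI := hW j
    exact isQuasiCompactMor_of_repWith (IsAlgSpace.yon_obj _) (IsAlgSpace.yon_obj _).diag _
      ((repWith_yon_map_iff _ _).2 (inferInstance : QuasiCompact (v j).left))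
  have hsepj : ∀ j, IsSeparatedMor ((yon S).map (v j)) := fun j => by
    haveI := hV j
    exact (isSeparatedMor_yon_map_iff _).2 (inferInstance : IsSeparated (v j).left)
  have hqc := isQuasiCompactMor_of_family f hZ hX W c hW hc hsurj _ fst _
    (fun j => IsAlgSpace.yon_obj _) sq hqcj
  have hsep := isSeparatedMor_of_family f hZ hX W c hW hc hsurj _ fst _
    (fun j => IsAlgSpace.yon_obj _) sq hsepj
  exact ⟨hqc, exists_openImmersion_affine f hZ hX hqc hsep W c hW hc hsurj V fst v sq hV⟩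

theorem representable_of_factor {Z T : Over S} {X : Sp S} (f : X ⟶ (yon S).obj Z) (tZ : T ⟶ Z)
    (π : X ⟶ (yon S).obj T) (hπf : π ≫ (yon S).map tZ = f) (hπ : RepWith @IsOpenImmersion π) :
    Representable f := by
  rw [← hπf]
  exact (Representable (S := S)).comp_mem _ _ hπ.rep
    ((repWith_yon_map_iff (⊤ : MorphismProperty Scheme.{u}) tZ).2 trivial).rep

/-- fpqc descent over an affine base for `IsAffQMor Q`. -/
theorem isAffQMor_fpqc_desc (Q : MorphismProperty Scheme.{u}) (hQ : Q ≤ @IsAffineHom)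
    [Q.IsStableUnderBaseChange] [IsZariskiLocalAtTarget Q]
    [Q.DescendsAlong (@Surjective ⊓ @Flat ⊓ @QuasiCompact : MorphismProperty Scheme.{u})]
    ⦃Z : Over S⦄ ⦃X : Sp S⦄ (f : X ⟶ (yon S).obj Z) (hZ : IsAffine Z.left) (hX : IsAlgSpace X)
    (m : ℕ) (W : Fin m → Over S) (c : ∀ j, W j ⟶ Z) (hW : ∀ j, IsAffine (W j).left)
    (hc : ∀ j, Flat (c j).left) (hsurj : ∀ z : ↥Z.left, ∃ j, z ∈ Set.range (c j).left)
    (Xj : Fin m → Sp S) (fst : ∀ j, Xj j ⟶ X) (snd : ∀ j, Xj j ⟶ (yon S).obj (W j))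
    (sq : ∀ j, IsPullback (fst j) (snd j) f ((yon S).map (c j)))
    (h : ∀ j, IsAffQMor Q (snd j)) : IsAffQMor Q f := by
  have key : ∀ j, ∃ (V : Over S) (v : V ⟶ W j) (fst' : (yon S).obj V ⟶ X),
      IsPullback fst' ((yon S).map v) f ((yon S).map (c j)) ∧ IsAffine V.left ∧ Q v.left := by
    intro j
    obtain ⟨V, v, fst', sqV, hV, hQv⟩ := h j (hW j) (𝟙 _)
    refine ⟨V, v, fst' ≫ fst j, ?_, hV, hQv⟩
    have := sqV.paste_horiz (sq j)
    rwa [Category.id_comp] at this
  choose V v fst' sq' hV hQv using key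
  obtain ⟨-, T, tZ, π, hT, hπf, hπ⟩ := exists_factor_of_family f hZ hX W c hW hc hsurj V fst' v
    sq' (fun j => by haveI := hV j; infer_instance)
  have hrep := representable_of_factor f tZ π hπf hπ
  exact Groth.Agent.Helper2.FinLocFree.isAffQMor_of_repWith Q hQ
    (repWith_fpqc_desc Q f hZ hrep m W c hW hc hsurj _ fst' _ sq'
      (fun j => (repWith_yon_map_iff _ _).2 (hQv j)))

/-- Affine morphisms whose affine base changes have a property `Q` satisfying fpqc descent are
fpqc local on the base. -/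
theorem isLocalOnBase_fpqc_isAffQMor (Q : MorphismProperty Scheme.{u}) (hQ : Q ≤ @IsAffineHom)
    [Q.IsStableUnderBaseChange] [IsZariskiLocalAtTarget Q]
    [Q.DescendsAlong (@Surjective ⊓ @Flat ⊓ @QuasiCompact : MorphismProperty Scheme.{u})] :
    IsLocalOnBase (IsFpqcCover (S := S)) (IsAffQMor Q) := by
  refine isLocalOnBase_fpqc_of_desc (IsAffQMor Q) ?_ ?_ ?_
  · intro X Y X' Y' f g f' g' _ _ _ _ sq hf
    exact isAffQMor_of_isPullback Q sq hf
  · intro X Y f hX hY h Z hZ g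
    have sqP := IsPullback.of_hasPullback f g
    have hP : IsAlgSpace (pullback f g) :=
      isAlgSpace_of_isPullback hY.diag hX (IsAlgSpace.yon_obj Z) f g _ _ sqP
    obtain ⟨W, i, fst', sqW, hW, hQi⟩ := h Z hZ g _ _ _ hP sqP hZ (𝟙 _)
    refine ⟨W, i, fst' ≫ pullback.fst f g, ?_, hW, hQi⟩
    have := sqW.paste_horiz sqP
    rwa [Category.id_comp] at this
  · intro Z X f hZ hX m W c hW hc hsurj Xj fst snd _ sq h
    exact isAffQMor_fpqc_desc Q hQ f hZ hX m W c hW hc hsurj Xj fst snd sq h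

theorem isAffineMor_iff_isAffQMor_isAffineHom {X Y : Sp S} (f : X ⟶ Y) :
    IsAffineMor f ↔ IsAffQMor @IsAffineHom f := by
  constructor
  · intro h Z hZ g
    obtain ⟨W, i, fst, sq, hW⟩ := h hZ g
    haveI := hZ
    haveI := hW
    exact ⟨W, i, fst, sq, hW, inferInstance⟩
  · intro h Z hZ g
    obtain ⟨W, i, fst, sq, hW, -⟩ := h hZ g
    exact ⟨W, i, fst, sq, hW⟩

/-- `S10533`. -/
theorem isLocalOnBase_fpqc_isAffineMor
    [MorphismProperty.DescendsAlong (@IsAffineHom : MorphismProperty Scheme.{u})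
      (@Surjective ⊓ @Flat ⊓ @QuasiCompact : MorphismProperty Scheme.{u})] :
    IsLocalOnBase (IsFpqcCover (S := S)) IsAffineMor :=
  isLocalOnBase_congr (fun _ _ f _ _ => (isAffineMor_iff_isAffQMor_isAffineHom f).symm)
    (isLocalOnBase_fpqc_isAffQMor @IsAffineHom le_rfl)

/-- `S10539`. -/
theorem isLocalOnBase_fpqc_isIntegralMor
    [MorphismProperty.DescendsAlong (@IsIntegralHom : MorphismProperty Scheme.{u})
      (@Surjective ⊓ @Flat ⊓ @QuasiCompact : MorphismProperty Scheme.{u})] :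
    IsLocalOnBase (IsFpqcCover (S := S)) IsIntegralMor :=
  isLocalOnBase_fpqc_isAffQMor @IsIntegralHom
    (fun _ _ f (hf : IsIntegralHom f) => (inferInstance : IsAffineHom f))

end Groth.Agent.Helper2.FpqcAffine
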