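import Mathlib
import Groth.Prelude.Def_AlgSp4
import Groth.Agent.S0082
import Groth.Agent.Lib.Helper2.EtaleLocal
import Groth.Agent.Lib.Helper2.AlgSp.AffLocal
import Groth.Agent.Lib.Helper2.AlgSp.FpqcAffine
import Groth.Agent.Lib.Helper2.AlgSp.Diag

/-!
# Morphisms from Artinian spectra to quasi-separated algebraic spaces are affine (helper2)
-/

set_option autoImplicit false
set_option linter.style.haveILetI false
universe u
open CategoryTheory CategoryTheory.Limits AlgebraicGeometry Opposite AlgSp
open Groth.Agent.Helper2.AlgSpBasic Groth.Agent.Helper2.EtaleLocal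

namespace Groth.Agent.Helper2.ArtinAffine

/-- A quasi-compact scheme étale over the spectrum of an Artinian ring is affine. -/
theorem isAffine_of_etale_artinian {W : Scheme.{u}} {A : Type u} [CommRing A] [IsArtinianRing A]
    (f : W ⟶ Spec (CommRingCat.of A)) [Etale f] [CompactSpace W] : IsAffine W := by
  haveI : LocallyQuasiFinite f := Groth.Agent.Helper2.EtaleLocal.locallyQuasiFinite_of_etale f
  haveI : DiscreteTopology (Spec (CommRingCat.of A)) :=
    inferInstanceAs (DiscreteTopology (PrimeSpectrum A))
  have h1 : _root_.IsDiscrete (f ⁻¹' (Set.univ : Set (Spec (CommRingCat.of A)))) :=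
    f.isDiscrete_preimage (isDiscrete_univ_iff.mpr inferInstance)
  rw [Set.preimage_univ] at h1
  haveI : DiscreteTopology W := isDiscrete_univ_iff.mp h1
  haveI : Finite W := finite_of_compact_of_discrete
  infer_instance

variable {S : Scheme.{u}}

/-- **S9945** core. -/
theorem isAffineMor_of_artinian [QuasiSeparatedSpace ↥S] {X : Sp S} (hX : IsAlgSpace X)
    (hqs : IsQuasiSeparatedSp X) (A : Type u) [CommRing A] [IsArtinianRing A]
    (str : Spec (CommRingCat.of A) ⟶ S) (a : (yon S).obj (Over.mk str) ⟶ X) :
    IsAffineMor a := by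
  haveI : MorphismProperty.DescendsAlong (@IsAffineHom : MorphismProperty Scheme.{u})
      (@Surjective ⊓ @Flat ⊓ @QuasiCompact : MorphismProperty Scheme.{u}) :=
    Groth.Agent.S0082.result.{u}
  rw [Groth.Agent.Helper2.FpqcAffine.isAffineMor_iff_isAffQMor_isAffineHom]
  refine Groth.Agent.Helper2.AffLocal.isAffQMor_of_etale_affine_charts @IsAffineHom le_rfl hX a ?_
  intro V hV b hbe
  haveI := hV
  obtain ⟨W, w₁, w₂, sqW⟩ := exists_isPullback_yon hX.diag a b
  haveI : Etale w₁.left := hbe.property a _ _ sqW.flip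
  haveI : CompactSpace ↥(Over.mk str).left :=
    inferInstanceAs (CompactSpace ↥(Spec (CommRingCat.of A)))
  haveI : CompactSpace ↥W.left :=
    compactSpace_of_isPullback_of_isQuasiSeparatedSp hqs (Over.mk str) V W a b w₁ w₂ sqW
  haveI : IsAffine W.left := isAffine_of_etale_artinian (A := A) w₁.left
  refine ⟨W, w₂, (yon S).map w₁, sqW, ?_⟩
  show IsAffineHom w₂.left
  infer_instance

end Groth.Agent.Helper2.ArtinAffine
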