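import Mathlib
import Groth.Prelude.Def_AlgSp4
import Groth.Agent.Lib.Helper2.AlgSp.Basic
import Groth.Agent.Lib.Helper2.AlgSp.ZarGlue

/-!
# Change of the base scheme for algebraic spaces (helper2)

For `g : S ⟶ S'`, the restriction functor `j⁻¹` from sheaves on `Sch/S'` to sheaves on `Sch/S`.
-/

set_option autoImplicit false
open CategoryTheory CategoryTheory.Limits AlgebraicGeometry Opposite AlgSp
open Groth.Agent.Helper2.AlgSpBasic

namespace Groth.Agent.Helper2.BaseCh
universe u
variable {S S' : Scheme.{u}} (g : S ⟶ S')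

/-- The restriction functor `j⁻¹`. -/
abbrev jInv : Sp S' ⥤ Sp S := Scheme.fppfTopology.overMapPullback (Type (u + 1)) g

/-- Transposition: a map `h_T ⟶ j⁻¹ F'` is a section of `F'` over `T` viewed over `S'`. -/
noncomputable def tr {T : Over S} {F' : Sp S'} (a : (yon S).obj T ⟶ (jInv g).obj F') :
    (yon S').obj ((Over.map g).obj T) ⟶ F' :=
  (J S').uliftYonedaEquiv.symm ((J S).uliftYonedaEquiv a)

/-- Inverse transposition. -/
noncomputable def trInv {T : Over S} {F' : Sp S'}
    (a' : (yon S').obj ((Over.map g).obj T) ⟶ F') : (yon S).obj T ⟶ (jInv g).obj F' :=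
  (J S).uliftYonedaEquiv.symm ((J S').uliftYonedaEquiv a')

@[simp]
theorem tr_trInv {T : Over S} {F' : Sp S'} (a' : (yon S').obj ((Over.map g).obj T) ⟶ F') :
    tr g (trInv g a') = a' := by
  simp [tr, trInv]

@[simp]
theorem trInv_tr {T : Over S} {F' : Sp S'} (a : (yon S).obj T ⟶ (jInv g).obj F') :
    trInv g (tr g a) = a := by
  simp [tr, trInv]

theorem tr_injective {T : Over S} {F' : Sp S'} :
    Function.Injective (tr g (T := T) (F' := F')) := fun a b h => by
  rw [← trInv_tr g a, ← trInv_tr g b, h]

/-- Naturality of transposition in the scheme. -/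
theorem tr_map_comp {T Z : Over S} {F' : Sp S'} (h : Z ⟶ T)
    (a : (yon S).obj T ⟶ (jInv g).obj F') :
    tr g ((yon S).map h ≫ a) = (yon S').map ((Over.map g).map h) ≫ tr g a := by
  unfold tr
  rw [GrothendieckTopology.uliftYonedaEquiv_symm_naturality_left]
  congr 1
  rw [← GrothendieckTopology.uliftYonedaEquiv_naturality]
  rfl

/-- Naturality of transposition in the sheaf. -/
theorem tr_comp_map {T : Over S} {F' G' : Sp S'} (a : (yon S).obj T ⟶ (jInv g).obj F')
    (c' : F' ⟶ G') : tr g (a ≫ (jInv g).map c') = tr g a ≫ c' := by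
  unfold tr
  rw [GrothendieckTopology.uliftYonedaEquiv_symm_naturality_right]
  congr 1


section PullbackAlong

variable {V : Over S} {W' : Over S'} (snd' : W' ⟶ (Over.map g).obj V)

/-- A scheme over `S'` mapping to `V` viewed over `S'`, as a scheme over `S`. -/
abbrev overOf : Over S := Over.mk (snd'.left ≫ V.hom)

/-- The projection to `V`, over `S`. -/
abbrev overOfSnd : overOf g snd' ⟶ V := Over.homMk snd'.left rfl

/-- Viewed over `S'` again this is the original scheme. -/
noncomputable def overOfIso : (Over.map g).obj (overOf g snd') ≅ W' :=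
  Over.isoMk (Iso.refl _) (by
    have := Over.w snd'
    simp only [Over.map_obj_hom, Over.mk_hom] at this ⊢
    simpa using this.symm)

@[simp]
theorem overOfIso_hom_left : (overOfIso g snd').hom.left = 𝟙 _ := rfl

theorem overOfIso_hom_snd : (overOfIso g snd').hom ≫ snd' = (Over.map g).map (overOfSnd g snd') := by
  apply Over.OverMorphism.ext
  simp

theorem map_homMk_comp_overOfIso {Q : Over S} (l₀ : (Over.map g).obj Q ⟶ W')
    (h : l₀.left ≫ snd'.left ≫ V.hom = Q.hom) :
    (Over.map g).map (Over.homMk l₀.left h : Q ⟶ overOf g snd') ≫ (overOfIso g snd').hom = l₀ := by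
  apply Over.OverMorphism.ext
  simp

/-- Base change of `j⁻¹(c')` along a map from a scheme over `S`: computed by the base change
of `c'` along the transposed map. -/
theorem isPullback_jInv_map {G' F' : Sp S'} (c' : G' ⟶ F')
    (b : (yon S).obj V ⟶ (jInv g).obj F') (fst' : (yon S').obj W' ⟶ G')
    (sq : IsPullback fst' ((yon S').map snd') c' (tr g b)) :
    IsPullback (trInv g ((yon S').map (overOfIso g snd').hom ≫ fst'))
      ((yon S).map (overOfSnd g snd')) ((jInv g).map c') b := by
  refine Groth.Agent.Helper2.ZarGlue.isPullback_of_yon ?_ ?_ ?_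
  · apply tr_injective g
    rw [tr_comp_map, tr_trInv, tr_map_comp, Category.assoc, sq.w, ← Category.assoc,
      ← Functor.map_comp, overOfIso_hom_snd]
  · intro Q α β hαβ
    obtain ⟨β₀, rfl⟩ := (yon S).map_surjective β
    have h1 : tr g α ≫ c' = (yon S').map ((Over.map g).map β₀) ≫ tr g b := by
      rw [← tr_comp_map, hαβ, tr_map_comp]
    obtain ⟨l₀, hl₀⟩ := (yon S').map_surjective (sq.lift _ _ h1)
    have hl1 : (yon S').map l₀ ≫ fst' = tr g α := by rw [hl₀, sq.lift_fst]
    have hl2 : l₀ ≫ snd' = (Over.map g).map β₀ := by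
      apply (yon S').map_injective
      rw [Functor.map_comp, hl₀, sq.lift_snd]
    have hl3 : l₀.left ≫ snd'.left = β₀.left := by
      have := congrArg CommaMorphism.left hl2
      simpa using this
    have hQ : l₀.left ≫ snd'.left ≫ V.hom = Q.hom := by
      rw [← Category.assoc, hl3, Over.w]
    refine ⟨(yon S).map (Over.homMk l₀.left hQ : Q ⟶ overOf g snd'), ?_, ?_⟩
    · apply tr_injective g
      rw [tr_map_comp, tr_trInv, ← Category.assoc, ← Functor.map_comp,
        map_homMk_comp_overOfIso, hl1]
    · rw [← Functor.map_comp]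
      congr 1
      apply Over.OverMorphism.ext
      simpa using hl3
  · intro Q l l' h1 h2
    obtain ⟨l₀, rfl⟩ := (yon S).map_surjective l
    obtain ⟨l₀', rfl⟩ := (yon S).map_surjective l'
    rw [← Functor.map_comp, ← Functor.map_comp] at h2
    have h2' := (yon S).map_injective h2
    have h1' := congrArg (tr g) h1
    rw [tr_map_comp, tr_map_comp, tr_trInv, ← Category.assoc, ← Category.assoc,
      ← Functor.map_comp, ← Functor.map_comp] at h1'
    have h3 : (yon S').map ((Over.map g).map l₀ ≫ (overOfIso g snd').hom) =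
        (yon S').map ((Over.map g).map l₀' ≫ (overOfIso g snd').hom) := by
      apply sq.hom_ext h1'
      rw [← Functor.map_comp, ← Functor.map_comp, Category.assoc, Category.assoc,
        overOfIso_hom_snd, ← Functor.map_comp, ← Functor.map_comp, h2']
    have h4 := (yon S').map_injective h3
    rw [cancel_mono] at h4
    congr 1
    apply Over.OverMorphism.ext
    have := congrArg CommaMorphism.left h4
    simpa using this

end PullbackAlong


/-- `j⁻¹` preserves representable morphisms with a property. -/
theorem repWith_jInv_map (P : MorphismProperty Scheme.{u}) [P.RespectsIso] {G' F' : Sp S'}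
    {c' : G' ⟶ F'} (hc' : RepWith P c') : RepWith P ((jInv g).map c') := by
  refine MorphismProperty.relative.of_exists fun V b => ?_
  obtain ⟨W', snd', fst', sq⟩ := hc'.rep (tr g b)
  exact ⟨overOf g snd', _, overOfSnd g snd', isPullback_jInv_map g snd' c' b fst' sq,
    hc'.property _ fst' snd' sq⟩

/-- `j⁻¹` preserves representable morphisms. -/
theorem representable_jInv_map {G' F' : Sp S'} {c' : G' ⟶ F'} (hc' : Representable c') :
    Representable ((jInv g).map c') := by
  intro V b
  obtain ⟨W', snd', fst', sq⟩ := hc' (tr g b)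
  exact ⟨overOf g snd', overOfSnd g snd', _, isPullback_jInv_map g snd' c' b fst' sq⟩

/-- `j⁻¹ h_{X'}` is represented by `X' ×_{S'} S`. -/
noncomputable def representableByJInvYon (X' : Over S') :
    ((jInv g).obj ((yon S').obj X')).obj.RepresentableBy (Over.mk (pullback.snd X'.hom g)) where
  homEquiv {T} := ((Over.mapPullbackAdj g).homEquiv T X').symm.trans Equiv.ulift.symm
  homEquiv_comp {T T'} f h := by
    apply ULift.ext
    exact (Over.mapPullbackAdj g).homEquiv_naturality_left_symm f h

/-- The corresponding isomorphism of sheaves. -/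
noncomputable def jInvYonIso (X' : Over S') :
    (yon S).obj (Over.mk (pullback.snd X'.hom g)) ≅ (jInv g).obj ((yon S').obj X') :=
  AlgSp.isoOfRepresentableBy (representableByJInvYon g X')

/-- Every map from a scheme over `S` to `j⁻¹ F'` factors through `j⁻¹` of its transpose. -/
theorem trInv_id_comp {T : Over S} {F' : Sp S'} (a : (yon S).obj T ⟶ (jInv g).obj F') :
    trInv g (𝟙 ((yon S').obj ((Over.map g).obj T))) ≫ (jInv g).map (tr g a) = a := by
  apply tr_injective g
  rw [tr_comp_map, tr_trInv, Category.id_comp]

theorem representable_trInv_id (T : Over S) :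
    Representable (trInv g (𝟙 ((yon S').obj ((Over.map g).obj T)))) := by
  set ι := trInv g (𝟙 ((yon S').obj ((Over.map g).obj T)))
  set e := jInvYonIso g ((Over.map g).obj T)
  obtain ⟨h, hh⟩ := (yon S).map_surjective (ι ≫ e.inv)
  have h1 : Representable ((yon S).map h) := Functor.relativelyRepresentable.map (yon S) h
  have h2 : ι = (yon S).map h ≫ e.hom := by rw [hh, Category.assoc, Iso.inv_hom_id, Category.comp_id]
  rw [h2]
  exact MorphismProperty.RespectsIso.postcomp _ e.hom _ h1

/-- `j⁻¹` of an algebraic space is an algebraic space. -/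
theorem isAlgSpace_jInv {F' : Sp S'} (hF' : IsAlgSpace F') : IsAlgSpace ((jInv g).obj F') where
  diag := (Functor.relativelyRepresentable.diag_iff).mpr (fun T a => by
    rw [← trInv_id_comp g a]
    exact (Representable (S := S)).comp_mem _ _ (representable_trInv_id g T)
      (representable_jInv_map g (hF'.representable_from_yon (tr g a))))
  atlas := by
    obtain ⟨U', φ', he, hs⟩ := hF'.atlas
    refine ⟨Over.mk (pullback.snd U'.hom g), (jInvYonIso g U').hom ≫ (jInv g).map φ', ?_, ?_⟩
    · exact MorphismProperty.RespectsIso.precomp _ (jInvYonIso g U').hom _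
        (repWith_jInv_map g @Etale he)
    · exact MorphismProperty.RespectsIso.precomp _ (jInvYonIso g U').hom _
        (repWith_jInv_map g @Surjective hs)

end Groth.Agent.Helper2.BaseCh
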