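import Mathlib
import Groth.Prelude.Def_AlgSp4
import Groth.Agent.Lib.Helper2.AlgSp.BaseCh
import Groth.Agent.Lib.Helper2.AlgSp.Diag

/-!
# Change of the base scheme, II: `j⁻¹ F'` versus `h_S × F'` (helper2)
-/

set_option autoImplicit false
open CategoryTheory CategoryTheory.Limits AlgebraicGeometry Opposite AlgSp
open Groth.Agent.Helper2.AlgSpBasic

namespace Groth.Agent.Helper2.BaseCh
universe u
variable {S S' : Scheme.{u}} (g : S ⟶ S')

section Abstract

variable {C : Type*} [Category C] [HasBinaryProducts C]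

/-- The fibre of a projection over a point. -/
theorem isPullback_point_prod {A B T : C} (hT : IsTerminal T) (σ : T ⟶ A) :
    IsPullback (prod.lift (hT.from B ≫ σ) (𝟙 B)) (hT.from B) (prod.fst : A ⨯ B ⟶ A) σ := by
  refine IsPullback.of_isLimit' ⟨by rw [prod.lift_fst]⟩ ?_
  refine PullbackCone.IsLimit.mk _ (fun s => s.fst ≫ prod.snd) (fun s => ?_) (fun s => ?_)
    (fun s m h1 h2 => ?_)
  · apply Limits.prod.hom_ext
    · rw [Category.assoc, prod.lift_fst, s.condition, ← Category.assoc]
      congr 1
      exact hT.hom_ext _ _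
    · rw [Category.assoc, prod.lift_snd, Category.comp_id]
  · exact hT.hom_ext _ _
  · rw [← h1, Category.assoc, prod.lift_snd, Category.comp_id]

end Abstract

/-- The structure morphism of a scheme over `S`, as a morphism of schemes over `S'` to `S`. -/
abbrev strMap (U : Over S) : (Over.map g).obj U ⟶ Over.mk g := Over.homMk U.hom rfl

/-- The scheme over `S` determined by a morphism to `S` over `S'`. -/
abbrev overOfStr {T' : Over S'} (τ : T' ⟶ Over.mk g) : Over S := Over.mk τ.left

/-- Viewed over `S'` again this is the original scheme. -/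
noncomputable def overOfStrIso {T' : Over S'} (τ : T' ⟶ Over.mk g) :
    (Over.map g).obj (overOfStr g τ) ≅ T' :=
  Over.isoMk (Iso.refl _) (by
    have := Over.w τ
    simp only [Over.map_obj_hom, Over.mk_hom] at this ⊢
    simpa using this.symm)

@[simp]
theorem overOfStrIso_hom_left {T' : Over S'} (τ : T' ⟶ Over.mk g) :
    (overOfStrIso g τ).hom.left = 𝟙 _ := rfl

@[simp]
theorem overOfStrIso_inv_left {T' : Over S'} (τ : T' ⟶ Over.mk g) :
    (overOfStrIso g τ).inv.left = 𝟙 _ := rfl

theorem overOfStrIso_inv_strMap {T' : Over S'} (τ : T' ⟶ Over.mk g) :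
    (overOfStrIso g τ).inv ≫ strMap g (overOfStr g τ) = τ := by
  apply Over.OverMorphism.ext
  simp

/-- The map `h_U ⟶ h_S × F'` over `S'` attached to `a : h_U ⟶ j⁻¹ F'`. -/
noncomputable def psi {U : Over S} {F' : Sp S'} (a : (yon S).obj U ⟶ (jInv g).obj F') :
    (yon S').obj ((Over.map g).obj U) ⟶ (yon S').obj (Over.mk g) ⨯ F' :=
  prod.lift ((yon S').map (strMap g U)) (tr g a)

/-- Every map from a scheme to `h_S × F'` is of the form `psi`. -/
theorem exists_eq_psi {T' : Over S'} {F' : Sp S'}
    (γ : (yon S').obj T' ⟶ (yon S').obj (Over.mk g) ⨯ F') :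
    ∃ (T : Over S) (e : (Over.map g).obj T ≅ T') (b : (yon S).obj T ⟶ (jInv g).obj F'),
      γ = (yon S').map e.inv ≫ psi g b := by
  obtain ⟨τ, hτ⟩ := (yon S').map_surjective (γ ≫ prod.fst)
  refine ⟨overOfStr g τ, overOfStrIso g τ,
    trInv g ((yon S').map (overOfStrIso g τ).hom ≫ γ ≫ prod.snd), ?_⟩
  apply Limits.prod.hom_ext
  · rw [psi, Category.assoc, prod.lift_fst, ← Functor.map_comp, overOfStrIso_inv_strMap, hτ]
  · rw [psi, Category.assoc, prod.lift_snd, tr_trInv, ← Category.assoc, ← Functor.map_comp,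
      Iso.inv_hom_id, CategoryTheory.Functor.map_id, Category.id_comp]

/-- Fibre products over `h_S × F'` are computed by fibre products over `j⁻¹ F'`. -/
theorem isPullback_psi {U T W : Over S} {F' : Sp S'} (a : (yon S).obj U ⟶ (jInv g).obj F')
    (b : (yon S).obj T ⟶ (jInv g).obj F') (fst : W ⟶ U) (snd : W ⟶ T)
    (sq : IsPullback ((yon S).map fst) ((yon S).map snd) a b) :
    IsPullback ((yon S').map ((Over.map g).map fst)) ((yon S').map ((Over.map g).map snd))
      (psi g a) (psi g b) := by
  refine Groth.Agent.Helper2.ZarGlue.isPullback_of_yon ?_ ?_ ?_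
  · apply Limits.prod.hom_ext
    · rw [psi, psi, Category.assoc, Category.assoc, prod.lift_fst, prod.lift_fst,
        ← Functor.map_comp, ← Functor.map_comp]
      congr 1
      apply Over.OverMorphism.ext
      simp
    · rw [psi, psi, Category.assoc, Category.assoc, prod.lift_snd, prod.lift_snd,
        ← tr_map_comp, ← tr_map_comp, sq.w]
  · intro Q' α β hαβ
    obtain ⟨α₀, rfl⟩ := (yon S').map_surjective α
    obtain ⟨β₀, rfl⟩ := (yon S').map_surjective β
    have h1 := congrArg (· ≫ prod.fst) hαβ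
    simp only [psi, Category.assoc, prod.lift_fst, ← Functor.map_comp] at h1
    have h1' := (yon S').map_injective h1
    have h2 := congrArg (· ≫ prod.snd) hαβ
    simp only [psi, Category.assoc, prod.lift_snd] at h2
    set τ : Q' ⟶ Over.mk g := α₀ ≫ strMap g U with hτ
    have hα₁ : α₀.left ≫ U.hom = τ.left := by simp [hτ]
    have hβ₁ : β₀.left ≫ T.hom = τ.left := by
      rw [h1']
      simp
    let α₁ : overOfStr g τ ⟶ U := Over.homMk α₀.left hα₁
    let β₁ : overOfStr g τ ⟶ T := Over.homMk β₀.left hβ₁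
    have hΦα : (Over.map g).map α₁ = (overOfStrIso g τ).hom ≫ α₀ := by
      apply Over.OverMorphism.ext
      simp [α₁]
    have hΦβ : (Over.map g).map β₁ = (overOfStrIso g τ).hom ≫ β₀ := by
      apply Over.OverMorphism.ext
      simp [β₁]
    have h3 : (yon S).map α₁ ≫ a = (yon S).map β₁ ≫ b := by
      apply tr_injective g
      rw [tr_map_comp, tr_map_comp, hΦα, hΦβ, Functor.map_comp, Functor.map_comp,
        Category.assoc, Category.assoc, h2]
    obtain ⟨l₀, hl₀⟩ := (yon S).map_surjective (sq.lift _ _ h3)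
    have hl1 : l₀ ≫ fst = α₁ := by
      apply (yon S).map_injective
      rw [Functor.map_comp, hl₀, sq.lift_fst]
    have hl2 : l₀ ≫ snd = β₁ := by
      apply (yon S).map_injective
      rw [Functor.map_comp, hl₀, sq.lift_snd]
    refine ⟨(yon S').map ((overOfStrIso g τ).inv ≫ (Over.map g).map l₀), ?_, ?_⟩
    · rw [← Functor.map_comp, Category.assoc, ← Functor.map_comp, hl1, hΦα, Iso.inv_hom_id_assoc]
    · rw [← Functor.map_comp, Category.assoc, ← Functor.map_comp, hl2, hΦβ, Iso.inv_hom_id_assoc]
  · intro Q' l l' h1 h2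
    obtain ⟨l₀, rfl⟩ := (yon S').map_surjective l
    obtain ⟨l₀', rfl⟩ := (yon S').map_surjective l'
    rw [← Functor.map_comp, ← Functor.map_comp] at h1 h2
    have h1' := (yon S').map_injective h1
    have h2' := (yon S').map_injective h2
    have h1l : l₀.left ≫ fst.left = l₀'.left ≫ fst.left := by
      have := congrArg CommaMorphism.left h1'
      simpa using this
    have h2l : l₀.left ≫ snd.left = l₀'.left ≫ snd.left := by
      have := congrArg CommaMorphism.left h2'
      simpa using this
    set τ : Q' ⟶ Over.mk g := l₀ ≫ strMap g W with hτ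
    have hl : l₀.left ≫ W.hom = τ.left := by simp [hτ]
    have hl' : l₀'.left ≫ W.hom = τ.left := by
      rw [hl.symm, ← Over.w fst, ← Category.assoc, ← Category.assoc, h1l]
    let l₁ : overOfStr g τ ⟶ W := Over.homMk l₀.left hl
    let l₁' : overOfStr g τ ⟶ W := Over.homMk l₀'.left hl'
    have h3 : (yon S).map l₁ = (yon S).map l₁' := by
      apply sq.hom_ext
      · rw [← Functor.map_comp, ← Functor.map_comp]
        congr 1
        apply Over.OverMorphism.ext
        simpa [l₁, l₁'] using h1l
      · rw [← Functor.map_comp, ← Functor.map_comp]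
        congr 1
        apply Over.OverMorphism.ext
        simpa [l₁, l₁'] using h2l
    have h4 := (yon S).map_injective h3
    congr 1
    apply Over.OverMorphism.ext
    have := congrArg CommaMorphism.left h4
    simpa [l₁, l₁'] using this


theorem isPullback_psi_comp {U T W : Over S} {T' : Over S'} {F' : Sp S'}
    (a : (yon S).obj U ⟶ (jInv g).obj F') (b : (yon S).obj T ⟶ (jInv g).obj F')
    (e : (Over.map g).obj T ≅ T') (fst : W ⟶ U) (snd : W ⟶ T)
    (sq : IsPullback ((yon S).map fst) ((yon S).map snd) a b) :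
    IsPullback ((yon S').map ((Over.map g).map fst))
      ((yon S').map ((Over.map g).map snd ≫ e.hom)) (psi g a) ((yon S').map e.inv ≫ psi g b) := by
  refine IsPullback.of_iso (isPullback_psi g a b fst snd sq) (Iso.refl _) (Iso.refl _)
    ((yon S').mapIso e) (Iso.refl _) (by simp) (by simp) (by simp) ?_
  rw [Iso.refl_hom, Category.comp_id, Functor.mapIso_hom, ← Category.assoc, ← Functor.map_comp,
    Iso.hom_inv_id, CategoryTheory.Functor.map_id, Category.id_comp]

theorem representable_psi {F' : Sp S'} (hJ : IsAlgSpace ((jInv g).obj F')) {T : Over S}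
    (b : (yon S).obj T ⟶ (jInv g).obj F') : Representable (psi g b) := by
  intro T₂' γ₂
  obtain ⟨T₂, e₂, b₂, rfl⟩ := exists_eq_psi g γ₂
  obtain ⟨W, fst, snd, sq⟩ := exists_isPullback_yon hJ.diag b b₂
  exact ⟨(Over.map g).obj W, (Over.map g).map snd ≫ e₂.hom,
    (yon S').map ((Over.map g).map fst), isPullback_psi_comp g b b₂ e₂ fst snd sq⟩

theorem repWith_psi (P : MorphismProperty Scheme.{u}) [P.RespectsIso] {F' : Sp S'} {U : Over S}
    {a : (yon S).obj U ⟶ (jInv g).obj F'} (ha : RepWith P a) : RepWith P (psi g a) := by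
  refine MorphismProperty.relative.of_exists fun T₂' γ₂ => ?_
  obtain ⟨T₂, e₂, b₂, rfl⟩ := exists_eq_psi g γ₂
  obtain ⟨W, snd, fst, sq⟩ := ha.rep b₂
  obtain ⟨fst₀, rfl⟩ := (yon S).map_surjective fst
  refine ⟨(Over.map g).obj W, (yon S').map ((Over.map g).map fst₀),
    (Over.map g).map snd ≫ e₂.hom, isPullback_psi_comp g a b₂ e₂ fst₀ snd sq, ?_⟩
  have h1 : P snd.left := ha.property _ _ snd sq
  haveI : IsIso e₂.hom.left := inferInstanceAs (IsIso ((Over.forget _).map e₂.hom))
  change P (snd.left ≫ e₂.hom.left)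
  exact (MorphismProperty.cancel_right_of_respectsIso P _ _).mpr h1

/-- If `j⁻¹ F'` is an algebraic space over `S` then `h_S × F'` is an algebraic space over `S'`. -/
theorem isAlgSpace_prod_of_isAlgSpace_jInv {F' : Sp S'} (hJ : IsAlgSpace ((jInv g).obj F')) :
    IsAlgSpace ((yon S').obj (Over.mk g) ⨯ F') where
  diag := (Functor.relativelyRepresentable.diag_iff).mpr (fun T' γ => by
    obtain ⟨T, e, b, rfl⟩ := exists_eq_psi g γ
    exact MorphismProperty.RespectsIso.precomp _ ((yon S').map e.inv) _ (representable_psi g hJ b))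
  atlas := by
    obtain ⟨U, φ, he, hs⟩ := hJ.atlas
    exact ⟨(Over.map g).obj U, psi g φ, repWith_psi g @Etale he, repWith_psi g @Surjective hs⟩

/-- If `h_S × F'` is an algebraic space over `S'` then `j⁻¹ F'` is an algebraic space over `S`. -/
theorem isAlgSpace_jInv_of_isAlgSpace_prod {F' : Sp S'}
    (hG : IsAlgSpace ((yon S').obj (Over.mk g) ⨯ F')) : IsAlgSpace ((jInv g).obj F') := by
  have hJG := isAlgSpace_jInv g hG
  have hA : IsAlgSpace ((jInv g).obj ((yon S').obj (Over.mk g))) :=
    isAlgSpace_jInv g (IsAlgSpace.yon_obj _)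
  have hT : IsTerminal ((yon S).obj (Over.mk (𝟙 S))) :=
    IsTerminal.isTerminalObj (yon S) _ Over.mkIdTerminal
  let σ : (yon S).obj (Over.mk (𝟙 S)) ⟶ (jInv g).obj ((yon S').obj (Over.mk g)) :=
    trInv g ((yon S').map (strMap g (Over.mk (𝟙 S))))
  have sq := isPullback_point_prod (A := (jInv g).obj ((yon S').obj (Over.mk g)))
    (B := (jInv g).obj F') hT σ
  let e := PreservesLimitPair.iso (jInv g) ((yon S').obj (Over.mk g)) F'
  have sq2 : IsPullback (prod.lift (hT.from _ ≫ σ) (𝟙 _) ≫ e.inv) (hT.from _)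
      ((jInv g).map prod.fst) σ := by
    refine IsPullback.of_iso sq (Iso.refl _) e.symm (Iso.refl _) (Iso.refl _) (by simp) (by simp)
      ?_ (by simp)
    rw [Iso.refl_hom, Category.comp_id, Iso.symm_hom, eq_comm, Iso.inv_comp_eq,
      PreservesLimitPair.iso_hom, prodComparison_fst]
  exact isAlgSpace_of_isPullback hA.diag hJG (IsAlgSpace.yon_obj _) _ _ _ _ sq2

end Groth.Agent.Helper2.BaseCh
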