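import Mathlib
import Groth.Agent.Lib.Helper2.AlgSp.RepDesc2
import Groth.Agent.Lib.Helper2.AlgSp.Diag
import Groth.Agent.Lib.Helper2.AlgSp.BootCat
import Groth.Agent.Lib.Helper2.Desc.SepLqf2

/-!
# The diagonal of a sheaf with a representable fppf chart is representable (helper2)
-/

set_option autoImplicit false
set_option backward.isDefEq.respectTransparency false
set_option linter.unusedSectionVars false
set_option linter.style.haveILetI false
universe u
open CategoryTheory CategoryTheory.Limits AlgebraicGeometry Opposite AlgSp Desc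

namespace Groth.Agent.Helper2.AlgSpDesc

open Groth.Agent.Helper2.AlgSpBasic Groth.Agent.Helper2.DescSat

variable {S : Scheme.{u}}

/-- a product of morphisms of schemes over `S` having a property stable under base change and
composition has this property -/
lemma prop_prod_map_left (P : MorphismProperty Scheme.{u}) [P.IsStableUnderBaseChange]
    [P.IsStableUnderComposition] {A B A' B' : Over S} (a : A ⟶ A') (b : B ⟶ B')
    (ha : P a.left) (hb : P b.left) : P (prod.map a b).left := by
  have h1 : P (prod.map a (𝟙 B)).left :=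
    P.of_isPullback ((Groth.Agent.Helper2.BootCat.isPullback_prod_map_id a (Z := B)).map
      (Over.forget S)) ha
  have h2 : P (prod.map (𝟙 A') b).left :=
    P.of_isPullback ((Groth.Agent.Helper2.BootCat.isPullback_prod_id_map b (Z := A')).map
      (Over.forget S)) hb
  have : prod.map a b = prod.map a (𝟙 B) ≫ prod.map (𝟙 A') b := by
    rw [prod.map_map, Category.comp_id, Category.id_comp]
  rw [this]
  exact P.comp_mem _ _ h1 h2


/-- the fibre product of two maps from representables to a sheaf with a representable fppf chart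
is representable -/
theorem exists_isPullback_of_chart {F : Sp S} {U : Over S} (p : (yon S).obj U ⟶ F)
    (hpr : Representable p) (hpfl : RepWith @Flat p)
    (hplfp : RepWith @LocallyOfFinitePresentation p) (hps : RepWith @Surjective p)
    {T₁ T₂ : Over S} (a : (yon S).obj T₁ ⟶ F) (b : (yon S).obj T₂ ⟶ F) :
    ∃ (W : Over S) (w₁ : W ⟶ T₁) (w₂ : W ⟶ T₂),
      IsPullback ((yon S).map w₁) ((yon S).map w₂) a b := by
  -- charts
  obtain ⟨T₁', u₁, c₁, sq₁⟩ : ∃ (T₁' : Over S) (u₁ : T₁' ⟶ U) (c₁ : T₁' ⟶ T₁),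
      IsPullback ((yon S).map u₁) ((yon S).map c₁) p a :=
    ⟨hpr.pullback a, hpr.fst' a, hpr.snd a, hpr.isPullback' a⟩
  obtain ⟨T₂', u₂, c₂, sq₂⟩ : ∃ (T₂' : Over S) (u₂ : T₂' ⟶ U) (c₂ : T₂' ⟶ T₂),
      IsPullback ((yon S).map u₂) ((yon S).map c₂) p b :=
    ⟨hpr.pullback b, hpr.fst' b, hpr.snd b, hpr.isPullback' b⟩
  obtain ⟨R, s, t, sqR⟩ : ∃ (R : Over S) (s : R ⟶ U) (t : R ⟶ U),
      IsPullback ((yon S).map s) ((yon S).map t) p p :=
    ⟨hpr.pullback p, hpr.fst' p, hpr.snd p, hpr.isPullback' p⟩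
  have hc₁ : (@Flat ⊓ @LocallyOfFinitePresentation ⊓ @Surjective :
      MorphismProperty Scheme.{u}) c₁.left :=
    ⟨⟨hpfl.property a _ c₁ sq₁, hplfp.property a _ c₁ sq₁⟩, hps.property a _ c₁ sq₁⟩
  have hc₂ : (@Flat ⊓ @LocallyOfFinitePresentation ⊓ @Surjective :
      MorphismProperty Scheme.{u}) c₂.left :=
    ⟨⟨hpfl.property b _ c₂ sq₂, hplfp.property b _ c₂ sq₂⟩, hps.property b _ c₂ sq₂⟩
  have hs_lfp : LocallyOfFinitePresentation s.left := hplfp.property p _ s sqR.flip
  -- products
  obtain ⟨c, hc⟩ : ∃ c : T₁' ⨯ T₂' ⟶ T₁ ⨯ T₂, c = prod.map c₁ c₂ := ⟨_, rfl⟩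
  obtain ⟨uu, huu⟩ : ∃ uu : T₁' ⨯ T₂' ⟶ U ⨯ U, uu = prod.map u₁ u₂ := ⟨_, rfl⟩
  obtain ⟨j, hj⟩ : ∃ j : R ⟶ U ⨯ U, j = prod.lift s t := ⟨_, rfl⟩
  have hjs : j ≫ prod.fst = s := by rw [hj, prod.lift_fst]
  have hjt : j ≫ prod.snd = t := by rw [hj, prod.lift_snd]
  have hcfst : c ≫ prod.fst = prod.fst ≫ c₁ := by rw [hc, prod.map_fst]
  have hcsnd : c ≫ prod.snd = prod.snd ≫ c₂ := by rw [hc, prod.map_snd]
  have huufst : uu ≫ prod.fst = prod.fst ≫ u₁ := by rw [huu, prod.map_fst]
  have huusnd : uu ≫ prod.snd = prod.snd ≫ u₂ := by rw [huu, prod.map_snd]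
  have hcP : (@Flat ⊓ @LocallyOfFinitePresentation ⊓ @Surjective :
      MorphismProperty Scheme.{u}) c.left := by
    rw [hc]
    exact prop_prod_map_left _ c₁ c₂ hc₁ hc₂
  haveI hjmono : Mono j := by
    constructor
    intro A x y hxy
    apply (yon S).map_injective
    apply sqR.hom_ext
    · rw [← Functor.map_comp, ← Functor.map_comp, ← hjs, ← Category.assoc, hxy, Category.assoc]
    · rw [← Functor.map_comp, ← Functor.map_comp, ← hjt, ← Category.assoc, hxy, Category.assoc]
  -- the scheme `V`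
  obtain ⟨V, i, r, sqV⟩ : ∃ (V : Over S) (i : V ⟶ T₁' ⨯ T₂') (r : V ⟶ R), IsPullback i r uu j :=
    ⟨pullback uu j, pullback.fst uu j, pullback.snd uu j, IsPullback.of_hasPullback uu j⟩
  haveI : Mono i := sqV.mono_fst_of_mono
  haveI : Mono j.left := (Over.forget S).map_mono j
  haveI : Mono i.left := (Over.forget S).map_mono i
  haveI : LocallyOfFiniteType j.left := by
    haveI : LocallyOfFiniteType (j.left ≫ (prod.fst : U ⨯ U ⟶ U).left) := by
      rw [← Over.comp_left, hjs]
      infer_instance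
    exact locallyOfFiniteType_of_comp j.left (prod.fst : U ⨯ U ⟶ U).left
  haveI : LocallyOfFiniteType i.left :=
    MorphismProperty.of_isPullback (P := @LocallyOfFiniteType)
      ((sqV.map (Over.forget S)).flip) (by simpa using (inferInstance : LocallyOfFiniteType j.left))
  have hi : SepLqf i.left := ⟨inferInstance, inferInstance, inferInstance⟩
  -- the sheaf `E`
  have sqE := IsPullback.of_hasPullback a b
  obtain ⟨gE, hgE⟩ : ∃ gE : pullback a b ⟶ (yon S).obj (T₁ ⨯ T₂),
      gE = prod.lift (pullback.fst a b) (pullback.snd a b) ≫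
        inv (prodComparison (yon S) T₁ T₂) := ⟨_, rfl⟩
  have hgE₁ : gE ≫ (yon S).map prod.fst = pullback.fst a b := by
    rw [hgE, Category.assoc, ← prodComparison_fst, IsIso.inv_hom_id_assoc, prod.lift_fst]
  have hgE₂ : gE ≫ (yon S).map prod.snd = pullback.snd a b := by
    rw [hgE, Category.assoc, ← prodComparison_snd, IsIso.inv_hom_id_assoc, prod.lift_snd]
  have hrs : r ≫ s = i ≫ prod.fst ≫ u₁ := by
    rw [← hjs, ← Category.assoc, ← sqV.w, Category.assoc, huufst]
  have hrt : r ≫ t = i ≫ prod.snd ≫ u₂ := by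
    rw [← hjt, ← Category.assoc, ← sqV.w, Category.assoc, huusnd]
  have hcondE : (yon S).map (i ≫ prod.fst ≫ c₁) ≫ a = (yon S).map (i ≫ prod.snd ≫ c₂) ≫ b := by
    have e1 : (yon S).map (i ≫ prod.fst ≫ c₁) ≫ a = (yon S).map (r ≫ s) ≫ p := by
      rw [hrs]
      simp only [Functor.map_comp, Category.assoc]
      rw [sq₁.w]
    have e2 : (yon S).map (i ≫ prod.snd ≫ c₂) ≫ b = (yon S).map (r ≫ t) ≫ p := by
      rw [hrt]
      simp only [Functor.map_comp, Category.assoc]
      rw [sq₂.w]
    rw [e1, e2]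
    simp only [Functor.map_comp, Category.assoc]
    rw [sqR.w]
  obtain ⟨fstE, hfstE⟩ : ∃ fstE : (yon S).obj V ⟶ pullback a b,
      fstE = sqE.lift _ _ hcondE := ⟨_, rfl⟩
  have hfstE₁ : fstE ≫ pullback.fst a b = (yon S).map (i ≫ prod.fst ≫ c₁) := by
    rw [hfstE, sqE.lift_fst]
  have hfstE₂ : fstE ≫ pullback.snd a b = (yon S).map (i ≫ prod.snd ≫ c₂) := by
    rw [hfstE, sqE.lift_snd]
  have sq' : IsPullback fstE ((yon S).map i) gE ((yon S).map c) := by
    apply isPullback_of_existsUnique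
    · apply yon_prod_hom_ext
      · rw [Category.assoc, hgE₁, hfstE₁, Category.assoc, ← Functor.map_comp, ← Functor.map_comp,
          hcfst]
      · rw [Category.assoc, hgE₂, hfstE₂, Category.assoc, ← Functor.map_comp, ← Functor.map_comp,
          hcsnd]
    · intro A α β hαβ
      have hα₁ : α ≫ pullback.fst a b = β ≫ (yon S).map (prod.fst ≫ c₁) := by
        rw [← hgE₁, ← Category.assoc, hαβ, Category.assoc, ← Functor.map_comp, hcfst]
      have hα₂ : α ≫ pullback.snd a b = β ≫ (yon S).map (prod.snd ≫ c₂) := by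
        rw [← hgE₂, ← Category.assoc, hαβ, Category.assoc, ← Functor.map_comp, hcsnd]
      have hρ : (β ≫ (yon S).map (prod.fst ≫ u₁)) ≫ p = (β ≫ (yon S).map (prod.snd ≫ u₂)) ≫ p := by
        have e1 : (β ≫ (yon S).map (prod.fst ≫ u₁)) ≫ p = (α ≫ pullback.fst a b) ≫ a := by
          rw [hα₁]
          simp only [Functor.map_comp, Category.assoc]
          rw [sq₁.w]
        have e2 : (β ≫ (yon S).map (prod.snd ≫ u₂)) ≫ p = (α ≫ pullback.snd a b) ≫ b := by
          rw [hα₂]
          simp only [Functor.map_comp, Category.assoc]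
          rw [sq₂.w]
        rw [e1, e2, Category.assoc, sqE.w, Category.assoc]
      obtain ⟨ρ, hρdef⟩ : ∃ ρ : A ⟶ (yon S).obj R, ρ = sqR.lift _ _ hρ := ⟨_, rfl⟩
      have hρ₁ : ρ ≫ (yon S).map s = β ≫ (yon S).map (prod.fst ≫ u₁) := by
        rw [hρdef, sqR.lift_fst]
      have hρ₂ : ρ ≫ (yon S).map t = β ≫ (yon S).map (prod.snd ≫ u₂) := by
        rw [hρdef, sqR.lift_snd]
      have hl : β ≫ (yon S).map uu = ρ ≫ (yon S).map j := by
        apply yon_prod_hom_ext
        · rw [Category.assoc, Category.assoc, ← Functor.map_comp, ← Functor.map_comp, huufst, hjs,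
            hρ₁]
        · rw [Category.assoc, Category.assoc, ← Functor.map_comp, ← Functor.map_comp, huusnd, hjt,
            hρ₂]
      have sqV' := sqV.map (yon S)
      refine ⟨sqV'.lift β ρ hl, ?_, sqV'.lift_fst _ _ _⟩
      apply sqE.hom_ext
      · rw [Category.assoc, hfstE₁, Functor.map_comp, ← Category.assoc, sqV'.lift_fst, hα₁]
      · rw [Category.assoc, hfstE₂, Functor.map_comp, ← Category.assoc, sqV'.lift_fst, hα₂]
    · intro A l l' _ h2
      have sqV' := sqV.map (yon S)
      apply sqV'.hom_ext h2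
      apply sqR.hom_ext
      · rw [Category.assoc, Category.assoc, ← Functor.map_comp, hrs, Functor.map_comp,
          ← Category.assoc, h2, Category.assoc]
      · rw [Category.assoc, Category.assoc, ← Functor.map_comp, hrt, Functor.map_comp,
          ← Category.assoc, h2, Category.assoc]
  obtain ⟨W, k, q', e, he, hek, -, -⟩ := exists_rep_of_fppf_cover c gE fstE i sq'
    hcP.1.1 hcP.2 hcP.1.2 SepLqf
    (fun D hD => sepLqf_effective c.left hcP.2 hcP.1.1 hcP.1.2 D hD) hi
  haveI := he
  refine ⟨W, k ≫ prod.fst, k ≫ prod.snd, ?_⟩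
  refine IsPullback.of_iso sqE (asIso e).symm (Iso.refl _) (Iso.refl _) (Iso.refl _) ?_ ?_ ?_ ?_
  · simp only [Iso.refl_hom, Category.comp_id, Iso.symm_hom, asIso_inv, IsIso.eq_inv_comp]
    rw [← hgE₁, ← Category.assoc, hek, ← Functor.map_comp]
  · simp only [Iso.refl_hom, Category.comp_id, Iso.symm_hom, asIso_inv, IsIso.eq_inv_comp]
    rw [← hgE₂, ← Category.assoc, hek, ← Functor.map_comp]
  · simp
  · simp

/-- The diagonal of a sheaf with a representable flat surjective finitely presented chart is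
representable. -/
theorem representable_diag_of_chart {F : Sp S} {U : Over S} (p : (yon S).obj U ⟶ F)
    (hpr : Representable p) (hpfl : RepWith @Flat p)
    (hplfp : RepWith @LocallyOfFinitePresentation p) (hps : RepWith @Surjective p) :
    Representable (Limits.diag F) := by
  apply Functor.relativelyRepresentable.diag_of_map_from_obj
  intro T₁ a T₂ b
  obtain ⟨W, w₁, w₂, sq⟩ := exists_isPullback_of_chart p hpr hpfl hplfp hps a b
  exact ⟨W, w₂, (yon S).map w₁, sq⟩

end Groth.Agent.Helper2.AlgSpDesc
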