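import Mathlib
import Groth.Agent.Lib.Helper2.AlgSp.RepDesc2
import Groth.Agent.Lib.Helper2.AlgSp.Coprod
import Groth.Agent.Lib.Helper2.AlgSp.EpiPullback

/-!
# Representability through a locally surjective chart with representable kernel pair (helper2)

Let `q : h_U ⟶ F` be a locally surjective map of fppf sheaves whose kernel pair is represented by
a scheme `R` with projections `s t : R ⟶ U`.  For a morphism of schemes `w : W ⟶ U` the composite
`h_W ⟶ h_U ⟶ F` is representable as soon as `R ×_{s, U} W ⟶ R ⟶ U` (through `t`) has a property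
for which fppf descent is effective.
-/

set_option autoImplicit false
set_option backward.isDefEq.respectTransparency false
set_option linter.unusedSectionVars false
set_option linter.style.haveILetI false
universe u
open CategoryTheory CategoryTheory.Limits AlgebraicGeometry Opposite AlgSp Desc

namespace Groth.Agent.Helper2.AlgSpDesc

open Groth.Agent.Helper2.AlgSpBasic Groth.Agent.Helper2.Coprod

variable {S : Scheme.{u}}

/-- Sections of the target of a locally surjective map of sheaves lift along a single flat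
surjective finitely presented morphism of schemes. -/
theorem exists_single_cover_lift {G H : Sp S} (b : H ⟶ G) [Sheaf.IsLocallySurjective b]
    {T : Over S} (g : (yon S).obj T ⟶ G) :
    ∃ (T' : Over S) (c : T' ⟶ T) (a : (yon S).obj T' ⟶ H), Flat c.left ∧
      LocallyOfFinitePresentation c.left ∧ Surjective c.left ∧ a ≫ b = (yon S).map c ≫ g := by
  obtain ⟨κ, W, p, hp, hs, hlift⟩ := Groth.Agent.Helper2.EpiPullback.exists_family_lift b g
  choose t ht using hlift
  obtain ⟨c', hc'⟩ := exists_desc_sigmaOver W (fun k => (yon S).map (p k))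
  obtain ⟨c, rfl⟩ := (yon S).map_surjective c'
  obtain ⟨a, ha⟩ := exists_desc_sigmaOver W t
  have hc : ∀ k, sigmaOverι W k ≫ c = p k := fun k => by
    apply (yon S).map_injective
    rw [Functor.map_comp, hc' k]
  have hcl : ∀ k, Sigma.ι (fun i => (W i).left) k ≫ c.left = (p k).left := fun k =>
    congrArg (fun φ => φ.left) (hc k)
  refine ⟨sigmaOver W, c, a, ?_, ?_, ?_, ?_⟩
  · apply IsZariskiLocalAtSource.of_openCover (P := @Flat) (sigmaOpenCover (fun i => (W i).left))
    intro k
    show Flat (Sigma.ι (fun i => (W i).left) k ≫ c.left)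
    rw [hcl k]
    exact (hp k).1
  · apply IsZariskiLocalAtSource.of_openCover (P := @LocallyOfFinitePresentation)
      (sigmaOpenCover (fun i => (W i).left))
    intro k
    show LocallyOfFinitePresentation (Sigma.ι (fun i => (W i).left) k ≫ c.left)
    rw [hcl k]
    exact (hp k).2
  · constructor
    intro x
    obtain ⟨k, y, hy⟩ := hs x
    refine ⟨Sigma.ι (fun i => (W i).left) k y, ?_⟩
    rw [← hy, ← hcl k]
    rfl
  · apply hom_ext_sigmaOver
    intro k
    rw [← Category.assoc, ha k, ht k, ← Category.assoc, ← Functor.map_comp, hc k]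

/-- Representability of `h_W ⟶ h_U ⟶ F` for a locally surjective chart `q : h_U ⟶ F` with
representable kernel pair. -/
theorem representable_comp_of_kernelPair (P : MorphismProperty Scheme.{u})
    [P.IsStableUnderBaseChange]
    (hdesc : ∀ ⦃X' S' : Scheme.{u}⦄ (p : X' ⟶ S'), Surjective p → Flat p →
      LocallyOfFinitePresentation p → ∀ D : Desc.SchDD p, P D.obj.hom →
        ∃ U₀ : Over S', Nonempty ((Desc.toDD p).obj U₀ ≅ D))
    {F : Sp S} {U R W : Over S} (q : (yon S).obj U ⟶ F) [Sheaf.IsLocallySurjective q]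
    (s t : R ⟶ U) (sqR : IsPullback ((yon S).map t) ((yon S).map s) q q)
    (w : W ⟶ U) (hP : P (pullback.snd w s ≫ t).left) :
    Representable ((yon S).map w ≫ q) := by
  intro T ξ
  obtain ⟨T', c, a', hcf, hcl, hcs, hac⟩ := exists_single_cover_lift q ξ
  obtain ⟨a, rfl⟩ := (yon S).map_surjective a'
  -- `RW = W ×_{U, s} R`
  obtain ⟨RW, rw', rr, sqRW, hP'⟩ : ∃ (RW : Over S) (rw' : RW ⟶ W) (rr : RW ⟶ R),
      IsPullback rw' rr w s ∧ P (rr ≫ t).left :=
    ⟨pullback w s, pullback.fst w s, pullback.snd w s, IsPullback.of_hasPullback w s, hP⟩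
  -- `V' = RW ×_{t, U} T'`
  obtain ⟨V', v, i', sqV'⟩ : ∃ (V' : Over S) (v : V' ⟶ RW) (i' : V' ⟶ T'),
      IsPullback v i' (rr ≫ t) a :=
    ⟨pullback (rr ≫ t) a, pullback.fst _ _, pullback.snd _ _, IsPullback.of_hasPullback _ _⟩
  have hPi' : P i'.left := P.of_isPullback (sqV'.map (Over.forget S)) hP'
  -- the sheaf `E = h_W ×_F h_T`
  have sqE := IsPullback.of_hasPullback ((yon S).map w ≫ q) ξ
  have hcond : ((yon S).map (v ≫ rw')) ≫ (yon S).map w ≫ q =
      ((yon S).map (i' ≫ c)) ≫ ξ := by
    have e1 : (yon S).map (v ≫ rw') ≫ (yon S).map w ≫ q = (yon S).map (v ≫ rr ≫ s) ≫ q := by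
      rw [← Category.assoc, ← Functor.map_comp, Category.assoc, sqRW.w]
    have e2 : (yon S).map (i' ≫ c) ≫ ξ = (yon S).map (v ≫ rr ≫ t) ≫ q := by
      rw [Functor.map_comp, Category.assoc, ← hac, ← Category.assoc, ← Functor.map_comp,
        ← sqV'.w]
    rw [e1, e2]
    simp only [Functor.map_comp, Category.assoc]
    rw [sqR.w]
  obtain ⟨fst', hfst'⟩ : ∃ fst' : (yon S).obj V' ⟶ pullback ((yon S).map w ≫ q) ξ,
      fst' = sqE.lift _ _ hcond := ⟨_, rfl⟩
  have h1 : fst' ≫ pullback.fst ((yon S).map w ≫ q) ξ = (yon S).map (v ≫ rw') := by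
    rw [hfst', sqE.lift_fst]
  have h2 : fst' ≫ pullback.snd ((yon S).map w ≫ q) ξ = (yon S).map (i' ≫ c) := by
    rw [hfst', sqE.lift_snd]
  have sq' : IsPullback fst' ((yon S).map i') (pullback.snd ((yon S).map w ≫ q) ξ)
      ((yon S).map c) := by
    apply isPullback_of_existsUnique
    · rw [h2, Functor.map_comp]
    · intro A α β hαβ
      have sqV'y := sqV'.map (yon S)
      have sqRWy := sqRW.map (yon S)
      have hρ : (β ≫ (yon S).map a) ≫ q =
          (α ≫ pullback.fst ((yon S).map w ≫ q) ξ ≫ (yon S).map w) ≫ q := by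
        simp only [Category.assoc]
        rw [hac, sqE.w, ← Category.assoc, ← Category.assoc α, hαβ]
      obtain ⟨ρ, hρdef⟩ : ∃ ρ : A ⟶ (yon S).obj R, ρ = sqR.lift _ _ hρ := ⟨_, rfl⟩
      have hρ₁ : ρ ≫ (yon S).map t = β ≫ (yon S).map a := by rw [hρdef, sqR.lift_fst]
      have hρ₂ : ρ ≫ (yon S).map s =
          α ≫ pullback.fst ((yon S).map w ≫ q) ξ ≫ (yon S).map w := by
        rw [hρdef, sqR.lift_snd]
      have hρW : (α ≫ pullback.fst ((yon S).map w ≫ q) ξ) ≫ (yon S).map w =
          ρ ≫ (yon S).map s := by rw [hρ₂, Category.assoc]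
      obtain ⟨ρW, hρWdef⟩ : ∃ ρW : A ⟶ (yon S).obj RW, ρW = sqRWy.lift _ _ hρW := ⟨_, rfl⟩
      have hρW₁ : ρW ≫ (yon S).map rw' = α ≫ pullback.fst ((yon S).map w ≫ q) ξ := by
        rw [hρWdef, sqRWy.lift_fst]
      have hρW₂ : ρW ≫ (yon S).map rr = ρ := by rw [hρWdef, sqRWy.lift_snd]
      have hl : ρW ≫ (yon S).map (rr ≫ t) = β ≫ (yon S).map a := by
        rw [Functor.map_comp, ← Category.assoc, hρW₂, hρ₁]
      obtain ⟨l, hl1, hl2⟩ : ∃ l : A ⟶ (yon S).obj V', l ≫ (yon S).map v = ρW ∧
          l ≫ (yon S).map i' = β :=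
        ⟨sqV'y.lift ρW β hl, sqV'y.lift_fst _ _ _, sqV'y.lift_snd _ _ _⟩
      refine ⟨l, ?_, hl2⟩
      apply sqE.hom_ext
      · rw [Category.assoc, h1, Functor.map_comp, ← Category.assoc, hl1, hρW₁]
      · rw [Category.assoc, h2, Functor.map_comp, ← Category.assoc, hl2, hαβ]
    · intro A l l' e1 e2
      have sqV'y := sqV'.map (yon S)
      have sqRWy := sqRW.map (yon S)
      have e1a : l ≫ (yon S).map v ≫ (yon S).map rw' = l' ≫ (yon S).map v ≫ (yon S).map rw' := by
        have := congrArg (fun φ => φ ≫ pullback.fst ((yon S).map w ≫ q) ξ) e1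
        simp only [Category.assoc, h1, Functor.map_comp] at this
        exact this
      have e2a : l ≫ (yon S).map v ≫ (yon S).map rr ≫ (yon S).map t =
          l' ≫ (yon S).map v ≫ (yon S).map rr ≫ (yon S).map t := by
        have hw : (yon S).map v ≫ (yon S).map rr ≫ (yon S).map t =
            (yon S).map i' ≫ (yon S).map a := by
          rw [← Functor.map_comp, ← Functor.map_comp, ← Functor.map_comp, sqV'.w]
        rw [hw, ← Category.assoc, e2, Category.assoc]
      apply sqV'y.hom_ext _ e2
      apply sqRWy.hom_ext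
      · simp only [Category.assoc]
        exact e1a
      · apply sqR.hom_ext
        · simp only [Category.assoc]
          exact e2a
        · simp only [Category.assoc]
          have hw : (yon S).map rr ≫ (yon S).map s = (yon S).map rw' ≫ (yon S).map w := by
            rw [← Functor.map_comp, ← Functor.map_comp, sqRW.w]
          rw [hw]
          have := congrArg (fun φ => φ ≫ (yon S).map w) e1a
          simp only [Category.assoc] at this
          exact this
  obtain ⟨W', k, q', e, he, hek, -, -⟩ := exists_rep_of_fppf_cover c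
    (pullback.snd ((yon S).map w ≫ q) ξ) fst' i' sq'
    hcf hcs hcl P (fun D hD => hdesc c.left hcs hcf hcl D hD) hPi'
  haveI := he
  refine ⟨W', k, e ≫ pullback.fst ((yon S).map w ≫ q) ξ, ?_⟩
  refine IsPullback.of_iso sqE (asIso e).symm (Iso.refl _) (Iso.refl _) (Iso.refl _) ?_ ?_ ?_ ?_
  · simp
  · simp only [Iso.refl_hom, Category.comp_id, Iso.symm_hom, asIso_inv, IsIso.eq_inv_comp]
    exact hek
  · simp
  · simp

end Groth.Agent.Helper2.AlgSpDesc
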