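import Mathlib
import Groth.Agent.Lib.Helper2.AlgSp.RepEpi
import Groth.Agent.Lib.Helper2.AlgSp.DiagRep
import Groth.Agent.Lib.Helper2.AlgSp.QuotEff
import Groth.Agent.Lib.Helper2.AlgSp.GlueSp
import Groth.Agent.Lib.Helper2.Desc.QFin

/-!
# The quotient of a scheme by an étale equivalence relation is an algebraic space (helper2)
-/

set_option autoImplicit false
set_option backward.isDefEq.respectTransparency false
set_option linter.unusedSectionVars false
set_option linter.style.haveILetI false
universe u
open CategoryTheory CategoryTheory.Limits AlgebraicGeometry Opposite AlgSp Desc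

namespace Groth.Agent.Helper2.AlgSpDesc

open Groth.Agent.Helper2.AlgSpBasic Groth.Agent.Helper2.DescSat Groth.Agent.Helper2.QuotEff

variable {S : Scheme.{u}}

instance sepLqf_isStableUnderBaseChange :
    (SepLqf : MorphismProperty Scheme.{u}).IsStableUnderBaseChange := by
  have : (SepLqf : MorphismProperty Scheme.{u}) =
      (@IsSeparated ⊓ @LocallyQuasiFinite ⊓ @LocallyOfFiniteType :
        MorphismProperty Scheme.{u}) := by
    ext X Y f
    exact ⟨fun h => ⟨⟨h.1, h.2.1⟩, h.2.2⟩, fun h => ⟨h.1.1, h.1.2, h.2⟩⟩
  rw [this]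
  infer_instance

variable {R U : Over S} (s t : R ⟶ U)

/-- For an equivalence relation `R` on `U` and `W ⟶ U` with `W` separated over `S`, the
morphism `R ×_{s, U} W ⟶ R ⟶ U` (through `t`) is separated. -/
theorem isSeparated_restrict_of_isEqvRel (h : IsEqvRel s t) {W : Over S} (w : W ⟶ U)
    [IsSeparated W.hom] : IsSeparated (pullback.snd w s ≫ t).left := by
  obtain ⟨RW, rw', rr, sqRW, hgoal⟩ : ∃ (RW : Over S) (rw' : RW ⟶ W) (rr : RW ⟶ R),
      IsPullback rw' rr w s ∧ (IsSeparated (rr ≫ t).left → 
        IsSeparated (pullback.snd w s ≫ t).left) :=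
    ⟨pullback w s, pullback.fst w s, pullback.snd w s, IsPullback.of_hasPullback w s, id⟩
  apply hgoal
  obtain ⟨j, hj⟩ : ∃ j : RW ⟶ U ⨯ W, j = prod.lift (rr ≫ t) rw' := ⟨_, rfl⟩
  have hj1 : j ≫ prod.fst = rr ≫ t := by rw [hj, prod.lift_fst]
  have hj2 : j ≫ prod.snd = rw' := by rw [hj, prod.lift_snd]
  haveI : Mono j := by
    constructor
    intro A x y hxy
    have e1 : x ≫ rr ≫ t = y ≫ rr ≫ t := by
      rw [← hj1, ← Category.assoc, hxy, Category.assoc]
    have e2 : x ≫ rw' = y ≫ rw' := by
      rw [← hj2, ← Category.assoc, hxy, Category.assoc]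
    have e3 : x ≫ rr ≫ s = y ≫ rr ≫ s := by
      rw [← sqRW.w, ← Category.assoc, e2, Category.assoc]
    have e4 : x ≫ rr = y ≫ rr := h.injective A _ _ (by simpa using e1) (by simpa using e3)
    exact sqRW.hom_ext e2 e4
  haveI : Mono j.left := (Over.forget S).map_mono j
  haveI : IsSeparated (prod.fst : U ⨯ W ⟶ U).left := by
    rw [← Over.prodLeftIsoPullback_hom_fst]
    infer_instance
  have : (rr ≫ t).left = j.left ≫ (prod.fst : U ⨯ W ⟶ U).left := by
    rw [← Over.comp_left, hj1]
  rw [this]
  infer_instance

/-- The quotient map of an étale equivalence relation is representable. -/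
theorem representable_qπ (h : IsEtaleEqvRel s t) : Representable (qπ s t) := by
  have key : ∀ (W : Over S) (w : W ⟶ U), IsAffine W.left → IsOpenImmersion w.left →
      Representable ((yon S).map w ≫ qπ s t) := by
    intro W w hW hw
    haveI := hW
    haveI := hw
    haveI : Etale t.left := h.etale_right
    apply representable_comp_of_kernelPair SepLqf
      (fun X' S' p hs hf hl D hD => sepLqf_effective p hs hf hl D hD) (qπ s t) s t
      (isPullback_qπ s t h.toIsEqvRel) w
    haveI : IsOpenImmersion (pullback.snd w s).left :=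
      MorphismProperty.of_isPullback (P := @IsOpenImmersion)
        ((IsPullback.of_hasPullback w s).map (Over.forget S)) hw
    haveI : Etale (pullback.snd w s ≫ t).left := by
      rw [Over.comp_left]
      infer_instance
    refine ⟨isSeparated_restrict_of_isEqvRel s t h.toIsEqvRel w, ?_, inferInstance⟩
    exact Groth.Agent.Helper2.DescRed.locallyQuasiFinite_of_etale _
  have hrw : RepWith ⊤ (qπ s t) := by
    refine Groth.Agent.Helper2.GlueSp.repWith_of_source_openCover ⊤ (qπ s t)
      (fun k : U.left.affineCover.I₀ => Over.mk (U.left.affineCover.f k ≫ U.hom))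
      (fun k => Over.homMk (U.left.affineCover.f k) rfl)
      (fun k => inferInstanceAs (IsOpenImmersion (U.left.affineCover.f k)))
      (fun x => ?_) (fun k => ?_)
    · obtain ⟨k, y, hy⟩ := U.left.affineCover.exists_eq x
      exact ⟨k, y, hy⟩
    · exact ⟨key _ _ (inferInstanceAs (IsAffine (U.left.affineCover.X k)))
        (inferInstanceAs (IsOpenImmersion (U.left.affineCover.f k))), fun _ _ _ _ _ _ => trivial⟩
  exact hrw.rep

/-- The quotient sheaf of a scheme by an étale equivalence relation is an algebraic space. -/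
theorem isAlgSpace_quot (h : IsEtaleEqvRel s t) :
    IsAlgSpace (QuotSh.quot Scheme.fppfPrecoverage s t) := by
  have hrep := representable_qπ s t h
  have he : RepWith @Etale (qπ s t) := repWith_qπ s t @Etale h.toIsEqvRel hrep h.etale_left
  have hs : RepWith @Surjective (qπ s t) := repWith_qπ s t @Surjective h.toIsEqvRel hrep
    (surjective_left_of_isEqvRel s t h.toIsEqvRel)
  refine ⟨?_, U, qπ s t, he, hs⟩
  exact representable_diag_of_chart (qπ s t) hrep (repWith_flat_of_etale he)
    (repWith_lfp_of_etale he) hs

end Groth.Agent.Helper2.AlgSpDesc
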