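import Mathlib
import Groth.Agent.Lib.Helper2.AlgSp.QuotOpen
import Groth.Agent.Lib.Helper2.AlgSp.QuotEff

/-!
# Open immersions of quotient sheaves of schemes by pre-equivalence relations (helper2)
-/

set_option autoImplicit false
open CategoryTheory CategoryTheory.Limits AlgebraicGeometry Opposite AlgSp
open Groth.Agent.Helper2.AlgSpBasic

namespace Groth.Agent.Helper2.QuotOpenSch
universe u
variable {S : Scheme.{u}}

open Groth.Agent.Helper2.QuotEff

section Iso
variable {R U : Over S} (s t : R ⟶ U)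

noncomputable def toCoeq : QuotSh.quot Scheme.fppfPrecoverage s t ⟶
    coequalizer ((yon S).map s) ((yon S).map t) :=
  coequalizer.desc ((QuotSh.repIsoUliftYoneda Scheme.fppfPrecoverage U).hom ≫
      coequalizer.π ((yon S).map s) ((yon S).map t)) (by
    rw [← Category.assoc, repMap_repIso, Category.assoc, coequalizer.condition,
      ← Category.assoc, ← repMap_repIso, Category.assoc])

theorem quotπ_toCoeq : QuotSh.quotπ Scheme.fppfPrecoverage s t ≫ toCoeq s t =
    (QuotSh.repIsoUliftYoneda Scheme.fppfPrecoverage U).hom ≫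
      coequalizer.π ((yon S).map s) ((yon S).map t) := coequalizer.π_desc _ _

noncomputable def fromCoeq : coequalizer ((yon S).map s) ((yon S).map t) ⟶
    QuotSh.quot Scheme.fppfPrecoverage s t :=
  coequalizer.desc (qπ s t) (qπ_condition s t)

theorem π_fromCoeq : coequalizer.π ((yon S).map s) ((yon S).map t) ≫ fromCoeq s t = qπ s t :=
  coequalizer.π_desc _ _

theorem toCoeq_fromCoeq : toCoeq s t ≫ fromCoeq s t = 𝟙 _ := by
  rw [← cancel_epi (QuotSh.quotπ Scheme.fppfPrecoverage s t), ← Category.assoc, quotπ_toCoeq,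
    Category.assoc, π_fromCoeq, Category.comp_id]
  unfold qπ
  rw [Iso.hom_inv_id_assoc]

theorem fromCoeq_toCoeq : fromCoeq s t ≫ toCoeq s t = 𝟙 _ := by
  rw [← cancel_epi (coequalizer.π ((yon S).map s) ((yon S).map t)), ← Category.assoc, π_fromCoeq,
    Category.comp_id]
  unfold qπ
  rw [Category.assoc, quotπ_toCoeq, Iso.inv_hom_id_assoc]

/-- The prelude's quotient sheaf is the coequalizer of the representable sheaves. -/
noncomputable def quotIso : QuotSh.quot Scheme.fppfPrecoverage s t ≅
    coequalizer ((yon S).map s) ((yon S).map t) where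
  hom := toCoeq s t
  inv := fromCoeq s t
  hom_inv_id := toCoeq_fromCoeq s t
  inv_hom_id := fromCoeq_toCoeq s t

theorem qπ_quotIso_hom :
    qπ s t ≫ (quotIso s t).hom = coequalizer.π ((yon S).map s) ((yon S).map t) := by
  rw [← Iso.eq_comp_inv]
  exact (π_fromCoeq s t).symm

theorem π_quotIso_inv :
    coequalizer.π ((yon S).map s) ((yon S).map t) ≫ (quotIso s t).inv = qπ s t :=
  π_fromCoeq s t

end Iso

section Transfer
variable {R U R' U' : Over S} (s t : R ⟶ U) (s' t' : R' ⟶ U') (g : U' ⟶ U)

/-- Transport a map of the prelude's quotient sheaves to the coequalizers. -/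
theorem exists_coeq_map
    (φ : QuotSh.quot Scheme.fppfPrecoverage s' t' ⟶ QuotSh.quot Scheme.fppfPrecoverage s t)
    (hφ : QuotSh.quotπ Scheme.fppfPrecoverage s' t' ≫ φ =
      QuotSh.repMap Scheme.fppfPrecoverage g ≫ QuotSh.quotπ Scheme.fppfPrecoverage s t) :
    ∃ φc : coequalizer ((yon S).map s') ((yon S).map t') ⟶
        coequalizer ((yon S).map s) ((yon S).map t),
      coequalizer.π _ _ ≫ φc = (yon S).map g ≫ coequalizer.π _ _ ∧
      φ = (quotIso s' t').hom ≫ φc ≫ (quotIso s t).inv := by
  refine ⟨(quotIso s' t').inv ≫ φ ≫ (quotIso s t).hom, ?_, ?_⟩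
  · rw [← Category.assoc, π_quotIso_inv]
    unfold qπ
    rw [Category.assoc, ← Category.assoc (QuotSh.quotπ _ _ _), hφ, Category.assoc,
      ← Category.assoc, repIso_inv_repMap, Category.assoc]
    congr 1
    rw [← Category.assoc]
    exact qπ_quotIso_hom s t
  · simp only [Category.assoc, Iso.hom_inv_id, Category.comp_id, Iso.hom_inv_id_assoc]

end Transfer


section Main
variable {R U R' U' : Over S} (s t : R ⟶ U) (g : U' ⟶ U) (s' t' : R' ⟶ U') (r : R' ⟶ R)

theorem mem_image_schemeHomeo_iff (T : Over S) (W : Set ↥T.left) (x : ↥T.left) :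
    Points.schemeHomeo T x ∈ Points.schemeHomeo T '' W ↔ x ∈ W :=
  (Points.schemeHomeo T).injective.mem_set_image

open Groth.Agent.Helper2.QuotOpen in
/-- Scheme-level criterion: the restriction of a pre-equivalence relation on a scheme along `g`
induces an open immersion of quotient sheaves when the saturation of the image of `g` is an
invariant open `W` onto which the arrows from `U'` surject fppf-locally. -/
theorem repWith_isOpenImmersion_quot_restrict
    (hpre : IsPreEqvRelSp ((yon S).map s) ((yon S).map t))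
    (hsq : IsPullback (prod.lift t' s') r (prod.map g g) (prod.lift t s))
    (W : U.left.Opens)
    (hinv : ∀ ρ : ↥R.left, t.left ρ ∈ W ↔ s.left ρ ∈ W)
    (h1 : ∀ u' : ↥U'.left, g.left u' ∈ W)
    (h2 : ∀ (T : Over S) (α : T ⟶ U), (∀ x : ↥T.left, α.left x ∈ W) →
      ∃ (κ : Type u) (Wk : κ → Over S) (p : ∀ k, Wk k ⟶ T),
        (∀ k, (@Flat ⊓ @LocallyOfFinitePresentation : MorphismProperty Scheme.{u}) (p k).left) ∧
        (∀ x : T.left, ∃ k, x ∈ Set.range (p k).left) ∧
        ∀ k, ∃ (b : Wk k ⟶ U') (ρ : Wk k ⟶ R), ρ ≫ t = b ≫ g ∧ ρ ≫ s = p k ≫ α)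
    (φ : QuotSh.quot Scheme.fppfPrecoverage s' t' ⟶ QuotSh.quot Scheme.fppfPrecoverage s t)
    (hφ : QuotSh.quotπ Scheme.fppfPrecoverage s' t' ≫ φ =
      QuotSh.repMap Scheme.fppfPrecoverage g ≫ QuotSh.quotπ Scheme.fppfPrecoverage s t) :
    RepWith @IsOpenImmersion φ := by
  obtain ⟨φc, hφc, rfl⟩ := exists_coeq_map s t s' t' g φ hφ
  refine (MorphismProperty.cancel_left_of_respectsIso (RepWith @IsOpenImmersion) _ _).mpr
    ((MorphismProperty.cancel_right_of_respectsIso (RepWith @IsOpenImmersion) _ _).mpr ?_)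
  refine QuotOpen.repWith_isOpenImmersion_quot_restrict ((yon S).map s) ((yon S).map t)
    ((yon S).map g) ((yon S).map s') ((yon S).map t') hpre ?_ φc hφc
    (Points.schemeHomeo U '' (W : Set ↥U.left))
    ((Points.schemeHomeo U).isOpenMap _ W.isOpen) ?_ ?_ ?_
  · intro T a' b' r0 e1 e2
    obtain ⟨α', rfl⟩ := (yon S).map_surjective a'
    obtain ⟨β', rfl⟩ := (yon S).map_surjective b'
    obtain ⟨ρ0, rfl⟩ := (yon S).map_surjective r0
    have e1' : ρ0 ≫ t = α' ≫ g :=
      (yon S).map_injective (by rw [Functor.map_comp, Functor.map_comp]; exact e1)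
    have e2' : ρ0 ≫ s = β' ≫ g :=
      (yon S).map_injective (by rw [Functor.map_comp, Functor.map_comp]; exact e2)
    have hc : prod.lift α' β' ≫ prod.map g g = ρ0 ≫ prod.lift t s := by
      apply Limits.prod.hom_ext
      · simp only [Category.assoc, prod.map_fst, prod.lift_fst, prod.lift_fst_assoc, e1']
      · simp only [Category.assoc, prod.map_snd, prod.lift_snd, prod.lift_snd_assoc, e2']
    refine ⟨(yon S).map (hsq.lift (prod.lift α' β') ρ0 hc), ?_, ?_⟩
    · rw [← Functor.map_comp]
      congr 1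
      have := congrArg (· ≫ prod.fst) (hsq.lift_fst (prod.lift α' β') ρ0 hc)
      simpa only [Category.assoc, prod.lift_fst] using this
    · rw [← Functor.map_comp]
      congr 1
      have := congrArg (· ≫ prod.snd) (hsq.lift_fst (prod.lift α' β') ρ0 hc)
      simpa only [Category.assoc, prod.lift_snd] using this
  · intro q
    obtain ⟨ρ, rfl⟩ := (Points.schemeHomeo R).surjective q
    rw [Points.map_yon_map_apply, Points.map_yon_map_apply, mem_image_schemeHomeo_iff,
      mem_image_schemeHomeo_iff]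
    exact hinv ρ
  · intro q
    obtain ⟨u', rfl⟩ := (Points.schemeHomeo U').surjective q
    rw [Points.map_yon_map_apply, mem_image_schemeHomeo_iff]
    exact h1 u'
  · intro T a ha
    obtain ⟨α, rfl⟩ := (yon S).map_surjective a
    have hα : ∀ x : ↥T.left, α.left x ∈ W := by
      intro x
      have := ha (Points.schemeHomeo T x)
      rwa [Points.map_yon_map_apply, mem_image_schemeHomeo_iff] at this
    obtain ⟨κ, Wk, p, hp, hs, hl⟩ := h2 T α hα
    refine ⟨κ, Wk, p, hp, hs, fun k => ?_⟩
    obtain ⟨b, ρ, e1, e2⟩ := hl k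
    refine ⟨(yon S).map b, (yon S).map ρ, ?_, ?_⟩
    · rw [← Functor.map_comp, ← Functor.map_comp, e1]
    · rw [← Functor.map_comp, ← Functor.map_comp, e2]

end Main

end Groth.Agent.Helper2.QuotOpenSch
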