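import Mathlib
import Groth.Prelude.Def_AlgSp4
import Groth.Agent.Lib.Helper2.AlgSp.BaseCh2
import Groth.Agent.Lib.Helper2.AlgSp.QuotOpenSch
import Groth.Agent.Lib.Helper2.AlgSp.EtEqvQuot
import Groth.Agent.Lib.Helper2.AlgSp.Thick

/-!
# Change of the base scheme, III: the left adjoint `j_!` (helper2)
-/

set_option autoImplicit false
open CategoryTheory CategoryTheory.Limits AlgebraicGeometry Opposite AlgSp
open Groth.Agent.Helper2.AlgSpBasic

namespace Groth.Agent.Helper2.BaseCh
universe u
variable {S S' : Scheme.{u}} (g : S ⟶ S')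

/-- The left adjoint `j_!` of restriction. -/
noncomputable abbrev jShriek : Sp S ⥤ Sp S' :=
  (Over.map g).sheafPullback (Type (u + 1)) (J S) (J S')

/-- The adjunction `j_! ⊣ j⁻¹`. -/
noncomputable abbrev jAdj : jShriek g ⊣ jInv g :=
  (Over.map g).sheafAdjunctionContinuous (Type (u + 1)) (J S) (J S')

/-- `h_X` viewed over `S'` maps to `j_! h_X`. -/
noncomputable def shriekYonHom (X : Over S) :
    (yon S').obj ((Over.map g).obj X) ⟶ (jShriek g).obj ((yon S).obj X) :=
  tr g ((jAdj g).unit.app ((yon S).obj X))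

/-- The inverse map. -/
noncomputable def shriekYonInv (X : Over S) :
    (jShriek g).obj ((yon S).obj X) ⟶ (yon S').obj ((Over.map g).obj X) :=
  ((jAdj g).homEquiv _ _).symm (trInv g (𝟙 _))

theorem shriekYonHom_inv (X : Over S) : shriekYonHom g X ≫ shriekYonInv g X = 𝟙 _ := by
  unfold shriekYonHom
  rw [← tr_comp_map, ← Adjunction.homEquiv_unit, shriekYonInv, Equiv.apply_symm_apply, tr_trInv]

theorem shriekYonInv_hom (X : Over S) : shriekYonInv g X ≫ shriekYonHom g X = 𝟙 _ := by
  apply ((jAdj g).homEquiv _ _).injective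
  have h1 : (jAdj g).homEquiv _ _ (shriekYonInv g X ≫ shriekYonHom g X) =
      (jAdj g).homEquiv _ _ (shriekYonInv g X) ≫ (jInv g).map (shriekYonHom g X) :=
    Adjunction.homEquiv_naturality_right _ _ _
  have h2 : (jAdj g).homEquiv _ _ (𝟙 ((jShriek g).obj ((yon S).obj X))) =
      (jAdj g).unit.app ((yon S).obj X) := by
    rw [Adjunction.homEquiv_unit, CategoryTheory.Functor.map_id]
    exact Category.comp_id _
  rw [h1, h2, shriekYonInv, Equiv.apply_symm_apply]
  apply tr_injective g
  rw [tr_comp_map, tr_trInv, Category.id_comp]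
  rfl

/-- `j_! h_X ≅ h_X` (with `X` viewed over `S'`). -/
noncomputable def shriekYonIso (X : Over S) :
    (yon S').obj ((Over.map g).obj X) ≅ (jShriek g).obj ((yon S).obj X) where
  hom := shriekYonHom g X
  inv := shriekYonInv g X
  hom_inv_id := shriekYonHom_inv g X
  inv_hom_id := shriekYonInv_hom g X

theorem shriekYonIso_naturality {X Y : Over S} (f : X ⟶ Y) :
    (yon S').map ((Over.map g).map f) ≫ (shriekYonIso g Y).hom =
      (shriekYonIso g X).hom ≫ (jShriek g).map ((yon S).map f) := by
  change _ ≫ shriekYonHom g Y = shriekYonHom g X ≫ _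
  unfold shriekYonHom
  rw [← tr_map_comp, ← tr_comp_map]
  congr 1
  exact ((jAdj g).unit.naturality ((yon S).map f))


section EqvRel

variable {R U : Over S} (s t : R ⟶ U)

/-- A morphism to a scheme over `S` viewed over `S'` is a morphism over `S` for the induced
structure morphism. -/
theorem exists_over_lift {T' : Over S'} (r : T' ⟶ (Over.map g).obj R) :
    ∃ (T : Over S) (e : (Over.map g).obj T ≅ T') (r₁ : T ⟶ R),
      T.left = T'.left ∧ e.inv ≫ (Over.map g).map r₁ = r ∧
      (∀ (r' : T' ⟶ (Over.map g).obj R), r'.left ≫ R.hom = r.left ≫ R.hom →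
        ∃ r₁' : T ⟶ R, e.inv ≫ (Over.map g).map r₁' = r') := by
  refine ⟨overOfStr g (r ≫ strMap g R), overOfStrIso g _, Over.homMk r.left (by simp), rfl, ?_, ?_⟩
  · apply Over.OverMorphism.ext
    simp
  · intro r' hr'
    refine ⟨Over.homMk r'.left (by simpa using hr'), ?_⟩
    apply Over.OverMorphism.ext
    simp

theorem map_injective_of_eq {T : Over S} {T' : Over S'} (e : (Over.map g).obj T ≅ T')
    {a b : T ⟶ R} (h : e.inv ≫ (Over.map g).map a = e.inv ≫ (Over.map g).map b) : a = b := by
  rw [cancel_epi] at h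
  apply Over.OverMorphism.ext
  have := congrArg CommaMorphism.left h
  simpa using this

/-- An equivalence relation over `S` is an equivalence relation over `S'`. -/
theorem isEqvRel_map (h : IsEqvRel s t) : IsEqvRel ((Over.map g).map s) ((Over.map g).map t) where
  injective T' r r' h1 h2 := by
    obtain ⟨T, e, r₁, -, hr₁, hlift⟩ := exists_over_lift g r
    obtain ⟨r₁', hr₁'⟩ := hlift r' (by
      have := congrArg CommaMorphism.left h1
      simp only [Over.comp_left, Over.map_map_left] at this
      calc r'.left ≫ R.hom = (r'.left ≫ t.left) ≫ U.hom := by rw [Category.assoc, Over.w t]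
        _ = (r.left ≫ t.left) ≫ U.hom := by rw [this]
        _ = r.left ≫ R.hom := by rw [Category.assoc, Over.w t])
    rw [← hr₁, ← hr₁'] at h1 h2 ⊢
    rw [Category.assoc, Category.assoc, ← Functor.map_comp, ← Functor.map_comp] at h1 h2
    rw [h.injective T r₁ r₁' (map_injective_of_eq g e h1) (map_injective_of_eq g e h2)]
  equivalence T' := by
    refine ⟨fun a => ?_, fun {a b} hab => ?_, fun {a b c} hab hbc => ?_⟩
    · obtain ⟨T, e, a₁, -, ha₁, -⟩ := exists_over_lift g a
      obtain ⟨r₁, h1, h2⟩ := (h.equivalence T).refl a₁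
      refine ⟨e.inv ≫ (Over.map g).map r₁, ?_, ?_⟩
      · rw [Category.assoc, ← Functor.map_comp, h1, ha₁]
      · rw [Category.assoc, ← Functor.map_comp, h2, ha₁]
    · obtain ⟨r, rfl, rfl⟩ := hab
      obtain ⟨T, e, r₁, -, hr₁, -⟩ := exists_over_lift g r
      obtain ⟨r₂, h1, h2⟩ := (h.equivalence T).symm ⟨r₁, rfl, rfl⟩
      refine ⟨e.inv ≫ (Over.map g).map r₂, ?_, ?_⟩
      · rw [Category.assoc, ← Functor.map_comp, h1, Functor.map_comp, ← Category.assoc, hr₁]
      · rw [Category.assoc, ← Functor.map_comp, h2, Functor.map_comp, ← Category.assoc, hr₁]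
    · obtain ⟨r, rfl, rfl⟩ := hab
      obtain ⟨r', h1', rfl⟩ := hbc
      obtain ⟨T, e, r₁, -, hr₁, hlift⟩ := exists_over_lift g r
      obtain ⟨r₁', hr₁'⟩ := hlift r' (by
        have := congrArg CommaMorphism.left h1'
        simp only [Over.comp_left, Over.map_map_left] at this
        calc r'.left ≫ R.hom = (r'.left ≫ t.left) ≫ U.hom := by rw [Category.assoc, Over.w t]
          _ = (r.left ≫ s.left) ≫ U.hom := by rw [this]
          _ = r.left ≫ R.hom := by rw [Category.assoc, Over.w s])
      have h3 : r₁' ≫ t = r₁ ≫ s := by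
        apply map_injective_of_eq g e
        rw [Functor.map_comp, Functor.map_comp, ← Category.assoc, ← Category.assoc, hr₁, hr₁', h1']
      obtain ⟨r₂, h1, h2⟩ := (h.equivalence T).trans ⟨r₁, rfl, rfl⟩ ⟨r₁', h3, rfl⟩
      refine ⟨e.inv ≫ (Over.map g).map r₂, ?_, ?_⟩
      · rw [Category.assoc, ← Functor.map_comp, h1, Functor.map_comp, ← Category.assoc, hr₁]
      · rw [Category.assoc, ← Functor.map_comp, h2, Functor.map_comp, ← Category.assoc, hr₁']

theorem isEtaleEqvRel_map (h : IsEtaleEqvRel s t) :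
    IsEtaleEqvRel ((Over.map g).map s) ((Over.map g).map t) where
  toIsEqvRel := isEqvRel_map g s t h.toIsEqvRel
  etale_left := h.etale_left
  etale_right := h.etale_right

end EqvRel


/-- `j_!` of an algebraic space over `S` is an algebraic space over `S'`. -/
theorem isAlgSpace_jShriek {F : Sp S} (hF : IsAlgSpace F) :
    IsAlgSpace ((jShriek g).obj F) := by
  obtain ⟨U, p, he, hs⟩ := hF.atlas
  obtain ⟨R, a, b, sq⟩ := exists_isPullback_yon hF.diag p p
  have hrel : IsEtaleEqvRel a b := isEtaleEqvRel_of_isPullback a b p he sq.flip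
  haveI : Sheaf.IsLocallySurjective p := isLocallySurjective_of_etale_surjective p he hs
  haveI : Epi p := inferInstance
  haveI : IsRegularEpi p := IsRegularEpiCategory.regularEpiOfEpi p
  haveI : EffectiveEpi p := (isRegularEpi_iff_effectiveEpi p).mp inferInstance
  have hcolim : IsColimit (Cofork.ofπ p sq.w) :=
    isColimitCoforkOfEffectiveEpi p (PullbackCone.mk _ _ sq.w) sq.isLimit
  haveI : PreservesColimitsOfSize.{0, 0} (jShriek g) := (jAdj g).leftAdjoint_preservesColimits
  have hc2 := isColimitCoforkMapOfIsColimit (jShriek g) sq.w hcolim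
  set eU := shriekYonIso g U
  set eR := shriekYonIso g R
  have na : (yon S').map ((Over.map g).map a) ≫ eU.hom = eR.hom ≫ (jShriek g).map ((yon S).map a) :=
    shriekYonIso_naturality g a
  have nb : (yon S').map ((Over.map g).map b) ≫ eU.hom = eR.hom ≫ (jShriek g).map ((yon S).map b) :=
    shriekYonIso_naturality g b
  have w' : (yon S').map ((Over.map g).map a) ≫ eU.hom ≫ (jShriek g).map p =
      (yon S').map ((Over.map g).map b) ≫ eU.hom ≫ (jShriek g).map p := by
    rw [← Category.assoc, na, ← Category.assoc, nb, Category.assoc, Category.assoc,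
      ← Functor.map_comp, ← Functor.map_comp, sq.w]
  have hc3 : IsColimit (Cofork.ofπ (eU.hom ≫ (jShriek g).map p) w') := by
    refine Cofork.IsColimit.mk' _ (fun c => ?_)
    have w'' : (jShriek g).map ((yon S).map a) ≫ eU.inv ≫ c.π =
        (jShriek g).map ((yon S).map b) ≫ eU.inv ≫ c.π := by
      have h1 : (jShriek g).map ((yon S).map a) ≫ eU.inv =
          eR.inv ≫ (yon S').map ((Over.map g).map a) := by
        rw [Iso.eq_inv_comp, ← Category.assoc, ← na, Category.assoc, Iso.hom_inv_id,
          Category.comp_id]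
      have h2 : (jShriek g).map ((yon S).map b) ≫ eU.inv =
          eR.inv ≫ (yon S').map ((Over.map g).map b) := by
        rw [Iso.eq_inv_comp, ← Category.assoc, ← nb, Category.assoc, Iso.hom_inv_id,
          Category.comp_id]
      rw [← Category.assoc, h1, ← Category.assoc, h2, Category.assoc, Category.assoc, c.condition]
    have hπ : (jShriek g).map p ≫ Cofork.IsColimit.desc hc2 (eU.inv ≫ c.π) w'' = eU.inv ≫ c.π :=
      Cofork.IsColimit.π_desc' hc2 _ _
    refine ⟨Cofork.IsColimit.desc hc2 (eU.inv ≫ c.π) w'', ?_, ?_⟩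
    · change (eU.hom ≫ (jShriek g).map p) ≫ _ = _
      rw [Category.assoc, hπ]
      exact Iso.hom_inv_id_assoc _ _
    · intro m hm
      apply Cofork.IsColimit.hom_ext hc2
      change (jShriek g).map p ≫ m = (jShriek g).map p ≫ _
      rw [hπ, Iso.eq_inv_comp, ← Category.assoc]
      exact hm
  have hQ : IsAlgSpace (coequalizer ((yon S').map ((Over.map g).map a))
      ((yon S').map ((Over.map g).map b))) :=
    (Groth.Agent.Helper2.AlgSpDesc.isAlgSpace_quot _ _ (isEtaleEqvRel_map g a b hrel)).of_iso
      (Groth.Agent.Helper2.QuotOpenSch.quotIso _ _)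
  exact hQ.of_iso ((coequalizerIsCoequalizer _ _).coconePointUniqueUpToIso hc3)

end Groth.Agent.Helper2.BaseCh
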