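import Groth.Prelude.Def_AlgSpModX
import Groth.Agent.Lib.Helper2.AlgSp.ChartIdeal

set_option autoImplicit false
set_option backward.isDefEq.respectTransparency false
set_option linter.style.haveILetI false
universe u
open CategoryTheory CategoryTheory.Limits AlgebraicGeometry Opposite AlgSp

namespace Groth.Agent.Helper2.BcRing
open Groth.Agent.Helper2.AlgSpBasic Groth.Agent.Helper2.ChartIdeal

variable {S : Scheme.{u}}

theorem main87 {Z X : Sp S} (i : Z ⟶ X) (hi : RepWith @IsClosedImmersion i) :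
    Presheaf.IsLocallySurjective (etTop X) (bcRingHom hi.1).hom := by
  constructor
  intro E t
  let 𝒰 := E.obj.left.left.affineCover
  let ιk : ∀ k : 𝒰.I₀, Over.mk (𝒰.f k ≫ E.obj.left.hom) ⟶ E.obj.left := fun k =>
    Over.homMk (𝒰.f k) rfl
  have hk : ∀ k, RepWith @Etale ((yon S).map (ιk k) ≫ E.obj.hom) := fun k =>
    repWith_comp @Etale ((repWith_yon_map_iff @Etale (ιk k)).mpr
      (inferInstanceAs (Etale (𝒰.f k)))) E.property
  let Yk : 𝒰.I₀ → EtOver X := fun k => EtOver.mk _ (hk k)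
  let g : ∀ k, Yk k ⟶ E := fun k => EtOver.homMk (ιk k) rfl
  have hcov : Sieve.ofArrows Yk g ∈ etTop X E := by
    apply ofArrows_mem_etTop
    intro x
    obtain ⟨k, y, hy⟩ := 𝒰.exists_eq x
    exact ⟨k, y, hy⟩
  refine (etTop X).superset_covering ?_ hcov
  rw [Sieve.ofArrows, Sieve.generate_le_iff]
  rintro Y' f' ⟨k⟩
  haveI : IsAffine (Yk k).obj.left.left := inferInstanceAs (IsAffine (𝒰.X k))
  haveI : IsClosedImmersion (hi.1.snd (Yk k).obj.hom).left := hi.property_snd (Yk k).obj.hom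
  have hsurj : Function.Surjective (hi.1.snd (Yk k).obj.hom).left.appTop.hom :=
    IsClosedImmersion.isAffine_surjective_of_isAffine (hi.1.snd (Yk k).obj.hom).left |>.2
  show ∃ s, _ = _
  let y := (((EtOver.bc hi.1).sheafPushforwardContinuous RingCat (etTop X) (etTop Z)).obj
    (OEtRing Z)).obj.map (g k).op t
  obtain ⟨s₀, hs₀⟩ := hsurj (ULift.down y)
  refine ⟨ULift.up s₀, ?_⟩
  apply ULift.ext
  exact hs₀

end Groth.Agent.Helper2.BcRing
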