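import Mathlib
import Groth.Agent.Lib.Helper2.AlgSp.FieldFibre3B
import Groth.Agent.Lib.Helper2.AlgSp.FibreSpecB
import Groth.Agent.Lib.Helper2.AlgSp.PtDeg3
import Groth.Agent.Lib.Helper2.AlgSp.DecentOpen3

/-!
# A criterion for decency via bounded fibre degrees (helper2)

(the first two results are copies of results of `UnivBdd`, in a separate namespace, with imports
that are compatible with `Thick`)
-/

set_option autoImplicit false
set_option backward.isDefEq.respectTransparency false
set_option linter.style.haveILetI false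

open CategoryTheory CategoryTheory.Limits AlgebraicGeometry Opposite AlgSp

namespace Groth.Agent.Helper2.DecentCritB
universe u
variable {S : Scheme.{u}}

open Groth.Agent.Helper2.UBAlg Groth.Agent.Helper2.FibDeg Groth.Agent.Helper2.PtDeg
open Groth.Agent.Helper2.DecentOpen

/-- A scheme finite over the spectrum of a field is a finite set. -/
theorem finite_of_isFinite_field {T : Scheme.{u}} {K : Type u} [Field K]
    (c : T ⟶ Spec (CommRingCat.of K)) [IsFinite c] : Finite ↥T := by
  let c₀ : ↥(Spec (CommRingCat.of K)) := IsLocalRing.closedPoint K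
  have h1 := c.finite_preimage_singleton c₀
  refine Set.finite_univ_iff.mp (h1.subset (fun w _ => ?_))
  exact Subsingleton.elim (α := ↥(Spec (CommRingCat.of K))) _ _

/-- If the fibre product of the residue field point of a chart with the chart is a finite set,
the point is represented by a monomorphism. -/
theorem exists_mono_of_finite_fibre_product {X : Sp S} (hX : IsAlgSpace X) {U : Over S}
    (φ : (yon S).obj U ⟶ X) (hφ : RepWith @Etale φ) (u : ↥U.left) {T : Over S}
    (c : T ⟶ FieldFibre.resOver U u) (snd₀ : T ⟶ U)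
    (sqT : IsPullback ((yon S).map c) ((yon S).map snd₀)
      ((yon S).map (FieldFibre.resι U u) ≫ φ) φ) [Finite ↥T.left] :
    ∃ p : FieldPt X, Points.mk p = Points.ofPt φ u ∧ Mono p.toHom := by
  let str := U.left.fromSpecResidueField u ≫ U.hom
  let a : (yon S).obj (Over.mk str) ⟶ X := (yon S).map (FieldFibre.resι U u) ≫ φ
  obtain ⟨P, π, π', sq⟩ := AlgSpBasic.exists_isPullback_yon hX.diag a a
  haveI : Etale π.left := FieldFibre.etale_fst_of_isPullback_residue φ hφ u str a π π' sq
  obtain ⟨l, hl⟩ := (yon S).map_surjective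
    (sqT.lift ((yon S).map π) ((yon S).map (π' ≫ FieldFibre.resι U u)) (by
      rw [Functor.map_comp, Category.assoc]; exact sq.w))
  have hl1 : l ≫ c = π := (yon S).map_injective (by rw [Functor.map_comp, hl, sqT.lift_fst])
  have hl2 : l ≫ snd₀ = π' ≫ FieldFibre.resι U u :=
    (yon S).map_injective (by rw [Functor.map_comp, hl, sqT.lift_snd])
  haveI : Mono l := by
    refine ⟨fun {Z} x y hxy => ?_⟩
    have h1 : x ≫ π = y ≫ π := by rw [← hl1, ← Category.assoc, hxy, Category.assoc]
    have h2 : x ≫ π' = y ≫ π' := by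
      rw [← cancel_mono (FieldFibre.resι U u), Category.assoc, Category.assoc, ← hl2,
        ← Category.assoc, hxy, Category.assoc]
    apply (yon S).map_injective
    apply sq.hom_ext
    · rw [← Functor.map_comp, ← Functor.map_comp, h1]
    · rw [← Functor.map_comp, ← Functor.map_comp, h2]
  haveI : Mono l.left := inferInstance
  haveI : Finite ↥P.left := Finite.of_injective l.left l.left.injective
  haveI : CompactSpace ↥P.left := Finite.compactSpace
  let cu : ↥(Over.mk str).left := IsLocalRing.closedPoint ↥(U.left.residueField u)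
  obtain ⟨p, hp1, hp2, -⟩ := FieldQuot.exists_mono_fieldPt str π π' a sq.flip cu
  refine ⟨p, ?_, hp2⟩
  rw [hp1, AlgSpBasic.ofPt_yon_map_comp]
  have h1 : (FieldFibre.resι U u).left cu = u := Scheme.fromSpecResidueField_apply u cu
  rw [h1]

/-- An algebraic space all of whose affine étale charts have finite fibre degree at every point
is decent. -/
theorem isDecent_of_forall_ptDegLE {X : Sp S} (hX : IsAlgSpace X)
    (h : ∀ (U : Over S) (φ : (yon S).obj U ⟶ X), IsAffine U.left → RepWith @Etale φ →
      ∀ x : Points X, ∃ n, PtDegLE φ x n) : IsDecent X := by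
  intro x
  obtain ⟨V, φ, hV, hφ, u, hu⟩ := FibreSpecB.exists_affine_chart_through hX x
  obtain ⟨n, hn⟩ := h V φ hV hφ x
  let str := V.left.fromSpecResidueField u ≫ V.hom
  let a : (yon S).obj (Over.mk str) ⟶ X := (yon S).map (FieldFibre.resι V u) ≫ φ
  obtain ⟨T, c, snd₀, sqT⟩ := AlgSpBasic.exists_isPullback_yon hX.diag a φ
  let cu : ↥(Over.mk str).left := IsLocalRing.closedPoint ↥(V.left.residueField u)
  have hcu : (FieldFibre.resι V u).left cu = u := Scheme.fromSpecResidueField_apply u cu
  have hdeg : DegLE c.left n := PtDegLE.apply_hom hn str a (by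
    show Points.ofPt ((yon S).map (FieldFibre.resι V u) ≫ φ) cu = x
    rw [AlgSpBasic.ofPt_yon_map_comp, hcu]; exact hu) T c ((yon S).map snd₀) sqT
  haveI hfinc : IsFinite c.left := hdeg.1
  haveI : Finite ↥T.left :=
    finite_of_isFinite_field (K := ↥(V.left.residueField u)) c.left
  obtain ⟨p, hp, hm⟩ := exists_mono_of_finite_fibre_product hX φ hφ u c snd₀ sqT
  rw [hu] at hp
  refine ⟨p, hp, hm, FieldFibreB.repWith_quasiCompact_of_finite_fibres hX p hm ?_⟩
  intro U' ψ hU' hψ
  obtain ⟨n', hn'⟩ := h U' ψ hU' hψ (Points.mk p)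
  exact Set.finite_of_encard_le_coe (encard_fiber_le_of_ptDegLE hX.diag ψ _ n' hn')

/-- A quasi-compact field point has finite fibre degree in every affine étale chart. -/
theorem exists_ptDegLE_of_qc {F : Sp S} (p : FieldPt F) (hq : RepWith @QuasiCompact p.toHom)
    {U : Over S} [IsAffine U.left]
    (a : (yon S).obj U ⟶ F) (hae : RepWith @Etale a) : ∃ n, PtDegLE a (Points.mk p) n := by
  have hrep := hae.rep
  have sq := hrep.isPullback p.toHom
  obtain ⟨fst₀, hfst₀⟩ := (yon S).map_surjective (hrep.fst p.toHom)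
  obtain ⟨c, hc⟩ : ∃ c, c = hrep.snd p.toHom := ⟨_, rfl⟩
  rw [← hc, ← hfst₀] at sq
  haveI : Etale c.left := hae.property p.toHom _ _ sq
  have sq' : IsPullback ((yon S).map c) ((yon S).map fst₀) p.toHom a := sq.flip
  haveI hqc : QuasiCompact fst₀.left := hq.property a _ _ sq'
  haveI : CompactSpace ↥(hrep.pullback p.toHom).left :=
    QuasiCompact.compactSpace_of_compactSpace fst₀.left
  obtain ⟨c', hc'⟩ : ∃ c' : (hrep.pullback p.toHom).left ⟶ Spec (CommRingCat.of p.K),
    c' = c.left := ⟨_, rfl⟩
  haveI : Etale c' := by rw [hc']; infer_instance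
  haveI : QuasiCompact c' := by
    rw [HasAffineProperty.iff_of_isAffine (P := @QuasiCompact)]
    infer_instance
  haveI : LocallyQuasiFinite c' := lqf_of_etale' c'
  haveI : IsFinite c' := IsFinite.of_locallyQuasiFinite c'
  refine ⟨fdeg c', ?_⟩
  refine ptDegLE_of_degLE a p c _ sq' ?_
  rw [← hc']
  exact (degLE_iff _ _).2 ⟨inferInstance, le_rfl⟩

end Groth.Agent.Helper2.DecentCritB
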