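import Mathlib
import Groth.Agent.Lib.Helper2.AlgSp.DecentCritB
import Groth.Agent.Lib.Helper2.AlgSp.DecentClosed
import Groth.Agent.Lib.Helper2.AlgSp.QcMonoPointB

/-!
# Decent spaces with finitely many irreducible components (helper2)
-/

set_option autoImplicit false
set_option linter.style.haveILetI false

open CategoryTheory CategoryTheory.Limits AlgebraicGeometry Opposite AlgSp

universe u

namespace Groth.Agent.Helper2.DenseOpenDecent

open Groth.Agent.Helper2.AlgSpBasic Groth.Agent.Helper2.LargestSch
open Groth.Agent.Helper2.PtDeg Groth.Agent.Helper2.DecentOpen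

section Top

/-- Finiteness of the set of irreducible components passes to open subspaces. -/
theorem finite_irreducibleComponents_of_isOpenEmbedding {A B : Type*} [TopologicalSpace A]
    [TopologicalSpace B] (f : A → B) (hf : Topology.IsOpenEmbedding f)
    (h : (irreducibleComponents B).Finite) : (irreducibleComponents A).Finite := by
  refine (h.image (fun W => f ⁻¹' W)).subset ?_
  intro Z hZ
  have hZirr : IsIrreducible Z := hZ.1
  have himg : IsIrreducible (f '' Z) := hZirr.image f hf.continuous.continuousOn
  obtain ⟨W, hW, hZW, hWmax⟩ := exists_preirreducible (f '' Z) himg.isPreirreducible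
  have hWirr : IsIrreducible W := ⟨himg.nonempty.mono hZW, hW⟩
  refine ⟨W, ⟨hWirr, fun u hu hWu => (hWmax u hu.isPreirreducible hWu).le⟩, ?_⟩
  have h1 : Z ⊆ f ⁻¹' W := fun z hz => hZW ⟨z, hz, rfl⟩
  have h2 : IsIrreducible (f ⁻¹' W) := ⟨hZirr.nonempty.mono h1, hW.preimage hf⟩
  exact (le_antisymm h1 (hZ.2 h2 h1)).symm

/-- A space with a dense subspace having finitely many irreducible components has finitely many
irreducible components. -/
theorem finite_irreducibleComponents_of_denseRange {A B : Type*} [TopologicalSpace A]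
    [TopologicalSpace B] (g : A → B) (hg : Continuous g) (hd : DenseRange g)
    (h : (irreducibleComponents A).Finite) : (irreducibleComponents B).Finite := by
  classical
  refine (h.image (fun T => closure (g '' T))).subset ?_
  intro Z hZ
  have hrange : Set.range g = ⋃ T ∈ irreducibleComponents A, g '' T := by
    rw [← Set.image_iUnion₂, ← Set.sUnion_eq_biUnion, sUnion_irreducibleComponents,
      Set.image_univ]
  have hcover : (Set.univ : Set B) = ⋃ T ∈ irreducibleComponents A, closure (g '' T) := by
    rw [← h.closure_biUnion, ← hrange]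
    exact hd.closure_eq.symm
  obtain ⟨C, hC, hZC⟩ := (isIrreducible_iff_sUnion_isClosed.mp hZ.1)
    (h.toFinset.image (fun T => closure (g '' T))) (by
      intro z hz
      rw [Finset.mem_image] at hz
      obtain ⟨T, -, rfl⟩ := hz
      exact isClosed_closure) (by
      intro z _
      have hz : z ∈ ⋃ T ∈ irreducibleComponents A, closure (g '' T) := hcover ▸ Set.mem_univ z
      simp only [Set.mem_iUnion] at hz
      obtain ⟨T, hT, hzT⟩ := hz
      refine Set.mem_sUnion.mpr ⟨closure (g '' T), ?_, hzT⟩
      rw [Finset.coe_image]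
      exact ⟨T, h.mem_toFinset.mpr hT, rfl⟩)
  rw [Finset.mem_image] at hC
  obtain ⟨T, hT, rfl⟩ := hC
  rw [h.mem_toFinset] at hT
  have hirr : IsIrreducible (closure (g '' T)) := (hT.1.image g hg.continuousOn).closure
  exact ⟨T, hT, le_antisymm (hZ.2 hirr hZC) hZC⟩

end Top

variable {S : Scheme.{u}}

/-- An open immersion from a scheme induces an open embedding on points. -/
theorem isOpenEmbedding_ofPt {X : Sp S} {W : Over S} (j : (yon S).obj W ⟶ X)
    (hj : RepWith @IsOpenImmersion j) : Topology.IsOpenEmbedding (Points.ofPt j) := by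
  have hje : RepWith @Etale j :=
    repWith_mono (fun _ _ g (hg : IsOpenImmersion g) => (inferInstance : Etale g)) hj
  haveI := mono_of_repWith_isOpenImmersion j hj
  refine Topology.IsOpenEmbedding.of_continuous_injective_isOpenMap (Points.continuous_ofPt j) ?_
    (isOpenMap_ofPt j hje)
  intro w w' h
  rw [Points.ofPt_eq_map_ofScheme, Points.ofPt_eq_map_ofScheme] at h
  exact (Points.schemeHomeo W).injective (injective_points_map_of_mono j h)

/-- Forward direction of `S10397`. -/
theorem forward (X : Space S) (hX : IsDecent X.obj)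
    (hfin : (irreducibleComponents (Points X.obj)).Finite) :
    ∃ (X' : Over S) (j : (yon S).obj X' ⟶ X.obj), RepWith @IsOpenImmersion j ∧
      Dense (Set.range (Points.ofPt j)) ∧ (irreducibleComponents ↥X'.left).Finite ∧
      ∀ x' : ↥X'.left, (∃ T ∈ irreducibleComponents ↥X'.left, IsGenericPoint x' T) →
        RepWith @QuasiCompact (FieldPt.ofPt j x').toHom := by
  obtain ⟨W, ⟨e⟩⟩ := exists_iso_yon_schLocus X.property
  have hj : RepWith @IsOpenImmersion (e.hom ≫ openSubι X.obj (schLocus X.obj)) :=
    repWith_comp @IsOpenImmersion (repWith_of_isIso @IsOpenImmersion e.hom)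
      (repWith_isOpenImmersion_openSubι X.obj (isOpen_schLocus X.obj))
  have hrange : Set.range (Points.ofPt (e.hom ≫ openSubι X.obj (schLocus X.obj))) =
      schLocus X.obj := by
    apply Set.Subset.antisymm
    · rintro _ ⟨w, rfl⟩
      rw [Points.ofPt_eq_map_ofScheme, Points.map_comp]
      exact points_map_openSubι_mem X.obj _ _
    · intro x hx
      rw [← range_points_map_openSubι X.obj (schLocus X.obj)] at hx
      obtain ⟨p, rfl⟩ := hx
      obtain ⟨w, hw⟩ := (Points.schemeHomeo W).surjective (Points.map e.inv p)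
      have hw' : Points.ofScheme W w = Points.map e.inv p := hw
      refine ⟨w, ?_⟩
      rw [Points.ofPt_eq_map_ofScheme, hw', ← Points.map_comp, Iso.inv_hom_id_assoc]
  refine ⟨W, e.hom ≫ openSubι X.obj (schLocus X.obj), hj, ?_, ?_, ?_⟩
  · rw [hrange, dense_iff_inter_open]
    intro O hO hne
    exact inter_schLocus_nonempty_of_decent X hX O hO hne
  · exact finite_irreducibleComponents_of_isOpenEmbedding _ (isOpenEmbedding_ofPt _ hj) hfin
  · intro x' _
    obtain ⟨p, hp, hm, hq⟩ := hX (Points.ofPt (e.hom ≫ openSubι X.obj (schLocus X.obj)) x')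
    exact Groth.Agent.Helper2.QcMonoPointB.main X.property p _ hm hq hp.symm

/-- Backward direction of `S10397`, decency. -/
theorem isDecent_of_dense_open (X : Space S) {X' : Over S} (j : (yon S).obj X' ⟶ X.obj)
    (hd : Dense (Set.range (Points.ofPt j)))
    (hfin : (irreducibleComponents ↥X'.left).Finite)
    (hqc : ∀ x' : ↥X'.left, (∃ T ∈ irreducibleComponents ↥X'.left, IsGenericPoint x' T) →
        RepWith @QuasiCompact (FieldPt.ofPt j x').toHom) : IsDecent X.obj := by
  classical
  refine Groth.Agent.Helper2.DecentCritB.isDecent_of_forall_ptDegLE X.property ?_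
  intro U φ hU hφ x
  haveI := hU
  obtain ⟨hfl, hfp, hsep, hqf⟩ := repWith_of_etale_affine φ hφ
  have hGfin : (genericPoints ↥X'.left).Finite := genericPoints.finite hfin
  have hGcl : closure (genericPoints ↥X'.left) = Set.univ := genericPoints.closure
  have hbd : ∀ x' ∈ genericPoints ↥X'.left, ∃ n, PtDegLE φ (Points.ofPt j x') n :=
    fun x' hx' => Groth.Agent.Helper2.DecentCritB.exists_ptDegLE_of_qc (FieldPt.ofPt j x')
      (hqc x' ⟨closure {x'}, hx', rfl⟩) φ hφ
  choose! N hN using hbd
  obtain ⟨n, hn⟩ : ∃ n, n = hGfin.toFinset.sup N := ⟨_, rfl⟩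
  have hC : IsClosed {x : Points X.obj | PtDegLE φ x n} := isClosed_ptDegLE φ hfl hfp hsep hqf n
  have hsub : Points.ofPt j '' genericPoints ↥X'.left ⊆ {x : Points X.obj | PtDegLE φ x n} := by
    rintro _ ⟨x', hx', rfl⟩
    refine (hN x' hx').mono ?_
    rw [hn]
    exact Finset.le_sup (hGfin.mem_toFinset.mpr hx')
  have hcl : closure (Points.ofPt j '' genericPoints ↥X'.left) = Set.univ := by
    rw [Set.eq_univ_iff_forall]
    intro y
    have h1 : y ∈ closure (Set.range (Points.ofPt j)) := hd y
    rw [← Set.image_univ, ← hGcl] at h1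
    have h2 := closure_mono (image_closure_subset_closure_image
      (s := genericPoints ↥X'.left) (Points.continuous_ofPt j)) h1
    rwa [closure_closure] at h2
  have hx : x ∈ closure (Points.ofPt j '' genericPoints ↥X'.left) := by
    rw [hcl]; trivial
  exact ⟨n, hC.closure_subset_iff.mpr hsub hx⟩

/-- `S10397`. -/
theorem main (X : Space S) :
    (IsDecent X.obj ∧ (irreducibleComponents (Points X.obj)).Finite) ↔
      ∃ (X' : Over S) (j : (yon S).obj X' ⟶ X.obj), RepWith @IsOpenImmersion j ∧
        Dense (Set.range (Points.ofPt j)) ∧ (irreducibleComponents ↥X'.left).Finite ∧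
        ∀ x' : ↥X'.left, (∃ T ∈ irreducibleComponents ↥X'.left, IsGenericPoint x' T) →
          RepWith @QuasiCompact (FieldPt.ofPt j x').toHom := by
  constructor
  · rintro ⟨hX, hfin⟩
    exact forward X hX hfin
  · rintro ⟨X', j, hj, hd, hfin, hqc⟩
    refine ⟨isDecent_of_dense_open X j hd hfin hqc, ?_⟩
    exact finite_irreducibleComponents_of_denseRange (Points.ofPt j) (Points.continuous_ofPt j)
      hd hfin

end Groth.Agent.Helper2.DenseOpenDecent
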