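import Mathlib
import Groth.Prelude.Def_W4stk3decentspacesp2Birat
import Groth.Agent.Lib.Helper2.AlgSp.DenseOpenDecent
import Groth.Agent.Lib.Helper2.AlgSp.GenericDecent
import Groth.Agent.Lib.Helper2.AlgSp.DecentClosed
import Groth.Agent.Lib.Helper6.FppfComp.Main

/-!
# Birational morphisms of decent algebraic spaces: reduction to schemes (helper2)
-/

set_option autoImplicit false
set_option linter.style.haveILetI false

open CategoryTheory CategoryTheory.Limits AlgebraicGeometry Opposite AlgSp TopologicalSpace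

universe u

namespace Groth.Agent.Helper2.Birat

open Groth.Agent.Helper2.AlgSpBasic

section Top

variable {T : Type*} [TopologicalSpace T]

/-- A dense open subset of a space with finitely many irreducible components contains all
generic points. -/
theorem mem_of_dense_open_of_generic (hfin : (irreducibleComponents T).Finite) {O : Set T}
    (hO : IsOpen O) (hd : Dense O) {x : T} (hx : closure {x} ∈ irreducibleComponents T) :
    x ∈ O := by
  by_contra hxO
  have hdisj : closure {x} ∩ O = ∅ := by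
    ext z
    simp only [Set.mem_inter_iff, Set.mem_empty_iff_false, iff_false, not_and]
    intro hz hzO
    have : (O ∩ {x}).Nonempty := mem_closure_iff.mp hz O hO hzO
    obtain ⟨w, hwO, hw⟩ := this
    rw [Set.mem_singleton_iff] at hw
    exact hxO (hw ▸ hwO)
  -- `O` is contained in the union of the other components
  have hsub : O ⊆ ⋃ Z ∈ irreducibleComponents T \ {closure {x}}, Z := by
    intro z hzO
    have hz : z ∈ ⋃₀ irreducibleComponents T := by
      rw [sUnion_irreducibleComponents]; trivial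
    obtain ⟨Z, hZ, hzZ⟩ := hz
    refine Set.mem_biUnion (x := Z) ⟨hZ, ?_⟩ hzZ
    rintro rfl
    have : z ∈ closure {x} ∩ O := ⟨hzZ, hzO⟩
    rw [hdisj] at this
    exact this
  have hcl : IsClosed (⋃ Z ∈ irreducibleComponents T \ {closure {x}}, Z) :=
    (hfin.subset Set.sdiff_subset).isClosed_biUnion
      fun Z hZ => isClosed_of_mem_irreducibleComponents Z hZ.1
  have huniv : (Set.univ : Set T) ⊆ ⋃ Z ∈ irreducibleComponents T \ {closure {x}}, Z := by
    rw [← hd.closure_eq]
    exact closure_minimal hsub hcl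
  have hxx : closure {x} ⊆ ⋃ Z ∈ irreducibleComponents T \ {closure {x}}, Z :=
    fun z _ => huniv trivial
  obtain ⟨Z, hZ, hxZ⟩ := (isIrreducible_iff_sUnion_isClosed.mp hx.1)
    ((hfin.subset Set.sdiff_subset).toFinset) (by
      intro Z hZ
      rw [Set.Finite.mem_toFinset] at hZ
      exact isClosed_of_mem_irreducibleComponents Z hZ.1) (by
      intro z hz
      have := hxx hz
      simp only [Set.mem_iUnion] at this
      obtain ⟨Z, hZ, hzZ⟩ := this
      exact Set.mem_sUnion.mpr ⟨Z, by rw [Finset.mem_coe, Set.Finite.mem_toFinset]; exact hZ, hzZ⟩)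
  rw [Set.Finite.mem_toFinset] at hZ
  exact hZ.2 (le_antisymm (hx.2 hZ.1.1 hxZ) hxZ)

/-- An open subset containing all generic points of irreducible components of a quasi-sober
space is dense. -/
theorem dense_of_generic_subset [QuasiSober T] {O : Set T}
    (h : ∀ x : T, closure {x} ∈ irreducibleComponents T → x ∈ O) : Dense O := by
  intro z
  have hz : z ∈ ⋃₀ irreducibleComponents T := by
    rw [sUnion_irreducibleComponents]; trivial
  obtain ⟨Z, hZ, hzZ⟩ := hz
  obtain ⟨x, hx⟩ := Groth.Agent.Lib.Helper6.LocIso.exists_generic_of_mem_irreducibleComponents hZ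
  have hxO : x ∈ O := h x (hx ▸ hZ)
  have : closure {x} ⊆ closure O := closure_mono (Set.singleton_subset_iff.mpr hxO)
  exact this (hx ▸ hzZ)

end Top

section Stalk

variable {U V : Scheme.{u}}

/-- the map of local rings is an isomorphism -/
def StalkIso (g : U ⟶ V) (u : ↥U) : Prop := IsIso (g.stalkMap u)

theorem stalkIso_comp_left {U' : Scheme.{u}} (p : U' ⟶ U) [IsOpenImmersion p] (g : U ⟶ V)
    (w : ↥U') : StalkIso (p ≫ g) w ↔ StalkIso g (p w) := by
  unfold StalkIso
  rw [Scheme.Hom.stalkMap_comp]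
  constructor
  · intro h
    haveI h' : IsIso (g.stalkMap (p w) ≫ p.stalkMap w) := h
    exact IsIso.of_isIso_comp_right (g.stalkMap (p w)) (p.stalkMap w)
  · intro h
    haveI := h
    have h' : IsIso (g.stalkMap (p w) ≫ p.stalkMap w) := inferInstance
    exact h'

theorem stalkIso_comp_right {V' : Scheme.{u}} (g : U ⟶ V) (q : V ⟶ V') [IsOpenImmersion q]
    (u : ↥U) : StalkIso (g ≫ q) u ↔ StalkIso g u := by
  unfold StalkIso
  rw [Scheme.Hom.stalkMap_comp]
  constructor
  · intro h
    haveI h' : IsIso (q.stalkMap (g u) ≫ g.stalkMap u) := h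
    exact IsIso.of_isIso_comp_left (q.stalkMap (g u)) (g.stalkMap u)
  · intro h
    haveI := h
    have h' : IsIso (q.stalkMap (g u) ≫ g.stalkMap u) := inferInstance
    exact h'

end Stalk

variable {S : Scheme.{u}}

/-- The stalk isomorphism condition does not depend on the open subscheme charts. -/
theorem stalkIso_chart_indep {X Y : Sp S} (hX : IsAlgSpace X) (hY : IsAlgSpace Y) (f : X ⟶ Y)
    {U V U' V' : Over S} (a : (yon S).obj U ⟶ X) (b : (yon S).obj V ⟶ Y) (g : U ⟶ V)
    (a' : (yon S).obj U' ⟶ X) (b' : (yon S).obj V' ⟶ Y) (g' : U' ⟶ V')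
    (ha : RepWith @IsOpenImmersion a) (hb : RepWith @IsOpenImmersion b)
    (ha' : RepWith @IsOpenImmersion a') (hb' : RepWith @IsOpenImmersion b')
    (c : a ≫ f = (yon S).map g ≫ b) (c' : a' ≫ f = (yon S).map g' ≫ b')
    (u : ↥U.left) (u' : ↥U'.left) (hu : Points.ofPt a u = Points.ofPt a' u')
    (h : StalkIso g.left u) : StalkIso g'.left u' := by
  obtain ⟨W, p, p', sqW⟩ := exists_isPullback_yon hX.diag a a'
  obtain ⟨w, hw1, hw2⟩ := exists_point_of_isPullback_yon a a' p p' sqW u u' hu
  obtain ⟨Q, q, q', sqQ⟩ := exists_isPullback_yon hY.diag b b'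
  haveI hp : IsOpenImmersion p.left := ha'.2 a ((yon S).map p') p sqW.flip
  haveI hp' : IsOpenImmersion p'.left := ha.2 a' ((yon S).map p) p' sqW
  haveI hq : IsOpenImmersion q.left := hb'.2 b ((yon S).map q') q sqQ.flip
  haveI hq' : IsOpenImmersion q'.left := hb.2 b' ((yon S).map q) q' sqQ
  have hk : (yon S).map (p ≫ g) ≫ b = (yon S).map (p' ≫ g') ≫ b' := by
    rw [Functor.map_comp, Functor.map_comp, Category.assoc, Category.assoc, ← c, ← c',
      ← Category.assoc, ← Category.assoc, sqW.w]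
  obtain ⟨k, hk'⟩ := (yon S).map_surjective (sqQ.lift _ _ hk)
  have hk1 : k ≫ q = p ≫ g := by
    apply (yon S).map_injective
    rw [Functor.map_comp, hk', sqQ.lift_fst]
  have hk2 : k ≫ q' = p' ≫ g' := by
    apply (yon S).map_injective
    rw [Functor.map_comp, hk', sqQ.lift_snd]
  have hk1l : k.left ≫ q.left = p.left ≫ g.left := by
    rw [← Over.comp_left, ← Over.comp_left, hk1]
  have hk2l : k.left ≫ q'.left = p'.left ≫ g'.left := by
    rw [← Over.comp_left, ← Over.comp_left, hk2]
  rw [← hw1] at h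
  have h1 := (stalkIso_comp_left p.left g.left w).mpr h
  rw [← hk1l] at h1
  have h2 := (stalkIso_comp_right k.left q.left w).mp h1
  have h3 := (stalkIso_comp_right k.left q'.left w).mpr h2
  rw [hk2l] at h3
  have h4 := (stalkIso_comp_left p'.left g'.left w).mp h3
  rw [hw2] at h4
  exact h4

theorem gen_scheme_iff {U : Scheme.{u}} (u : ↥U) :
    closure {u} ∈ irreducibleComponents ↥U ↔ ∀ u' : ↥U, u' ⤳ u → u' = u :=
  ⟨fun h _ hu' => Groth.Agent.Lib.Helper6.LocIso.eq_of_specializes_of_closure_mem h hu',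
    Groth.Agent.Lib.Helper6.FppfComp.closure_mem_irreducibleComponents_of_forall_specializes⟩

theorem gen_chart_iff (X : Space S) (hX : IsDecent X.obj) {U : Over S}
    (a : (yon S).obj U ⟶ X.obj) (ha : RepWith @Etale a) (u : ↥U.left) :
    Points.ofPt a u ∈ genericPoints (Points X.obj) ↔
      closure {u} ∈ irreducibleComponents ↥U.left := by
  rw [gen_scheme_iff, ← Groth.Agent.Helper2.GenericDecent.generic_iff_max X hX a ha u]
  constructor
  · intro h
    exact ⟨_, h, rfl⟩
  · rintro ⟨T, hT, hx⟩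
    show closure {Points.ofPt a u} ∈ irreducibleComponents (Points X.obj)
    rw [hx.def]
    exact hT

theorem repWith_etale_of_isOpenImmersion {F G : Sp S} {f : F ⟶ G}
    (hf : RepWith @IsOpenImmersion f) : RepWith @Etale f :=
  repWith_mono (fun _ _ g (_ : IsOpenImmersion g) => (inferInstance : Etale g)) hf

/-- The scheme-level data of a birational morphism of decent spaces. -/
structure Core {X Y : Space S} (f : X ⟶ Y) where
  U₀ : Over S
  Y₀ : Over S
  a₀ : (yon S).obj U₀ ⟶ X.obj
  b₀ : (yon S).obj Y₀ ⟶ Y.obj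
  g₀ : U₀ ⟶ Y₀
  ha₀ : RepWith @IsOpenImmersion a₀
  hb₀ : RepWith @IsOpenImmersion b₀
  comm : a₀ ≫ f.hom = (yon S).map g₀ ≫ b₀
  hUfin : (irreducibleComponents ↥U₀.left).Finite
  hYfin : (irreducibleComponents ↥Y₀.left).Finite
  hbij : Set.BijOn (fun x : ↥U₀.left => g₀.left.base x)
    {x : ↥U₀.left | closure {x} ∈ irreducibleComponents ↥U₀.left}
    {y : ↥Y₀.left | closure {y} ∈ irreducibleComponents ↥Y₀.left}
  hiso : ∀ x : ↥U₀.left, closure {x} ∈ irreducibleComponents ↥U₀.left →
    IsIso (g₀.left.stalkMap x)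
  genX : ∀ x ∈ genericPoints (Points X.obj), x ∈ Set.range (Points.ofPt a₀)
  genY : ∀ y ∈ genericPoints (Points Y.obj), y ∈ Set.range (Points.ofPt b₀)
  denseX : Dense (Set.range (Points.ofPt a₀))
  denseY : Dense (Set.range (Points.ofPt b₀))

theorem exists_core {X Y : Space S} (f : X ⟶ Y)
    (hX : IsDecent X.obj) (hY : IsDecent Y.obj)
    (hXf : (irreducibleComponents (Points X.obj)).Finite)
    (hYf : (irreducibleComponents (Points Y.obj)).Finite)
    (hf : W4stk3decentspacesp2.IsBirational f.hom) : Nonempty (Core f) := by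
  obtain ⟨X₀, jX, hjX, hdX, -, -⟩ := Groth.Agent.Helper2.DenseOpenDecent.forward X hX hXf
  obtain ⟨Y₀, jY, hjY, hdY, hfY, -⟩ := Groth.Agent.Helper2.DenseOpenDecent.forward Y hY hYf
  obtain ⟨U₀, pr₁, g₀, sq⟩ := exists_isPullback_yon Y.property.diag (jX ≫ f.hom) jY
  haveI hpr : IsOpenImmersion pr₁.left := hjY.2 (jX ≫ f.hom) ((yon S).map g₀) pr₁ sq.flip
  have hpr' : RepWith @IsOpenImmersion ((yon S).map pr₁) := (repWith_yon_map_iff _ pr₁).2 hpr
  have ha₀ : RepWith @IsOpenImmersion ((yon S).map pr₁ ≫ jX) :=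
    repWith_comp @IsOpenImmersion hpr' hjX
  have comm : ((yon S).map pr₁ ≫ jX) ≫ f.hom = (yon S).map g₀ ≫ jY := by
    rw [Category.assoc]; exact sq.w
  have hopenX := (Groth.Agent.Helper2.DenseOpenDecent.isOpenEmbedding_ofPt jX hjX).isOpen_range
  have hopenY := (Groth.Agent.Helper2.DenseOpenDecent.isOpenEmbedding_ofPt jY hjY).isOpen_range
  have hembU := Groth.Agent.Helper2.DenseOpenDecent.isOpenEmbedding_ofPt _ ha₀
  have hembY := Groth.Agent.Helper2.DenseOpenDecent.isOpenEmbedding_ofPt jY hjY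
  have hae := repWith_etale_of_isOpenImmersion ha₀
  have hbe := repWith_etale_of_isOpenImmersion hjY
  have genY : ∀ y ∈ genericPoints (Points Y.obj), y ∈ Set.range (Points.ofPt jY) :=
    fun y hy => mem_of_dense_open_of_generic hYf hopenY hdY hy
  have genX : ∀ x ∈ genericPoints (Points X.obj),
      x ∈ Set.range (Points.ofPt ((yon S).map pr₁ ≫ jX)) := by
    intro x hx
    obtain ⟨x₀, rfl⟩ := mem_of_dense_open_of_generic hXf hopenX hdX hx
    obtain ⟨y₀, hy₀⟩ := genY _ (hf.bijOn.mapsTo hx)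
    have e : Points.ofPt (jX ≫ f.hom) x₀ = Points.ofPt jY y₀ := by
      rw [← Points.map_ofPt, hy₀]
    obtain ⟨w, hw1, -⟩ := exists_point_of_isPullback_yon (jX ≫ f.hom) jY pr₁ g₀ sq x₀ y₀ e
    exact ⟨w, by rw [ofPt_yon_map_comp, hw1]⟩
  haveI := Groth.Agent.Helper2.DecentOpen.quasiSober_of_decent X hX
  haveI := Groth.Agent.Helper2.DecentOpen.quasiSober_of_decent Y hY
  have hmap : ∀ w : ↥U₀.left, Points.map f.hom (Points.ofPt ((yon S).map pr₁ ≫ jX) w) =
      Points.ofPt jY (g₀.left w) := by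
    intro w
    rw [Points.map_ofPt, comm, ofPt_yon_map_comp]
  refine ⟨⟨U₀, Y₀, (yon S).map pr₁ ≫ jX, jY, g₀, ha₀, hjY, comm,
    Groth.Agent.Helper2.DenseOpenDecent.finite_irreducibleComponents_of_isOpenEmbedding _ hembU hXf,
    hfY, ⟨?_, ?_, ?_⟩, ?_, genX, genY, dense_of_generic_subset genX,
    dense_of_generic_subset genY⟩⟩
  · intro w hw
    have h1 := (gen_chart_iff X hX _ hae w).mpr hw
    have h2 := hf.bijOn.mapsTo h1
    rw [hmap] at h2
    exact (gen_chart_iff Y hY jY hbe _).mp h2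
  · intro w hw w' hw' hww'
    have h1 := (gen_chart_iff X hX _ hae w).mpr hw
    have h1' := (gen_chart_iff X hX _ hae w').mpr hw'
    have h2 : Points.map f.hom (Points.ofPt ((yon S).map pr₁ ≫ jX) w) =
        Points.map f.hom (Points.ofPt ((yon S).map pr₁ ≫ jX) w') := by
      rw [hmap, hmap]
      exact congrArg _ hww'
    exact hembU.injective (hf.bijOn.injOn h1 h1' h2)
  · intro y₀ hy₀
    have h1 := (gen_chart_iff Y hY jY hbe y₀).mpr hy₀
    obtain ⟨x, hx, hxy⟩ := hf.bijOn.surjOn h1
    obtain ⟨w, rfl⟩ := genX x hx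
    refine ⟨w, (gen_chart_iff X hX _ hae w).mp hx, ?_⟩
    rw [hmap] at hxy
    exact hembY.injective hxy
  · intro w hw
    have h1 := (gen_chart_iff X hX _ hae w).mpr hw
    obtain ⟨U, V, a, b, g, u, ha, hb, c, hu, hiso⟩ := hf.stalkIso _ h1
    exact stalkIso_chart_indep X.property Y.property f.hom a b g _ jY g₀ ha hb ha₀ hjY c comm u w hu
      hiso

end Groth.Agent.Helper2.Birat
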