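import Mathlib
import Groth.Agent.Lib.Helper2.AlgSp.BiratCore
import Groth.Agent.Lib.Helper2.Sch.SpecializeAlg
import Groth.Agent.Lib.Helper2.AlgSp.FibreSpecB
import Groth.Agent.Lib.Helper4.TrdegEtale1

/-!
# The fibre of a birational morphism of decent spaces over a generic point (helper2)
-/

set_option autoImplicit false
set_option linter.style.haveILetI false

open CategoryTheory CategoryTheory.Limits AlgebraicGeometry Opposite AlgSp TopologicalSpace

universe u

namespace Groth.Agent.Helper2.Birat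

open Groth.Agent.Helper2.AlgSpBasic

section Sch

variable {U V : Scheme.{u}}

/-- the residue field extension is integral -/
def ResInt (g : U ⟶ V) (u : ↥U) : Prop := (g.residueFieldMap u).hom.IsIntegral

theorem resInt_comp {W : Scheme.{u}} (g : U ⟶ V) (k : V ⟶ W) (u : ↥U) (h1 : ResInt g u)
    (h2 : ResInt k (g u)) : ResInt (g ≫ k) u := by
  unfold ResInt at *
  have e : ((g ≫ k).residueFieldMap u).hom =
      (g.residueFieldMap u).hom.comp (k.residueFieldMap (g u)).hom := by
    rw [Scheme.residueFieldMap_comp]; rfl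
  rw [e]
  exact RingHom.IsIntegral.trans _ _ h2 h1

theorem resInt_of_comp_isOpenImmersion {W : Scheme.{u}} (s : U ⟶ V) [IsOpenImmersion s]
    (m : V ⟶ W) (u : ↥U) (h : ResInt (s ≫ m) u) : ResInt m (s u) := by
  unfold ResInt at *
  have e : ((s ≫ m).residueFieldMap u).hom =
      (s.residueFieldMap u).hom.comp (m.residueFieldMap (s u)).hom := by
    rw [Scheme.residueFieldMap_comp]; rfl
  rw [e] at h
  refine RingHom.IsIntegral.tower_bot _ _ ?_ h
  exact (ConcreteCategory.bijective_of_isIso (s.residueFieldMap u)).1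

theorem resInt_of_stalkIso (g : U ⟶ V) (u : ↥U) (h : StalkIso g u) : ResInt g u := by
  unfold ResInt
  apply RingHom.isIntegral_of_surjective
  intro k
  obtain ⟨b, rfl⟩ := IsLocalRing.residue_surjective k
  haveI : IsIso (g.stalkMap u) := h
  obtain ⟨a, rfl⟩ := (ConcreteCategory.bijective_of_isIso (g.stalkMap u)).2 b
  refine ⟨V.residue (g u) a, ?_⟩
  have := Scheme.residue_residueFieldMap g u
  exact congrArg (fun φ => φ.hom a) this

theorem resInt_of_etale (g : U ⟶ V) [Etale g] (u : ↥U) : ResInt g u :=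
  Groth.Agent.Lib.Helper4.TrdegEtale1.residueFieldMap_isIntegral_of_unramified g u

end Sch

variable {S : Scheme.{u}}

/-- A point over a generic point is generic, for a birational morphism of decent spaces. -/
theorem generic_of_map_generic {X Y : Space S} (f : X ⟶ Y)
    (hX : IsDecent X.obj) (hY : IsDecent Y.obj)
    (hXf : (irreducibleComponents (Points X.obj)).Finite)
    (hYf : (irreducibleComponents (Points Y.obj)).Finite)
    (hf : W4stk3decentspacesp2.IsBirational f.hom) (x : Points X.obj)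
    (hx : Points.map f.hom x ∈ genericPoints (Points Y.obj)) :
    x ∈ genericPoints (Points X.obj) := by
  obtain ⟨T⟩ := exists_core f hX hY hXf hYf hf
  haveI := Groth.Agent.Helper2.DecentOpen.quasiSober_of_decent X hX
  haveI := Groth.Agent.Helper2.FibreSpecB.t0Space_of_isDecent X.property hX
  haveI := Groth.Agent.Helper2.FibreSpecB.t0Space_of_isDecent Y.property hY
  obtain ⟨x', hx'gen, hx'x⟩ := Groth.Agent.Lib.Helper6.LocIso.exists_generic_specializes x
  have hfx' : Points.map f.hom x' = Points.map f.hom x :=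
    Groth.Agent.Lib.Helper6.LocIso.eq_of_specializes_of_closure_mem hx
      (hx'x.map (Points.continuous_map f.hom))
  suffices hxx' : x = x' by
    rw [hxx']; exact hx'gen
  obtain ⟨u₀, hu₀⟩ := T.genX x' hx'gen
  have hae := repWith_etale_of_isOpenImmersion T.ha₀
  have hbe := repWith_etale_of_isOpenImmersion T.hb₀
  have hu₀gen : closure {u₀} ∈ irreducibleComponents ↥T.U₀.left :=
    (gen_chart_iff X hX T.a₀ hae u₀).mp (hu₀ ▸ hx'gen)
  have hiso : StalkIso T.g₀.left u₀ := T.hiso u₀ hu₀gen
  have hmapx' : Points.map f.hom x' = Points.ofPt T.b₀ (T.g₀.left u₀) := by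
    rw [← hu₀, Points.map_ofPt, T.comm, ofPt_yon_map_comp]
  -- a chart at `x`
  obtain ⟨W, c, hce, hcs⟩ := X.property.atlas
  obtain ⟨w, rfl⟩ := surjective_ofPt c hcs x
  obtain ⟨w', hw'w, hw'⟩ := Groth.Agent.Helper2.FibreSpecB.exists_specializes_of_isDecent
    X.property hX _ x' hx'x c hce w rfl
  -- the part of the chart over `Y₀`
  obtain ⟨P, i, m, sqP⟩ := exists_isPullback_yon Y.property.diag (c ≫ f.hom) T.b₀
  haveI hi : IsOpenImmersion i.left := T.hb₀.2 (c ≫ f.hom) ((yon S).map m) i sqP.flip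
  obtain ⟨p, hp1, hp2⟩ := exists_point_of_isPullback_yon (c ≫ f.hom) T.b₀ i m sqP w
    (T.g₀.left u₀) (by rw [← Points.map_ofPt, ← hfx', hmapx'])
  obtain ⟨p', hp'1, hp'2⟩ := exists_point_of_isPullback_yon (c ≫ f.hom) T.b₀ i m sqP w'
    (T.g₀.left u₀) (by rw [← Points.map_ofPt, hw', hmapx'])
  have hp'p : p' ⤳ p := by
    rw [← i.left.isOpenEmbedding.isInducing.specializes_iff, hp1, hp'1]
    exact hw'w
  -- the part of the chart over `U₀`
  obtain ⟨R, r₁, r₂, sqR⟩ := exists_isPullback_yon X.property.diag T.a₀ c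
  haveI hr₁ : Etale r₁.left := hce.2 T.a₀ ((yon S).map r₂) r₁ sqR.flip
  haveI hr₂ : IsOpenImmersion r₂.left := T.ha₀.2 c ((yon S).map r₁) r₂ sqR
  obtain ⟨ρ, hρ1, hρ2⟩ := exists_point_of_isPullback_yon T.a₀ c r₁ r₂ sqR u₀ w'
    (by rw [hu₀, hw'])
  have hs : (yon S).map r₂ ≫ c ≫ f.hom = (yon S).map (r₁ ≫ T.g₀) ≫ T.b₀ := by
    rw [← Category.assoc, ← sqR.w, Category.assoc, T.comm, Functor.map_comp, Category.assoc]
  obtain ⟨s, hs'⟩ := (yon S).map_surjective (sqP.lift _ _ hs)
  have hs1 : s ≫ i = r₂ := by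
    apply (yon S).map_injective
    rw [Functor.map_comp, hs', sqP.lift_fst]
  have hs2 : s ≫ m = r₁ ≫ T.g₀ := by
    apply (yon S).map_injective
    rw [Functor.map_comp, hs', sqP.lift_snd]
  have hs1l : s.left ≫ i.left = r₂.left := by rw [← Over.comp_left, hs1]
  have hs2l : s.left ≫ m.left = r₁.left ≫ T.g₀.left := by
    rw [← Over.comp_left, ← Over.comp_left, hs2]
  haveI hsoi : IsOpenImmersion s.left := by
    haveI : IsOpenImmersion (s.left ≫ i.left) := by rw [hs1l]; infer_instance
    exact IsOpenImmersion.of_comp s.left i.left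
  have hsρ : s.left ρ = p' := by
    apply i.left.isOpenEmbedding.injective
    rw [hp'1, ← hρ2, ← hs1l]
    rfl
  -- integrality of the residue field extension at `p'`
  have hint : ResInt m.left p' := by
    rw [← hsρ]
    apply resInt_of_comp_isOpenImmersion
    rw [hs2l]
    refine resInt_comp _ _ _ (resInt_of_etale r₁.left ρ) ?_
    rw [hρ1]
    exact resInt_of_stalkIso _ _ hiso
  have hpp' : p = p' := Groth.Agent.Helper2.SpecializeAlg.eq_of_specializes_of_isIntegral_residueFieldMap
    m.left hp'p (by rw [hp2, hp'2]) hint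
  rw [← hw', ← hp1, ← hp'1, hpp']

end Groth.Agent.Helper2.Birat
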