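import Mathlib
import Groth.Agent.Lib.Helper2.AlgSp.BiratCore
import Groth.Agent.Lib.Helper2.AlgSp.Reduced
import Groth.Agent.Lib.Helper6.LocIso.Dense

/-!
# Birational morphisms of decent algebraic spaces: dense open isomorphisms (helper2)
-/

set_option autoImplicit false
set_option linter.style.haveILetI false

open CategoryTheory CategoryTheory.Limits AlgebraicGeometry Opposite AlgSp TopologicalSpace

universe u

namespace Groth.Agent.Helper2.Birat

open Groth.Agent.Helper2.AlgSpBasic

variable {S : Scheme.{u}}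

theorem repWith_isOpenImmersion_opensOverι {U : Over S} (W : U.left.Opens) :
    RepWith @IsOpenImmersion ((yon S).map (opensOverι W)) := by
  rw [repWith_yon_map_iff]
  show IsOpenImmersion W.ι
  infer_instance

theorem range_ofPt_opensOverι {F : Sp S} {U : Over S} (a : (yon S).obj U ⟶ F)
    (W : U.left.Opens) :
    Set.range (Points.ofPt ((yon S).map (opensOverι W) ≫ a)) = Points.ofPt a '' (W : Set ↥U.left) := by
  ext x
  constructor
  · rintro ⟨w, rfl⟩
    rw [ofPt_yon_map_comp]
    exact ⟨_, w.2, rfl⟩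
  · rintro ⟨u, hu, rfl⟩
    exact ⟨⟨u, hu⟩, by rw [ofPt_yon_map_comp]; rfl⟩

theorem core_hf {X Y : Space S} {f : X ⟶ Y} (T : Core f)
    (h : (LocP @LocallyOfFiniteType f.hom ∧ EtaleLocally (fun T => IsReduced T) Y.obj) ∨
      LocP @LocallyOfFinitePresentation f.hom) :
    (LocallyOfFiniteType T.g₀.left ∧ IsReduced T.Y₀.left) ∨
      LocallyOfFinitePresentation T.g₀.left := by
  have hae := repWith_etale_of_isOpenImmersion T.ha₀
  have hbe := repWith_etale_of_isOpenImmersion T.hb₀
  rcases h with ⟨h1, h2⟩ | h1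
  · exact Or.inl ⟨h1 T.a₀ T.b₀ T.g₀ hae hbe T.comm, isReduced_of_etale_of_isReducedSp h2 T.b₀ hbe⟩
  · exact Or.inr (h1 T.a₀ T.b₀ T.g₀ hae hbe T.comm)

theorem S10435_main {X Y : Space S} (f : X ⟶ Y)
    (hX : IsDecent X.obj) (hY : IsDecent Y.obj)
    (hXf : (irreducibleComponents (Points X.obj)).Finite)
    (hYf : (irreducibleComponents (Points Y.obj)).Finite)
    (hf : W4stk3decentspacesp2.IsBirational f.hom)
    (h : (LocP @LocallyOfFiniteType f.hom ∧ EtaleLocally (fun T => IsReduced T) Y.obj) ∨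
      LocP @LocallyOfFinitePresentation f.hom) :
    ∃ (U V : Over S) (a : (yon S).obj U ⟶ X.obj) (b : (yon S).obj V ⟶ Y.obj) (g : U ⟶ V),
      RepWith @IsOpenImmersion a ∧ RepWith @IsOpenImmersion b ∧
        Dense (Set.range (Points.ofPt a)) ∧ Dense (Set.range (Points.ofPt b)) ∧
          a ≫ f.hom = (yon S).map g ≫ b ∧ IsIso g.left := by
  obtain ⟨T⟩ := exists_core f hX hY hXf hYf hf
  obtain ⟨U, V, hUV, hUd, hVd, hiso⟩ := Groth.Agent.Lib.Helper6.LocIso.exists_dense_iso T.g₀.left
    T.hUfin T.hYfin T.hbij T.hiso (core_hf T h)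
  have hw : T.g₀.left.resLE V U hUV ≫ (opensOver V).hom = (opensOver U).hom := by
    show T.g₀.left.resLE V U hUV ≫ V.ι ≫ T.Y₀.hom = U.ι ≫ T.U₀.hom
    rw [← Category.assoc, Scheme.Hom.resLE_comp_ι, Category.assoc, Over.w]
  have hcomm : (Over.homMk (T.g₀.left.resLE V U hUV) hw : opensOver U ⟶ opensOver V) ≫
      opensOverι V = opensOverι U ≫ T.g₀ := by
    ext
    show T.g₀.left.resLE V U hUV ≫ V.ι = U.ι ≫ T.g₀.left
    exact Scheme.Hom.resLE_comp_ι _ _
  refine ⟨opensOver U, opensOver V, (yon S).map (opensOverι U) ≫ T.a₀,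
    (yon S).map (opensOverι V) ≫ T.b₀, Over.homMk (T.g₀.left.resLE V U hUV) hw,
    repWith_comp @IsOpenImmersion (repWith_isOpenImmersion_opensOverι U) T.ha₀,
    repWith_comp @IsOpenImmersion (repWith_isOpenImmersion_opensOverι V) T.hb₀, ?_, ?_, ?_, hiso⟩
  · rw [range_ofPt_opensOverι]
    exact (show DenseRange (Points.ofPt T.a₀) from T.denseX).dense_image
      (Points.continuous_ofPt _) hUd
  · rw [range_ofPt_opensOverι]
    exact (show DenseRange (Points.ofPt T.b₀) from T.denseY).dense_image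
      (Points.continuous_ofPt _) hVd
  · rw [Category.assoc, T.comm, ← Category.assoc, ← Functor.map_comp, ← hcomm, Functor.map_comp,
      Category.assoc]

end Groth.Agent.Helper2.Birat
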