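import Mathlib
import Groth.Agent.Lib.Helper2.AlgSp.BiratMain
import Groth.Agent.Lib.Helper2.AlgSp.BiratFibre
import Groth.Agent.Lib.Helper2.AlgSp.GenFiniteSp4
import Groth.Agent.Lib.Helper2.AlgSp.FiniteMor
import Groth.Agent.Lib.Helper6.GenFin.Dense

/-!
# Birational morphisms of decent spaces: isomorphism over a dense open (helper2)
-/

set_option autoImplicit false
set_option linter.style.haveILetI false

open CategoryTheory CategoryTheory.Limits AlgebraicGeometry Opposite AlgSp TopologicalSpace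

universe u

namespace Groth.Agent.Helper2.Birat

open Groth.Agent.Helper2.AlgSpBasic Groth.Agent.Helper2.QfCodimZero

variable {S : Scheme.{u}}

theorem generic_iff_hasAt_dimZ (X : Space S) (hX : IsDecent X.obj) (x : Points X.obj) :
    x ∈ genericPoints (Points X.obj) ↔ HasAt DimZ X.obj x := by
  rw [← Groth.Agent.Helper2.GenericDecent.generic_iff_dimZ X hX x]
  constructor
  · intro h
    exact ⟨_, h, rfl⟩
  · rintro ⟨T, hT, hx⟩
    show closure {x} ∈ irreducibleComponents (Points X.obj)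
    rw [hx.def]
    exact hT

theorem finite_hasAt_dimZ (X : Space S) (hX : IsDecent X.obj)
    (hXf : (irreducibleComponents (Points X.obj)).Finite) :
    {x : Points X.obj | HasAt DimZ X.obj x}.Finite := by
  haveI := Groth.Agent.Helper2.FibreSpecB.t0Space_of_isDecent X.property hX
  refine (Groth.Agent.Lib.Helper6.GenFin.finite_generic_points hXf).subset ?_
  intro x hx
  exact (generic_iff_hasAt_dimZ X hX x).mpr hx

/-- If `f` is an isomorphism between open subschemes `U₁ → V₁` and all points over a point of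
the image of `b` lie in `U₁`, then the base change of `f` to the corresponding open of `V₁` is an
isomorphism. -/
theorem isIso_snd_of_section {X Y : Space S} (f : X ⟶ Y) {U₁ V₁ : Over S}
    (a₁ : (yon S).obj U₁ ⟶ X.obj) (b₁ : (yon S).obj V₁ ⟶ Y.obj) (g₁ : U₁ ⟶ V₁)
    (ha₁ : RepWith @IsOpenImmersion a₁) (hb₁ : RepWith @IsOpenImmersion b₁)
    (comm₁ : a₁ ≫ f.hom = (yon S).map g₁ ≫ b₁) [hg₁ : IsIso g₁]
    {V : Over S} (ι : V ⟶ V₁)
    (hgood : ∀ (v : ↥V.left) (x : Points X.obj),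
      Points.map f.hom x = Points.ofPt b₁ (ι.left v) → x ∈ Set.range (Points.ofPt a₁))
    {P : Sp S} (fst : P ⟶ X.obj) (snd : P ⟶ (yon S).obj V)
    (sq : IsPullback fst snd f.hom ((yon S).map ι ≫ b₁)) : IsIso snd := by
  have hP : IsAlgSpace P :=
    isAlgSpace_of_isPullback Y.property.diag X.property (IsAlgSpace.yon_obj V) _ _ _ _ sq
  have hV : IsAlgSpace ((yon S).obj V) := IsAlgSpace.yon_obj V
  obtain ⟨k, hk⟩ : ∃ k : V ⟶ U₁, k = ι ≫ inv g₁ := ⟨_, rfl⟩
  have hkg : k ≫ g₁ = ι := by rw [hk, Category.assoc, IsIso.inv_hom_id, Category.comp_id]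
  have ht : ((yon S).map k ≫ a₁) ≫ f.hom = 𝟙 _ ≫ ((yon S).map ι ≫ b₁) := by
    rw [Category.assoc, comm₁, ← Category.assoc, ← Functor.map_comp, hkg, Category.id_comp]
  obtain ⟨σ, hσ⟩ : ∃ σ, σ = sq.lift _ _ ht := ⟨_, rfl⟩
  have hσ1 : σ ≫ fst = (yon S).map k ≫ a₁ := by rw [hσ, sq.lift_fst]
  have hσ2 : σ ≫ snd = 𝟙 _ := by rw [hσ, sq.lift_snd]
  -- `j = a₁ ≫ f` is a monomorphism
  haveI hmono_b : Mono b₁ := mono_of_repWith_isOpenImmersion b₁ hb₁
  haveI : IsIso ((yon S).map g₁) := inferInstance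
  haveI hj : Mono (a₁ ≫ f.hom) := by
    rw [comm₁]; exact mono_comp _ _
  have hkj : (yon S).map k ≫ a₁ ≫ f.hom = (yon S).map ι ≫ b₁ := by
    rw [← Category.assoc, ht, Category.id_comp]
  have s0 := isPullback_id_of_mono (a₁ ≫ f.hom) ((yon S).map ι ≫ b₁) ((yon S).map k) hkj
  have s1 : IsPullback (σ ≫ snd) ((yon S).map k) ((yon S).map ι ≫ b₁) (a₁ ≫ f.hom) := by
    rw [hσ2]; exact s0
  have sqa : IsPullback σ ((yon S).map k) fst a₁ := IsPullback.of_right s1 hσ1 sq.flip
  have hσoi : RepWith @IsOpenImmersion σ := repWith_of_isPullback _ sqa.flip ha₁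
  haveI : IsSplitMono σ := ⟨⟨snd, hσ2⟩⟩
  have hsurj : IsSurjectiveMor σ := by
    intro p
    obtain ⟨v, hv⟩ := (Points.schemeHomeo V).surjective (Points.map snd p)
    have hv' : Points.ofScheme V v = Points.map snd p := hv
    have h1 : Points.map f.hom (Points.map fst p) = Points.ofPt b₁ (ι.left v) := by
      rw [← Points.map_comp, sq.w, Points.map_comp, ← hv', ← Points.ofPt_eq_map_ofScheme,
        ofPt_yon_map_comp]
    obtain ⟨u, hu⟩ := hgood v _ h1
    rw [Points.ofPt_eq_map_ofScheme] at hu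
    obtain ⟨q, hq1, -⟩ := points_exists_of_isPullback a₁ fst σ ((yon S).map k) sqa
      p (Points.ofScheme U₁ u) hu.symm
    exact ⟨q, hq1⟩
  haveI : IsIso σ := (isIso_iff_mono_etale_surjective hV hP σ).2
    ⟨inferInstance, locP_etale_of_repWith_isOpenImmersion hV σ hσoi, hsurj⟩
  haveI : IsIso (𝟙 ((yon S).obj V)) := inferInstance
  exact IsIso.of_isIso_fac_left hσ2

theorem S10436_main {X Y : Space S} (f : X ⟶ Y)
    (hX : IsDecent X.obj) (hY : IsDecent Y.obj)
    (hXf : (irreducibleComponents (Points X.obj)).Finite)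
    (hYf : (irreducibleComponents (Points Y.obj)).Finite)
    (hf : W4stk3decentspacesp2.IsBirational f.hom)
    (h₁ : IsQuasiCompactMor f.hom ∨ IsSeparatedMor f.hom)
    (h₂ : (LocP @LocallyOfFiniteType f.hom ∧ EtaleLocally (fun T => IsReduced T) Y.obj) ∨
      LocP @LocallyOfFinitePresentation f.hom) :
    ∃ (V : Over S) (b : (yon S).obj V ⟶ Y.obj), RepWith @IsOpenImmersion b ∧
      Dense (Set.range (Points.ofPt b)) ∧
        ∀ ⦃P : Sp S⦄ (fst : P ⟶ X.obj) (snd : P ⟶ (yon S).obj V),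
          IsPullback fst snd f.hom b → IsIso snd := by
  obtain ⟨U₁, V₁, a₁, b₁, g₁, ha₁, hb₁, hdU, hdV, comm₁, hg₁⟩ :=
    S10435_main f hX hY hXf hYf hf h₂
  haveI : IsIso ((Over.forget S).map g₁) := hg₁
  haveI : IsIso g₁ := isIso_of_reflects_iso g₁ (Over.forget S)
  have hlft : LocP @LocallyOfFiniteType f.hom := by
    rcases h₂ with ⟨h, -⟩ | h
    · exact h
    · exact locP_mono (fun _ _ g (_ : LocallyOfFinitePresentation g) =>
        (inferInstance : LocallyOfFiniteType g)) h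
  have hpre : ∀ x : Points X.obj, HasAt DimZ X.obj x ↔
      HasAt DimZ Y.obj (Points.map f.hom x) := by
    intro x
    rw [← generic_iff_hasAt_dimZ X hX, ← generic_iff_hasAt_dimZ Y hY]
    exact ⟨fun h => hf.bijOn.mapsTo h,
      fun h => generic_of_map_generic f hX hY hXf hYf hf x h⟩
  obtain ⟨O, hO, hOd, hfin⟩ := Groth.Agent.Helper2.GenFiniteSp.exists_dense_open_finite f hlft hY
    (finite_hasAt_dimZ X hX hXf) (finite_hasAt_dimZ Y hY hYf) hpre h₁
  -- the closed map over `O`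
  have sq' := IsPullback.of_hasPullback (openSubι Y.obj O) f.hom
  have hYO : IsAlgSpace (openSub Y.obj O) := isAlgSpace_openSub Y.property hO
  have hcl : IsClosedMap (Points.map (pullback.fst (openSubι Y.obj O) f.hom)) :=
    isClosedMap_of_isUnivClosedMor hYO _
      (isUnivClosedMor_of_isIntegralMor (isIntegralMor_of_isFiniteMor (hfin _ _ _ sq')))
  have hopenA := (Groth.Agent.Helper2.DenseOpenDecent.isOpenEmbedding_ofPt a₁ ha₁).isOpen_range
  have hopenB := (Groth.Agent.Helper2.DenseOpenDecent.isOpenEmbedding_ofPt b₁ hb₁).isOpen_range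
  obtain ⟨O₃, hO₃⟩ : ∃ O₃ : Set (Points Y.obj), O₃ = Points.map (openSubι Y.obj O) ''
      (Points.map (pullback.fst (openSubι Y.obj O) f.hom) ''
        (Points.map (pullback.snd (openSubι Y.obj O) f.hom) ⁻¹'
          (Set.range (Points.ofPt a₁))ᶜ))ᶜ := ⟨_, rfl⟩
  have hO₃open : IsOpen O₃ := by
    rw [hO₃]
    refine isOpenMap_points_of_repWith_isOpenImmersion hYO Y.property _
      (repWith_isOpenImmersion_openSubι Y.obj hO) _ ?_
    exact (hcl _ (hopenA.isClosed_compl.preimage (Points.continuous_map _))).isOpen_compl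
  have hO₃mem : ∀ y : Points Y.obj, y ∈ O₃ ↔
      (y ∈ O ∧ ∀ x : Points X.obj, Points.map f.hom x = y → x ∈ Set.range (Points.ofPt a₁)) := by
    intro y
    rw [hO₃]
    constructor
    · rintro ⟨o, ho, rfl⟩
      refine ⟨points_map_openSubι_mem Y.obj O o, fun x hx => ?_⟩
      by_contra hxn
      obtain ⟨p, hp1, hp2⟩ := points_exists_of_isPullback f.hom (openSubι Y.obj O) _ _ sq' o x
        hx.symm
      exact ho ⟨p, by rw [Set.mem_preimage, hp2]; exact hxn, hp1⟩
    · rintro ⟨hyO, hall⟩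
      rw [← range_points_map_openSubι Y.obj O] at hyO
      obtain ⟨o, rfl⟩ := hyO
      refine ⟨o, ?_, rfl⟩
      rintro ⟨p, hp, rfl⟩
      apply hp
      apply hall
      rw [← Points.map_comp, ← sq'.w, Points.map_comp]
  haveI := Groth.Agent.Helper2.DecentOpen.quasiSober_of_decent Y hY
  have hgenO₃ : ∀ y : Points Y.obj, closure {y} ∈ irreducibleComponents (Points Y.obj) →
      y ∈ O₃ ∩ Set.range (Points.ofPt b₁) := by
    intro y hy
    refine ⟨(hO₃mem y).mpr ⟨mem_of_dense_open_of_generic hYf hO hOd hy, fun x hx => ?_⟩,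
      mem_of_dense_open_of_generic hYf hopenB hdV hy⟩
    have hxg : x ∈ genericPoints (Points X.obj) :=
      generic_of_map_generic f hX hY hXf hYf hf x (hx ▸ hy)
    exact mem_of_dense_open_of_generic hXf hopenA hdU hxg
  have hdense : Dense (O₃ ∩ Set.range (Points.ofPt b₁)) := dense_of_generic_subset hgenO₃
  -- the open subscheme of `V₁`
  obtain ⟨W₄, hW₄⟩ : ∃ W₄ : V₁.left.Opens, (W₄ : Set ↥V₁.left) = Points.ofPt b₁ ⁻¹' O₃ :=
    ⟨⟨Points.ofPt b₁ ⁻¹' O₃, hO₃open.preimage (Points.continuous_ofPt b₁)⟩, rfl⟩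
  refine ⟨opensOver W₄, (yon S).map (opensOverι W₄) ≫ b₁,
    repWith_comp @IsOpenImmersion (repWith_isOpenImmersion_opensOverι W₄) hb₁, ?_, ?_⟩
  · rw [range_ofPt_opensOverι, hW₄, Set.image_preimage_eq_inter_range]
    exact hdense
  · intro P fst snd sq
    refine isIso_snd_of_section f a₁ b₁ g₁ ha₁ hb₁ comm₁ (opensOverι W₄) ?_ fst snd sq
    intro v x hx
    have hv : (opensOverι W₄).left v ∈ (W₄ : Set ↥V₁.left) := v.2
    rw [hW₄] at hv
    exact ((hO₃mem _).mp hv).2 x hx

end Groth.Agent.Helper2.Birat
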