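import Mathlib
import Groth.Agent.Lib.Helper2.AlgSp.BiratIso
import Groth.Agent.Lib.Helper6.LocIso.FiberSch

/-!
# Birational morphisms of decent spaces: base change to the local ring of a generic point
(helper2)
-/

set_option autoImplicit false
set_option linter.style.haveILetI false

open CategoryTheory CategoryTheory.Limits AlgebraicGeometry Opposite AlgSp TopologicalSpace

universe u

namespace Groth.Agent.Helper2.Birat

open Groth.Agent.Helper2.AlgSpBasic Groth.Agent.Helper2.QfCodimZero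

variable {S : Scheme.{u}}

/-- If `g₀ : U₀ → Y₀` is a chart of `f` by open subschemes, the base change `P₀ → L` of `g₀`
along `ι : L → Y₀` is an isomorphism, and all points of `X` over the image of `L` lie in `U₀`,
then the base change of `f` to `L` is an isomorphism. -/
theorem isIso_snd_of_local_iso {X Y : Space S} (f : X ⟶ Y) {U₀ Y₀ : Over S}
    (a₀ : (yon S).obj U₀ ⟶ X.obj) (b₀ : (yon S).obj Y₀ ⟶ Y.obj) (g₀ : U₀ ⟶ Y₀)
    (ha₀ : RepWith @IsOpenImmersion a₀) (hb₀ : RepWith @IsOpenImmersion b₀)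
    (comm : a₀ ≫ f.hom = (yon S).map g₀ ≫ b₀)
    {L : Over S} (ι : L ⟶ Y₀) {P₀ : Over S} (p₁ : P₀ ⟶ U₀) (p₂ : P₀ ⟶ L)
    (sq₀ : IsPullback p₁.left p₂.left g₀.left ι.left) [hp₂ : IsIso p₂]
    (hgood : ∀ (l : ↥L.left) (x : Points X.obj),
      Points.map f.hom x = Points.ofPt b₀ (ι.left l) → x ∈ Set.range (Points.ofPt a₀))
    {P : Sp S} (fst : P ⟶ X.obj) (snd : P ⟶ (yon S).obj L)
    (sq : IsPullback fst snd f.hom ((yon S).map ι ≫ b₀)) : IsIso snd := by
  have hP : IsAlgSpace P :=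
    isAlgSpace_of_isPullback Y.property.diag X.property (IsAlgSpace.yon_obj L) _ _ _ _ sq
  have hP₀ : IsAlgSpace ((yon S).obj P₀) := IsAlgSpace.yon_obj P₀
  haveI hmono_b : Mono b₀ := mono_of_repWith_isOpenImmersion b₀ hb₀
  have sqy : IsPullback ((yon S).map p₁) ((yon S).map p₂) ((yon S).map g₀) ((yon S).map ι) :=
    yon_isPullback_of_left p₁ p₂ g₀ ι sq₀
  have sqy' := isPullback_comp_mono sqy b₀
  rw [← comm] at sqy'
  have ht : ((yon S).map p₁ ≫ a₀) ≫ f.hom = (yon S).map p₂ ≫ ((yon S).map ι ≫ b₀) := by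
    rw [Category.assoc]; exact sqy'.w
  obtain ⟨σ, hσ⟩ : ∃ σ, σ = sq.lift _ _ ht := ⟨_, rfl⟩
  have hσ1 : σ ≫ fst = (yon S).map p₁ ≫ a₀ := by rw [hσ, sq.lift_fst]
  have hσ2 : σ ≫ snd = (yon S).map p₂ := by rw [hσ, sq.lift_snd]
  have s1 : IsPullback (σ ≫ snd) ((yon S).map p₁) ((yon S).map ι ≫ b₀) (a₀ ≫ f.hom) := by
    rw [hσ2]; exact sqy'.flip
  have sqa : IsPullback σ ((yon S).map p₁) fst a₀ := IsPullback.of_right s1 hσ1 sq.flip
  have hσoi : RepWith @IsOpenImmersion σ := repWith_of_isPullback _ sqa.flip ha₀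
  haveI : Mono σ := mono_of_repWith_isOpenImmersion σ hσoi
  have hsurj : IsSurjectiveMor σ := by
    intro p
    obtain ⟨l, hl⟩ := (Points.schemeHomeo L).surjective (Points.map snd p)
    have hl' : Points.ofScheme L l = Points.map snd p := hl
    have h1 : Points.map f.hom (Points.map fst p) = Points.ofPt b₀ (ι.left l) := by
      rw [← Points.map_comp, sq.w, Points.map_comp, ← hl', ← Points.ofPt_eq_map_ofScheme,
        ofPt_yon_map_comp]
    obtain ⟨u, hu⟩ := hgood l _ h1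
    rw [Points.ofPt_eq_map_ofScheme] at hu
    obtain ⟨q, hq1, -⟩ := points_exists_of_isPullback a₀ fst σ ((yon S).map p₁) sqa
      p (Points.ofScheme U₀ u) hu.symm
    exact ⟨q, hq1⟩
  haveI : IsIso σ := (isIso_iff_mono_etale_surjective hP₀ hP σ).2
    ⟨inferInstance, locP_etale_of_repWith_isOpenImmersion hP₀ σ hσoi, hsurj⟩
  haveI : IsIso ((yon S).map p₂) := inferInstance
  exact IsIso.of_isIso_fac_left hσ2

end Groth.Agent.Helper2.Birat
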