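import Mathlib
import Groth.Agent.Lib.Helper2.AlgSp.BiratLocal

/-!
# S10434: base change of a birational morphism to the local ring of a generic point (helper2)
-/

set_option autoImplicit false
set_option linter.style.haveILetI false

open CategoryTheory CategoryTheory.Limits AlgebraicGeometry Opposite AlgSp TopologicalSpace

universe u

namespace Groth.Agent.Helper2.Birat

open Groth.Agent.Helper2.AlgSpBasic Groth.Agent.Helper2.QfCodimZero

variable {S : Scheme.{u}}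

theorem S10434_main {X Y : Space S} (f : X ⟶ Y)
    (hX : IsDecent X.obj) (hY : IsDecent Y.obj)
    (hXf : (irreducibleComponents (Points X.obj)).Finite)
    (hYf : (irreducibleComponents (Points Y.obj)).Finite)
    (hf : W4stk3decentspacesp2.IsBirational f.hom) {V : Over S} (b : (yon S).obj V ⟶ Y.obj)
    (hb : RepWith @IsOpenImmersion b) (v : ↥V.left)
    (hv : Points.ofPt b v ∈ genericPoints (Points Y.obj)) {P : Sp S} (fst : P ⟶ X.obj)
    (snd : P ⟶ (yon S).obj (Over.mk (V.left.fromSpecStalk v ≫ V.hom)))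
    (hP : IsPullback fst snd f.hom
      ((yon S).map (Over.homMk (V.left.fromSpecStalk v) rfl) ≫ b)) :
    IsIso snd := by
  obtain ⟨T⟩ := exists_core f hX hY hXf hYf hf
  obtain ⟨y₀, hy₀⟩ := T.genY _ hv
  obtain ⟨W, q₁, q₂, sqW⟩ := exists_isPullback_yon Y.property.diag b T.b₀
  haveI hq₁ : IsOpenImmersion q₁.left := T.hb₀.2 b ((yon S).map q₂) q₁ sqW.flip
  haveI hq₂ : IsOpenImmersion q₂.left := hb.2 T.b₀ ((yon S).map q₁) q₂ sqW
  obtain ⟨w, hw1, hw2⟩ := exists_point_of_isPullback_yon b T.b₀ q₁ q₂ sqW v y₀ hy₀.symm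
  subst hw1
  subst hw2
  -- the generic point of `Y₀`
  have hgen₀ : closure {q₂.left w} ∈ irreducibleComponents ↥T.Y₀.left := by
    rw [← gen_chart_iff Y hY T.b₀ (repWith_etale_of_isOpenImmersion T.hb₀), hy₀]
    exact hv
  -- the morphism `L → W`
  haveI : IsIso (q₁.left.stalkMap w) := inferInstance
  haveI : IsIso (q₂.left.stalkMap w) := inferInstance
  obtain ⟨L, hL⟩ : ∃ L : Over S, L = Over.mk (V.left.fromSpecStalk (q₁.left w) ≫ V.hom) :=
    ⟨_, rfl⟩
  have e1 : Spec.map (q₁.left.stalkMap w) ≫ V.left.fromSpecStalk (q₁.left w) =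
      W.left.fromSpecStalk w ≫ q₁.left := Scheme.SpecMap_stalkMap_fromSpecStalk q₁.left
  have e2 : Spec.map (q₂.left.stalkMap w) ≫ T.Y₀.left.fromSpecStalk (q₂.left w) =
      W.left.fromSpecStalk w ≫ q₂.left := Scheme.SpecMap_stalkMap_fromSpecStalk q₂.left
  have e1' : V.left.fromSpecStalk (q₁.left w) =
      inv (Spec.map (q₁.left.stalkMap w)) ≫ W.left.fromSpecStalk w ≫ q₁.left := by
    rw [← e1, IsIso.inv_hom_id_assoc]
  obtain ⟨lam, hlam⟩ : ∃ lam : Over.mk (V.left.fromSpecStalk (q₁.left w) ≫ V.hom) ⟶ W,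
      lam.left = inv (Spec.map (q₁.left.stalkMap w)) ≫ W.left.fromSpecStalk w := by
    refine ⟨Over.homMk (inv (Spec.map (q₁.left.stalkMap w)) ≫ W.left.fromSpecStalk w) ?_, rfl⟩
    simp only [Over.mk_hom]
    rw [e1', Category.assoc, Category.assoc, Over.w q₁, Category.assoc]
  have hlamq₁ : lam ≫ q₁ = Over.homMk (V.left.fromSpecStalk (q₁.left w)) rfl := by
    apply Over.OverMorphism.ext
    simp only [Over.comp_left, Over.homMk_left]
    rw [hlam, e1']
    simp only [Category.assoc]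
  have hιb : (yon S).map (Over.homMk (V.left.fromSpecStalk (q₁.left w)) rfl) ≫ b =
      (yon S).map (lam ≫ q₂) ≫ T.b₀ := by
    rw [← hlamq₁, Functor.map_comp, Category.assoc, sqW.w, Functor.map_comp, Category.assoc]
  rw [hιb] at hP
  -- the scheme-level pullback
  haveI hiso₀ : IsIso (pullback.snd T.g₀.left (T.Y₀.left.fromSpecStalk (q₂.left w))) :=
    Groth.Agent.Lib.Helper6.LocIso.isIso_pullback_snd_fromSpecStalk T.g₀.left T.hbij T.hiso _ hgen₀
  have hιleft : (lam ≫ q₂).left = (inv (Spec.map (q₁.left.stalkMap w)) ≫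
      Spec.map (q₂.left.stalkMap w)) ≫ T.Y₀.left.fromSpecStalk (q₂.left w) := by
    simp only [Over.comp_left]
    rw [hlam, Category.assoc, Category.assoc, e2]
  obtain ⟨e, he⟩ : ∃ e, e = inv (Spec.map (q₁.left.stalkMap w)) ≫
      Spec.map (q₂.left.stalkMap w) := ⟨_, rfl⟩
  haveI : IsIso e := by rw [he]; infer_instance
  rw [← he] at hιleft
  obtain ⟨p₂l, hp₂l⟩ : ∃ p₂l, p₂l =
      pullback.snd T.g₀.left (T.Y₀.left.fromSpecStalk (q₂.left w)) ≫ inv e := ⟨_, rfl⟩
  haveI : IsIso p₂l := by rw [hp₂l]; infer_instance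
  have sqS : IsPullback (pullback.fst T.g₀.left (T.Y₀.left.fromSpecStalk (q₂.left w))) p₂l
      T.g₀.left (lam ≫ q₂).left := by
    refine IsPullback.of_iso (IsPullback.of_hasPullback T.g₀.left
      (T.Y₀.left.fromSpecStalk (q₂.left w))) (Iso.refl _) (Iso.refl _) (asIso (inv e)) (Iso.refl _)
      ?_ ?_ ?_ ?_
    · simp
    · simp [hp₂l]
    · simp
    · simp [hιleft]
  -- package in `Over S`
  obtain ⟨P₀, hP₀⟩ : ∃ P₀ : Over S, P₀ = Over.mk (p₂l ≫
      (Over.mk (V.left.fromSpecStalk (q₁.left w) ≫ V.hom)).hom) := ⟨_, rfl⟩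
  obtain ⟨p₂, hp₂⟩ : ∃ p₂ : Over.mk (p₂l ≫
      (Over.mk (V.left.fromSpecStalk (q₁.left w) ≫ V.hom)).hom) ⟶
      Over.mk (V.left.fromSpecStalk (q₁.left w) ≫ V.hom), p₂.left = p₂l :=
    ⟨Over.homMk p₂l rfl, rfl⟩
  obtain ⟨p₁, hp₁⟩ : ∃ p₁ : Over.mk (p₂l ≫
      (Over.mk (V.left.fromSpecStalk (q₁.left w) ≫ V.hom)).hom) ⟶ T.U₀,
      p₁.left = pullback.fst T.g₀.left (T.Y₀.left.fromSpecStalk (q₂.left w)) := by
    refine ⟨Over.homMk (pullback.fst T.g₀.left (T.Y₀.left.fromSpecStalk (q₂.left w))) ?_, rfl⟩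
    have h1 := sqS.w
    have h2 := Over.w (lam ≫ q₂)
    have h3 := Over.w T.g₀
    rw [← h3, ← Category.assoc, h1, Category.assoc, h2]
    rfl
  haveI : IsIso p₂.left := by rw [hp₂]; infer_instance
  haveI : IsIso ((Over.forget S).map p₂) := by
    show IsIso p₂.left
    infer_instance
  haveI : IsIso p₂ := isIso_of_reflects_iso p₂ (Over.forget S)
  have sq₀ : IsPullback p₁.left p₂.left T.g₀.left (lam ≫ q₂).left := by
    rw [hp₁, hp₂]; exact sqS
  refine isIso_snd_of_local_iso f T.a₀ T.b₀ T.g₀ T.ha₀ T.hb₀ T.comm (lam ≫ q₂) p₁ p₂ sq₀ ?_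
    fst snd hP
  intro l x hx
  apply T.genX
  apply generic_of_map_generic f hX hY hXf hYf hf
  rw [hx]
  have hspec : (lam ≫ q₂).left l ⤳ q₂.left w := by
    have hmem : (lam ≫ q₂).left l ∈ Set.range (T.Y₀.left.fromSpecStalk (q₂.left w)) := by
      rw [hιleft]
      exact ⟨e l, rfl⟩
    rw [Scheme.range_fromSpecStalk] at hmem
    exact hmem
  have := Groth.Agent.Lib.Helper6.LocIso.eq_of_specializes_of_closure_mem hgen₀ hspec
  rw [this, hy₀]
  exact hv

end Groth.Agent.Helper2.Birat
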