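import Mathlib
import Groth.Agent.Lib.Helper2.AlgSp.BiratLocal2
import Groth.Agent.Lib.Helper2.AlgSp.DecentEtale
import Groth.Agent.Lib.Helper2.Sch.StalkIsoBC

/-!
# S10437: étale base change of a birational morphism of decent spaces (helper2)
-/

set_option autoImplicit false
set_option linter.style.haveILetI false

open CategoryTheory CategoryTheory.Limits AlgebraicGeometry Opposite AlgSp TopologicalSpace

universe u

namespace Groth.Agent.Helper2.Birat

open Groth.Agent.Helper2.AlgSpBasic Groth.Agent.Helper2.QfCodimZero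

variable {S : Scheme.{u}}

/-- Along an étale morphism of decent spaces, a point is generic iff its image is. -/
theorem generic_iff_of_etale (P X : Space S) (hP : IsDecent P.obj) (hX : IsDecent X.obj)
    (e : P.obj ⟶ X.obj) (he : IsEtaleMor e) (p : Points P.obj) :
    p ∈ genericPoints (Points P.obj) ↔ Points.map e p ∈ genericPoints (Points X.obj) := by
  rw [generic_iff_hasAt_dimZ P hP, generic_iff_hasAt_dimZ X hX]
  obtain ⟨W, φ, -, hφ, w, rfl⟩ :=
    Groth.Agent.Helper2.FibreSpecB.exists_affine_chart_through P.property p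
  rw [Points.map_ofPt, hasAt_dimZ_iff P.property φ hφ w,
    hasAt_dimZ_iff X.property (φ ≫ e) (he φ hφ) w]

theorem ofPt_yon_map_yon_map {T₀ T₁ T₂ : Over S}
    (c₂ : T₁ ⟶ T₀) (c₁ : T₂ ⟶ T₁) (t : ↥T₂.left) :
    Points.ofPt ((yon S).map c₁ ≫ (yon S).map c₂) t =
      Points.ofScheme T₀ (c₂.left (c₁.left t)) := by
  have h3 : (yon S).map c₂ = (yon S).map c₂ ≫ 𝟙 _ := (Category.comp_id _).symm
  rw [h3, ← Category.assoc, ← Functor.map_comp, ofPt_yon_map_comp]
  rfl

end Groth.Agent.Helper2.Birat
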