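import Mathlib
import Groth.Agent.Lib.Helper2.AlgSp.BiratEtaleBC

/-!
# S10437: étale base change of a birational morphism of decent spaces, main (helper2)
-/

set_option autoImplicit false
set_option linter.style.haveILetI false

open CategoryTheory CategoryTheory.Limits AlgebraicGeometry Opposite AlgSp TopologicalSpace

universe u

namespace Groth.Agent.Helper2.Birat

open Groth.Agent.Helper2.AlgSpBasic Groth.Agent.Helper2.QfCodimZero

variable {S : Scheme.{u}}

set_option maxHeartbeats 800000 in
theorem S10437_main {X Y : Space S} (f : X ⟶ Y)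
    (hX : IsDecent X.obj) (hY : IsDecent Y.obj)
    (hXf : (irreducibleComponents (Points X.obj)).Finite)
    (hYf : (irreducibleComponents (Points Y.obj)).Finite)
    (hf : W4stk3decentspacesp2.IsBirational f.hom) {V : Over S} [IsAffine V.left]
    (b : (yon S).obj V ⟶ Y.obj)
    (hb : RepWith @Etale b) {P : Sp S} (fst : P ⟶ X.obj) (snd : P ⟶ (yon S).obj V)
    (hP : IsPullback fst snd f.hom b) :
    IsDecent P ∧ (irreducibleComponents (Points P)).Finite ∧
      (irreducibleComponents (Points ((yon S).obj V))).Finite ∧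
        W4stk3decentspacesp2.IsBirational snd := by
  have hVa : IsAlgSpace ((yon S).obj V) := IsAlgSpace.yon_obj V
  have hPa : IsAlgSpace P :=
    isAlgSpace_of_isPullback Y.property.diag X.property hVa _ _ _ _ hP
  -- `fst` is étale, so `P` is decent
  have hbl : LocP @Etale b := locP_of_repWith @Etale hVa.diag b hb
  have hfstl : LocP @Etale fst :=
    locP_of_isPullback @Etale hVa Y.property X.property hPa b f.hom snd fst hP.flip hbl
  have hfste : IsEtaleMor fst := isEtaleMor_of_locP_etale hPa X.property fst hfstl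
  have hPd : IsDecent P :=
    Groth.Agent.Helper2.DecentEtale.isDecent_of_isEtaleMor X.property hPa fst hfste hX
  have hVd : IsDecent ((yon S).obj V) := Groth.Agent.Helper2.DecentEtale.isDecent_yon V
  obtain ⟨PS, hPS⟩ : ∃ PS : Space S, PS.obj = P := ⟨⟨P, hPa⟩, rfl⟩
  subst hPS
  obtain ⟨VS, hVS⟩ : ∃ VS : Space S, VS.obj = (yon S).obj V := ⟨⟨(yon S).obj V, hVa⟩, rfl⟩
  haveI := Groth.Agent.Helper2.FibreSpecB.t0Space_of_isDecent Y.property hY
  haveI := Groth.Agent.Helper2.FibreSpecB.t0Space_of_isDecent X.property hX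
  haveI := Groth.Agent.Helper2.FibreSpecB.t0Space_of_isDecent hPa hPd
  haveI := Groth.Agent.Helper2.FibreSpecB.t0Space_of_isDecent hVa hVd
  haveI := Groth.Agent.Helper2.DecentOpen.quasiSober_of_decent PS hPd
  haveI hqsV : QuasiSober (Points ((yon S).obj V)) := by
    have := Groth.Agent.Helper2.DecentOpen.quasiSober_of_decent VS (hVS ▸ hVd)
    rw [hVS] at this
    exact this
  -- generic points
  have genP : ∀ p : Points PS.obj, p ∈ genericPoints (Points PS.obj) ↔
      Points.map fst p ∈ genericPoints (Points X.obj) :=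
    generic_iff_of_etale PS X hPd hX fst hfste
  have genV : ∀ v : ↥V.left, Points.ofScheme V v ∈ genericPoints (Points ((yon S).obj V)) ↔
      Points.ofPt b v ∈ genericPoints (Points Y.obj) := by
    intro v
    rw [gen_chart_iff Y hY b hb v]
    have hid : RepWith @Etale (𝟙 ((yon S).obj V)) := repWith_of_isIso @Etale _
    have := gen_chart_iff ⟨(yon S).obj V, hVa⟩ hVd (𝟙 _) hid v
    exact this
  -- finiteness for `V`
  have hGY : (genericPoints (Points Y.obj)).Finite :=
    Groth.Agent.Lib.Helper6.GenFin.finite_generic_points hYf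
  have hGV : (genericPoints (Points ((yon S).obj V))).Finite := by
    have h1 : (⋃ y ∈ genericPoints (Points Y.obj), Points.ofPt b ⁻¹' {y}).Finite :=
      hGY.biUnion (fun y _ => Groth.Agent.Helper2.FibreSpecB.finite_fibre_of_isDecent
        Y.property hY y V b inferInstance hb)
    refine (h1.image (Points.ofScheme V)).subset ?_
    intro q hq
    obtain ⟨v, rfl⟩ := (Points.schemeHomeo V).surjective q
    refine ⟨v, ?_, rfl⟩
    simp only [Set.mem_iUnion, Set.mem_preimage, Set.mem_singleton_iff, exists_prop]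
    exact ⟨_, (genV v).mp hq, rfl⟩
  have hVfin : (irreducibleComponents (Points ((yon S).obj V))).Finite := by
    refine Groth.Agent.Lib.Helper6.FppfComp.finite_irreducibleComponents_of_finite_gen
      (hGV.subset ?_)
    intro q hq
    exact Groth.Agent.Lib.Helper6.FppfComp.closure_mem_irreducibleComponents_of_forall_specializes hq
  -- the charts
  obtain ⟨T⟩ := exists_core f hX hY hXf hYf hf
  obtain ⟨V₀, c, j, sqV⟩ := exists_isPullback_yon Y.property.diag T.b₀ b
  haveI hj : IsOpenImmersion j.left := T.hb₀.2 b ((yon S).map c) j sqV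
  obtain ⟨P₀, π₁, π₂, sqS⟩ : ∃ (P₀ : Over S) (π₁ : P₀ ⟶ T.U₀) (π₂ : P₀ ⟶ V₀),
      IsPullback π₁.left π₂.left T.g₀.left c.left := by
    refine ⟨Over.mk (pullback.fst T.g₀.left c.left ≫ T.U₀.hom),
      Over.homMk (pullback.fst T.g₀.left c.left) rfl,
      Over.homMk (pullback.snd T.g₀.left c.left) ?_, IsPullback.of_hasPullback _ _⟩
    simp only [Over.mk_hom]
    rw [← Over.w c, ← Category.assoc, ← pullback.condition, Category.assoc, Over.w T.g₀]
  have sqP₀ : IsPullback ((yon S).map π₁) ((yon S).map π₂) ((yon S).map T.g₀) ((yon S).map c) :=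
    yon_isPullback_of_left π₁ π₂ T.g₀ c sqS
  have sqBig : IsPullback ((yon S).map π₁) ((yon S).map π₂ ≫ (yon S).map j)
      (T.a₀ ≫ f.hom) b := by
    rw [T.comm]
    exact sqP₀.paste_vert sqV
  obtain ⟨a, ha⟩ : ∃ a, a = hP.lift ((yon S).map π₁ ≫ T.a₀) ((yon S).map π₂ ≫ (yon S).map j)
      (by rw [Category.assoc]; exact sqBig.w) := ⟨_, rfl⟩
  have ha1 : a ≫ fst = (yon S).map π₁ ≫ T.a₀ := by rw [ha, hP.lift_fst]
  have ha2 : a ≫ snd = (yon S).map π₂ ≫ (yon S).map j := by rw [ha, hP.lift_snd]
  have s1 : IsPullback (a ≫ snd) ((yon S).map π₁) b (T.a₀ ≫ f.hom) := by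
    rw [ha2]; exact sqBig.flip
  have sqa : IsPullback a ((yon S).map π₁) fst T.a₀ := IsPullback.of_right s1 ha1 hP.flip
  have haoi : RepWith @IsOpenImmersion a := repWith_of_isPullback _ sqa.flip T.ha₀
  have hjoi : RepWith @IsOpenImmersion ((yon S).map j) := (repWith_yon_map_iff _ j).2 hj
  have hcomm3 : (a ≫ fst) ≫ f.hom = (yon S).map (π₂ ≫ c) ≫ T.b₀ := by
    rw [Category.assoc, hP.w, ← Category.assoc, ha2, Category.assoc, ← sqV.w, Functor.map_comp,
      Category.assoc]
  -- key: each generic point comes from a point of `P₀` at which the fibre is trivial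
  have key : ∀ p ∈ genericPoints (Points PS.obj), ∃ p₀ : ↥P₀.left, Points.ofPt a p₀ = p ∧
      IsIso (pullback.snd π₂.left (V₀.left.fromSpecStalk (π₂.left p₀))) := by
    intro p hp
    have hx := (genP p).mp hp
    obtain ⟨u₀, hu₀⟩ := T.genX _ hx
    rw [Points.ofPt_eq_map_ofScheme] at hu₀
    obtain ⟨q, hq1, -⟩ := points_exists_of_isPullback T.a₀ fst a ((yon S).map π₁) sqa
      p (Points.ofScheme T.U₀ u₀) hu₀.symm
    obtain ⟨p₀, rfl⟩ := (Points.schemeHomeo P₀).surjective q
    have hp₀ : Points.ofPt a p₀ = p := by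
      rw [Points.ofPt_eq_map_ofScheme]; exact hq1
    refine ⟨p₀, hp₀, ?_⟩
    have hy₀ : Points.ofPt T.b₀ (c.left (π₂.left p₀)) =
        Points.map f.hom (Points.map fst p) := by
      rw [← hp₀, Points.map_ofPt, Points.map_ofPt, hcomm3, ofPt_yon_map_comp]
      rfl
    have hgen : closure {c.left (π₂.left p₀)} ∈ irreducibleComponents ↥T.Y₀.left := by
      rw [← gen_chart_iff Y hY T.b₀ (repWith_etale_of_isOpenImmersion T.hb₀), hy₀]
      exact hf.bijOn.mapsTo hx
    haveI : IsIso (pullback.snd T.g₀.left (T.Y₀.left.fromSpecStalk (c.left (π₂.left p₀)))) :=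
      Groth.Agent.Lib.Helper6.LocIso.isIso_pullback_snd_fromSpecStalk T.g₀.left T.hbij T.hiso
        _ hgen
    exact Groth.Agent.Helper2.StalkIsoBC.isIso_pullback_snd_of_isPullback T.g₀.left c.left
      π₁.left π₂.left sqS (π₂.left p₀)
  have hsnd_a : ∀ p₀ : ↥P₀.left, Points.map snd (Points.ofPt a p₀) =
      Points.ofScheme V (j.left (π₂.left p₀)) := by
    intro p₀
    rw [Points.map_ofPt, ha2, ofPt_yon_map_yon_map]
  -- the map on generic points
  have hmaps : Set.MapsTo (Points.map snd) (genericPoints (Points PS.obj))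
      (genericPoints (Points ((yon S).obj V))) := by
    intro p hp
    have hx := (genP p).mp hp
    obtain ⟨v, hv⟩ := (Points.schemeHomeo V).surjective (Points.map snd p)
    have hv' : Points.ofScheme V v = Points.map snd p := hv
    rw [← hv', genV v, Points.ofPt_eq_map_ofScheme, hv', ← Points.map_comp, ← hP.w,
      Points.map_comp]
    exact hf.bijOn.mapsTo hx
  have hinj : Set.InjOn (Points.map snd) (genericPoints (Points PS.obj)) := by
    intro p hp p' hp' hpp'
    obtain ⟨p₀, rfl, hiso⟩ := key p hp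
    obtain ⟨p₀', rfl, -⟩ := key p' hp'
    rw [hsnd_a, hsnd_a] at hpp'
    have h1 : j.left (π₂.left p₀) = j.left (π₂.left p₀') :=
      (Points.schemeHomeo V).injective hpp'
    have h2 : π₂.left p₀ = π₂.left p₀' := j.left.isOpenEmbedding.injective h1
    haveI := hiso
    rw [Groth.Agent.Helper2.StalkIsoBC.eq_of_map_eq π₂.left (π₂.left p₀) p₀ p₀' rfl h2.symm]
  have hsurj : Set.SurjOn (Points.map snd) (genericPoints (Points PS.obj))
      (genericPoints (Points ((yon S).obj V))) := by
    intro q hq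
    obtain ⟨v, rfl⟩ := (Points.schemeHomeo V).surjective q
    have hyg := (genV v).mp hq
    obtain ⟨x, hx, hxy⟩ := hf.bijOn.surjOn hyg
    rw [Points.ofPt_eq_map_ofScheme] at hxy
    obtain ⟨p, hp1, hp2⟩ := points_exists_of_isPullback b f.hom fst snd hP x
      (Points.ofScheme V v) hxy
    refine ⟨p, (genP p).mpr (hp1 ▸ hx), hp2⟩
  have hPfin : (irreducibleComponents (Points PS.obj)).Finite := by
    have hG : (genericPoints (Points PS.obj)).Finite := Set.Finite.of_injOn hmaps hinj hGV
    refine Groth.Agent.Lib.Helper6.FppfComp.finite_irreducibleComponents_of_finite_gen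
      (hG.subset ?_)
    intro q hq
    exact Groth.Agent.Lib.Helper6.FppfComp.closure_mem_irreducibleComponents_of_forall_specializes hq
  refine ⟨hPd, hPfin, hVfin, ⟨⟨hmaps, hinj, hsurj⟩, ?_⟩⟩
  intro p hp
  obtain ⟨p₀, hp₀, hiso⟩ := key p hp
  haveI := hiso
  exact ⟨P₀, V₀, a, (yon S).map j, π₂, p₀, haoi, hjoi, ha2, hp₀,
    Groth.Agent.Helper2.StalkIsoBC.isIso_stalkMap π₂.left p₀⟩

end Groth.Agent.Helper2.Birat
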