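import Mathlib
import Groth.Agent.Lib.Helper2.AlgSp.BiratEtaleBC2
import Groth.Agent.Lib.Helper2.Sch.IntegralBirat
import Groth.Agent.Lib.Helper2.AlgSp.FpqcCover2
import Groth.Agent.Lib.Helper2.AlgSp.Reduced

/-!
# S10438: integral birational morphisms onto normal decent spaces (helper2)
-/

set_option autoImplicit false
set_option linter.style.haveILetI false

open CategoryTheory CategoryTheory.Limits AlgebraicGeometry Opposite AlgSp TopologicalSpace

universe u

namespace Groth.Agent.Helper2.Birat

open Groth.Agent.Helper2.AlgSpBasic Groth.Agent.Helper2.QfCodimZero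

variable {S : Scheme.{u}}

theorem irreducibleSpace_of_unique_generic {T : Type*} [TopologicalSpace T] [QuasiSober T]
    (ξ : T) (h : ∀ x : T, closure {x} ∈ irreducibleComponents T → x = ξ) :
    IrreducibleSpace T := by
  have huniv : (Set.univ : Set T) = closure {ξ} := by
    apply Set.eq_of_subset_of_subset _ (Set.subset_univ _)
    intro x _
    obtain ⟨x', hx', hs⟩ := Groth.Agent.Lib.Helper6.LocIso.exists_generic_specializes x
    rw [h x' hx'] at hs
    exact specializes_iff_mem_closure.mp hs
  rw [irreducibleSpace_def]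
  show IsIrreducible (Set.univ : Set T)
  rw [huniv]
  exact isIrreducible_singleton.closure

theorem normal_opens {X : Scheme.{u}}
    (h : ∀ x : ↥X, IsDomain ↥(X.presheaf.stalk x) ∧ IsIntegrallyClosed ↥(X.presheaf.stalk x))
    (A : X.Opens) (y : ↥(A : Scheme.{u})) :
    IsDomain ↥((A : Scheme.{u}).presheaf.stalk y) ∧
      IsIntegrallyClosed ↥((A : Scheme.{u}).presheaf.stalk y) := by
  have e : (A : Scheme.{u}).presheaf.stalk y ≅ X.presheaf.stalk y.1 := A.stalkIso y
  obtain ⟨h1, h2⟩ := h y.1
  exact ⟨MulEquiv.isDomain _ e.commRingCatIsoToRingEquiv.toMulEquiv,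
    IsIntegrallyClosed.of_equiv e.commRingCatIsoToRingEquiv.symm⟩

set_option maxHeartbeats 800000 in
/-- The base change of an integral birational morphism with reduced source to an integral normal
affine étale chart of the target is an isomorphism. -/
theorem isIso_chart {X Y : Space S} (f : X ⟶ Y)
    (hX : IsDecent X.obj) (hY : IsDecent Y.obj)
    (hXf : (irreducibleComponents (Points X.obj)).Finite)
    (hYf : (irreducibleComponents (Points Y.obj)).Finite)
    (hf : W4stk3decentspacesp2.IsBirational f.hom)
    (hXr : EtaleLocally (fun T => IsReduced T) X.obj)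
    {V : Over S} [IsAffine V.left] [IsIntegral V.left]
    (hVn : ∀ y : ↥V.left, IsIntegrallyClosed ↥(V.left.presheaf.stalk y))
    (b : (yon S).obj V ⟶ Y.obj) (hb : RepWith @Etale b)
    {W : Over S} (i : W ⟶ V) (fst' : (yon S).obj W ⟶ X.obj)
    (sq : IsPullback fst' ((yon S).map i) f.hom b) [IsIntegralHom i.left] :
    IsIso ((yon S).map i) := by
  obtain ⟨-, -, -, hbir⟩ := S10437_main f hX hY hXf hYf hf b hb fst' ((yon S).map i) sq
  haveI : IsReduced W.left :=
    isReduced_of_etale_of_isReducedSp hXr fst' (repWith_of_isPullback @Etale sq.flip hb)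
  have hid : ∀ T : Over S, RepWith @Etale (𝟙 ((yon S).obj T)) :=
    fun T => repWith_of_isIso @Etale _
  have hidoi : ∀ T : Over S, RepWith @IsOpenImmersion (𝟙 ((yon S).obj T)) :=
    fun T => repWith_of_isIso @IsOpenImmersion _
  have genW : ∀ w : ↥W.left, Points.ofScheme W w ∈ genericPoints (Points ((yon S).obj W)) ↔
      closure {w} ∈ irreducibleComponents ↥W.left := fun w =>
    gen_chart_iff ⟨(yon S).obj W, IsAlgSpace.yon_obj W⟩
      (Groth.Agent.Helper2.DecentEtale.isDecent_yon W) (𝟙 _) (hid W) w
  have genV : ∀ v : ↥V.left, Points.ofScheme V v ∈ genericPoints (Points ((yon S).obj V)) ↔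
      closure {v} ∈ irreducibleComponents ↥V.left := fun v =>
    gen_chart_iff ⟨(yon S).obj V, IsAlgSpace.yon_obj V⟩
      (Groth.Agent.Helper2.DecentEtale.isDecent_yon V) (𝟙 _) (hid V) v
  have hmap : ∀ w : ↥W.left, Points.map ((yon S).map i) (Points.ofScheme W w) =
      Points.ofScheme V (i.left w) := Points.map_yon_map_apply i
  have hηV : closure {genericPoint ↥V.left} ∈ irreducibleComponents ↥V.left := by
    rw [(genericPoint_spec ↥V.left).def, irreducibleComponents_eq_singleton]
    rfl
  obtain ⟨q, hq, hqη⟩ := hbir.bijOn.surjOn ((genV _).mpr hηV)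
  obtain ⟨ξ, rfl⟩ := (Points.schemeHomeo W).surjective q
  have hq' : Points.ofScheme W ξ ∈ genericPoints (Points ((yon S).obj W)) := hq
  have hξgen : closure {ξ} ∈ irreducibleComponents ↥W.left := (genW ξ).mp hq'
  have hξη : i.left ξ = genericPoint ↥V.left := by
    have h1 : Points.map ((yon S).map i) (Points.ofScheme W ξ) =
        Points.ofScheme V (genericPoint ↥V.left) := hqη
    rw [hmap] at h1
    exact (Points.schemeHomeo V).injective h1
  have huniq : ∀ w : ↥W.left, closure {w} ∈ irreducibleComponents ↥W.left → w = ξ := by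
    intro w hw
    have h1 := (genW w).mpr hw
    have h2 := hbir.bijOn.mapsTo h1
    rw [hmap, genV] at h2
    have h3 : i.left w = genericPoint ↥V.left :=
      (Groth.Agent.Lib.Helper6.LocIso.eq_of_specializes_of_closure_mem h2
        ((genericPoint_spec ↥V.left).specializes (Set.mem_univ _))).symm
    exact (Points.schemeHomeo W).injective
      (hbir.bijOn.injOn h1 hq' (show Points.map ((yon S).map i) (Points.ofScheme W w) =
        Points.map ((yon S).map i) (Points.ofScheme W ξ) by rw [hmap, hmap, h3, hξη]))
  haveI : IrreducibleSpace ↥W.left := irreducibleSpace_of_unique_generic ξ huniq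
  haveI : IsIntegral W.left := isIntegral_of_irreducibleSpace_of_isReduced _
  have hξ : ξ = genericPoint ↥W.left := by
    have h1 : IsGenericPoint ξ (⊤ : Set ↥W.left) := by
      rw [irreducibleComponents_eq_singleton] at hξgen
      exact hξgen
    exact h1.eq (genericPoint_spec ↥W.left)
  have hgen : i.left (genericPoint ↥W.left) = genericPoint ↥V.left := hξ ▸ hξη
  have hiso : IsIso (i.left.stalkMap (genericPoint ↥W.left)) := by
    obtain ⟨U', V', a', b', g', u', ha', hb', c, hu, hiso'⟩ := hbir.stalkIso _ hq'
    have c' : 𝟙 _ ≫ (yon S).map i = (yon S).map i ≫ 𝟙 _ := by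
      rw [Category.id_comp, Category.comp_id]
    have := stalkIso_chart_indep (IsAlgSpace.yon_obj W) (IsAlgSpace.yon_obj V) ((yon S).map i)
      a' b' g' (𝟙 _) (𝟙 _) i ha' hb' (hidoi W) (hidoi V) c c' u' ξ hu hiso'
    rw [hξ] at this
    exact this
  haveI : IsIso i.left :=
    Groth.Agent.Helper2.IntegralBirat.isIso_of_integral_birational hVn i.left hgen hiso
  haveI : IsIso ((Over.forget S).map i) := by
    show IsIso i.left
    infer_instance
  haveI : IsIso i := isIso_of_reflects_iso i (Over.forget S)
  infer_instance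

end Groth.Agent.Helper2.Birat
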