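import Mathlib
import Groth.Agent.Lib.Helper2.AlgSp.BiratNormal
import Groth.Agent.Lib.Helper2.AlgSp.Mono

/-!
# S10438: integral birational morphisms onto normal decent spaces, main (helper2)
-/

set_option autoImplicit false
set_option linter.style.haveILetI false

open CategoryTheory CategoryTheory.Limits AlgebraicGeometry Opposite AlgSp TopologicalSpace

universe u

namespace Groth.Agent.Helper2.Birat

open Groth.Agent.Helper2.AlgSpBasic Groth.Agent.Helper2.QfCodimZero

variable {S : Scheme.{u}}

/-- Integral affine opens of affine opens of `U`. -/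
def Idx (U : Over S) : Type u :=
  {r : (A₀ : U.left.Opens) × (A₀ : Scheme.{u}).Opens //
      IsAffineOpen r.1 ∧ IsAffineOpen r.2 ∧ IsIntegral (r.2 : Scheme.{u})}

noncomputable def idxV (U : Over S) (r : Idx U) : Over S :=
  opensOver (U := opensOver r.1.1) r.1.2

noncomputable def idxι (U : Over S) (r : Idx U) : idxV U r ⟶ U :=
  opensOverι (U := opensOver r.1.1) r.1.2 ≫ opensOverι r.1.1

instance (U : Over S) (r : Idx U) : IsAffine (idxV U r).left := r.2.2.1

instance (U : Over S) (r : Idx U) : IsIntegral (idxV U r).left := r.2.2.2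

instance (U : Over S) (r : Idx U) : IsOpenImmersion (idxι U r).left := by
  unfold idxι
  rw [Over.comp_left]
  exact inferInstanceAs (IsOpenImmersion (r.1.2.ι ≫ r.1.1.ι))

theorem idxι_apply (U : Over S) (r : Idx U) (y : ↥(idxV U r).left) :
    (idxι U r).left y = y.1.1 := rfl

theorem repWith_etale_idx (U : Over S) {Y : Sp S} (p : (yon S).obj U ⟶ Y)
    (hpe : RepWith @Etale p) (r : Idx U) : RepWith @Etale ((yon S).map (idxι U r) ≫ p) :=
  repWith_comp @Etale ((repWith_yon_map_iff @Etale (idxι U r)).mpr inferInstance) hpe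

theorem normal_idx (U : Over S)
    (hU : ∀ t : ↥U.left, IsDomain ↥(U.left.presheaf.stalk t) ∧
      IsIntegrallyClosed ↥(U.left.presheaf.stalk t)) (r : Idx U) (y : ↥(idxV U r).left) :
    IsIntegrallyClosed ↥((idxV U r).left.presheaf.stalk y) :=
  (normal_opens (normal_opens hU r.1.1) r.1.2 y).2

end Groth.Agent.Helper2.Birat
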