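import Mathlib
import Groth.Agent.Lib.Helper2.AlgSp.BiratNormal2

/-!
# S10438: integral birational morphisms onto normal decent spaces, main (helper2)
-/

set_option autoImplicit false
set_option linter.style.haveILetI false

open CategoryTheory CategoryTheory.Limits AlgebraicGeometry Opposite AlgSp TopologicalSpace

universe u

namespace Groth.Agent.Helper2.Birat

open Groth.Agent.Helper2.AlgSpBasic Groth.Agent.Helper2.QfCodimZero

variable {S : Scheme.{u}}

/-- The integral affine charts cover. -/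
theorem idx_surj {X Y : Space S} (f : X ⟶ Y)
    (hX : IsDecent X.obj) (hY : IsDecent Y.obj)
    (hXf : (irreducibleComponents (Points X.obj)).Finite)
    (hYf : (irreducibleComponents (Points Y.obj)).Finite)
    (hf : W4stk3decentspacesp2.IsBirational f.hom)
    (U : Over S) (p : (yon S).obj U ⟶ Y.obj) (hpe : RepWith @Etale p)
    (hps : RepWith @Surjective p)
    (hU : ∀ t : ↥U.left, IsDomain ↥(U.left.presheaf.stalk t) ∧
      IsIntegrallyClosed ↥(U.left.presheaf.stalk t))
    (y : Points Y.obj) :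
    ∃ r : Idx U, y ∈ Set.range (Points.map ((yon S).map (idxι U r) ≫ p)) := by
  obtain ⟨u, rfl⟩ := surjective_ofPt p hps y
  obtain ⟨_, ⟨A₀, hA₀, rfl⟩, huA₀, -⟩ :=
    U.left.isBasis_affineOpens.exists_subset_of_mem_open (Set.mem_univ u) isOpen_univ
  have hfinA₀ : (irreducibleComponents ↥(A₀ : Scheme.{u})).Finite := by
    haveI : IsAffine (opensOver A₀).left := hA₀
    have hb' : RepWith @Etale ((yon S).map (opensOverι A₀) ≫ p) :=
      Groth.Agent.Helper2.FibreSpecB.repWith_etale_opensOverι_comp p hpe A₀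
    have h3 := (S10437_main f hX hY hXf hYf hf (V := opensOver A₀)
      ((yon S).map (opensOverι A₀) ≫ p) hb' (pullback.fst f.hom _) (pullback.snd f.hom _)
      (IsPullback.of_hasPullback _ _)).2.2.1
    exact Groth.Agent.Helper2.DenseOpenDecent.finite_irreducibleComponents_of_isOpenEmbedding
      (Points.schemeHomeo (opensOver A₀)) (Points.schemeHomeo (opensOver A₀)).isOpenEmbedding h3
  obtain ⟨A', hA', huA', hA'int⟩ :=
    Groth.Agent.Helper2.IntegralBirat.exists_integral_affine_nhd (A₀ : Scheme.{u}) hfinA₀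
      (fun x => (normal_opens hU A₀ x).1) ⟨u, huA₀⟩
  refine ⟨⟨⟨A₀, A'⟩, hA₀, hA', hA'int⟩, ?_⟩
  refine ⟨Points.ofScheme _ ⟨⟨u, huA₀⟩, huA'⟩, ?_⟩
  rw [← Points.ofPt_eq_map_ofScheme, ofPt_yon_map_comp]
  rfl

end Groth.Agent.Helper2.Birat

namespace Groth.Agent.Helper2.Birat

open Groth.Agent.Helper2.AlgSpBasic Groth.Agent.Helper2.QfCodimZero

variable {S : Scheme.{u}}

theorem S10438_main {X Y : Space S} (f : X ⟶ Y)
    (hX : IsDecent X.obj) (hY : IsDecent Y.obj)
    (hXf : (irreducibleComponents (Points X.obj)).Finite)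
    (hYf : (irreducibleComponents (Points Y.obj)).Finite)
    (hi : IsIntegralMor f.hom) (hf : W4stk3decentspacesp2.IsBirational f.hom)
    (hYn : EtaleLocally (fun T => ∀ t : ↥T, IsDomain ↥(T.presheaf.stalk t) ∧
      IsIntegrallyClosed ↥(T.presheaf.stalk t)) Y.obj)
    (hXr : EtaleLocally (fun T => IsReduced T) X.obj) : IsIso f.hom := by
  obtain ⟨U, p, hpe, hps, hU⟩ := hYn
  have hgr : ∀ r : Idx U, RepWith @Etale ((yon S).map (idxι U r) ≫ p) :=
    repWith_etale_idx U p hpe
  have hchoose : ∀ r : Idx U, ∃ (W : Over S) (i : W ⟶ idxV U r)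
      (fst : (yon S).obj W ⟶ X.obj),
      IsPullback fst ((yon S).map i) f.hom ((yon S).map (idxι U r) ≫ p) ∧ IsAffine W.left ∧
        IsIntegralHom i.left :=
    fun r => hi (inferInstance : IsAffine (idxV U r).left) ((yon S).map (idxι U r) ≫ p)
  choose W i fst' sq hWaff hint using hchoose
  have hfppf : IsFppfCover (fun r : Idx U => (yon S).obj (idxV U r))
      (fun r => (yon S).map (idxι U r) ≫ p) := by
    refine ⟨fun r => ?_, idx_surj f hX hY hXf hYf hf U p hpe hps hU⟩
    have hl : LocP @Etale ((yon S).map (idxι U r) ≫ p) :=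
      locP_of_repWith @Etale (IsAlgSpace.yon_obj _).diag _ (hgr r)
    exact ⟨locP_mono (fun _ _ g (_ : Etale g) => (inferInstance : Flat g)) hl,
      locP_mono (fun _ _ g (_ : Etale g) =>
        (inferInstance : LocallyOfFinitePresentation g)) hl⟩
  have hcover : IsFpqcCover (fun r : Idx U => (yon S).obj (idxV U r))
      (fun r => (yon S).map (idxι U r) ≫ p) :=
    isFpqcCover_of_isFppfCover Y.property _ (fun r => IsAlgSpace.yon_obj _) _ hfppf
  have hloc := isLocalOnBase_fpqc_isomorphisms
    (fun r : Idx U => (yon S).obj (idxV U r)) (fun r => (yon S).map (idxι U r) ≫ p) Y.property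
    (fun r => IsAlgSpace.yon_obj _) hcover f.hom X.property (fun r => (yon S).obj (W r))
    (fun r => (yon S).map (i r)) fst' (fun r => IsAlgSpace.yon_obj _) sq
  refine (MorphismProperty.isomorphisms.iff _).mp (hloc.mpr fun r => ?_)
  refine (MorphismProperty.isomorphisms.iff _).mpr ?_
  haveI := hint r
  exact isIso_chart f hX hY hXf hYf hf hXr (normal_idx U hU r) _ (hgr r) (i r) (fst' r) (sq r)

end Groth.Agent.Helper2.Birat
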