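import Groth.Prelude.Def_AlgSpSub
import Groth.Agent.Lib.Helper2.AlgSp.Basic
import Groth.Agent.Lib.Helper4.IdealComap

set_option autoImplicit false
set_option backward.isDefEq.respectTransparency false
set_option linter.style.haveILetI false
universe u
open CategoryTheory CategoryTheory.Limits AlgebraicGeometry Opposite AlgSp

namespace Groth.Agent.Helper2.CartierPull
open Groth.Agent.Helper2.AlgSpBasic

variable {S : Scheme.{u}}

/-- A flat ring map preserves nonzerodivisors. -/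
theorem nzd_of_flat {A B : Type u} [CommRing A] [CommRing B] (φ : A →+* B) (hφ : φ.Flat)
    {a : A} (ha : a ∈ nonZeroDivisors A) : φ a ∈ nonZeroDivisors B := by
  letI : Algebra A B := φ.toAlgebra
  haveI : Module.Flat A B := hφ
  have h1 : IsSMulRegular A a := by
    intro x y hxy
    have h2 : a * (x - y) = 0 := by
      have : a * x = a * y := hxy
      rw [mul_sub, this, sub_self]
    have := (mem_nonZeroDivisors_iff.mp ha).1 _ h2
    exact sub_eq_zero.mp this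
  have h3 : IsSMulRegular B (algebraMap A B a) := IsSMulRegular.of_flat h1
  rw [mem_nonZeroDivisors_iff_right]
  intro x hx
  have h4 : algebraMap A B a • x = algebraMap A B a • (0 : B) := by
    rw [smul_zero, smul_eq_mul, mul_comm]
    exact hx
  exact h3 h4

/-- Flat pullback of an effective Cartier ideal, with the affine open chosen inside a given
open. -/
theorem exists_affine_comap_of_flat {X Y : Scheme.{u}} (g : X ⟶ Y) [Flat g]
    (I : Y.IdealSheafData) (h : BlowUp.IsEffCartierIdeal I) (x : X) (O : X.Opens) (hxO : x ∈ O) :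
    ∃ U : X.affineOpens, x ∈ U.1 ∧ U.1 ≤ O ∧
      ∃ f : Γ(X, U.1), f ∈ nonZeroDivisors Γ(X, U.1) ∧ (I.comap g).ideal U = Ideal.span {f} := by
  obtain ⟨V, hxV, a, ha, hI⟩ := h (g x)
  have hx : x ∈ g ⁻¹ᵁ V.1 ⊓ O := ⟨hxV, hxO⟩
  obtain ⟨_, ⟨U, hU, rfl⟩, hxU, hUV⟩ :=
    (X.isBasis_affineOpens).exists_subset_of_mem_open hx (g ⁻¹ᵁ V.1 ⊓ O).isOpen
  have e : U ≤ g ⁻¹ᵁ V.1 := fun y hy => (hUV hy).1
  refine ⟨⟨U, hU⟩, hxU, fun y hy => (hUV hy).2, (g.appLE V.1 U e).hom a, ?_, ?_⟩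
  · exact nzd_of_flat _ (Flat.flat_appLE g V.2 hU e) ha
  · rw [Groth.Agent.Helper4.IdealComap.ideal_comap_eq_map g I ⟨U, hU⟩ V e, hI, Ideal.map_span,
      Set.image_singleton]

/-- The inverse image of an effective Cartier ideal under a flat morphism is effective Cartier. -/
theorem isEffCartierIdeal_comap_of_flat {X Y : Scheme.{u}} (g : X ⟶ Y) [Flat g]
    (I : Y.IdealSheafData) (h : BlowUp.IsEffCartierIdeal I) :
    BlowUp.IsEffCartierIdeal (I.comap g) := by
  intro x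
  obtain ⟨U, hxU, -, f, hf, hI⟩ := exists_affine_comap_of_flat g I h x ⊤ trivial
  exact ⟨U, hxU, f, hf, hI⟩

/-- Refinement: the affine open can be chosen inside any open neighbourhood. -/
theorem exists_affine_le {X : Scheme.{u}} (I : X.IdealSheafData) (h : BlowUp.IsEffCartierIdeal I)
    (x : X) (O : X.Opens) (hxO : x ∈ O) :
    ∃ U : X.affineOpens, x ∈ U.1 ∧ U.1 ≤ O ∧
      ∃ f : Γ(X, U.1), f ∈ nonZeroDivisors Γ(X, U.1) ∧ I.ideal U = Ideal.span {f} := by
  have := exists_affine_comap_of_flat (𝟙 X) I h x O hxO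
  rwa [Scheme.IdealSheafData.comap_id] at this

open TensorProduct in
theorem nzd_of_isPushout_of_flat_quotient {A B A' B' : Type u} [CommRing A] [CommRing B]
    [CommRing A'] [CommRing B'] [Algebra A B] [Algebra A A'] [Algebra B B'] [Algebra A' B']
    [Algebra A B'] [IsScalarTower A B B'] [IsScalarTower A A' B']
    (h : Algebra.IsPushout A A' B B')
    (b : B) (hb : b ∈ nonZeroDivisors B) (J : Ideal B) (hJ : J = Ideal.span {b})
    [Module.Flat A (B ⧸ J)] :
    algebraMap B B' b ∈ nonZeroDivisors B' := by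
  subst hJ
  let m : B →ₗ[A] B := LinearMap.mulLeft A b
  let π : B →ₗ[A] (B ⧸ Ideal.span {b}) := (Ideal.Quotient.mkₐ A (Ideal.span {b})).toLinearMap
  have hπ : Function.Surjective π := Ideal.Quotient.mk_surjective
  have hm : Function.Injective m := by
    intro x y hxy
    have h2 : b * (x - y) = 0 := by
      have : b * x = b * y := hxy
      rw [mul_sub, this, sub_self]
    exact sub_eq_zero.mp ((mem_nonZeroDivisors_iff.mp hb).1 _ h2)
  have hex : Function.Exact m π := by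
    intro x
    constructor
    · intro hx
      have : x ∈ Ideal.span {b} := Ideal.Quotient.eq_zero_iff_mem.mp hx
      obtain ⟨c, rfl⟩ := Ideal.mem_span_singleton'.mp this
      exact ⟨c, mul_comm _ _⟩
    · rintro ⟨c, rfl⟩
      exact Ideal.Quotient.eq_zero_iff_mem.mpr (Ideal.mem_span_singleton'.mpr ⟨c, mul_comm _ _⟩)
  have hinj := LinearMap.lTensor_injective_of_exact_of_flat π hπ m hm hex A'
  have hbc : IsBaseChange A' (IsScalarTower.toAlgHom A B B').toLinearMap := h.out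
  let e := hbc.equiv
  have key : ∀ t : A' ⊗[A] B, e (m.lTensor A' t) = algebraMap B B' b * e t := by
    intro t
    induction t with
    | zero => simp
    | add x y hx hy => simp only [map_add, hx, hy, mul_add]
    | tmul s r =>
      simp only [LinearMap.lTensor_tmul, e, hbc.equiv_tmul]
      simp [m, Algebra.smul_def]
      ring
  rw [mem_nonZeroDivisors_iff_right]
  intro x hx
  obtain ⟨t, rfl⟩ := e.surjective x
  have h1 : e (m.lTensor A' t) = 0 := by rw [key, mul_comm]; exact hx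
  have h2 : m.lTensor A' t = 0 := e.injective (by rw [h1, map_zero])
  have h3 : t = 0 := hinj (by rw [h2, map_zero])
  rw [h3, map_zero]

theorem nzd_of_isPushout_cat {A B A' B' : CommRingCat.{u}} (f : A ⟶ B) (g : A ⟶ A') (f' : B ⟶ B')
    (g' : A' ⟶ B') (h : IsPushout f g f' g') (b : B) (hb : b ∈ nonZeroDivisors B) (J : Ideal B)
    (hJ : J = Ideal.span {b}) (hflat : ((Ideal.Quotient.mk J).comp f.hom).Flat) :
    f'.hom b ∈ nonZeroDivisors B' := by
  letI : Algebra A B := f.hom.toAlgebra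
  letI : Algebra A A' := g.hom.toAlgebra
  letI : Algebra B B' := f'.hom.toAlgebra
  letI : Algebra A' B' := g'.hom.toAlgebra
  letI : Algebra A B' := (f ≫ f').hom.toAlgebra
  haveI : IsScalarTower A B B' := .of_algebraMap_eq' rfl
  haveI : IsScalarTower A A' B' := .of_algebraMap_eq' (congrArg CommRingCat.Hom.hom h.w)
  have h' : Algebra.IsPushout A A' B B' := CommRingCat.isPushout_iff_isPushout.mp h.flip
  haveI : Module.Flat A (B ⧸ J) := by
    rw [← RingHom.flat_algebraMap_iff]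
    exact hflat
  exact nzd_of_isPushout_of_flat_quotient h' b hb J hJ

/-- Relative effective Cartier divisors are stable under arbitrary base change (schemes). -/
theorem isEffCartierIdeal_comap_of_flat_over_base {U V V' W : Scheme.{u}} (q : U ⟶ V) (β : V' ⟶ V)
    (pr₁ : W ⟶ U) (pr₂ : W ⟶ V') (H : IsPullback pr₁ pr₂ q β) (I : U.IdealSheafData)
    (hI : BlowUp.IsEffCartierIdeal I) [Flat (I.subschemeι ≫ q)] :
    BlowUp.IsEffCartierIdeal (I.comap pr₁) := by
  intro w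
  obtain ⟨_, ⟨V₀, hV₀, rfl⟩, hvV₀, -⟩ :=
    V.isBasis_affineOpens.exists_subset_of_mem_open (Set.mem_univ (q (pr₁ w))) isOpen_univ
  obtain ⟨U', huU', hU'V₀, b, hb, hIb⟩ := exists_affine_le I hI (pr₁ w) (q ⁻¹ᵁ V₀) hvV₀
  have e : β (pr₂ w) = q (pr₁ w) := by
    rw [← Scheme.Hom.comp_apply, ← Scheme.Hom.comp_apply, H.w]
  have hw2 : pr₂ w ∈ β ⁻¹ᵁ V₀ := by
    show β (pr₂ w) ∈ V₀
    rw [e]
    exact hvV₀
  obtain ⟨_, ⟨V₁, hV₁, rfl⟩, hwV₁, hV₁V₀⟩ :=
    V'.isBasis_affineOpens.exists_subset_of_mem_open hw2 (β ⁻¹ᵁ V₀).isOpen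
  have hV₁V₀' : V₁ ≤ β ⁻¹ᵁ V₀ := hV₁V₀
  let W' : W.Opens := pr₁ ⁻¹ᵁ U'.1 ⊓ pr₂ ⁻¹ᵁ V₁
  have hW' : IsAffineOpen W' := by
    haveI : IsAffine (V₀ : Scheme.{u}) := hV₀
    haveI : IsAffine (V₁ : Scheme.{u}) := hV₁
    haveI : IsAffine (U'.1 : Scheme.{u}) := U'.2
    exact .of_isIso (Scheme.Hom.isPullback_resLE H hV₁V₀' hU'V₀ (rfl : W' = _)).isoPullback.hom
  have hpo := (isIso_pushoutSection_iff H hV₁V₀' hU'V₀ (rfl : W' = _)).mp
    (isIso_pushoutSection_of_isAffineOpen H hV₁V₀' hU'V₀ (rfl : W' = _) hV₀ hV₁ U'.2)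
  have hflat' : ((Ideal.Quotient.mk (I.ideal U')).comp (q.appLE V₀ U'.1 hU'V₀).hom).Flat := by
    have e' : I.subschemeι ⁻¹ᵁ U'.1 ≤ (I.subschemeι ≫ q) ⁻¹ᵁ V₀ := fun z hz => hU'V₀ hz
    have h1 := Flat.flat_appLE (I.subschemeι ≫ q) hV₀ (U'.2.preimage I.subschemeι) e'
    have h2 : (I.subschemeι ≫ q).appLE V₀ (I.subschemeι ⁻¹ᵁ U'.1) e' =
        q.appLE V₀ U'.1 hU'V₀ ≫ I.subschemeι.app U'.1 := by
      rw [Scheme.Hom.app_eq_appLE, Scheme.Hom.appLE_comp_appLE]
    rw [h2, I.subschemeι_app U'] at h1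
    have h3 : (q.appLE V₀ U'.1 hU'V₀ ≫ CommRingCat.ofHom (Ideal.Quotient.mk (I.ideal U')) ≫
        (I.subschemeObjIso U').inv).hom = ((I.subschemeObjIso U').inv.hom).comp
          ((Ideal.Quotient.mk (I.ideal U')).comp (q.appLE V₀ U'.1 hU'V₀).hom) := rfl
    rw [h3] at h1
    exact (RingHom.Flat.comp_iff_of_bijective_left
      ((I.subschemeObjIso U').symm.commRingCatIsoToRingEquiv.bijective)).mp h1
  refine ⟨⟨W', hW'⟩, ⟨huU', hwV₁⟩, (pr₁.appLE U'.1 W' inf_le_left).hom b, ?_, ?_⟩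
  · exact nzd_of_isPushout_cat _ _ _ _ hpo b hb (I.ideal U') hIb hflat'
  · rw [Groth.Agent.Helper4.IdealComap.ideal_comap_eq_map pr₁ I ⟨W', hW'⟩ U' inf_le_left, hIb,
      Ideal.map_span, Set.image_singleton]

/-- Pull a chart square of a closed subspace back along a morphism of schemes. -/
theorem exists_sq_comap {Y D : Sp S} (i : D ⟶ Y) {V : Over S} (φ : (yon S).obj V ⟶ Y)
    (I : V.left.IdealSheafData) (fstD : (yon S).obj (Over.mk (I.subschemeι ≫ V.hom)) ⟶ D)
    (sqD : IsPullback fstD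
      ((yon S).map (Over.homMk I.subschemeι rfl : Over.mk (I.subschemeι ≫ V.hom) ⟶ V)) i φ)
    {U : Over S} (α : U ⟶ V) :
    ∃ fst' : (yon S).obj (Over.mk ((I.comap α.left).subschemeι ≫ U.hom)) ⟶ D,
      IsPullback fst' ((yon S).map (Over.homMk (I.comap α.left).subschemeι rfl :
        Over.mk ((I.comap α.left).subschemeι ≫ U.hom) ⟶ U)) i ((yon S).map α ≫ φ) := by
  let J : U.left.IdealSheafData := I.comap α.left
  let ZJ : Over S := Over.mk (J.subschemeι ≫ U.hom)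
  let ZI : Over S := Over.mk (I.subschemeι ≫ V.hom)
  let ιJ : ZJ ⟶ U := Over.homMk J.subschemeι rfl
  let ιI : ZI ⟶ V := Over.homMk I.subschemeι rfl
  let k0 : J.subscheme ⟶ I.subscheme := (I.comapIso α.left).hom ≫ pullback.snd _ _
  have hk0 : k0 ≫ I.subschemeι = J.subschemeι ≫ α.left := by
    simp only [k0, Category.assoc, ← pullback.condition]
    rw [← Category.assoc, Scheme.IdealSheafData.comapIso_hom_fst]
  let k : ZJ ⟶ ZI := Over.homMk k0 (by
    show k0 ≫ I.subschemeι ≫ V.hom = J.subschemeι ≫ U.hom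
    rw [← Category.assoc, hk0, Category.assoc, Over.w α])
  have sq0 : IsPullback k0 J.subschemeι I.subschemeι α.left := by
    have h0 := (IsPullback.of_hasPullback α.left I.subschemeι).flip
    exact h0.of_iso (I.comapIso α.left).symm (Iso.refl _) (Iso.refl _) (Iso.refl _)
      (by simp only [Iso.refl_hom, Category.comp_id, Iso.symm_hom, k0, Iso.inv_hom_id_assoc])
      (by simp only [Iso.refl_hom, Category.comp_id, Iso.symm_hom]
          exact (I.comapIso_inv_subschemeι α.left).symm) (by simp) (by simp)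
  have sq1 : IsPullback k ιJ ιI α :=
    IsPullback.of_map (Over.forget S) (by ext; exact hk0) sq0
  have sq2 := sq1.map (yon S)
  exact ⟨(yon S).map k ≫ fstD, sq2.paste_horiz sqD⟩

/-- Transport a chart square of `i` along a base change `i'` of `i`. -/
theorem exists_sq_of_isPullback {X X' D D' : Sp S} (i : D ⟶ X) (g' : X' ⟶ X) (k : D' ⟶ D)
    (i' : D' ⟶ X') (hD' : IsPullback k i' i g') {W Z : Over S} (ι : Z ⟶ W)
    (a : (yon S).obj W ⟶ X) (fst₂ : (yon S).obj Z ⟶ D)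
    (sq : IsPullback fst₂ ((yon S).map ι) i a) (c : (yon S).obj W ⟶ X') (hc : c ≫ g' = a) :
    ∃ fst' : (yon S).obj Z ⟶ D', IsPullback fst' ((yon S).map ι) i' c := by
  have w : fst₂ ≫ i = ((yon S).map ι ≫ c) ≫ g' := by
    rw [Category.assoc, hc]
    exact sq.w
  refine ⟨hD'.lift _ _ w, IsPullback.of_right ?_ (hD'.lift_snd _ _ w) hD'⟩
  rw [hD'.lift_fst, hc]
  exact sq

/-- The canonical map `A ×_H B ⟶ X ×_H Y` induced by maps `A ⟶ X`, `B ⟶ Y` with a property
stable under base change and composition has that property. -/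
theorem repWith_fibre_product (P : MorphismProperty Scheme.{u}) [P.IsStableUnderBaseChange]
    [P.IsMultiplicative] {H X Y Pb A B Q : Sp S} {f : X ⟶ H} {g : Y ⟶ H} {fst : Pb ⟶ X}
    {snd : Pb ⟶ Y} (h : IsPullback fst snd f g) {pX : A ⟶ X} {pY : B ⟶ Y} (hpX : RepWith P pX)
    (hpY : RepWith P pY) {q₁ : Q ⟶ A} {q₂ : Q ⟶ B} (sqD : IsPullback q₁ q₂ (pX ≫ f) (pY ≫ g))
    (l : Q ⟶ Pb) (hl₁ : l ≫ fst = q₁ ≫ pX) (hl₂ : l ≫ snd = q₂ ≫ pY) : RepWith P l := by
  let π₁ : pullback fst pX ⟶ Pb := pullback.fst fst pX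
  let π₂ : pullback fst pX ⟶ A := pullback.snd fst pX
  have sqB : IsPullback π₁ π₂ fst pX := IsPullback.of_hasPullback fst pX
  have sqC : IsPullback (π₁ ≫ snd) π₂ g (pX ≫ f) := sqB.paste_horiz h.flip
  have comm : (q₂ ≫ pY) ≫ g = q₁ ≫ (pX ≫ f) := by
    simpa only [Category.assoc] using sqD.w.symm
  let l₁ : Q ⟶ pullback fst pX := sqC.lift (q₂ ≫ pY) q₁ comm
  have hl₁a : l₁ ≫ π₁ ≫ snd = q₂ ≫ pY := sqC.lift_fst _ _ _
  have hl₁b : l₁ ≫ π₂ = q₁ := sqC.lift_snd _ _ _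
  have sqE : IsPullback q₂ l₁ pY (π₁ ≫ snd) := by
    refine IsPullback.of_bot ?_ hl₁a.symm sqC
    rw [hl₁b]
    exact sqD.flip
  have hl : l = l₁ ≫ π₁ := by
    apply h.hom_ext
    · rw [hl₁, Category.assoc, sqB.w, ← Category.assoc, hl₁b]
    · rw [hl₂, Category.assoc, hl₁a]
  rw [hl]
  exact repWith_comp P (repWith_of_isPullback P sqE hpY) (repWith_of_isPullback P sqB.flip hpX)

/-- S10795. -/
theorem main95 {X Y D P : Sp S} (hX : IsAlgSpace X) (f : X ⟶ Y) (hf : LocP @Flat f) (i : D ⟶ Y)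
    (hD : IsEffCartierSub i) (fst : P ⟶ D) (snd : P ⟶ X) (hP : IsPullback fst snd i f) :
    IsEffCartierSub snd := by
  obtain ⟨hi, V, φ, I, fstD, hφe, hφs, sqD, hI⟩ := hD
  refine ⟨repWith_of_isPullback @IsClosedImmersion hP hi, ?_⟩
  obtain ⟨U, p, α, hpe, hps, hpα⟩ := exists_chart_lift hX f φ hφe hφs
  haveI : Flat α.left := hf p φ α hpe hφe hpα
  let J : U.left.IdealSheafData := I.comap α.left
  let ZJ : Over S := Over.mk (J.subschemeι ≫ U.hom)
  let ZI : Over S := Over.mk (I.subschemeι ≫ V.hom)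
  let ιJ : ZJ ⟶ U := Over.homMk J.subschemeι rfl
  let ιI : ZI ⟶ V := Over.homMk I.subschemeι rfl
  let k0 : J.subscheme ⟶ I.subscheme := (I.comapIso α.left).hom ≫ pullback.snd _ _
  have hk0 : k0 ≫ I.subschemeι = J.subschemeι ≫ α.left := by
    simp only [k0, Category.assoc, ← pullback.condition]
    rw [← Category.assoc, Scheme.IdealSheafData.comapIso_hom_fst]
  let k : ZJ ⟶ ZI := Over.homMk k0 (by
    show k0 ≫ I.subschemeι ≫ V.hom = J.subschemeι ≫ U.hom
    rw [← Category.assoc, hk0, Category.assoc, Over.w α])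
  have sq0 : IsPullback k0 J.subschemeι I.subschemeι α.left := by
    have h0 := (IsPullback.of_hasPullback α.left I.subschemeι).flip
    exact h0.of_iso (I.comapIso α.left).symm (Iso.refl _) (Iso.refl _) (Iso.refl _)
      (by simp only [Iso.refl_hom, Category.comp_id, Iso.symm_hom, k0, Iso.inv_hom_id_assoc])
      (by simp only [Iso.refl_hom, Category.comp_id, Iso.symm_hom]
          exact (I.comapIso_inv_subschemeι α.left).symm) (by simp) (by simp)
  have sq1 : IsPullback k ιJ ιI α :=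
    IsPullback.of_map (Over.forget S) (by ext; exact hk0) sq0
  have sq2 := sq1.map (yon S)
  have sq3 : IsPullback ((yon S).map k ≫ fstD) ((yon S).map ιJ) i ((yon S).map α ≫ φ) :=
    sq2.paste_horiz sqD
  have w : ((yon S).map k ≫ fstD) ≫ i = ((yon S).map ιJ ≫ p) ≫ f := by
    rw [Category.assoc ((yon S).map ιJ), hpα]
    exact sq3.w
  refine ⟨U, p, J, hP.lift _ _ w, hpe, hps, ?_, isEffCartierIdeal_comap_of_flat α.left I hI⟩
  refine IsPullback.of_right ?_ (hP.lift_snd _ _ w) hP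
  rw [hP.lift_fst, hpα]
  exact sq3

/-- S10797. -/
theorem main97 {X Y D Y' X' D' : Sp S} (hY : IsAlgSpace Y) (hY' : IsAlgSpace Y')
    (f : X ⟶ Y) (i : D ⟶ X) (hD : IsEffCartierSub i) (hflat : LocP @Flat (i ≫ f))
    (g : Y' ⟶ Y) (g' : X' ⟶ X) (f' : X' ⟶ Y') (hX' : IsPullback g' f' f g)
    (k : D' ⟶ D) (i' : D' ⟶ X') (hD' : IsPullback k i' i g') : IsEffCartierSub i' := by
  obtain ⟨hi, U₀, φ₀, I₀, fst₀, hφ₀e, hφ₀s, sq₀, hI₀⟩ := hD
  refine ⟨repWith_of_isPullback @IsClosedImmersion hD' hi, ?_⟩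
  obtain ⟨V, ψ, hψe, hψs⟩ := hY.atlas
  obtain ⟨U₁, p₁, α, hp₁e, hp₁s, hp₁α⟩ :=
    exists_chart_lift (IsAlgSpace.yon_obj U₀) (φ₀ ≫ f) ψ hψe hψs
  obtain ⟨π, rfl⟩ := (yon S).map_surjective p₁
  haveI : Etale π.left := (repWith_yon_map_iff @Etale π).mp hp₁e
  let I₁ : U₁.left.IdealSheafData := I₀.comap π.left
  have hI₁ : BlowUp.IsEffCartierIdeal I₁ := isEffCartierIdeal_comap_of_flat π.left I₀ hI₀
  obtain ⟨fst₁, sq₁⟩ := exists_sq_comap i φ₀ I₀ fst₀ sq₀ π
  have hφ₁e : RepWith @Etale ((yon S).map π ≫ φ₀) := repWith_comp @Etale hp₁e hφ₀e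
  have hφ₁s : RepWith @Surjective ((yon S).map π ≫ φ₀) := repWith_comp @Surjective hp₁s hφ₀s
  have hfst₁e : RepWith @Etale fst₁ := repWith_of_isPullback @Etale sq₁.flip hφ₁e
  let ιI₁ : Over.mk (I₁.subschemeι ≫ U₁.hom) ⟶ U₁ := Over.homMk I₁.subschemeι rfl
  haveI : Flat (I₁.subschemeι ≫ α.left) := hflat fst₁ ψ (ιI₁ ≫ α) hfst₁e hψe (by
    rw [← Category.assoc, sq₁.w, Category.assoc, Category.assoc, hp₁α, Functor.map_comp,
      Category.assoc])
  obtain ⟨V', ψ', hψ'e, hψ's⟩ := hY'.atlas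
  have hrep := hψe.rep
  obtain ⟨β, hβ⟩ := (yon S).map_surjective (hrep.fst (ψ' ≫ g))
  have sqV : IsPullback ((yon S).map β) ((yon S).map (hrep.snd (ψ' ≫ g))) ψ (ψ' ≫ g) := by
    rw [hβ]
    exact hrep.isPullback (ψ' ≫ g)
  have sqW := (IsPullback.of_hasPullback α β).map (yon S)
  have sqWV := sqW.paste_vert sqV
  rw [← hp₁α, ← Category.assoc] at sqWV
  have comm : ((yon S).map (pullback.fst α β) ≫ (yon S).map π ≫ φ₀) ≫ f =
      (((yon S).map (pullback.snd α β) ≫ (yon S).map (hrep.snd (ψ' ≫ g))) ≫ ψ') ≫ g := by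
    have := sqWV.w
    simpa only [Category.assoc] using this
  let c : (yon S).obj (pullback α β) ⟶ X' := hX'.lift _ _ comm
  have hc₁ : c ≫ g' = (yon S).map (pullback.fst α β) ≫ (yon S).map π ≫ φ₀ := hX'.lift_fst _ _ comm
  have hc₂ : c ≫ f' = ((yon S).map (pullback.snd α β) ≫ (yon S).map (hrep.snd (ψ' ≫ g))) ≫ ψ' :=
    hX'.lift_snd _ _ comm
  have hce : RepWith @Etale c := repWith_fibre_product @Etale hX' hφ₁e hψ'e sqWV c hc₁ hc₂
  have hcs : RepWith @Surjective c :=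
    repWith_fibre_product @Surjective hX' hφ₁s hψ's sqWV c hc₁ hc₂
  obtain ⟨fst₂, sq₂⟩ := exists_sq_comap i ((yon S).map π ≫ φ₀) I₁ fst₁ sq₁ (pullback.fst α β)
  obtain ⟨fst', sq'⟩ := exists_sq_of_isPullback i g' k i' hD' _ _ fst₂ sq₂ c hc₁
  refine ⟨pullback α β, c, I₁.comap (pullback.fst α β).left, fst', hce, hcs, sq', ?_⟩
  exact isEffCartierIdeal_comap_of_flat_over_base α.left β.left (pullback.fst α β).left
    (pullback.snd α β).left ((IsPullback.of_hasPullback α β).map (Over.forget S)) I₁ hI₁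

end Groth.Agent.Helper2.CartierPull
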