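import Mathlib
import Groth.Prelude.Def_AlgSpMor5
import Groth.Agent.Lib.Helper2.AlgSp.LocP
import Groth.Agent.Lib.Helper2.AlgSp.Points
import Groth.Agent.Lib.Lead.CritFib19

/-!
# The fibrewise criterion of flatness for morphisms of algebraic spaces (helper2)
-/

set_option autoImplicit false
set_option linter.style.haveILetI false

open CategoryTheory CategoryTheory.Limits AlgebraicGeometry Opposite AlgSp

universe u

namespace Groth.Agent.Helper2.FlatFibresSp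

open Groth.Agent.Helper2.AlgSpBasic

variable {S : Scheme.{u}}

/-- A tower of etale charts adapted to `f : X ⟶ Y` and `h : Y ⟶ Z`. -/
structure Tower {X Y Z : Sp S} (f : X ⟶ Y) (h : Y ⟶ Z) where
  W : Over S
  c : (yon S).obj W ⟶ Z
  hce : RepWith @Etale c
  hcs : RepWith @Surjective c
  YW : Sp S
  π₁ : YW ⟶ Y
  π₂ : YW ⟶ (yon S).obj W
  sqY : IsPullback π₁ π₂ h c
  V : Over S
  b₀ : (yon S).obj V ⟶ YW
  hb₀e : RepWith @Etale b₀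
  hb₀s : RepWith @Surjective b₀
  k₂ : V ⟶ W
  hk₂ : (yon S).map k₂ = b₀ ≫ π₂
  XV : Sp S
  ρ₁ : XV ⟶ X
  ρ₂ : XV ⟶ (yon S).obj V
  sqX : IsPullback ρ₁ ρ₂ f (b₀ ≫ π₁)
  U : Over S
  a₀ : (yon S).obj U ⟶ XV
  ha₀e : RepWith @Etale a₀
  ha₀s : RepWith @Surjective a₀
  k₁ : U ⟶ V
  hk₁ : (yon S).map k₁ = a₀ ≫ ρ₂

theorem exists_tower {X Y Z : Sp S} (hX : IsAlgSpace X) (hY : IsAlgSpace Y) (hZ : IsAlgSpace Z)
    (f : X ⟶ Y) (h : Y ⟶ Z) : Nonempty (Tower f h) := by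
  obtain ⟨W, c, hce, hcs⟩ := hZ.atlas
  have sqY := IsPullback.of_hasPullback h c
  have hYW : IsAlgSpace (pullback h c) :=
    isAlgSpace_of_isPullback hZ.diag hY (IsAlgSpace.yon_obj W) h c _ _ sqY
  obtain ⟨V, b₀, hb₀e, hb₀s⟩ := hYW.atlas
  obtain ⟨k₂, hk₂⟩ := (yon S).map_surjective (b₀ ≫ pullback.snd h c)
  have sqX := IsPullback.of_hasPullback f (b₀ ≫ pullback.fst h c)
  have hXV : IsAlgSpace (pullback f (b₀ ≫ pullback.fst h c)) :=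
    isAlgSpace_of_isPullback hY.diag hX (IsAlgSpace.yon_obj V) f _ _ _ sqX
  obtain ⟨U, a₀, ha₀e, ha₀s⟩ := hXV.atlas
  obtain ⟨k₁, hk₁⟩ := (yon S).map_surjective (a₀ ≫ pullback.snd f (b₀ ≫ pullback.fst h c))
  exact ⟨⟨W, c, hce, hcs, _, _, _, sqY, V, b₀, hb₀e, hb₀s, k₂, hk₂, _, _, _, sqX, U, a₀, ha₀e,
    ha₀s, k₁, hk₁⟩⟩

namespace Tower

variable {X Y Z : Sp S} {f : X ⟶ Y} {h : Y ⟶ Z} (T : Tower f h)

/-- The chart of `Y`. -/
noncomputable def b : (yon S).obj T.V ⟶ Y := T.b₀ ≫ T.π₁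

/-- The chart of `X`. -/
noncomputable def a : (yon S).obj T.U ⟶ X := T.a₀ ≫ T.ρ₁

theorem hπ₁e : RepWith @Etale T.π₁ := repWith_of_isPullback @Etale T.sqY.flip T.hce

theorem hπ₁s : RepWith @Surjective T.π₁ := repWith_of_isPullback @Surjective T.sqY.flip T.hcs

theorem hbe : RepWith @Etale T.b := repWith_comp @Etale T.hb₀e T.hπ₁e

theorem hbs : RepWith @Surjective T.b := repWith_comp @Surjective T.hb₀s T.hπ₁s

theorem hρ₁e : RepWith @Etale T.ρ₁ := repWith_of_isPullback @Etale T.sqX.flip T.hbe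

theorem hρ₁s : RepWith @Surjective T.ρ₁ := repWith_of_isPullback @Surjective T.sqX.flip T.hbs

theorem hae : RepWith @Etale T.a := repWith_comp @Etale T.ha₀e T.hρ₁e

theorem has : RepWith @Surjective T.a := repWith_comp @Surjective T.ha₀s T.hρ₁s

theorem comm_b : T.b ≫ h = (yon S).map T.k₂ ≫ T.c := by
  rw [b, Category.assoc, T.sqY.w, ← Category.assoc, ← T.hk₂]

theorem comm_a : T.a ≫ f = (yon S).map T.k₁ ≫ T.b := by
  rw [a, Category.assoc, T.sqX.w, ← Category.assoc, ← T.hk₁]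
  rfl

theorem comm_ac : T.a ≫ f ≫ h = (yon S).map (T.k₁ ≫ T.k₂) ≫ T.c := by
  rw [← Category.assoc, T.comm_a, Category.assoc, T.comm_b, Functor.map_comp, Category.assoc]

end Tower

/-- The hypothesis "flat on all fibres over field points of `Z`". -/
def FlatOnFibres {X Y Z : Sp S} (f : X ⟶ Y) (h : Y ⟶ Z) : Prop :=
  ∀ (K : Type u) [Field K] (sK : Spec (CommRingCat.of K) ⟶ S)
    (z : (yon S).obj (Over.mk sK) ⟶ Z) (Xz Yz : Sp S)
    (pX : Xz ⟶ X) (qX : Xz ⟶ (yon S).obj (Over.mk sK))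
    (pY : Yz ⟶ Y) (qY : Yz ⟶ (yon S).obj (Over.mk sK)) (fz : Xz ⟶ Yz),
    IsPullback pX qX (f ≫ h) z → IsPullback pY qY h z → fz ≫ pY = pX ≫ f → fz ≫ qY = qX →
    LocP @Flat fz

set_option maxHeartbeats 800000 in
/-- Flatness on fibres, read on a tower of charts. -/
theorem flat_fibre_snd {X Y Z : Sp S} {f : X ⟶ Y} {h : Y ⟶ Z} (T : Tower f h) (w : ↥T.W.left)
    (hfib : FlatOnFibres f h) :
    Flat (pullback.snd T.k₁.left (T.k₂.left.fiberι w)) := by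
  -- the field point
  obtain ⟨ι, hι⟩ : ∃ ι : Spec (CommRingCat.of ↑(T.W.left.residueField w)) ⟶ T.W.left,
      ι = T.W.left.fromSpecResidueField w := ⟨_, rfl⟩
  obtain ⟨ιO, hιO⟩ : ∃ ιO : Over.mk (ι ≫ T.W.hom) ⟶ T.W, ιO = Over.homMk ι rfl := ⟨_, rfl⟩
  have hιOl : ιO.left = ι := by rw [hιO]; rfl
  -- the fibre of `V`
  have hτw : T.k₂.left.fiberToSpecResidueField w ≫ ι ≫ T.W.hom =
      T.k₂.left.fiberι w ≫ T.V.hom := by
    rw [hι, ← Category.assoc, ← T.k₂.left.fiber_fac w, Category.assoc, Over.w T.k₂]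
  obtain ⟨jV, hjV⟩ : ∃ jV : Over.mk (T.k₂.left.fiberι w ≫ T.V.hom) ⟶ T.V,
      jV = Over.homMk (T.k₂.left.fiberι w) rfl := ⟨_, rfl⟩
  obtain ⟨τV, hτV⟩ : ∃ τV : Over.mk (T.k₂.left.fiberι w ≫ T.V.hom) ⟶ Over.mk (ι ≫ T.W.hom),
      τV = Over.homMk (T.k₂.left.fiberToSpecResidueField w) hτw := ⟨_, rfl⟩
  have sqVw : IsPullback ((yon S).map jV) ((yon S).map τV) ((yon S).map T.k₂)
      ((yon S).map ιO) := by
    refine yon_isPullback_of_left jV τV T.k₂ ιO ?_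
    rw [hjV, hτV, hιO]
    subst hι
    exact IsPullback.of_hasPullback T.k₂.left (T.W.left.fromSpecResidueField w)
  -- the fibre of `Y`
  obtain ⟨Yz, σ₁, σ₂, sqσ⟩ : ∃ (Yz : Sp S) (σ₁ : Yz ⟶ T.YW)
      (σ₂ : Yz ⟶ (yon S).obj (Over.mk (ι ≫ T.W.hom))), IsPullback σ₁ σ₂ T.π₂ ((yon S).map ιO) :=
    ⟨_, _, _, IsPullback.of_hasPullback _ _⟩
  have sqYz : IsPullback (σ₁ ≫ T.π₁) σ₂ h ((yon S).map ιO ≫ T.c) := sqσ.paste_horiz T.sqY
  have hβc : ((yon S).map jV ≫ T.b₀) ≫ T.π₂ = (yon S).map τV ≫ (yon S).map ιO := by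
    rw [Category.assoc, ← T.hk₂, sqVw.w]
  obtain ⟨β, hβ⟩ : ∃ β, β = sqσ.lift ((yon S).map jV ≫ T.b₀) ((yon S).map τV) hβc := ⟨_, rfl⟩
  have hβ1 : β ≫ σ₁ = (yon S).map jV ≫ T.b₀ := by rw [hβ, sqσ.lift_fst]
  have hβ2 : β ≫ σ₂ = (yon S).map τV := by rw [hβ, sqσ.lift_snd]
  have sqβ : IsPullback β ((yon S).map jV) σ₁ T.b₀ := by
    refine IsPullback.of_right ?_ hβ1 sqσ.flip
    rw [hβ2, ← T.hk₂]
    exact sqVw.flip
  have hβe : RepWith @Etale β := repWith_of_isPullback @Etale sqβ.flip T.hb₀e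
  -- the fibre of `X`
  obtain ⟨Xz, μ₁, μ₂, sqμ⟩ : ∃ (Xz : Sp S) (μ₁ : Xz ⟶ X) (μ₂ : Xz ⟶ Yz),
      IsPullback μ₁ μ₂ f (σ₁ ≫ T.π₁) := ⟨_, _, _, IsPullback.of_hasPullback _ _⟩
  have sqXz : IsPullback μ₁ (μ₂ ≫ σ₂) (f ≫ h) ((yon S).map ιO ≫ T.c) := sqμ.paste_vert sqYz
  -- the fibre of `U`
  have hφw : pullback.snd T.k₁.left (T.k₂.left.fiberι w) ≫ T.k₂.left.fiberι w ≫ T.V.hom =
      pullback.fst T.k₁.left (T.k₂.left.fiberι w) ≫ T.U.hom := by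
    rw [← Category.assoc, ← pullback.condition, Category.assoc, Over.w T.k₁]
  obtain ⟨jU, hjU⟩ : ∃ jU : Over.mk (pullback.fst T.k₁.left (T.k₂.left.fiberι w) ≫ T.U.hom) ⟶ T.U,
      jU = Over.homMk (pullback.fst T.k₁.left (T.k₂.left.fiberι w)) rfl := ⟨_, rfl⟩
  obtain ⟨φ, hφ⟩ : ∃ φ : Over.mk (pullback.fst T.k₁.left (T.k₂.left.fiberι w) ≫ T.U.hom) ⟶
      Over.mk (T.k₂.left.fiberι w ≫ T.V.hom),
      φ = Over.homMk (pullback.snd T.k₁.left (T.k₂.left.fiberι w)) hφw := ⟨_, rfl⟩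
  have sqUw : IsPullback ((yon S).map jU) ((yon S).map φ) ((yon S).map T.k₁)
      ((yon S).map jV) := by
    refine yon_isPullback_of_left jU φ T.k₁ jV ?_
    rw [hjU, hφ, hjV]
    exact IsPullback.of_hasPullback T.k₁.left (T.k₂.left.fiberι w)
  -- the intermediate space `X_V ×_V V_w`
  obtain ⟨Tw, t₁, t₂, sqT⟩ : ∃ (Tw : Sp S) (t₁ : Tw ⟶ T.XV)
      (t₂ : Tw ⟶ (yon S).obj (Over.mk (T.k₂.left.fiberι w ≫ T.V.hom))),
      IsPullback t₁ t₂ T.ρ₂ ((yon S).map jV) := ⟨_, _, _, IsPullback.of_hasPullback _ _⟩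
  have hθc : ((yon S).map jU ≫ T.a₀) ≫ T.ρ₂ = (yon S).map φ ≫ (yon S).map jV := by
    rw [Category.assoc, ← T.hk₁, sqUw.w]
  obtain ⟨θ, hθ⟩ : ∃ θ, θ = sqT.lift ((yon S).map jU ≫ T.a₀) ((yon S).map φ) hθc := ⟨_, rfl⟩
  have hθ1 : θ ≫ t₁ = (yon S).map jU ≫ T.a₀ := by rw [hθ, sqT.lift_fst]
  have hθ2 : θ ≫ t₂ = (yon S).map φ := by rw [hθ, sqT.lift_snd]
  have sqθ : IsPullback θ ((yon S).map jU) t₁ T.a₀ := by
    refine IsPullback.of_right ?_ hθ1 sqT.flip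
    rw [hθ2, ← T.hk₁]
    exact sqUw.flip
  have hθe : RepWith @Etale θ := repWith_of_isPullback @Etale sqθ.flip T.ha₀e
  have hψc : (t₁ ≫ T.ρ₁) ≫ f = (t₂ ≫ β) ≫ σ₁ ≫ T.π₁ := by
    rw [Category.assoc, T.sqX.w, ← Category.assoc, sqT.w, Category.assoc, Category.assoc,
      ← Category.assoc β, hβ1, Category.assoc]
  obtain ⟨ψ, hψ⟩ : ∃ ψ, ψ = sqμ.lift (t₁ ≫ T.ρ₁) (t₂ ≫ β) hψc := ⟨_, rfl⟩
  have hψ1 : ψ ≫ μ₁ = t₁ ≫ T.ρ₁ := by rw [hψ, sqμ.lift_fst]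
  have hψ2 : ψ ≫ μ₂ = t₂ ≫ β := by rw [hψ, sqμ.lift_snd]
  have sqψ : IsPullback ψ t₂ μ₂ β := by
    refine IsPullback.of_right ?_ hψ2 sqμ
    rw [hψ1, ← Category.assoc β, hβ1, Category.assoc]
    exact sqT.paste_horiz T.sqX
  have hψe : RepWith @Etale ψ := repWith_of_isPullback @Etale sqψ.flip hβe
  have hαe : RepWith @Etale (θ ≫ ψ) := repWith_comp @Etale hθe hψe
  have hαc : (θ ≫ ψ) ≫ μ₂ = (yon S).map φ ≫ β := by
    rw [Category.assoc, hψ2, ← Category.assoc, hθ2]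
  have hloc : LocP @Flat μ₂ :=
    hfib ↑(T.W.left.residueField w) (ι ≫ T.W.hom) ((yon S).map ιO ≫ T.c) Xz Yz μ₁ (μ₂ ≫ σ₂)
      (σ₁ ≫ T.π₁) σ₂ μ₂ sqXz sqYz sqμ.w.symm rfl
  have hres : Flat φ.left := hloc (θ ≫ ψ) β φ hαe hβe hαc
  rw [hφ] at hres
  exact hres

/-- The first chart map of a tower is surjective if `f` is surjective on points. -/
theorem surjective_k₁ {X Y Z : Sp S} {f : X ⟶ Y} {h : Y ⟶ Z} (T : Tower f h)
    (hs : IsSurjectiveMor f) (v : ↥T.V.left) : ∃ u : ↥T.U.left, T.k₁.left u = v := by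
  obtain ⟨x, hx⟩ := hs (Points.ofPt T.b v)
  have e : Points.map T.b (Points.ofPt (𝟙 ((yon S).obj T.V)) v) = Points.map f x := by
    rw [Points.map_ofPt, Category.id_comp, hx]
  obtain ⟨p, hp1, hp2⟩ := points_exists_of_isPullback f T.b T.ρ₂ T.ρ₁ T.sqX.flip
    (Points.ofPt (𝟙 ((yon S).obj T.V)) v) x e
  obtain ⟨u, hu⟩ := surjective_ofPt T.a₀ T.ha₀s p
  refine ⟨u, ?_⟩
  have h1 : Points.map T.ρ₂ (Points.ofPt T.a₀ u) =
      Points.ofPt (𝟙 ((yon S).obj T.V)) (T.k₁.left u) := by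
    rw [Points.map_ofPt, ← T.hk₁, ← ofPt_yon_map_comp, Category.comp_id]
  rw [hu, hp1] at h1
  exact ((Points.schemeHomeo T.V).injective h1).symm

/-- S10603 core. -/
theorem main {X Y Z : Sp S} (hX : IsAlgSpace X) (hY : IsAlgSpace Y) (hZ : IsAlgSpace Z)
    (f : X ⟶ Y) (h : Y ⟶ Z)
    (hfp : LocP @LocallyOfFinitePresentation (f ≫ h)) (hfl : LocP @Flat (f ≫ h))
    (hft : LocP @LocallyOfFiniteType h) (hfib : FlatOnFibres f h) :
    LocP @Flat f ∧ (IsSurjectiveMor f → LocP @Flat h) := by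
  obtain ⟨T⟩ := exists_tower hX hY hZ f h
  have hcomm : T.a ≫ f ≫ h = (yon S).map (T.k₁ ≫ T.k₂) ≫ T.c := T.comm_ac
  haveI h1 : LocallyOfFinitePresentation (T.k₁.left ≫ T.k₂.left) := by
    rw [← Over.comp_left]
    exact hfp T.a T.c (T.k₁ ≫ T.k₂) T.hae T.hce hcomm
  haveI h2 : Flat (T.k₁.left ≫ T.k₂.left) := by
    rw [← Over.comp_left]
    exact hfl T.a T.c (T.k₁ ≫ T.k₂) T.hae T.hce hcomm
  haveI h3 : LocallyOfFiniteType T.k₂.left := hft T.b T.c T.k₂ T.hbe T.hce T.comm_b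
  have key := fun u : ↥T.U.left =>
    Groth.Agent.Lead.CritFib.flat_stalkMap_of_flat_fibres T.k₁.left T.k₂.left
      (fun w => flat_fibre_snd T w hfib) u
  constructor
  · have hfl1 : Flat T.k₁.left := (Flat.iff_flat_stalkMap _).mpr fun u => (key u).2
    exact locP_of_one_chart @Flat hX.diag hY.diag f T.a T.b T.k₁ T.hae T.has T.hbe T.comm_a hfl1
  · intro hs
    have hfl2 : Flat T.k₂.left := by
      refine (Flat.iff_flat_stalkMap _).mpr fun v => ?_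
      obtain ⟨u, rfl⟩ := surjective_k₁ T hs v
      exact (key u).1
    exact locP_of_one_chart @Flat hY.diag hZ.diag h T.b T.c T.k₂ T.hbe T.hbs T.hce T.comm_b hfl2

end Groth.Agent.Helper2.FlatFibresSp
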