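import Mathlib
import Groth.Prelude.Def_AlgSpMor5
import Groth.Agent.Lib.Helper2.AlgSp.LocP
import Groth.Agent.Lib.Helper2.AlgSp.Points
import Groth.Agent.Lib.Helper2.AlgSp.FlatFibresSp
import Groth.Agent.Lib.Helper2.Ring.SHensMap

/-!
# Chart diagrams through given points; geometric unibranchness and flat morphisms (helper2)
-/

set_option autoImplicit false
set_option linter.style.haveILetI false

open CategoryTheory CategoryTheory.Limits AlgebraicGeometry Opposite AlgSp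

universe u

namespace Groth.Agent.Helper2.ChartThrough

open Groth.Agent.Helper2.AlgSpBasic

variable {S : Scheme.{u}}

/-- Given an etale chart `V` of `Y` and a point `v` of `V` over `f x`, there is a chart diagram of
`f` over `V` through `x` and `v`. -/
theorem exists_chart_through {X Y : Sp S} (hX : IsAlgSpace X) (hY : IsAlgSpace Y) (f : X ⟶ Y)
    {V : Over S} (b : (yon S).obj V ⟶ Y) (hb : RepWith @Etale b) (v : ↥V.left) (x : Points X)
    (hv : Points.ofPt b v = Points.map f x) :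
    ∃ (U : Over S) (a : (yon S).obj U ⟶ X) (h : U ⟶ V) (u : ↥U.left),
      RepWith @Etale a ∧ a ≫ f = (yon S).map h ≫ b ∧ Points.ofPt a u = x ∧ h.left u = v := by
  obtain ⟨XV, ρ₁, ρ₂, sqX⟩ : ∃ (XV : Sp S) (ρ₁ : XV ⟶ X) (ρ₂ : XV ⟶ (yon S).obj V),
      IsPullback ρ₁ ρ₂ f b := ⟨_, _, _, IsPullback.of_hasPullback _ _⟩
  have hXV : IsAlgSpace XV :=
    isAlgSpace_of_isPullback hY.diag hX (IsAlgSpace.yon_obj V) f b ρ₁ ρ₂ sqX
  have hρ₁e : RepWith @Etale ρ₁ := repWith_of_isPullback @Etale sqX.flip hb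
  obtain ⟨U, a₀, ha₀e, ha₀s⟩ := hXV.atlas
  obtain ⟨h, hh⟩ := (yon S).map_surjective (a₀ ≫ ρ₂)
  have hae : RepWith @Etale (a₀ ≫ ρ₁) := repWith_comp @Etale ha₀e hρ₁e
  have hc : (a₀ ≫ ρ₁) ≫ f = (yon S).map h ≫ b := by
    rw [Category.assoc, sqX.w, ← Category.assoc, hh]
  have e : Points.map b (Points.ofPt (𝟙 ((yon S).obj V)) v) = Points.map f x := by
    rw [Points.map_ofPt, Category.id_comp, hv]
  obtain ⟨p, hp1, hp2⟩ := points_exists_of_isPullback f b ρ₂ ρ₁ sqX.flip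
    (Points.ofPt (𝟙 ((yon S).obj V)) v) x e
  obtain ⟨u, hu⟩ := surjective_ofPt a₀ ha₀s p
  have h1 : Points.map ρ₂ (Points.ofPt a₀ u) =
      Points.ofPt (𝟙 ((yon S).obj V)) (h.left u) := by
    rw [Points.map_ofPt, ← hh, ← ofPt_yon_map_comp, Category.comp_id]
  rw [hu, hp1] at h1
  have hvu : h.left u = v := ((Points.schemeHomeo V).injective h1).symm
  refine ⟨U, a₀ ≫ ρ₁, h, u, hae, hc, ?_, hvu⟩
  rw [← Points.map_ofPt, hu, hp2]

/-- S10579 core. -/
theorem S10579_main {X Y : Sp S} (hXa : IsAlgSpace X) (hYa : IsAlgSpace Y) (f : X ⟶ Y)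
    (x : Points X) (hf : IsFlatAtMor f x)
    (hX : ∀ (U : Over S) (a : (yon S).obj U ⟶ X) (v : ↥U.left), RepWith @Etale a →
      Points.ofPt a v = x → CAlg2.IsGeomUnibranch ↥(U.left.presheaf.stalk v))
    (V : Over S) (b : (yon S).obj V ⟶ Y) (w : ↥V.left) (hb : RepWith @Etale b)
    (hw : Points.ofPt b w = Points.map f x) :
    CAlg2.IsGeomUnibranch ↥(V.left.presheaf.stalk w) := by
  obtain ⟨U, a, h, u, ha, hc, hu, hvu⟩ := exists_chart_through hXa hYa f b hb w x hw
  subst hvu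
  have hfl : (h.left.stalkMap u).hom.Flat := hf a b h u ha hb hc hu
  exact Groth.Agent.Helper2.SHensMap.isGeomUnibranch_of_flat_local (h.left.stalkMap u).hom hfl
    (hX U a u ha hu)

end Groth.Agent.Helper2.ChartThrough
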