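import Mathlib
import Groth.Prelude.Def_AlgSpModX
import Groth.Prelude.Def_AlgSp4
import Groth.Agent.Lib.Helper2.AlgSp.Basic

/-!
# A closed immersion of sheaves is locally of finite presentation iff its ideal is of finite type
on every affine etale chart.
-/

set_option autoImplicit false
set_option backward.isDefEq.respectTransparency false
set_option synthInstance.maxHeartbeats 400000
set_option maxHeartbeats 4000000
set_option linter.style.haveILetI false
set_option linter.unusedSectionVars false
set_option linter.unusedVariables false
set_option linter.unusedSimpArgs false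
set_option linter.unnecessarySimpa false

namespace Groth.Agent.Helper2.ClosedLfp

open CategoryTheory CategoryTheory.Limits AlgebraicGeometry Opposite AlgSp AlgSp.EtOver

universe u

/-- A closed immersion into an affine scheme is locally of finite presentation iff its kernel on
global sections is finitely generated. -/
theorem lfp_iff_ker_fg {W V : Scheme.{u}} (j : W ⟶ V) [IsClosedImmersion j] [IsAffine V] :
    LocallyOfFinitePresentation j ↔ (RingHom.ker j.appTop.hom).FG := by
  obtain ⟨hW, hsurj⟩ := IsClosedImmersion.isAffine_surjective_of_isAffine j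
  haveI := hW
  rw [HasRingHomProperty.iff_of_isAffine (P := @LocallyOfFinitePresentation)]
  constructor
  · intro h
    letI := j.appTop.hom.toAlgebra
    haveI : Algebra.FinitePresentation Γ(V, ⊤) Γ(W, ⊤) := h
    have h2 := Algebra.FinitePresentation.ker_fG_of_surjective
      (Algebra.ofId Γ(V, ⊤) Γ(W, ⊤)) hsurj
    exact h2
  · intro h
    exact RingHom.FinitePresentation.of_surjective _ hsurj h

variable {S : Scheme.{u}} {Z X : Sp S} {i : Z ⟶ X}

theorem main (hi : RepWith @IsClosedImmersion i) :
    LocP @LocallyOfFinitePresentation i ↔
      ∀ (E : EtOver X) (hE : IsAffine E.obj.left.left), ((idealOfRep hi.1).ideal E hE).FG := by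
  constructor
  · intro hL E hE
    haveI := hE
    have hcl : IsClosedImmersion (bcπ hi.1 E).left :=
      hi.2 E.obj.hom (hi.1.fst E.obj.hom) (hi.1.snd E.obj.hom) (hi.1.isPullback E.obj.hom)
    haveI := hcl
    have hP : LocallyOfFinitePresentation (bcπ hi.1 E).left :=
      hL (hi.1.fst E.obj.hom) E.obj.hom (bcπ hi.1 E) (bcObj hi.1 E).property E.property
        (hi.1.isPullback E.obj.hom).w
    exact (lfp_iff_ker_fg (bcπ hi.1 E).left).1 hP
  · intro hI U V a b h ha hb comm
    let E' : EtOver X := EtOver.mk b hb
    let g : U ⟶ hi.1.pullback b := hi.1.lift a h comm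
    have hg1 : (yon S).map g ≫ hi.1.fst b = a := hi.1.lift_fst _ _ _
    have hg2 : g ≫ hi.1.snd b = h := hi.1.lift_snd _ _ _
    have hget : Etale g.left :=
      EtOver.etale_left (EtOver.homMk g hg1 : EtOver.mk a ha ⟶ bcObj hi.1 E')
    have hsnd : LocallyOfFinitePresentation (hi.1.snd b).left := by
      rw [IsZariskiLocalAtTarget.iff_of_openCover (P := @LocallyOfFinitePresentation)
        V.left.affineCover]
      intro k
      let Vk : Over S := Over.mk (V.left.affineCover.f k ≫ V.hom)
      let jk : Vk ⟶ V := Over.homMk (V.left.affineCover.f k) rfl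
      have hjk : RepWith @Etale ((yon S).map jk) :=
        (repWith_yon_map_iff @Etale jk).2 (inferInstance : Etale (V.left.affineCover.f k))
      let Ek : EtOver X := EtOver.mk ((yon S).map jk ≫ b) (AlgSpBasic.repWith_comp @Etale hjk hb)
      let gk : Ek ⟶ E' := EtOver.homMk jk rfl
      have hEk : IsAffine Ek.obj.left.left :=
        (inferInstance : IsAffine (V.left.affineCover.X k))
      have hker := hI Ek hEk
      have hcl : IsClosedImmersion (bcπ hi.1 Ek).left :=
        hi.2 Ek.obj.hom _ _ (hi.1.isPullback Ek.obj.hom)
      haveI := hcl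
      haveI := hEk
      have hPk : LocallyOfFinitePresentation (bcπ hi.1 Ek).left :=
        (lfp_iff_ker_fg (bcπ hi.1 Ek).left).2 hker
      have sq := isPullback_bcMap_left hi.1 gk
      have e : V.left.affineCover.pullbackHom (hi.1.snd b).left k =
          sq.isoPullback.inv ≫ (bcπ hi.1 Ek).left := by
        rw [Iso.eq_inv_comp]
        exact sq.isoPullback_hom_snd
      rw [e]
      exact (MorphismProperty.cancel_left_of_respectsIso @LocallyOfFinitePresentation _ _).2 hPk
    have hh : h.left = g.left ≫ (hi.1.snd b).left := by
      rw [← hg2]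
      rfl
    rw [hh]
    haveI := hget
    haveI := hsnd
    infer_instance

end Groth.Agent.Helper2.ClosedLfp
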