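import Mathlib
import Groth.Agent.Lib.Helper2.AlgSp.FieldPt
import Groth.Agent.Lib.Helper2.AlgSp.Mono

/-! Monomorphisms from algebraic spaces to spectra of fields. -/
namespace Groth.Agent.Helper2.AlgSpBasic
open CategoryTheory CategoryTheory.Limits AlgebraicGeometry Opposite AlgSp Topology
open Groth.Agent.Helper2.EtaleLocal
universe u
variable {S : Scheme.{u}}

/-- Pullback squares stay pullback squares after composing with a monomorphism. -/
theorem isPullback_comp_mono {C : Type*} [Category C] {P X Y W Z : C} {fst : P ⟶ X} {snd : P ⟶ Y}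
    {f : X ⟶ W} {g : Y ⟶ W} (sq : IsPullback fst snd f g) (i : W ⟶ Z) [Mono i] :
    IsPullback fst snd (f ≫ i) (g ≫ i) := by
  refine ⟨⟨by rw [← Category.assoc, sq.w, Category.assoc]⟩, ⟨?_⟩⟩
  exact PullbackCone.isLimitOfCompMono f g i _ sq.isLimit

set_option backward.isDefEq.respectTransparency.types false in
/-- A nonempty algebraic space with a monomorphism to the spectrum of a field is étale over it. -/
theorem locP_etale_of_mono_to_field {Z : Sp S} (hZ : IsAlgSpace Z) [Nonempty (Points Z)]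
    {k : Type u} [Field k] (str : Spec (CommRingCat.of k) ⟶ S)
    (f : Z ⟶ (yon S).obj (Over.mk str)) [Mono f] : LocP @Etale f := by
  obtain ⟨U₀, a₀, ha₀e, ha₀s⟩ := hZ.atlas
  obtain ⟨z⟩ := (inferInstance : Nonempty (Points Z))
  obtain ⟨u₀, -⟩ := surjective_ofPt a₀ ha₀s z
  obtain ⟨_, ⟨V₀, hV₀ : IsAffineOpen V₀, rfl⟩, hu₀V, -⟩ :=
    U₀.left.isBasis_affineOpens.exists_subset_of_mem_open (Set.mem_univ u₀) isOpen_univ
  obtain ⟨V, hV, hu₀V⟩ : ∃ V : U₀.left.Opens, IsAffineOpen V ∧ u₀ ∈ V := ⟨V₀, hV₀, hu₀V⟩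
  let Vo : Over S := Over.mk (V.ι ≫ U₀.hom)
  let iV : Vo ⟶ U₀ := Over.homMk V.ι rfl
  have haV : RepWith @Etale ((yon S).map iV ≫ a₀) :=
    repWith_comp @Etale ((repWith_yon_map_iff @Etale iV).2 (inferInstance : Etale V.ι)) ha₀e
  obtain ⟨v, hv⟩ := (yon S).map_surjective (((yon S).map iV ≫ a₀) ≫ f)
  haveI : IsAffine Vo.left := hV
  haveI : Nonempty ↥Vo.left := ⟨⟨u₀, hu₀V⟩⟩
  have hvQ : (@Surjective ⊓ @Flat ⊓ @QuasiCompact : MorphismProperty Scheme.{u}) v.left := by
    refine ⟨⟨⟨fun y => ?_⟩, ?_⟩, ?_⟩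
    · obtain ⟨x⟩ := (inferInstance : Nonempty ↥Vo.left)
      haveI : Subsingleton ↥(Over.mk str).left :=
        (inferInstance : Subsingleton ↥(Spec (CommRingCat.of k)))
      exact ⟨x, Subsingleton.elim _ _⟩
    · show Flat (X := Vo.left) (Y := Spec (CommRingCat.of k)) v.left
      infer_instance
    · show QuasiCompact (X := Vo.left) (Y := Spec (CommRingCat.of k)) v.left
      infer_instance
  intro U W a b h ha hb comm
  obtain ⟨b', rfl⟩ := (yon S).map_surjective b
  haveI hb' : Etale b'.left := (repWith_yon_map_iff @Etale b').1 hb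
  obtain ⟨g', hg'⟩ := (yon S).map_surjective (a ≫ f)
  have hrep := ha.rep
  have sq := hrep.isPullback ((yon S).map iV ≫ a₀)
  obtain ⟨t₁, ht₁⟩ := (yon S).map_surjective (hrep.fst ((yon S).map iV ≫ a₀))
  have hsnd : Etale (hrep.snd ((yon S).map iV ≫ a₀)).left := ha.property _ _ _ sq
  have sq' := isPullback_comp_mono sq f
  rw [← ht₁, ← hg', ← hv] at sq'
  have sq'' : IsPullback t₁ (hrep.snd ((yon S).map iV ≫ a₀)) g' v :=
    IsPullback.of_map (yon S) ((yon S).map_injective (by
      rw [Functor.map_comp, Functor.map_comp]; exact sq'.w)) sq'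
  have sq3 := (sq''.map (Over.forget S)).flip
  have hg'e : Etale g'.left :=
    MorphismProperty.DescendsAlong.of_isPullback (P := @Etale)
      (Q := (@Surjective ⊓ @Flat ⊓ @QuasiCompact : MorphismProperty Scheme.{u})) sq3 hvQ hsnd
  have heq : g' = h ≫ b' := (yon S).map_injective (by rw [hg', comm, Functor.map_comp])
  have : Etale (h.left ≫ b'.left) := by rw [← Over.comp_left, ← heq]; exact hg'e
  exact IsEtaleLocalST.of_postcomp_etale (P := @Etale) h.left b'.left this

/-- `S9929`: a monomorphism to the spectrum of a field is empty or an isomorphism. -/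
theorem isEmpty_or_isIso_of_mono_to_field {Z : Sp S} (hZ : IsAlgSpace Z)
    {k : Type u} [Field k] (str : Spec (CommRingCat.of k) ⟶ S)
    (f : Z ⟶ (yon S).obj (Over.mk str)) [Mono f] : IsEmpty (Points Z) ∨ IsIso f := by
  rcases isEmpty_or_nonempty (Points Z) with h | h
  · exact Or.inl h
  · right
    refine isIso_of_mono_of_locP_etale_surjective hZ (IsAlgSpace.yon_obj _) f
      (locP_etale_of_mono_to_field hZ str f) ?_
    intro y
    obtain ⟨z⟩ := h
    exact ⟨z, Subsingleton.elim _ _⟩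

/-- `S10369`: a monomorphism into a space with an fppf surjective field point is empty or an
isomorphism. -/
theorem isEmpty_or_isIso_of_mono_of_fieldPt {Z' Z : Sp S} (hZ' : IsAlgSpace Z') (hZ : IsAlgSpace Z)
    (f : Z' ⟶ Z) [Mono f] {k : Type u} [Field k] (str : Spec (CommRingCat.of k) ⟶ S)
    (p : (yon S).obj (Over.mk str) ⟶ Z) (hp1 : LocP @LocallyOfFinitePresentation p)
    (hp2 : LocP @Flat p) (hp3 : IsSurjectiveMor p) : IsEmpty (Points Z') ∨ IsIso f := by
  have sq := IsPullback.of_hasPullback f p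
  have hk := IsAlgSpace.yon_obj (S := S) (Over.mk str)
  have hW : IsAlgSpace (pullback f p) := isAlgSpace_of_isPullback hZ.diag hZ' hk f p _ _ sq
  rcases isEmpty_or_isIso_of_mono_to_field hW str (pullback.snd f p) with h | h
  · left
    refine ⟨fun z' => ?_⟩
    obtain ⟨x, hx⟩ := hp3 (Points.map f z')
    obtain ⟨w, -, -⟩ := points_exists_of_isPullback p f (pullback.fst f p) (pullback.snd f p)
      sq z' x hx.symm
    exact h.false w
  · right
    haveI := isLocallySurjective_of_locP_fppf_surjective hk hZ p hp2 hp1 hp3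
    have hfac : (inv (pullback.snd f p) ≫ pullback.fst f p) ≫ f = p := by
      rw [Category.assoc, sq.w, IsIso.inv_hom_id_assoc]
    haveI : Sheaf.IsLocallySurjective f :=
      Presheaf.isLocallySurjective_of_isLocallySurjective_fac (J S)
        (f₁ := (inv (pullback.snd f p) ≫ pullback.fst f p).hom) (f₂ := f.hom) (f₃ := p.hom)
        (congrArg (fun φ => φ.hom) hfac)
    haveI : Epi f := inferInstance
    exact isIso_of_mono_of_epi f

/-- `S10371`: uniqueness of one-point monomorphisms with fppf field points. -/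
theorem exists_iso_of_mono_of_fieldPt {X Z Z' : Sp S} (hX : IsAlgSpace X) (hZ : IsAlgSpace Z)
    (hZ' : IsAlgSpace Z') (x : Points X) (i : Z ⟶ X) (i' : Z' ⟶ X) [Mono i] [Mono i']
    (hi : Set.range (Points.map i) = {x}) (hi' : Set.range (Points.map i') = {x})
    (hfp : ∃ (k : Type u) (_ : Field k) (str : Spec (CommRingCat.of k) ⟶ S)
      (p : (yon S).obj (Over.mk str) ⟶ Z),
      LocP @LocallyOfFinitePresentation p ∧ LocP @Flat p ∧ IsSurjectiveMor p)
    (hfp' : ∃ (k : Type u) (_ : Field k) (str : Spec (CommRingCat.of k) ⟶ S)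
      (p : (yon S).obj (Over.mk str) ⟶ Z'),
      LocP @LocallyOfFinitePresentation p ∧ LocP @Flat p ∧ IsSurjectiveMor p) :
    ∃ e : Z' ≅ Z, e.hom ≫ i = i' := by
  have sq := IsPullback.of_hasPullback i i'
  have hW : IsAlgSpace (pullback i i') := isAlgSpace_of_isPullback hX.diag hZ hZ' i i' _ _ sq
  obtain ⟨z, hz⟩ : ∃ z, Points.map i z = x := by
    have : x ∈ Set.range (Points.map i) := by rw [hi]; rfl
    exact this
  obtain ⟨z', hz'⟩ : ∃ z', Points.map i' z' = x := by
    have : x ∈ Set.range (Points.map i') := by rw [hi']; rfl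
    exact this
  obtain ⟨w, -, -⟩ := points_exists_of_isPullback i' i (pullback.fst i i') (pullback.snd i i')
    sq z z' (hz.trans hz'.symm)
  obtain ⟨k, _, str, p, hp1, hp2, hp3⟩ := hfp
  obtain ⟨k', _, str', p', hp1', hp2', hp3'⟩ := hfp'
  haveI h1 : IsIso (pullback.fst i i') := by
    rcases isEmpty_or_isIso_of_mono_of_fieldPt hW hZ (pullback.fst i i') str p hp1 hp2 hp3
      with h | h
    · exact (h.false w).elim
    · exact h
  haveI h2 : IsIso (pullback.snd i i') := by
    rcases isEmpty_or_isIso_of_mono_of_fieldPt hW hZ' (pullback.snd i i') str' p' hp1' hp2' hp3'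
      with h | h
    · exact (h.false w).elim
    · exact h
  refine ⟨(asIso (pullback.snd i i')).symm ≪≫ asIso (pullback.fst i i'), ?_⟩
  simp only [Iso.trans_hom, Iso.symm_hom, asIso_inv, asIso_hom, Category.assoc]
  rw [sq.w, IsIso.inv_hom_id_assoc]

end Groth.Agent.Helper2.AlgSpBasic
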