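import Mathlib
import Groth.Prelude.Def_AlgSp4
import Groth.Prelude.Def_AlgSpDec
import Groth.Agent.Lib.Helper2.AlgSp.FibreSpec
import Groth.Agent.Lib.Helper2.AlgSp.ImmDescent
import Groth.Agent.Lib.Helper2.Sch.ClosedPointImm

/-!
# Closed points of decent spaces are closed immersions (helper2)
-/

set_option autoImplicit false
set_option backward.isDefEq.respectTransparency false

open CategoryTheory CategoryTheory.Limits AlgebraicGeometry Opposite AlgSp

namespace Groth.Agent.Helper2.ClosedPt
universe u
variable {S : Scheme.{u}}

/-- A quasi-compact monomorphic field-valued point whose class is a closed point is a closed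
immersion. -/
theorem repWith_isClosedImmersion_of_isClosed {X : Sp S} (hX : IsAlgSpace X) (p : FieldPt X)
    (hm : Mono p.toHom) (hq : RepWith @QuasiCompact p.toHom)
    (hx : IsClosed ({Points.mk p} : Set (Points X))) :
    RepWith @IsClosedImmersion p.toHom := by
  obtain ⟨U, a, hae, has⟩ := hX.atlas
  obtain ⟨F, c, snd₀, sq⟩ := AlgSpBasic.exists_isPullback_yon hX.diag p.toHom a
  haveI : QuasiCompact snd₀.left := hq.property a ((yon S).map c) snd₀ sq
  haveI : Etale c.left := hae.property p.toHom ((yon S).map snd₀) c sq.flip
  have hFL : EtaleField.IsFieldLike F.left :=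
    EtaleField.isFieldLike_of_etale (K := p.K) c.left
  haveI := hm
  haveI : Mono ((yon S).map snd₀) := sq.mono_snd_of_mono
  haveI : Mono snd₀ := (yon S).mono_of_mono_map inferInstance
  haveI : Mono snd₀.left := inferInstance
  have hfin : ∀ (V : Over S) (b : (yon S).obj V ⟶ X), IsAffine V.left → RepWith @Etale b →
      (Points.ofPt b ⁻¹' {Points.mk p}).Finite := by
    intro V b hV hb
    haveI := hV
    haveI : CompactSpace ↥V.left := inferInstance
    exact (FieldFibre.finite_fibre_of_quasiCompact hX p hm hq b hb).1
  have hZ : IsClosed (Points.ofPt a ⁻¹' {Points.mk p}) := hx.preimage (Points.continuous_ofPt a)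
  have hcl : ∀ w : ↥F.left, IsClosed ({snd₀.left w} : Set ↥U.left) := by
    intro w
    have h1 : Points.ofPt a (snd₀.left w) = Points.mk p :=
      FieldFibre.ofPt_snd_of_isPullback p a c snd₀ sq w
    rw [← closure_eq_iff_isClosed]
    refine subset_antisymm ?_ subset_closure
    intro u' hu'
    have hs : snd₀.left w ⤳ u' := specializes_iff_mem_closure.2 hu'
    have h2 : Points.ofPt a u' = Points.mk p :=
      hZ.closure_subset_iff.2 (Set.singleton_subset_iff.2 h1) hu'
    exact FibreSpec.eq_of_specializes hX (Points.mk p) hfin a hae u' (snd₀.left w) h2 h1 hs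
  have hci : IsClosedImmersion snd₀.left :=
    EtaleField.isClosedImmersion_of_mono_fieldLike hFL snd₀.left hcl
  exact ImmDescent.repWith_isClosedImmersion_of_etale_cover p.toHom U a hae has
    ((yon S).map c) ((yon S).map snd₀) sq ((repWith_yon_map_iff _ snd₀).2 hci)

end Groth.Agent.Helper2.ClosedPt

namespace Groth.Agent.Helper2.ClosedPt
universe u
variable {S : Scheme.{u}}

/-- Over a closed point of a decent space every point of an etale chart is closed. -/
theorem isClosed_singleton_chart_of_isClosed {X : Sp S} (hX : IsAlgSpace X) (hd : IsDecent X)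
    (x : Points X) (hx : IsClosed ({x} : Set (Points X))) {U : Over S}
    (a : (yon S).obj U ⟶ X) (hae : RepWith @Etale a) (u : ↥U.left) (hu : Points.ofPt a u = x) :
    IsClosed ({u} : Set ↥U.left) := by
  obtain ⟨p, hp, hm, hq⟩ := hd x
  have hfin : ∀ (V : Over S) (b : (yon S).obj V ⟶ X), IsAffine V.left → RepWith @Etale b →
      (Points.ofPt b ⁻¹' {x}).Finite := by
    intro V b hV hb
    haveI := hV
    haveI : CompactSpace ↥V.left := inferInstance
    rw [← hp]
    exact (FieldFibre.finite_fibre_of_quasiCompact hX p hm hq b hb).1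
  have hZ : IsClosed (Points.ofPt a ⁻¹' {x}) := hx.preimage (Points.continuous_ofPt a)
  rw [← closure_eq_iff_isClosed]
  refine subset_antisymm ?_ subset_closure
  intro u' hu'
  have hs : u ⤳ u' := specializes_iff_mem_closure.2 hu'
  have h2 : Points.ofPt a u' = x :=
    hZ.closure_subset_iff.2 (Set.singleton_subset_iff.2 hu) hu'
  exact FibreSpec.eq_of_specializes hX x hfin a hae u' u h2 hu hs

end Groth.Agent.Helper2.ClosedPt
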