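import Mathlib
import Groth.Prelude.Def_AlgSp4
import Groth.Prelude.Def_AlgSpDec
import Groth.Agent.Lib.Helper2.AlgSp.FibreSpec
import Groth.Agent.Lib.Helper2.AlgSp.FieldQuot
import Groth.Agent.Lib.Helper2.Sch.ClosedPointAlg

/-!
# Points of decent spaces with residue field algebraic over a closed point are closed (helper2)
-/

set_option autoImplicit false
set_option backward.isDefEq.respectTransparency false

open CategoryTheory CategoryTheory.Limits AlgebraicGeometry Opposite AlgSp

namespace Groth.Agent.Helper2.ClosedPtAlg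
universe u
variable {S : Scheme.{u}}

/-- `S10357`. -/
theorem isClosed_singleton_of_integral {X : Sp S} (hX : IsAlgSpace X) (hd : IsDecent X) (s : ↥S)
    (hs : IsClosed ({s} : Set ↥S)) (k : Type u) [Field k]
    (φ : S.residueField s ⟶ CommRingCat.of k) (hφ : φ.hom.IsIntegral)
    (p : (yon S).obj (Over.mk (Spec.map φ ≫ S.fromSpecResidueField s)) ⟶ X)
    (t : ↥(Spec (CommRingCat.of k))) :
    IsClosed ({Points.ofPt p t} : Set (Points X)) := by
  rw [← closure_eq_iff_isClosed]
  refine subset_antisymm ?_ subset_closure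
  intro x' hx'
  have hsp : Points.ofPt p t ⤳ x' := specializes_iff_mem_closure.2 hx'
  obtain ⟨U, a, hae, has⟩ := hX.atlas
  obtain ⟨u', hu'⟩ := AlgSpBasic.surjective_ofPt a has x'
  obtain ⟨u, hu1, hu2⟩ := FibreSpec.exists_specializes_of_qc_mono hX x' (Points.ofPt p t) hsp
    (hd _) a hae u' hu'
  obtain ⟨W, fst, snd, sq⟩ := AlgSpBasic.exists_isPullback_yon hX.diag p a
  obtain ⟨w, -, hw2⟩ := AlgSpBasic.exists_point_of_isPullback_yon p a fst snd sq t u hu2.symm
  haveI : Etale fst.left := hae.property p ((yon S).map snd) fst sq.flip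
  have hFL : EtaleField.IsFieldLike W.left :=
    EtaleField.isFieldLike_of_etale (K := k) fst.left
  haveI : IsOpenImmersion (W.left.fromSpecResidueField w) :=
    FieldFibre.isOpenImmersion_fromSpecResidueField hFL w
  let j : Spec (W.left.residueField w) ⟶ Spec (CommRingCat.of k) :=
    W.left.fromSpecResidueField w ≫ fst.left
  haveI : Etale j := inferInstance
  haveI : IsFinite j := FieldQuot.isFinite_of_etale_field (K := k) j
  haveI : IsIntegralHom (Spec.map φ) := IsIntegralHom.SpecMap_iff.2 hφ
  haveI : IsClosedImmersion (S.fromSpecResidueField s) :=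
    isClosed_singleton_iff_isClosedImmersion.1 hs
  let g : Spec (W.left.residueField w) ⟶ U.left := W.left.fromSpecResidueField w ≫ snd.left
  have hgf : g ≫ U.hom = j ≫ Spec.map φ ≫ S.fromSpecResidueField s := by
    have h1 : snd.left ≫ U.hom = W.hom := Over.w snd
    have h2 : fst.left ≫ (Spec.map φ ≫ S.fromSpecResidueField s) = W.hom := Over.w fst
    simp only [g, j, Category.assoc]
    rw [h1, h2]
  haveI : UniversallyClosed (g ≫ U.hom) := by
    rw [hgf]; infer_instance
  have hrange : Set.range g = {u} := by
    ext y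
    constructor
    · rintro ⟨z, rfl⟩
      change (W.left.fromSpecResidueField w ≫ snd.left) z = u
      rw [Scheme.Hom.comp_apply, Scheme.fromSpecResidueField_apply, hw2]
    · intro hy
      refine ⟨IsLocalRing.closedPoint _, ?_⟩
      change (W.left.fromSpecResidueField w ≫ snd.left) _ = y
      rw [Scheme.Hom.comp_apply, Scheme.fromSpecResidueField_apply, hw2]
      exact hy.symm
  have hucl : IsClosed ({u} : Set ↥U.left) :=
    ClosedPointAlg.isClosed_singleton_of_universallyClosed_comp g U.hom u hrange
  have h3 : u' = u := hu1.mem_closed hucl rfl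
  rw [← hu', h3, hu2]
  rfl

end Groth.Agent.Helper2.ClosedPtAlg
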