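import Mathlib
import Groth.Prelude.Def_AlgSp4
import Groth.Prelude.Def_AlgSpDec
import Groth.Agent.Lib.Helper2.AlgSp.ClosedPt
import Groth.Agent.Lib.Helper2.AlgSp.ClosedPtAlg
import Groth.Agent.Lib.Helper2.AlgSp.QcMonoPoint

/-!
# Field points finite over a closed point of the base are finite morphisms (helper2)
-/

set_option autoImplicit false
set_option backward.isDefEq.respectTransparency false

open CategoryTheory CategoryTheory.Limits AlgebraicGeometry Opposite AlgSp

namespace Groth.Agent.Helper2.ClosedPtFinite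
universe u
variable {S : Scheme.{u}}

/-- `S10358`. -/
theorem repWith_isFinite_of_finite {X : Sp S} (hX : IsAlgSpace X) (hd : IsDecent X) (s : ↥S)
    (hs : IsClosed ({s} : Set ↥S)) (k : Type u) [Field k]
    (φ : S.residueField s ⟶ CommRingCat.of k) (hφ : φ.hom.Finite)
    (p : (yon S).obj (Over.mk (Spec.map φ ≫ S.fromSpecResidueField s)) ⟶ X) :
    RepWith @IsFinite p ∧ (Function.Bijective φ.hom → RepWith @IsClosedImmersion p) := by
  let t : ↥(Spec (CommRingCat.of k)) := IsLocalRing.closedPoint k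
  have hcl : IsClosed ({Points.ofPt p t} : Set (Points X)) :=
    ClosedPtAlg.isClosed_singleton_of_integral hX hd s hs k φ hφ.to_isIntegral p t
  obtain ⟨p₀, hp₀, hm, hq⟩ := hd (Points.ofPt p t)
  have hci : RepWith @IsClosedImmersion p₀.toHom :=
    ClosedPt.repWith_isClosedImmersion_of_isClosed hX p₀ hm hq (by rw [hp₀]; exact hcl)
  obtain ⟨g, hg⟩ : ∃ g : Over.mk (Spec.map φ ≫ S.fromSpecResidueField s) ⟶ p₀.pt,
      (yon S).map g ≫ p₀.toHom = p := by
    obtain ⟨g', hg'⟩ := QcMonoPoint.exists_factor_of_mono hX p₀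
      (AlgSpBasic.fieldPtOfHom (Spec.map φ ≫ S.fromSpecResidueField s) p) hm
      (by rw [FieldQuot.mk_fieldPtOfHom _ p t, hp₀])
    rw [FieldQuot.toHom_fieldPtOfHom] at hg'
    obtain ⟨g, rfl⟩ := (yon S).map_surjective g'
    exact ⟨g, hg'⟩
  haveI : IsClosedImmersion (S.fromSpecResidueField s) :=
    isClosed_singleton_iff_isClosedImmersion.1 hs
  have hgw : g.left ≫ p₀.pt.hom = Spec.map φ ≫ S.fromSpecResidueField s := Over.w g
  haveI : IsAffine p₀.pt.left := inferInstanceAs (IsAffine (Spec (CommRingCat.of p₀.K)))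
  haveI : IsSeparated p₀.pt.hom := inferInstance
  constructor
  · haveI : IsFinite (Spec.map φ) := (IsFinite.SpecMap_iff φ).2 hφ
    haveI : IsFinite (g.left ≫ p₀.pt.hom) := by rw [hgw]; infer_instance
    haveI : IsFinite g.left := IsFinite.of_comp g.left p₀.pt.hom
    rw [← hg]
    refine AlgSpBasic.repWith_comp @IsFinite ((repWith_yon_map_iff _ g).2 ‹IsFinite g.left›) ?_
    exact AlgSpBasic.repWith_mono (fun _ _ f (hf : IsClosedImmersion f) =>
      (inferInstance : IsFinite f)) hci
  · intro hb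
    haveI : IsIso φ := (ConcreteCategory.isIso_iff_bijective φ).2 hb
    haveI : IsClosedImmersion (g.left ≫ p₀.pt.hom) := by rw [hgw]; infer_instance
    haveI : IsClosedImmersion g.left := IsClosedImmersion.of_comp g.left p₀.pt.hom
    rw [← hg]
    exact AlgSpBasic.repWith_comp @IsClosedImmersion
      ((repWith_yon_map_iff _ g).2 ‹IsClosedImmersion g.left›) hci

end Groth.Agent.Helper2.ClosedPtFinite
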