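import Mathlib

/-!
# Every nonempty open of a scheme contains a point whose local ring has dimension zero (helper2)
-/

set_option autoImplicit false
open AlgebraicGeometry CategoryTheory
universe u

namespace Groth.Agent.Helper2

theorem exists_codimZero_mem {U : Scheme.{u}} (O : U.Opens) (u : U) (hu : u ∈ O) :
    ∃ v ∈ O, ringKrullDim ↥(U.presheaf.stalk v) = 0 := by
  obtain ⟨V, hV, huV, hVO⟩ := exists_isAffineOpen_mem_and_subset (x := u) (U := O) hu
  let y₀ := hV.primeIdealOf ⟨u, huV⟩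
  obtain ⟨p, hp, -⟩ := Ideal.exists_minimalPrimes_le (I := ⊥) (J := y₀.asIdeal) bot_le
  have hpp : p.IsPrime := hp.1.1
  have hy : hV.fromSpec (⟨p, hpp⟩ : PrimeSpectrum Γ(U, V)) ∈ V := by
    have : hV.fromSpec (⟨p, hpp⟩ : PrimeSpectrum Γ(U, V)) ∈ Set.range hV.fromSpec := ⟨_, rfl⟩
    rw [hV.range_fromSpec] at this
    exact this
  refine ⟨hV.fromSpec (⟨p, hpp⟩ : PrimeSpectrum Γ(U, V)), hVO hy, ?_⟩
  have hloc := hV.isLocalization_stalk' ⟨p, hpp⟩ hy
  have := @IsLocalization.AtPrime.ringKrullDim_eq_height _ _ p hpp _ _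
    (TopCat.Presheaf.algebra_section_stalk U.presheaf ⟨_, hy⟩) hloc
  rw [this]
  have : p.height = 0 := Ideal.height_eq_zero_iff.mpr hp
  rw [this]
  rfl

end Groth.Agent.Helper2
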