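import Mathlib
import Groth.Prelude.Def_AlgSp4
import Groth.Agent.Lib.Helper2.Ring.DimZeroLocal
import Groth.Agent.Lib.Helper2.AlgSp.Basic
import Groth.Agent.Lib.Helper2.AlgSp.Points

/-!
# Flat morphisms of algebraic spaces map points of codimension zero to points of codimension zero
-/

set_option autoImplicit false
set_option backward.isDefEq.respectTransparency false

open CategoryTheory CategoryTheory.Limits AlgebraicGeometry Opposite AlgSp

namespace Groth.Agent.Helper2.CodimZeroFlat
universe u

/-- Flat morphisms of schemes: if the local ring at `w` has dimension zero so has the one at `f w`. -/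
theorem dim_zero_of_flat {W U : Scheme.{u}} (f : W ⟶ U) [Flat f] (w : ↥W)
    (h : ringKrullDim ↥(W.presheaf.stalk w) = 0) :
    ringKrullDim ↥(U.presheaf.stalk (f w)) = 0 := by
  have hflat : (f.stalkMap w).hom.Flat := Flat.stalkMap f w
  algebraize [(f.stalkMap w).hom]
  haveI : IsLocalHom (algebraMap ↥(U.presheaf.stalk (f w)) ↥(W.presheaf.stalk w)) :=
    inferInstanceAs <| IsLocalHom (f.stalkMap w).hom
  haveI : Ring.KrullDimLE 0 ↥(W.presheaf.stalk w) := ringKrullDimZero_iff_ringKrullDim_eq_zero.mpr h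
  haveI : Ring.KrullDimLE 0 ↥(U.presheaf.stalk (f w)) :=
    DimZeroLocal.krullDimLE_zero_of_flat_local (A := ↥(U.presheaf.stalk (f w)))
      (B := ↥(W.presheaf.stalk w))
  exact ringKrullDimZero_iff_ringKrullDim_eq_zero.mp inferInstance

/-- Etale morphisms of schemes: if the local ring at `f w` has dimension zero so has the one at
`w`. -/
theorem dim_zero_of_etale {W U : Scheme.{u}} (f : W ⟶ U) [Etale f] (w : ↥W)
    (h : ringKrullDim ↥(U.presheaf.stalk (f w)) = 0) :
    ringKrullDim ↥(W.presheaf.stalk w) = 0 := by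
  have hunr : (f.stalkMap w).hom.FormallyUnramified := FormallyUnramified.stalkMap f w
  have hft : (f.stalkMap w).hom.EssFiniteType := LocallyOfFiniteType.stalkMap f w
  algebraize [(f.stalkMap w).hom]
  haveI : IsLocalHom (algebraMap ↥(U.presheaf.stalk (f w)) ↥(W.presheaf.stalk w)) :=
    inferInstanceAs <| IsLocalHom (f.stalkMap w).hom
  haveI : Ring.KrullDimLE 0 ↥(U.presheaf.stalk (f w)) :=
    ringKrullDimZero_iff_ringKrullDim_eq_zero.mpr h
  haveI : Ring.KrullDimLE 0 ↥(W.presheaf.stalk w) :=
    DimZeroLocal.krullDimLE_zero_of_unramified_local (A := ↥(U.presheaf.stalk (f w)))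
      (B := ↥(W.presheaf.stalk w))
  exact ringKrullDimZero_iff_ringKrullDim_eq_zero.mp inferInstance

variable {S : Scheme.{u}}

theorem main {X Y : Sp S} (hY : IsAlgSpace Y) (f : X ⟶ Y) (hf : LocP @Flat f)
    (x : Points X) (hx : HasAt (fun U u => ringKrullDim ↥(U.presheaf.stalk u) = 0) X x) :
    HasAt (fun U u => ringKrullDim ↥(U.presheaf.stalk u) = 0) Y (Points.map f x) := by
  obtain ⟨U, a, u, ha, hu, hdim⟩ := hx
  obtain ⟨V, b, hbe, hbs⟩ := hY.atlas
  obtain ⟨v, hv⟩ := AlgSpBasic.surjective_ofPt b hbs (Points.map f x)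
  have hrep := hbe.rep
  let g := a ≫ f
  let pV := hrep.fst' g
  let pU := hrep.snd g
  have sq : IsPullback ((yon S).map pV) ((yon S).map pU) b g := hrep.isPullback' g
  have hpU : Etale pU.left := hbe.property_snd g
  have ha' : RepWith @Etale ((yon S).map pU ≫ a) :=
    AlgSpBasic.repWith_comp @Etale ((repWith_yon_map_iff @Etale pU).2 hpU) ha
  have hflat : Flat pV.left := by
    refine hf ((yon S).map pU ≫ a) b pV ha' hbe ?_
    rw [Category.assoc]
    exact sq.w.symm
  have he : Points.ofPt b v = Points.ofPt g u := by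
    rw [hv, ← hu]
    rfl
  obtain ⟨w, hw1, hw2⟩ := AlgSpBasic.exists_point_of_isPullback_yon b g pV pU sq v u he
  refine ⟨V, b, v, hbe, hv, ?_⟩
  have h1 : ringKrullDim ↥(hrep.pullback g |>.left.presheaf.stalk w) = 0 := by
    apply dim_zero_of_etale pU.left w
    rw [hw2]
    exact hdim
  have h2 := dim_zero_of_flat pV.left w h1
  rw [hw1] at h2
  exact h2

end Groth.Agent.Helper2.CodimZeroFlat
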