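import Mathlib
import Groth.Prelude.Def_AlgSp4
import Groth.Prelude.Def_AlgSpDec
import Groth.Agent.Lib.Helper2.AlgSp.FieldFibre3

/-!
# Finite fibres of etale charts: independence of the chart (helper2)
-/

set_option autoImplicit false
set_option backward.isDefEq.respectTransparency false

open CategoryTheory CategoryTheory.Limits AlgebraicGeometry Opposite AlgSp

namespace Groth.Agent.Helper2.FibreFinite
universe u
variable {S : Scheme.{u}}

/-- A locally quasi-finite morphism with quasi-compact source has finite fibres. -/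
theorem finite_preimage_singleton_of_compactSpace {W U : Scheme.{u}} (f : W ⟶ U)
    [LocallyQuasiFinite f] [CompactSpace ↥W] (y : ↥U) : (f ⁻¹' {y}).Finite := by
  haveI : QuasiCompact (U.fromSpecResidueField y) :=
    FieldQuot.quasiCompact_of_field (L := ↑(U.residueField y)) (U.fromSpecResidueField y)
  haveI : QuasiCompact (f.fiberι y) :=
    inferInstanceAs (QuasiCompact (pullback.fst f (U.fromSpecResidueField y)))
  haveI : CompactSpace ↥(f.fiber y) := QuasiCompact.compactSpace_of_compactSpace (f.fiberι y)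
  haveI : Finite ↥(f.fiber y) := finite_of_compact_of_discrete
  rw [← Scheme.Hom.range_fiberι]
  exact Set.finite_range _

/-- The part of a fibre of a locally quasi-finite morphism inside a quasi-compact open is
finite. -/
theorem finite_inter_preimage {W U : Scheme.{u}} (f : W ⟶ U) [LocallyQuasiFinite f]
    (W' : W.Opens) (hc : IsCompact (W' : Set ↥W)) (F : Set ↥U) (hF : F.Finite) :
    ((W' : Set ↥W) ∩ f ⁻¹' F).Finite := by
  haveI : CompactSpace ↥(W' : Scheme.{u}) := isCompact_iff_compactSpace.mp hc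
  have h1 : ∀ y ∈ F, ((W' : Set ↥W) ∩ f ⁻¹' {y}).Finite := by
    intro y _
    have h2 := finite_preimage_singleton_of_compactSpace (W'.ι ≫ f) y
    refine (h2.image W'.ι).subset ?_
    rintro w ⟨hw1, hw2⟩
    exact ⟨⟨w, hw1⟩, hw2, rfl⟩
  refine (hF.biUnion h1).subset ?_
  rintro w ⟨hw1, hw2⟩
  simp only [Set.mem_iUnion]
  exact ⟨f w, hw2, hw1, rfl⟩

/-- `S10363`: finiteness of the fibre over `x` of etale charts may be tested on a jointly
surjective family of etale charts. -/
theorem finite_fibre_of_family {X : Sp S} (hX : IsAlgSpace X) (x : Points X) {ι : Type u}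
    (U : ι → Over S) (φ : ∀ i, (yon S).obj (U i) ⟶ X) (hφ : ∀ i, RepWith @Etale (φ i))
    (hsurj : ∀ y : Points X, ∃ (i : ι) (v : ↥(U i).left), Points.ofPt (φ i) v = y)
    (hfin : ∀ i, (Points.ofPt (φ i) ⁻¹' {x}).Finite)
    {V : Over S} [CompactSpace ↥V.left] (ψ : (yon S).obj V ⟶ X) (hψ : RepWith @Etale ψ) :
    (Points.ofPt ψ ⁻¹' {x}).Finite := by
  choose W prV prU sq using fun i => AlgSpBasic.exists_isPullback_yon hX.diag ψ (φ i)
  have hprU : ∀ i, Etale (prU i).left := fun i =>
    hψ.property (φ i) ((yon S).map (prV i)) (prU i) (sq i)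
  have hprV : ∀ i, Etale (prV i).left := fun i =>
    (hφ i).property ψ ((yon S).map (prU i)) (prV i) (sq i).flip
  let O : (Σ i, (W i).left.affineOpens) → Set ↥V.left := fun k =>
    (prV k.1).left '' ((k.2 : (W k.1).left.Opens) : Set ↥(W k.1).left)
  have hO : ∀ k, IsOpen (O k) := fun k => by
    haveI := hprV k.1
    exact (prV k.1).left.isOpenMap _ (k.2 : (W k.1).left.Opens).isOpen
  have hcov : (Set.univ : Set ↥V.left) ⊆ ⋃ k, O k := by
    intro v _
    obtain ⟨i, u₀, hu₀⟩ := hsurj (Points.ofPt ψ v)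
    obtain ⟨w, hw1, -⟩ := AlgSpBasic.exists_point_of_isPullback_yon ψ (φ i) (prV i) (prU i)
      (sq i) v u₀ hu₀.symm
    obtain ⟨_, ⟨W', hW', rfl⟩, hwW', -⟩ := (W i).left.isBasis_affineOpens.exists_subset_of_mem_open
      (Set.mem_univ w) isOpen_univ
    simp only [Set.mem_iUnion]
    exact ⟨⟨i, ⟨W', hW'⟩⟩, w, hwW', hw1⟩
  obtain ⟨t, ht⟩ := isCompact_univ.elim_finite_subcover O hO hcov
  have hpiece : ∀ k : (Σ i, (W i).left.affineOpens),
      ((prV k.1).left '' (((k.2 : (W k.1).left.Opens) : Set ↥(W k.1).left) ∩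
        (prU k.1).left ⁻¹' (Points.ofPt (φ k.1) ⁻¹' {x}))).Finite := by
    intro k
    haveI : LocallyQuasiFinite (prU k.1).left := by
      haveI := hprU k.1
      exact QfAt.locallyQuasiFinite_of_etale _
    exact (finite_inter_preimage (prU k.1).left (k.2 : (W k.1).left.Opens) k.2.2.isCompact _
      (hfin k.1)).image _
  refine (t.finite_toSet.biUnion (fun k _ => hpiece k)).subset ?_
  intro v hv
  have hv' := ht (Set.mem_univ v)
  simp only [Set.mem_iUnion] at hv' ⊢
  obtain ⟨k, hk, w, hwk, hwv⟩ := hv'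
  refine ⟨k, hk, w, ⟨hwk, ?_⟩, hwv⟩
  change Points.ofPt (φ k.1) ((prU k.1).left w) = x
  rw [← AlgSpBasic.ofPt_yon_map_comp, ← (sq k.1).w, AlgSpBasic.ofPt_yon_map_comp, hwv]
  exact hv

end Groth.Agent.Helper2.FibreFinite
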