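import Mathlib
import Groth.Prelude.Def_AlgSp4
import Groth.Prelude.Def_AlgSpDec
import Groth.Prelude.Def_AlgSpCov
import Groth.Agent.Lib.Helper2.AlgSp.FieldFibre3
import Groth.Agent.Lib.Helper2.AlgSp.FibreFinite
import Groth.Agent.Lib.Helper2.AlgSp.OpenSub
import Groth.Agent.Lib.Helper2.AlgSp.Mor2

/-!
# Decent spaces: formal properties and Zariski locality (helper2)
-/

set_option autoImplicit false
set_option backward.isDefEq.respectTransparency false

open CategoryTheory CategoryTheory.Limits AlgebraicGeometry Opposite AlgSp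

namespace Groth.Agent.Helper2.DecentLocal
universe u
variable {S : Scheme.{u}}

/-- If a point is represented by a monomorphism and the fibre of an etale chart over it is finite,
so is the fibre of `R = U ×_X U`. -/
theorem finite_fibre_R_of_finite_fibre_U {X : Sp S} (hX : IsAlgSpace X) (p : FieldPt X)
    (hm : Mono p.toHom) {U : Over S} (φ : (yon S).obj U ⟶ X) (hφ : RepWith @Etale φ)
    (hU : (Points.ofPt φ ⁻¹' {Points.mk p}).Finite)
    (R : Over S) (s t : R ⟶ U) (hR : IsPullback ((yon S).map t) ((yon S).map s) φ φ) :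
    (Points.ofPt ((yon S).map t ≫ φ) ⁻¹' {Points.mk p}).Finite := by
  have hfin2 : (⋃ v ∈ (Points.ofPt φ ⁻¹' {Points.mk p}),
      ⋃ v' ∈ (Points.ofPt φ ⁻¹' {Points.mk p}),
        {r : ↥R.left | s.left r = v ∧ t.left r = v'}).Finite :=
    hU.biUnion (fun v hv => hU.biUnion (fun v' hv' =>
      FieldFibre.finite_fibre_of_mono_point hX p hm φ hφ v v' hv hv' s t hR))
  refine hfin2.subset ?_
  intro r hr
  have h1 : Points.ofPt φ (t.left r) = Points.mk p := by
    rw [← AlgSpBasic.ofPt_yon_map_comp]; exact hr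
  have h2 : Points.ofPt φ (s.left r) = Points.mk p := by
    rw [← AlgSpBasic.ofPt_yon_map_comp, ← hR.w]; exact hr
  simp only [Set.mem_iUnion]
  exact ⟨s.left r, h2, t.left r, h1, rfl, rfl⟩

/-- The source of a decent morphism with decent target is decent. -/
theorem isDecent_of_isDecentMor {X Y : Sp S} (f : X ⟶ Y) (hf : IsDecentMor f)
    (hY : IsDecent Y) : IsDecent X := by
  intro x
  obtain ⟨q, hq, hqm, hqq⟩ := hY (Points.map f x)
  haveI := hqm
  have sq := IsPullback.of_hasPullback f q.toHom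
  have hd : IsDecent (pullback f q.toHom) := hf q.toHom _ _ sq
  let c : ↥q.pt.left := (IsLocalRing.closedPoint q.K : ↥(Spec (CommRingCat.of q.K)))
  have e : Points.map q.toHom (Points.ofScheme q.pt c) = Points.map f x := by
    rw [← Points.ofPt_eq_map_ofScheme, Points.ofPt_toHom, hq]
  obtain ⟨x', -, hx'⟩ := AlgSpBasic.points_exists_of_isPullback f q.toHom
    (pullback.snd f q.toHom) (pullback.fst f q.toHom) sq.flip (Points.ofScheme q.pt c) x e
  obtain ⟨p', hp', hp'm, hp'q⟩ := hd x'
  refine ⟨p'.map (pullback.fst f q.toHom), ?_, ?_, ?_⟩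
  · rw [← Points.map_mk, hp', hx']
  · rw [FieldPt.toHom_map]
    haveI := hp'm
    haveI : Mono (pullback.fst f q.toHom) := sq.mono_fst_of_mono
    exact mono_comp _ _
  · rw [FieldPt.toHom_map]
    exact AlgSpBasic.repWith_comp @QuasiCompact hp'q
      (AlgSpBasic.repWith_of_isPullback @QuasiCompact sq.flip hqq)

/-- The base change of a decent morphism is decent. -/
theorem isDecentMor_of_isPullback {X Y X' Y' : Sp S} {f : X ⟶ Y} {g : Y' ⟶ Y} {fst : X' ⟶ X}
    {f' : X' ⟶ Y'} (sq : IsPullback fst f' f g) (hf : IsDecentMor f) : IsDecentMor f' := by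
  intro T F' h a b sqT
  exact hf (h ≫ g) (a ≫ fst) b (sqT.paste_horiz sq)

/-- Decency is Zariski local. -/
theorem isDecent_of_zarCover {X : Sp S} (hX : IsAlgSpace X) {ι : Type u} (Xi : ι → Sp S)
    (hXi : ∀ i, IsAlgSpace (Xi i)) (j : ∀ i, Xi i ⟶ X)
    (hj : ∀ i, RepWith @IsOpenImmersion (j i))
    (hcov : ∀ x : Points X, ∃ i, x ∈ Set.range (Points.map (j i)))
    (hd : ∀ i, IsDecent (Xi i)) :
    ∀ x : Points X, ∃ p : FieldPt X, Points.mk p = x ∧ Mono p.toHom ∧
      ∀ (U : Over S) (φ : (yon S).obj U ⟶ X), IsAffine U.left → RepWith @Etale φ →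
        (Points.ofPt φ ⁻¹' {x}).Finite := by
  intro x
  haveI : ∀ i, Mono (j i) := fun i =>
    AlgSpBasic.mono_of_repWith_monomorphisms (j i)
      (AlgSpBasic.repWith_mono (fun _ _ g (hg : IsOpenImmersion g) => (inferInstance : Mono g))
        (hj i))
  obtain ⟨i₀, x₀, hx₀⟩ := hcov x
  obtain ⟨p₀, hp₀, hp₀m, -⟩ := hd i₀ x₀
  refine ⟨p₀.map (j i₀), ?_, ?_, ?_⟩
  · rw [← Points.map_mk, hp₀, hx₀]
  · rw [FieldPt.toHom_map]
    haveI := hp₀m
    exact mono_comp _ _
  -- the family of charts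
  choose A a hae has using fun i => (hXi i).atlas
  intro U φ hU hφ
  haveI := hU
  let ι' := Σ i : ι, (A i).left.affineOpens
  let UU : ι' → Over S := fun k => FieldFibre.opensOver (A k.1) (k.2 : (A k.1).left.Opens)
  let ψ₀ : ∀ k : ι', (yon S).obj (UU k) ⟶ Xi k.1 := fun k =>
    (yon S).map (FieldFibre.opensι (A k.1) (k.2 : (A k.1).left.Opens)) ≫ a k.1
  have hψ₀ : ∀ k, RepWith @Etale (ψ₀ k) := fun k =>
    FieldFibre.repWith_etale_opensι_comp (a k.1) (hae k.1) _
  refine FibreFinite.finite_fibre_of_family hX x UU (fun k => ψ₀ k ≫ j k.1)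
    (fun k => AlgSpBasic.repWith_comp @Etale (hψ₀ k)
      (AlgSpBasic.repWith_isOpenImmersion_le_etale (hj k.1))) ?_ ?_ φ hφ
  · intro y
    obtain ⟨i, yi, hyi⟩ := hcov y
    obtain ⟨v, hv⟩ := AlgSpBasic.surjective_ofPt (a i) (has i) yi
    obtain ⟨_, ⟨V, hV, rfl⟩, hvV, -⟩ := (A i).left.isBasis_affineOpens.exists_subset_of_mem_open
      (Set.mem_univ v) isOpen_univ
    refine ⟨⟨i, ⟨V, hV⟩⟩, ⟨v, hvV⟩, ?_⟩
    rw [← Points.map_ofPt, AlgSpBasic.ofPt_yon_map_comp, ← hyi, ← hv]
    rfl
  · intro k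
    by_cases hk : ∃ xk : Points (Xi k.1), Points.map (j k.1) xk = x
    · obtain ⟨xk, hxk⟩ := hk
      obtain ⟨pk, hpk, hpkm, hpkq⟩ := hd k.1 xk
      haveI : IsAffine (UU k).left := k.2.2
      haveI : CompactSpace ↥(UU k).left := inferInstance
      have h1 := (FieldFibre.finite_fibre_of_quasiCompact (hXi k.1) pk hpkm hpkq (ψ₀ k)
        (hψ₀ k)).1
      refine h1.subset ?_
      intro v hv
      change Points.ofPt (ψ₀ k) v = Points.mk pk
      have h2 : Points.map (j k.1) (Points.ofPt (ψ₀ k) v) = x := hv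
      rw [hpk]
      exact AlgSpBasic.injective_points_map_of_mono (j k.1) (h2.trans hxk.symm)
    · have : (Points.ofPt (ψ₀ k ≫ j k.1) ⁻¹' {x}) = ∅ := by
        ext v
        simp only [Set.mem_preimage, Set.mem_singleton_iff, Set.mem_empty_iff_false, iff_false]
        intro hv
        exact hk ⟨Points.ofPt (ψ₀ k) v, hv⟩
      rw [this]
      exact Set.finite_empty

/-- Schemes are decent. -/
theorem isDecent_yon (T : Over S) : IsDecent ((yon S).obj T) := by
  intro x
  have hx : Points.ofScheme T (Points.toScheme T x) = x := Points.ofScheme_toScheme T x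
  set ξ := Points.toScheme T x with hξ
  refine ⟨FieldPt.ofPt (𝟙 _) ξ, hx, ?_, ?_⟩
  · rw [FieldPt.toHom_ofPt, Category.comp_id]
    haveI : Mono (Over.homMk (T.left.fromSpecResidueField ξ) rfl :
        Over.mk (T.left.fromSpecResidueField ξ ≫ T.hom) ⟶ T) := by
      apply (Over.forget S).mono_of_mono_map
      change Mono (T.left.fromSpecResidueField ξ)
      infer_instance
    exact Functor.map_mono (yon S) _
  · rw [FieldPt.toHom_ofPt, Category.comp_id]
    refine (repWith_yon_map_iff @QuasiCompact _).2 ?_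
    change QuasiCompact (T.left.fromSpecResidueField ξ)
    exact FieldQuot.quasiCompact_of_field (L := ↑(T.left.residueField ξ)) _

/-- For an etale morphism to a decent space, the fibres of affine etale charts of the source
over any point are finite. -/
theorem finite_fibres_of_isEtaleMor {X Y : Sp S} (hY : IsAlgSpace Y) (f : X ⟶ Y)
    (hf : IsEtaleMor f) (hd : IsDecent Y) (x : Points X) (U : Over S) [CompactSpace ↥U.left]
    (φ : (yon S).obj U ⟶ X) (hφ : RepWith @Etale φ) (R : Over S) (s t : R ⟶ U)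
    (hR : IsPullback ((yon S).map t) ((yon S).map s) φ φ) :
    (Points.ofPt φ ⁻¹' {x}).Finite ∧ (Points.ofPt ((yon S).map t ≫ φ) ⁻¹' {x}).Finite := by
  obtain ⟨q, hq, hqm, hqq⟩ := hd (Points.map f x)
  have hφ' : RepWith @Etale (φ ≫ f) := hf φ hφ
  obtain ⟨h1, h2⟩ := FieldFibre.finite_fibre_of_quasiCompact hY q hqm hqq (φ ≫ f) hφ'
  refine ⟨h1.subset ?_, ?_⟩
  · intro u hu
    change Points.ofPt (φ ≫ f) u = Points.mk q
    rw [← Points.map_ofPt, hq]
    exact congrArg (Points.map f) hu
  · obtain ⟨R', t', s', hR'⟩ := AlgSpBasic.exists_isPullback_yon hY.diag (φ ≫ f) (φ ≫ f)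
    have hw : (yon S).map t ≫ φ ≫ f = (yon S).map s ≫ φ ≫ f := by
      rw [← Category.assoc, hR.w, Category.assoc]
    obtain ⟨ρ, hρ⟩ := (yon S).map_surjective (hR'.lift _ _ hw)
    have hρt : ρ ≫ t' = t := (yon S).map_injective (by
      rw [Functor.map_comp, hρ, hR'.lift_fst])
    have hρs : ρ ≫ s' = s := (yon S).map_injective (by
      rw [Functor.map_comp, hρ, hR'.lift_snd])
    haveI : Mono ρ := by
      refine ⟨fun {T} a b hab => ?_⟩
      apply (yon S).map_injective
      apply hR.hom_ext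
      · rw [← Functor.map_comp, ← Functor.map_comp, ← hρt, ← Category.assoc, hab,
          Category.assoc]
      · rw [← Functor.map_comp, ← Functor.map_comp, ← hρs, ← Category.assoc, hab,
          Category.assoc]
    haveI : Mono ρ.left := inferInstance
    have hinj : Function.Injective ρ.left := ρ.left.injective
    have h3 := h2 R' s' t' hR'
    refine (h3.preimage (hinj.injOn)).subset ?_
    intro r hr
    change Points.ofPt ((yon S).map t' ≫ φ ≫ f) (ρ.left r) = Points.mk q
    rw [← AlgSpBasic.ofPt_yon_map_comp, ← Category.assoc, ← Functor.map_comp, hρt,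
      ← Category.assoc, ← Points.map_ofPt, hq]
    exact congrArg (Points.map f) hr

end Groth.Agent.Helper2.DecentLocal
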