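import Mathlib
import Groth.Prelude.Def_AlgSp4
import Groth.Prelude.Def_AlgSp3
import Groth.Prelude.Def_AlgSpDec
import Groth.Agent.Lib.Helper2.AlgSp.QcPoint
import Groth.Agent.Lib.Helper2.AlgSp.DecentLocal
import Groth.Agent.Lib.Helper2.AlgSp.LocP

/-!
# Descent of decency along quasi-compact etale surjections (helper2)
-/

set_option autoImplicit false
set_option backward.isDefEq.respectTransparency false

open CategoryTheory CategoryTheory.Limits AlgebraicGeometry Opposite AlgSp

namespace Groth.Agent.Helper2.DecentDescent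
universe u
variable {S : Scheme.{u}}

open FieldFibre

/-- The fibre product of two field points over a point represented by a monomorphism is
affine. -/
theorem isAffine_of_mono_point {X : Sp S} (hX : IsAlgSpace X) (p : FieldPt X)
    (hm : Mono p.toHom) {L₁ L₂ : Type u} [Field L₁] [Field L₂]
    (str₁ : Spec (CommRingCat.of L₁) ⟶ S) (str₂ : Spec (CommRingCat.of L₂) ⟶ S)
    (b₁ : (yon S).obj (Over.mk str₁) ⟶ X) (b₂ : (yon S).obj (Over.mk str₂) ⟶ X)
    (e1 : Points.mk (AlgSpBasic.fieldPtOfHom str₁ b₁) = Points.mk p)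
    (e2 : Points.mk (AlgSpBasic.fieldPtOfHom str₂ b₂) = Points.mk p)
    {W : Over S} (π₁ : W ⟶ Over.mk str₁) (π₂ : W ⟶ Over.mk str₂)
    (sq : IsPullback ((yon S).map π₁) ((yon S).map π₂) b₁ b₂) : IsAffine W.left := by
  obtain ⟨g, hg⟩ := QcMonoPoint.exists_factor_of_mono hX p _ hm e1
  obtain ⟨g', hg'⟩ := QcMonoPoint.exists_factor_of_mono hX p _ hm e2
  rw [FieldQuot.toHom_fieldPtOfHom] at hg hg'
  obtain ⟨g₁, rfl⟩ := (yon S).map_surjective g
  obtain ⟨g₁', rfl⟩ := (yon S).map_surjective g'
  have hg2 : ∃ g₀ : Over.mk str₁ ⟶ p.pt, (yon S).map g₀ ≫ p.toHom = b₁ := ⟨g₁, hg⟩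
  have hg2' : ∃ g₀ : Over.mk str₂ ⟶ p.pt, (yon S).map g₀ ≫ p.toHom = b₂ := ⟨g₁', hg'⟩
  clear hg hg'
  obtain ⟨g₀, hg⟩ := hg2
  obtain ⟨g₀', hg'⟩ := hg2'
  haveI := hm
  have sq' : IsPullback ((yon S).map π₁) ((yon S).map π₂) ((yon S).map g₀) ((yon S).map g₀') :=
    ⟨⟨(cancel_mono p.toHom).1 (by rw [Category.assoc, Category.assoc, hg, hg']; exact sq.w)⟩,
      ⟨PullbackCone.isLimitOfFactors _ _ p.toHom _ _ hg hg' _ sq.isLimit⟩⟩
  have sq'' : IsPullback π₁ π₂ g₀ g₀' :=
    IsPullback.of_map (yon S) ((yon S).map_injective (by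
      simp only [Functor.map_comp]; exact sq'.w)) sq'
  have sq3 := sq''.map (Over.forget S)
  haveI : IsAffine ((Over.forget S).obj p.pt) :=
    inferInstanceAs (IsAffine (Spec (CommRingCat.of p.K)))
  haveI : IsAffine ((Over.forget S).obj (Over.mk str₁)) :=
    inferInstanceAs (IsAffine (Spec (CommRingCat.of L₁)))
  haveI : IsAffine ((Over.forget S).obj (Over.mk str₂)) :=
    inferInstanceAs (IsAffine (Spec (CommRingCat.of L₂)))
  exact IsAffine.of_isIso sq3.isoPullback.hom

/-- If every point of `X` is represented by a monomorphism, the fibre product of two field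
points is quasi-compact. -/
theorem compactSpace_of_field_points {X : Sp S} (hX : IsAlgSpace X)
    (hmono : ∀ x : Points X, ∃ p : FieldPt X, Points.mk p = x ∧ Mono p.toHom)
    {L₁ L₂ : Type u} [Field L₁] [Field L₂]
    (str₁ : Spec (CommRingCat.of L₁) ⟶ S) (str₂ : Spec (CommRingCat.of L₂) ⟶ S)
    (b₁ : (yon S).obj (Over.mk str₁) ⟶ X) (b₂ : (yon S).obj (Over.mk str₂) ⟶ X)
    {W : Over S} (π₁ : W ⟶ Over.mk str₁) (π₂ : W ⟶ Over.mk str₂)
    (sq : IsPullback ((yon S).map π₁) ((yon S).map π₂) b₁ b₂) : CompactSpace ↥W.left := by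
  rcases isEmpty_or_nonempty ↥W.left with hE | ⟨⟨z⟩⟩
  · exact Finite.compactSpace
  · have e : Points.ofPt b₁ (π₁.left z) = Points.ofPt b₂ (π₂.left z) := by
      rw [← AlgSpBasic.ofPt_yon_map_comp, sq.w, AlgSpBasic.ofPt_yon_map_comp]
    obtain ⟨p, hp, hm⟩ := hmono (Points.ofPt b₁ (π₁.left z))
    have e1 : Points.mk (AlgSpBasic.fieldPtOfHom str₁ b₁) = Points.mk p := by
      rw [FieldQuot.mk_fieldPtOfHom str₁ b₁ (π₁.left z), hp]
    have e2 : Points.mk (AlgSpBasic.fieldPtOfHom str₂ b₂) = Points.mk p := by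
      rw [FieldQuot.mk_fieldPtOfHom str₂ b₂ (π₂.left z), hp, e]
    haveI := isAffine_of_mono_point hX p hm str₁ str₂ b₁ b₂ e1 e2 π₁ π₂ sq
    infer_instance

/-- Quasi-compactness of a base change of a map from a finite scheme may be tested on the
residue field points. -/
theorem quasiCompact_of_finite_source {X : Sp S} (hX : IsAlgSpace X) {A T : Over S}
    [Finite ↥A.left] (g : (yon S).obj A ⟶ X) (t : (yon S).obj T ⟶ X) {W : Over S}
    (pr : W ⟶ A) (pr' : W ⟶ T) (sq : IsPullback ((yon S).map pr) ((yon S).map pr') g t)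
    (h : ∀ (α : ↥A.left) (Wα : Over S) (ρ : Wα ⟶ resOver A α) (ρ' : Wα ⟶ T),
      IsPullback ((yon S).map ρ) ((yon S).map ρ') ((yon S).map (resι A α) ≫ g) t →
        QuasiCompact ρ'.left) : QuasiCompact pr'.left := by
  choose Wα ρ ρ' sqα using fun α : ↥A.left => AlgSpBasic.exists_isPullback_yon hX.diag
    ((yon S).map (resι A α) ≫ g) t
  have hlift : ∀ α, ∃ l : Wα α ⟶ W, l ≫ pr = ρ α ≫ resι A α ∧ l ≫ pr' = ρ' α := by
    intro α
    obtain ⟨l, hl⟩ := (yon S).map_surjective (sq.lift ((yon S).map (ρ α ≫ resι A α))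
      ((yon S).map (ρ' α)) (by rw [Functor.map_comp, Category.assoc]; exact (sqα α).w))
    exact ⟨l, (yon S).map_injective (by rw [Functor.map_comp, hl, sq.lift_fst]),
      (yon S).map_injective (by rw [Functor.map_comp, hl, sq.lift_snd])⟩
  choose l hl1 hl2 using hlift
  rw [quasiCompact_iff]
  intro O hO hOc
  have key : pr'.left ⁻¹' O = ⋃ α : ↥A.left, (l α).left '' ((ρ' α).left ⁻¹' O) := by
    ext w
    simp only [Set.mem_preimage, Set.mem_iUnion, Set.mem_image]
    constructor
    · intro hw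
      -- the residue field point of `w`
      have hs : Spec.map (pr.left.residueFieldMap w) ≫ A.left.fromSpecResidueField (pr.left w) =
          W.left.fromSpecResidueField w ≫ pr.left :=
        Scheme.Hom.SpecMap_residueFieldMap_fromSpecResidueField pr.left w
      let a : resOver W w ⟶ resOver A (pr.left w) :=
        Over.homMk (Spec.map (pr.left.residueFieldMap w)) (by
          change Spec.map (pr.left.residueFieldMap w) ≫
            A.left.fromSpecResidueField (pr.left w) ≫ A.hom = W.left.fromSpecResidueField w ≫ W.hom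
          rw [← Category.assoc, hs, Category.assoc, Over.w pr])
      have ha : a ≫ resι A (pr.left w) = resι W w ≫ pr := by
        apply Over.OverMorphism.ext
        exact hs
      have comm : (yon S).map a ≫ (yon S).map (resι A (pr.left w)) ≫ g =
          (yon S).map (resι W w ≫ pr') ≫ t := by
        rw [← Category.assoc, ← Functor.map_comp, ha, Functor.map_comp, Functor.map_comp,
          Category.assoc, Category.assoc, sq.w]
      obtain ⟨m, hm⟩ := (yon S).map_surjective ((sqα (pr.left w)).lift _ _ comm)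
      have hm1 : m ≫ ρ (pr.left w) = a :=
        (yon S).map_injective (by rw [Functor.map_comp, hm, (sqα _).lift_fst])
      have hm2 : m ≫ ρ' (pr.left w) = resι W w ≫ pr' :=
        (yon S).map_injective (by rw [Functor.map_comp, hm, (sqα _).lift_snd])
      have hml : m ≫ l (pr.left w) = resι W w := by
        apply (yon S).map_injective
        apply sq.hom_ext
        · rw [← Functor.map_comp, ← Functor.map_comp, Category.assoc, hl1, ← Category.assoc, hm1,
            ha]
        · rw [← Functor.map_comp, ← Functor.map_comp, Category.assoc, hl2, hm2]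
      let c : ↥(resOver W w).left := IsLocalRing.closedPoint ↥(W.left.residueField w)
      have hc : (l (pr.left w)).left (m.left c) = w := by
        have h1 : (l (pr.left w)).left (m.left c) = (m ≫ l (pr.left w)).left c := rfl
        rw [h1, hml]
        exact Scheme.fromSpecResidueField_apply w c
      refine ⟨pr.left w, m.left c, ?_, hc⟩
      have h2 : (ρ' (pr.left w)).left (m.left c) = pr'.left ((l (pr.left w)).left (m.left c)) := by
        have : (ρ' (pr.left w)).left (m.left c) = (l (pr.left w) ≫ pr').left (m.left c) := by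
          rw [hl2]
        exact this
      rw [h2, hc]
      exact hw
    · rintro ⟨α, z, hz, rfl⟩
      have : pr'.left ((l α).left z) = (l α ≫ pr').left z := rfl
      rw [this, hl2]
      exact hz
  rw [key]
  refine isCompact_iUnion fun α => ?_
  haveI := h α (Wα α) (ρ α) (ρ' α) (sqα α)
  exact (QuasiCompact.isCompact_preimage (f := (ρ' α).left) O hO hOc).image
    (l α).left.continuous

/-- `S10385`: points represented by monomorphisms descend along quasi-compact etale
surjections. -/
theorem exists_mono_of_qc_etale_surjective {X Y : Sp S} (hX : IsAlgSpace X) (hY : IsAlgSpace Y)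
    (f : X ⟶ Y) (hq : IsQuasiCompactMor f) (he : IsEtaleMor f) (hs : IsSurjectiveMor f)
    (hmono : ∀ x : Points X, ∃ p : FieldPt X, Points.mk p = x ∧ Mono p.toHom) (y : Points Y) :
    ∃ q : FieldPt Y, Points.mk q = y ∧ Mono q.toHom := by
  obtain ⟨x, rfl⟩ := hs y
  obtain ⟨W', φ, hW', hφ, ⟨w, hw⟩⟩ := FieldFibre.exists_affine_chart_through hX x
  have hφY : RepWith @Etale (φ ≫ f) := he φ hφ
  let str := W'.left.fromSpecResidueField w ≫ W'.hom
  let κpt : Over S := Over.mk str
  let b : (yon S).obj κpt ⟶ X := (yon S).map (resι W' w) ≫ φ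
  let a : (yon S).obj κpt ⟶ Y := (yon S).map (resι W' w) ≫ φ ≫ f
  have hab : b ≫ f = a := Category.assoc _ _ _
  obtain ⟨P₀, π, π', sqP⟩ := AlgSpBasic.exists_isPullback_yon hY.diag a a
  haveI : Etale π.left := etale_fst_of_isPullback_residue (φ ≫ f) hφY w str a π π' sqP
  have hκ := IsAlgSpace.yon_obj (S := S) κpt
  haveI : IsAffine κpt.left := inferInstanceAs (IsAffine (Spec (W'.left.residueField w)))
  haveI : CompactSpace ↥κpt.left := inferInstance
  -- the fibre of `f`
  have sqA := IsPullback.of_hasPullback f a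
  have hA : IsAlgSpace (pullback f a) :=
    AlgSpBasic.isAlgSpace_of_isPullback hY.diag hX hκ f a _ _ sqA
  have hAq : IsQuasiCompactSp (pullback f a) :=
    hq hκ ((AlgSpBasic.isQuasiCompactSp_yon_iff κpt).mpr inferInstance) a _ _ sqA
  obtain ⟨A', c, hA'aff, hce, hcs⟩ :=
    (AlgSpBasic.isQuasiCompactSp_iff_exists_affine_chart hA).mp hAq
  obtain ⟨c₀, hc₀⟩ := (yon S).map_surjective (c ≫ pullback.snd f a)
  have hLoc : LocP @Etale (pullback.snd f a) :=
    AlgSpBasic.locP_of_isPullback @Etale hX hY hκ hA f a _ _ sqA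
      (AlgSpBasic.locP_etale_of_isEtaleMor hY.diag f he)
  haveI : Etale c₀.left :=
    hLoc c (𝟙 _) c₀ hce (AlgSpBasic.repWith_etale_id κpt) (by rw [hc₀, Category.comp_id])
  have hFL : EtaleField.IsFieldLike A'.left :=
    EtaleField.isFieldLike_of_etale (K := ↥(W'.left.residueField w)) c₀.left
  haveI := hFL.discrete
  haveI := hA'aff
  haveI : Finite ↥A'.left := finite_of_compact_of_discrete
  -- the fibre product of the chart of the fibre with the field point
  obtain ⟨Q₀, q2, q1, sqQ⟩ := AlgSpBasic.exists_isPullback_yon hX.diag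
    (c ≫ pullback.fst f a) b
  have hq1 : QuasiCompact q1.left := by
    refine quasiCompact_of_finite_source hX (c ≫ pullback.fst f a) b q2 q1 sqQ ?_
    intro α Wα ρ ρ' sqα
    haveI : CompactSpace ↥Wα.left :=
      compactSpace_of_field_points hX hmono _ str _ b ρ ρ' sqα
    exact (HasAffineProperty.iff_of_isAffine (P := @QuasiCompact)).mpr inferInstance
  haveI : CompactSpace ↥Q₀.left := QuasiCompact.compactSpace_of_compactSpace q1.left
  -- the fibre product of the field point with itself over `Y`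
  have sqPY := IsPullback.of_hasPullback b (pullback.fst f a)
  have hPY : IsAlgSpace (pullback b (pullback.fst f a)) :=
    AlgSpBasic.isAlgSpace_of_isPullback hX.diag hκ hA b _ _ _ sqPY
  have big : IsPullback (pullback.snd b (pullback.fst f a) ≫ pullback.snd f a)
      (pullback.fst b (pullback.fst f a)) a (b ≫ f) := sqPY.flip.paste_horiz sqA.flip
  rw [hab] at big
  have hw1 : (yon S).map q1 ≫ b = ((yon S).map q2 ≫ c) ≫ pullback.fst f a := by
    rw [Category.assoc]; exact sqQ.w.symm
  have sqL : IsPullback (sqPY.lift ((yon S).map q1) ((yon S).map q2 ≫ c) hw1) ((yon S).map q2)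
      (pullback.snd b (pullback.fst f a)) c := by
    refine IsPullback.of_right ?_ (sqPY.lift_snd _ _ hw1) sqPY
    rw [sqPY.lift_fst]
    exact sqQ.flip
  have hsurj : IsSurjectiveMor (sqPY.lift ((yon S).map q1) ((yon S).map q2 ≫ c) hw1) :=
    AlgSpBasic.isSurjectiveMor_fst_of_isPullback sqL hcs
  have hPYq : IsQuasiCompactSp (pullback b (pullback.fst f a)) :=
    AlgSpBasic.isQuasiCompactSp_of_isSurjectiveMor (IsAlgSpace.yon_obj Q₀) hPY _ hsurj
      ((AlgSpBasic.isQuasiCompactSp_yon_iff Q₀).mpr inferInstance)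
  have hP₀q : IsQuasiCompactSp ((yon S).obj P₀) :=
    AlgSpBasic.isQuasiCompactSp_of_iso hPY (IsAlgSpace.yon_obj P₀) (big.isoIsPullback _ _ sqP) hPYq
  haveI : CompactSpace ↥P₀.left := (AlgSpBasic.isQuasiCompactSp_yon_iff P₀).mp hP₀q
  let cu : ↥κpt.left := IsLocalRing.closedPoint ↥(W'.left.residueField w)
  obtain ⟨q, hq1, hq2, -⟩ := FieldQuot.exists_mono_fieldPt str π π' a sqP.flip cu
  refine ⟨q, ?_, hq2⟩
  rw [hq1, ← hw]
  have h1 : Points.ofPt a cu = Points.ofPt (φ ≫ f) ((resι W' w).left cu) :=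
    AlgSpBasic.ofPt_yon_map_comp (resι W' w) (φ ≫ f) cu
  have h2 : (resι W' w).left cu = w := Scheme.fromSpecResidueField_apply w cu
  rw [h1, h2, Points.map_ofPt]

end Groth.Agent.Helper2.DecentDescent
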