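import Mathlib
import Groth.Agent.S10360
import Groth.Agent.Lib.Helper2.AlgSp.DecentLocal

/-!
# Decent spaces: Zariski locality (helper2)
-/

set_option autoImplicit false
set_option backward.isDefEq.respectTransparency false

open CategoryTheory CategoryTheory.Limits AlgebraicGeometry Opposite AlgSp

namespace Groth.Agent.Helper2.DecentLocal
universe u
variable {S : Scheme.{u}}

/-- A point represented by a monomorphism, all of whose fibres in affine etale charts are
finite, is represented by a quasi-compact monomorphism. -/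
theorem exists_qc_mono_of_finite_fibres {X : Sp S} (hX : IsAlgSpace X) (x : Points X)
    (p : FieldPt X) (hp : Points.mk p = x) (hm : Mono p.toHom)
    (hfin : ∀ (U : Over S) (φ : (yon S).obj U ⟶ X), IsAffine U.left → RepWith @Etale φ →
        (Points.ofPt φ ⁻¹' {x}).Finite) :
    ∃ p : FieldPt X, Points.mk p = x ∧ Mono p.toHom ∧ RepWith @QuasiCompact p.toHom := by
  refine (Groth.Agent.S10360.result ⟨X, hX⟩ x).mp ?_
  intro U φ hU hφ R s t hR
  refine ⟨hfin U φ hU hφ, ?_⟩
  have h1 := finite_fibre_R_of_finite_fibre_U hX p hm φ hφ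
    (by rw [hp]; exact hfin U φ hU hφ) R s t hR
  rw [hp] at h1
  exact h1

/-- Decency is Zariski local. -/
theorem isDecent_of_zarCover_full {X : Sp S} (hX : IsAlgSpace X) {ι : Type u} (Xi : ι → Sp S)
    (hXi : ∀ i, IsAlgSpace (Xi i)) (j : ∀ i, Xi i ⟶ X)
    (hj : ∀ i, RepWith @IsOpenImmersion (j i))
    (hcov : ∀ x : Points X, ∃ i, x ∈ Set.range (Points.map (j i)))
    (hd : ∀ i, IsDecent (Xi i)) : IsDecent X := by
  intro x
  obtain ⟨p, hp, hm, hfin⟩ := isDecent_of_zarCover hX Xi hXi j hj hcov hd x
  exact exists_qc_mono_of_finite_fibres hX x p hp hm hfin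

/-- `S10386`: a morphism whose base changes to affine schemes are decent is decent. -/
theorem isDecentMor_of_affine {X Y : Sp S} (hX : IsAlgSpace X) (hY : IsAlgSpace Y) (f : X ⟶ Y)
    (h : ∀ (Z : Over S) (g : (yon S).obj Z ⟶ Y) (P : Sp S) (fst : P ⟶ X)
      (snd : P ⟶ (yon S).obj Z), IsAffine Z.left → IsPullback fst snd f g → IsDecent P) :
    IsDecentMor f := by
  intro T F' g fst snd sq
  have hF' : IsAlgSpace F' :=
    AlgSpBasic.isAlgSpace_of_isPullback hY.diag hX (IsAlgSpace.yon_obj T) f g fst snd sq
  have hT := IsAlgSpace.yon_obj (S := S) T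
  refine isDecent_of_zarCover_full hF'
    (ι := T.left.affineOpens)
    (fun V => pullback snd ((yon S).map (FieldFibre.opensι T (V : T.left.Opens))))
    (fun V => AlgSpBasic.isAlgSpace_of_isPullback hT.diag hF' (IsAlgSpace.yon_obj _) snd
      ((yon S).map (FieldFibre.opensι T (V : T.left.Opens))) _ _
      (IsPullback.of_hasPullback _ _))
    (fun V => pullback.fst snd ((yon S).map (FieldFibre.opensι T (V : T.left.Opens))))
    ?_ ?_ ?_
  · intro V
    refine AlgSpBasic.repWith_of_isPullback @IsOpenImmersion
      (IsPullback.of_hasPullback snd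
        ((yon S).map (FieldFibre.opensι T (V : T.left.Opens)))).flip ?_
    rw [repWith_yon_map_iff]
    change IsOpenImmersion (V : T.left.Opens).ι
    infer_instance
  · intro x
    obtain ⟨_, ⟨V, hV, rfl⟩, htV, -⟩ := T.left.isBasis_affineOpens.exists_subset_of_mem_open
      (Set.mem_univ (Points.toScheme T (Points.map snd x))) isOpen_univ
    refine ⟨⟨V, hV⟩, ?_⟩
    let t' : ↥(FieldFibre.opensOver T V).left := ⟨Points.toScheme T (Points.map snd x), htV⟩
    have e : Points.map ((yon S).map (FieldFibre.opensι T V))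
        (Points.ofScheme (FieldFibre.opensOver T V) t') = Points.map snd x := by
      refine (Points.map_yon_map_apply (FieldFibre.opensι T V) t').trans ?_
      exact Points.ofScheme_toScheme T _
    obtain ⟨x', -, hx'⟩ := AlgSpBasic.points_exists_of_isPullback snd
      ((yon S).map (FieldFibre.opensι T V)) (pullback.snd snd _) (pullback.fst snd _)
      (IsPullback.of_hasPullback snd ((yon S).map (FieldFibre.opensι T V))).flip _ x e
    exact ⟨x', hx'⟩
  · intro V
    exact h (FieldFibre.opensOver T (V : T.left.Opens))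
      ((yon S).map (FieldFibre.opensι T (V : T.left.Opens)) ≫ g) _
      (pullback.fst snd _ ≫ fst) (pullback.snd snd _) V.2
      ((IsPullback.of_hasPullback snd
        ((yon S).map (FieldFibre.opensι T (V : T.left.Opens)))).paste_horiz sq)

end Groth.Agent.Helper2.DecentLocal
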