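import Mathlib
import Groth.Agent.Lib.Helper2.AlgSp.DecentDescent
import Groth.Agent.Lib.Helper2.AlgSp.DecentLocal2

/-!
# Descent of decency along quasi-compact etale surjections, II (helper2)
-/

set_option autoImplicit false
set_option backward.isDefEq.respectTransparency false

open CategoryTheory CategoryTheory.Limits AlgebraicGeometry Opposite AlgSp

namespace Groth.Agent.Helper2.DecentDescent
universe u
variable {S : Scheme.{u}}

/-- For a quasi-compact etale surjection `f : X ⟶ Y` with `X` decent, the fibres of affine etale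
charts of `Y` are finite. -/
theorem finite_fibre_of_qc_etale_surjective {X Y : Sp S} (hX : IsAlgSpace X) (hY : IsAlgSpace Y)
    (f : X ⟶ Y) (hq : IsQuasiCompactMor f) (he : IsEtaleMor f) (hs : IsSurjectiveMor f)
    (hd : IsDecent X) (y : Points Y) {V : Over S} [IsAffine V.left]
    (ψ : (yon S).obj V ⟶ Y) (hψ : RepWith @Etale ψ) : (Points.ofPt ψ ⁻¹' {y}).Finite := by
  by_cases hne : ∃ v₀, Points.ofPt ψ v₀ = y
  swap
  · have : (Points.ofPt ψ ⁻¹' {y}) = ∅ := by
      ext v
      simp only [Set.mem_preimage, Set.mem_singleton_iff, Set.mem_empty_iff_false, iff_false]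
      exact fun hv => hne ⟨v, hv⟩
    rw [this]
    exact Set.finite_empty
  obtain ⟨v₀, hv₀⟩ := hne
  have hV := IsAlgSpace.yon_obj (S := S) V
  have sqV := IsPullback.of_hasPullback f ψ
  have hXV : IsAlgSpace (pullback f ψ) :=
    AlgSpBasic.isAlgSpace_of_isPullback hY.diag hX hV f ψ _ _ sqV
  have hXVq : IsQuasiCompactSp (pullback f ψ) :=
    hq hV ((AlgSpBasic.isQuasiCompactSp_yon_iff V).mpr inferInstance) ψ _ _ sqV
  obtain ⟨W, c, hWaff, hce, hcs⟩ :=
    (AlgSpBasic.isQuasiCompactSp_iff_exists_affine_chart hXV).mp hXVq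
  haveI := hWaff
  obtain ⟨c₀, hc₀⟩ := (yon S).map_surjective (c ≫ pullback.snd f ψ)
  have hLoc : LocP @Etale (pullback.snd f ψ) :=
    AlgSpBasic.locP_of_isPullback @Etale hX hY hV hXV f ψ _ _ sqV
      (AlgSpBasic.locP_etale_of_isEtaleMor hY.diag f he)
  haveI : Etale c₀.left :=
    hLoc c (𝟙 _) c₀ hce (AlgSpBasic.repWith_etale_id V) (by rw [hc₀, Category.comp_id])
  haveI : LocallyQuasiFinite c₀.left := QfAt.locallyQuasiFinite_of_etale _
  have hθ : RepWith @Etale (c ≫ pullback.fst f ψ) :=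
    AlgSpBasic.repWith_comp @Etale hce (AlgSpBasic.repWith_of_isPullback @Etale sqV.flip hψ)
  have comm : (c ≫ pullback.fst f ψ) ≫ f = (yon S).map c₀ ≫ ψ := by
    rw [Category.assoc, sqV.w, ← Category.assoc, hc₀]
  -- lifting pairs of points
  have hlift : ∀ (x : Points X) (v : ↥V.left), Points.map f x = Points.ofPt ψ v →
      ∃ w : ↥W.left, Points.ofPt (c ≫ pullback.fst f ψ) w = x ∧ c₀.left w = v := by
    intro x v hxv
    have e : Points.map ψ (Points.ofScheme V v) = Points.map f x := by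
      rw [← Points.ofPt_eq_map_ofScheme, hxv]
    obtain ⟨z, hz1, hz2⟩ := AlgSpBasic.points_exists_of_isPullback f ψ
      (pullback.snd f ψ) (pullback.fst f ψ) sqV.flip (Points.ofScheme V v) x e
    obtain ⟨w, hw⟩ := AlgSpBasic.surjective_ofPt c hcs z
    refine ⟨w, ?_, ?_⟩
    · rw [← Points.map_ofPt, hw, hz2]
    · have h1 : Points.ofPt ((yon S).map c₀) w = Points.ofScheme V v := by
        rw [hc₀, ← Points.map_ofPt, hw, hz1]
      have h2 : Points.ofPt ((yon S).map c₀) w = Points.ofScheme V (c₀.left w) := by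
        have := AlgSpBasic.ofPt_yon_map_comp c₀ (𝟙 _) w
        rw [Category.comp_id] at this
        exact this
      rw [h2] at h1
      exact (Points.schemeEquiv V).injective h1
  -- the fibre of `f` over `y` is finite
  have hF : {x : Points X | Points.map f x = y}.Finite := by
    have h1 := FibreFinite.finite_preimage_singleton_of_compactSpace c₀.left v₀
    refine (h1.image (Points.ofPt (c ≫ pullback.fst f ψ))).subset ?_
    intro x hx
    obtain ⟨w, hw1, hw2⟩ := hlift x v₀ (by rw [hv₀]; exact hx)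
    exact ⟨w, hw2, hw1⟩
  -- the fibre of the chart `W` of `X` over `y`
  have hWy : (Points.ofPt ((c ≫ pullback.fst f ψ) ≫ f) ⁻¹' {y}).Finite := by
    have h1 : ∀ x ∈ {x : Points X | Points.map f x = y},
        (Points.ofPt (c ≫ pullback.fst f ψ) ⁻¹' {x}).Finite := by
      intro x _
      obtain ⟨p, hp, hm, hpq⟩ := hd x
      rw [← hp]
      exact (FieldFibre.finite_fibre_of_quasiCompact hX p hm hpq _ hθ).1
    refine (hF.biUnion h1).subset ?_
    intro w hw
    simp only [Set.mem_iUnion]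
    exact ⟨Points.ofPt (c ≫ pullback.fst f ψ) w, hw, rfl⟩
  refine (hWy.image c₀.left).subset ?_
  intro v hv
  obtain ⟨x, hx⟩ := hs (Points.ofPt ψ v)
  obtain ⟨w, hw1, hw2⟩ := hlift x v hx
  refine ⟨w, ?_, hw2⟩
  change Points.ofPt ((c ≫ pullback.fst f ψ) ≫ f) w = y
  rw [← Points.map_ofPt, hw1, hx]
  exact hv

/-- `S10384`: decency descends along quasi-compact etale surjections. -/
theorem isDecent_of_qc_etale_surjective {X Y : Sp S} (hX : IsAlgSpace X) (hY : IsAlgSpace Y)
    (f : X ⟶ Y) (hq : IsQuasiCompactMor f) (he : IsEtaleMor f) (hs : IsSurjectiveMor f)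
    (hd : IsDecent X) : IsDecent Y := by
  intro y
  have hmono : ∀ x : Points X, ∃ p : FieldPt X, Points.mk p = x ∧ Mono p.toHom := by
    intro x
    obtain ⟨p, hp, hm, -⟩ := hd x
    exact ⟨p, hp, hm⟩
  obtain ⟨q, hq1, hq2⟩ := exists_mono_of_qc_etale_surjective hX hY f hq he hs hmono y
  refine DecentLocal.exists_qc_mono_of_finite_fibres hY y q hq1 hq2 ?_
  intro U φ hU hφ
  haveI := hU
  exact finite_fibre_of_qc_etale_surjective hX hY f hq he hs hd y φ hφ

/-- An etale surjective chart of a quasi-compact algebraic space can be refined to an affine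
one. -/
theorem exists_affine_refinement {X : Sp S} (hX : IsAlgSpace X) [CompactSpace (Points X)]
    {U : Over S} (p : (yon S).obj U ⟶ X) (hpe : RepWith @Etale p) (hps : RepWith @Surjective p) :
    ∃ (U' : Over S) (jO : U' ⟶ U), IsAffine U'.left ∧ Etale jO.left ∧
      RepWith @Etale ((yon S).map jO ≫ p) ∧ RepWith @Surjective ((yon S).map jO ≫ p) := by
  classical
  let 𝒰 := U.left.affineCover
  let O : 𝒰.I₀ → Set (Points X) := fun i => Points.ofPt p '' Set.range (𝒰.f i).base
  have hO : ∀ i, IsOpen (O i) := fun i =>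
    AlgSpBasic.isOpenMap_ofPt p hpe _ (𝒰.f i).isOpenEmbedding.isOpen_range
  have hcov : (Set.univ : Set (Points X)) ⊆ ⋃ i, O i := by
    intro x _
    obtain ⟨u, rfl⟩ := AlgSpBasic.surjective_ofPt p hps x
    obtain ⟨i, y, hy⟩ := 𝒰.exists_eq u
    exact Set.mem_iUnion.mpr ⟨i, u, ⟨y, hy⟩, rfl⟩
  obtain ⟨t, ht⟩ := isCompact_univ.elim_finite_subcover O hO hcov
  let g : ↥t → Scheme.{u} := fun i => 𝒰.X i.1
  have hg : ∀ i, IsAffine (g i) := fun i => inferInstance
  let h : ∀ i : ↥t, g i ⟶ U.left := fun i => 𝒰.f i.1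
  have hh : ∀ i, Etale (h i) := fun i => inferInstance
  let j : (∐ g) ⟶ U.left := Sigma.desc h
  have hj : Etale j := AlgSpBasic.etale_sigma_desc g h
  let U' : Over S := Over.mk (j ≫ U.hom)
  let jO : U' ⟶ U := Over.homMk j rfl
  refine ⟨U', jO, (inferInstance : IsAffine (∐ g)), hj, ?_, ?_⟩
  · exact AlgSpBasic.repWith_comp @Etale ((repWith_yon_map_iff @Etale jO).mpr hj) hpe
  · refine AlgSpBasic.repWith_surjective_of_surjective_ofPt _ (hX.representable_from_yon _) ?_
    intro x
    have hx := ht (Set.mem_univ x)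
    simp only [Set.mem_iUnion] at hx
    obtain ⟨i, hi, u, ⟨y, rfl⟩, rfl⟩ := hx
    refine ⟨Sigma.ι g ⟨i, hi⟩ y, ?_⟩
    rw [AlgSpBasic.ofPt_yon_map_comp]
    congr 1
    show (Sigma.ι g ⟨i, hi⟩ ≫ Limits.Sigma.desc h) y = _
    rw [Sigma.ι_desc]

/-- `S10387`: decency of a morphism may be tested after an etale surjective base change from a
scheme. -/
theorem isDecentMor_of_etale_surjective_base_change {X Y : Sp S} (hX : IsAlgSpace X)
    (hY : IsAlgSpace Y) (f : X ⟶ Y) {V : Over S} (p : (yon S).obj V ⟶ Y)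
    (hp : RepWith @Etale p) (hps : RepWith @Surjective p) (X' : Sp S) (fst' : X' ⟶ X)
    (snd' : X' ⟶ (yon S).obj V) (hsq : IsPullback fst' snd' f p) (h : IsDecentMor snd') :
    IsDecentMor f := by
  refine DecentLocal.isDecentMor_of_affine hX hY f ?_
  intro T g P fst snd hT sq
  haveI := hT
  have hTa := IsAlgSpace.yon_obj (S := S) T
  have hP : IsAlgSpace P := AlgSpBasic.isAlgSpace_of_isPullback hY.diag hX hTa f g fst snd sq
  obtain ⟨T', t1, t2, sqT⟩ := AlgSpBasic.exists_isPullback_yon hY.diag g p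
  have ht1e : RepWith @Etale ((yon S).map t1) := AlgSpBasic.repWith_of_isPullback @Etale sqT.flip hp
  have ht1s : RepWith @Surjective ((yon S).map t1) :=
    AlgSpBasic.repWith_of_isPullback @Surjective sqT.flip hps
  haveI : CompactSpace (Points ((yon S).obj T)) :=
    (AlgSpBasic.isQuasiCompactSp_iff_compactSpace_points hTa).mp
      ((AlgSpBasic.isQuasiCompactSp_yon_iff T).mpr inferInstance)
  obtain ⟨T'', j, hT''aff, hje, hk_e, hk_s⟩ :=
    exists_affine_refinement hTa ((yon S).map t1) ht1e ht1s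
  haveI := hT''aff
  rw [← Functor.map_comp] at hk_e hk_s
  -- the base change of `P` to `T''`
  have sqP'' := IsPullback.of_hasPullback snd ((yon S).map (j ≫ t1))
  have hT''a := IsAlgSpace.yon_obj (S := S) T''
  have hP'' : IsAlgSpace (pullback snd ((yon S).map (j ≫ t1))) :=
    AlgSpBasic.isAlgSpace_of_isPullback hTa.diag hP hT''a snd _ _ _ sqP''
  -- it is decent
  have hdec : IsDecent (pullback snd ((yon S).map (j ≫ t1))) := by
    have big : IsPullback (pullback.fst snd ((yon S).map (j ≫ t1)) ≫ fst)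
        (pullback.snd snd ((yon S).map (j ≫ t1))) f ((yon S).map (j ≫ t1) ≫ g) :=
      sqP''.paste_horiz sq
    have hw : (yon S).map (j ≫ t1) ≫ g = (yon S).map (j ≫ t2) ≫ p := by
      rw [Functor.map_comp, Functor.map_comp, Category.assoc, Category.assoc, sqT.w]
    rw [hw] at big
    have hl : (pullback.fst snd ((yon S).map (j ≫ t1)) ≫ fst) ≫ f =
        (pullback.snd snd ((yon S).map (j ≫ t1)) ≫ (yon S).map (j ≫ t2)) ≫ p := by
      rw [Category.assoc _ _ p]; exact big.w
    have sqL : IsPullback (hsq.lift _ _ hl) (pullback.snd snd ((yon S).map (j ≫ t1))) snd'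
        ((yon S).map (j ≫ t2)) := by
      refine IsPullback.of_right ?_ (hsq.lift_snd _ _ hl) hsq
      rw [hsq.lift_fst]
      exact big
    exact h _ _ _ sqL
  -- descend
  have hk_q : QuasiCompact (j ≫ t1).left := by
    haveI : IsAffineHom (j ≫ t1).left := isAffineHom_of_isAffine _
    infer_instance
  have h1 : IsQuasiCompactMor (pullback.fst snd ((yon S).map (j ≫ t1))) :=
    AlgSpBasic.isQuasiCompactMor_of_isPullback sqP''.flip
      (AlgSpBasic.isQuasiCompactMor_of_repWith hT''a hTa.diag _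
        ((repWith_yon_map_iff @QuasiCompact _).2 hk_q))
  have h2e : RepWith @Etale (pullback.fst snd ((yon S).map (j ≫ t1))) :=
    AlgSpBasic.repWith_of_isPullback @Etale sqP''.flip hk_e
  have h2 : IsEtaleMor (pullback.fst snd ((yon S).map (j ≫ t1))) := fun U φ hφ =>
    AlgSpBasic.repWith_comp @Etale hφ h2e
  have h3 : IsSurjectiveMor (pullback.fst snd ((yon S).map (j ≫ t1))) :=
    AlgSpBasic.isSurjectiveMor_of_repWith_surjective _
      (AlgSpBasic.repWith_of_isPullback @Surjective sqP''.flip hk_s)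
  exact isDecent_of_qc_etale_surjective hP'' hP _ h1 h2 h3 hdec

end Groth.Agent.Helper2.DecentDescent
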