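import Mathlib
import Groth.Prelude.Def_AlgSpInf
import Groth.Prelude.Def_AlgSp4
import Groth.Agent.Lib.Helper2.AlgSp.Thick
import Groth.Agent.Lib.Helper2.AlgSp.Diag
import Groth.Agent.Lib.Helper2.Sch.PowZeroBC

/-!
# Base change of finite order thickenings of algebraic spaces (helper2)
-/

set_option autoImplicit false
set_option linter.style.haveILetI false
universe u
open CategoryTheory CategoryTheory.Limits AlgebraicGeometry Opposite AlgSp
open Groth.Agent.Helper2.AlgSpBasic Groth.Agent.Helper2.EtaleLocal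

namespace Groth.Agent.Helper2.ThickBC
variable {S : Scheme.{u}}

/-- The chart computation: the base change of the thickening to an affine scheme mapping to an
affine étale chart of the base has nilpotent ideal. -/
theorem powZero_chart {B B' : Sp S} (iB : B ⟶ B') (hthick : IsThickMor iB) (n : ℕ)
    (hpow : AffLocT (powZero n) iB) {V W : Over S} (c : (yon S).obj V ⟶ B')
    (a : (yon S).obj W ⟶ B) (snd : W ⟶ V) (big : IsPullback a ((yon S).map snd) iB c)
    {T Ui : Over S} (hUi : IsAffine Ui.left) (hT : IsAffine T.left)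
    (pi : (yon S).obj Ui ⟶ B') (hpie : RepWith @Etale pi) (t : T ⟶ V) (μ : T ⟶ Ui)
    (hcomm : (yon S).map t ≫ c = (yon S).map μ ≫ pi) :
    powZero n (pullback.fst t snd).left := by
  haveI := hUi
  haveI := hT
  have hrep := hthick.rep
  have sqB := hrep.isPullback pi
  have hcl : IsClosedImmersion (hrep.snd pi).left := (hthick.property pi _ _ sqB).1
  have hp : powZero n (hrep.snd pi).left := hpow pi (hrep.fst pi) (hrep.snd pi) hUi hpie sqB
  have sqT := (IsPullback.of_hasPullback t snd).map (yon S)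
  have bigT := sqT.flip.paste_horiz big
  rw [hcomm] at bigT
  have hw : ((yon S).map (pullback.snd t snd) ≫ a) ≫ iB =
      ((yon S).map (pullback.fst t snd) ≫ (yon S).map μ) ≫ pi := by
    rw [Category.assoc _ _ pi]; exact bigT.w
  obtain ⟨l₀, hl₀⟩ := (yon S).map_surjective (sqB.lift _ _ hw)
  have hl1 : (yon S).map l₀ ≫ hrep.fst pi = (yon S).map (pullback.snd t snd) ≫ a := by
    rw [hl₀, sqB.lift_fst]
  have hl2 : (yon S).map l₀ ≫ (yon S).map (hrep.snd pi) =
      (yon S).map (pullback.fst t snd) ≫ (yon S).map μ := by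
    rw [hl₀, sqB.lift_snd]
  have sql : IsPullback ((yon S).map l₀) ((yon S).map (pullback.fst t snd))
      ((yon S).map (hrep.snd pi)) ((yon S).map μ) := by
    refine IsPullback.of_right ?_ hl2 sqB
    rw [hl1]
    exact bigT
  have sql' : IsPullback l₀ (pullback.fst t snd) (hrep.snd pi) μ :=
    IsPullback.of_map (yon S) ((yon S).map_injective (by
      rw [Functor.map_comp, Functor.map_comp]; exact hl2)) sql
  have sqS := sql'.map (Over.forget S)
  exact Groth.Agent.Helper2.PowZeroBC.powZero_of_isPullback_affine (hrep.snd pi).left μ.left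
    (pullback.fst t snd).left l₀.left sqS n hp

set_option maxHeartbeats 800000 in
/-- Base change of an `n`-th order thickening: the nilpotency condition on affine étale charts. -/
theorem affLocT_powZero_of_isPullback {B B' X X' : Sp S} (hB' : IsAlgSpace B') (iB : B ⟶ B')
    (hthick : IsThickMor iB) (n : ℕ) (hpow : AffLocT (powZero n) iB)
    (iX : X ⟶ X') (q : X ⟶ B) (h : X' ⟶ B') (sq : IsPullback iX q h iB) :
    AffLocT (powZero n) iX := by
  intro V W b fst snd hV hbe sqW
  haveI := hV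
  have big : IsPullback (fst ≫ q) ((yon S).map snd) iB (b ≫ h) := sqW.paste_horiz sq.flip
  have hcl : IsClosedImmersion snd.left := (hthick.property (b ≫ h) _ _ big).1
  obtain ⟨U₀, p₀, hp₀e, hp₀s⟩ := hB'.atlas
  obtain ⟨P, α, β, sqP⟩ := exists_isPullback_yon hB'.diag (b ≫ h) p₀
  have hαe : Etale α.left := hp₀e.property (b ≫ h) _ α sqP.flip
  have hαs : Surjective α.left := hp₀s.property (b ≫ h) _ α sqP.flip
  let 𝒰 := U₀.left.affineCover
  let 𝒱 := fun i : 𝒰.I₀ => (pullback β.left (𝒰.f i)).affineCover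
  -- the family
  let ι := Σ i : 𝒰.I₀, (𝒱 i).I₀
  let τ : ∀ k : ι, (𝒱 k.1).X k.2 ⟶ P.left := fun k => (𝒱 k.1).f k.2 ≫ pullback.fst _ _
  let ν : ∀ k : ι, (𝒱 k.1).X k.2 ⟶ 𝒰.X k.1 := fun k => (𝒱 k.1).f k.2 ≫ pullback.snd _ _
  have hτν : ∀ k : ι, ν k ≫ 𝒰.f k.1 = τ k ≫ β.left := fun k => by
    show ((𝒱 k.1).f k.2 ≫ pullback.snd _ _) ≫ 𝒰.f k.1 = ((𝒱 k.1).f k.2 ≫ pullback.fst _ _) ≫ β.left
    rw [Category.assoc, Category.assoc, pullback.condition]
  let To : ι → Over S := fun k => Over.mk (τ k ≫ P.hom)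
  let τo : ∀ k, To k ⟶ P := fun k => Over.homMk (τ k) rfl
  let Uo : 𝒰.I₀ → Over S := fun i => Over.mk (𝒰.f i ≫ U₀.hom)
  let κo : ∀ i, Uo i ⟶ U₀ := fun i => Over.homMk (𝒰.f i) rfl
  let νo : ∀ k : ι, To k ⟶ Uo k.1 := fun k => Over.homMk (ν k) (by
    show ν k ≫ 𝒰.f k.1 ≫ U₀.hom = τ k ≫ P.hom
    rw [← Category.assoc, hτν, Category.assoc, Over.w β])
  have hνκ : ∀ k : ι, νo k ≫ κo k.1 = τo k ≫ β := fun k => by
    ext1
    exact hτν k
  have hκe : ∀ i, RepWith @Etale ((yon S).map (κo i) ≫ p₀) := fun i =>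
    repWith_comp @Etale ((repWith_yon_map_iff @Etale _).mpr
      (inferInstanceAs (Etale (𝒰.f i)))) hp₀e
  have hTaff : ∀ k : ι, IsAffine (To k).left := fun k =>
    inferInstanceAs (IsAffine ((𝒱 k.1).X k.2))
  have hUaff : ∀ i, IsAffine (Uo i).left := fun i => inferInstanceAs (IsAffine (𝒰.X i))
  have hchart : ∀ k : ι, powZero n (pullback.fst (τo k ≫ α) snd).left := fun k =>
    powZero_chart iB hthick n hpow (b ≫ h) (fst ≫ q) snd big (hUaff k.1) (hTaff k)
      ((yon S).map (κo k.1) ≫ p₀) (hκe k.1) (τo k ≫ α) (νo k) (by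
        rw [Functor.map_comp, Category.assoc, sqP.w, ← Category.assoc, ← Functor.map_comp,
          ← hνκ, Functor.map_comp, Category.assoc])
  refine Groth.Agent.Helper2.PowZeroBC.powZero_of_flat_family snd.left
    (fun k : ι => (To k).left) (fun k => (τo k ≫ α).left) hTaff (fun k => ?_) (fun v => ?_)
    (fun k => (pullback (τo k ≫ α) snd).left) (fun k => (pullback.fst (τo k ≫ α) snd).left)
    (fun k => (pullback.snd (τo k ≫ α) snd).left)
    (fun k => ((IsPullback.of_hasPullback (τo k ≫ α) snd).flip).map (Over.forget S)) n hchart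
  · show Flat (τ k ≫ α.left)
    have : Flat (τ k) := by
      show Flat ((𝒱 k.1).f k.2 ≫ pullback.fst _ _)
      infer_instance
    infer_instance
  · obtain ⟨x, hx⟩ := hαs.surj v
    obtain ⟨i, u, hu⟩ := 𝒰.exists_eq (β.left x)
    obtain ⟨y, hy, -⟩ := Scheme.Pullback.exists_preimage_pullback x u hu.symm
    obtain ⟨k, z, hz⟩ := (𝒱 i).exists_eq y
    refine ⟨⟨i, k⟩, z, ?_⟩
    show (τ ⟨i, k⟩ ≫ α.left) z = v
    show (((𝒱 i).f k ≫ pullback.fst _ _) ≫ α.left) z = v
    rw [Scheme.Hom.comp_apply, Scheme.Hom.comp_apply, hz]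
    have : (pullback.fst β.left (𝒰.f i)) y = x := hy
    rw [this, hx]

/-- Base change of an `n`-th order thickening of algebraic spaces. -/
theorem isNThickMor_of_isPullback {B B' X X' : Sp S} (hB' : IsAlgSpace B') (iB : B ⟶ B')
    (n : ℕ) (hB : IsNThickMor n iB)
    (iX : X ⟶ X') (q : X ⟶ B) (h : X' ⟶ B') (sq : IsPullback iX q h iB) :
    IsNThickMor n iX :=
  ⟨repWith_of_isPullback thick sq.flip hB.1,
    affLocT_powZero_of_isPullback hB' iB hB.1 n hB.2 iX q h sq⟩

end Groth.Agent.Helper2.ThickBC
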