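import Mathlib
import Groth.Prelude.Def_AlgSpInf
import Groth.Prelude.Def_AlgSp4
import Groth.Prelude.Def_AlgSpMor5
import Groth.Agent.Lib.Helper2.AlgSp.Thick
import Groth.Agent.Lib.Helper2.AlgSp.ThickBC
import Groth.Agent.Lib.Helper2.AlgSp.LocP
import Groth.Agent.Lib.Helper2.AlgSp.ChartThrough

/-!
# Chart towers for deformations over a thickening of algebraic spaces (helper2)

Setting: `iB : B ⟶ B'` a thickening, `f' : X' ⟶ Y'`, `g' : Y' ⟶ B'` and their base changes
`f : X ⟶ Y`, `g : Y ⟶ B`.  A compatible tower of étale charts `U' ⟶ V' ⟶ W'` of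
`X' ⟶ Y' ⟶ B'` restricts to a tower of étale charts `U ⟶ V ⟶ W` of `X ⟶ Y ⟶ B`, and the
scheme-level squares are cartesian; so statements about schemes over a thickening of schemes transfer
to algebraic spaces.
-/

set_option autoImplicit false
set_option linter.style.haveILetI false
universe u
open CategoryTheory CategoryTheory.Limits AlgebraicGeometry Opposite AlgSp
open Groth.Agent.Helper2.AlgSpBasic Groth.Agent.Helper2.EtaleLocal

namespace Groth.Agent.Helper2.DeformChart
variable {S : Scheme.{u}}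

section Tower

variable {X X' Y Y' B B' : Sp S} (iX : X ⟶ X') (iY : Y ⟶ Y') (iB : B ⟶ B')
  (f : X ⟶ Y) (f' : X' ⟶ Y') (g : Y ⟶ B) (g' : Y' ⟶ B')
  (hcX : IsPullback iX (f ≫ g) (f' ≫ g') iB) (hcY : IsPullback iY g g' iB)
  (w : iX ≫ f' = f ≫ iY)

include hcX hcY w in
/-- The restriction of a chart tower of `X' ⟶ Y' ⟶ B'` to the thickened base `B`. -/
theorem exists_tower (hB : IsThickMor iB) {W' V' U' : Over S}
    (c' : (yon S).obj W' ⟶ B') (b' : (yon S).obj V' ⟶ Y') (a' : (yon S).obj U' ⟶ X')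
    (k' : V' ⟶ W') (h' : U' ⟶ V')
    (hb' : RepWith @Etale b') (ha' : RepWith @Etale a')
    (hbk : b' ≫ g' = (yon S).map k' ≫ c') (hah : a' ≫ f' = (yon S).map h' ≫ b') :
    ∃ (W V U : Over S) (t : W ⟶ W') (tV : V ⟶ V') (tU : U ⟶ U') (k : V ⟶ W) (h : U ⟶ V)
      (c : (yon S).obj W ⟶ B) (b : (yon S).obj V ⟶ Y) (a : (yon S).obj U ⟶ X),
      IsPullback c ((yon S).map t) iB c' ∧ thick t.left ∧
      RepWith @Etale b ∧ RepWith @Etale a ∧
      b ≫ g = (yon S).map k ≫ c ∧ a ≫ f = (yon S).map h ≫ b ∧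
      IsPullback ((yon S).map tV) b b' iY ∧ IsPullback ((yon S).map tU) a a' iX ∧
      IsPullback tU.left (h.left ≫ k.left) (h'.left ≫ k'.left) t.left ∧
      IsPullback tV.left k.left k'.left t.left ∧
      tU.left ≫ h'.left = h.left ≫ tV.left := by
  have hrep := hB.rep
  have sqW := hrep.isPullback c'
  obtain ⟨t, ht⟩ : ∃ t, t = hrep.snd c' := ⟨_, rfl⟩
  obtain ⟨c, hc⟩ : ∃ c, c = hrep.fst c' := ⟨_, rfl⟩
  rw [← ht, ← hc] at sqW
  have htt : thick t.left := hB.property c' _ _ sqW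
  -- the chart of `Y`
  have sqV := (IsPullback.of_hasPullback k' t).map (yon S)
  have bigV : IsPullback ((yon S).map (pullback.fst k' t)) ((yon S).map (pullback.snd k' t) ≫ c)
      ((yon S).map k' ≫ c') iB := sqV.paste_vert sqW.flip
  rw [← hbk] at bigV
  have hwV : ((yon S).map (pullback.fst k' t) ≫ b') ≫ g' =
      ((yon S).map (pullback.snd k' t) ≫ c) ≫ iB := by
    rw [Category.assoc]; exact bigV.w
  obtain ⟨b, hb1, hb2⟩ : ∃ b : (yon S).obj (pullback k' t) ⟶ Y,
      b ≫ iY = (yon S).map (pullback.fst k' t) ≫ b' ∧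
      b ≫ g = (yon S).map (pullback.snd k' t) ≫ c :=
    ⟨hcY.lift _ _ hwV, hcY.lift_fst _ _ hwV, hcY.lift_snd _ _ hwV⟩
  have sqb : IsPullback ((yon S).map (pullback.fst k' t)) b b' iY := by
    refine IsPullback.of_bot ?_ hb1.symm hcY
    rw [hb2]
    exact bigV
  have hbe : RepWith @Etale b := repWith_of_isPullback @Etale sqb hb'
  -- the chart of `X`
  have sqU := (IsPullback.of_hasPullback (h' ≫ k') t).map (yon S)
  have bigU : IsPullback ((yon S).map (pullback.fst (h' ≫ k') t))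
      ((yon S).map (pullback.snd (h' ≫ k') t) ≫ c)
      ((yon S).map (h' ≫ k') ≫ c') iB := sqU.paste_vert sqW.flip
  have e1 : (yon S).map (h' ≫ k') ≫ c' = a' ≫ f' ≫ g' := by
    rw [Functor.map_comp, Category.assoc, ← hbk, ← Category.assoc, ← hah, Category.assoc]
  rw [e1] at bigU
  have hwU : ((yon S).map (pullback.fst (h' ≫ k') t) ≫ a') ≫ (f' ≫ g') =
      ((yon S).map (pullback.snd (h' ≫ k') t) ≫ c) ≫ iB := by
    rw [Category.assoc]; exact bigU.w
  obtain ⟨a, ha1, ha2⟩ : ∃ a : (yon S).obj (pullback (h' ≫ k') t) ⟶ X,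
      a ≫ iX = (yon S).map (pullback.fst (h' ≫ k') t) ≫ a' ∧
      a ≫ (f ≫ g) = (yon S).map (pullback.snd (h' ≫ k') t) ≫ c :=
    ⟨hcX.lift _ _ hwU, hcX.lift_fst _ _ hwU, hcX.lift_snd _ _ hwU⟩
  have sqa : IsPullback ((yon S).map (pullback.fst (h' ≫ k') t)) a a' iX := by
    refine IsPullback.of_bot ?_ ha1.symm hcX
    rw [ha2]
    exact bigU
  have hae : RepWith @Etale a := repWith_of_isPullback @Etale sqa ha'
  -- the morphism `U ⟶ V`
  have hcond : (pullback.fst (h' ≫ k') t ≫ h') ≫ k' = pullback.snd (h' ≫ k') t ≫ t := by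
    rw [Category.assoc]; exact pullback.condition
  obtain ⟨h, hh1, hh2⟩ : ∃ h : pullback (h' ≫ k') t ⟶ pullback k' t,
      h ≫ pullback.fst k' t = pullback.fst (h' ≫ k') t ≫ h' ∧
      h ≫ pullback.snd k' t = pullback.snd (h' ≫ k') t :=
    ⟨pullback.lift _ _ hcond, pullback.lift_fst _ _ _, pullback.lift_snd _ _ _⟩
  have haf : a ≫ f = (yon S).map h ≫ b := by
    apply hcY.hom_ext
    · rw [Category.assoc, ← w, ← Category.assoc, ha1, Category.assoc, hah, Category.assoc, hb1,
        ← Category.assoc, ← Category.assoc, ← Functor.map_comp, ← Functor.map_comp, hh1]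
    · rw [Category.assoc, ha2, Category.assoc, hb2, ← Category.assoc, ← Functor.map_comp, hh2]
  have sqSU : IsPullback (pullback.fst (h' ≫ k') t).left (pullback.snd (h' ≫ k') t).left
      (h' ≫ k').left t.left := (IsPullback.of_hasPullback (h' ≫ k') t).map (Over.forget S)
  have sqSV : IsPullback (pullback.fst k' t).left (pullback.snd k' t).left k'.left t.left :=
    (IsPullback.of_hasPullback k' t).map (Over.forget S)
  refine ⟨_, _, _, t, pullback.fst k' t, pullback.fst (h' ≫ k') t, pullback.snd k' t, h, c, b, a,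
    sqW, htt, hbe, hae, hb2, haf, sqb, sqa, ?_, sqSV, ?_⟩
  · rw [← Over.comp_left, hh2, ← Over.comp_left]
    exact sqSU
  · rw [← Over.comp_left, ← Over.comp_left, hh1]

end Tower

section Nilp

/-- For an `n`-th order thickening of algebraic spaces, the base change to ANY étale scheme chart
(not necessarily affine) has kernel with vanishing `(n+1)`-st power. -/
theorem ker_pow_eq_bot_of_chart {B B' : Sp S} (iB : B ⟶ B') (hthick : IsThickMor iB) (n : ℕ)
    (hpow : AffLocT (powZero n) iB) {W' W : Over S} (c' : (yon S).obj W' ⟶ B')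
    (hc' : RepWith @Etale c') (c : (yon S).obj W ⟶ B) (t : W ⟶ W')
    (sq : IsPullback c ((yon S).map t) iB c') : t.left.ker ^ (n + 1) = ⊥ := by
  have htt : thick t.left := hthick.property c' _ _ sq
  haveI : IsClosedImmersion t.left := htt.1
  apply Scheme.IdealSheafData.ext
  funext U
  simp only [Scheme.IdealSheafData.ideal_pow, Pi.pow_apply, Scheme.IdealSheafData.ideal_bot,
    Pi.bot_apply]
  -- the affine open `U` as a chart
  let To : Over S := Over.mk (U.1.ι ≫ W'.hom)
  let τ : To ⟶ W' := Over.homMk U.1.ι rfl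
  haveI hTo : IsAffine To.left := U.2
  have hτe : RepWith @Etale ((yon S).map τ ≫ c') :=
    repWith_comp @Etale ((repWith_yon_map_iff @Etale _).mpr
      (inferInstanceAs (Etale U.1.ι))) hc'
  have hp : powZero n (pullback.fst τ t).left :=
    Groth.Agent.Helper2.ThickBC.powZero_chart iB hthick n hpow c' c t sq hTo hTo
      ((yon S).map τ ≫ c') hτe τ (𝟙 To) (by rw [CategoryTheory.Functor.map_id, Category.id_comp])
  have sqS : IsPullback (pullback.fst τ t).left (pullback.snd τ t).left τ.left t.left :=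
    (IsPullback.of_hasPullback τ t).map (Over.forget S)
  have hker := Scheme.ker_ideal_of_isPullback_of_isOpenImmersion t.left
    (pullback.fst τ t).left (pullback.snd τ t).left U.1.ι sqS
    ⟨⊤, isAffineOpen_top _⟩
  have h1 := congrArg (fun I => I.ideal ⟨⊤, isAffineOpen_top _⟩) hp
  simp only [Scheme.IdealSheafData.ideal_pow, Pi.pow_apply, Scheme.IdealSheafData.ideal_bot,
    Pi.bot_apply] at h1
  rw [hker] at h1
  have hsurj : Function.Surjective (U.1.ι.appIso ⊤).inv.hom :=
    (ConcreteCategory.bijective_of_isIso (U.1.ι.appIso ⊤).inv).2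
  have h2 : (t.left.ker.ideal ⟨U.1.ι ''ᵁ ⊤, (isAffineOpen_top _).image_of_isOpenImmersion _⟩) ^
      (n + 1) = ⊥ := by
    rw [← Ideal.map_comap_of_surjective _ hsurj
      (t.left.ker.ideal ⟨U.1.ι ''ᵁ ⊤, (isAffineOpen_top _).image_of_isOpenImmersion _⟩),
      ← Ideal.map_pow, h1, Ideal.map_bot]
  have key : ∀ U' : W'.left.affineOpens, U' = U → (t.left.ker.ideal U') ^ (n + 1) = ⊥ →
      (t.left.ker.ideal U) ^ (n + 1) = ⊥ := by
    rintro _ rfl h
    exact h
  exact key _ (Subtype.ext (by simp)) h2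

end Nilp

section Transfer

variable {X X' Y Y' B B' : Sp S} (iX : X ⟶ X') (iY : Y ⟶ Y') (iB : B ⟶ B')
  (f : X ⟶ Y) (f' : X' ⟶ Y') (g : Y ⟶ B) (g' : Y' ⟶ B')
  (hcX : IsPullback iX (f ≫ g) (f' ≫ g') iB) (hcY : IsPullback iY g g' iB)
  (w : iX ≫ f' = f ≫ iY)

/-- `LocP P f'` may be checked on compatible chart towers of `X' ⟶ Y' ⟶ B'`. -/
theorem locP_of_forall_tower (P : MorphismProperty Scheme.{u}) [IsEtaleLocalST P]
    (hX' : IsAlgSpace X') (hY' : IsAlgSpace Y') (hB' : IsAlgSpace B')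
    (H : ∀ {W' V' U' : Over S} (c' : (yon S).obj W' ⟶ B') (b' : (yon S).obj V' ⟶ Y')
      (a' : (yon S).obj U' ⟶ X') (k' : V' ⟶ W') (h' : U' ⟶ V'),
      RepWith @Etale c' → RepWith @Etale b' → RepWith @Etale a' →
      b' ≫ g' = (yon S).map k' ≫ c' → a' ≫ f' = (yon S).map h' ≫ b' → P h'.left) :
    LocP P f' := by
  obtain ⟨W', c', hce, hcs⟩ := hB'.atlas
  obtain ⟨V', b', k', hbe, hbs, hbk⟩ := exists_chart_lift hY' g' c' hce hcs
  obtain ⟨U', a', h', hae, has, hah⟩ := exists_chart_lift hX' f' b' hbe hbs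
  exact locP_of_one_chart P hX'.diag hY'.diag f' a' b' h' hae has hbe hah
    (H c' b' a' k' h' hce hbe hae hbk hah)

include hcX hcY w in
/-- The general transfer principle: a statement about schemes over a thickening `T` of schemes,
with side conditions `Q` on `X' ⟶ B'` and `R` on `Y' ⟶ B'`, transfers to algebraic spaces. -/
theorem locP_transfer (P : MorphismProperty Scheme.{u}) [IsEtaleLocalST P]
    (T Q R : MorphismProperty Scheme.{u})
    (hB : IsThickMor iB)
    (hT : ∀ {W' W : Over S} (c' : (yon S).obj W' ⟶ B') (_ : RepWith @Etale c')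
      (c : (yon S).obj W ⟶ B) (t : W ⟶ W'), IsPullback c ((yon S).map t) iB c' → T t.left)
    (Hsch : ∀ {A A' C C' D D' : Scheme.{u}} (jA : A ⟶ A') (jC : C ⟶ C') (jD : D ⟶ D')
      (p : A ⟶ C) (p' : A' ⟶ C') (q : C ⟶ D) (q' : C' ⟶ D'),
      T jD → IsPullback jA (p ≫ q) (p' ≫ q') jD → IsPullback jC q q' jD →
      jA ≫ p' = p ≫ jC → Q (p' ≫ q') → R q' → P p → P p')
    (hX' : IsAlgSpace X') (hY' : IsAlgSpace Y') (hB' : IsAlgSpace B')
    (hQ : LocP Q (f' ≫ g')) (hR : LocP R g') (hP : LocP P f) : LocP P f' := by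
  refine locP_of_forall_tower f' g' P hX' hY' hB' ?_
  intro W' V' U' c' b' a' k' h' hc' hb' ha' hbk hah
  obtain ⟨W, V, U, t, tV, tU, k, h, c, b, a, sqW, -, hbe, hae, hbg, haf, -, -, sqSU, sqSV, comm⟩ :=
    exists_tower iX iY iB f f' g g' hcX hcY w hB c' b' a' k' h' hb' ha' hbk hah
  have hQ' : Q (h'.left ≫ k'.left) := by
    rw [← Over.comp_left]
    refine hQ a' c' (h' ≫ k') ha' hc' ?_
    rw [← Category.assoc, hah, Category.assoc, hbk, Functor.map_comp, Category.assoc]
  exact Hsch tU.left tV.left t.left h.left h'.left k.left k'.left (hT c' hc' c t sqW) sqSU sqSV comm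
    hQ' (hR b' c' k' hb' hc' hbk) (hP a b h hae hbe haf)

include hcX hcY w in
/-- Transfer over a finite order thickening, with `X'` flat over `B'`. -/
theorem locP_transfer_fin (P : MorphismProperty Scheme.{u}) [IsEtaleLocalST P]
    (Hsch : ∀ {A A' C C' D D' : Scheme.{u}} (jA : A ⟶ A') (jC : C ⟶ C') (jD : D ⟶ D')
      (p : A ⟶ C) (p' : A' ⟶ C') (q : C ⟶ D) (q' : C' ⟶ D'),
      MoreMor.IsFiniteOrderThickening jD → IsPullback jA (p ≫ q) (p' ≫ q') jD →
      IsPullback jC q q' jD → jA ≫ p' = p ≫ jC → Flat (p' ≫ q') → P p → P p')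
    (hX' : IsAlgSpace X') (hY' : IsAlgSpace Y') (hB' : IsAlgSpace B')
    (hB : IsFinThickMor iB) (hflat : LocP @Flat (f' ≫ g')) (hP : LocP P f) : LocP P f' := by
  obtain ⟨n, hthick, hpow⟩ := hB
  refine locP_transfer iX iY iB f f' g g' hcX hcY w P
    (fun _ _ j => MoreMor.IsFiniteOrderThickening j) @Flat ⊤ hthick ?_ ?_ hX' hY' hB' hflat
    (fun _ _ _ _ _ _ _ _ => trivial) hP
  · intro W' W c' hc' c t sq
    exact ⟨hthick.property c' _ _ sq,
      ⟨n + 1, ker_pow_eq_bot_of_chart iB hthick n hpow c' hc' c t sq⟩⟩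
  · intro A A' C C' D D' jA jC jD p p' q q' hT s1 s2 hw hfl _ hp
    exact Hsch jA jC jD p p' q q' hT s1 s2 hw hfl hp

include hcX hcY w in
/-- Transfer over an arbitrary thickening, with `X'` flat and locally of finite presentation over
`B'` and `Y'` locally of finite type over `B'`. -/
theorem locP_transfer_gen (P : MorphismProperty Scheme.{u}) [IsEtaleLocalST P]
    (Hsch : ∀ {A A' C C' D D' : Scheme.{u}} (jA : A ⟶ A') (jC : C ⟶ C') (jD : D ⟶ D')
      (p : A ⟶ C) (p' : A' ⟶ C') (q : C ⟶ D) (q' : C' ⟶ D'),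
      MoreMor.IsThickening jD → IsPullback jA (p ≫ q) (p' ≫ q') jD →
      IsPullback jC q q' jD → jA ≫ p' = p ≫ jC → Flat (p' ≫ q') →
      LocallyOfFinitePresentation (p' ≫ q') → LocallyOfFiniteType q' → P p → P p')
    (hX' : IsAlgSpace X') (hY' : IsAlgSpace Y') (hB' : IsAlgSpace B')
    (hB : IsThickMor iB) (hflat : LocP @Flat (f' ≫ g'))
    (hfp : LocP @LocallyOfFinitePresentation (f' ≫ g')) (hg' : LocP @LocallyOfFiniteType g')
    (hP : LocP P f) : LocP P f' := by
  refine locP_transfer iX iY iB f f' g g' hcX hcY w P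
    (fun _ _ j => MoreMor.IsThickening j) (@Flat ⊓ @LocallyOfFinitePresentation)
    @LocallyOfFiniteType hB ?_ ?_ hX' hY' hB' (locP_inf hflat hfp) hg' hP
  · intro W' W c' hc' c t sq
    exact hB.property c' _ _ sq
  · intro A A' C C' D D' jA jC jD p p' q q' hT s1 s2 hw hfl hq hp
    exact Hsch jA jC jD p p' q q' hT s1 s2 hw hfl.1 hfl.2 hq hp

end Transfer

section FlatAt

/-- If `f'` and `f' ≫ g'` are flat, then `g'` is flat at every point in the image of `f'`. -/
theorem isFlatAtMor_of_flat_comp {X' Y' B' : Sp S} (hX' : IsAlgSpace X') (hY' : IsAlgSpace Y')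
    (f' : X' ⟶ Y') (g' : Y' ⟶ B') (hf' : LocP @Flat f') (hfg : LocP @Flat (f' ≫ g'))
    (x' : Points X') : IsFlatAtMor g' (Points.map f' x') := by
  intro V W b c k v hbe hce hbk hv
  obtain ⟨U, a, h, u, hae, hah, hu, hvu⟩ :=
    Groth.Agent.Helper2.ChartThrough.exists_chart_through hX' hY' f' b hbe v x' hv
  subst hvu
  have hF1 : Flat h.left := hf' a b h hae hbe hah
  have hF2 : Flat (h.left ≫ k.left) := by
    rw [← Over.comp_left]
    refine hfg a c (h ≫ k) hae hce ?_
    rw [← Category.assoc, hah, Category.assoc, hbk, Functor.map_comp, Category.assoc]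
  have h1 : ((h.left ≫ k.left).stalkMap u).hom.Flat := Flat.stalkMap _ u
  have h2 : (h.left.stalkMap u).hom.Flat := Flat.stalkMap _ u
  rw [Scheme.Hom.stalkMap_comp] at h1
  let φ : W.left.presheaf.stalk (k.left (h.left u)) →+* V.left.presheaf.stalk (h.left u) :=
    (k.left.stalkMap (h.left u)).hom
  let ψ : V.left.presheaf.stalk (h.left u) →+* U.left.presheaf.stalk u := (h.left.stalkMap u).hom
  letI := φ.toAlgebra
  letI := ψ.toAlgebra
  letI := (ψ.comp φ).toAlgebra
  haveI : IsScalarTower (W.left.presheaf.stalk (k.left (h.left u)))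
      (V.left.presheaf.stalk (h.left u)) (U.left.presheaf.stalk u) :=
    IsScalarTower.of_algebraMap_eq' rfl
  haveI : Module.Flat (W.left.presheaf.stalk (k.left (h.left u))) (U.left.presheaf.stalk u) := h1
  haveI : Module.Flat (V.left.presheaf.stalk (h.left u)) (U.left.presheaf.stalk u) := h2
  haveI : IsLocalHom (algebraMap (V.left.presheaf.stalk (h.left u)) (U.left.presheaf.stalk u)) :=
    inferInstanceAs (IsLocalHom (h.left.stalkMap u).hom)
  haveI : Module.FaithfullyFlat (V.left.presheaf.stalk (h.left u)) (U.left.presheaf.stalk u) :=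
    Module.FaithfullyFlat.of_flat_of_isLocalHom
  exact Module.Flat.of_flat_comp_faithfullyFlat (W.left.presheaf.stalk (k.left (h.left u)))
    (V.left.presheaf.stalk (h.left u)) (U.left.presheaf.stalk u)

end FlatAt

end Groth.Agent.Helper2.DeformChart
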