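import Mathlib
import Groth.Prelude.Def_AlgSpInf
import Groth.Prelude.Def_AlgSp4
import Groth.Prelude.Def_AlgSpMor5
import Groth.Agent.Lib.Helper2.AlgSp.Thick
import Groth.Agent.Lib.Helper2.AlgSp.LocP
import Groth.Agent.Lib.Helper2.AlgSp.Mono
import Groth.Agent.Lib.Helper2.AlgSp.PointsMor
import Groth.Agent.Lib.Helper2.AlgSp.FiniteMor
import Groth.Agent.Lib.Helper2.AlgSp.ZarGlue

/-!
# Isomorphisms, monomorphisms, open immersions and finite locally free morphisms along
cartesian morphisms of thickenings of algebraic spaces (helper2)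

Everything is reduced to the transfer of "étale" (for `f` and for its diagonal), of "flat",
"locally of finite presentation" and "finite".
-/

set_option autoImplicit false
set_option linter.style.haveILetI false
universe u
open CategoryTheory CategoryTheory.Limits AlgebraicGeometry Opposite AlgSp
open Groth.Agent.Helper2.AlgSpBasic Groth.Agent.Helper2.EtaleLocal

namespace Groth.Agent.Helper2.DeformIso
variable {S : Scheme.{u}}

section
variable {X X' Y Y' : Sp S} (iX : X ⟶ X') (iY : Y ⟶ Y') (f : X ⟶ Y) (f' : X' ⟶ Y')

theorem isSurjectiveMor_of_comm (w : iX ≫ f' = f ≫ iY) (hiY : IsSurjectiveMor iY)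
    (hf : IsSurjectiveMor f) : IsSurjectiveMor f' := by
  intro y'
  obtain ⟨y, rfl⟩ := hiY y'
  obtain ⟨x, rfl⟩ := hf y
  exact ⟨Points.map iX x, by rw [← Points.map_comp, w, Points.map_comp]⟩

variable (hcart : IsPullback iX f f' iY)

include hcart in
/-- The map of the fibre squares, as a base change of `iX`, compatible with the diagonals. -/
theorem exists_diag_map : ∃ iP : pullback f f ⟶ pullback f' f',
    IsPullback iP (pullback.snd f f) (pullback.snd f' f') iX ∧
    iX ≫ pullback.diagonal f' = pullback.diagonal f ≫ iP := by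
  have w : f ≫ iY = iX ≫ f' := hcart.w.symm
  obtain ⟨iP, h1, h2⟩ : ∃ iP : pullback f f ⟶ pullback f' f',
      iP ≫ pullback.fst f' f' = pullback.fst f f ≫ iX ∧
      iP ≫ pullback.snd f' f' = pullback.snd f f ≫ iX :=
    ⟨pullback.map f f f' f' iX iX iY w w, pullback.lift_fst _ _ _, pullback.lift_snd _ _ _⟩
  refine ⟨iP, ?_, ?_⟩
  · refine IsPullback.of_right ?_ h2 (IsPullback.of_hasPullback f' f')
    rw [h1, hcart.w]
    exact (IsPullback.of_hasPullback f f).paste_horiz hcart
  · apply pullback.hom_ext
    · rw [Category.assoc, Category.assoc, h1, pullback.diagonal_fst, ← Category.assoc,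
        pullback.diagonal_fst, Category.comp_id, Category.id_comp]
    · rw [Category.assoc, Category.assoc, h2, pullback.diagonal_snd, ← Category.assoc,
        pullback.diagonal_snd, Category.comp_id, Category.id_comp]

include hcart in
/-- Monomorphisms lift along thickenings, provided "étale" lifts for the diagonal. -/
theorem mono_transfer (hX : IsAlgSpace X) (hY : IsAlgSpace Y) (hX' : IsAlgSpace X')
    (hY' : IsAlgSpace Y') (hiX : RepWith @Surjective iX)
    (Hdiag : LocP @Etale (pullback.diagonal f) → LocP @Etale (pullback.diagonal f'))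
    (hf : Mono f) : Mono f' := by
  obtain ⟨iP, sqP, wP⟩ := exists_diag_map iX iY f f' hcart
  have hP : IsAlgSpace (pullback f f) :=
    isAlgSpace_of_isPullback hY.diag hX hX f f _ _ (IsPullback.of_hasPullback f f)
  have hP' : IsAlgSpace (pullback f' f') :=
    isAlgSpace_of_isPullback hY'.diag hX' hX' f' f' _ _ (IsPullback.of_hasPullback f' f')
  haveI : IsIso (pullback.diagonal f) := (pullback.isIso_diagonal_iff f).mpr hf
  have het : LocP @Etale (pullback.diagonal f') :=
    Hdiag (locP_of_isIso @Etale hP.diag (pullback.diagonal f))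
  have hiP : IsSurjectiveMor iP :=
    isSurjectiveMor_of_repWith_surjective iP (repWith_of_isPullback @Surjective sqP.flip hiX)
  have hs : IsSurjectiveMor (pullback.diagonal f') :=
    isSurjectiveMor_of_comm iX iP (pullback.diagonal f) (pullback.diagonal f') wP hiP
      (isSurjectiveMor_of_isIso _)
  haveI : Mono (pullback.diagonal f') := inferInstance
  haveI : IsIso (pullback.diagonal f') :=
    isIso_of_mono_of_locP_etale_surjective hX' hP' (pullback.diagonal f') het hs
  exact (pullback.isIso_diagonal_iff f').mp inferInstance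

include hcart in
/-- Isomorphisms lift along thickenings, provided "étale" lifts for `f` and monomorphisms lift. -/
theorem isIso_transfer (hY : IsAlgSpace Y) (hX' : IsAlgSpace X') (hY' : IsAlgSpace Y')
    (hiY : RepWith @Surjective iY)
    (Het : LocP @Etale f → LocP @Etale f') (Hmono : Mono f → Mono f')
    (hf : IsIso f) : IsIso f' := by
  haveI : Mono f' := Hmono inferInstance
  have het : LocP @Etale f' := Het (locP_of_isIso @Etale hY.diag f)
  have hs : IsSurjectiveMor f' :=
    isSurjectiveMor_of_comm iX iY f f' hcart.w (isSurjectiveMor_of_repWith_surjective iY hiY)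
      (isSurjectiveMor_of_isIso f)
  exact isIso_of_mono_of_locP_etale_surjective hX' hY' f' het hs

include hcart in
/-- Open immersions lift along thickenings, provided "étale" lifts for `f` and monomorphisms
lift. -/
theorem openImm_transfer (hX : IsAlgSpace X) (hY : IsAlgSpace Y) (hX' : IsAlgSpace X')
    (hY' : IsAlgSpace Y')
    (Het : LocP @Etale f → LocP @Etale f') (Hmono : Mono f → Mono f') :
    RepWith @IsOpenImmersion f ↔ RepWith @IsOpenImmersion f' := by
  constructor
  · intro h
    obtain ⟨h1, h2⟩ := (repWith_isOpenImmersion_iff hX hY f).mp h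
    exact (repWith_isOpenImmersion_iff hX' hY' f').mpr ⟨Hmono h1, Het h2⟩
  · intro h
    exact repWith_of_isPullback @IsOpenImmersion hcart h

include hcart in
theorem isIso_of_isIso_base (h : IsIso f') : IsIso f := by
  have := hcart.flip
  exact this.isIso_fst_of_isIso

include hcart in
theorem mono_of_mono_base (h : Mono f') : Mono f :=
  hcart.flip.mono_fst_of_mono

end

section FinLocFree

variable {X Y : Sp S}

/-- Finite locally free = finite + flat + locally of finite presentation. -/
theorem isFinLocFreeMor_iff (hX : IsAlgSpace X) (hY : IsAlgSpace Y) (f : X ⟶ Y) :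
    IsFinLocFreeMor f ↔
      IsFiniteMor f ∧ LocP @Flat f ∧ LocP @LocallyOfFinitePresentation f := by
  constructor
  · intro h
    refine ⟨?_, ?_, ?_⟩
    · intro Z hZ g
      have hrep := h.rep
      have sq := hrep.isPullback g
      have hfin : Mor2.IsFinLocFree (hrep.snd g).left := h.property g _ _ sq
      haveI := hZ
      haveI : IsFinite (hrep.snd g).left := hfin.1
      exact ⟨_, hrep.snd g, hrep.fst g, sq, isAffine_of_isAffineHom (hrep.snd g).left, hfin.1⟩
    · exact locP_of_repWith @Flat hX.diag f
        (repWith_mono (fun _ _ g (hg : Mor2.IsFinLocFree g) => hg.2.1) h)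
    · exact locP_of_repWith @LocallyOfFinitePresentation hX.diag f
        (repWith_mono (fun _ _ g (hg : Mor2.IsFinLocFree g) => hg.2.2) h)
  · rintro ⟨h1, h2, h3⟩
    have hfin : RepWith @IsFinite f := Groth.Agent.Helper2.ZarGlue.repWith_of_affine @IsFinite f (fun Z hZ g => by
      obtain ⟨W, i, fst, sq, -, hi⟩ := h1 hZ g
      exact ⟨W, i, fst, sq, hi⟩)
    have hrep := hfin.rep
    have hfl : RepWith @Flat f := repWith_of_locP @Flat hX hY f hrep h2
    have hfp : RepWith @LocallyOfFinitePresentation f :=
      repWith_of_locP @LocallyOfFinitePresentation hX hY f hrep h3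
    exact ⟨hrep, fun T XT g fst snd sq =>
      ⟨hfin.property g fst snd sq, hfl.property g fst snd sq, hfp.property g fst snd sq⟩⟩

variable {X' Y' : Sp S} (iX : X ⟶ X') (iY : Y ⟶ Y') (f : X ⟶ Y) (f' : X' ⟶ Y')
  (hcart : IsPullback iX f f' iY)

include hcart in
theorem isFinLocFreeMor_transfer (hX : IsAlgSpace X) (hY : IsAlgSpace Y) (hX' : IsAlgSpace X')
    (hY' : IsAlgSpace Y')
    (Hfin : IsFiniteMor f → IsFiniteMor f') (Hflat : LocP @Flat f → LocP @Flat f')
    (Hfp : LocP @LocallyOfFinitePresentation f → LocP @LocallyOfFinitePresentation f') :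
    IsFinLocFreeMor f ↔ IsFinLocFreeMor f' := by
  constructor
  · intro h
    obtain ⟨h1, h2, h3⟩ := (isFinLocFreeMor_iff hX hY f).mp h
    exact (isFinLocFreeMor_iff hX' hY' f').mpr ⟨Hfin h1, Hflat h2, Hfp h3⟩
  · intro h
    exact repWith_of_isPullback finLocFree hcart h

include hcart in
/-- The degree of a finite locally free morphism may be computed after restriction to a
thickening. -/
theorem isFinLocFreeOfDegMor_transfer (hiY : IsThickMor iY)
    (H : IsFinLocFreeMor f ↔ IsFinLocFreeMor f') (d : ℕ) :
    IsFinLocFreeOfDegMor d f ↔ IsFinLocFreeOfDegMor d f' := by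
  constructor
  · intro h
    have hflf : IsFinLocFreeMor f' :=
      H.mp (repWith_mono (fun _ _ g (hg : Mor2.IsFinLocFreeOfDeg d g) => hg.1) h)
    refine ⟨hflf.rep, fun T XT g fst snd sq => ?_⟩
    have hsnd : Mor2.IsFinLocFree snd.left := hflf.property g fst snd sq
    refine ⟨hsnd, fun y => ?_⟩
    -- the thickening of `T`
    have hrepY := hiY.rep
    have sqT := hrepY.isPullback g
    have hτ : thick (hrepY.snd g).left := hiY.property g _ _ sqT
    obtain ⟨y₀, rfl⟩ := hτ.2.surj y
    -- the base change of `f` to the thickening of `T`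
    have hrep := h.rep
    have sq₀ := hrep.isPullback (hrepY.fst g)
    have hdeg : Mor2.IsFinLocFreeOfDeg d (hrep.snd (hrepY.fst g)).left :=
      h.property _ _ _ sq₀
    -- comparison map
    have big : IsPullback (hrep.fst (hrepY.fst g) ≫ iX)
        ((yon S).map (hrep.snd (hrepY.fst g))) f' (hrepY.fst g ≫ iY) :=
      sq₀.paste_horiz hcart
    rw [sqT.w] at big
    have hw : (hrep.fst (hrepY.fst g) ≫ iX) ≫ f' =
        ((yon S).map (hrep.snd (hrepY.fst g)) ≫ (yon S).map (hrepY.snd g)) ≫ g := by
      rw [Category.assoc _ _ g]; exact big.w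
    obtain ⟨m, hm⟩ := (yon S).map_surjective (sq.lift _ _ hw)
    have hm1 : (yon S).map m ≫ fst = hrep.fst (hrepY.fst g) ≫ iX := by rw [hm, sq.lift_fst]
    have hm2 : (yon S).map m ≫ (yon S).map snd =
        (yon S).map (hrep.snd (hrepY.fst g)) ≫ (yon S).map (hrepY.snd g) := by
      rw [hm, sq.lift_snd]
    have sqm : IsPullback ((yon S).map m) ((yon S).map (hrep.snd (hrepY.fst g)))
        ((yon S).map snd) ((yon S).map (hrepY.snd g)) := by
      refine IsPullback.of_right ?_ hm2 sq
      rw [hm1]
      exact big
    have sqm' : IsPullback m (hrep.snd (hrepY.fst g)) snd (hrepY.snd g) :=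
      IsPullback.of_map (yon S) ((yon S).map_injective (by
        rw [Functor.map_comp, Functor.map_comp]; exact hm2)) sqm
    have sqS : IsPullback m.left (hrep.snd (hrepY.fst g)).left snd.left (hrepY.snd g).left :=
      sqm'.map (Over.forget S)
    haveI : Flat snd.left := hsnd.2.1
    haveI : IsFinite snd.left := hsnd.1
    have := Scheme.Hom.finrank_of_isPullback _ _ _ _ sqS y₀
    exact this.symm.trans (hdeg.2 y₀)
  · intro h
    exact repWith_of_isPullback (finLocFreeOfDeg d) hcart h

end FinLocFree

end Groth.Agent.Helper2.DeformIso
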