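import Mathlib
import Groth.Agent.Lib.Helper2.AlgSp.DeformChart
import Groth.Agent.Lib.Helper2.AlgSp.DeformIso

/-!
# The diagonal of a deformation situation is a deformation situation (helper2)
-/

set_option autoImplicit false
set_option linter.style.haveILetI false
universe u
open CategoryTheory CategoryTheory.Limits AlgebraicGeometry Opposite AlgSp
open Groth.Agent.Helper2.AlgSpBasic Groth.Agent.Helper2.EtaleLocal

namespace Groth.Agent.Helper2.DeformDiag
variable {S : Scheme.{u}}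

variable {X X' Y Y' B B' : Sp S} (iX : X ⟶ X') (iY : Y ⟶ Y') (iB : B ⟶ B')
  (f : X ⟶ Y) (f' : X' ⟶ Y') (g : Y ⟶ B) (g' : Y' ⟶ B')
  (hcX : IsPullback iX (f ≫ g) (f' ≫ g') iB) (hcY : IsPullback iY g g' iB)
  (w : iX ≫ f' = f ≫ iY)

include hcX hcY w in
/-- The deformation data of the diagonals `X ⟶ X ×_Y X` and `X' ⟶ X' ×_{Y'} X'`. -/
theorem exists_diag_data : ∃ iP : pullback f f ⟶ pullback f' f',
    IsPullback iX (pullback.diagonal f ≫ (pullback.snd f f ≫ f ≫ g))
      (pullback.diagonal f' ≫ (pullback.snd f' f' ≫ f' ≫ g')) iB ∧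
    IsPullback iP (pullback.snd f f ≫ f ≫ g) (pullback.snd f' f' ≫ f' ≫ g') iB ∧
    iX ≫ pullback.diagonal f' = pullback.diagonal f ≫ iP ∧
    pullback.diagonal f' ≫ (pullback.snd f' f' ≫ f' ≫ g') = f' ≫ g' := by
  have hcart : IsPullback iX f f' iY := IsPullback.of_bot hcX w hcY
  obtain ⟨iP, sqP, wP⟩ := Groth.Agent.Helper2.DeformIso.exists_diag_map iX iY f f' hcart
  refine ⟨iP, ?_, sqP.paste_vert hcX, wP, ?_⟩
  · rw [pullback.diagonal_snd_assoc, pullback.diagonal_snd_assoc]
    exact hcX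
  · rw [pullback.diagonal_snd_assoc]

include hcX hcY w in
/-- Étaleness of the diagonal lifts along a finite order thickening. -/
theorem diag_etale_transfer_fin
    (Hsch : ∀ {A A' C C' D D' : Scheme.{u}} (jA : A ⟶ A') (jC : C ⟶ C') (jD : D ⟶ D')
      (p : A ⟶ C) (p' : A' ⟶ C') (q : C ⟶ D) (q' : C' ⟶ D'),
      MoreMor.IsFiniteOrderThickening jD → IsPullback jA (p ≫ q) (p' ≫ q') jD →
      IsPullback jC q q' jD → jA ≫ p' = p ≫ jC → Flat (p' ≫ q') → Etale p → Etale p')
    (hX' : IsAlgSpace X') (hY' : IsAlgSpace Y') (hB' : IsAlgSpace B')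
    (hB : IsFinThickMor iB) (hflat : LocP @Flat (f' ≫ g'))
    (h : LocP @Etale (pullback.diagonal f)) : LocP @Etale (pullback.diagonal f') := by
  obtain ⟨iP, s1, s2, wP, e⟩ := exists_diag_data iX iY iB f f' g g' hcX hcY w
  have hP' : IsAlgSpace (pullback f' f') :=
    isAlgSpace_of_isPullback hY'.diag hX' hX' f' f' _ _ (IsPullback.of_hasPullback f' f')
  exact Groth.Agent.Helper2.DeformChart.locP_transfer_fin iX iP iB (pullback.diagonal f)
    (pullback.diagonal f') (pullback.snd f f ≫ f ≫ g) (pullback.snd f' f' ≫ f' ≫ g') s1 s2 wP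
    @Etale Hsch hX' hP' hB' hB (by rw [e]; exact hflat) h

include hcX hcY w in
/-- Étaleness of the diagonal lifts along an arbitrary thickening (with finiteness hypotheses). -/
theorem diag_etale_transfer_gen
    (Hsch : ∀ {A A' C C' D D' : Scheme.{u}} (jA : A ⟶ A') (jC : C ⟶ C') (jD : D ⟶ D')
      (p : A ⟶ C) (p' : A' ⟶ C') (q : C ⟶ D) (q' : C' ⟶ D'),
      MoreMor.IsThickening jD → IsPullback jA (p ≫ q) (p' ≫ q') jD →
      IsPullback jC q q' jD → jA ≫ p' = p ≫ jC → Flat (p' ≫ q') →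
      LocallyOfFinitePresentation (p' ≫ q') → LocallyOfFiniteType q' → Etale p → Etale p')
    (hX' : IsAlgSpace X') (hY' : IsAlgSpace Y') (hB' : IsAlgSpace B')
    (hB : IsThickMor iB) (hflat : LocP @Flat (f' ≫ g'))
    (hfp : LocP @LocallyOfFinitePresentation (f' ≫ g'))
    (hft' : LocP @LocallyOfFiniteType f')
    (h : LocP @Etale (pullback.diagonal f)) : LocP @Etale (pullback.diagonal f') := by
  obtain ⟨iP, s1, s2, wP, e⟩ := exists_diag_data iX iY iB f f' g g' hcX hcY w
  have hP' : IsAlgSpace (pullback f' f') :=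
    isAlgSpace_of_isPullback hY'.diag hX' hX' f' f' _ _ (IsPullback.of_hasPullback f' f')
  have h1 : LocP @LocallyOfFiniteType (pullback.snd f' f') :=
    locP_of_isPullback @LocallyOfFiniteType hX' hY' hX' hP' f' f' (pullback.fst f' f')
      (pullback.snd f' f') (IsPullback.of_hasPullback f' f') hft'
  have h2 : LocP @LocallyOfFiniteType (f' ≫ g') :=
    locP_mono (fun _ _ q (hq : LocallyOfFinitePresentation q) =>
      (inferInstance : LocallyOfFiniteType q)) hfp
  have h3 : LocP @LocallyOfFiniteType (pullback.snd f' f' ≫ f' ≫ g') :=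
    locP_comp @LocallyOfFiniteType hP' hX' hB' _ _ h1 h2
  exact Groth.Agent.Helper2.DeformChart.locP_transfer_gen iX iP iB (pullback.diagonal f)
    (pullback.diagonal f') (pullback.snd f f ≫ f ≫ g) (pullback.snd f' f' ≫ f' ≫ g') s1 s2 wP
    @Etale Hsch hX' hP' hB' hB (by rw [e]; exact hflat) (by rw [e]; exact hfp) h3 h

end Groth.Agent.Helper2.DeformDiag
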