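import Mathlib
import Groth.Agent.Lib.Helper2.AlgSp.Mor
import Groth.Agent.Lib.Helper2.AlgSt.RepDiagApps2
import Groth.Agent.Lib.Helper2.AlgSp.ImmDescent
import Groth.Agent.Lib.Helper4.UnivClosed2
import Groth.Agent.S9951
import Groth.Agent.S10290

/-!
# Separatedness and discrete valuation rings, locally Noetherian target (helper2)
-/

set_option autoImplicit false
set_option linter.style.haveILetI false

open CategoryTheory CategoryTheory.Limits AlgebraicGeometry Opposite AlgSp TopologicalSpace

universe u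

namespace Groth.Agent.Helper2.DvrSep

open Groth.Agent.Helper2.AlgSpBasic

variable {S : Scheme.{u}}

/-- Lifting along a base change of the diagonal, from uniqueness of lifts for `f` over discrete
valuation rings. -/
theorem exists_lift_diagonal {X Y : Space S} (f : X ⟶ Y) {T W : Over S}
    (g : (yon S).obj T ⟶ pullback f.hom f.hom) (fst : (yon S).obj W ⟶ X.obj) (snd : W ⟶ T)
    (sq : IsPullback fst ((yon S).map snd) (pullback.diagonal f.hom) g)
    (hu : ∀ sqV : ValSq f.hom, IsDiscreteValuationRing sqV.A → sqV.HasUniq)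
    (A : Type u) [CommRing A] [IsDomain A] [IsDiscreteValuationRing A]
    (i₁ : Spec (CommRingCat.of (FractionRing A)) ⟶ W.left) (i₂ : Spec (CommRingCat.of A) ⟶ T.left)
    (w : i₁ ≫ snd.left = Spec.map (CommRingCat.ofHom (algebraMap A (FractionRing A))) ≫ i₂) :
    ∃ l : Spec (CommRingCat.of A) ⟶ W.left, l ≫ snd.left = i₂ ∧
      Spec.map (CommRingCat.ofHom (algebraMap A (FractionRing A))) ≫ l = i₁ := by
  haveI : Mono snd.left :=
    (repWith_diagonal_properties X.property f.hom).2.2.1.property g fst snd sq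
  let str : Spec (CommRingCat.of A) ⟶ S := i₂ ≫ T.hom
  let i₂O : Over.mk str ⟶ T := Over.homMk i₂ rfl
  have hw1 : i₁ ≫ W.hom =
      Spec.map (CommRingCat.ofHom (algebraMap A (FractionRing A))) ≫ str := by
    rw [← Over.w snd, ← Category.assoc, w, Category.assoc]
  let i₁O : Over.mk (Spec.map (CommRingCat.ofHom (algebraMap A (FractionRing A))) ≫ str) ⟶ W :=
    Over.homMk i₁ hw1
  let jO : Over.mk (Spec.map (CommRingCat.ofHom (algebraMap A (FractionRing A))) ≫ str) ⟶
      Over.mk str :=
    Over.homMk (Spec.map (CommRingCat.ofHom (algebraMap A (FractionRing A)))) rfl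
  have hij : i₁O ≫ snd = jO ≫ i₂O := by
    apply Over.OverMorphism.ext
    exact w
  let a : (yon S).obj (Over.mk str) ⟶ X.obj := (yon S).map i₂O ≫ g ≫ pullback.fst f.hom f.hom
  let b : (yon S).obj (Over.mk str) ⟶ X.obj := (yon S).map i₂O ≫ g ≫ pullback.snd f.hom f.hom
  have hfst1 : fst = (yon S).map snd ≫ g ≫ pullback.fst f.hom f.hom := by
    have := congrArg (· ≫ pullback.fst f.hom f.hom) sq.w
    simpa only [Category.assoc, pullback.diagonal_fst, Category.comp_id] using this
  have hfst2 : fst = (yon S).map snd ≫ g ≫ pullback.snd f.hom f.hom := by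
    have := congrArg (· ≫ pullback.snd f.hom f.hom) sq.w
    simpa only [Category.assoc, pullback.diagonal_snd, Category.comp_id] using this
  have hyy : (yon S).map i₁O ≫ (yon S).map snd = (yon S).map jO ≫ (yon S).map i₂O := by
    rw [← Functor.map_comp, ← Functor.map_comp, hij]
  have ha : (yon S).map jO ≫ a = (yon S).map i₁O ≫ fst :=
    calc (yon S).map jO ≫ a
        = ((yon S).map jO ≫ (yon S).map i₂O) ≫ g ≫ pullback.fst f.hom f.hom :=
          (Category.assoc _ _ _).symm
      _ = ((yon S).map i₁O ≫ (yon S).map snd) ≫ g ≫ pullback.fst f.hom f.hom :=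
          congrArg (· ≫ g ≫ pullback.fst f.hom f.hom) hyy.symm
      _ = (yon S).map i₁O ≫ ((yon S).map snd ≫ g ≫ pullback.fst f.hom f.hom) := Category.assoc _ _ _
      _ = (yon S).map i₁O ≫ fst := congrArg ((yon S).map i₁O ≫ ·) hfst1.symm
  have hb : (yon S).map jO ≫ b = (yon S).map i₁O ≫ fst :=
    calc (yon S).map jO ≫ b
        = ((yon S).map jO ≫ (yon S).map i₂O) ≫ g ≫ pullback.snd f.hom f.hom :=
          (Category.assoc _ _ _).symm
      _ = ((yon S).map i₁O ≫ (yon S).map snd) ≫ g ≫ pullback.snd f.hom f.hom :=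
          congrArg (· ≫ g ≫ pullback.snd f.hom f.hom) hyy.symm
      _ = (yon S).map i₁O ≫ ((yon S).map snd ≫ g ≫ pullback.snd f.hom f.hom) := Category.assoc _ _ _
      _ = (yon S).map i₁O ≫ fst := congrArg ((yon S).map i₁O ≫ ·) hfst2.symm
  have hab : b ≫ f.hom = a ≫ f.hom := by
    simp only [a, b, Category.assoc, pullback.condition]
  let sqV : ValSq f.hom :=
    { A := A, K := FractionRing A, str := str, top := (yon S).map i₁O ≫ fst, bot := a ≫ f.hom,
      comm := by
        rw [← ha, Category.assoc] }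
  have hdvr : IsDiscreteValuationRing sqV.A := (inferInstance : IsDiscreteValuationRing A)
  have hEq : a = b := hu sqV hdvr a b ha rfl hb hab
  have hlift : a ≫ pullback.diagonal f.hom = (yon S).map i₂O ≫ g := by
    apply pullback.hom_ext
    · rw [Category.assoc, pullback.diagonal_fst, Category.comp_id, Category.assoc]
    · rw [Category.assoc, pullback.diagonal_snd, Category.comp_id, Category.assoc, hEq]
  obtain ⟨ℓ, hℓ⟩ := (yon S).map_surjective (sq.lift a ((yon S).map i₂O) hlift)
  have hℓ2 : ℓ ≫ snd = i₂O := by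
    apply (yon S).map_injective
    rw [Functor.map_comp, hℓ, sq.lift_snd]
  have hℓ2' : ℓ.left ≫ snd.left = i₂ := congrArg (fun t => t.left) hℓ2
  refine ⟨ℓ.left, hℓ2', ?_⟩
  rw [← cancel_mono snd.left, Category.assoc, hℓ2', w]

/-- `S10064`, the converse direction. -/
theorem isSeparatedMor_of_dvr_uniq {X Y : Space S} (f : X ⟶ Y)
    (hqs : IsQuasiSeparatedMor f.hom) (hft : LocP @LocallyOfFiniteType f.hom)
    (hY : IsLocNoethSp Y.obj)
    (hu : ∀ sqV : ValSq f.hom, IsDiscreteValuationRing sqV.A → sqV.HasUniq) :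
    IsSeparatedMor f.hom := by
  obtain ⟨hrep, hlft, hmono, -, -⟩ := repWith_diagonal_properties X.property f.hom
  -- the fibre square is locally Noetherian
  have hXN : IsLocNoethSp X.obj := Groth.Agent.S9951.result f hft hY
  have sqZ := IsPullback.of_hasPullback f.hom f.hom
  have hZ : IsAlgSpace (pullback f.hom f.hom) :=
    isAlgSpace_of_isPullback Y.property.diag X.property X.property _ _ _ _ sqZ
  have hfstl : LocP @LocallyOfFiniteType (pullback.fst f.hom f.hom) :=
    locP_of_isPullback @LocallyOfFiniteType X.property Y.property X.property hZ f.hom f.hom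
      (pullback.snd f.hom f.hom) (pullback.fst f.hom f.hom) sqZ.flip hft
  have hZN : IsLocNoethSp (pullback f.hom f.hom) :=
    Groth.Agent.S9951.result (X := ⟨pullback f.hom f.hom, hZ⟩) (Y := X)
      (ObjectProperty.homMk (pullback.fst f.hom f.hom)) hfstl hXN
  obtain ⟨T₀, p, hpe, hps, hT₀⟩ := hZN
  haveI : IsLocallyNoetherian T₀.left := hT₀
  have sq := hrep.isPullback p
  obtain ⟨snd, hsnd⟩ : ∃ snd : hrep.pullback p ⟶ T₀, snd = hrep.snd p := ⟨_, rfl⟩
  rw [← hsnd] at sq
  refine Groth.Agent.Helper2.ImmDescent.repWith_isClosedImmersion_of_etale_cover (pullback.diagonal f.hom) T₀ p hpe hps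
    (hrep.fst p) ((yon S).map snd) sq ?_
  rw [repWith_yon_map_iff]
  haveI : LocallyOfFiniteType snd.left := hlft.property p _ snd sq
  haveI : Mono snd.left := hmono.property p _ snd sq
  haveI : QuasiCompact snd.left := hqs.property p _ snd sq
  haveI : UniversallyClosed snd.left := by
    rw [Groth.Agent.Lib.Helper4.UC.S9213_main snd.left]
    intro A _ _ _ x y hxy
    exact exists_lift_diagonal f p (hrep.fst p) snd sq hu A x y hxy
  exact Groth.Agent.Helper2.AlgStLib.isClosedImmersion_of_mono_of_universallyClosed snd.left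

end Groth.Agent.Helper2.DvrSep
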