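import Mathlib
import Groth.Agent.Lib.Helper2.AlgSp.DvrSep

/-!
# Separatedness and discrete valuation rings through a dense chart (helper2)
-/

set_option autoImplicit false
set_option linter.style.haveILetI false

open CategoryTheory CategoryTheory.Limits AlgebraicGeometry Opposite AlgSp TopologicalSpace

universe u

namespace Groth.Agent.Helper2.DvrSep

open Groth.Agent.Helper2.AlgSpBasic

variable {S : Scheme.{u}}

/-- Lifting along a base change of the diagonal, from uniqueness of lifts for `h ≫ f` over discrete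
valuation rings, for generic points factoring through a chart over `U`. -/
theorem exists_lift_diagonal_through {U X Y : Space S} (h : U ⟶ X) (f : X ⟶ Y) {T W U' : Over S}
    (g : (yon S).obj T ⟶ pullback f.hom f.hom) (fst : (yon S).obj W ⟶ X.obj) (snd : W ⟶ T)
    (sq : IsPullback fst ((yon S).map snd) (pullback.diagonal f.hom) g)
    (h' : U' ⟶ W) (pU : (yon S).obj U' ⟶ U.obj) (hpU : pU ≫ h.hom = (yon S).map h' ≫ fst)
    (hval : ∀ sq : ValSq (h.hom ≫ f.hom), IsDiscreteValuationRing sq.A →
      ∀ l l' : (yon S).obj sq.ptA ⟶ X.obj,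
        (yon S).map sq.j ≫ l = sq.top ≫ h.hom ∧ l ≫ f.hom = sq.bot →
        (yon S).map sq.j ≫ l' = sq.top ≫ h.hom ∧ l' ≫ f.hom = sq.bot → l = l')
    (A : Type u) [CommRing A] [IsDomain A] [IsDiscreteValuationRing A]
    (u : Spec (CommRingCat.of (FractionRing A)) ⟶ U'.left) (i₂ : Spec (CommRingCat.of A) ⟶ T.left)
    (w : u ≫ h'.left ≫ snd.left =
      Spec.map (CommRingCat.ofHom (algebraMap A (FractionRing A))) ≫ i₂) :
    ∃ l : Spec (CommRingCat.of A) ⟶ W.left, l ≫ snd.left = i₂ ∧
      Spec.map (CommRingCat.ofHom (algebraMap A (FractionRing A))) ≫ l = u ≫ h'.left := by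
  haveI : Mono snd.left :=
    (repWith_diagonal_properties X.property f.hom).2.2.1.property g fst snd sq
  let str : Spec (CommRingCat.of A) ⟶ S := i₂ ≫ T.hom
  let i₂O : Over.mk str ⟶ T := Over.homMk i₂ rfl
  have hw0 : u ≫ U'.hom =
      Spec.map (CommRingCat.ofHom (algebraMap A (FractionRing A))) ≫ str := by
    rw [← Over.w h', ← Over.w snd, ← Category.assoc, ← Category.assoc, Category.assoc u, w,
      Category.assoc]
  let uO : Over.mk (Spec.map (CommRingCat.ofHom (algebraMap A (FractionRing A))) ≫ str) ⟶ U' :=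
    Over.homMk u hw0
  let i₁O : Over.mk (Spec.map (CommRingCat.ofHom (algebraMap A (FractionRing A))) ≫ str) ⟶ W :=
    uO ≫ h'
  let jO : Over.mk (Spec.map (CommRingCat.ofHom (algebraMap A (FractionRing A))) ≫ str) ⟶
      Over.mk str :=
    Over.homMk (Spec.map (CommRingCat.ofHom (algebraMap A (FractionRing A)))) rfl
  have hij : i₁O ≫ snd = jO ≫ i₂O := by
    apply Over.OverMorphism.ext
    show (u ≫ h'.left) ≫ snd.left = _
    rw [Category.assoc]
    exact w
  let a : (yon S).obj (Over.mk str) ⟶ X.obj := (yon S).map i₂O ≫ g ≫ pullback.fst f.hom f.hom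
  let b : (yon S).obj (Over.mk str) ⟶ X.obj := (yon S).map i₂O ≫ g ≫ pullback.snd f.hom f.hom
  have hfst1 : fst = (yon S).map snd ≫ g ≫ pullback.fst f.hom f.hom := by
    have := congrArg (· ≫ pullback.fst f.hom f.hom) sq.w
    simpa only [Category.assoc, pullback.diagonal_fst, Category.comp_id] using this
  have hfst2 : fst = (yon S).map snd ≫ g ≫ pullback.snd f.hom f.hom := by
    have := congrArg (· ≫ pullback.snd f.hom f.hom) sq.w
    simpa only [Category.assoc, pullback.diagonal_snd, Category.comp_id] using this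
  have hyy : (yon S).map i₁O ≫ (yon S).map snd = (yon S).map jO ≫ (yon S).map i₂O := by
    rw [← Functor.map_comp, ← Functor.map_comp, hij]
  have ha : (yon S).map jO ≫ a = (yon S).map i₁O ≫ fst :=
    calc (yon S).map jO ≫ a
        = ((yon S).map jO ≫ (yon S).map i₂O) ≫ g ≫ pullback.fst f.hom f.hom :=
          (Category.assoc _ _ _).symm
      _ = ((yon S).map i₁O ≫ (yon S).map snd) ≫ g ≫ pullback.fst f.hom f.hom :=
          congrArg (· ≫ g ≫ pullback.fst f.hom f.hom) hyy.symm
      _ = (yon S).map i₁O ≫ ((yon S).map snd ≫ g ≫ pullback.fst f.hom f.hom) := Category.assoc _ _ _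
      _ = (yon S).map i₁O ≫ fst := congrArg ((yon S).map i₁O ≫ ·) hfst1.symm
  have hb : (yon S).map jO ≫ b = (yon S).map i₁O ≫ fst :=
    calc (yon S).map jO ≫ b
        = ((yon S).map jO ≫ (yon S).map i₂O) ≫ g ≫ pullback.snd f.hom f.hom :=
          (Category.assoc _ _ _).symm
      _ = ((yon S).map i₁O ≫ (yon S).map snd) ≫ g ≫ pullback.snd f.hom f.hom :=
          congrArg (· ≫ g ≫ pullback.snd f.hom f.hom) hyy.symm
      _ = (yon S).map i₁O ≫ ((yon S).map snd ≫ g ≫ pullback.snd f.hom f.hom) := Category.assoc _ _ _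
      _ = (yon S).map i₁O ≫ fst := congrArg ((yon S).map i₁O ≫ ·) hfst2.symm
  have hab : b ≫ f.hom = a ≫ f.hom := by
    simp only [a, b, Category.assoc, pullback.condition]
  -- the top arrow through `U`
  have htop : ((yon S).map uO ≫ pU) ≫ h.hom = (yon S).map i₁O ≫ fst := by
    show _ = (yon S).map (uO ≫ h') ≫ fst
    rw [Functor.map_comp, Category.assoc, Category.assoc, hpU]
  let sqV : ValSq (h.hom ≫ f.hom) :=
    { A := A, K := FractionRing A, str := str, top := (yon S).map uO ≫ pU, bot := a ≫ f.hom,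
      comm :=
        calc ((yon S).map uO ≫ pU) ≫ h.hom ≫ f.hom
            = (((yon S).map uO ≫ pU) ≫ h.hom) ≫ f.hom := (Category.assoc _ _ _).symm
          _ = ((yon S).map i₁O ≫ fst) ≫ f.hom := congrArg (· ≫ f.hom) htop
          _ = ((yon S).map jO ≫ a) ≫ f.hom := congrArg (· ≫ f.hom) ha.symm
          _ = (yon S).map jO ≫ a ≫ f.hom := Category.assoc _ _ _ }
  have hdvr : IsDiscreteValuationRing sqV.A := (inferInstance : IsDiscreteValuationRing A)
  have hEq : a = b :=
    hval sqV hdvr a b ⟨ha.trans htop.symm, rfl⟩ ⟨hb.trans htop.symm, hab⟩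
  have hlift : a ≫ pullback.diagonal f.hom = (yon S).map i₂O ≫ g := by
    apply pullback.hom_ext
    · rw [Category.assoc, pullback.diagonal_fst, Category.comp_id, Category.assoc]
    · rw [Category.assoc, pullback.diagonal_snd, Category.comp_id, Category.assoc, hEq]
  obtain ⟨ℓ, hℓ⟩ := (yon S).map_surjective (sq.lift a ((yon S).map i₂O) hlift)
  have hℓ2 : ℓ ≫ snd = i₂O := by
    apply (yon S).map_injective
    rw [Functor.map_comp, hℓ, sq.lift_snd]
  have hℓ2' : ℓ.left ≫ snd.left = i₂ := congrArg (fun t => t.left) hℓ2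
  refine ⟨ℓ.left, hℓ2', ?_⟩
  rw [← cancel_mono snd.left, Category.assoc, hℓ2', Category.assoc, w]

end Groth.Agent.Helper2.DvrSep
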