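import Mathlib
import Groth.Agent.Lib.Helper2.AlgSp.DvrSep2
import Groth.Agent.Lib.Helper2.AlgSp.QC
import Groth.Agent.Lib.Helper2.AlgSp.PointsMor

/-!
# Dense finite type charts (helper2)
-/

set_option autoImplicit false
set_option linter.style.haveILetI false

open CategoryTheory CategoryTheory.Limits AlgebraicGeometry Opposite AlgSp TopologicalSpace

universe u

namespace Groth.Agent.Helper2.DvrSep

open Groth.Agent.Helper2.AlgSpBasic

variable {S : Scheme.{u}}

/-- Base change of a finite type morphism with dense image to a quasi-compact quasi-separated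
scheme étale over the target, with a quasi-compact chart of the source. -/
theorem exists_dense_chart {U X : Space S} (h : U ⟶ X) (hh : IsFiniteTypeMor h.hom)
    (hdense : Dense (Set.range (Points.map h.hom)))
    {W : Over S} (fst : (yon S).obj W ⟶ X.obj) (hfst : RepWith @Etale fst)
    [CompactSpace ↥W.left] [QuasiSeparatedSpace ↥W.left] :
    ∃ (U' : Over S) (h' : U' ⟶ W) (pU : (yon S).obj U' ⟶ U.obj),
      pU ≫ h.hom = (yon S).map h' ≫ fst ∧ LocallyOfFiniteType h'.left ∧ QuasiCompact h'.left ∧
        DenseRange h'.left.base := by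
  have sqP := IsPullback.of_hasPullback h.hom fst
  have hP : IsAlgSpace (pullback h.hom fst) :=
    isAlgSpace_of_isPullback X.property.diag U.property (IsAlgSpace.yon_obj W) h.hom fst _ _ sqP
  have hWqc : IsQuasiCompactSp ((yon S).obj W) := (isQuasiCompactSp_yon_iff W).mpr inferInstance
  have hPqc : IsQuasiCompactSp (pullback h.hom fst) :=
    hh.2 (IsAlgSpace.yon_obj W) hWqc fst (pullback.fst h.hom fst) (pullback.snd h.hom fst) sqP
  obtain ⟨U', p'', hpe, hps, hU'c⟩ := hPqc
  obtain ⟨h', hh'⟩ := (yon S).map_surjective (p'' ≫ pullback.snd h.hom fst)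
  refine ⟨U', h', p'' ≫ pullback.fst h.hom fst, ?_, ?_, ?_, ?_⟩
  · rw [Category.assoc, pullback.condition, hh', Category.assoc]
  · have hl : LocP @LocallyOfFiniteType (pullback.snd h.hom fst) :=
      locP_of_isPullback @LocallyOfFiniteType U.property X.property (IsAlgSpace.yon_obj W) hP
        h.hom fst (pullback.fst _ _) (pullback.snd _ _) sqP hh.1
    exact hl p'' (𝟙 _) h' hpe (repWith_of_isIso @Etale (𝟙 _))
      (by rw [hh', Category.comp_id])
  · haveI : CompactSpace ↥U'.left := hU'c
    infer_instance
  · -- density
    have hopen : IsOpenMap (Points.map fst) := isOpenMap_points_map_of_etale fst hfst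
    have hd2 : Dense ((Points.map fst) ⁻¹' (Set.range (Points.map h.hom))) :=
      hdense.preimage hopen
    have hsub : (Points.map fst) ⁻¹' (Set.range (Points.map h.hom)) ⊆
        Set.range (Points.map ((yon S).map h')) := by
      rintro z ⟨x, hx⟩
      obtain ⟨q, hq1, hq2⟩ := points_exists_of_isPullback fst h.hom (pullback.fst h.hom fst)
        (pullback.snd h.hom fst) sqP x z hx
      obtain ⟨u', rfl⟩ := surjective_ofPt p'' hps q
      refine ⟨Points.schemeHomeo U' u', ?_⟩
      rw [hh', Points.map_comp, ← hq2]
      exact congrArg _ (Points.ofPt_eq_map_ofScheme p'' u').symm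
    have hd3 : Dense (Set.range (Points.map ((yon S).map h'))) := hd2.mono hsub
    have hd4 : DenseRange (Points.map ((yon S).map h')) := hd3
    rw [Points.map_yon_map_eq] at hd4
    have hd5 : DenseRange ((Points.schemeHomeo W).symm ∘
        (Points.schemeHomeo W ∘ (fun t => h'.left t) ∘ (Points.schemeHomeo U').symm)) :=
      (Points.schemeHomeo W).symm.surjective.denseRange.comp hd4
        (Points.schemeHomeo W).symm.continuous
    have hd6 : DenseRange (((Points.schemeHomeo W).symm ∘
        (Points.schemeHomeo W ∘ (fun t => h'.left t) ∘ (Points.schemeHomeo U').symm)) ∘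
          (Points.schemeHomeo U')) :=
      hd5.comp (Points.schemeHomeo U').surjective.denseRange (by fun_prop)
    convert hd6 using 1
    funext t
    simp
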