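import Mathlib
import Groth.Agent.Lib.Helper2.AlgSp.DenseChart
import Groth.Agent.Lib.Helper2.AlgSp.FibreSpecB
import Groth.Agent.Lib.Helper2.Sch.DvrClosure

/-!
# Quasi-compact charts of base changes of finite type morphisms; S10054 (helper2)
-/

set_option autoImplicit false
set_option linter.style.haveILetI false

open CategoryTheory CategoryTheory.Limits AlgebraicGeometry Opposite AlgSp TopologicalSpace

universe u

namespace Groth.Agent.Helper2.DvrSep

open Groth.Agent.Helper2.AlgSpBasic

variable {S : Scheme.{u}}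

/-- Base change of a finite type morphism to a quasi-compact quasi-separated scheme, with a
quasi-compact chart of the source, whose image is the preimage of the image. -/
theorem exists_chart_preimage_range {U X : Space S} (h : U ⟶ X) (hh : IsFiniteTypeMor h.hom)
    {W : Over S} (fst : (yon S).obj W ⟶ X.obj)
    [CompactSpace ↥W.left] [QuasiSeparatedSpace ↥W.left] :
    ∃ (U' : Over S) (h' : U' ⟶ W) (pU : (yon S).obj U' ⟶ U.obj),
      pU ≫ h.hom = (yon S).map h' ≫ fst ∧ LocallyOfFiniteType h'.left ∧ QuasiCompact h'.left ∧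
        (Points.map fst) ⁻¹' (Set.range (Points.map h.hom)) ⊆
          Set.range (Points.map ((yon S).map h')) := by
  have sqP := IsPullback.of_hasPullback h.hom fst
  have hP : IsAlgSpace (pullback h.hom fst) :=
    isAlgSpace_of_isPullback X.property.diag U.property (IsAlgSpace.yon_obj W) h.hom fst _ _ sqP
  have hWqc : IsQuasiCompactSp ((yon S).obj W) := (isQuasiCompactSp_yon_iff W).mpr inferInstance
  have hPqc : IsQuasiCompactSp (pullback h.hom fst) :=
    hh.2 (IsAlgSpace.yon_obj W) hWqc fst (pullback.fst h.hom fst) (pullback.snd h.hom fst) sqP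
  obtain ⟨U', p'', hpe, hps, hU'c⟩ := hPqc
  obtain ⟨h', hh'⟩ := (yon S).map_surjective (p'' ≫ pullback.snd h.hom fst)
  refine ⟨U', h', p'' ≫ pullback.fst h.hom fst, ?_, ?_, ?_, ?_⟩
  · rw [Category.assoc, pullback.condition, hh', Category.assoc]
  · have hl : LocP @LocallyOfFiniteType (pullback.snd h.hom fst) :=
      locP_of_isPullback @LocallyOfFiniteType U.property X.property (IsAlgSpace.yon_obj W) hP
        h.hom fst (pullback.fst _ _) (pullback.snd _ _) sqP hh.1
    exact hl p'' (𝟙 _) h' hpe (repWith_of_isIso @Etale (𝟙 _))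
      (by rw [hh', Category.comp_id])
  · haveI : CompactSpace ↥U'.left := hU'c
    infer_instance
  · rintro z ⟨x, hx⟩
    obtain ⟨q, hq1, hq2⟩ := points_exists_of_isPullback fst h.hom (pullback.fst h.hom fst)
      (pullback.snd h.hom fst) sqP x z hx
    obtain ⟨u', rfl⟩ := surjective_ofPt p'' hps q
    refine ⟨Points.schemeHomeo U' u', ?_⟩
    rw [hh', Points.map_comp, ← hq2]
    exact congrArg _ (Points.ofPt_eq_map_ofScheme p'' u').symm

theorem S10054_main {X Y : Space S} (f : X ⟶ Y)
    (hft : IsFiniteTypeMor f.hom) (hY : IsLocNoethSp Y.obj) (y : Points Y.obj)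
    (hy : y ∈ closure (Set.range (Points.map f.hom))) :
    ∃ (A : Type u) (_ : CommRing A) (_ : IsDomain A) (_ : IsDiscreteValuationRing A)
      (a : Spec (CommRingCat.of A) ⟶ S)
      (α : (yon S).obj (Over.mk a) ⟶ Y.obj)
      (κ : (yon S).obj (Over.mk (Spec.map (CommRingCat.ofHom
        (algebraMap A (FractionRing A))) ≫ a)) ⟶ X.obj),
      κ ≫ f.hom = (yon S).map (Over.homMk (Spec.map (CommRingCat.ofHom
        (algebraMap A (FractionRing A))))) ≫ α ∧
      Points.map α (Points.schemeEquiv (Over.mk a) (IsLocalRing.closedPoint A)) = y := by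
  obtain ⟨V, p, hpe, hps, hV⟩ := hY
  haveI : IsLocallyNoetherian V.left := hV
  obtain ⟨v, rfl⟩ := surjective_ofPt p hps y
  obtain ⟨_, ⟨V', hV', rfl⟩, hvV', -⟩ :=
    V.left.isBasis_affineOpens.exists_subset_of_mem_open (Set.mem_univ v) isOpen_univ
  have hp'e : RepWith @Etale ((yon S).map (opensOverι V') ≫ p) :=
    Groth.Agent.Helper2.FibreSpecB.repWith_etale_opensOverι_comp p hpe V'
  obtain ⟨p', hp'⟩ : ∃ p' : (yon S).obj (opensOver V') ⟶ Y.obj,
    p' = (yon S).map (opensOverι V') ≫ p := ⟨_, rfl⟩
  rw [← hp'] at hp'e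
  haveI : IsAffine (opensOver V').left := hV'
  haveI : IsLocallyNoetherian (opensOver V').left :=
    (inferInstance : IsLocallyNoetherian (V' : Scheme.{u}))
  have hv' : Points.ofPt p' (⟨v, hvV'⟩ : ↥(opensOver V').left) = Points.ofPt p v := by
    rw [hp', ofPt_yon_map_comp]
    rfl
  obtain ⟨U', h', pU, hpU, hlft', hqc', hsub⟩ := exists_chart_preimage_range f hft p'
  haveI := hlft'
  haveI := hqc'
  -- the point lies in the closure of the image of the chart
  have hopen : IsOpenMap (Points.map p') := isOpenMap_points_map_of_etale p' hp'e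
  have h1 : Points.schemeHomeo (opensOver V') ⟨v, hvV'⟩ ∈
      closure (Set.range (Points.map ((yon S).map h'))) := by
    refine closure_mono hsub (hopen.preimage_closure_subset_closure_preimage ?_)
    show Points.map p' (Points.schemeHomeo (opensOver V') ⟨v, hvV'⟩) ∈
      closure (Set.range (Points.map f.hom))
    have : Points.map p' (Points.schemeHomeo (opensOver V') ⟨v, hvV'⟩) =
        Points.ofPt p' (⟨v, hvV'⟩ : ↥(opensOver V').left) :=
      (Points.ofPt_eq_map_ofScheme p' _).symm
    rw [this, hv']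
    exact hy
  have h2 : (⟨v, hvV'⟩ : ↥(opensOver V').left) ∈ closure (Set.range h'.left.base) := by
    rw [Points.map_yon_map_eq] at h1
    have h3 : Set.range (Points.schemeHomeo (opensOver V') ∘ (fun t => h'.left t) ∘
        (Points.schemeHomeo U').symm) =
        Points.schemeHomeo (opensOver V') '' (Set.range h'.left.base) := by
      rw [Set.range_comp, Set.range_comp, (Points.schemeHomeo U').symm.surjective.range_eq,
        Set.image_univ]
    rw [h3, ← Homeomorph.image_closure] at h1
    obtain ⟨w, hw, hwe⟩ := h1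
    rwa [(Points.schemeHomeo (opensOver V')).injective hwe] at hw
  obtain ⟨A, iA1, iA2, iA3, xA, yA, hxy, hcl⟩ :=
    Groth.Agent.Helper2.DvrClosure.exists_dvr_of_mem_closure_range h'.left _ h2
  let a : Spec (CommRingCat.of A) ⟶ S := yA ≫ (opensOver V').hom
  let yO : Over.mk a ⟶ opensOver V' := Over.homMk yA rfl
  have hx0 : xA ≫ U'.hom = Spec.map (CommRingCat.ofHom (algebraMap A (FractionRing A))) ≫ a := by
    rw [← Over.w h', ← Category.assoc, hxy, Category.assoc]
  let xO : Over.mk (Spec.map (CommRingCat.ofHom (algebraMap A (FractionRing A))) ≫ a) ⟶ U' :=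
    Over.homMk xA hx0
  let jO : Over.mk (Spec.map (CommRingCat.ofHom (algebraMap A (FractionRing A))) ≫ a) ⟶
      Over.mk a := Over.homMk (Spec.map (CommRingCat.ofHom (algebraMap A (FractionRing A)))) rfl
  have hO : xO ≫ h' = jO ≫ yO := by
    apply Over.OverMorphism.ext
    exact hxy
  refine ⟨A, iA1, iA2, iA3, a, (yon S).map yO ≫ p', (yon S).map xO ≫ pU, ?_, ?_⟩
  · calc ((yon S).map xO ≫ pU) ≫ f.hom
        = (yon S).map xO ≫ (pU ≫ f.hom) := Category.assoc _ _ _
      _ = (yon S).map xO ≫ ((yon S).map h' ≫ p') := congrArg ((yon S).map xO ≫ ·) hpU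
      _ = ((yon S).map xO ≫ (yon S).map h') ≫ p' := (Category.assoc _ _ _).symm
      _ = (yon S).map (xO ≫ h') ≫ p' := by rw [Functor.map_comp]
      _ = (yon S).map (jO ≫ yO) ≫ p' := by rw [hO]
      _ = ((yon S).map jO ≫ (yon S).map yO) ≫ p' := by rw [Functor.map_comp]
      _ = (yon S).map jO ≫ (yon S).map yO ≫ p' := Category.assoc _ _ _
  · rw [Points.map_comp]
    have h4 : Points.map ((yon S).map yO)
        (Points.schemeEquiv (Over.mk a) (IsLocalRing.closedPoint A)) =
        Points.schemeHomeo (opensOver V') (yO.left (IsLocalRing.closedPoint A)) :=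
      Points.map_yon_map_apply yO (IsLocalRing.closedPoint A)
    rw [h4]
    have h5 : yO.left (IsLocalRing.closedPoint A) = (⟨v, hvV'⟩ : ↥(opensOver V').left) := hcl
    rw [h5, ← hv']
    exact (Points.ofPt_eq_map_ofScheme p' _).symm

end Groth.Agent.Helper2.DvrSep
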