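import Mathlib
import Groth.Agent.Lib.Helper2.AlgSp.DimIneqSp
import Groth.Agent.Lib.Helper2.AlgSp.FibreSpec
import Groth.Agent.Lib.Helper2.AlgSp.RelDimSp4

/-!
# dim X ≤ dim Y + trdeg for dominant morphisms of integral algebraic spaces (S10459) (helper2)
-/

set_option autoImplicit false
set_option backward.isDefEq.respectTransparency false

open CategoryTheory CategoryTheory.Limits AlgebraicGeometry Opposite AlgSp

namespace Groth.Agent.Helper2.DimIneqSp
universe u
variable {S : Scheme.{u}}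

open Groth.Agent.Helper2.ChartIndep Groth.Agent.Helper2.ChartIndepMor

/-- On a decent algebraic space with a generic point, a point of codimension zero (in a chart) is
the generic point. -/
theorem eq_generic_of_hasAt_zero {X : Sp S} (hX : IsAlgSpace X) (hd : IsDecent X)
    (x : Points X) (hx : IsGenericPoint x (Set.univ : Set (Points X))) (ξ : Points X)
    (hξ : HasAt (fun U u => ringKrullDim ↥(U.presheaf.stalk u) = 0) X ξ) : ξ = x := by
  obtain ⟨U, p, ξ₁, hp, hξ₁, hdim⟩ := hξ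
  have hsp : x ⤳ ξ := hx.specializes (Set.mem_univ ξ)
  obtain ⟨η₁, hη₁, hη₁x⟩ := FibreSpec.exists_specializes_of_qc_mono hX ξ x hsp (hd x) p hp ξ₁ hξ₁
  have hco : Order.coheight ξ₁ = 0 := by
    have h1 := AlgebraicGeometry.ringKrullDim_stalk_eq_coheight ξ₁
    rw [hdim] at h1
    have h2 : ((0 : ℕ∞) : WithBot ℕ∞) = ((Order.coheight ξ₁ : ℕ∞) : WithBot ℕ∞) := h1
    exact (WithBot.coe_injective h2).symm
  have hmax : IsMax ξ₁ := Order.coheight_eq_zero.1 hco
  have h3 : ξ₁ ⤳ η₁ := hmax (show ξ₁ ≤ η₁ from hη₁)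
  have h4 : η₁ = ξ₁ := (hη₁.antisymm h3).eq
  rw [← hξ₁, ← hη₁x, h4]

/-- S10459 -/
theorem S10459_main {X Y : Sp S} (hX : IsAlgSpace X) (hYa : IsAlgSpace Y) (f : X ⟶ Y)
    (hY : IsLocNoethSp Y) (hd : IsDecent X) (hft : LocP @LocallyOfFiniteType f)
    (x : Points X) (hx : IsGenericPoint x (Set.univ : Set (Points X))) (r : ℕ)
    (hr : HasAtMor (fun _ _ h u => Dual3.resTrdeg h u = (r : Cardinal.{u})) f x) :
    AlgSp.dim X ≤ AlgSp.dim Y + ((r : ℕ∞) : WithBot ℕ∞) := by
  have key := S10324_main hX hYa f hY hft (r : Cardinal.{u}) (fun ξ hξ s hs => by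
    have e := eq_generic_of_hasAt_zero hX hd x hx ξ hξ
    rw [e] at hs
    obtain ⟨U, V, p, q, h, u, hp, hq, comm, hu, hs'⟩ := hs
    have := of_hasAtMor (Groth.Agent.Helper2.RelDimSp.etaleLocalST_resTrdeg (r : Cardinal.{u})) hX.diag hYa.diag f x hr p q h
      hp hq comm u hu
    have h5 : Dual3.resTrdeg h.left u = (r : Cardinal.{u}) := this
    rw [← hs', h5])
  simpa using key

end Groth.Agent.Helper2.DimIneqSp
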