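import Mathlib
import Groth.Prelude.Def_AlgSp4
import Groth.Prelude.Def_AlgSpDec
import Groth.Agent.Lib.Helper2.AlgSp.ClosedPt

/-!
# Decent Jacobson algebraic spaces (helper2)
-/

set_option autoImplicit false
set_option backward.isDefEq.respectTransparency false

open CategoryTheory CategoryTheory.Limits AlgebraicGeometry Opposite AlgSp

namespace Groth.Agent.Helper2.JacobsonDecent
universe u
variable {S : Scheme.{u}}

/-- A point of a scheme etale over another lying over a closed point is closed. -/
theorem isClosed_singleton_of_etale_of_isClosed {W V : Scheme.{u}} (f : W ⟶ V) [Etale f] (w : W)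
    (hv : IsClosed ({f w} : Set V)) : IsClosed ({w} : Set W) := by
  haveI : LocallyQuasiFinite f := QfAt.locallyQuasiFinite_of_etale _
  have hF : IsClosed (f ⁻¹' {f w}) := hv.preimage f.continuous
  rw [← closure_eq_iff_isClosed]
  refine subset_antisymm ?_ subset_closure
  intro w' hw'
  have hs : w ⤳ w' := specializes_iff_mem_closure.2 hw'
  have hw'F : w' ∈ f ⁻¹' {f w} :=
    hF.closure_subset_iff.2 (Set.singleton_subset_iff.2 rfl) hw'
  have hdisc := (f.isDiscrete_preimage_singleton (f w)).to_subtype
  have h4 : (⟨w, rfl⟩ : ↥(f ⁻¹' {f w})) ⤳ ⟨w', hw'F⟩ := (subtype_specializes_iff _ _).2 hs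
  exact (congrArg Subtype.val h4.eq).symm

/-- If some chart has a closed point over `x` and the atlas `U` is Jacobson, all points of `U`
over `x` are closed. -/
theorem isClosed_singleton_of_hasAt {X : Sp S} (hX : IsAlgSpace X) (x : Points X)
    (hft : HasAt (fun U u => IsClosed ({u} : Set ↥U)) X x) {U : Over S}
    (a : (yon S).obj U ⟶ X) (hae : RepWith @Etale a) [JacobsonSpace ↥U.left] (u : ↥U.left)
    (hu : Points.ofPt a u = x) : IsClosed ({u} : Set ↥U.left) := by
  obtain ⟨V, b, v, hbe, hv, hvcl⟩ := hft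
  obtain ⟨W, fst, snd, sq⟩ := AlgSpBasic.exists_isPullback_yon hX.diag a b
  obtain ⟨w, hw1, hw2⟩ := AlgSpBasic.exists_point_of_isPullback_yon a b fst snd sq u v
    (hu.trans hv.symm)
  haveI : Etale snd.left := hae.property b ((yon S).map fst) snd sq
  haveI : Etale fst.left := hbe.property a ((yon S).map snd) fst sq.flip
  have hwcl : IsClosed ({w} : Set ↥W.left) :=
    isClosed_singleton_of_etale_of_isClosed snd.left w (by rw [hw2]; exact hvcl)
  have := fst.left.closePoints_subset_preimage_closedPoints hwcl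
  rw [← hw1]
  exact this

/-- `S10403`. -/
theorem hasAt_isClosed_iff {X : Sp S} (hX : IsAlgSpace X) (hd : IsDecent X)
    (hJ : EtaleLocally (fun U => JacobsonSpace ↥U) X) (x : Points X) :
    HasAt (fun U u => IsClosed ({u} : Set ↥U)) X x ↔ IsClosed ({x} : Set (Points X)) := by
  obtain ⟨U, a, hae, has, hJU⟩ := hJ
  haveI : JacobsonSpace ↥U.left := hJU
  constructor
  · intro hft
    rw [← closure_eq_iff_isClosed]
    refine subset_antisymm ?_ subset_closure
    intro x' hx'
    have hsp : x ⤳ x' := specializes_iff_mem_closure.2 hx'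
    obtain ⟨u', hu'⟩ := AlgSpBasic.surjective_ofPt a has x'
    obtain ⟨u, hu1, hu2⟩ := FibreSpec.exists_specializes_of_qc_mono hX x' x hsp (hd x) a hae u' hu'
    have h3 : u' = u := hu1.mem_closed (isClosed_singleton_of_hasAt hX x hft a hae u hu2) rfl
    rw [← hu', h3, hu2]
    rfl
  · intro hx
    obtain ⟨u, hu⟩ := AlgSpBasic.surjective_ofPt a has x
    exact ⟨U, a, u, hae, hu, ClosedPt.isClosed_singleton_chart_of_isClosed hX hd x hx a hae u hu⟩

end Groth.Agent.Helper2.JacobsonDecent
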