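import Mathlib
import Groth.Prelude.Def_AlgSp4
import Groth.Prelude.Def_AlgSpDec
import Groth.Agent.Lib.Helper2.AlgSp.JacobsonDecent

/-!
# A decent algebraic space is Jacobson iff its space of points is (helper2)
-/

set_option autoImplicit false
set_option backward.isDefEq.respectTransparency false

open CategoryTheory CategoryTheory.Limits AlgebraicGeometry Opposite AlgSp

namespace Groth.Agent.Helper2.JacobsonDecent
universe u
variable {S : Scheme.{u}}

/-- Fibres of affine etale charts of a decent space are finite. -/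
theorem finite_fibre_affine_of_isDecent {X : Sp S} (hX : IsAlgSpace X) (hd : IsDecent X)
    (x : Points X) (V : Over S) (b : (yon S).obj V ⟶ X) (hV : IsAffine V.left)
    (hb : RepWith @Etale b) : (Points.ofPt b ⁻¹' {x}).Finite := by
  obtain ⟨p, hp, hm, hq⟩ := hd x
  haveI := hV
  haveI : CompactSpace ↥V.left := inferInstance
  rw [← hp]
  exact (FieldFibre.finite_fibre_of_quasiCompact hX p hm hq b hb).1

/-- If the fibre of an etale chart over `x` is closed, then `{x}` is locally closed. -/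
theorem isLocallyClosed_singleton_of_isClosed_fibre {X : Sp S} {U : Over S}
    (a : (yon S).obj U ⟶ X) (hae : RepWith @Etale a) (x : Points X)
    (hx : x ∈ Set.range (Points.ofPt a)) (hcl : IsClosed (Points.ofPt a ⁻¹' {x})) :
    IsLocallyClosed ({x} : Set (Points X)) := by
  have hop := AlgSpBasic.isOpenMap_ofPt a hae
  have hO : IsOpen (Set.range (Points.ofPt a)) := hop.isOpen_range
  have hO' : IsOpen (Points.ofPt a '' (Points.ofPt a ⁻¹' {x})ᶜ) := hop _ hcl.isOpen_compl
  have h : ({x} : Set (Points X)) =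
      Set.range (Points.ofPt a) ∩ (Points.ofPt a '' (Points.ofPt a ⁻¹' {x})ᶜ)ᶜ := by
    ext y
    constructor
    · rintro rfl
      refine ⟨hx, ?_⟩
      rintro ⟨u, hu1, hu2⟩
      exact hu1 hu2
    · rintro ⟨⟨u, rfl⟩, h2⟩
      by_contra hne
      exact h2 ⟨u, hne, rfl⟩
  rw [h]
  exact hO.isLocallyClosed.inter hO'.isClosed_compl.isLocallyClosed

/-- In a decent space whose space of points is Jacobson, a point of a chart that is closed in an
open neighbourhood has closed image. -/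
theorem isClosed_ofPt_of_isLocallyClosed {X : Sp S} (hX : IsAlgSpace X) (hd : IsDecent X)
    [JacobsonSpace (Points X)] {U : Over S} (a : (yon S).obj U ⟶ X) (hae : RepWith @Etale a)
    (u : ↥U.left) (O : U.left.Opens) (huO : u ∈ O)
    (hcl : closure {u} ∩ (O : Set ↥U.left) ⊆ {u}) :
    IsClosed ({Points.ofPt a u} : Set (Points X)) := by
  have hfin := finite_fibre_affine_of_isDecent hX hd (Points.ofPt a u)
  obtain ⟨V₀, hV₀, huV₀, hV₀O⟩ : ∃ V₀ : U.left.Opens, IsAffineOpen V₀ ∧ u ∈ V₀ ∧ V₀ ≤ O := by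
    obtain ⟨_, ⟨V, hV, rfl⟩, huV, hVO⟩ := U.left.isBasis_affineOpens.exists_subset_of_mem_open
      huO O.isOpen
    exact ⟨V, hV, huV, hVO⟩
  -- the finite fibre in V₀
  have hF₀ : {v : ↥U.left | v ∈ V₀ ∧ Points.ofPt a v = Points.ofPt a u}.Finite := by
    have h1 := hfin (FieldFibre.opensOver U V₀) ((yon S).map (FieldFibre.opensι U V₀) ≫ a)
      (hV₀ : IsAffine _) (FieldFibre.repWith_etale_opensι_comp a hae V₀)
    refine (h1.image (fun v : ↥V₀ => (v : ↥U.left))).subset ?_
    rintro v ⟨hv1, hv2⟩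
    refine ⟨⟨v, hv1⟩, ?_, rfl⟩
    change Points.ofPt ((yon S).map (FieldFibre.opensι U V₀) ≫ a) _ = _
    rw [AlgSpBasic.ofPt_yon_map_comp]
    exact hv2
  set T : Set ↥U.left := ⋃ v ∈ {v : ↥U.left | (v ∈ V₀ ∧ Points.ofPt a v = Points.ofPt a u) ∧
    v ≠ u}, closure {v} with hT
  have hTcl : IsClosed T :=
    (hF₀.subset (fun v hv => hv.1)).isClosed_biUnion (fun v _ => isClosed_closure)
  have huT : u ∉ T := by
    intro hu
    simp only [hT, Set.mem_iUnion] at hu
    obtain ⟨v, ⟨⟨-, hv2⟩, hv3⟩, hv4⟩ := hu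
    have hs : v ⤳ u := specializes_iff_mem_closure.2 hv4
    exact hv3 (FibreSpec.eq_of_specializes hX (Points.ofPt a u) hfin a hae u v rfl hv2 hs).symm
  let V₁ : U.left.Opens := V₀ ⊓ ⟨Tᶜ, hTcl.isOpen_compl⟩
  have huV₁ : u ∈ V₁ := ⟨huV₀, huT⟩
  have hae₁ := FieldFibre.repWith_etale_opensι_comp a hae V₁
  have hfib : Points.ofPt ((yon S).map (FieldFibre.opensι U V₁) ≫ a) ⁻¹' {Points.ofPt a u} =
      {(⟨u, huV₁⟩ : ↥V₁)} := by
    ext ⟨v, hvV⟩
    constructor
    · intro hv
      have hv' : Points.ofPt a v = Points.ofPt a u := by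
        have := hv
        change Points.ofPt ((yon S).map (FieldFibre.opensι U V₁) ≫ a) _ = _ at this
        rw [AlgSpBasic.ofPt_yon_map_comp] at this
        exact this
      by_contra hne
      have hne' : v ≠ u := fun h => hne (Subtype.ext h)
      apply hvV.2
      simp only [hT, Set.mem_iUnion]
      exact ⟨v, ⟨⟨hvV.1, hv'⟩, hne'⟩, subset_closure rfl⟩
    · intro h
      have hvu : v = u := congrArg Subtype.val h
      subst hvu
      change Points.ofPt ((yon S).map (FieldFibre.opensι U V₁) ≫ a) _ = _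
      rw [AlgSpBasic.ofPt_yon_map_comp]
      rfl
  have hcl₁ : IsClosed ({(⟨u, huV₁⟩ : ↥V₁)} : Set ↥V₁) := by
    have h1 : IsClosed ((fun v : ↥V₁ => (v : ↥U.left)) ⁻¹' closure {u}) :=
      isClosed_closure.preimage continuous_subtype_val
    convert h1 using 1
    ext v
    constructor
    · rintro rfl
      exact subset_closure rfl
    · intro hv
      have hvV : (v : ↥U.left) ∈ V₁ := v.2
      exact Subtype.ext (hcl ⟨hv, hV₀O hvV.1⟩)
  have hloc : IsLocallyClosed ({Points.ofPt a u} : Set (Points X)) := by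
    refine isLocallyClosed_singleton_of_isClosed_fibre
      ((yon S).map (FieldFibre.opensι U V₁) ≫ a) hae₁ _ ⟨⟨u, huV₁⟩, ?_⟩ ?_
    · rw [AlgSpBasic.ofPt_yon_map_comp]; rfl
    · rw [hfib]; exact hcl₁
  exact isClosed_singleton_of_isLocallyClosed_singleton hloc

/-- `S10404`. -/
theorem etaleLocally_jacobson_iff {X : Sp S} (hX : IsAlgSpace X) (hd : IsDecent X) :
    EtaleLocally (fun U => JacobsonSpace ↥U) X ↔ JacobsonSpace (Points X) := by
  constructor
  · intro hJ
    obtain ⟨U, a, hae, has, hJU⟩ := id hJ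
    haveI : JacobsonSpace ↥U.left := hJU
    refine ⟨fun {Z} hZ => ?_⟩
    refine subset_antisymm (hZ.closure_subset_iff.2 Set.inter_subset_left) ?_
    intro x hxZ
    rw [mem_closure_iff]
    intro O hO hxO
    obtain ⟨u, hu⟩ := AlgSpBasic.surjective_ofPt a has x
    have hZ' : IsClosed (Points.ofPt a ⁻¹' Z) := hZ.preimage (Points.continuous_ofPt a)
    have hO' : IsOpen (Points.ofPt a ⁻¹' O) := hO.preimage (Points.continuous_ofPt a)
    have h1 : u ∈ closure (Points.ofPt a ⁻¹' Z ∩ closedPoints ↥U.left) := by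
      rw [closure_inter_closedPoints hZ']
      change Points.ofPt a u ∈ Z
      rw [hu]; exact hxZ
    obtain ⟨u₁, hu₁O, hu₁Z, hu₁cl⟩ := mem_closure_iff.1 h1 _ hO' (by
      change Points.ofPt a u ∈ O
      rw [hu]; exact hxO)
    refine ⟨Points.ofPt a u₁, hu₁O, hu₁Z, ?_⟩
    exact (hasAt_isClosed_iff hX hd hJ (Points.ofPt a u₁)).1 ⟨U, a, u₁, hae, rfl, hu₁cl⟩
  · intro hJ
    haveI := hJ
    obtain ⟨U, a, hae, has⟩ := hX.atlas
    refine ⟨U, a, hae, has, ?_⟩
    show JacobsonSpace ↥U.left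
    rw [jacobsonSpace_iff_locallyClosed]
    rintro Z ⟨u₀, hu₀⟩ ⟨O, C, hO, hC, rfl⟩
    obtain ⟨V, hV, hu₀V, hVO⟩ : ∃ V : U.left.Opens, IsAffineOpen V ∧ u₀ ∈ V ∧
        (V : Set ↥U.left) ⊆ O := by
      obtain ⟨_, ⟨V, hV, rfl⟩, huV, hVO⟩ := U.left.isBasis_affineOpens.exists_subset_of_mem_open
        hu₀.1 hO
      exact ⟨V, hV, huV, hVO⟩
    haveI : CompactSpace ↥V := isCompact_iff_compactSpace.1 hV.isCompact
    have hCV : IsClosed ((fun v : ↥V => (v : ↥U.left)) ⁻¹' C) := hC.preimage continuous_subtype_val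
    obtain ⟨v, hvC, hvcl⟩ := hCV.exists_closed_singleton ⟨⟨u₀, hu₀V⟩, hu₀.2⟩
    have hcl : closure {(v : ↥U.left)} ∩ (V : Set ↥U.left) ⊆ {(v : ↥U.left)} := by
      rintro w ⟨hw1, hw2⟩
      have hs : (v : ↥U.left) ⤳ w := specializes_iff_mem_closure.2 hw1
      have hs' : v ⤳ (⟨w, hw2⟩ : ↥V) := (subtype_specializes_iff _ _).2 hs
      have := hs'.mem_closed hvcl rfl
      exact congrArg Subtype.val this
    have hx := isClosed_ofPt_of_isLocallyClosed hX hd a hae (v : ↥U.left) V v.2 hcl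
    refine ⟨v, ⟨hVO v.2, hvC⟩, ?_⟩
    exact ClosedPt.isClosed_singleton_chart_of_isClosed hX hd _ hx a hae v rfl

end Groth.Agent.Helper2.JacobsonDecent
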