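import Mathlib
import Groth.Prelude.Def_AlgSp4
import Groth.Prelude.Def_AlgSpDec
import Groth.Prelude.Def_Dual3
import Groth.Agent.Lib.Helper2.AlgSp.QfCodimOneSp
import Groth.Agent.Lib.Helper2.AlgSp.DimIneqSp2
import Groth.Agent.Lib.Helper2.AlgSp.JacobsonDecent2
import Groth.Agent.Lib.Helper2.FibDim.GenFibreQf

/-!
# Generic points of decent algebraic spaces and the generic fibre (S10485, S10486) (helper2)
-/

set_option autoImplicit false
set_option backward.isDefEq.respectTransparency false

open CategoryTheory CategoryTheory.Limits AlgebraicGeometry Opposite AlgSp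

namespace Groth.Agent.Helper2.GenericSp
universe u
variable {S : Scheme.{u}}

open Groth.Agent.Helper2.ChartIndep Groth.Agent.Helper2.QfAt Groth.Agent.Helper2.QfAtSp
open Groth.Agent.Helper2.ChartIndepMor

/-- On a decent space there are no specializations inside the fibres of etale charts. -/
theorem eq_of_specializes_of_isDecent {X : Sp S} (hX : IsAlgSpace X) (hd : IsDecent X)
    {U : Over S} (a : (yon S).obj U ⟶ X) (ha : RepWith @Etale a) (u u' : ↥U.left)
    (he : Points.ofPt a u = Points.ofPt a u') (hs : u' ⤳ u) : u = u' :=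
  FibreSpec.eq_of_specializes hX (Points.ofPt a u')
    (fun V b hV hb => JacobsonDecent.finite_fibre_affine_of_isDecent hX hd _ V b hV hb)
    a ha u u' he rfl hs

/-- Chart points over the generic point of a decent space are maximal. -/
theorem isMax_of_ofPt_eq_generic {Y : Sp S} (hY : IsAlgSpace Y) (hd : IsDecent Y) (y : Points Y)
    (hy : IsGenericPoint y (Set.univ : Set (Points Y))) {V : Over S} (b : (yon S).obj V ⟶ Y)
    (hb : RepWith @Etale b) (t : ↥V.left) (ht : Points.ofPt b t = y) :
    ∀ s : ↥V.left, s ⤳ t → s = t := by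
  intro s hs
  haveI := FibreSpec.t0Space_of_isDecent hY hd
  have h1 : Points.ofPt b s ⤳ y := ht ▸ hs.map (Points.continuous_ofPt b)
  have h2 : y ⤳ Points.ofPt b s := hy.specializes (Set.mem_univ _)
  have h3 : Points.ofPt b s = y := (h1.antisymm h2).eq
  exact (eq_of_specializes_of_isDecent hY hd b hb t s (ht.trans h3.symm) hs).symm

/-- The image of the generic point under a dominant morphism is the generic point. -/
theorem map_generic {X Y : Sp S} (hY : IsAlgSpace Y) (hd : IsDecent Y) (f : X ⟶ Y)
    (hdom : IsDominantMor f) (x : Points X)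
    (hx : IsGenericPoint x (Set.univ : Set (Points X))) (y : Points Y)
    (hy : IsGenericPoint y (Set.univ : Set (Points Y))) : Points.map f x = y := by
  haveI := FibreSpec.t0Space_of_isDecent hY hd
  have h1 := hx.image (Points.continuous_map f)
  rw [Set.image_univ, hdom.closure_range] at h1
  exact h1.eq hy

/-- S10485, S10486 -/
theorem generic_tfae {X Y : Sp S} (hX : IsAlgSpace X) (hYa : IsAlgSpace Y) (hdX : IsDecent X)
    (hdY : IsDecent Y) (f : X ⟶ Y) (hft : LocP @LocallyOfFiniteType f) (hdom : IsDominantMor f)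
    (x : Points X) (hx : IsGenericPoint x (Set.univ : Set (Points X)))
    (y : Points Y) (hy : IsGenericPoint y (Set.univ : Set (Points Y))) :
    (HasAtMor (fun _ _ h u => Dual3.resTrdeg h u = 0) f x ↔
        (∀ x' : Points X, Points.map f x' = y → x' = x)) ∧
      (HasAtMor QfQ f x ↔ (∀ x' : Points X, Points.map f x' = y → x' = x)) := by
  obtain ⟨V, b, hbe, hbs⟩ := hYa.atlas
  obtain ⟨U, a, h₀, hae, has, c⟩ := AlgSpBasic.exists_chart_lift hX f b hbe hbs
  haveI : LocallyOfFiniteType h₀.left := hft a b h₀ hae hbe c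
  obtain ⟨u, hu⟩ := AlgSpBasic.surjective_ofPt a has x
  have hfx : Points.map f x = y := map_generic hYa hdY f hdom x hx y hy
  have hmap : ∀ t : ↥U.left, Points.ofPt b (h₀.left t) = Points.map f (Points.ofPt a t) :=
    fun t => DimIneqSp.ofPt_map_eq f a b h₀ c t
  -- the key claim
  have key : Dual3.resTrdeg h₀.left u = 0 → ∀ u' : ↥U.left, Points.ofPt b (h₀.left u') = y →
      h₀.left.QuasiFiniteAt u' ∧ Points.ofPt a u' = x := by
    intro htr u' hu'
    have hv := isMax_of_ofPt_eq_generic hYa hdY y hy b hbe (h₀.left u') hu'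
    have hgen : ∀ z : ↥U.left, (∀ t : ↥U.left, t ⤳ z → t = z) →
        Dual3.resTrdeg h₀.left z = 0 := by
      intro z hz
      have hzdim : ringKrullDim ↥(U.left.presheaf.stalk z) = 0 := by
        rw [ringKrullDim_stalk_eq_zero_iff]
        intro t ht
        have ht' : t ⤳ z := ht
        rw [hz t ht']
      have hzx : Points.ofPt a z = x :=
        DimIneqSp.eq_generic_of_hasAt_zero hX hdX x hx _ ⟨U, a, z, hae, rfl, hzdim⟩
      exact (chart_indep (Groth.Agent.Helper2.RelDimSp.etaleLocalST_resTrdeg 0) hX.diag hYa.diag f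
        a b h₀ a b h₀ hae hbe hae hbe c c u z (hu.trans hzx.symm)).mp htr
    obtain ⟨hq, hmax⟩ :=
      Groth.Agent.Helper2.FibDim.quasiFiniteAt_and_isMax_of_max_tr_zero h₀.left u' hv hgen
    refine ⟨hq, ?_⟩
    have hdim : ringKrullDim ↥(U.left.presheaf.stalk u') = 0 := by
      rw [ringKrullDim_stalk_eq_zero_iff]
      intro t ht
      have ht' : t ⤳ u' := ht
      rw [hmax t ht']
    exact DimIneqSp.eq_generic_of_hasAt_zero hX hdX x hx _ ⟨U, a, u', hae, rfl, hdim⟩
  have h12 : HasAtMor (fun _ _ h u => Dual3.resTrdeg h u = 0) f x →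
      (∀ x' : Points X, Points.map f x' = y → x' = x) := by
    intro h1 x' hx'
    have htr : Dual3.resTrdeg h₀.left u = 0 :=
      of_hasAtMor (Groth.Agent.Helper2.RelDimSp.etaleLocalST_resTrdeg 0) hX.diag hYa.diag f x h1
        a b h₀ hae hbe c u hu
    obtain ⟨u', hu'⟩ := AlgSpBasic.surjective_ofPt a has x'
    rw [← hu']
    exact (key htr u' (by rw [hmap, hu', hx'])).2
  have h21 : (∀ x' : Points X, Points.map f x' = y → x' = x) → Dual3.resTrdeg h₀.left u = 0 := by
    intro h2
    by_contra hne
    obtain ⟨w, hw1, hw2, hw3⟩ :=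
      Groth.Agent.Helper2.FibDim.exists_specialization_of_tr_ne_zero h₀.left u hne
    have h3 : Points.ofPt a w = x := by
      apply h2
      rw [← hmap, hw1, hmap, hu, hfx]
    exact hw3 (eq_of_specializes_of_isDecent hX hdX a hae w u (h3.trans hu.symm) hw2)
  refine ⟨⟨h12, fun h2 => ⟨U, V, a, b, h₀, u, hae, hbe, c, hu, h21 h2⟩⟩, ?_, ?_⟩
  · intro h3
    exact h12 (QfCodimOneSp.hasAtMor_resTrdeg_zero_of_qf f hft x h3)
  · intro h2
    have htr := h21 h2
    rw [← hu]
    exact hasAtMor_of_quasiFiniteAt f hft a b h₀ hae hbe c u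
      (key htr u (by rw [hmap, hu, hfx])).1

end Groth.Agent.Helper2.GenericSp
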