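import Mathlib
import Groth.Prelude.Def_AlgSp4
import Groth.Prelude.Def_AlgSpDec
import Groth.Agent.Lib.Helper2.AlgSp.GenericSp
import Groth.Agent.Lib.Helper2.AlgSp.FibreSpec

/-!
# Dimension functions descend along etale surjective charts of decent spaces (S10443)
-/

set_option autoImplicit false

open CategoryTheory CategoryTheory.Limits AlgebraicGeometry Opposite AlgSp Topology

namespace Groth.Agent.Helper2.DimFunEtale
open Groth.Agent.Helper2.AlgSpBasic
universe u
variable {S : Scheme.{u}}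

theorem main {X : Sp S} (hX : IsAlgSpace X) (hd : IsDecent X) {U : Over S}
    (a : (yon S).obj U ⟶ X) (ha : RepWith @Etale a) (hs : RepWith @Surjective a)
    (δX : Points X → ℤ)
    (hδ : ∀ x y : ↥U.left, x ⤳ y → x ≠ y →
      (δX ∘ Points.ofPt a) y < (δX ∘ Points.ofPt a) x ∧
        ((∀ z : ↥U.left, x ⤳ z → z ⤳ y → z = x ∨ z = y) →
          (δX ∘ Points.ofPt a) x = (δX ∘ Points.ofPt a) y + 1)) :
    ∀ x y : Points X, x ⤳ y → x ≠ y →
      δX y < δX x ∧ ((∀ z : Points X, x ⤳ z → z ⤳ y → z = x ∨ z = y) → δX x = δX y + 1) := by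
  intro x y hxy hne
  obtain ⟨v, rfl⟩ := surjective_ofPt a hs y
  obtain ⟨u, huv, rfl⟩ := FibreSpec.exists_specializes_of_qc_mono hX _ x hxy (hd x) a ha v rfl
  have hne' : u ≠ v := fun h => hne (by rw [h])
  obtain ⟨h1, h2⟩ := hδ u v huv hne'
  refine ⟨h1, fun himm => h2 fun w huw hwv => ?_⟩
  rcases himm (Points.ofPt a w) (huw.map (Points.continuous_ofPt a))
    (hwv.map (Points.continuous_ofPt a)) with h | h
  · left
    exact GenericSp.eq_of_specializes_of_isDecent hX hd a ha w u h huw
  · right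
    exact (GenericSp.eq_of_specializes_of_isDecent hX hd a ha v w h.symm hwv).symm

end Groth.Agent.Helper2.DimFunEtale
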