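import Mathlib
import Groth.Prelude.Def_AlgSp4
import Groth.Prelude.Def_AlgSpDec
import Groth.Agent.Lib.Helper2.AlgSp.GenericSp
import Groth.Agent.Lib.Helper2.AlgSp.FibreSpec
import Groth.Agent.Lib.Helper2.AlgSp.FiniteMor
import Groth.Agent.Lib.Helper2.AlgSp.Mor2
import Groth.Agent.Lib.Helper2.Sch.QfAt

/-!
# Dimension functions descend along surjective finite morphisms (S10406)
-/

set_option autoImplicit false

open CategoryTheory CategoryTheory.Limits AlgebraicGeometry Opposite AlgSp Topology

namespace Groth.Agent.Helper2.DimFunFinite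
open Groth.Agent.Helper2.AlgSpBasic
universe u
variable {S : Scheme.{u}}

/-- Incomparability: no specializations in the fibres of a finite morphism to a decent space. -/
theorem eq_of_specializes_of_isFiniteMor {X Y : Sp S} (hX : IsAlgSpace X) (hY : IsAlgSpace Y)
    (hdX : IsDecent X) (hdY : IsDecent Y) (f : Y ⟶ X) (hf : IsFiniteMor f)
    (y y' : Points Y) (hs : y ⤳ y') (e : Points.map f y = Points.map f y') : y = y' := by
  obtain ⟨V, b, hVaff, hbe, v, hv⟩ := FieldFibre.exists_affine_chart_through hX (Points.map f y')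
  obtain ⟨W, i, fst, sq, hWaff, hi⟩ := hf hVaff b
  have hfe : RepWith @Etale fst := repWith_of_isPullback @Etale sq.flip hbe
  -- a point of `W` over `y'` and `v`
  obtain ⟨p, hp1, hp2⟩ := points_exists_of_isPullback b f fst ((yon S).map i) sq y'
    (Points.ofScheme V v) (by rw [← Points.ofPt_eq_map_ofScheme]; exact hv.symm)
  obtain ⟨w', rfl⟩ := (Points.schemeHomeo W).surjective p
  have hw'y : Points.ofPt fst w' = y' := by
    rw [Points.ofPt_eq_map_ofScheme]; exact hp1
  have hw'v : i.left w' = v := by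
    have := Points.map_yon_map_apply i w'
    rw [hp2] at this
    exact ((Points.schemeHomeo V).injective this).symm
  -- lift the generization
  obtain ⟨w, hww', hwy⟩ := FibreSpec.exists_specializes_of_qc_mono hY y' y hs (hdY y) fst hfe w'
    hw'y
  -- images in `V`
  have hsV : i.left w ⤳ i.left w' := hww'.map i.left.continuous
  have hbi : ∀ t : ↥W.left, Points.ofPt b (i.left t) = Points.map f (Points.ofPt fst t) := by
    intro t
    rw [Points.map_ofPt, sq.w, ofPt_yon_map_comp]
  have heq : i.left w' = i.left w := by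
    refine GenericSp.eq_of_specializes_of_isDecent hX hdX b hbe (i.left w') (i.left w) ?_ hsV
    rw [hbi, hbi, hw'y, hwy, e]
  -- incomparability for the finite morphism `i`
  haveI : IsFinite i.left := hi
  have hq : i.left.QuasiFiniteAt w := Scheme.Hom.quasiFiniteAt i.left w
  have : w' = w := QfAt.eq_of_specializes_of_quasiFiniteAt hww' heq hq
  rw [← hwy, ← hw'y, this]

/-- `S10406`. -/
theorem main {X Y : Sp S} (hX : IsAlgSpace X) (hY : IsAlgSpace Y) (f : Y ⟶ X)
    (hf : IsFiniteMor f) (hs : IsSurjectiveMor f) (hdX : IsDecent X) (hdY : IsDecent Y)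
    (δ : Points X → ℤ)
    (hδ : ∀ a b : Points Y, a ⤳ b → a ≠ b →
      (δ ∘ Points.map f) b < (δ ∘ Points.map f) a ∧
        ((∀ c : Points Y, a ⤳ c → c ⤳ b → c = a ∨ c = b) →
          (δ ∘ Points.map f) a = (δ ∘ Points.map f) b + 1)) :
    ∀ a b : Points X, a ⤳ b → a ≠ b → δ b < δ a ∧
      ((∀ c : Points X, a ⤳ c → c ⤳ b → c = a ∨ c = b) → δ a = δ b + 1) := by
  intro a b hab hne
  have hcl : IsClosedMap (Points.map f) :=
    isClosedMap_of_isUnivClosedMor hX f
      (isUnivClosedMor_of_isIntegralMor (isIntegralMor_of_isFiniteMor hf))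
  obtain ⟨a', rfl⟩ := hs a
  obtain ⟨b', hb', rfl⟩ := hcl.specializingMap hab
  have hne' : a' ≠ b' := fun h => hne (by rw [h])
  obtain ⟨h1, h2⟩ := hδ a' b' hb' hne'
  refine ⟨h1, fun himm => h2 fun c' hac hcb => ?_⟩
  rcases himm (Points.map f c') (hac.map (Points.continuous_map f))
    (hcb.map (Points.continuous_map f)) with h | h
  · left
    exact (eq_of_specializes_of_isFiniteMor hX hY hdX hdY f hf a' c' hac h.symm).symm
  · right
    exact eq_of_specializes_of_isFiniteMor hX hY hdX hdY f hf c' b' hcb h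

end Groth.Agent.Helper2.DimFunFinite
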