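import Mathlib
import Groth.Prelude.Def_AlgSp4
import Groth.Prelude.Def_AlgSpDec
import Groth.Agent.Lib.Helper2.AlgSp.DimSp
import Groth.Agent.Lib.Helper2.AlgSp.PointsMor
import Groth.Agent.Lib.Helper2.Sch.DimIntegral

/-!
# Dimension of algebraic spaces and integral morphisms
-/

set_option autoImplicit false
set_option backward.isDefEq.respectTransparency false

open CategoryTheory CategoryTheory.Limits AlgebraicGeometry Opposite AlgSp

namespace Groth.Agent.Helper2.DimIntegralSp
universe u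
variable {S : Scheme.{u}}

open Groth.Agent.Helper2.ChartIndep Groth.Agent.Helper2.DimSp

/-- An affine open neighbourhood of a point of a chart, as a chart. -/
theorem exists_affine_chart {Y : Sp S} {V : Over S} (b : (yon S).obj V ⟶ Y)
    (hb : RepWith @Etale b) (v : ↥V.left) :
    ∃ (Z : Over S) (j : Z ⟶ V) (z : ↥Z.left), IsAffine Z.left ∧ IsOpenImmersion j.left ∧
      j.left z = v ∧ RepWith @Etale ((yon S).map j ≫ b) := by
  obtain ⟨V', hV', hvV'⟩ : ∃ V' : V.left.Opens, IsAffineOpen V' ∧ v ∈ V' := by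
    obtain ⟨V', hV', hv, -⟩ :=
      exists_isAffineOpen_mem_and_subset (TopologicalSpace.Opens.mem_top v)
    exact ⟨V', hV', hv⟩
  let Z : Over S := Over.mk (V'.ι ≫ V.hom)
  let j : Z ⟶ V := Over.homMk V'.ι rfl
  refine ⟨Z, j, ⟨v, hvV'⟩, hV', (inferInstance : IsOpenImmersion V'.ι), rfl, ?_⟩
  exact AlgSpBasic.repWith_comp @Etale
    ((repWith_yon_map_iff @Etale j).2 (inferInstance : Etale V'.ι)) hb

/-- S10448. -/
theorem dim_le_of_integral {X Y : Sp S} (hY : IsAlgSpace Y) (f : X ⟶ Y)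
    (hf : IsIntegralMor f) : AlgSp.dim X ≤ AlgSp.dim Y := by
  refine dim_le_of_forall _ fun U a ha u => ?_
  obtain ⟨V, b, hbe, hbs⟩ := hY.atlas
  obtain ⟨v, hv⟩ := AlgSpBasic.surjective_ofPt b hbs (Points.map f (Points.ofPt a u))
  obtain ⟨Z, j, z, hZ, hj, hz, hb'⟩ := exists_affine_chart b hbe v
  obtain ⟨W, i, fst, sq, hW, hi⟩ := hf hZ ((yon S).map j ≫ b)
  have hfst : RepWith @Etale fst :=
    (repWith_isStableUnderBaseChange (S := S) @Etale).of_isPullback sq.flip hb'
  have e : Points.map f (Points.ofPt a u) = Points.ofPt ((yon S).map j ≫ b) z := by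
    rw [AlgSpBasic.ofPt_yon_map_comp, hz, hv]
  obtain ⟨w, hw1, hw2⟩ := AlgSpBasic.exists_point_of_isPullback_right f ((yon S).map j ≫ b) fst i sq
    (Points.ofPt a u) z e
  have h : ringKrullDim ↥(W.left.presheaf.stalk w) = ringKrullDim ↥(U.left.presheaf.stalk u) :=
    (chart_indep (etaleInvariant_ringKrullDim (ringKrullDim ↥(U.left.presheaf.stalk u)))
      a fst ha hfst u w hw1.symm).mp rfl
  rw [← h]
  haveI := hZ
  haveI := hW
  haveI := hi
  exact (DimIntegral.ringKrullDim_stalk_le_of_integral_affine i.left w).trans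
    (stalk_le_dim ((yon S).map j ≫ b) hb' (i.left w))

/-- S10449. -/
theorem dim_le_of_integral_surjective {X Y : Sp S} (f : X ⟶ Y)
    (hf : IsIntegralMor f) (hs : IsSurjectiveMor f) : AlgSp.dim Y ≤ AlgSp.dim X := by
  refine dim_le_of_forall _ fun V b hb v => ?_
  obtain ⟨Z, j, z, hZ, hj, hz, hb'⟩ := exists_affine_chart b hb v
  obtain ⟨W, i, fst, sq, hW, hi⟩ := hf hZ ((yon S).map j ≫ b)
  have hfst : RepWith @Etale fst :=
    (repWith_isStableUnderBaseChange (S := S) @Etale).of_isPullback sq.flip hb'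
  haveI := hZ
  haveI := hW
  haveI := hi
  haveI := hj
  haveI : Surjective i.left := ⟨fun z' => by
    obtain ⟨x, hx⟩ := hs (Points.ofPt ((yon S).map j ≫ b) z')
    obtain ⟨w, -, hw⟩ := AlgSpBasic.exists_point_of_isPullback_right f ((yon S).map j ≫ b) fst i sq
      x z' hx
    exact ⟨w, hw⟩⟩
  have h1 : ringKrullDim ↥(V.left.presheaf.stalk v) = ringKrullDim ↥(Z.left.presheaf.stalk z) := by
    rw [ringKrullDim_stalk_eq_of_etale j.left z, hz]
  rw [h1]
  have h2 : ringKrullDim ↥(Z.left.presheaf.stalk z) ≤ topologicalKrullDim ↥Z.left := by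
    rw [DimFormula.topologicalKrullDim_eq_iSup]
    exact le_iSup (fun x : ↥Z.left => ringKrullDim ↥(Z.left.presheaf.stalk x)) z
  refine h2.trans ((DimIntegral.topologicalKrullDim_le_of_integral_surjective_affine i.left).trans ?_)
  unfold AlgSp.dim
  exact le_iSup_of_le W (le_iSup_of_le fst (le_iSup_of_le hfst le_rfl))

end Groth.Agent.Helper2.DimIntegralSp
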