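import Mathlib
import Groth.Prelude.Def_AlgSp4
import Groth.Prelude.Def_AlgSpDec
import Groth.Prelude.Def_Dual3
import Groth.Agent.Lib.Helper2.AlgSp.GenericSp
import Groth.Agent.Lib.Helper2.AlgSp.Mor2
import Groth.Agent.Lib.Helper2.FibDim.FibreChain

/-!
# dim X = dim Y + trdeg for proper dominant morphisms of integral algebraic spaces (S10460)
(helper2)
-/

set_option autoImplicit false
set_option backward.isDefEq.respectTransparency false

open CategoryTheory CategoryTheory.Limits AlgebraicGeometry Opposite AlgSp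

namespace Groth.Agent.Helper2.DimProperSp
universe u
variable {S : Scheme.{u}}

open Groth.Agent.Helper2.ChartIndep Groth.Agent.Helper2.ChartIndepMor

/-! ### Order lemmas in `WithBot ℕ∞` -/

theorem sSup_add_nat_le (s : Set (WithBot ℕ∞)) (r : ℕ) (c : WithBot ℕ∞)
    (h : ∀ t ∈ s, t + ((r : ℕ∞) : WithBot ℕ∞) ≤ c) : sSup s + ((r : ℕ∞) : WithBot ℕ∞) ≤ c := by
  induction c with
  | bot =>
    have hs : sSup s = ⊥ := by
      rw [sSup_eq_bot]
      intro t ht
      have h1 := h t ht
      rw [le_bot_iff, WithBot.add_eq_bot] at h1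
      rcases h1 with h1 | h1
      · exact h1
      · exact absurd h1 WithBot.coe_ne_bot
    rw [hs]
    simp
  | coe c =>
    induction c with
    | top => exact le_top
    | coe n =>
      by_cases hrn : r ≤ n
      · have hle : sSup s ≤ (((n - r : ℕ) : ℕ∞) : WithBot ℕ∞) := by
          apply sSup_le
          intro t ht
          have h1 := h t ht
          induction t with
          | bot => exact bot_le
          | coe k =>
            induction k with
            | top =>
              exfalso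
              have h2 : (((⊤ : ℕ∞) + (r : ℕ∞) : ℕ∞) : WithBot ℕ∞) ≤ ((n : ℕ∞) : WithBot ℕ∞) := by
                rw [WithBot.coe_add]; exact h1
              rw [WithBot.coe_le_coe, top_add] at h2
              exact absurd h2 (by simp)
            | coe k =>
              have h2 : (((k + r : ℕ) : ℕ∞) : WithBot ℕ∞) ≤ ((n : ℕ∞) : WithBot ℕ∞) := by
                push_cast; exact h1
              rw [WithBot.coe_le_coe, Nat.cast_le] at h2
              rw [WithBot.coe_le_coe, Nat.cast_le]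
              omega
        calc sSup s + ((r : ℕ∞) : WithBot ℕ∞)
            ≤ (((n - r : ℕ) : ℕ∞) : WithBot ℕ∞) + ((r : ℕ∞) : WithBot ℕ∞) := add_le_add hle le_rfl
          _ = (((n - r + r : ℕ) : ℕ∞) : WithBot ℕ∞) := by push_cast; rfl
          _ = ((n : ℕ∞) : WithBot ℕ∞) := by rw [Nat.sub_add_cancel hrn]
      · have hs : sSup s = ⊥ := by
          rw [sSup_eq_bot]
          intro t ht
          have h1 := h t ht
          induction t with
          | bot => rfl
          | coe k =>
            exfalso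
            have h2 : ((k + (r : ℕ∞) : ℕ∞) : WithBot ℕ∞) ≤ ((n : ℕ∞) : WithBot ℕ∞) := by
              rw [WithBot.coe_add]; exact h1
            rw [WithBot.coe_le_coe] at h2
            have h3 : ((r : ℕ) : ℕ∞) ≤ (n : ℕ∞) := le_trans le_add_self h2
            rw [Nat.cast_le] at h3
            exact hrn h3
        rw [hs]
        simp

theorem eq_top_of_forall_nat_le (c : WithBot ℕ∞) (r : ℕ)
    (h : ∀ m : ℕ, (((m + r : ℕ) : ℕ∞) : WithBot ℕ∞) ≤ c) : c = ⊤ := by
  induction c with
  | bot => exact absurd (h 0) (by simp)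
  | coe c =>
    induction c with
    | top => rfl
    | coe n =>
      have h1 := h (n + 1)
      rw [WithBot.coe_le_coe, Nat.cast_le] at h1
      omega

/-! ### Codimension of points via charts -/

theorem coheight_eq_of_etale {W U : Scheme.{u}} (g : W ⟶ U) [Etale g] (w : ↥W) :
    Order.coheight w = Order.coheight (g w) := by
  have h1 := ringKrullDim_stalk_eq_of_etale g w
  rw [AlgebraicGeometry.ringKrullDim_stalk_eq_coheight,
    AlgebraicGeometry.ringKrullDim_stalk_eq_coheight] at h1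
  exact WithBot.coe_injective h1

theorem etaleInvariant_coheight (k : ℕ∞) :
    EtaleInvariant (fun (U : Scheme.{u}) (u : ↥U) => k ≤ Order.coheight u) := by
  intro W U g hg w
  haveI := hg
  show k ≤ Order.coheight w ↔ k ≤ Order.coheight (g w)
  rw [coheight_eq_of_etale g w]

/-- The point `x` has codimension at least `k` (in some, equivalently any, etale chart). -/
def CoGE (X : Sp S) (x : Points X) (k : ℕ∞) : Prop :=
  HasAt (fun (U : Scheme.{u}) (u : ↥U) => k ≤ Order.coheight u) X x

theorem coGE_of_specializes {X : Sp S} (hX : IsAlgSpace X) (hd : IsDecent X) (x x' : Points X)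
    (h : x' ⤳ x) (k : ℕ∞) (hk : CoGE X x' k) : CoGE X x k ∧ (x' ≠ x → CoGE X x (k + 1)) := by
  obtain ⟨U, a, hae, has⟩ := hX.atlas
  obtain ⟨u, hu⟩ := AlgSpBasic.surjective_ofPt a has x
  obtain ⟨u', hu', hu'x'⟩ := FibreSpec.exists_specializes_of_qc_mono hX x x' h (hd x') a hae u hu
  have hk' : k ≤ Order.coheight u' :=
    (hasAt_iff_forall (etaleInvariant_coheight k) hX x').1 hk U a u' hae hu'x'
  have hle : u ≤ u' := hu'
  refine ⟨⟨U, a, u, hae, hu, hk'.trans (Order.coheight_anti hle)⟩, fun hne => ?_⟩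
  have hlt : u < u' := by
    refine lt_of_le_not_ge hle fun hge => hne ?_
    have h1 : u ⤳ u' := hge
    have h2 : u = u' := (h1.antisymm hu').eq
    rw [← hu, ← hu'x', h2]
  exact ⟨U, a, u, hae, hu, (add_le_add hk' le_rfl).trans (Order.coheight_add_one_le hlt)⟩

theorem exists_generization_coGE {Y : Sp S} (hY : IsAlgSpace Y) (hd : IsDecent Y) (y : Points Y)
    (m : ℕ) (hm : CoGE Y y ((m : ℕ∞) + 1)) : ∃ y' : Points Y, y' ⤳ y ∧ y' ≠ y ∧ CoGE Y y' m := by
  obtain ⟨V, b, v, hb, hv, hmv⟩ := hm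
  have h1 : ¬ Order.coheight v ≤ (m : ℕ∞) := by
    intro hle
    have h2 : (m : ℕ∞) + 1 ≤ (m : ℕ∞) := hmv.trans hle
    have h3 : ((m + 1 : ℕ) : ℕ∞) ≤ ((m : ℕ) : ℕ∞) := by push_cast; exact h2
    rw [Nat.cast_le] at h3
    omega
  have h2 : ∃ v' : ↥V.left, v < v' ∧ (m : ℕ∞) ≤ Order.coheight v' := by
    by_contra hcon
    apply h1
    rw [Order.coheight_le_coe_iff]
    intro t ht
    by_contra h'
    exact hcon ⟨t, ht, not_lt.1 h'⟩
  obtain ⟨v', hlt, hmv'⟩ := h2
  have hsp : v' ⤳ v := hlt.le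
  refine ⟨Points.ofPt b v', ?_, ?_, ⟨V, b, v', hb, rfl, hmv'⟩⟩
  · rw [← hv]
    exact hsp.map (Points.continuous_ofPt b)
  · intro e
    have h3 := GenericSp.eq_of_specializes_of_isDecent hY hd b hb v v' (hv.trans e.symm) hsp
    rw [h3] at hlt
    exact lt_irrefl _ hlt

/-- A point of the fibre through `x` with codimension at least the residue transcendence
degree. -/
theorem exists_base_point {X Y : Sp S} (f : X ⟶ Y) (hft : LocP @LocallyOfFiniteType f)
    (x : Points X) (r : ℕ)
    (hr : HasAtMor (fun _ _ h u => Dual3.resTrdeg h u = (r : Cardinal.{u})) f x) :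
    ∃ x₀ : Points X, Points.map f x₀ = Points.map f x ∧ CoGE X x₀ r := by
  obtain ⟨U, V, a, b, h, u, ha, hb, c, hu, hru⟩ := hr
  haveI : LocallyOfFiniteType h.left := hft a b h ha hb c
  have htr : Groth.Agent.Lib.Helper4.FibDim1.tr h.left u = r := by
    rw [Groth.Agent.Helper2.FibDim.resTrdeg_eq_tr] at hru
    exact_mod_cast hru
  obtain ⟨w, hw1, -, hw3⟩ := Groth.Agent.Helper2.FibDim.exists_fibre_point_coheight_ge h.left u
  rw [htr] at hw3
  refine ⟨Points.ofPt a w, ?_, ⟨U, a, w, ha, rfl, hw3⟩⟩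
  rw [← hu, ← DimIneqSp.ofPt_map_eq f a b h c w, ← DimIneqSp.ofPt_map_eq f a b h c u, hw1]

theorem dim_add_le_of_forall {F : Sp S} (r : ℕ) (c : WithBot ℕ∞)
    (h : ∀ (U : Over S) (a : (yon S).obj U ⟶ F), RepWith @Etale a → ∀ u : ↥U.left,
      ringKrullDim ↥(U.left.presheaf.stalk u) + ((r : ℕ∞) : WithBot ℕ∞) ≤ c) :
    AlgSp.dim F + ((r : ℕ∞) : WithBot ℕ∞) ≤ c := by
  have h1 : AlgSp.dim F ≤ sSup {t : WithBot ℕ∞ | t + ((r : ℕ∞) : WithBot ℕ∞) ≤ c} :=
    DimSp.dim_le_of_forall _ fun U a ha u => le_sSup (h U a ha u)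
  exact (add_le_add h1 le_rfl).trans (sSup_add_nat_le _ r c fun t ht => ht)

/-- S10460, the inequality `dim Y + r ≤ dim X`. -/
theorem dim_add_le {X Y : Sp S} (hX : IsAlgSpace X) (hYa : IsAlgSpace Y) (hdX : IsDecent X)
    (hdY : IsDecent Y) (f : X ⟶ Y) (hft : LocP @LocallyOfFiniteType f)
    (hcl : IsClosedMap (Points.map f)) (hdom : IsDominantMor f)
    (x : Points X) (hx : IsGenericPoint x (Set.univ : Set (Points X))) (r : ℕ)
    (hr : HasAtMor (fun _ _ h u => Dual3.resTrdeg h u = (r : Cardinal.{u})) f x) :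
    AlgSp.dim Y + ((r : ℕ∞) : WithBot ℕ∞) ≤ AlgSp.dim X := by
  obtain ⟨x₀, hx₀, hx₀r⟩ := exists_base_point f hft x r hr
  have hgen : IsGenericPoint (Points.map f x) (Set.univ : Set (Points Y)) := by
    have h1 := hx.image (Points.continuous_map f)
    rwa [Set.image_univ, hdom.closure_range] at h1
  have hspec := hcl.specializingMap
  -- the induction
  have Q : ∀ m : ℕ, ∀ y : Points Y, CoGE Y y m →
      ∃ x' : Points X, Points.map f x' = y ∧ CoGE X x' ((m + r : ℕ) : ℕ∞) := by
    intro m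
    induction m with
    | zero =>
      intro y _
      have h1 : Points.map f x₀ ⤳ y := by
        rw [hx₀]; exact hgen.specializes (Set.mem_univ y)
      obtain ⟨x', hx', hfx'⟩ := hspec h1
      refine ⟨x', hfx', ?_⟩
      have := (coGE_of_specializes hX hdX x' x₀ hx' r hx₀r).1
      simpa using this
    | succ m ih =>
      intro y hy
      obtain ⟨y', hy'y, hne, hy'm⟩ := exists_generization_coGE hYa hdY y m (by
        have : (((m + 1 : ℕ) : ℕ∞)) = (m : ℕ∞) + 1 := by push_cast; rfl
        rw [← this]; exact hy)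
      obtain ⟨x'', hx'', hx''m⟩ := ih y' hy'm
      have h1 : Points.map f x'' ⤳ y := by rw [hx'']; exact hy'y
      obtain ⟨x', hx', hfx'⟩ := hspec h1
      refine ⟨x', hfx', ?_⟩
      have hne' : x'' ≠ x' := by
        intro e
        apply hne
        rw [← hx'', ← hfx', e]
      have := (coGE_of_specializes hX hdX x' x'' hx' _ hx''m).2 hne'
      have e : (((m + r : ℕ) : ℕ∞)) + 1 = ((m + 1 + r : ℕ) : ℕ∞) := by push_cast; ring
      rwa [e] at this
  -- conclusion
  have key : ∀ (V : Over S) (b : (yon S).obj V ⟶ Y), RepWith @Etale b → ∀ (v : ↥V.left) (m : ℕ),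
      (m : ℕ∞) ≤ Order.coheight v → (((m + r : ℕ) : ℕ∞) : WithBot ℕ∞) ≤ AlgSp.dim X := by
    intro V b hb v m hm
    obtain ⟨x', -, U, a, u, ha, -, hu⟩ := Q m (Points.ofPt b v) ⟨V, b, v, hb, rfl, hm⟩
    refine le_trans ?_ (DimSp.stalk_le_dim a ha u)
    rw [AlgebraicGeometry.ringKrullDim_stalk_eq_coheight]
    exact WithBot.coe_le_coe.2 hu
  refine dim_add_le_of_forall r _ fun V b hb v => ?_
  rw [AlgebraicGeometry.ringKrullDim_stalk_eq_coheight]
  induction hk : Order.coheight v with
  | top =>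
    have : AlgSp.dim X = ⊤ := eq_top_of_forall_nat_le _ r fun m =>
      key V b hb v m (by rw [hk]; exact le_top)
    rw [this]
    exact le_top
  | coe n =>
    have := key V b hb v n (by rw [hk])
    refine le_trans (le_of_eq ?_) this
    push_cast
    rfl

/-- S10460 -/
theorem S10460_main {X Y : Sp S} (hX : IsAlgSpace X) (hYa : IsAlgSpace Y) (f : X ⟶ Y)
    (hY : IsLocNoethSp Y) (hdX : IsDecent X) (hdY : IsDecent Y)
    (hdom : IsDominantMor f) (hp : IsProperMor f)
    (x : Points X) (hx : IsGenericPoint x (Set.univ : Set (Points X))) (r : ℕ)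
    (hr : HasAtMor (fun _ _ h u => Dual3.resTrdeg h u = (r : Cardinal.{u})) f x) :
    AlgSp.dim X = AlgSp.dim Y + ((r : ℕ∞) : WithBot ℕ∞) :=
  le_antisymm (DimIneqSp.S10459_main hX hYa f hY hdX hp.2.1.1 x hx r hr)
    (dim_add_le hX hYa hdX hdY f hp.2.1.1
      (AlgSpBasic.isClosedMap_of_isUnivClosedMor hYa f hp.2.2) hdom x hx r hr)

end Groth.Agent.Helper2.DimProperSp
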