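import Mathlib
import Groth.Prelude.Def_AlgSp4
import Groth.Prelude.Def_AlgSpDec
import Groth.Agent.Lib.Helper2.AlgSp.LocP
import Groth.Agent.Lib.Helper2.AlgSp.Points
import Groth.Agent.Lib.Helper2.AlgSp.Diag

/-!
# Algebraic spaces locally of finite type over a field with discrete space of points (helper2)
-/

set_option autoImplicit false
universe u
open CategoryTheory CategoryTheory.Limits AlgebraicGeometry Opposite AlgSp
open Groth.Agent.Helper2.AlgSpBasic Groth.Agent.Helper2.EtaleLocal

namespace Groth.Agent.Helper2.DiscFib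

variable {S : Scheme.{u}}

/-- A scheme locally of finite type over a locally Noetherian scheme all of whose points are
closed is locally Artinian. -/
theorem isLocallyArtinian_of_forall_isClosed {U T : Scheme.{u}} (k : U ⟶ T)
    [LocallyOfFiniteType k] [IsLocallyNoetherian T] (h : ∀ u : U, IsClosed ({u} : Set U)) :
    IsLocallyArtinian U := by
  have hN : IsLocallyNoetherian U := LocallyOfFiniteType.isLocallyNoetherian k
  refine ⟨fun V => ?_⟩
  have hNR : IsNoetherianRing Γ(U, V.1) := IsLocallyNoetherian.component_noetherian V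
  rw [isArtinianRing_iff_isNoetherianRing_krullDimLE_zero]
  refine ⟨hNR, ?_⟩
  rw [Ring.krullDimLE_zero_iff]
  intro I hI
  obtain ⟨x, hx⟩ : ∃ x : V.1, V.2.primeIdealOf x = ⟨I, hI⟩ := by
    have : Function.Surjective V.2.primeIdealOf := by
      intro p
      refine ⟨V.2.isoSpec.inv.base p, ?_⟩
      change V.2.isoSpec.hom.base (V.2.isoSpec.inv.base p) = p
      rw [← Scheme.Hom.comp_apply, Iso.inv_hom_id]
      rfl
    exact this _
  have := V.2.primeIdealOf_isMaximal_of_isClosed x (h x)
  rwa [hx] at this

/-- A scheme locally of finite type over a locally Noetherian scheme all of whose points are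
closed is locally quasi-finite over it. -/
theorem locallyQuasiFinite_of_forall_isClosed {U T : Scheme.{u}} (k : U ⟶ T)
    [LocallyOfFiniteType k] [IsLocallyNoetherian T] (h : ∀ u : U, IsClosed ({u} : Set U)) :
    LocallyQuasiFinite k := by
  have := isLocallyArtinian_of_forall_isClosed k h
  rw [locallyQuasiFinite_iff_isDiscrete_preimage_singleton]
  intro x
  exact ⟨inferInstance⟩


/-- An algebraic space locally of finite type over a field whose space of points is discrete is
locally quasi-finite over the field. -/
theorem locP_lqf_of_discrete_points {Q : Sp S} (hQ : IsAlgSpace Q) {K : Type u} [Field K]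
    (str : Spec (CommRingCat.of K) ⟶ S) (q : Q ⟶ (yon S).obj (Over.mk str))
    (hq : LocP @LocallyOfFiniteType q) (hd : DiscreteTopology (Points Q)) :
    LocP (@LocallyQuasiFinite ⊓ @LocallyOfFiniteType) q := by
  obtain ⟨U, a, hae, has⟩ := hQ.atlas
  obtain ⟨k, hk⟩ := (yon S).map_surjective (a ≫ q)
  have comm : a ≫ q = (yon S).map k ≫ 𝟙 _ := by rw [hk, Category.comp_id]
  have hlft : LocallyOfFiniteType k.left := hq a (𝟙 _) k hae (repWith_id _ _) comm
  obtain ⟨R, s, t, sqR⟩ := exists_isPullback_yon hQ.diag a a
  have hs : Etale s.left := hae.property a _ _ sqR.flip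
  have ht : Etale t.left := hae.property a _ _ sqR
  have hJK : JacobsonSpace ↥(Over.mk str).left :=
    inferInstanceAs (JacobsonSpace ↥(Spec (CommRingCat.of K)))
  have hJ : JacobsonSpace ↥U.left := LocallyOfFiniteType.jacobsonSpace k.left
  have hsq : LocallyQuasiFinite s.left := locallyQuasiFinite_of_etale s.left
  have hclosed : ∀ u : U.left, IsClosed ({u} : Set U.left) := by
    intro u
    have hO : IsOpen (Points.ofPt a ⁻¹' {Points.ofPt a u}) :=
      (isOpen_discrete _).preimage (Points.continuous_ofPt a)
    obtain ⟨u0, hu0O, hu0c⟩ := nonempty_inter_closedPoints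
      (Z := Points.ofPt a ⁻¹' {Points.ofPt a u}) ⟨u, rfl⟩ hO.isLocallyClosed
    obtain ⟨r, hr1, hr2⟩ := exists_point_of_isPullback_yon a a s t sqR u0 u hu0O
    have hrc : IsClosed ({r} : Set R.left) := by
      have hdi : _root_.IsDiscrete (s.left ⁻¹' {u0}) := s.left.isDiscrete_preimage_singleton u0
      have hcl : IsClosed (s.left ⁻¹' {u0}) := IsClosed.preimage s.left.continuous hu0c
      obtain ⟨C, hC, hCr⟩ := (isDiscrete_iff_forall_mem_exists_isClosed.1 hdi) {r}
        (by rw [Set.singleton_subset_iff]; exact (hr1 : s.left r = u0))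
      rw [← hCr]
      exact hC.inter hcl
    have := Scheme.Hom.closePoints_subset_preimage_closedPoints t.left hrc
    change IsClosed ({t.left r} : Set U.left) at this
    rwa [hr2] at this
  have hNK : IsLocallyNoetherian (Over.mk str).left :=
    inferInstanceAs (IsLocallyNoetherian (Spec (CommRingCat.of K)))
  have hlqf : LocallyQuasiFinite k.left := locallyQuasiFinite_of_forall_isClosed k.left hclosed
  exact locP_of_one_chart _ hQ.diag (IsAlgSpace.yon_obj _).diag q a (𝟙 _) k hae has
    (repWith_id _ _) comm ⟨hlqf, hlft⟩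

end Groth.Agent.Helper2.DiscFib
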