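import Mathlib
import Groth.Agent.Lib.Helper2.AlgSp.DenseChart2
import Groth.Agent.Lib.Helper2.Sch.DvrClosure2
import Groth.Agent.Lib.Helper2.AlgSp.AffSpMain

/-!
# Closedness from liftings over discrete valuation rings, locally Noetherian base (helper2)
-/

set_option autoImplicit false
set_option linter.style.haveILetI false

open CategoryTheory CategoryTheory.Limits AlgebraicGeometry Opposite AlgSp TopologicalSpace

universe u

namespace Groth.Agent.Helper2.DvrSep

open Groth.Agent.Helper2.AlgSpBasic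

variable {S : Scheme.{u}}

theorem ofPt_yon_map {T W : Over S} (m : T ⟶ W) (t : ↥T.left) :
    Points.ofPt ((yon S).map m) t = Points.schemeHomeo W (m.left t) := by
  rw [Points.ofPt_eq_map_ofScheme]
  exact Points.map_yon_map_apply m t

theorem isClosedMap_points_of_dvr_lift_affine {X Y : Space S} (f : X ⟶ Y)
    (hft : IsFiniteTypeMor f.hom)
    (hlift : ∀ sq : ValSq f.hom, IsDiscreteValuationRing sq.A → sq.HasLift)
    (T : Over S) [IsAffine T.left] [IsLocallyNoetherian T.left] (g : (yon S).obj T ⟶ Y.obj)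
    (P : Sp S) (fst : P ⟶ X.obj) (snd : P ⟶ (yon S).obj T) (sq : IsPullback fst snd f.hom g) :
    IsClosedMap (Points.map snd) := by
  have hP : IsAlgSpace P :=
    isAlgSpace_of_isPullback Y.property.diag X.property (IsAlgSpace.yon_obj T) f.hom g fst snd sq
  have hPq : IsQuasiCompactSp P :=
    hft.2 (IsAlgSpace.yon_obj T) ((isQuasiCompactSp_yon_iff T).2 inferInstance) g fst snd sq
  obtain ⟨U', c, hU', hce, hcs⟩ := (isQuasiCompactSp_iff_exists_affine_chart hP).mp hPq
  haveI : IsAffine U'.left := hU'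
  obtain ⟨h', hh'⟩ := (yon S).map_surjective (c ≫ snd)
  have hl : LocP @LocallyOfFiniteType snd :=
    locP_of_isPullback @LocallyOfFiniteType X.property Y.property (IsAlgSpace.yon_obj T) hP
      f.hom g fst snd sq hft.1
  haveI : LocallyOfFiniteType h'.left :=
    hl c (𝟙 _) h' hce (repWith_of_isIso @Etale (𝟙 _)) (by rw [hh', Category.comp_id])
  haveI : QuasiCompact h'.left := inferInstance
  intro Z hZ
  refine isClosed_of_closure_subset fun t' ht' => ?_
  obtain ⟨t, rfl⟩ := (Points.schemeHomeo T).surjective t'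
  have hZU : IsClosed (Points.ofPt c ⁻¹' Z) := hZ.preimage (Points.continuous_ofPt c)
  have hsnd : ∀ u : ↥U'.left, Points.map snd (Points.ofPt c u) =
      Points.schemeHomeo T (h'.left u) := by
    intro u
    rw [Points.map_ofPt, ← hh', ofPt_yon_map]
  have himg : Points.map snd '' Z =
      Points.schemeHomeo T '' (h'.left.base '' (Points.ofPt c ⁻¹' Z)) := by
    ext y
    constructor
    · rintro ⟨z, hz, rfl⟩
      obtain ⟨u, rfl⟩ := surjective_ofPt c hcs z
      exact ⟨h'.left u, ⟨u, hz, rfl⟩, (hsnd u).symm⟩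
    · rintro ⟨_, ⟨u, hu, rfl⟩, rfl⟩
      exact ⟨Points.ofPt c u, hu, hsnd u⟩
  have ht : t ∈ closure (h'.left.base '' (Points.ofPt c ⁻¹' Z)) := by
    rw [himg, ← Homeomorph.image_closure] at ht'
    obtain ⟨w, hw, hwe⟩ := ht'
    rwa [(Points.schemeHomeo T).injective hwe] at hw
  obtain ⟨A, iA1, iA2, iA3, xA, yA, hxy, hcl, hxZ⟩ :=
    Groth.Agent.Helper2.DvrClosure.exists_dvr_of_mem_closure_image h'.left _ hZU t ht
  let a : Spec (CommRingCat.of A) ⟶ S := yA ≫ T.hom
  let yO : Over.mk a ⟶ T := Over.homMk yA rfl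
  have hx0 : xA ≫ U'.hom = Spec.map (CommRingCat.ofHom (algebraMap A (FractionRing A))) ≫ a := by
    rw [← Over.w h', ← Category.assoc, hxy, Category.assoc]
  let xO : Over.mk (Spec.map (CommRingCat.ofHom (algebraMap A (FractionRing A))) ≫ a) ⟶ U' :=
    Over.homMk xA hx0
  let jO : Over.mk (Spec.map (CommRingCat.ofHom (algebraMap A (FractionRing A))) ≫ a) ⟶
      Over.mk a := Over.homMk (Spec.map (CommRingCat.ofHom (algebraMap A (FractionRing A)))) rfl
  have hO : xO ≫ h' = jO ≫ yO := by
    apply Over.OverMorphism.ext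
    exact hxy
  have hyy : (yon S).map xO ≫ c ≫ snd = (yon S).map jO ≫ (yon S).map yO := by
    rw [← hh', ← Functor.map_comp, ← Functor.map_comp, hO]
  let sqV : ValSq f.hom :=
    { A := A, K := FractionRing A, str := a, top := (yon S).map xO ≫ c ≫ fst,
      bot := (yon S).map yO ≫ g,
      comm :=
        calc ((yon S).map xO ≫ c ≫ fst) ≫ f.hom
            = (yon S).map xO ≫ c ≫ (fst ≫ f.hom) := by simp only [Category.assoc]
          _ = (yon S).map xO ≫ c ≫ (snd ≫ g) := by rw [sq.w]
          _ = ((yon S).map xO ≫ c ≫ snd) ≫ g := by simp only [Category.assoc]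
          _ = ((yon S).map jO ≫ (yon S).map yO) ≫ g := by rw [hyy]
          _ = (yon S).map jO ≫ (yon S).map yO ≫ g := Category.assoc _ _ _ }
  have hdvr : IsDiscreteValuationRing sqV.A := iA3
  obtain ⟨l, hl1, hl2⟩ := hlift sqV hdvr
  have hl1' : (yon S).map jO ≫ l = (yon S).map xO ≫ c ≫ fst := hl1
  have hl2' : l ≫ f.hom = (yon S).map yO ≫ g := hl2
  -- the lift to `P`
  have hℓ1 : sq.lift l ((yon S).map yO) hl2' ≫ fst = l := sq.lift_fst _ _ _
  have hℓ2 : sq.lift l ((yon S).map yO) hl2' ≫ snd = (yon S).map yO := sq.lift_snd _ _ _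
  have hℓ3 : (yon S).map jO ≫ sq.lift l ((yon S).map yO) hl2' = (yon S).map xO ≫ c := by
    apply sq.hom_ext
    · rw [Category.assoc, hℓ1, hl1', Category.assoc]
    · rw [Category.assoc, hℓ2, Category.assoc, hyy]
  -- the generic point and the closed point
  obtain ⟨pt⟩ : Nonempty ↥(Spec (CommRingCat.of (FractionRing A))) :=
    (inferInstance : Nonempty (PrimeSpectrum (FractionRing A)))
  have hgen : Points.ofPt (sq.lift l ((yon S).map yO) hl2') (jO.left pt) ∈ Z := by
    have h1 : Points.ofPt (sq.lift l ((yon S).map yO) hl2') (jO.left pt) =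
        Points.ofPt ((yon S).map jO ≫ sq.lift l ((yon S).map yO) hl2') pt :=
      (ofPt_yon_map_comp _ _ _).symm
    rw [h1, hℓ3, ofPt_yon_map_comp]
    exact hxZ pt
  have hsp : jO.left pt ⤳ IsLocalRing.closedPoint A :=
    IsLocalRing.specializes_closedPoint (R := A) _
  have hclZ : Points.ofPt (sq.lift l ((yon S).map yO) hl2') (IsLocalRing.closedPoint A) ∈ Z :=
    (hsp.map (Points.continuous_ofPt _)).mem_closed hZ hgen
  refine ⟨_, hclZ, ?_⟩
  rw [Points.map_ofPt, hℓ2, ofPt_yon_map]
  exact congrArg _ hcl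

end Groth.Agent.Helper2.DvrSep
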