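import Mathlib
import Groth.Agent.Lib.Helper2.AlgSp.SepLift

/-!
# The two forms of the existence part of the valuative criterion
-/

namespace Groth.Agent.Helper2.AlgSpBasic
open CategoryTheory CategoryTheory.Limits AlgebraicGeometry Opposite AlgSp
universe u
variable {S : Scheme.{u}}

/-- A lift of a valuative square restricts to a lift over any dominating extension. -/
theorem domExt_hasLift_of_hasLift {F G : Sp S} {f : F ⟶ G} (sq : ValSq f) (e : sq.DomExt)
    (h : sq.HasLift) : e.HasLift := by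
  obtain ⟨l, hl1, hl2⟩ := h
  let φO : e.ptA' ⟶ sq.ptA := Over.homMk (Spec.map (CommRingCat.ofHom e.φ)) rfl
  let jK : e.ptK' ⟶ e.ptA' :=
    Over.homMk (Spec.map (CommRingCat.ofHom (algebraMap e.A' e.K'))) rfl
  let ψO : e.ptK' ⟶ sq.ptK := Over.homMk (Spec.map (CommRingCat.ofHom e.ψ)) (by
    change Spec.map _ ≫ Spec.map _ ≫ _ = Spec.map _ ≫ Spec.map _ ≫ _
    rw [← Spec.map_comp_assoc, ← Spec.map_comp_assoc, ← CommRingCat.ofHom_comp,
      ← CommRingCat.ofHom_comp, e.comm])
  have hOver : jK ≫ φO = ψO ≫ sq.j := by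
    apply Over.OverMorphism.ext
    show Spec.map _ ≫ Spec.map _ = Spec.map _ ≫ Spec.map _
    rw [← Spec.map_comp, ← Spec.map_comp, ← CommRingCat.ofHom_comp, ← CommRingCat.ofHom_comp,
      e.comm]
  refine ⟨(yon S).map φO ≫ l, ?_, ?_⟩
  · show (yon S).map jK ≫ (yon S).map φO ≫ l = (yon S).map ψO ≫ sq.top
    rw [← Category.assoc, ← Functor.map_comp, hOver, Functor.map_comp, Category.assoc, hl1]
  · show ((yon S).map φO ≫ l) ≫ f = (yon S).map φO ≫ sq.bot
    rw [Category.assoc, hl2]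

/-- The trivial dominating extension. -/
noncomputable def trivialDomExt {F G : Sp S} {f : F ⟶ G} (sq : ValSq f) : sq.DomExt :=
  { A' := sq.A, K' := sq.K, φ := RingHom.id _, ψ := RingHom.id _,
    comm := by rw [RingHom.comp_id, RingHom.id_comp],
    isLocalHom := isLocalHom_id _ }

theorem hasLiftExt_of_hasLift {F G : Sp S} {f : F ⟶ G} (sq : ValSq f) (h : sq.HasLift) :
    sq.HasLiftExt :=
  ⟨trivialDomExt sq, domExt_hasLift_of_hasLift sq _ h⟩

theorem existVC_of_existVCStrict {F G : Sp S} {f : F ⟶ G} (h : ExistVCStrict f) : ExistVC f :=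
  fun sq => hasLiftExt_of_hasLift sq (h sq)

theorem existVCStrict_of_existVC_of_isSeparatedMor {X Y : Sp S} (hX : IsAlgSpace X)
    (hY : IsAlgSpace Y) (f : X ⟶ Y) (hf : IsSeparatedMor f) (h : ExistVC f) :
    ExistVCStrict f := by
  intro sq
  obtain ⟨e, he⟩ := h sq
  exact hasLift_of_domExt_hasLift hX hY f hf sq e he

end Groth.Agent.Helper2.AlgSpBasic
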