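import Mathlib
import Groth.Agent.Lib.Helper2.AlgSp.DvrClosed
import Groth.Agent.Lib.Helper2.AlgSp.ExistVC
import Groth.Agent.Lib.Helper2.AlgSp.VCStrict

/-!
# S10065: properness and discrete valuation rings, locally Noetherian base (helper2)
-/

set_option autoImplicit false
set_option linter.style.haveILetI false

open CategoryTheory CategoryTheory.Limits AlgebraicGeometry Opposite AlgSp TopologicalSpace

universe u

namespace Groth.Agent.Helper2.DvrSep

open Groth.Agent.Helper2.AlgSpBasic Groth.Agent.Helper2.AffSp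

variable {S : Scheme.{u}}

theorem isClosedMap_points_of_dvr_lift {X Y : Space S} (f : X ⟶ Y)
    (hft : IsFiniteTypeMor f.hom)
    (hlift : ∀ sq : ValSq f.hom, IsDiscreteValuationRing sq.A → sq.HasLift)
    (T : Over S) [IsLocallyNoetherian T.left] (g : (yon S).obj T ⟶ Y.obj)
    (P : Sp S) (fst : P ⟶ X.obj) (snd : P ⟶ (yon S).obj T) (sq : IsPullback fst snd f.hom g) :
    IsClosedMap (Points.map snd) := by
  refine isClosedMap_points_of_chartFamily snd (fun r : T.left.affineOpens => opensOver r.1)
    (fun r => (yon S).map (opensOverι r.1))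
    (fun r => (repWith_yon_map_iff @Etale (opensOverι r.1)).mpr
      (inferInstanceAs (Etale r.1.ι)))
    (fun y => ?_) (fun r => pullback snd ((yon S).map (opensOverι r.1)))
    (fun r => pullback.fst _ _) (fun r => pullback.snd _ _)
    (fun r => IsPullback.of_hasPullback _ _) (fun r => ?_)
  · obtain ⟨t, rfl⟩ := (Points.schemeHomeo T).surjective y
    obtain ⟨_, ⟨A₀, hA₀, rfl⟩, htA₀, -⟩ :=
      T.left.isBasis_affineOpens.exists_subset_of_mem_open (Set.mem_univ t) isOpen_univ
    refine ⟨⟨A₀, hA₀⟩, ⟨t, htA₀⟩, ?_⟩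
    exact ofPt_yon_map (opensOverι A₀) ⟨t, htA₀⟩
  · haveI : IsAffine (opensOver r.1).left := r.2
    haveI : IsLocallyNoetherian (opensOver r.1).left :=
      (inferInstance : IsLocallyNoetherian (r.1 : Scheme.{u}))
    exact isClosedMap_points_of_dvr_lift_affine f hft hlift (opensOver r.1)
      ((yon S).map (opensOverι r.1) ≫ g) _ (pullback.fst _ _ ≫ fst) (pullback.snd _ _)
      ((IsPullback.of_hasPullback snd ((yon S).map (opensOverι r.1))).paste_horiz sq)

/-- A finite type morphism to a locally Noetherian algebraic space with liftings over discrete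
valuation rings is universally closed. -/
theorem isUnivClosedMor_of_dvr_lift {X Y : Space S} (f : X ⟶ Y)
    (hft : IsFiniteTypeMor f.hom) (hY : IsLocNoethSp Y.obj)
    (hlift : ∀ sq : ValSq f.hom, IsDiscreteValuationRing sq.A → sq.HasLift) :
    IsUnivClosedMor f.hom := by
  obtain ⟨V, p, hpe, hps, hV⟩ := hY
  haveI : IsLocallyNoetherian V.left := hV
  refine isUnivClosedMor_of_affSp_cover f hft.2 V p hpe hps fun n P fst snd sq => ?_
  haveI : IsLocallyNoetherian (affSp (ULift.{u} (Fin n)) V).left :=
    LocallyOfFiniteType.isLocallyNoetherian (𝔸(ULift.{u} (Fin n); V.left) ↘ V.left)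
  exact isClosedMap_points_of_dvr_lift f hft hlift _ _ P fst snd sq

theorem S10065_main {X Y : Space S} (f : X ⟶ Y)
    (hqs : IsQuasiSeparatedMor f.hom) (hft : IsFiniteTypeMor f.hom) (hY : IsLocNoethSp Y.obj) :
    IsProperMor f.hom ↔
      ∀ sq : ValSq f.hom, IsDiscreteValuationRing sq.A → sq.HasLift ∧ sq.HasUniq := by
  constructor
  · rintro ⟨hsep, -, huc⟩ sq _
    have h1 : ExistVC f.hom :=
      existVC_of_isQuasiSeparatedMor_of_isUnivClosedMor X.property Y.property f.hom hqs huc
    have h2 : ExistVCStrict f.hom :=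
      existVCStrict_of_existVC_of_isSeparatedMor X.property Y.property f.hom hsep h1
    exact ⟨h2 sq, Groth.Agent.S10290.result f hsep sq⟩
  · intro H
    exact ⟨isSeparatedMor_of_dvr_uniq f hqs hft.1 hY (fun sq h => (H sq h).2), hft,
      isUnivClosedMor_of_dvr_lift f hft hY (fun sq h => (H sq h).1)⟩

end Groth.Agent.Helper2.DvrSep
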