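import Mathlib
import Groth.Agent.Lib.Helper2.AlgSp.DvrProper

/-!
# Closedness from liftings after extension over discrete valuation rings (helper2)
-/

set_option autoImplicit false
set_option linter.style.haveILetI false

open CategoryTheory CategoryTheory.Limits AlgebraicGeometry Opposite AlgSp TopologicalSpace

universe u

namespace Groth.Agent.Helper2.DvrSep

open Groth.Agent.Helper2.AlgSpBasic Groth.Agent.Helper2.AffSp

variable {S : Scheme.{u}}

theorem isClosedMap_points_of_dvr_liftExt_affine {X Y : Space S} (f : X ⟶ Y)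
    (hft : IsFiniteTypeMor f.hom)
    (hlift : ∀ sq : ValSq f.hom, IsDiscreteValuationRing sq.A → sq.HasLiftExt)
    (T : Over S) [IsAffine T.left] [IsLocallyNoetherian T.left] (g : (yon S).obj T ⟶ Y.obj)
    (P : Sp S) (fst : P ⟶ X.obj) (snd : P ⟶ (yon S).obj T) (sq : IsPullback fst snd f.hom g) :
    IsClosedMap (Points.map snd) := by
  have hP : IsAlgSpace P :=
    isAlgSpace_of_isPullback Y.property.diag X.property (IsAlgSpace.yon_obj T) f.hom g fst snd sq
  have hPq : IsQuasiCompactSp P :=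
    hft.2 (IsAlgSpace.yon_obj T) ((isQuasiCompactSp_yon_iff T).2 inferInstance) g fst snd sq
  obtain ⟨U', c, hU', hce, hcs⟩ := (isQuasiCompactSp_iff_exists_affine_chart hP).mp hPq
  haveI : IsAffine U'.left := hU'
  obtain ⟨h', hh'⟩ := (yon S).map_surjective (c ≫ snd)
  have hl : LocP @LocallyOfFiniteType snd :=
    locP_of_isPullback @LocallyOfFiniteType X.property Y.property (IsAlgSpace.yon_obj T) hP
      f.hom g fst snd sq hft.1
  haveI : LocallyOfFiniteType h'.left :=
    hl c (𝟙 _) h' hce (repWith_of_isIso @Etale (𝟙 _)) (by rw [hh', Category.comp_id])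
  haveI : QuasiCompact h'.left := inferInstance
  intro Z hZ
  refine isClosed_of_closure_subset fun t' ht' => ?_
  obtain ⟨t, rfl⟩ := (Points.schemeHomeo T).surjective t'
  have hZU : IsClosed (Points.ofPt c ⁻¹' Z) := hZ.preimage (Points.continuous_ofPt c)
  have hsnd : ∀ u : ↥U'.left, Points.map snd (Points.ofPt c u) =
      Points.schemeHomeo T (h'.left u) := by
    intro u
    rw [Points.map_ofPt, ← hh', ofPt_yon_map]
  have himg : Points.map snd '' Z =
      Points.schemeHomeo T '' (h'.left.base '' (Points.ofPt c ⁻¹' Z)) := by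
    ext y
    constructor
    · rintro ⟨z, hz, rfl⟩
      obtain ⟨u, rfl⟩ := surjective_ofPt c hcs z
      exact ⟨h'.left u, ⟨u, hz, rfl⟩, (hsnd u).symm⟩
    · rintro ⟨_, ⟨u, hu, rfl⟩, rfl⟩
      exact ⟨Points.ofPt c u, hu, hsnd u⟩
  have ht : t ∈ closure (h'.left.base '' (Points.ofPt c ⁻¹' Z)) := by
    rw [himg, ← Homeomorph.image_closure] at ht'
    obtain ⟨w, hw, hwe⟩ := ht'
    rwa [(Points.schemeHomeo T).injective hwe] at hw
  obtain ⟨A, iA1, iA2, iA3, xA, yA, hxy, hcl, hxZ⟩ :=
    Groth.Agent.Helper2.DvrClosure.exists_dvr_of_mem_closure_image h'.left _ hZU t ht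
  let a : Spec (CommRingCat.of A) ⟶ S := yA ≫ T.hom
  let yO : Over.mk a ⟶ T := Over.homMk yA rfl
  have hx0 : xA ≫ U'.hom = Spec.map (CommRingCat.ofHom (algebraMap A (FractionRing A))) ≫ a := by
    rw [← Over.w h', ← Category.assoc, hxy, Category.assoc]
  let xO : Over.mk (Spec.map (CommRingCat.ofHom (algebraMap A (FractionRing A))) ≫ a) ⟶ U' :=
    Over.homMk xA hx0
  let jO : Over.mk (Spec.map (CommRingCat.ofHom (algebraMap A (FractionRing A))) ≫ a) ⟶
      Over.mk a := Over.homMk (Spec.map (CommRingCat.ofHom (algebraMap A (FractionRing A)))) rfl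
  have hO : xO ≫ h' = jO ≫ yO := by
    apply Over.OverMorphism.ext
    exact hxy
  have hyy : (yon S).map xO ≫ c ≫ snd = (yon S).map jO ≫ (yon S).map yO := by
    rw [← hh', ← Functor.map_comp, ← Functor.map_comp, hO]
  let sqV : ValSq f.hom :=
    { A := A, K := FractionRing A, str := a, top := (yon S).map xO ≫ c ≫ fst,
      bot := (yon S).map yO ≫ g,
      comm :=
        calc ((yon S).map xO ≫ c ≫ fst) ≫ f.hom
            = (yon S).map xO ≫ c ≫ (fst ≫ f.hom) := by simp only [Category.assoc]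
          _ = (yon S).map xO ≫ c ≫ (snd ≫ g) := by rw [sq.w]
          _ = ((yon S).map xO ≫ c ≫ snd) ≫ g := by simp only [Category.assoc]
          _ = ((yon S).map jO ≫ (yon S).map yO) ≫ g := by rw [hyy]
          _ = (yon S).map jO ≫ (yon S).map yO ≫ g := Category.assoc _ _ _ }
  have hdvr : IsDiscreteValuationRing sqV.A := iA3
  obtain ⟨e, l, hl1, hl2⟩ := hlift sqV hdvr
  -- the morphisms of the extension
  let φO : e.ptA' ⟶ sqV.ptA := Over.homMk (Spec.map (CommRingCat.ofHom e.φ)) rfl
  let jK : e.ptK' ⟶ e.ptA' :=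
    Over.homMk (Spec.map (CommRingCat.ofHom (algebraMap e.A' e.K'))) rfl
  let ψO : e.ptK' ⟶ sqV.ptK := Over.homMk (Spec.map (CommRingCat.ofHom e.ψ)) (by
    change Spec.map _ ≫ Spec.map _ ≫ _ = Spec.map _ ≫ Spec.map _ ≫ _
    rw [← Spec.map_comp_assoc, ← Spec.map_comp_assoc, ← CommRingCat.ofHom_comp,
      ← CommRingCat.ofHom_comp, e.comm])
  have hOver : jK ≫ φO = ψO ≫ jO := by
    apply Over.OverMorphism.ext
    show Spec.map _ ≫ Spec.map _ = Spec.map _ ≫ Spec.map _
    rw [← Spec.map_comp, ← Spec.map_comp, ← CommRingCat.ofHom_comp, ← CommRingCat.ofHom_comp,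
      e.comm]
  have hl1' : (yon S).map jK ≫ l = (yon S).map ψO ≫ (yon S).map xO ≫ c ≫ fst := hl1
  have hl2' : l ≫ f.hom = ((yon S).map φO ≫ (yon S).map yO) ≫ g := by
    rw [Category.assoc]
    exact hl2
  -- the lift to `P`
  have hℓ1 : sq.lift l ((yon S).map φO ≫ (yon S).map yO) hl2' ≫ fst = l := sq.lift_fst _ _ _
  have hℓ2 : sq.lift l ((yon S).map φO ≫ (yon S).map yO) hl2' ≫ snd =
      (yon S).map φO ≫ (yon S).map yO := sq.lift_snd _ _ _
  have hℓ3 : (yon S).map jK ≫ sq.lift l ((yon S).map φO ≫ (yon S).map yO) hl2' =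
      (yon S).map ψO ≫ (yon S).map xO ≫ c := by
    apply sq.hom_ext
    · rw [Category.assoc, hℓ1, hl1']
      simp only [Category.assoc]
    · rw [Category.assoc, hℓ2, ← Category.assoc, ← Functor.map_comp, hOver, Functor.map_comp]
      simp only [Category.assoc]
      rw [hyy]
  obtain ⟨pt⟩ : Nonempty ↥(Spec (CommRingCat.of e.K')) :=
    (inferInstance : Nonempty (PrimeSpectrum e.K'))
  have hgen : Points.ofPt (sq.lift l ((yon S).map φO ≫ (yon S).map yO) hl2') (jK.left pt) ∈ Z := by
    have h1 : Points.ofPt (sq.lift l ((yon S).map φO ≫ (yon S).map yO) hl2') (jK.left pt) =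
        Points.ofPt ((yon S).map jK ≫ sq.lift l ((yon S).map φO ≫ (yon S).map yO) hl2') pt :=
      (ofPt_yon_map_comp _ _ _).symm
    rw [h1, hℓ3, ofPt_yon_map_comp, ofPt_yon_map_comp]
    exact hxZ _
  have hsp : jK.left pt ⤳ IsLocalRing.closedPoint e.A' :=
    IsLocalRing.specializes_closedPoint (R := e.A') _
  have hclZ : Points.ofPt (sq.lift l ((yon S).map φO ≫ (yon S).map yO) hl2')
      (IsLocalRing.closedPoint e.A') ∈ Z :=
    (hsp.map (Points.continuous_ofPt _)).mem_closed hZ hgen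
  refine ⟨_, hclZ, ?_⟩
  rw [Points.map_ofPt, hℓ2, ofPt_yon_map_comp, ofPt_yon_map]
  haveI : IsLocalHom e.φ := e.isLocalHom
  have h5 : φO.left (IsLocalRing.closedPoint e.A') = IsLocalRing.closedPoint A :=
    IsLocalRing.comap_closedPoint e.φ
  rw [h5]
  exact congrArg _ hcl

theorem isClosedMap_points_of_dvr_liftExt {X Y : Space S} (f : X ⟶ Y)
    (hft : IsFiniteTypeMor f.hom)
    (hlift : ∀ sq : ValSq f.hom, IsDiscreteValuationRing sq.A → sq.HasLiftExt)
    (T : Over S) [IsLocallyNoetherian T.left] (g : (yon S).obj T ⟶ Y.obj)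
    (P : Sp S) (fst : P ⟶ X.obj) (snd : P ⟶ (yon S).obj T) (sq : IsPullback fst snd f.hom g) :
    IsClosedMap (Points.map snd) := by
  refine isClosedMap_points_of_chartFamily snd (fun r : T.left.affineOpens => opensOver r.1)
    (fun r => (yon S).map (opensOverι r.1))
    (fun r => (repWith_yon_map_iff @Etale (opensOverι r.1)).mpr
      (inferInstanceAs (Etale r.1.ι)))
    (fun y => ?_) (fun r => pullback snd ((yon S).map (opensOverι r.1)))
    (fun r => pullback.fst _ _) (fun r => pullback.snd _ _)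
    (fun r => IsPullback.of_hasPullback _ _) (fun r => ?_)
  · obtain ⟨t, rfl⟩ := (Points.schemeHomeo T).surjective y
    obtain ⟨_, ⟨A₀, hA₀, rfl⟩, htA₀, -⟩ :=
      T.left.isBasis_affineOpens.exists_subset_of_mem_open (Set.mem_univ t) isOpen_univ
    refine ⟨⟨A₀, hA₀⟩, ⟨t, htA₀⟩, ?_⟩
    exact ofPt_yon_map (opensOverι A₀) ⟨t, htA₀⟩
  · haveI : IsAffine (opensOver r.1).left := r.2
    haveI : IsLocallyNoetherian (opensOver r.1).left :=
      (inferInstance : IsLocallyNoetherian (r.1 : Scheme.{u}))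
    exact isClosedMap_points_of_dvr_liftExt_affine f hft hlift (opensOver r.1)
      ((yon S).map (opensOverι r.1) ≫ g) _ (pullback.fst _ _ ≫ fst) (pullback.snd _ _)
      ((IsPullback.of_hasPullback snd ((yon S).map (opensOverι r.1))).paste_horiz sq)

/-- A finite type morphism to a locally Noetherian algebraic space with liftings after extension
over discrete valuation rings is universally closed. -/
theorem isUnivClosedMor_of_dvr_liftExt {X Y : Space S} (f : X ⟶ Y)
    (hft : IsFiniteTypeMor f.hom) (hY : IsLocNoethSp Y.obj)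
    (hlift : ∀ sq : ValSq f.hom, IsDiscreteValuationRing sq.A → sq.HasLiftExt) :
    IsUnivClosedMor f.hom := by
  obtain ⟨V, p, hpe, hps, hV⟩ := hY
  haveI : IsLocallyNoetherian V.left := hV
  refine isUnivClosedMor_of_affSp_cover f hft.2 V p hpe hps fun n P fst snd sq => ?_
  haveI : IsLocallyNoetherian (affSp (ULift.{u} (Fin n)) V).left :=
    LocallyOfFiniteType.isLocallyNoetherian (𝔸(ULift.{u} (Fin n); V.left) ↘ V.left)
  exact isClosedMap_points_of_dvr_liftExt f hft hlift _ _ P fst snd sq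

end Groth.Agent.Helper2.DvrSep
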