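import Mathlib
import Groth.Agent.Lib.Helper2.AlgSp.FiniteMor
namespace Groth.Agent.Helper2.AlgSpBasic
open CategoryTheory CategoryTheory.Limits AlgebraicGeometry Opposite AlgSp Topology
open Groth.Agent.Helper2.AlgStLib Groth.Agent.Helper2.EtaleLocal
universe u
variable {S : Scheme.{u}}

/-- Universal injectivity descends along a base change that is surjective on points. -/
theorem isUnivInjectiveMor_of_surjective_base_change {X Y Y' P : Sp S} (hY' : IsAlgSpace Y')
    (hY : IsAlgSpace Y) (f : X ⟶ Y)
    (g : Y' ⟶ Y) (hg : IsSurjectiveMor g) (fst : P ⟶ X) (snd : P ⟶ Y')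
    (sq : IsPullback fst snd f g) (h : IsUnivInjectiveMor snd) : IsUnivInjectiveMor f := by
  intro T XT hT t p q sqT a b hab
  -- base change everything to `T' = T ×_Y Y'`
  have sqT' := IsPullback.of_hasPullback t g
  have hT' : IsAlgSpace (pullback t g) :=
    isAlgSpace_of_isPullback hY.diag hT hY' t g _ _ sqT'
  have hsurj : IsSurjectiveMor (pullback.fst t g) :=
    isSurjectiveMor_of_isPullback g t (pullback.snd t g) (pullback.fst t g) sqT'.flip hg
  obtain ⟨t', ht'⟩ := hsurj (Points.map q a)
  have sqX' := IsPullback.of_hasPullback q (pullback.fst t g)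
  -- the map `XT ×_T T' ⟶ P`
  have hcomm : (pullback.fst q (pullback.fst t g) ≫ p) ≫ f =
      (pullback.snd q (pullback.fst t g) ≫ pullback.snd t g) ≫ g := by
    rw [Category.assoc, sqT.w, ← Category.assoc, pullback.condition, Category.assoc,
      pullback.condition, Category.assoc]
  let m : pullback q (pullback.fst t g) ⟶ P := sq.lift _ _ hcomm
  have sqm : IsPullback m (pullback.snd q (pullback.fst t g)) snd (pullback.snd t g) := by
    refine IsPullback.of_right ?_ (sq.lift_snd _ _ hcomm) sq
    rw [sq.lift_fst]
    have big : IsPullback (pullback.fst q (pullback.fst t g) ≫ p)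
        (pullback.snd q (pullback.fst t g)) f (pullback.fst t g ≫ t) := sqX'.paste_horiz sqT
    have e : pullback.fst t g ≫ t = pullback.snd t g ≫ g := pullback.condition
    rw [e] at big
    exact big
  have hinj : Function.Injective (Points.map (pullback.snd q (pullback.fst t g))) :=
    h hT' (pullback.snd t g) m _ sqm
  obtain ⟨a', ha'1, ha'2⟩ := points_exists_of_isPullback (pullback.fst t g) q
    (pullback.fst q (pullback.fst t g)) (pullback.snd q (pullback.fst t g)) sqX' a t' ht'.symm
  obtain ⟨b', hb'1, hb'2⟩ := points_exists_of_isPullback (pullback.fst t g) q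
    (pullback.fst q (pullback.fst t g)) (pullback.snd q (pullback.fst t g)) sqX' b t'
    (by rw [← hab]; exact ht'.symm)
  have : a' = b' := hinj (by rw [ha'2, hb'2])
  rw [← ha'1, ← hb'1, this]

/-- For a representable morphism, representable universal injectivity is injectivity on
field-valued points. -/
theorem repWith_universallyInjective_iff_of_representable {X Y : Sp S} (f : X ⟶ Y)
    (hf : Representable f) :
    RepWith @UniversallyInjective f ↔
      ∀ (K : Type u) [Field K] (str : Spec (CommRingCat.of K) ⟶ S),
        Function.Injective (fun a : (yon S).obj (Over.mk str) ⟶ X => a ≫ f) := by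
  constructor
  · intro h K _ str a b hab
    have hab' : a ≫ f = b ≫ f := hab
    have hrep := h.rep
    have sq := hrep.isPullback (a ≫ f)
    have hui : UniversallyInjective (hrep.snd (a ≫ f)).left := h.property _ _ _ sq
    obtain ⟨a', ha'⟩ := (yon S).map_surjective (sq.lift a (𝟙 _) (by rw [Category.id_comp]))
    obtain ⟨b', hb'⟩ := (yon S).map_surjective
      (sq.lift b (𝟙 _) (by rw [Category.id_comp, hab']))
    have ha1 : a' ≫ hrep.snd (a ≫ f) = 𝟙 _ := (yon S).map_injective (by
      rw [Functor.map_comp, ha', sq.lift_snd, CategoryTheory.Functor.map_id])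
    have hb1 : b' ≫ hrep.snd (a ≫ f) = 𝟙 _ := (yon S).map_injective (by
      rw [Functor.map_comp, hb', sq.lift_snd, CategoryTheory.Functor.map_id])
    have key : ∀ (K : Type u) [Field K], Function.Injective
        (fun g : Spec (CommRingCat.of K) ⟶ (hrep.pullback (a ≫ f)).left =>
          g ≫ (hrep.snd (a ≫ f)).left) :=
      ((tfae_universallyInjective (hrep.snd (a ≫ f)).left).out 0 1).1 hui
    have hleft : a'.left = b'.left := by
      apply key K
      show a'.left ≫ (hrep.snd (a ≫ f)).left = b'.left ≫ (hrep.snd (a ≫ f)).left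
      rw [← Over.comp_left, ← Over.comp_left, ha1, hb1]
    have hab'' : a' = b' := Over.OverMorphism.ext hleft
    have e1 : a = (yon S).map a' ≫ hrep.fst (a ≫ f) := by rw [ha', sq.lift_fst]
    have e2 : b = (yon S).map b' ≫ hrep.fst (a ≫ f) := by rw [hb', sq.lift_fst]
    rw [e1, e2, hab'']
  · intro h
    refine ⟨hf, fun T E g fst snd sq => ?_⟩
    show UniversallyInjective snd.left
    have key : (∀ (K : Type u) [Field K], Function.Injective
        (fun g : Spec (CommRingCat.of K) ⟶ E.left => g ≫ snd.left)) →
        UniversallyInjective snd.left :=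
      ((tfae_universallyInjective snd.left).out 0 1).2
    apply key
    intro K _ g₁ g₂ hg
    have hg' : g₁ ≫ snd.left = g₂ ≫ snd.left := hg
    let str : Spec (CommRingCat.of K) ⟶ S := g₁ ≫ E.hom
    have hstr : g₂ ≫ E.hom = str := by
      show g₂ ≫ E.hom = g₁ ≫ E.hom
      rw [← Over.w snd, ← Category.assoc, ← Category.assoc, hg']
    let g₁' : Over.mk str ⟶ E := Over.homMk g₁ rfl
    let g₂' : Over.mk str ⟶ E := Over.homMk g₂ hstr
    have hsnd : g₁' ≫ snd = g₂' ≫ snd := Over.OverMorphism.ext hg'
    have h1 : (yon S).map g₁' ≫ fst = (yon S).map g₂' ≫ fst := by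
      apply h K str
      show ((yon S).map g₁' ≫ fst) ≫ f = ((yon S).map g₂' ≫ fst) ≫ f
      rw [Category.assoc, Category.assoc, sq.w, ← Category.assoc, ← Category.assoc,
        ← Functor.map_comp, ← Functor.map_comp, hsnd]
    have h2 : (yon S).map g₁' = (yon S).map g₂' := by
      apply sq.hom_ext h1
      rw [← Functor.map_comp, ← Functor.map_comp, hsnd]
    have h3 : g₁' = g₂' := (yon S).map_injective h2
    exact congrArg (fun m => m.left) h3

end Groth.Agent.Helper2.AlgSpBasic
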