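import Mathlib
import Groth.Prelude.Def_AlgSp4
import Groth.Prelude.Def_AlgSpDec
import Groth.Agent.Lib.Helper2.AlgSp.QfAtBCSp
import Groth.Agent.Lib.Helper2.Sch.UnrAtBC

/-!
# Unramifiedness at a point of a morphism of algebraic spaces: chart independence, base change,
openness of the locus
-/

set_option autoImplicit false
set_option backward.isDefEq.respectTransparency false
set_option linter.style.haveILetI false

open CategoryTheory CategoryTheory.Limits AlgebraicGeometry Opposite AlgSp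

namespace Groth.Agent.Helper2.UnrAtSp
universe u
variable {S : Scheme.{u}}

open Groth.Agent.Helper2.ChartIndep Groth.Agent.Helper2.UnrAt

/-- Unramifiedness at a point does not depend on the chart diagram. -/
theorem unrQ_chart_indep {X Y : Sp S} (hX : Representable (Limits.diag X))
    (hY : Representable (Limits.diag Y)) (f : X ⟶ Y)
    {U₁ V₁ U₂ V₂ : Over S} (a₁ : (yon S).obj U₁ ⟶ X) (b₁ : (yon S).obj V₁ ⟶ Y) (h₁ : U₁ ⟶ V₁)
    (a₂ : (yon S).obj U₂ ⟶ X) (b₂ : (yon S).obj V₂ ⟶ Y) (h₂ : U₂ ⟶ V₂)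
    (ha₁ : RepWith @Etale a₁) (hb₁ : RepWith @Etale b₁) (ha₂ : RepWith @Etale a₂)
    (hb₂ : RepWith @Etale b₂) (c₁ : a₁ ≫ f = (yon S).map h₁ ≫ b₁)
    (c₂ : a₂ ≫ f = (yon S).map h₂ ≫ b₂) (u₁ : ↥U₁.left) (u₂ : ↥U₂.left)
    (e : Points.ofPt a₁ u₁ = Points.ofPt a₂ u₂) :
    UnrQ _ _ h₁.left u₁ ↔ UnrQ _ _ h₂.left u₂ := by
  obtain ⟨U₃, p₁, p₂, sqU⟩ := AlgSpBasic.exists_isPullback_yon hX a₁ a₂
  obtain ⟨V₃, q₁, q₂, sqV⟩ := AlgSpBasic.exists_isPullback_yon hY b₁ b₂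
  have hp₂ : Etale p₂.left := ha₁.property a₂ ((yon S).map p₁) p₂ sqU
  have hp₁ : Etale p₁.left := ha₂.property a₁ ((yon S).map p₂) p₁ sqU.flip
  have hq₂ : Etale q₂.left := hb₁.property b₂ ((yon S).map q₁) q₂ sqV
  have hq₁ : Etale q₁.left := hb₂.property b₁ ((yon S).map q₂) q₁ sqV.flip
  have hcomm : (yon S).map (p₁ ≫ h₁) ≫ b₁ = (yon S).map (p₂ ≫ h₂) ≫ b₂ := by
    rw [Functor.map_comp, Functor.map_comp, Category.assoc, Category.assoc, ← c₁, ← c₂,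
      ← Category.assoc, ← Category.assoc, sqU.w]
  obtain ⟨h₃, hh₃⟩ := (yon S).map_surjective (sqV.lift _ _ hcomm)
  have e₁ : h₃ ≫ q₁ = p₁ ≫ h₁ := by
    apply (yon S).map_injective
    rw [Functor.map_comp, hh₃, sqV.lift_fst]
  have e₂ : h₃ ≫ q₂ = p₂ ≫ h₂ := by
    apply (yon S).map_injective
    rw [Functor.map_comp, hh₃, sqV.lift_snd]
  obtain ⟨u₃, hu₁, hu₂⟩ := AlgSpBasic.exists_point_of_isPullback_yon a₁ a₂ p₁ p₂ sqU u₁ u₂ e
  haveI := hp₁
  haveI := hp₂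
  haveI := hq₁
  haveI := hq₂
  have s₁ : p₁.left ≫ h₁.left = h₃.left ≫ q₁.left := by
    rw [← Over.comp_left, ← Over.comp_left, e₁]
  have s₂ : p₂.left ≫ h₂.left = h₃.left ≫ q₂.left := by
    rw [← Over.comp_left, ← Over.comp_left, e₂]
  have i₁ := unrQ_square_iff p₁.left q₁.left h₃.left h₁.left s₁ u₃
  have i₂ := unrQ_square_iff p₂.left q₂.left h₃.left h₂.left s₂ u₃
  rw [hu₁] at i₁
  rw [hu₂] at i₂
  exact i₁.symm.trans i₂

/-- With unramifiedness at one diagram through `x`, every diagram through `x` is unramified at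
the point. -/
theorem unrQ_of_hasAtMor {X Y : Sp S} (hX : Representable (Limits.diag X))
    (hY : Representable (Limits.diag Y)) (f : X ⟶ Y)
    (x : Points X) (hx : HasAtMor UnrQ f x)
    {U V : Over S} (a : (yon S).obj U ⟶ X) (b : (yon S).obj V ⟶ Y) (h : U ⟶ V)
    (ha : RepWith @Etale a) (hb : RepWith @Etale b) (c : a ≫ f = (yon S).map h ≫ b)
    (u : ↥U.left) (hu : Points.ofPt a u = x) : UnrQ _ _ h.left u := by
  obtain ⟨U₁, V₁, a₁, b₁, h₁, u₁, ha₁, hb₁, c₁, hu₁, hq⟩ := hx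
  exact (unrQ_chart_indep hX hY f a₁ b₁ h₁ a b h ha₁ hb₁ ha hb c₁ c u₁ u
    (hu₁.trans hu.symm)).mp hq

theorem hasAtMor_of_unrQ {X Y : Sp S} (f : X ⟶ Y)
    {U V : Over S} (a : (yon S).obj U ⟶ X) (b : (yon S).obj V ⟶ Y) (h : U ⟶ V)
    (ha : RepWith @Etale a) (hb : RepWith @Etale b) (c : a ≫ f = (yon S).map h ≫ b)
    (u : ↥U.left) (hq : UnrQ _ _ h.left u) : HasAtMor UnrQ f (Points.ofPt a u) :=
  ⟨U, V, a, b, h, u, ha, hb, c, rfl, hq⟩

/-- Unramifiedness at a point and base change to a scheme. -/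
theorem hasAtMor_unr_bc_scheme_iff {X Y F : Sp S} (hX : IsAlgSpace X) (hY : IsAlgSpace Y)
    (hF : IsAlgSpace F) (f : X ⟶ Y) (hf : LocP @LocallyOfFiniteType f)
    {T : Over S} (t : (yon S).obj T ⟶ Y) (p : F ⟶ X) (q : F ⟶ (yon S).obj T)
    (sq : IsPullback p q f t) (z : Points F) :
    HasAtMor UnrQ q z ↔ HasAtMor UnrQ f (Points.map p z) := by
  have hT : IsAlgSpace ((yon S).obj T) := IsAlgSpace.yon_obj T
  obtain ⟨V, b, hbe, hbs⟩ := hY.atlas
  obtain ⟨U, a, h, hae, has, c⟩ := AlgSpBasic.exists_chart_lift hX f b hbe hbs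
  haveI : LocallyOfFiniteType h.left := hf a b h hae hbe c
  obtain ⟨u, hu⟩ := AlgSpBasic.surjective_ofPt a has (Points.map p z)
  obtain ⟨P, R, π₁, l, ρ₁, ρ₂, m, sqL, hl, hρ₂, hlq, sqS'⟩ :=
    QfAtBCSp.exists_bc_chart hY.diag f t p q sq a b h hae hbe c
  obtain ⟨p₀, hp₀z, hp₀u⟩ :=
    AlgSpBasic.exists_point_of_isPullback_right p a l π₁ sqL z u hu.symm
  have cq : l ≫ q = (yon S).map (m ≫ ρ₂) ≫ 𝟙 _ := by rw [Category.comp_id, hlq]
  have hid : RepWith @Etale (𝟙 ((yon S).obj T)) := repWith_id _ T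
  haveI := hρ₂
  -- the four equivalences
  have i1 : HasAtMor UnrQ q z ↔ UnrQ _ _ (m ≫ ρ₂).left p₀ := by
    constructor
    · intro hq'
      exact unrQ_of_hasAtMor hF.diag hT.diag q z hq' l (𝟙 _) (m ≫ ρ₂) hl hid cq p₀ hp₀z
    · intro hq'
      rw [← hp₀z]
      exact hasAtMor_of_unrQ q l (𝟙 _) (m ≫ ρ₂) hl hid cq p₀ hq'
  have i2 : UnrQ _ _ (m ≫ ρ₂).left p₀ ↔ UnrQ _ _ m.left p₀ := by
    rw [Over.comp_left]
    exact unrQ_comp_right_iff m.left ρ₂.left p₀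
  have i3 : UnrQ _ _ m.left p₀ ↔ UnrQ _ _ h.left (π₁.left p₀) :=
    unrQ_isPullback_iff sqS' p₀
  have i4 : UnrQ _ _ h.left u ↔ HasAtMor UnrQ f (Points.map p z) := by
    constructor
    · intro hq'
      rw [← hu]
      exact hasAtMor_of_unrQ f a b h hae hbe c u hq'
    · intro hq'
      exact unrQ_of_hasAtMor hX.diag hY.diag f _ hq' a b h hae hbe c u hu
  rw [hp₀u] at i3
  exact i1.trans (i2.trans (i3.trans i4))

/-- Unramifiedness at a point and arbitrary base change of algebraic spaces. -/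
theorem hasAtMor_unr_bc_iff {X Y X' Y' : Sp S} (hX : IsAlgSpace X) (hY : IsAlgSpace Y)
    (hX' : IsAlgSpace X') (hY' : IsAlgSpace Y') (f : X ⟶ Y) (g : Y' ⟶ Y) (b : X' ⟶ X)
    (f' : X' ⟶ Y') (sq : IsPullback b f' f g) (hf : LocP @LocallyOfFiniteType f)
    (x' : Points X') : HasAtMor UnrQ f' x' ↔ HasAtMor UnrQ f (Points.map b x') := by
  have hf' : LocP @LocallyOfFiniteType f' :=
    AlgSpBasic.locP_of_isPullback @LocallyOfFiniteType hX hY hY' hX' f g b f' sq hf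
  obtain ⟨V', β', hβe, hβs⟩ := hY'.atlas
  let e : pullback f' β' ⟶ X' := pullback.fst f' β'
  let q : pullback f' β' ⟶ (yon S).obj V' := pullback.snd f' β'
  have sqF : IsPullback e q f' β' := IsPullback.of_hasPullback f' β'
  have hF : IsAlgSpace (pullback f' β') :=
    AlgSpBasic.isAlgSpace_of_isPullback hY'.diag hX' (IsAlgSpace.yon_obj V') f' β' e q sqF
  have sqB : IsPullback (e ≫ b) q f (β' ≫ g) := sqF.paste_horiz sq
  have hes : IsSurjectiveMor e := AlgSpBasic.isSurjectiveMor_fst_of_isPullback sqF hβs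
  obtain ⟨z, hz⟩ := hes x'
  have h1 := hasAtMor_unr_bc_scheme_iff hX' hY' hF f' hf' β' e q sqF z
  have h2 := hasAtMor_unr_bc_scheme_iff hX hY hF f hf (β' ≫ g) (e ≫ b) q sqB z
  rw [hz] at h1
  have h3 : Points.map (e ≫ b) z = Points.map b x' := by
    rw [Points.map_comp]
    exact congrArg _ hz
  rw [h3] at h2
  exact h1.symm.trans h2

theorem isOpen_unrQ {U V : Scheme.{u}} (h : U ⟶ V) : IsOpen {u : U | UnrQ U V h u} := by
  rw [isOpen_iff_forall_mem_open]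
  rintro u ⟨W, hu, h1, h2⟩
  exact ⟨W, fun w hw => ⟨W, hw, h1, h2⟩, W.2, hu⟩

theorem isOpen_unrLocus {X Y : Sp S} (hX : IsAlgSpace X) (hY : IsAlgSpace Y) (f : X ⟶ Y) :
    IsOpen {x : Points X | HasAtMor UnrQ f x} := by
  obtain ⟨V, b, hbe, hbs⟩ := hY.atlas
  obtain ⟨U, a, h, hae, has, c⟩ := AlgSpBasic.exists_chart_lift hX f b hbe hbs
  have : {x : Points X | HasAtMor UnrQ f x} =
      Points.ofPt a '' {u : ↥U.left | UnrQ _ _ h.left u} := by
    ext x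
    constructor
    · intro hx
      obtain ⟨u, hu⟩ := AlgSpBasic.surjective_ofPt a has x
      exact ⟨u, unrQ_of_hasAtMor hX.diag hY.diag f x hx a b h hae hbe c u hu, hu⟩
    · rintro ⟨u, hu, rfl⟩
      exact hasAtMor_of_unrQ f a b h hae hbe c u hu
  rw [this]
  exact AlgSpBasic.isOpenMap_ofPt a hae _ (isOpen_unrQ h.left)

/-- S10312. -/
theorem main312 {X Y Z Y' X' : Sp S} (hX : IsAlgSpace X) (hY : IsAlgSpace Y)
    (hZ : IsAlgSpace Z) (hY' : IsAlgSpace Y') (hX' : IsAlgSpace X')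
    (f : X ⟶ Y) (p : X ⟶ Z) (q : Y ⟶ Z) (comm : f ≫ q = p)
    (hp : LocP @LocallyOfFiniteType p) (a : Y' ⟶ Y)
    (b : X' ⟶ X) (f' : X' ⟶ Y') (sq2 : IsPullback b f' f a) :
    IsOpen {x : Points X | HasAtMor UnrQ f x} ∧
    {x' : Points X' | HasAtMor UnrQ f' x'} =
      Points.map b ⁻¹' {x : Points X | HasAtMor UnrQ f x} := by
  have hf : LocP @LocallyOfFiniteType f :=
    AlgSpBasic.locP_of_comp @LocallyOfFiniteType
      (fun _ _ _ x y h => @locallyOfFiniteType_of_comp _ _ _ x y h) hX hY hZ f q (comm ▸ hp)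
  refine ⟨isOpen_unrLocus hX hY f, ?_⟩
  ext x'
  exact hasAtMor_unr_bc_iff hX hY hX' hY' f a b f' sq2 hf x'

end Groth.Agent.Helper2.UnrAtSp
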