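import Mathlib
import Groth.Prelude.Def_AlgSp4
import Groth.Prelude.Def_AlgSpDec
import Groth.Agent.Lib.Helper2.AlgSp.UnrAtSp
import Groth.Agent.Lib.Helper2.AlgSp.OpenSub

/-!
# The largest open of the base over which a morphism is unramified
-/

set_option autoImplicit false
set_option backward.isDefEq.respectTransparency false
set_option linter.style.haveILetI false

open CategoryTheory CategoryTheory.Limits AlgebraicGeometry Opposite AlgSp

namespace Groth.Agent.Helper2.UnrAtSp
universe u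
variable {S : Scheme.{u}}

open Groth.Agent.Helper2.ChartIndep Groth.Agent.Helper2.UnrAt

theorem lft_fu_of_forall_unrQ {U V : Scheme.{u}} (h : U ⟶ V) (H : ∀ u, UnrQ U V h u) :
    LocallyOfFiniteType h ∧ FormallyUnramified h := by
  choose W hW h1 h2 using H
  have hU : iSup W = ⊤ := top_le_iff.mp fun u _ => TopologicalSpace.Opens.mem_iSup.mpr ⟨u, hW u⟩
  exact ⟨IsZariskiLocalAtSource.of_iSup_eq_top (P := @LocallyOfFiniteType) W hU h1,
    IsZariskiLocalAtSource.of_iSup_eq_top (P := @FormallyUnramified) W hU h2⟩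

theorem locP_unr_iff_forall {X Y : Sp S} (hX : IsAlgSpace X) (hY : IsAlgSpace Y) (f : X ⟶ Y) :
    LocP (@LocallyOfFiniteType ⊓ @FormallyUnramified) f ↔ ∀ x : Points X, HasAtMor UnrQ f x := by
  constructor
  · intro hf x
    obtain ⟨V, b, hbe, hbs⟩ := hY.atlas
    obtain ⟨U, a, h, hae, has, c⟩ := AlgSpBasic.exists_chart_lift hX f b hbe hbs
    obtain ⟨u, hu⟩ := AlgSpBasic.surjective_ofPt a has x
    have hh := hf a b h hae hbe c
    haveI := hh.1
    haveI := hh.2
    rw [← hu]
    exact hasAtMor_of_unrQ f a b h hae hbe c u (unrQ_of_global h.left u)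
  · intro H U V a b h ha hb c
    exact lft_fu_of_forall_unrQ h.left fun u =>
      unrQ_of_hasAtMor hX.diag hY.diag f _ (H _) a b h ha hb c u rfl

/-- S10639. -/
theorem main639 {X Y Z : Sp S} (hX : IsAlgSpace X) (hY : IsAlgSpace Y) (hZ : IsAlgSpace Z)
    (f : X ⟶ Y) (p : X ⟶ Z) (q : Y ⟶ Z) (hc : f ≫ q = p)
    (hp1 : LocP @LocallyOfFiniteType p) (hp2 : IsClosedMor p) :
    ∃ (W : Sp S) (w : W ⟶ Z), IsAlgSpace W ∧ RepWith @IsOpenImmersion w ∧
      ∀ (Z' : Sp S) (_ : IsAlgSpace Z') (g : Z' ⟶ Z),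
        (∃ k : Z' ⟶ W, k ≫ w = g) ↔
          ∀ (Y' : Sp S) (_ : IsAlgSpace Y') (gY : Y' ⟶ Y) (q' : Y' ⟶ Z'),
            IsPullback gY q' q g →
            ∀ (X' : Sp S) (_ : IsAlgSpace X') (gX : X' ⟶ X) (f' : X' ⟶ Y'),
              IsPullback gX f' f gY →
                LocP (@LocallyOfFiniteType ⊓ @FormallyUnramified) f' := by
  have hf : LocP @LocallyOfFiniteType f :=
    AlgSpBasic.locP_of_comp @LocallyOfFiniteType
      (fun _ _ _ x y h => @locallyOfFiniteType_of_comp _ _ _ x y h) hX hY hZ f q (hc ▸ hp1)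
  let T : Set (Points X) := {x | HasAtMor UnrQ f x}
  have hT : IsOpen T := isOpen_unrLocus hX hY f
  let W₀ : Set (Points Z) := (Points.map p '' Tᶜ)ᶜ
  have hW₀ : IsOpen W₀ := (hp2 _ hT.isClosed_compl).isOpen_compl
  refine ⟨AlgSpBasic.openSub Z W₀, AlgSpBasic.openSubι Z W₀, AlgSpBasic.isAlgSpace_openSub hZ hW₀,
    AlgSpBasic.repWith_isOpenImmersion_openSubι Z hW₀, ?_⟩
  intro Z' hZ' g
  constructor
  · rintro ⟨k, rfl⟩ Y' hY' gY q' sq1 X' hX' gX f' sq2
    rw [locP_unr_iff_forall hX' hY']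
    intro x'
    rw [hasAtMor_unr_bc_iff hX hY hX' hY' f gY gX f' sq2 hf x']
    by_contra hx
    have h1 : Points.map p (Points.map gX x') ∈ W₀ := by
      have e : Points.map p (Points.map gX x') =
          Points.map (AlgSpBasic.openSubι Z W₀) (Points.map k (Points.map q' (Points.map f' x'))) := by
        rw [← Points.map_comp, ← Points.map_comp, ← Points.map_comp, ← Points.map_comp, ← hc,
          ← Category.assoc, sq2.w, Category.assoc, sq1.w]
      rw [e]
      exact AlgSpBasic.points_map_openSubι_mem Z W₀ _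
    exact h1 ⟨_, hx, rfl⟩
  · intro H
    have hmem : ∀ z' : Points Z', Points.map g z' ∈ W₀ := by
      rintro z' ⟨x, hx, hxz⟩
      -- pullbacks
      let Y' := pullback q g
      have sq1 : IsPullback (pullback.fst q g) (pullback.snd q g) q g := IsPullback.of_hasPullback q g
      have hY' : IsAlgSpace Y' :=
        AlgSpBasic.isAlgSpace_of_isPullback hZ.diag hY hZ' q g _ _ sq1
      let X' := pullback f (pullback.fst q g)
      have sq2 : IsPullback (pullback.fst f (pullback.fst q g)) (pullback.snd f (pullback.fst q g))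
          f (pullback.fst q g) := IsPullback.of_hasPullback _ _
      have hX' : IsAlgSpace X' :=
        AlgSpBasic.isAlgSpace_of_isPullback hY.diag hX hY' f _ _ _ sq2
      have sq3 : IsPullback (pullback.fst f (pullback.fst q g))
          (pullback.snd f (pullback.fst q g) ≫ pullback.snd q g) p g := by
        have := sq2.paste_vert sq1
        rwa [hc] at this
      obtain ⟨x', hx'1, hx'2⟩ := AlgSpBasic.points_exists_of_isPullback g p _ _ sq3 x z' hxz
      have hunr := H Y' hY' _ _ sq1 X' hX' _ _ sq2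
      rw [locP_unr_iff_forall hX' hY'] at hunr
      have h2 := (hasAtMor_unr_bc_iff hX hY hX' hY' f _ _ _ sq2 hf x').mp (hunr x')
      rw [hx'1] at h2
      exact hx h2
    exact ⟨AlgSpBasic.openSubLift W₀ g hmem, AlgSpBasic.openSubLift_ι _ _ _⟩

end Groth.Agent.Helper2.UnrAtSp
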