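import Mathlib
import Groth.Prelude.Def_AlgSp4
import Groth.Agent.Lib.Helper2.AlgSp.Mor
import Groth.Agent.Lib.Helper2.AlgSp.Mor2
import Groth.Agent.Lib.Helper2.AlgSp.Mono
import Groth.Agent.Lib.Helper2.AlgSt.PFacts4

/-!
# Unramified morphisms of algebraic spaces and the diagonal (helper2)
-/

set_option autoImplicit false

namespace Groth.Agent.Helper2.AlgSpBasic
open CategoryTheory CategoryTheory.Limits AlgebraicGeometry Opposite AlgSp Topology MorphismProperty
open Groth.Agent.Helper2.EtaleLocal Groth.Agent.Helper2.AlgStLib
universe u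
variable {S : Scheme.{u}}

/-- An unramified morphism of algebraic spaces has diagonal an open immersion. -/
theorem repWith_isOpenImmersion_diagonal_of_unramified {X Y : Sp S} (hX : IsAlgSpace X)
    (hY : IsAlgSpace Y) (f : X ⟶ Y)
    (hf : LocP (@LocallyOfFiniteType ⊓ @FormallyUnramified) f) :
    RepWith @IsOpenImmersion (pullback.diagonal f) := by
  have sq := IsPullback.of_hasPullback f f
  have hPP : IsAlgSpace (pullback f f) := isAlgSpace_of_isPullback hY.diag hX hX f f _ _ sq
  have hsnd : LocP (@LocallyOfFiniteType ⊓ @FormallyUnramified) (pullback.snd f f) :=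
    locP_of_isPullback _ hX hY hX hPP f f _ _ sq hf
  have hid : LocP @Etale (pullback.diagonal f ≫ pullback.snd f f) := by
    rw [pullback.diagonal_snd]
    exact locP_id _ hX.diag
  have hΔ : LocP @Etale (pullback.diagonal f) :=
    locP_of_comp' @Etale (@LocallyOfFiniteType ⊓ @FormallyUnramified)
      (fun A B C x y (hxy : Etale (x ≫ y)) hy => by
        have : LocallyOfFiniteType y := hy.1
        have : FormallyUnramified y := hy.2
        exact Etale.of_comp x y) hX hPP hX _ _ hid hsnd
  have : Mono (pullback.diagonal f) := mono_of_mono_fac (pullback.diagonal_fst f)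
  exact (repWith_isOpenImmersion_iff hX hPP _).2 ⟨inferInstance, hΔ⟩

/-- A morphism of algebraic spaces locally of finite type whose diagonal is an open immersion is
unramified. -/
theorem unramified_of_repWith_isOpenImmersion_diagonal {X Y : Sp S} (hX : IsAlgSpace X)
    (f : X ⟶ Y) (hf : LocP @LocallyOfFiniteType f)
    (hΔ : RepWith @IsOpenImmersion (pullback.diagonal f)) :
    LocP (@LocallyOfFiniteType ⊓ @FormallyUnramified) f := by
  intro U V a b h hae hbe comm
  refine ⟨hf a b h hae hbe comm, ?_⟩
  have h1 : RepWith @IsOpenImmersion (pullback.diagonal a) := by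
    rw [repWith_diagonal_iff_repWith_of_representable @IsOpenImmersion
      (IsAlgSpace.yon_obj U).diag a hae.rep]
    refine repWith_mono ?_ hae
    intro A B g (hg : Etale g)
    exact (inferInstance : IsOpenImmersion (pullback.diagonal g))
  have h2 : RepWith @IsOpenImmersion (pullback.diagonal (a ≫ f)) :=
    repWith_diagonal_comp _ a f h1 hΔ
  have key : ∀ (m m' : (yon S).obj U ⟶ Y), m = m' →
      RepWith @IsOpenImmersion (pullback.diagonal m) →
      RepWith @IsOpenImmersion (pullback.diagonal m') := by
    rintro m _ rfl hm
    exact hm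
  have h2' := key _ _ comm h2
  have h3 : RepWith @IsOpenImmersion (pullback.diagonal ((yon S).map h)) :=
    repWith_diagonal_of_comp _ _ b h2'
  have h4 : IsOpenImmersion (pullback.diagonal h.left) :=
    (repWith_diagonal_yon_map_iff _ h).1 h3
  infer_instance

end Groth.Agent.Helper2.AlgSpBasic
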