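import Mathlib
import Groth.Prelude.Def_AlgSp4
import Groth.Prelude.Def_AlgSpDec
import Groth.Agent.Lib.Helper2.AlgSp.UnrLocusW
import Groth.Agent.Lib.Helper2.AlgSp.UnramDiag
import Groth.Agent.Lib.Helper2.AlgSp.Thick
import Groth.Agent.Lib.Helper2.AlgSp.UnivInj

/-!
# The largest open of the base over which a morphism is unramified and universally injective
-/

set_option autoImplicit false
set_option backward.isDefEq.respectTransparency false
set_option linter.style.haveILetI false

open CategoryTheory CategoryTheory.Limits AlgebraicGeometry Opposite AlgSp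

namespace Groth.Agent.Helper2.UnrAtSp
universe u
variable {S : Scheme.{u}}

open Groth.Agent.Helper2.ChartIndep Groth.Agent.Helper2.UnrAt Groth.Agent.Helper2.AlgSpBasic

/-- Unramifiedness at a point and precomposition with an etale morphism. -/
theorem hasAtMor_unr_precomp_etale_iff {X' X Y : Sp S} (hX' : IsAlgSpace X') (hX : IsAlgSpace X)
    (hY : IsAlgSpace Y) (j : X' ⟶ X) (hj : RepWith @Etale j) (f : X ⟶ Y) (x' : Points X') :
    HasAtMor UnrQ (j ≫ f) x' ↔ HasAtMor UnrQ f (Points.map j x') := by
  constructor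
  · rintro ⟨U, V, a, b, h, u, ha, hb, c, hu, hq⟩
    exact ⟨U, V, a ≫ j, b, h, u, repWith_comp @Etale ha hj, hb, by rw [Category.assoc, c],
      by rw [← Points.map_ofPt, hu], hq⟩
  · intro H
    obtain ⟨V, b, hbe, hbs⟩ := hY.atlas
    obtain ⟨U, a, h, hae, has, c⟩ := exists_chart_lift hX' (j ≫ f) b hbe hbs
    obtain ⟨u, hu⟩ := surjective_ofPt a has x'
    have c' : (a ≫ j) ≫ f = (yon S).map h ≫ b := by rw [Category.assoc, c]
    have hq : UnrQ _ _ h.left u :=
      unrQ_of_hasAtMor hX.diag hY.diag f _ H (a ≫ j) b h (repWith_comp @Etale hae hj) hbe c' u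
        (by rw [← Points.map_ofPt, hu])
    exact ⟨U, V, a, b, h, u, hae, hbe, c, hu, hq⟩

/-- On the unramified locus the morphism is unramified. -/
theorem locP_unr_openSub {X Y : Sp S} (hX : IsAlgSpace X) (hY : IsAlgSpace Y) (f : X ⟶ Y) :
    LocP (@LocallyOfFiniteType ⊓ @FormallyUnramified)
      (openSubι X {x | HasAtMor UnrQ f x} ≫ f) := by
  have hT := isOpen_unrLocus hX hY f
  have hXT := isAlgSpace_openSub hX hT
  have hι : RepWith @Etale (openSubι X {x | HasAtMor UnrQ f x}) :=
    repWith_isOpenImmersion_le_etale (repWith_isOpenImmersion_openSubι X hT)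
  rw [locP_unr_iff_forall hXT hY]
  intro t
  rw [hasAtMor_unr_precomp_etale_iff hXT hX hY _ hι]
  exact points_map_openSubι_mem X _ t

theorem repWith_pullback_map (P : MorphismProperty Scheme.{u}) [P.IsStableUnderBaseChange]
    [P.IsMultiplicative] [P.RespectsIso] {X Y B X' Y' B' : Sp S} (f : X ⟶ B) (g : Y ⟶ B)
    (f' : X' ⟶ B') (g' : Y' ⟶ B') (i₁ : X ⟶ X') (i₂ : Y ⟶ Y') (i₃ : B ⟶ B')
    (e₁ : f ≫ i₃ = i₁ ≫ f') (e₂ : g ≫ i₃ = i₂ ≫ g') [Mono i₃] (h1 : RepWith P i₁)
    (h2 : RepWith P i₂) : RepWith P (pullback.map f g f' g' i₁ i₂ i₃ e₁ e₂) := by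
  rw [pullback_map_eq_pullbackFstFstIso_inv]
  apply repWith_of_iso_comp
  apply repWith_comp
  · have hA : RepWith P (pullback.fst (pullback.fst f' g') i₁) :=
      repWith_of_isPullback P (IsPullback.of_hasPullback (pullback.fst f' g') i₁).flip h1
    exact repWith_of_isPullback P (IsPullback.of_hasPullback _ _) hA
  · exact repWith_of_isPullback P (IsPullback.of_hasPullback (pullback.snd f' g') i₂).flip h2

/-- The image of the unramified locus under the diagonal is open. -/
theorem isOpen_diagonal_image_unrLocus {X Y : Sp S} (hX : IsAlgSpace X) (hY : IsAlgSpace Y)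
    (f : X ⟶ Y) :
    IsOpen (Points.map (pullback.diagonal f) '' {x | HasAtMor UnrQ f x}) := by
  have hT := isOpen_unrLocus hX hY f
  have hXT := isAlgSpace_openSub hX hT
  set ι := openSubι X {x | HasAtMor UnrQ f x} with hι
  have h1 := locP_unr_openSub hX hY f
  have h2 : RepWith @IsOpenImmersion (pullback.diagonal (ι ≫ f)) :=
    repWith_isOpenImmersion_diagonal_of_unramified hXT hY _ h1
  have hιo : RepWith @IsOpenImmersion ι := repWith_isOpenImmersion_openSubι X hT
  have h3 : RepWith @IsOpenImmersion (pullback.map (ι ≫ f) (ι ≫ f) f f ι ι (𝟙 Y)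
      (Category.comp_id _) (Category.comp_id _)) :=
    repWith_pullback_map @IsOpenImmersion _ _ _ _ _ _ _ _ _ hιo hιo
  have h4 := repWith_comp @IsOpenImmersion h2 h3
  have e : pullback.diagonal (ι ≫ f) ≫ pullback.map (ι ≫ f) (ι ≫ f) f f ι ι (𝟙 Y)
      (Category.comp_id _) (Category.comp_id _) = ι ≫ pullback.diagonal f := by
    apply pullback.hom_ext
    · simp only [Category.assoc, pullback.lift_fst, pullback.diagonal_fst_assoc,
        pullback.diagonal_fst, Category.comp_id]
    · simp only [Category.assoc, pullback.lift_snd, pullback.diagonal_snd_assoc,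
        pullback.diagonal_snd, Category.comp_id]
  rw [e] at h4
  have hPP : IsAlgSpace (pullback f f) :=
    isAlgSpace_of_isPullback hY.diag hX hX f f _ _ (IsPullback.of_hasPullback f f)
  have hopen := (isOpenMap_points_of_repWith_isOpenImmersion hXT hPP _ h4).isOpen_range
  have hr : Set.range (Points.map (ι ≫ pullback.diagonal f)) =
      Points.map (pullback.diagonal f) '' {x | HasAtMor UnrQ f x} := by
    have e1 : Points.map (ι ≫ pullback.diagonal f) =
        Points.map (pullback.diagonal f) ∘ Points.map ι := by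
      funext t
      exact Points.map_comp _ _ _
    rw [e1, Set.range_comp, range_points_map_openSubι X {x | HasAtMor UnrQ f x}]
  rw [← hr]
  exact hopen

/-- A morphism whose diagonal is surjective on points is universally injective. -/
theorem isUnivInjectiveMor_of_surjective_diagonal {X Y : Sp S} (f : X ⟶ Y)
    (h : IsSurjectiveMor (pullback.diagonal f)) : IsUnivInjectiveMor f := by
  intro Z Z' _ g fst snd sq a b hab
  have sqΔ := isPullback_diagonal_of_isPullback sq
  have hs : IsSurjectiveMor (pullback.diagonal snd) :=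
    isSurjectiveMor_of_isPullback _ _ _ _ sqΔ h
  obtain ⟨d, hd1, hd2⟩ := points_exists_of_isPullback snd snd (pullback.fst snd snd)
    (pullback.snd snd snd) (IsPullback.of_hasPullback snd snd) a b hab
  obtain ⟨x, rfl⟩ := hs d
  rw [← Points.map_comp, pullback.diagonal_fst, Points.map_id] at hd1
  rw [← Points.map_comp, pullback.diagonal_snd, Points.map_id] at hd2
  rw [← hd1, ← hd2]

/-- The diagonal of a universally injective morphism is surjective on points. -/
theorem surjective_diagonal_of_isUnivInjectiveMor {X Y : Sp S} (hX : IsAlgSpace X) (f : X ⟶ Y)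
    (h : IsUnivInjectiveMor f) : IsSurjectiveMor (pullback.diagonal f) := by
  intro c
  have hinj : Function.Injective (Points.map (pullback.snd f f)) :=
    h hX f (pullback.fst f f) (pullback.snd f f) (IsPullback.of_hasPullback f f)
  refine ⟨Points.map (pullback.snd f f) c, hinj ?_⟩
  rw [← Points.map_comp, pullback.diagonal_snd, Points.map_id]


/-- S10640, with the canonical fibre square. -/
theorem main640' {X Y Z : Sp S} (hX : IsAlgSpace X) (hY : IsAlgSpace Y) (hZ : IsAlgSpace Z)
    (f : X ⟶ Y) (p : X ⟶ Z) (q : Y ⟶ Z) (hc : f ≫ q = p)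
    (hp1 : LocP @LocallyOfFiniteType p) (hp2 : IsClosedMor p)
    (hp3 : IsClosedMor (pullback.snd f f ≫ p)) :
    ∃ (W : Sp S) (w : W ⟶ Z), IsAlgSpace W ∧ RepWith @IsOpenImmersion w ∧
      ∀ (Z' : Sp S) (_ : IsAlgSpace Z') (g : Z' ⟶ Z),
        (∃ k : Z' ⟶ W, k ≫ w = g) ↔
          ∀ (Y' : Sp S) (_ : IsAlgSpace Y') (gY : Y' ⟶ Y) (q' : Y' ⟶ Z'),
            IsPullback gY q' q g →
            ∀ (X' : Sp S) (_ : IsAlgSpace X') (gX : X' ⟶ X) (f' : X' ⟶ Y'),
              IsPullback gX f' f gY →
                LocP (@LocallyOfFiniteType ⊓ @FormallyUnramified) f' ∧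
                  IsUnivInjectiveMor f' := by
  have hf : LocP @LocallyOfFiniteType f :=
    locP_of_comp @LocallyOfFiniteType
      (fun _ _ _ x y h => @locallyOfFiniteType_of_comp _ _ _ x y h) hX hY hZ f q (hc ▸ hp1)
  let T : Set (Points X) := {x | HasAtMor UnrQ f x}
  have hT : IsOpen T := isOpen_unrLocus hX hY f
  let ΔT : Set (Points (pullback f f)) := Points.map (pullback.diagonal f) '' T
  have hΔT : IsOpen ΔT := isOpen_diagonal_image_unrLocus hX hY f
  let W₀ : Set (Points Z) :=
    (Points.map p '' Tᶜ)ᶜ ∩ (Points.map (pullback.snd f f ≫ p) '' ΔTᶜ)ᶜ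
  have hW₀ : IsOpen W₀ :=
    (hp2 _ hT.isClosed_compl).isOpen_compl.inter (hp3 _ hΔT.isClosed_compl).isOpen_compl
  refine ⟨openSub Z W₀, openSubι Z W₀, isAlgSpace_openSub hZ hW₀,
    repWith_isOpenImmersion_openSubι Z hW₀, ?_⟩
  intro Z' hZ' g
  constructor
  · rintro ⟨k, rfl⟩ Y' hY' gY q' sq1 X' hX' gX f' sq2
    have hrange : ∀ z' : Points Z', Points.map (k ≫ openSubι Z W₀) z' ∈ W₀ := by
      intro z'
      rw [Points.map_comp]
      exact points_map_openSubι_mem Z W₀ _
    have hpx : gX ≫ p = (f' ≫ q') ≫ k ≫ openSubι Z W₀ := by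
      rw [← hc, ← Category.assoc, sq2.w, Category.assoc, sq1.w, Category.assoc]
    have hT' : ∀ x' : Points X', Points.map gX x' ∈ T := by
      intro x'
      by_contra hx
      refine (hrange (Points.map (f' ≫ q') x')).1 ⟨_, hx, ?_⟩
      rw [← Points.map_comp, ← Points.map_comp, hpx]
    constructor
    · rw [locP_unr_iff_forall hX' hY']
      intro x'
      rw [hasAtMor_unr_bc_iff hX hY hX' hY' f gY gX f' sq2 hf x']
      exact hT' x'
    · apply isUnivInjectiveMor_of_surjective_diagonal
      intro c'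
      have sqΔ := isPullback_diagonal_of_isPullback sq2
      have hm : pullback.map f' f' f f gX gX gY sq2.w.symm sq2.w.symm ≫ pullback.snd f f ≫ p =
          (pullback.snd f' f' ≫ f' ≫ q') ≫ k ≫ openSubι Z W₀ := by
        rw [← Category.assoc, pullback.lift_snd, Category.assoc, hpx, Category.assoc,
          Category.assoc, Category.assoc]
      have hmem : Points.map (pullback.map f' f' f f gX gX gY sq2.w.symm sq2.w.symm) c' ∈ ΔT := by
        by_contra hcc
        refine (hrange (Points.map (pullback.snd f' f' ≫ f' ≫ q') c')).2 ⟨_, hcc, ?_⟩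
        rw [← Points.map_comp, ← Points.map_comp, hm]
      obtain ⟨x, -, hx⟩ := hmem
      obtain ⟨x', hx'1, -⟩ := points_exists_of_isPullback (pullback.diagonal f)
        (pullback.map f' f' f f gX gX gY sq2.w.symm sq2.w.symm) (pullback.diagonal f') gX
        sqΔ.flip c' x hx.symm
      exact ⟨x', hx'1⟩
  · intro H
    have hmem : ∀ z' : Points Z', Points.map g z' ∈ W₀ := by
      intro z'
      -- pullbacks
      have sq1 : IsPullback (pullback.fst q g) (pullback.snd q g) q g :=
        IsPullback.of_hasPullback q g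
      have hY' : IsAlgSpace (pullback q g) :=
        isAlgSpace_of_isPullback hZ.diag hY hZ' q g _ _ sq1
      have sq2 : IsPullback (pullback.fst f (pullback.fst q g))
          (pullback.snd f (pullback.fst q g)) f (pullback.fst q g) := IsPullback.of_hasPullback _ _
      have hX' : IsAlgSpace (pullback f (pullback.fst q g)) :=
        isAlgSpace_of_isPullback hY.diag hX hY' f _ _ _ sq2
      have sq3 : IsPullback (pullback.fst f (pullback.fst q g))
          (pullback.snd f (pullback.fst q g) ≫ pullback.snd q g) p g := by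
        have := sq2.paste_vert sq1
        rwa [hc] at this
      obtain ⟨hunr, hinj⟩ := H _ hY' _ _ sq1 _ hX' _ _ sq2
      rw [locP_unr_iff_forall hX' hY'] at hunr
      have hbc := fun x' => (hasAtMor_unr_bc_iff hX hY hX' hY' f _ _ _ sq2 hf x').mp (hunr x')
      constructor
      · rintro ⟨x, hx, hxz⟩
        obtain ⟨x', hx'1, -⟩ := points_exists_of_isPullback g p _ _ sq3 x z' hxz
        have h2 := hbc x'
        rw [hx'1] at h2
        exact hx h2
      · rintro ⟨c, hcΔ, hcz⟩
        have e0 : (pullback.fst f f ≫ f) ≫ q = pullback.snd f f ≫ p := by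
          rw [pullback.condition, Category.assoc, hc]
        have e1 : Points.map q (Points.map (pullback.fst f f ≫ f) c) = Points.map g z' := by
          rw [← hcz, ← Points.map_comp, e0]
        obtain ⟨y', hy'1, -⟩ := points_exists_of_isPullback g q _ _ sq1
          (Points.map (pullback.fst f f ≫ f) c) z' e1
        have sqm := isPullback_map_of_isPullback sq2
        obtain ⟨c', hc'1, -⟩ := points_exists_of_isPullback (pullback.fst q g)
          (pullback.fst f f ≫ f) _ _ sqm c y' hy'1.symm
        obtain ⟨x', rfl⟩ := surjective_diagonal_of_isUnivInjectiveMor hX' _ hinj c'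
        have sqΔ := isPullback_diagonal_of_isPullback sq2
        apply hcΔ
        refine ⟨_, hbc x', ?_⟩
        rw [← hc'1, ← Points.map_comp, ← Points.map_comp, sqΔ.w]
    exact ⟨openSubLift W₀ g hmem, openSubLift_ι _ _ _⟩

theorem isClosedMap_points_of_isIso {A B : Sp S} (e : A ⟶ B) [IsIso e] :
    IsClosedMap (Points.map e) := by
  let h : Points A ≃ₜ Points B :=
    { toFun := Points.map e
      invFun := Points.map (inv e)
      left_inv := fun a => by rw [← Points.map_comp, IsIso.hom_inv_id, Points.map_id]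
      right_inv := fun b => by rw [← Points.map_comp, IsIso.inv_hom_id, Points.map_id]
      continuous_toFun := Points.continuous_map e
      continuous_invFun := Points.continuous_map (inv e) }
  exact h.isClosedMap

/-- S10640. -/
theorem main640 {X Y Z XX : Sp S} (hX : IsAlgSpace X) (hY : IsAlgSpace Y) (hZ : IsAlgSpace Z)
    (f : X ⟶ Y) (p : X ⟶ Z) (q : Y ⟶ Z) (hc : f ≫ q = p)
    (pr0 pr1 : XX ⟶ X) (hXX : IsPullback pr0 pr1 f f)
    (hp1 : LocP @LocallyOfFiniteType p) (hp2 : IsClosedMor p)
    (hp3 : IsClosedMor (pr1 ≫ p)) :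
    ∃ (W : Sp S) (w : W ⟶ Z), IsAlgSpace W ∧ RepWith @IsOpenImmersion w ∧
      ∀ (Z' : Sp S) (_ : IsAlgSpace Z') (g : Z' ⟶ Z),
        (∃ k : Z' ⟶ W, k ≫ w = g) ↔
          ∀ (Y' : Sp S) (_ : IsAlgSpace Y') (gY : Y' ⟶ Y) (q' : Y' ⟶ Z'),
            IsPullback gY q' q g →
            ∀ (X' : Sp S) (_ : IsAlgSpace X') (gX : X' ⟶ X) (f' : X' ⟶ Y'),
              IsPullback gX f' f gY →
                LocP (@LocallyOfFiniteType ⊓ @FormallyUnramified) f' ∧
                  IsUnivInjectiveMor f' := by
  refine main640' hX hY hZ f p q hc hp1 hp2 ?_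
  have e : pullback.snd f f ≫ p = hXX.isoPullback.inv ≫ pr1 ≫ p := by
    rw [← Category.assoc, hXX.isoPullback_inv_snd]
  rw [e]
  intro C hC
  have h1 : IsClosed (Points.map hXX.isoPullback.inv '' C) :=
    isClosedMap_points_of_isIso hXX.isoPullback.inv C hC
  have h2 := hp3 _ h1
  rw [← Set.image_comp] at h2
  convert h2 using 2
  exact Points.map_comp _ _ _

end Groth.Agent.Helper2.UnrAtSp
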