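import Mathlib
import Groth.Prelude.Def_AlgSpInf
import Groth.Prelude.Def_AlgSp4
import Groth.Prelude.Def_AlgSpCov
import Groth.Agent.Lib.Helper2.Lqf.ClosedImmTfae
import Groth.Agent.Lib.Helper2.AlgSp.Fpqc
import Groth.Agent.Lib.Helper2.AlgSp.PointsMor

/-!
# Closed immersions and thickenings are fpqc local on the base (helper2)
-/

set_option autoImplicit false
universe u
open CategoryTheory CategoryTheory.Limits AlgebraicGeometry Opposite AlgSp
open Groth.Agent.Helper2.AlgSpBasic Groth.Agent.Helper2.EtaleLocal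

namespace Groth.Agent.Helper2.Lqf

variable {S : Scheme.{u}}

theorem repWith_isClosedImmersion_iff_unr {X Y : Sp S} (hX : IsAlgSpace X) (hY : IsAlgSpace Y)
    (f : X ⟶ Y) :
    (IsUnivClosedMor f ∧ (LocP (@LocallyOfFiniteType ⊓ @FormallyUnramified) f ∧
      IsUnivInjectiveMor f)) ↔ RepWith @IsClosedImmersion f := by
  rw [repWith_isClosedImmersion_iff hX hY f]
  obtain ⟨t1, t2, -, -⟩ := unramified_mono_tfae hX hY f
  constructor
  · rintro ⟨a, b, c⟩
    have h := t2.1 (t1.2 ⟨b, c⟩)
    exact ⟨a, h.1, h.2⟩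
  · rintro ⟨a, b, c⟩
    have h := t1.1 (t2.2 ⟨b, c⟩)
    exact ⟨a, h.1, h.2⟩

theorem isLocalOnBase_fpqc_repWith_isClosedImmersion :
    IsLocalOnBase (IsFpqcCover (S := S)) (RepWith @IsClosedImmersion) := by
  refine isLocalOnBase_congr (fun X Y f hX hY => repWith_isClosedImmersion_iff_unr hX hY f) ?_
  exact isLocalOnBase_and isLocalOnBase_fpqc_isUnivClosedMor
    (isLocalOnBase_and (isLocalOnBase_fpqc_locP (@LocallyOfFiniteType ⊓ @FormallyUnramified))
      isLocalOnBase_fpqc_isUnivInjectiveMor)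

theorem isLocalOnBase_fpqc_univSurj :
    IsLocalOnBase (IsFpqcCover (S := S))
      (UnivSp fun _ _ f => Function.Surjective (Points.map f)) :=
  isLocalOnBase_fpqc_univSp (fun _ _ f => Function.Surjective (Points.map f))
    (fun q T a hae hs P fst snd sq h => surjective_points_of_chartFamily q T a hae hs P fst snd sq h)
    (fun q _ Tj d _ _ _ hs Pj fst snd sq h =>
      surjective_points_of_fpqcFamily q Tj d hs Pj fst snd sq h)

theorem univSurj_iff_isSurjectiveMor {X Y : Sp S} (hY : IsAlgSpace Y) (f : X ⟶ Y) :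
    (UnivSp fun _ _ f => Function.Surjective (Points.map f)) f ↔ IsSurjectiveMor f := by
  constructor
  · intro h
    exact h hY (𝟙 Y) (𝟙 X) f (IsPullback.of_horiz_isIso ⟨by simp⟩)
  · intro h Z Z' hZ g fst snd sq z
    obtain ⟨x, hx⟩ := h (Points.map g z)
    obtain ⟨w, -, hw⟩ := points_exists_of_isPullback g f fst snd sq x z hx
    exact ⟨w, hw⟩

theorem isThickMor_iff {X Y : Sp S} (hY : IsAlgSpace Y) (f : X ⟶ Y) :
    (RepWith @IsClosedImmersion f ∧
      (UnivSp fun _ _ f => Function.Surjective (Points.map f)) f) ↔ IsThickMor f := by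
  rw [univSurj_iff_isSurjectiveMor hY f]
  constructor
  · rintro ⟨h1, h2⟩
    have h3 := repWith_surjective_of_isSurjectiveMor f h1.rep h2
    refine ⟨h1.rep, ?_⟩
    intro T P g fst snd sq
    exact ⟨h1.property g fst snd sq, h3.property g fst snd sq⟩
  · intro h
    refine ⟨repWith_mono (fun _ _ g hg => hg.1) h, ?_⟩
    exact isSurjectiveMor_of_repWith_surjective f (repWith_mono (fun _ _ g hg => hg.2) h)

theorem isLocalOnBase_fpqc_isThickMor :
    IsLocalOnBase (IsFpqcCover (S := S)) IsThickMor := by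
  refine isLocalOnBase_congr (fun X Y f hX hY => isThickMor_iff hY f) ?_
  exact isLocalOnBase_and isLocalOnBase_fpqc_repWith_isClosedImmersion isLocalOnBase_fpqc_univSurj

end Groth.Agent.Helper2.Lqf
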