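import Mathlib
import Groth.Agent.Lib.Helper2.AlgSp.DenseChart
import Groth.Agent.Lib.Helper2.AlgSp.FibreSpecB
import Groth.Agent.Lib.Helper2.AlgSp.FpqcCI
import Groth.Agent.Lib.Helper2.AlgSp.FpqcCover2
import Groth.Agent.S9209

/-!
# S10070: separatedness from uniqueness over discrete valuation rings through a dense chart
(helper2)
-/

set_option autoImplicit false
set_option linter.style.haveILetI false

open CategoryTheory CategoryTheory.Limits AlgebraicGeometry Opposite AlgSp TopologicalSpace

universe u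

namespace Groth.Agent.Helper2.DvrSep

open Groth.Agent.Helper2.AlgSpBasic

variable {S : Scheme.{u}}

theorem S10070_main {U X Y : Space S} (h : U ⟶ X) (f : X ⟶ Y) (hY : IsLocNoethSp Y.obj)
    (hflt : LocP @LocallyOfFiniteType f.hom) (hfqs : IsQuasiSeparatedMor f.hom)
    (hh : IsFiniteTypeMor h.hom) (hdense : Dense (Set.range (Points.map h.hom)))
    (hval : ∀ sq : ValSq (h.hom ≫ f.hom), IsDiscreteValuationRing sq.A →
      ∀ l l' : (yon S).obj sq.ptA ⟶ X.obj,
        (yon S).map sq.j ≫ l = sq.top ≫ h.hom ∧ l ≫ f.hom = sq.bot →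
        (yon S).map sq.j ≫ l' = sq.top ≫ h.hom ∧ l' ≫ f.hom = sq.bot → l = l') :
    IsSeparatedMor f.hom := by
  obtain ⟨hrep, hlft, hmono, -, -⟩ := repWith_diagonal_properties X.property f.hom
  have hXN : IsLocNoethSp X.obj := Groth.Agent.S9951.result f hflt hY
  have sqZ := IsPullback.of_hasPullback f.hom f.hom
  have hZ : IsAlgSpace (pullback f.hom f.hom) :=
    isAlgSpace_of_isPullback Y.property.diag X.property X.property _ _ _ _ sqZ
  have hfstl : LocP @LocallyOfFiniteType (pullback.fst f.hom f.hom) :=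
    locP_of_isPullback @LocallyOfFiniteType X.property Y.property X.property hZ f.hom f.hom
      (pullback.snd f.hom f.hom) (pullback.fst f.hom f.hom) sqZ.flip hflt
  have hZN : IsLocNoethSp (pullback f.hom f.hom) :=
    Groth.Agent.S9951.result (X := ⟨pullback f.hom f.hom, hZ⟩) (Y := X)
      (ObjectProperty.homMk (pullback.fst f.hom f.hom)) hfstl hXN
  obtain ⟨T₀, p, hpe, hps, hT₀⟩ := hZN
  haveI : IsLocallyNoetherian T₀.left := hT₀
  have hgr : ∀ r : T₀.left.affineOpens, RepWith @Etale ((yon S).map (opensOverι r.1) ≫ p) :=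
    fun r => Groth.Agent.Helper2.FibreSpecB.repWith_etale_opensOverι_comp p hpe r.1
  have hfppf : IsFppfCover (fun r : T₀.left.affineOpens => (yon S).obj (opensOver r.1))
      (fun r => (yon S).map (opensOverι r.1) ≫ p) := by
    refine ⟨fun r => ?_, fun y => ?_⟩
    · have hl : LocP @Etale ((yon S).map (opensOverι r.1) ≫ p) :=
        locP_of_repWith @Etale (IsAlgSpace.yon_obj _).diag _ (hgr r)
      exact ⟨locP_mono (fun _ _ g (_ : Etale g) => (inferInstance : Flat g)) hl,
        locP_mono (fun _ _ g (_ : Etale g) =>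
          (inferInstance : LocallyOfFinitePresentation g)) hl⟩
    · obtain ⟨t, rfl⟩ := surjective_ofPt p hps y
      obtain ⟨_, ⟨A₀, hA₀, rfl⟩, htA₀, -⟩ :=
        T₀.left.isBasis_affineOpens.exists_subset_of_mem_open (Set.mem_univ t) isOpen_univ
      refine ⟨⟨A₀, hA₀⟩, Points.ofScheme _ ⟨t, htA₀⟩, ?_⟩
      rw [← Points.ofPt_eq_map_ofScheme, ofPt_yon_map_comp]
      rfl
  have hcover : IsFpqcCover (fun r : T₀.left.affineOpens => (yon S).obj (opensOver r.1))
      (fun r => (yon S).map (opensOverι r.1) ≫ p) :=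
    isFpqcCover_of_isFppfCover hZ _ (fun r => IsAlgSpace.yon_obj _) _ hfppf
  have hloc := Groth.Agent.Helper2.Lqf.isLocalOnBase_fpqc_repWith_isClosedImmersion
    (fun r : T₀.left.affineOpens => (yon S).obj (opensOver r.1))
    (fun r => (yon S).map (opensOverι r.1) ≫ p) hZ
    (fun r => IsAlgSpace.yon_obj _) hcover (pullback.diagonal f.hom) X.property
    (fun r => (yon S).obj (hrep.pullback ((yon S).map (opensOverι r.1) ≫ p)))
    (fun r => (yon S).map (hrep.snd ((yon S).map (opensOverι r.1) ≫ p)))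
    (fun r => hrep.fst ((yon S).map (opensOverι r.1) ≫ p))
    (fun r => IsAlgSpace.yon_obj _) (fun r => hrep.isPullback _)
  refine hloc.mpr fun r => ?_
  have sq := hrep.isPullback ((yon S).map (opensOverι r.1) ≫ p)
  obtain ⟨snd, hsnd⟩ : ∃ snd : hrep.pullback ((yon S).map (opensOverι r.1) ≫ p) ⟶ opensOver r.1,
    snd = hrep.snd ((yon S).map (opensOverι r.1) ≫ p) := ⟨_, rfl⟩
  rw [← hsnd] at sq ⊢
  rw [repWith_yon_map_iff]
  haveI : IsAffine (opensOver r.1).left := r.2
  haveI : IsLocallyNoetherian (opensOver r.1).left :=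
    (inferInstance : IsLocallyNoetherian (r.1 : Scheme.{u}))
  haveI : LocallyOfFiniteType snd.left := hlft.property _ _ snd sq
  haveI : Mono snd.left := hmono.property _ _ snd sq
  haveI : QuasiCompact snd.left := hfqs.property _ _ snd sq
  haveI : CompactSpace ↥(hrep.pullback ((yon S).map (opensOverι r.1) ≫ p)).left :=
    QuasiCompact.compactSpace_of_compactSpace snd.left
  haveI : QuasiSeparatedSpace ↥(hrep.pullback ((yon S).map (opensOverι r.1) ≫ p)).left :=
    quasiSeparatedSpace_of_quasiSeparated snd.left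
  have hfst' : RepWith @Etale (hrep.fst ((yon S).map (opensOverι r.1) ≫ p)) :=
    repWith_of_isPullback @Etale sq.flip (hgr r)
  obtain ⟨U', h', pU, hpU, hlft', hqc', hd'⟩ := exists_dense_chart h hh hdense _ hfst'
  haveI := hlft'
  haveI := hqc'
  haveI : IsProper snd.left := Groth.Agent.S9209.result snd.left h'.left hd'
    (fun A _ _ _ u y hxy =>
      exists_lift_diagonal_through h f _ _ snd sq h' pU hpU hval A u y hxy)
  exact Groth.Agent.Helper2.AlgStLib.isClosedImmersion_of_mono_of_universallyClosed snd.left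

end Groth.Agent.Helper2.DvrSep
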