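import Mathlib
import Groth.Prelude.Def_AlgSpSub
import Groth.Prelude.Def_Flat
import Groth.Agent.Lib.Helper2.AlgSp.ChartIndep
import Groth.Agent.Lib.Helper2.AlgSp.DimIneqSp
import Groth.Agent.Lib.Helper2.Sch.LocalDimEtale
import Groth.Agent.Lib.Helper4.EffCartierDim1

/-!
# The dimension drops on an effective Cartier divisor of an algebraic space (S10794) (helper2)
-/

set_option autoImplicit false
set_option backward.isDefEq.respectTransparency false

open CategoryTheory CategoryTheory.Limits AlgebraicGeometry Opposite AlgSp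

namespace Groth.Agent.Helper2.EffCartierDimSp
universe u
variable {S : Scheme.{u}}

open Groth.Agent.Helper2.ChartIndep

/-- S10794 -/
theorem S10794_main {X D : Sp S} (hX : IsAlgSpace X) (i : D ⟶ X)
    (hD : IsEffCartierSub i) (x : Points D) (d : WithBot ℕ∞)
    (hd : HasAt (fun U u => FlatMor.localDim ↥U u = d) X (Points.map i x)) (hfin : d ≠ ⊤) :
    HasAt (fun V v => FlatMor.localDim ↥V v < d) D x := by
  obtain ⟨-, V, φ, I, fst, hφe, hφs, sq, hI⟩ := hD
  have hfe : RepWith @Etale fst :=
    (repWith_isStableUnderBaseChange (S := S) @Etale).of_isPullback sq.flip hφe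
  have hfs : RepWith @Surjective fst :=
    (repWith_isStableUnderBaseChange (S := S) @Surjective).of_isPullback sq.flip hφs
  obtain ⟨z, hz⟩ := AlgSpBasic.surjective_ofPt fst hfs x
  have hpt : Points.ofPt φ (I.subschemeι z) = Points.map i x := by
    rw [← hz, Points.map_ofPt, sq.w, AlgSpBasic.ofPt_yon_map_comp]
    rfl
  have h1 : FlatMor.localDim ↥V.left (I.subschemeι z) = d :=
    (hasAt_iff_forall (LocalDimEtale.etaleInvariant_localDim d) hX _).1 hd V φ
      (I.subschemeι z) hφe hpt
  have h2 := Groth.Agent.Lib.Helper4.EffCartierDim1.S1686_main V.left I hI z (by rw [h1]; exact hfin)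
  rw [h1] at h2
  exact ⟨_, fst, z, hfe, hz, h2⟩

end Groth.Agent.Helper2.EffCartierDimSp
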