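import Mathlib
import Groth.Prelude.Def_AlgSpOX2
import Groth.Agent.Lib.Helper5.Misc.EtClosedLift
import Groth.Agent.Lib.Helper2.AlgSp.Basic

/-!
# Base change along a closed immersion of algebraic spaces is cover dense and locally full (helper2)

For a representable closed immersion `f : Z ⟶ X` of sheaves with `X` an algebraic space, the base
change functor `EtOver X ⥤ EtOver Z` of small étale sites is cover dense and locally full, hence the
direct image `f_*` is fully faithful on sheaves with values in any category.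
-/

set_option autoImplicit false
set_option backward.isDefEq.respectTransparency false
set_option synthInstance.maxHeartbeats 400000
set_option maxHeartbeats 4000000
set_option linter.style.haveILetI false
set_option linter.unusedSectionVars false
set_option linter.unusedVariables false
set_option linter.unusedSimpArgs false
set_option linter.unnecessarySimpa false

universe u
open CategoryTheory CategoryTheory.Limits AlgebraicGeometry Opposite AlgSp

namespace Groth.Agent.Helper2.EtClosedDenseSp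

variable {S : Scheme.{u}}

/-- A sieve of the small étale site containing, around every point, a morphism through that point,
is covering. -/
theorem mem_etTop_of_forall {Y : Sp S} {V : EtOver Y} (R : Sieve V)
    (h : ∀ x : ↥V.obj.left.left, ∃ (T : EtOver Y) (t : T ⟶ V), R t ∧
      x ∈ Set.range t.hom.left.left) :
    R ∈ etTop Y V := by
  choose T t hR hx using h
  refine (etTop Y).superset_covering ?_ (ofArrows_mem_etTop T t (fun x => ⟨x, hx x⟩))
  exact (Sieve.generate_le_iff _ _).2 (Presieve.ofArrows_le_iff.2 hR)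

/-- The object `W₀ ⟶ U ⟶ Y` of the small étale site given by an étale `v : W₀ ⟶ U`. -/
noncomputable def overObj {Y : Sp S} (U : EtOver Y) {W₀ : Scheme.{u}} (v : W₀ ⟶ U.obj.left.left)
    [hv : Etale v] : EtOver Y :=
  EtOver.mk ((yon S).map (Over.homMk v rfl : Over.mk (v ≫ U.obj.left.hom) ⟶ U.obj.left) ≫ U.obj.hom)
    (Groth.Agent.Helper2.AlgSpBasic.repWith_comp _ ((repWith_yon_map_iff @Etale _).2 hv) U.property)

/-- The structure morphism `overObj U v ⟶ U`. -/
noncomputable def overHom {Y : Sp S} (U : EtOver Y) {W₀ : Scheme.{u}} (v : W₀ ⟶ U.obj.left.left)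
    [hv : Etale v] : overObj U v ⟶ U :=
  EtOver.homMk (Over.homMk v rfl) rfl

variable {Z X : Sp S} {f : Z ⟶ X}

/-- A cartesian square of schemes over the defining square of `bc U` identifies its corner with
`bc W`. -/
theorem exists_bc_iso (hf : Representable f) {U W : EtOver X} (g : W ⟶ U) {T : EtOver Z}
    (m' : T ⟶ (EtOver.bc hf).obj U) (aS : T.obj.left ⟶ W.obj.left)
    (H : IsPullback aS.left m'.hom.left.left g.hom.left.left (hf.snd U.obj.hom).left) :
    ∃ θ : T ≅ (EtOver.bc hf).obj W, θ.hom ≫ (EtOver.bc hf).map g = m' := by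
  have sq₁ : IsPullback ((yon S).map aS) ((yon S).map m'.hom.left) ((yon S).map g.hom.left)
      ((yon S).map (hf.snd U.obj.hom)) :=
    Groth.Agent.Helper2.AlgSpBasic.yon_isPullback_of_left aS m'.hom.left g.hom.left
      (hf.snd U.obj.hom) H
  have sq₂ : IsPullback ((yon S).map aS) ((yon S).map m'.hom.left ≫ hf.fst U.obj.hom)
      ((yon S).map g.hom.left ≫ U.obj.hom) f :=
    sq₁.paste_vert (hf.isPullback U.obj.hom).flip
  have e₁ : (yon S).map m'.hom.left ≫ hf.fst U.obj.hom = T.obj.hom := EtOver.w m'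
  have e₂ : (yon S).map g.hom.left ≫ U.obj.hom = W.obj.hom := EtOver.w g
  have sq₃ : IsPullback T.obj.hom ((yon S).map aS) f W.obj.hom := by
    have := sq₂.flip
    rwa [e₁, e₂] at this
  have sqW := hf.isPullback W.obj.hom
  have he'1 : (sq₃.isoIsPullback _ _ sqW).hom ≫ hf.fst W.obj.hom = T.obj.hom :=
    sq₃.isoIsPullback_hom_fst _ _ sqW
  have he'2 : (sq₃.isoIsPullback _ _ sqW).hom ≫ (yon S).map (hf.snd W.obj.hom) = (yon S).map aS :=
    sq₃.isoIsPullback_hom_snd _ _ sqW
  have he'3 : (sq₃.isoIsPullback _ _ sqW).inv ≫ T.obj.hom = hf.fst W.obj.hom :=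
    sq₃.isoIsPullback_inv_fst _ _ sqW
  obtain ⟨ε, hε, hεi⟩ : ∃ ε : T.obj.left ≅ ((EtOver.bc hf).obj W).obj.left,
      (yon S).map ε.hom = (sq₃.isoIsPullback _ _ sqW).hom ∧
      (yon S).map ε.inv = (sq₃.isoIsPullback _ _ sqW).inv :=
    ⟨(yon S).preimageIso (sq₃.isoIsPullback _ _ sqW),
      by rw [Functor.preimageIso_hom, Functor.map_preimage],
      by rw [Functor.preimageIso_inv, Functor.map_preimage]⟩
  have w₁ : (yon S).map ε.hom ≫ ((EtOver.bc hf).obj W).obj.hom = T.obj.hom := by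
    rw [hε]; exact he'1
  have w₂ : (yon S).map ε.inv ≫ T.obj.hom = ((EtOver.bc hf).obj W).obj.hom := by
    rw [hεi]; exact he'3
  have hεa : ε.hom ≫ hf.snd W.obj.hom = aS :=
    (yon S).map_injective (by rw [Functor.map_comp, hε]; exact he'2)
  refine ⟨⟨EtOver.homMk ε.hom w₁, EtOver.homMk ε.inv w₂, EtOver.hom_ext _ _ ε.hom_inv_id,
    EtOver.hom_ext _ _ ε.inv_hom_id⟩, ?_⟩
  refine EtOver.hom_ext _ _ ?_
  change ε.hom ≫ (EtOver.bcMap hf g).hom.left = m'.hom.left
  refine hf.hom_ext (g := U.obj.hom) ?_ ?_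
  · rw [Functor.map_comp, Category.assoc, EtOver.map_bcMap_fst, hε, he'1]
    exact e₁.symm
  · rw [Category.assoc, EtOver.bcMap_snd, ← Category.assoc, hεa]
    exact Over.OverMorphism.ext H.w

/-- The key lemma, from scheme-level data. -/
theorem key_of_lift (hf : Representable f) (U : EtOver X) (V : EtOver Z)
    (m : V ⟶ (EtOver.bc hf).obj U) {W₀ T₀ : Scheme.{u}} (v : W₀ ⟶ U.obj.left.left) [Etale v]
    (t₀ : T₀ ⟶ V.obj.left.left) [Etale t₀] (a : T₀ ⟶ W₀)
    (hpb : IsPullback a (t₀ ≫ m.hom.left.left) v (hf.snd U.obj.hom).left) :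
    ∃ θ : overObj V t₀ ≅ (EtOver.bc hf).obj (overObj U v),
      θ.hom ≫ (EtOver.bc hf).map (overHom U v) = overHom V t₀ ≫ m := by
  have h1 : (hf.snd U.obj.hom).left ≫ U.obj.left.hom = ((EtOver.bc hf).obj U).obj.left.hom :=
    Over.w (hf.snd U.obj.hom)
  have h2 : m.hom.left.left ≫ ((EtOver.bc hf).obj U).obj.left.hom = V.obj.left.hom :=
    Over.w m.hom.left
  have hw : a ≫ v ≫ U.obj.left.hom = t₀ ≫ V.obj.left.hom := by
    rw [← Category.assoc, hpb.w, Category.assoc, Category.assoc, h1, h2]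
  exact exists_bc_iso hf (overHom U v) (overHom V t₀ ≫ m)
    (Over.homMk a hw : (overObj V t₀).obj.left ⟶ (overObj U v).obj.left) hpb

/-- **Key lemma**: étale objects over the closed subspace lift locally to the ambient space. -/
theorem key (hf : RepWith @IsClosedImmersion f) (U : EtOver X) (V : EtOver Z)
    (m : V ⟶ (EtOver.bc hf.1).obj U) (x : ↥V.obj.left.left) :
    ∃ (W : EtOver X) (g : W ⟶ U) (T : EtOver Z) (t : T ⟶ V) (θ : T ≅ (EtOver.bc hf.1).obj W),
      x ∈ Set.range t.hom.left.left ∧ θ.hom ≫ (EtOver.bc hf.1).map g = t ≫ m := by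
  haveI hc : IsClosedImmersion (hf.1.snd U.obj.hom).left :=
    hf.2 U.obj.hom _ _ (hf.1.isPullback U.obj.hom)
  haveI hm : Etale m.hom.left.left := EtOver.etale_left m
  obtain ⟨W₀, v, hv, T₀, t₀, ht₀, a, hx, hpb⟩ :=
    Groth.Agent.Lib.Helper5.EtClosedLift.exists_lift (hf.1.snd U.obj.hom).left m.hom.left.left x
  haveI := hv
  haveI := ht₀
  haveI : Etale t₀ := inferInstance
  obtain ⟨θ, hθ⟩ := key_of_lift hf.1 U V m v t₀ a hpb
  exact ⟨overObj U v, overHom U v, overObj V t₀, overHom V t₀, θ, hx, hθ⟩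

/-- Every object of the small étale site of `Z` admits an étale surjection from an object mapping to
the base change of a chart of `X`. -/
theorem exists_chart_cover (hf : Representable f) (hX : IsAlgSpace X) (V : EtOver Z) :
    ∃ (W₁ : EtOver X) (V' : EtOver Z) (pr : V' ⟶ V) (m : V' ⟶ (EtOver.bc hf).obj W₁),
      Function.Surjective pr.hom.left.left := by
  obtain ⟨W₁, p, hpe, hps⟩ := hX.atlas
  have sqP := hpe.1.isPullback (V.obj.hom ≫ f)
  have het : Etale (hpe.1.snd (V.obj.hom ≫ f)).left := hpe.2 _ _ _ sqP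
  have hsu : Surjective (hpe.1.snd (V.obj.hom ≫ f)).left := hps.2 _ _ _ sqP
  have hV' : RepWith @Etale ((yon S).map (hpe.1.snd (V.obj.hom ≫ f)) ≫ V.obj.hom) :=
    Groth.Agent.Helper2.AlgSpBasic.repWith_comp _ ((repWith_yon_map_iff @Etale _).2 het) V.property
  have hcomp : ((yon S).map (hpe.1.snd (V.obj.hom ≫ f)) ≫ V.obj.hom) ≫ f =
      (yon S).map (hpe.1.fst' (V.obj.hom ≫ f)) ≫ p := by
    rw [Functor.relativelyRepresentable.map_fst', Category.assoc]
    exact sqP.w.symm
  exact ⟨EtOver.mk p hpe, EtOver.mk _ hV', EtOver.homMk (hpe.1.snd (V.obj.hom ≫ f)) rfl,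
    EtOver.homMk (hf.lift _ (hpe.1.fst' (V.obj.hom ≫ f)) hcomp) (hf.lift_fst _ _ _), hsu.surj⟩

/-- Base change along a closed immersion into an algebraic space is cover dense. -/
theorem isCoverDense (hf : RepWith @IsClosedImmersion f) (hX : IsAlgSpace X) :
    (EtOver.bc hf.1).IsCoverDense (etTop Z) where
  is_cover V := by
    obtain ⟨W₁, V', pr, m, hpr⟩ := exists_chart_cover hf.1 hX V
    refine mem_etTop_of_forall _ (fun y => ?_)
    obtain ⟨x', hx'⟩ := hpr y
    obtain ⟨W, g, T, t, θ, ⟨z, hz⟩, hθ⟩ := key hf W₁ V' m x'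
    refine ⟨T, t ≫ pr, ⟨⟨W, θ.hom, θ.inv ≫ t ≫ pr, by rw [Iso.hom_inv_id_assoc]⟩⟩, z, ?_⟩
    change pr.hom.left.left (t.hom.left.left z) = y
    rw [hz, hx']

/-- The graph of a morphism between base changes. -/
theorem exists_graph (hf : Representable f) (U U' : EtOver X)
    (φ : (EtOver.bc hf).obj U ⟶ (EtOver.bc hf).obj U') :
    ∃ Γ : (EtOver.bc hf).obj U ⟶ (EtOver.bc hf).obj (EtOver.prodObj U U'),
      Γ ≫ (EtOver.bc hf).map (EtOver.prodFst U U') = 𝟙 _ ∧
      Γ ≫ (EtOver.bc hf).map (EtOver.prodSnd U U') = φ := by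
  have hφ : (yon S).map φ.hom.left ≫ hf.fst U'.obj.hom = hf.fst U.obj.hom := EtOver.w φ
  have c₁ : (yon S).map (φ.hom.left ≫ hf.snd U'.obj.hom) ≫ U'.obj.hom =
      (yon S).map (hf.snd U.obj.hom) ≫ U.obj.hom := by
    rw [Functor.map_comp, Category.assoc, ← hf.w U'.obj.hom, ← Category.assoc, hφ, hf.w U.obj.hom]
  obtain ⟨γ₀, hγ₁, hγ₂⟩ : ∃ γ₀ : ((EtOver.bc hf).obj U).obj.left ⟶ (EtOver.prodObj U U').obj.left,
      γ₀ ≫ (EtOver.prodSnd U U').hom.left = φ.hom.left ≫ hf.snd U'.obj.hom ∧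
      γ₀ ≫ (EtOver.prodFst U U').hom.left = hf.snd U.obj.hom :=
    ⟨U'.property.1.lift' _ _ c₁, U'.property.1.lift'_fst _ _ c₁, U'.property.1.lift'_snd _ _ c₁⟩
  have c₂ : hf.fst U.obj.hom ≫ f = (yon S).map γ₀ ≫ (EtOver.prodObj U U').obj.hom := by
    rw [← EtOver.w (EtOver.prodFst U U'), ← Category.assoc, ← Functor.map_comp, hγ₂]
    exact hf.w U.obj.hom
  refine ⟨EtOver.homMk (hf.lift (hf.fst U.obj.hom) γ₀ c₂) (hf.lift_fst _ _ _), ?_, ?_⟩
  · refine EtOver.hom_ext _ _ ?_
    change hf.lift (hf.fst U.obj.hom) γ₀ c₂ ≫ (EtOver.bcMap hf (EtOver.prodFst U U')).hom.left = 𝟙 _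
    refine hf.hom_ext (g := U.obj.hom) ?_ ?_
    · rw [Functor.map_comp, Category.assoc, EtOver.map_bcMap_fst, hf.lift_fst,
        CategoryTheory.Functor.map_id, Category.id_comp]
    · rw [Category.assoc, EtOver.bcMap_snd, ← Category.assoc, hf.lift_snd, hγ₂, Category.id_comp]
  · refine EtOver.hom_ext _ _ ?_
    change hf.lift (hf.fst U.obj.hom) γ₀ c₂ ≫ (EtOver.bcMap hf (EtOver.prodSnd U U')).hom.left =
      φ.hom.left
    refine hf.hom_ext (g := U'.obj.hom) ?_ ?_
    · rw [Functor.map_comp, Category.assoc, EtOver.map_bcMap_fst, hf.lift_fst]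
      exact hφ.symm
    · rw [Category.assoc, EtOver.bcMap_snd, ← Category.assoc, hf.lift_snd, hγ₁]

/-- Base change along a closed immersion is locally full. -/
theorem isLocallyFull (hf : RepWith @IsClosedImmersion f) :
    (EtOver.bc hf.1).IsLocallyFull (etTop Z) where
  functorPushforward_imageSieve_mem {U U'} φ := by
    refine mem_etTop_of_forall _ (fun x => ?_)
    obtain ⟨Γ, hΓ₁, hΓ₂⟩ := exists_graph hf.1 U U' φ
    obtain ⟨W, g, T, t, θ, hx, hθ⟩ :=
      key hf (EtOver.prodObj U U') ((EtOver.bc hf.1).obj U) Γ x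
    have k1 : θ.hom ≫ (EtOver.bc hf.1).map (g ≫ EtOver.prodSnd U U') = t ≫ φ := by
      rw [Functor.map_comp, ← Category.assoc, hθ, Category.assoc, hΓ₂]
    have k2 : θ.hom ≫ (EtOver.bc hf.1).map (g ≫ EtOver.prodFst U U') = t := by
      rw [Functor.map_comp, ← Category.assoc, hθ, Category.assoc, hΓ₁, Category.comp_id]
    refine ⟨T, t, ⟨W, g ≫ EtOver.prodFst U U', θ.hom, ⟨g ≫ EtOver.prodSnd U U', ?_⟩, k2.symm⟩, hx⟩
    refine (cancel_epi θ.hom).1 ?_
    rw [k1, ← Category.assoc, k2]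

variable (A : Type*) [Category A]

theorem full_pushEt (hf : RepWith @IsClosedImmersion f) (hX : IsAlgSpace X) :
    (pushEt hf.1 A).Full := by
  haveI := isCoverDense hf hX
  haveI := isLocallyFull hf
  exact Functor.IsCoverDense.full_sheafPushforwardContinuous _ _ _

theorem faithful_pushEt (hf : RepWith @IsClosedImmersion f) (hX : IsAlgSpace X) :
    (pushEt hf.1 A).Faithful := by
  haveI := isCoverDense hf hX
  haveI := isLocallyFull hf
  exact Functor.IsCoverDense.faithful_sheafPushforwardContinuous _ _ _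

theorem isIso_counit (hf : RepWith @IsClosedImmersion f) (hX : IsAlgSpace X)
    [((EtOver.bc hf.1).sheafPushforwardContinuous A (etTop X) (etTop Z)).IsRightAdjoint] :
    IsIso (pullPushAdjEt hf.1 A).counit := by
  haveI := full_pushEt A hf hX
  haveI := faithful_pushEt A hf hX
  infer_instance

end Groth.Agent.Helper2.EtClosedDenseSp
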