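import Mathlib
import Groth.Prelude.Def_AlgSpSub
import Groth.Prelude.Def_AlgSpOX2
import Groth.Agent.Lib.Helper2.AlgSp.Thick
import Groth.Agent.Lib.Helper2.AlgSp.PointsMor
import Groth.Agent.Lib.Helper2.AlgSp.EtClosedDenseSp
import Groth.Agent.Lib.Helper2.Site.GlueTwo

/-!
# Geometry of elementary distinguished squares in the small étale site (helper2)

For `(U ⊂ X, V ⟶ X)` an elementary distinguished square with `U`, `V` objects of the small étale
site of `X`: the two projections `U ⨯ W ⟶ W`, `V ⨯ W ⟶ W` cover every object `W`, and two maps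
`q q' : Z ⟶ V` agree étale locally on `Z` away from `U ⨯ Z`.
-/

set_option autoImplicit false
set_option backward.isDefEq.respectTransparency false
set_option maxHeartbeats 4000000
set_option synthInstance.maxHeartbeats 400000
set_option linter.style.haveILetI false
set_option linter.unusedSectionVars false
set_option linter.unusedVariables false
set_option linter.unusedSimpArgs false
set_option linter.unnecessarySimpa false

universe u
open CategoryTheory CategoryTheory.Limits AlgebraicGeometry Opposite AlgSp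

namespace Groth.Agent.Helper2.ElemDist

open Groth.Agent.Helper2.AlgSpBasic Groth.Agent.Helper2.GlueTwo
open Groth.Agent.Helper2.EtClosedDenseSp

variable {S : Scheme.{u}} {X : Sp S}

/-- The underlying scheme of Mathlib's chosen product in the small étale site is the fibre
product over `X`. -/
theorem isPullback_prod (E₁ E₂ : EtOver X) :
    IsPullback ((yon S).map (prod.fst : E₁ ⨯ E₂ ⟶ E₁).hom.left)
      ((yon S).map (prod.snd : E₁ ⨯ E₂ ⟶ E₂).hom.left) E₁.obj.hom E₂.obj.hom := by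
  obtain ⟨e, h1, h2⟩ : ∃ e : E₁ ⨯ E₂ ≅ EtOver.prodObj E₁ E₂,
      e.hom ≫ EtOver.prodFst E₁ E₂ = (prod.fst : E₁ ⨯ E₂ ⟶ E₁) ∧
      e.hom ≫ EtOver.prodSnd E₁ E₂ = (prod.snd : E₁ ⨯ E₂ ⟶ E₂) :=
    ⟨(limit.isLimit (pair E₁ E₂)).conePointUniqueUpToIso (EtOver.prodIsLimit E₁ E₂),
      IsLimit.conePointUniqueUpToIso_hom_comp _ _ (Discrete.mk WalkingPair.left),
      IsLimit.conePointUniqueUpToIso_hom_comp _ _ (Discrete.mk WalkingPair.right)⟩
  have h1' : e.inv ≫ (prod.fst : E₁ ⨯ E₂ ⟶ E₁) = EtOver.prodFst E₁ E₂ := by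
    rw [← h1, Iso.inv_hom_id_assoc]
  have h2' : e.inv ≫ (prod.snd : E₁ ⨯ E₂ ⟶ E₂) = EtOver.prodSnd E₁ E₂ := by
    rw [← h2, Iso.inv_hom_id_assoc]
  have c1 : (EtOver.prodFst E₁ E₂).hom.left =
      e.inv.hom.left ≫ (prod.fst : E₁ ⨯ E₂ ⟶ E₁).hom.left :=
    congrArg (fun k => k.hom.left) h1'.symm
  have c2 : (EtOver.prodSnd E₁ E₂).hom.left =
      e.inv.hom.left ≫ (prod.snd : E₁ ⨯ E₂ ⟶ E₂).hom.left :=
    congrArg (fun k => k.hom.left) h2'.symm
  have H : IsPullback ((yon S).map (EtOver.prodFst E₁ E₂).hom.left)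
      ((yon S).map (EtOver.prodSnd E₁ E₂).hom.left) E₁.obj.hom E₂.obj.hom :=
    (E₂.property.1.isPullback' E₁.obj.hom).flip
  let ee : (EtOver.prodObj E₁ E₂).obj.left ≅ (E₁ ⨯ E₂).obj.left :=
    (EtOver.forget X).mapIso e.symm
  have hee : ee.hom = e.inv.hom.left := rfl
  refine IsPullback.of_iso H ((yon S).mapIso ee) (Iso.refl _) (Iso.refl _) (Iso.refl _)
    ?_ ?_ ?_ ?_
  · rw [Iso.refl_hom, Category.comp_id, Functor.mapIso_hom, hee, ← Functor.map_comp, ← c1]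
  · rw [Iso.refl_hom, Category.comp_id, Functor.mapIso_hom, hee, ← Functor.map_comp, ← c2]
  · rw [Iso.refl_hom, Iso.refl_hom, Category.comp_id, Category.id_comp]
  · rw [Iso.refl_hom, Iso.refl_hom, Category.comp_id, Category.id_comp]

theorem prod_left_hom_ext (E₁ E₂ : EtOver X) {A : Over S} (m m' : A ⟶ (E₁ ⨯ E₂).obj.left)
    (h₁ : m ≫ (prod.fst : E₁ ⨯ E₂ ⟶ E₁).hom.left = m' ≫ (prod.fst : E₁ ⨯ E₂ ⟶ E₁).hom.left)
    (h₂ : m ≫ (prod.snd : E₁ ⨯ E₂ ⟶ E₂).hom.left = m' ≫ (prod.snd : E₁ ⨯ E₂ ⟶ E₂).hom.left) :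
    m = m' := by
  apply (yon S).map_injective
  apply (isPullback_prod E₁ E₂).hom_ext
  · rw [← Functor.map_comp, ← Functor.map_comp, h₁]
  · rw [← Functor.map_comp, ← Functor.map_comp, h₂]

theorem prod_left_lift (E₁ E₂ : EtOver X) {A : Over S} (a : A ⟶ E₁.obj.left)
    (b : A ⟶ E₂.obj.left) (h : (yon S).map a ≫ E₁.obj.hom = (yon S).map b ≫ E₂.obj.hom) :
    ∃ m : A ⟶ (E₁ ⨯ E₂).obj.left, m ≫ (prod.fst : E₁ ⨯ E₂ ⟶ E₁).hom.left = a ∧
      m ≫ (prod.snd : E₁ ⨯ E₂ ⟶ E₂).hom.left = b := by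
  obtain ⟨m, hm⟩ := (yon S).map_surjective ((isPullback_prod E₁ E₂).lift _ _ h)
  refine ⟨m, (yon S).map_injective ?_, (yon S).map_injective ?_⟩
  · rw [Functor.map_comp, hm, IsPullback.lift_fst]
  · rw [Functor.map_comp, hm, IsPullback.lift_snd]

/-- The data extracted from an elementary distinguished square. -/
structure IsData (U V : EtOver X) {T : Sp S} (i : T ⟶ X)
    (s : T ⟶ (yon S).obj V.obj.left) : Prop where
  mono : Mono U.obj.hom
  rep : Representable i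
  range_eq : Set.range (Points.map i) = (Set.range (Points.map U.obj.hom))ᶜ
  fac : s ≫ V.obj.hom = i
  uniq : ∀ {A : Sp S} (a : A ⟶ T) (b : A ⟶ (yon S).obj V.obj.left),
    b ≫ V.obj.hom = a ≫ i → b = a ≫ s

theorem exists_isData {U V : EtOver X} (hsq : IsElemDistSq U.obj.hom V.obj.hom) :
    ∃ (T : Sp S) (i : T ⟶ X) (s : T ⟶ (yon S).obj V.obj.left), IsData U V i s := by
  obtain ⟨hj, -, T, P, i, p₁, p₂, hred, hpb, hiso⟩ := hsq
  haveI := hiso
  refine ⟨T, i, inv p₁ ≫ p₂, ⟨mono_of_repWith_isOpenImmersion _ hj, hred.1.1, hred.2.1, ?_, ?_⟩⟩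
  · rw [Category.assoc, ← hpb.w, IsIso.inv_hom_id_assoc]
  · intro A a b hab
    have h1 : hpb.lift a b hab.symm ≫ p₁ = a := hpb.lift_fst _ _ _
    have h2 : hpb.lift a b hab.symm ≫ p₂ = b := hpb.lift_snd _ _ _
    have h3 : b = (hpb.lift a b hab.symm ≫ p₁) ≫ inv p₁ ≫ p₂ := by
      rw [Category.assoc, IsIso.hom_inv_id_assoc, h2]
    rw [h1] at h3
    exact h3

variable {U V : EtOver X} {T : Sp S} {i : T ⟶ X} {s : T ⟶ (yon S).obj V.obj.left}

theorem IsData.subterminal (hd : IsData U V i s) {Z : EtOver X} (a b : Z ⟶ U) : a = b := by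
  haveI := hd.mono
  apply EtOver.hom_ext
  apply (yon S).map_injective
  rw [← cancel_mono U.obj.hom, EtOver.w a, EtOver.w b]

/-- Every point of an object `Z` of the site lies over the open part, or on a scheme mapping
to the closed part. -/
theorem dichotomy (hd : IsData U V i s) (Z : EtOver X) (z : ↥Z.obj.left.left) :
    (∃ p : ↥(U ⨯ Z).obj.left.left, (prod.snd : U ⨯ Z ⟶ Z).hom.left.left p = z) ∨
    (∃ (A : Over S) (ι : A ⟶ Z.obj.left) (a : (yon S).obj A ⟶ T),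
      (yon S).map ι ≫ Z.obj.hom = a ≫ i ∧ z ∈ Set.range ι.left) := by
  by_cases hx : Points.ofPt Z.obj.hom z ∈ Set.range (Points.map U.obj.hom)
  · left
    obtain ⟨x, hx⟩ := hx
    obtain ⟨p, -, hp⟩ := exists_point_of_isPullback_right U.obj.hom Z.obj.hom
      ((yon S).map (prod.fst : U ⨯ Z ⟶ U).hom.left) (prod.snd : U ⨯ Z ⟶ Z).hom.left
      (isPullback_prod U Z) x z hx
    exact ⟨p, hp⟩
  · right
    have hx' : Points.ofPt Z.obj.hom z ∈ Set.range (Points.map i) := by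
      rw [hd.range_eq]
      exact hx
    obtain ⟨τ, hτ⟩ := hx'
    obtain ⟨p, -, hp⟩ := exists_point_of_isPullback_right i Z.obj.hom
      (hd.rep.fst Z.obj.hom) (hd.rep.snd Z.obj.hom) (hd.rep.isPullback Z.obj.hom) τ z hτ
    exact ⟨hd.rep.pullback Z.obj.hom, hd.rep.snd Z.obj.hom, hd.rep.fst Z.obj.hom,
      (hd.rep.w Z.obj.hom).symm, ⟨p, hp⟩⟩

theorem cover_point (hd : IsData U V i s) (W : EtOver X) (w : ↥W.obj.left.left) :
    (∃ p : ↥(U ⨯ W).obj.left.left, (prod.snd : U ⨯ W ⟶ W).hom.left.left p = w) ∨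
    (∃ p : ↥(V ⨯ W).obj.left.left, (prod.snd : V ⨯ W ⟶ W).hom.left.left p = w) := by
  rcases dichotomy hd W w with h | ⟨A, ι, a, ha, t, ht⟩
  · exact Or.inl h
  · right
    obtain ⟨β, hβ⟩ := (yon S).map_surjective (a ≫ s)
    have hc : (yon S).map β ≫ V.obj.hom = (yon S).map ι ≫ W.obj.hom := by
      rw [hβ, Category.assoc, hd.fac, ha]
    obtain ⟨m, -, hm⟩ := prod_left_lift V W β ι hc
    refine ⟨m.left t, ?_⟩
    rw [← ht, ← hm, Over.comp_left, Scheme.Hom.comp_apply]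

theorem equalizer_point (hd : IsData U V i s) {Z : EtOver X} (q q' : Z ⟶ V)
    (z : ↥Z.obj.left.left) :
    (∃ p : ↥(U ⨯ Z).obj.left.left, (prod.snd : U ⨯ Z ⟶ Z).hom.left.left p = z) ∨
    (∃ (E : EtOver X) (e : E ⟶ Z), e ≫ q = e ≫ q' ∧ z ∈ Set.range e.hom.left.left) := by
  rcases dichotomy hd Z z with h | ⟨A, ι, a, ha, t, ht⟩
  · exact Or.inl h
  · right
    have hq : ∀ r : Z ⟶ V, (yon S).map (ι ≫ r.hom.left) = a ≫ s := by
      intro r
      apply hd.uniq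
      rw [Functor.map_comp, Category.assoc, EtOver.w r, ha]
    have hqq : ι ≫ q.hom.left = ι ≫ q'.hom.left :=
      (yon S).map_injective ((hq q).trans (hq q').symm)
    let g₁ : Z ⟶ V ⨯ V := prod.lift q q'
    let g₂ : V ⟶ V ⨯ V := prod.lift (𝟙 V) (𝟙 V)
    have e1 : g₁.hom.left ≫ (prod.fst : V ⨯ V ⟶ V).hom.left = q.hom.left :=
      congrArg (fun k => k.hom.left) (prod.lift_fst q q')
    have e2 : g₁.hom.left ≫ (prod.snd : V ⨯ V ⟶ V).hom.left = q'.hom.left :=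
      congrArg (fun k => k.hom.left) (prod.lift_snd q q')
    have d1 : g₂.hom.left ≫ (prod.fst : V ⨯ V ⟶ V).hom.left = 𝟙 V.obj.left :=
      congrArg (fun k => k.hom.left) (prod.lift_fst (𝟙 V) (𝟙 V))
    have d2 : g₂.hom.left ≫ (prod.snd : V ⨯ V ⟶ V).hom.left = 𝟙 V.obj.left :=
      congrArg (fun k => k.hom.left) (prod.lift_snd (𝟙 V) (𝟙 V))
    refine ⟨EtOver.pullbackObj g₁ g₂, EtOver.pullbackFst g₁ g₂, ?_, ?_⟩
    · have hc := EtOver.pullback_condition g₁ g₂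
      have k1 : EtOver.pullbackFst g₁ g₂ ≫ q = EtOver.pullbackSnd g₁ g₂ := by
        have := congrArg (fun k => k ≫ (prod.fst : V ⨯ V ⟶ V)) hc
        simpa [g₁, g₂, prod.lift_fst] using this
      have k2 : EtOver.pullbackFst g₁ g₂ ≫ q' = EtOver.pullbackSnd g₁ g₂ := by
        have := congrArg (fun k => k ≫ (prod.snd : V ⨯ V ⟶ V)) hc
        simpa [g₁, g₂, prod.lift_snd] using this
      rw [k1, k2]
    · have hcomm : ι ≫ g₁.hom.left = (ι ≫ q.hom.left) ≫ g₂.hom.left := by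
        apply prod_left_hom_ext V V
        · rw [Category.assoc, e1, Category.assoc, d1, Category.comp_id]
        · rw [Category.assoc, e2, Category.assoc, d2, Category.comp_id, hqq]
      refine ⟨(pullback.lift ι (ι ≫ q.hom.left) hcomm).left t, ?_⟩
      have hl : pullback.lift ι (ι ≫ q.hom.left) hcomm ≫ (EtOver.pullbackFst g₁ g₂).hom.left = ι :=
        pullback.lift_fst _ _ _
      have h3 : (pullback.lift ι (ι ≫ q.hom.left) hcomm ≫
          (EtOver.pullbackFst g₁ g₂).hom.left).left t = ι.left t := by rw [hl]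
      rw [Over.comp_left, Scheme.Hom.comp_apply] at h3
      exact h3.trans ht

theorem twoSieve_snd_mem (hd : IsData U V i s) (W : EtOver X) :
    twoSieve (prod.snd : U ⨯ W ⟶ W) (prod.snd : V ⨯ W ⟶ W) ∈ etTop X W := by
  refine mem_etTop_of_forall _ fun w => ?_
  rcases cover_point hd W w with ⟨p, hp⟩ | ⟨p, hp⟩
  · exact ⟨U ⨯ W, prod.snd, Or.inl ⟨𝟙 _, Category.id_comp _⟩, ⟨p, hp⟩⟩
  · exact ⟨V ⨯ W, prod.snd, Or.inr ⟨𝟙 _, Category.id_comp _⟩, ⟨p, hp⟩⟩

theorem eqSieve_mem (hd : IsData U V i s) {Z : EtOver X} (q q' : Z ⟶ V) :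
    eqSieve U q q' ∈ etTop X Z := by
  refine mem_etTop_of_forall _ fun z => ?_
  rcases equalizer_point hd q q' z with ⟨p, hp⟩ | ⟨E, e, he, hz⟩
  · exact ⟨U ⨯ Z, prod.snd, Or.inr ⟨prod.fst⟩, ⟨p, hp⟩⟩
  · exact ⟨E, e, Or.inl he, hz⟩

end Groth.Agent.Helper2.ElemDist
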