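import Mathlib
import Groth.Prelude.Def_W4SpPerfMV
import Groth.Prelude.Def_AlgSpSub
import Groth.Agent.Lib.Helper2.Site.GlueTwo
import Groth.Agent.Lib.Helper2.AlgSp.ElemDistGeom

/-!
# Mayer–Vietoris for an elementary distinguished square: `j_*` version (helper2)
-/

set_option autoImplicit false
set_option backward.isDefEq.respectTransparency false
set_option maxHeartbeats 4000000
set_option synthInstance.maxHeartbeats 400000
set_option linter.style.haveILetI false
set_option linter.unusedSectionVars false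
set_option linter.unusedVariables false
set_option linter.unusedSimpArgs false
set_option linter.unnecessarySimpa false

universe u
open CategoryTheory CategoryTheory.Limits AlgebraicGeometry Opposite AlgSp

namespace Groth.Agent.Helper2.ElemDistMV

open Groth.Agent.Helper2.GlueTwo Groth.Agent.Helper2.ElemDist

noncomputable section

variable {S : Scheme.{u}} {X : Sp S}

/-- The type valued presheaf of sections of a module. -/
abbrev Psh (M : ModEt X) : (EtOver X)ᵒᵖ ⥤ Type (u + 1) :=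
  M.val.presheaf ⋙ forget AddCommGrpCat.{u + 1}

theorem psh_isSheaf (M : ModEt X) : Presieve.IsSheaf (etTop X) (Psh M) :=
  (isSheaf_iff_isSheaf_of_type _ _).mp
    ((Presheaf.isSheaf_iff_isSheaf_forget _ _ (forget AddCommGrpCat.{u + 1})).mp M.isSheaf)

/-- Restriction of sections. -/
def res (M : ModEt X) {W W' : EtOver X} (g : W' ⟶ W) (x : M.val.obj (op W)) :
    M.val.obj (op W') :=
  (M.val.presheaf.map g.op).hom x

theorem psh_map (M : ModEt X) {W W' : EtOver X} (g : W' ⟶ W) (x : M.val.obj (op W)) :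
    (Psh M).map g.op x = res M g x := rfl

theorem res_comp (M : ModEt X) {W W' W'' : EtOver X} (g : W'' ⟶ W') (h : W' ⟶ W)
    (x : M.val.obj (op W)) : res M (g ≫ h) x = res M g (res M h x) :=
  map_comp_apply' (P := Psh M) g h x

theorem res_id (M : ModEt X) {W : EtOver X} (x : M.val.obj (op W)) : res M (𝟙 W) x = x :=
  map_id_apply' (P := Psh M) x

theorem res_sub (M : ModEt X) {W W' : EtOver X} (g : W' ⟶ W) (x y : M.val.obj (op W)) :
    res M g (x - y) = res M g x - res M g y :=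
  map_sub (M.val.presheaf.map g.op).hom x y

theorem res_zero (M : ModEt X) {W W' : EtOver X} (g : W' ⟶ W) :
    res M g (0 : M.val.obj (op W)) = 0 :=
  map_zero (M.val.presheaf.map g.op).hom

/-- The map on sections induced by a morphism of modules. -/
def secMap {M N : ModEt X} (φ : M ⟶ N) (W : EtOver X) (x : M.val.obj (op W)) :
    N.val.obj (op W) :=
  (φ.val.app (op W)).hom x

theorem secMap_comp {M N K : ModEt X} (φ : M ⟶ N) (ψ : N ⟶ K) (W : EtOver X)
    (x : M.val.obj (op W)) : secMap (φ ≫ ψ) W x = secMap ψ W (secMap φ W x) := rfl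

theorem secMap_zero {M N : ModEt X} (W : EtOver X) (x : M.val.obj (op W)) :
    secMap (0 : M ⟶ N) W x = 0 := rfl

theorem secMap_sub {M N : ModEt X} (φ : M ⟶ N) (W : EtOver X) (x y : M.val.obj (op W)) :
    secMap φ W (x - y) = secMap φ W x - secMap φ W y :=
  map_sub (φ.val.app (op W)).hom x y

theorem secMap_res {M N : ModEt X} (φ : M ⟶ N) {W W' : EtOver X} (g : W' ⟶ W)
    (x : M.val.obj (op W)) : res N g (secMap φ W x) = secMap φ W' (res M g x) :=
  (PresheafOfModules.naturality_apply φ.val g.op x).symm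

theorem hom_ext_secMap {M N : ModEt X} {φ ψ : M ⟶ N}
    (h : ∀ (W : EtOver X) (x : M.val.obj (op W)), secMap φ W x = secMap ψ W x) : φ = ψ := by
  apply SheafOfModules.hom_ext
  apply PresheafOfModules.hom_ext
  intro W
  ext x
  exact h W.unop x

theorem ext_two_mod (M : ModEt X) {Y A₁ A₂ : EtOver X} (p₁ : A₁ ⟶ Y) (p₂ : A₂ ⟶ Y)
    (hcov : twoSieve p₁ p₂ ∈ etTop X Y) {x y : M.val.obj (op Y)}
    (h₁ : res M p₁ x = res M p₁ y) (h₂ : res M p₂ x = res M p₂ y) : x = y :=
  ext_two (P := Psh M) (psh_isSheaf M) p₁ p₂ hcov h₁ h₂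

/-! ### Sections of the unit and of the restriction maps -/

theorem secMap_unit (U : EtOver X) (F : ModEt X) (W : EtOver X) (x : F.val.obj (op W)) :
    secMap ((resPushAdjEt U).unit.app F) W x = res F (prod.snd : U ⨯ W ⟶ W) x := by
  have h : secMap ((resPushAdjEt U).unit.app F) W x =
      res F ((Over.forgetAdjStar U).counit.app W) x := rfl
  rw [h, Over.forgetAdjStar_counit_app]

theorem secMap_pushRes {U' U : EtOver X} (g : U' ⟶ U) (F : ModEt X) (W : EtOver X)
    (x : ((resModEt U ⋙ pushOnModEt U).obj F).val.obj (op W)) :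
    secMap ((pushResNatTrans g).app F) W x = res F (prod.map g (𝟙 W)) x := rfl

/-! ### Pullback squares of modules from sections -/

theorem isPullback_of_sections {M₁ M₂ M₃ M₄ : ModEt X} (f₁ : M₁ ⟶ M₂) (f₂ : M₁ ⟶ M₃)
    (f₃ : M₂ ⟶ M₄) (f₄ : M₃ ⟶ M₄) (w : f₁ ≫ f₃ = f₂ ≫ f₄)
    (hinj : ∀ (W : EtOver X) (x y : M₁.val.obj (op W)),
      secMap f₁ W x = secMap f₁ W y → secMap f₂ W x = secMap f₂ W y → x = y)
    (hex : ∀ (W : EtOver X) (a : M₂.val.obj (op W)) (b : M₃.val.obj (op W)),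
      secMap f₃ W a = secMap f₄ W b → ∃ x, secMap f₁ W x = a ∧ secMap f₂ W x = b) :
    IsPullback f₁ f₂ f₃ f₄ := by
  refine IsPullback.of_map (toAbEt X) w ?_
  have w' : (toAbEt X).map f₁ ≫ (toAbEt X).map f₃ = (toAbEt X).map f₂ ≫ (toAbEt X).map f₄ := by
    rw [← Functor.map_comp, ← Functor.map_comp, w]
  refine IsPullback.of_map (sheafToPresheaf (etTop X) AddCommGrpCat.{u + 1}) w' ?_
  refine IsPullback.of_forall_isPullback_app fun W => ?_
  have w'' : ((sheafToPresheaf (etTop X) AddCommGrpCat.{u + 1}).map ((toAbEt X).map f₁)).app W ≫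
      ((sheafToPresheaf (etTop X) AddCommGrpCat.{u + 1}).map ((toAbEt X).map f₃)).app W =
      ((sheafToPresheaf (etTop X) AddCommGrpCat.{u + 1}).map ((toAbEt X).map f₂)).app W ≫
      ((sheafToPresheaf (etTop X) AddCommGrpCat.{u + 1}).map ((toAbEt X).map f₄)).app W := by
    exact congrArg (fun k => ((sheafToPresheaf (etTop X) AddCommGrpCat.{u + 1}).map k).app W) w'
  refine IsPullback.of_map (forget AddCommGrpCat.{u + 1}) w'' ?_
  rw [Types.isPullback_iff]
  refine ⟨?_, ?_, ?_⟩
  · rw [← Functor.map_comp, ← Functor.map_comp, w'']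
  · rintro x y ⟨h1, h2⟩
    exact hinj W.unop x y h1 h2
  · intro a b hab
    exact hex W.unop a b hab

/-! ### The main square -/

variable {U V : EtOver X} {T : Sp S} {i : T ⟶ X} {s : T ⟶ (yon S).obj V.obj.left}

theorem isPullback_main (hd : IsData U V i s) {UV : EtOver X} (π₁ : UV ⟶ U) (π₂ : UV ⟶ V)
    (hUV : IsLimit (BinaryFan.mk π₁ π₂)) (F : ModEt X) :
    IsPullback ((resPushAdjEt U).unit.app F) ((resPushAdjEt V).unit.app F)
      ((pushResNatTrans π₁).app F) ((pushResNatTrans π₂).app F) := by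
  have hU : ∀ {Z : EtOver X} (a b : Z ⟶ U), a = b := fun a b => hd.subterminal a b
  apply isPullback_of_sections
  · apply hom_ext_secMap
    intro W x
    have e : prod.map π₁ (𝟙 W) ≫ (prod.snd : U ⨯ W ⟶ W) =
        prod.map π₂ (𝟙 W) ≫ (prod.snd : V ⨯ W ⟶ W) := by simp
    rw [secMap_comp, secMap_comp, secMap_unit, secMap_unit, secMap_pushRes, secMap_pushRes,
      ← res_comp, ← res_comp, e]
  · intro W x y h1 h2
    rw [secMap_unit, secMap_unit] at h1 h2
    exact ext_two_mod F _ _ (twoSieve_snd_mem hd W) h1 h2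
  · intro W a b hab
    rw [secMap_pushRes, secMap_pushRes] at hab
    obtain ⟨x, hx1, hx2⟩ := glue_fst (P := Psh F) hUV (psh_isSheaf F) hU W
      (twoSieve_snd_mem hd W) (fun q q' => eqSieve_mem hd q q') a b hab
    refine ⟨x, ?_, ?_⟩
    · rw [secMap_unit]
      exact hx1
    · rw [secMap_unit]
      exact hx2

theorem exists_eq_res_of_hom_U (hd : IsData U V i s) {UV : EtOver X} (π₁ : UV ⟶ U)
    (π₂ : UV ⟶ V) (hUV : IsLimit (BinaryFan.mk π₁ π₂)) (F : ModEt X) {W : EtOver X}
    (u : W ⟶ U) (z : F.val.obj (op (UV ⨯ W))) :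
    ∃ b : F.val.obj (op (V ⨯ W)), z = res F (prod.map π₂ (𝟙 W)) b := by
  have hU : ∀ {Z : EtOver X} (a b : Z ⟶ U), a = b := fun a b => hd.subterminal a b
  refine ⟨res F (sigma hUV u) z, ?_⟩
  rw [← res_comp, map_sigma hUV hU u, res_id]

theorem exists_eq_res_of_hom_V (hd : IsData U V i s) {UV : EtOver X} (π₁ : UV ⟶ U)
    (π₂ : UV ⟶ V) (hUV : IsLimit (BinaryFan.mk π₁ π₂)) (F : ModEt X) {W : EtOver X}
    (v : W ⟶ V) (z : F.val.obj (op (UV ⨯ W))) :
    ∃ (a : F.val.obj (op (U ⨯ W))) (b : F.val.obj (op (V ⨯ W))),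
      z = res F (prod.map π₁ (𝟙 W)) a - res F (prod.map π₂ (𝟙 W)) b := by
  have hU : ∀ {Z : EtOver X} (a b : Z ⟶ U), a = b := fun a b => hd.subterminal a b
  have hy : res F (delta hUV v) (res F (prod.map π₁ (𝟙 W)) (res F (delta hUV v) z) - z) =
      res F (prod.snd : U ⨯ W ⟶ W) (0 : F.val.obj (op W)) := by
    rw [res_sub, ← res_comp, delta_map, res_id, res_zero, sub_self]
  obtain ⟨b, hb⟩ := glue_snd (P := Psh F) hUV (psh_isSheaf F) hU v
    (eqSieve_mem hd _ _) (res F (prod.map π₁ (𝟙 W)) (res F (delta hUV v) z) - z)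
    (0 : F.val.obj (op W)) hy
  refine ⟨res F (delta hUV v) z, b, ?_⟩
  have hb' : res F (prod.map π₂ (𝟙 W)) b =
      res F (prod.map π₁ (𝟙 W)) (res F (delta hUV v) z) - z := hb
  rw [hb', sub_sub_cancel]

theorem epi_main (hd : IsData U V i s) {UV : EtOver X} (π₁ : UV ⟶ U) (π₂ : UV ⟶ V)
    (hUV : IsLimit (BinaryFan.mk π₁ π₂)) (F : ModEt X) :
    Epi (biprod.desc ((pushResNatTrans π₁).app F) (-((pushResNatTrans π₂).app F))) := by
  rw [Preadditive.epi_iff_cancel_zero]
  intro Q t ht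
  have h₁ : (pushResNatTrans π₁).app F ≫ t = 0 := by
    have := congrArg (fun k => biprod.inl ≫ k) ht
    simpa using this
  have h₂ : (pushResNatTrans π₂).app F ≫ t = 0 := by
    have := congrArg (fun k => biprod.inr ≫ k) ht
    simpa using this
  have key : ∀ (W : EtOver X), (Nonempty (W ⟶ U) ∨ Nonempty (W ⟶ V)) →
      ∀ z : ((resModEt UV ⋙ pushOnModEt UV).obj F).val.obj (op W), secMap t W z = 0 := by
    rintro W (⟨⟨u⟩⟩ | ⟨⟨v⟩⟩) z
    · obtain ⟨b, hb⟩ := exists_eq_res_of_hom_U hd π₁ π₂ hUV F u z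
      have e : z = secMap ((pushResNatTrans π₂).app F) W b := hb
      rw [e, ← secMap_comp, h₂, secMap_zero]
    · obtain ⟨a, b, hab⟩ := exists_eq_res_of_hom_V hd π₁ π₂ hUV F v z
      have e : z = secMap ((pushResNatTrans π₁).app F) W a -
          secMap ((pushResNatTrans π₂).app F) W b := hab
      rw [e, secMap_sub, ← secMap_comp, ← secMap_comp, h₁, h₂, secMap_zero, secMap_zero,
        sub_zero]
  apply hom_ext_secMap
  intro W z
  rw [secMap_zero]
  refine ext_two_mod Q (prod.snd : U ⨯ W ⟶ W) (prod.snd : V ⨯ W ⟶ W) (twoSieve_snd_mem hd W)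
    ?_ ?_
  · rw [secMap_res, res_zero]
    exact key _ (Or.inl ⟨prod.fst⟩) _
  · rw [secMap_res, res_zero]
    exact key _ (Or.inr ⟨prod.fst⟩) _

theorem main {U V : EtOver X} (hsq : IsElemDistSq U.obj.hom V.obj.hom) (F : ModEt X) :
    ∃ h : biprod.lift ((resPushAdjEt U).unit.app F) ((resPushAdjEt V).unit.app F) ≫
        biprod.desc ((pushResNatTrans (EtOver.prodFst U V)).app F)
          (-((pushResNatTrans (EtOver.prodSnd U V)).app F)) = 0,
      (ShortComplex.mk _ _ h).ShortExact := by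
  obtain ⟨T, i, s, hd⟩ := exists_isData hsq
  have hP := isPullback_main hd (EtOver.prodFst U V) (EtOver.prodSnd U V)
    (EtOver.prodIsLimit U V) F
  have hE := epi_main hd (EtOver.prodFst U V) (EtOver.prodSnd U V) (EtOver.prodIsLimit U V) F
  refine ⟨hP.shortComplex'.zero, ?_⟩
  exact ShortComplex.ShortExact.mk' hP.exact_shortComplex' hP.mono_shortComplex'_f hE

end

end Groth.Agent.Helper2.ElemDistMV
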