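import Mathlib
import Groth.Prelude.Def_W4SpPerfMV
import Groth.Prelude.Def_AlgSpSub
import Groth.Agent.Lib.Helper2.Cat.MVDual
import Groth.Agent.Lib.Helper2.AlgSp.ElemDistMV

/-!
# Mayer–Vietoris for an elementary distinguished square: `j_!` version (helper2)
-/

set_option autoImplicit false
set_option backward.isDefEq.respectTransparency false
set_option maxHeartbeats 4000000
set_option synthInstance.maxHeartbeats 400000
set_option linter.style.haveILetI false
set_option linter.unusedSectionVars false
set_option linter.unusedVariables false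
set_option linter.unusedSimpArgs false
set_option linter.unnecessarySimpa false

universe u
open CategoryTheory CategoryTheory.Limits AlgebraicGeometry Opposite AlgSp

namespace Groth.Agent.Helper2.ElemDistMV

open Groth.Agent.Helper2.ElemDist Groth.Agent.Helper2.MVDual

variable {S : Scheme.{u}} {X : Sp S}

theorem main_shriek {U V : EtOver X} (hsq : IsElemDistSq U.obj.hom V.obj.hom)
    [(resModEt U).IsRightAdjoint] [(resModEt V).IsRightAdjoint]
    [(resModEt (EtOver.prodObj U V)).IsRightAdjoint] (F : ModEt X) :
    ∃ h : biprod.lift ((shriekResNatTrans (EtOver.prodFst U V)).app F)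
          (-((shriekResNatTrans (EtOver.prodSnd U V)).app F)) ≫
        biprod.desc ((Adjunction.ofIsRightAdjoint (resModEt U)).counit.app F)
          ((Adjunction.ofIsRightAdjoint (resModEt V)).counit.app F) = 0,
      (ShortComplex.mk _ _ h).ShortExact := by
  obtain ⟨T, i, s, hd⟩ := exists_isData hsq
  exact MVDual.main (shriekResAdj U) (shriekResAdj V) (shriekResAdj (EtOver.prodObj U V))
    (pushResNatTrans (EtOver.prodFst U V)) (pushResNatTrans (EtOver.prodSnd U V))
    (resPushAdjEt U).unit (resPushAdjEt V).unit
    (Adjunction.ofIsRightAdjoint (resModEt U)).counit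
    (Adjunction.ofIsRightAdjoint (resModEt V)).counit
    (fun φ => homEquiv_comp_counit (resPushAdjEt U) (Adjunction.ofIsRightAdjoint (resModEt U)) φ)
    (fun φ => homEquiv_comp_counit (resPushAdjEt V) (Adjunction.ofIsRightAdjoint (resModEt V)) φ)
    (fun Q => isPullback_main hd _ _ (EtOver.prodIsLimit U V) Q)
    (fun Q => epi_main hd _ _ (EtOver.prodIsLimit U V) Q)
    (fun G => ⟨(pushOnModEt U).map ((resPushAdjEt U).counit.app ((resModEt U).obj G)),
      (resPushAdjEt U).right_triangle_components _⟩)
    (fun G => ⟨(pushOnModEt V).map ((resPushAdjEt V).counit.app ((resModEt V).obj G)),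
      (resPushAdjEt V).right_triangle_components _⟩) F

end Groth.Agent.Helper2.ElemDistMV
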