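import Groth.Prelude.Def_AlgSpSub
import Groth.Agent.Lib.Helper2.AlgSp.SchImageFlat2

set_option autoImplicit false
set_option backward.isDefEq.respectTransparency false
set_option linter.style.haveILetI false
universe u
open CategoryTheory CategoryTheory.Limits AlgebraicGeometry Opposite AlgSp

namespace Groth.Agent.Helper2.ImmFactor
open Groth.Agent.Helper2.AlgSpBasic Groth.Agent.Helper2.CartierPull
  Groth.Agent.Helper2.CartierDescent Groth.Agent.Helper2.CartierSum Groth.Agent.Helper2.CutOut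
  Groth.Agent.Helper2.ChartIdeal Groth.Agent.Helper2.KerFlat Groth.Agent.Helper2.SchImage
  Groth.Agent.Helper2.KerIdeal Groth.Agent.Helper2.SchImageFlat

variable {S : Scheme.{u}}

/-- The scheme theoretic image, in the sense of sheaves, of a morphism of schemes into a closed
subscheme is cut out by the kernel of the morphism. -/
theorem ker_eq_of_isSchImage_yon {Q W : Over S} (s : Q ⟶ W) (J : W.left.IdealSheafData)
    (h : IsSchImage ((yon S).map s) ((yon S).map
      (Over.homMk J.subschemeι rfl : Over.mk (J.subschemeι ≫ W.hom) ⟶ W))) :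
    J = s.left.ker := by
  obtain ⟨-, ⟨f', hf'⟩, hmin⟩ := h
  apply le_antisymm
  · obtain ⟨lam, rfl⟩ := (yon S).map_surjective f'
    have h1 : lam ≫ (Over.homMk J.subschemeι rfl : Over.mk (J.subschemeι ≫ W.hom) ⟶ W) = s :=
      (yon S).map_injective (by rw [Functor.map_comp]; exact hf')
    have h2 : lam.left ≫ J.subschemeι = s.left := congrArg (fun m => m.left) h1
    rw [← h2]
    conv_lhs => rw [← J.ker_subschemeι]
    exact Scheme.Hom.le_ker_comp _ _
  · let ιK : Over.mk (s.left.ker.subschemeι ≫ W.hom) ⟶ W := Over.homMk s.left.ker.subschemeι rfl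
    let tI : Q ⟶ Over.mk (s.left.ker.subschemeι ≫ W.hom) := Over.homMk s.left.toImage (by
      show s.left.toImage ≫ s.left.ker.subschemeι ≫ W.hom = Q.hom
      rw [← Category.assoc]
      have : s.left.toImage ≫ s.left.ker.subschemeι = s.left := s.left.toImage_imageι
      rw [this]
      exact Over.w s)
    have htI : tI ≫ ιK = s := by
      apply Over.OverMorphism.ext
      exact s.left.toImage_imageι
    obtain ⟨k, hk⟩ := hmin ((yon S).map ιK) (IsAlgSpace.yon_obj _)
      ((repWith_yon_map_iff @IsClosedImmersion ιK).mpr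
        (inferInstanceAs (IsClosedImmersion s.left.ker.subschemeι)))
      ⟨(yon S).map tI, by rw [← Functor.map_comp, htI]⟩
    obtain ⟨κ, rfl⟩ := (yon S).map_surjective k
    have h1 : κ ≫ ιK = (Over.homMk J.subschemeι rfl : Over.mk (J.subschemeι ≫ W.hom) ⟶ W) :=
      (yon S).map_injective (by rw [Functor.map_comp]; exact hk)
    have h2 : κ.left ≫ s.left.ker.subschemeι = J.subschemeι := congrArg (fun m => m.left) h1
    conv_rhs => rw [← J.ker_subschemeι, ← h2]
    conv_lhs => rw [← s.left.ker.ker_subschemeι]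
    exact Scheme.Hom.le_ker_comp _ _


/-- A quasi-compact immersion is an open immersion into its scheme theoretic image. -/
theorem isOpenImmersion_into_schImage {Z X Zbar : Sp S} (hZ : IsAlgSpace Z) (hX : IsAlgSpace X)
    (hZbar : IsAlgSpace Zbar) (i : Z ⟶ X) (hi : RepWith @IsImmersion i)
    (hq : IsQuasiCompactMor i) (c : Zbar ⟶ X) (hc : IsSchImage i c) (j : Z ⟶ Zbar)
    (fac : j ≫ c = i) : RepWith @IsOpenImmersion j := by
  obtain ⟨W, φ, hφe, hφs⟩ := hX.atlas
  have hcc : RepWith @IsClosedImmersion c := hc.1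
  obtain ⟨J, fJ, sqJ⟩ := exists_ideal_sq c hcc φ
  have hrep := hi.rep
  have sqZ := hrep.isPullback φ
  have w : (hrep.fst φ ≫ j) ≫ c = (yon S).map (hrep.snd φ) ≫ φ := by
    rw [Category.assoc, fac]
    exact sqZ.w
  have hl1 : sqJ.lift _ _ w ≫ fJ = hrep.fst φ ≫ j := sqJ.lift_fst _ _ w
  have hl2 : sqJ.lift _ _ w ≫ (yon S).map
      (Over.homMk J.subschemeι rfl : Over.mk (J.subschemeι ≫ W.hom) ⟶ W) =
      (yon S).map (hrep.snd φ) := sqJ.lift_snd _ _ w
  have sqL : IsPullback (hrep.fst φ) (sqJ.lift _ _ w) j fJ := by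
    refine IsPullback.of_bot ?_ hl1.symm sqJ
    rw [hl2, fac]
    exact sqZ
  have hφet : IsEtaleMor φ := fun U ψ hψ => repWith_comp @Etale hψ hφe
  have hsch : IsSchImage ((yon S).map (hrep.snd φ)) ((yon S).map
      (Over.homMk J.subschemeι rfl : Over.mk (J.subschemeι ≫ W.hom) ⟶ W)) :=
    isSchImage_of_hasFlatCharts (IsAlgSpace.yon_obj _) hX hZ hZbar (IsAlgSpace.yon_obj _)
      (IsAlgSpace.yon_obj _) φ (hasFlatCharts_of_isEtaleMor (IsAlgSpace.yon_obj _) φ hφet)
      i hq c hc (hrep.fst φ) _ sqZ fJ _ sqJ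
  have hJ : J = (hrep.snd φ).left.ker := ker_eq_of_isSchImage_yon (hrep.snd φ) J hsch
  obtain ⟨lam, hlam⟩ := (yon S).map_surjective (sqJ.lift _ _ w)
  have h1 : lam ≫ (Over.homMk J.subschemeι rfl : Over.mk (J.subschemeι ≫ W.hom) ⟶ W) =
      hrep.snd φ :=
    (yon S).map_injective (by rw [Functor.map_comp, hlam]; exact hl2)
  have h2 : lam.left ≫ J.subschemeι = (hrep.snd φ).left := congrArg (fun m => m.left) h1
  haveI : IsImmersion (hrep.snd φ).left := hi.property_snd φ
  haveI : QuasiCompact (hrep.snd φ).left :=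
    (repWith_quasiCompact_of_isQuasiCompactMor i hrep hq).property_snd φ
  have hopen : IsOpenImmersion lam.left := by
    subst hJ
    have h3 : lam.left = (hrep.snd φ).left.toImage := by
      rw [← cancel_mono (hrep.snd φ).left.ker.subschemeι, h2]
      exact ((hrep.snd φ).left.toImage_imageι).symm
    rw [h3]
    infer_instance
  have hfJe : RepWith @Etale fJ := repWith_of_isPullback @Etale sqJ.flip hφe
  have hfJs : RepWith @Surjective fJ := repWith_of_isPullback @Surjective sqJ.flip hφs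
  rw [← hlam] at sqL
  exact Groth.Agent.Helper2.ImmDescent.repWith_isOpenImmersion_of_etale_cover hZ hZbar j _ fJ
    hfJe hfJs _ _ sqL ((repWith_yon_map_iff @IsOpenImmersion lam).mpr hopen)

/-- S9935. -/
theorem main35 {Z X : Sp S} (hZ : IsAlgSpace Z) (hX : IsAlgSpace X) (i : Z ⟶ X)
    (hi : RepWith @IsImmersion i) (hq : IsQuasiCompactMor i) :
    ∃ (Zbar : Sp S) (_ : IsAlgSpace Zbar) (j : Z ⟶ Zbar) (c : Zbar ⟶ X), j ≫ c = i ∧
      RepWith @IsOpenImmersion j ∧ RepWith @IsClosedImmersion c := by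
  obtain ⟨Zbar, hZbar, c, hc⟩ := main64 hZ hX i
  obtain ⟨j, hj⟩ := hc.2.1
  exact ⟨Zbar, hZbar, j, c, hj,
    isOpenImmersion_into_schImage hZ hX hZbar i hi hq c hc j hj, hc.1⟩

end Groth.Agent.Helper2.ImmFactor
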