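import Mathlib
import Groth.Prelude.Def_AlgSp4
import Groth.Prelude.Def_AlgSpDec
import Groth.Agent.Lib.Helper2.AlgSp.FibreSpec
import Groth.Agent.Lib.Helper2.AlgSp.OpenSub
import Groth.Agent.Lib.Helper2.Sch.ClosedPointImm

/-!
# The fibre of a morphism over a quasi-compact monomorphic point embeds topologically (helper2)
-/

set_option autoImplicit false
set_option backward.isDefEq.respectTransparency false

open CategoryTheory CategoryTheory.Limits AlgebraicGeometry Opposite AlgSp

namespace Groth.Agent.Helper2.FibreEmbed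
universe u
variable {S : Scheme.{u}}

/-- Descent of the inducing property along an open cover by a chart. -/
theorem isInducing_of_chart {A B : Sp S} (ι : A ⟶ B) {V' W' : Over S}
    (β : (yon S).obj V' ⟶ B) (α : (yon S).obj W' ⟶ A) (ι' : W' ⟶ V')
    (sq : IsPullback α ((yon S).map ι') ι β) (hβ : IsOpenMap (Points.ofPt β))
    (hα : Function.Surjective (Points.ofPt α)) (hι' : Topology.IsInducing ι'.left) :
    Topology.IsInducing (Points.map ι) := by
  rw [Topology.isInducing_iff]
  apply le_antisymm
  · exact (Points.continuous_map ι).le_induced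
  · intro O hO
    rw [isOpen_induced_iff]
    have hO'' : IsOpen (Points.ofPt α ⁻¹' O) := hO.preimage (Points.continuous_ofPt α)
    obtain ⟨P', hP', hP'O⟩ := (hι'.isOpen_iff).1 hO''
    refine ⟨Points.ofPt β '' P', hβ _ hP', ?_⟩
    ext a
    constructor
    · rintro ⟨v', hv', hv'a⟩
      obtain ⟨p, hp1, hp2⟩ := AlgSpBasic.points_exists_of_isPullback β ι α ((yon S).map ι') sq a
        (Points.ofScheme V' v') (by
          rw [← Points.ofPt_eq_map_ofScheme]; exact hv'a.symm)
      obtain ⟨w, rfl⟩ := (Points.schemeHomeo W').surjective p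
      have h1 : ι'.left w = v' := by
        have := Points.map_yon_map_apply ι' w
        rw [hp2] at this
        exact ((Points.schemeHomeo V').injective this).symm
      have h2 : w ∈ ι'.left ⁻¹' P' := by
        change ι'.left w ∈ P'
        rw [h1]; exact hv'
      rw [hP'O] at h2
      have h3 : Points.ofPt α w = a := by
        rw [Points.ofPt_eq_map_ofScheme]; exact hp1
      rw [← h3]; exact h2
    · intro ha
      obtain ⟨w, rfl⟩ := hα a
      have h2 : w ∈ ι'.left ⁻¹' P' := by rw [hP'O]; exact ha
      refine ⟨ι'.left w, h2, ?_⟩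
      rw [Points.map_ofPt, sq.w, AlgSpBasic.ofPt_yon_map_comp]

/-- `S10390`. -/
theorem main {X Y Xk : Sp S} (hX : IsAlgSpace X) (hY : IsAlgSpace Y) (f : X ⟶ Y)
    (r : FieldPt Y) (hm : Mono r.toHom) (hq : RepWith @QuasiCompact r.toHom)
    (fst : Xk ⟶ X) (snd : Xk ⟶ (yon S).obj r.pt) (hsq : IsPullback fst snd f r.toHom) :
    Topology.IsEmbedding (Points.map fst) ∧
      Set.range (Points.map fst) = Points.map f ⁻¹' {Points.mk r} := by
  have hpt : ∀ z : Points ((yon S).obj r.pt), Points.map r.toHom z = Points.mk r := by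
    intro z
    obtain ⟨t, rfl⟩ := (Points.schemeHomeo r.pt).surjective z
    change Points.map r.toHom (Points.ofScheme r.pt t) = _
    rw [← Points.ofPt_eq_map_ofScheme]
    exact Points.ofPt_toHom r t
  have hsub : ∀ w : Points Xk, Points.map f (Points.map fst w) = Points.mk r := by
    intro w
    rw [← Points.map_comp, hsq.w, Points.map_comp]
    exact hpt _
  have hrange : Set.range (Points.map fst) = Points.map f ⁻¹' {Points.mk r} := by
    ext x
    constructor
    · rintro ⟨w, rfl⟩
      exact hsub w
    · intro hx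
      obtain ⟨w, hw1, -⟩ := AlgSpBasic.points_exists_of_isPullback r.toHom f fst snd hsq x
        (Points.ofScheme r.pt (IsLocalRing.closedPoint r.K : ↥(Spec (CommRingCat.of r.K))))
        (by rw [hpt]; exact hx)
      exact ⟨w, hw1⟩
  refine ⟨⟨?_, ?_⟩, hrange⟩
  swap
  · haveI := hm
    haveI : Mono fst := hsq.mono_fst_of_mono
    exact AlgSpBasic.injective_points_map_of_mono fst
  -- an affine chart of `Y` through the point
  obtain ⟨Y', b, hY', hbe, y', hy'⟩ := FieldFibre.exists_affine_chart_through hY (Points.mk r)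
  haveI : IsAffine Y'.left := hY'
  obtain ⟨F, c, e, sqF⟩ := AlgSpBasic.exists_isPullback_yon hY.diag r.toHom b
  haveI : QuasiCompact e.left := hq.property b ((yon S).map c) e sqF
  haveI : CompactSpace ↥F.left := QuasiCompact.compactSpace_of_compactSpace e.left
  haveI : Etale c.left := hbe.property r.toHom ((yon S).map e) c sqF.flip
  have hFL : EtaleField.IsFieldLike F.left := EtaleField.isFieldLike_of_etale (K := r.K) c.left
  haveI := hFL.discrete
  haveI : Finite ↥F.left := finite_of_compact_of_discrete
  haveI := hm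
  haveI : Mono ((yon S).map e) := sqF.mono_snd_of_mono
  haveI : Mono e := (yon S).mono_of_mono_map inferInstance
  haveI : Mono e.left := inferInstance
  have hfin : ∀ (V : Over S) (b' : (yon S).obj V ⟶ Y), IsAffine V.left → RepWith @Etale b' →
      (Points.ofPt b' ⁻¹' {Points.mk r}).Finite := by
    intro V b' hV hb'
    haveI := hV
    haveI : CompactSpace ↥V.left := inferInstance
    exact (FieldFibre.finite_fibre_of_quasiCompact hY r hm hq b' hb').1
  have hsp : ∀ w w' : ↥F.left, e.left w ⤳ e.left w' → w = w' := by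
    intro w w' hs
    have h1 := FieldFibre.ofPt_snd_of_isPullback r b c e sqF w
    have h2 := FieldFibre.ofPt_snd_of_isPullback r b c e sqF w'
    have h3 := FibreSpec.eq_of_specializes hY (Points.mk r) hfin b hbe (e.left w') (e.left w)
      h2 h1 hs
    exact (e.left.injective h3).symm
  haveI hpre : IsPreimmersion e.left := EtaleField.isPreimmersion_of_mono_fieldLike hFL e.left hsp
  -- charts of `X`
  obtain ⟨V, a, hae, has⟩ := hX.atlas
  obtain ⟨V', p1, g', sqV⟩ := AlgSpBasic.exists_isPullback_yon hY.diag (a ≫ f) b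
  haveI : Etale p1.left := hbe.property (a ≫ f) ((yon S).map g') p1 sqV.flip
  have hβe : RepWith @Etale ((yon S).map p1 ≫ a) :=
    AlgSpBasic.repWith_comp @Etale ((repWith_yon_map_iff @Etale p1).2 inferInstance) hae
  obtain ⟨W', ι', q, sqW⟩ := AlgSpBasic.exists_isPullback_yon (IsAlgSpace.yon_obj (S := S) Y').diag
    ((yon S).map g') ((yon S).map e)
  -- the big pullback square
  have sqBig : IsPullback ((yon S).map ι') ((yon S).map q ≫ (yon S).map c)
      (((yon S).map p1 ≫ a) ≫ f) r.toHom := by
    have h1 := sqW.paste_vert sqF.flip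
    have h2 : (yon S).map g' ≫ b = ((yon S).map p1 ≫ a) ≫ f := by
      rw [Category.assoc]; exact sqV.w.symm
    rw [h2] at h1
    exact h1
  let α : (yon S).obj W' ⟶ Xk := hsq.lift ((yon S).map ι' ≫ (yon S).map p1 ≫ a)
    ((yon S).map q ≫ (yon S).map c) (by
      have := sqBig.w
      simp only [Category.assoc] at this ⊢
      exact this)
  have hα1 : α ≫ fst = (yon S).map ι' ≫ (yon S).map p1 ≫ a := hsq.lift_fst _ _ _
  have hα2 : α ≫ snd = (yon S).map q ≫ (yon S).map c := hsq.lift_snd _ _ _
  have sqA : IsPullback α ((yon S).map ι') fst ((yon S).map p1 ≫ a) := by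
    refine IsPullback.of_right ?_ hα1 hsq.flip
    rw [hα2]
    exact sqBig.flip
  -- surjectivity of the chart of the fibre
  have hαs : Function.Surjective (Points.ofPt α) := by
    intro w
    obtain ⟨v, hv⟩ := AlgSpBasic.surjective_ofPt a has (Points.map fst w)
    have h1 : Points.ofPt (a ≫ f) v = Points.ofPt b y' := by
      rw [← Points.map_ofPt, hv, hsub, hy']
    obtain ⟨v', hv'1, -⟩ := AlgSpBasic.exists_point_of_isPullback_yon (a ≫ f) b p1 g' sqV v y' h1
    obtain ⟨p, hp1, hp2⟩ := AlgSpBasic.points_exists_of_isPullback ((yon S).map p1 ≫ a) fst α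
      ((yon S).map ι') sqA w (Points.ofScheme V' v') (by
        rw [← Points.ofPt_eq_map_ofScheme, AlgSpBasic.ofPt_yon_map_comp, hv'1, hv])
    obtain ⟨w', rfl⟩ := (Points.schemeHomeo W').surjective p
    refine ⟨w', ?_⟩
    rw [Points.ofPt_eq_map_ofScheme]
    exact hp1
  -- the chart map is an embedding
  have hι' : Topology.IsInducing ι'.left := by
    have sqW' : IsPullback ι' q g' e := IsPullback.of_map (yon S) ((yon S).map_injective (by
      rw [Functor.map_comp, Functor.map_comp]; exact sqW.w)) sqW
    have sqW'' := sqW'.map (Over.forget S)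
    haveI : IsPreimmersion ι'.left :=
      MorphismProperty.of_isPullback (P := @IsPreimmersion) sqW''.flip hpre
    exact ι'.left.isEmbedding.isInducing
  exact isInducing_of_chart fst ((yon S).map p1 ≫ a) α ι' sqA
    (AlgSpBasic.isOpenMap_ofPt _ hβe) hαs hι'

end Groth.Agent.Helper2.FibreEmbed
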