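import Mathlib
import Groth.Prelude.Def_AlgSp4
import Groth.Prelude.Def_AlgSpDec
import Groth.Agent.Lib.Helper2.AlgSp.FibreEmbed
import Groth.Agent.Lib.Helper2.AlgSp.EpiPullback

/-!
# A reduced space mapping to a quasi-compact monomorphic point factors through it (helper2)
-/

set_option autoImplicit false
set_option backward.isDefEq.respectTransparency false

open CategoryTheory CategoryTheory.Limits AlgebraicGeometry Opposite AlgSp

namespace Groth.Agent.Helper2.ReducedFactor
universe u
variable {S : Scheme.{u}}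

/-- Descent of a factorization through a monomorphism along an epimorphism of sheaves. -/
theorem exists_factor_of_epi {A Y K X : Sp S} (c : A ⟶ Y) [Epi c] (m : K ⟶ X) [Mono m]
    (f : Y ⟶ X) (h : A ⟶ K) (hh : h ≫ m = c ≫ f) : ∃ g : Y ⟶ K, g ≫ m = f := by
  have w : pullback.snd c c ≫ c = pullback.fst c c ≫ c := pullback.condition.symm
  have wh : pullback.snd c c ≫ h = pullback.fst c c ≫ h := by
    rw [← cancel_mono m, Category.assoc, Category.assoc, hh, ← Category.assoc, ← Category.assoc, w]
  haveI : IsIso (pullback.lift (pullback.fst c c) (pullback.snd c c) w.symm :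
      pullback c c ⟶ pullback c c) := by
    have : pullback.lift (pullback.fst c c) (pullback.snd c c) w.symm = 𝟙 (pullback c c) := by
      apply pullback.hom_ext <;> simp
    rw [this]
    infer_instance
  haveI : IsIso (coequalizer.desc c w) :=
    EpiPullback.isIso_coequalizer_desc (pullback.snd c c) (pullback.fst c c) c w
  refine ⟨inv (coequalizer.desc c w) ≫ coequalizer.desc h wh, ?_⟩
  rw [← cancel_epi c]
  have h1 : coequalizer.π _ _ ≫ coequalizer.desc c w = c := coequalizer.π_desc c w
  have h2 : c ≫ inv (coequalizer.desc c w) = coequalizer.π _ _ := by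
    rw [IsIso.comp_inv_eq, h1]
  rw [← Category.assoc, ← Category.assoc, h2, coequalizer.π_desc, hh]

/-- The fibre of an affine etale chart over a quasi-compact monomorphic point is a
preimmersion. -/
theorem isPreimmersion_fibre {Y : Sp S} (hY : IsAlgSpace Y) (r : FieldPt Y) (hm : Mono r.toHom)
    (hq : RepWith @QuasiCompact r.toHom) {Y' : Over S} [IsAffine Y'.left]
    (b : (yon S).obj Y' ⟶ Y) (hbe : RepWith @Etale b) {F : Over S} (c : F ⟶ r.pt) (e : F ⟶ Y')
    (sqF : IsPullback ((yon S).map c) ((yon S).map e) r.toHom b) : IsPreimmersion e.left := by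
  haveI : QuasiCompact e.left := hq.property b ((yon S).map c) e sqF
  haveI : CompactSpace ↥F.left := QuasiCompact.compactSpace_of_compactSpace e.left
  haveI : Etale c.left := hbe.property r.toHom ((yon S).map e) c sqF.flip
  have hFL : EtaleField.IsFieldLike F.left := EtaleField.isFieldLike_of_etale (K := r.K) c.left
  haveI := hFL.discrete
  haveI : Finite ↥F.left := finite_of_compact_of_discrete
  haveI := hm
  haveI : Mono ((yon S).map e) := sqF.mono_snd_of_mono
  haveI : Mono e := (yon S).mono_of_mono_map inferInstance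
  haveI : Mono e.left := inferInstance
  have hfin : ∀ (V : Over S) (b' : (yon S).obj V ⟶ Y), IsAffine V.left → RepWith @Etale b' →
      (Points.ofPt b' ⁻¹' {Points.mk r}).Finite := by
    intro V b' hV hb'
    haveI := hV
    haveI : CompactSpace ↥V.left := inferInstance
    exact (FieldFibre.finite_fibre_of_quasiCompact hY r hm hq b' hb').1
  have hsp : ∀ w w' : ↥F.left, e.left w ⤳ e.left w' → w = w' := by
    intro w w' hs
    have h1 := FieldFibre.ofPt_snd_of_isPullback r b c e sqF w
    have h2 := FieldFibre.ofPt_snd_of_isPullback r b c e sqF w'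
    have h3 := FibreSpec.eq_of_specializes hY (Points.mk r) hfin b hbe (e.left w') (e.left w)
      h2 h1 hs
    exact (e.left.injective h3).symm
  exact EtaleField.isPreimmersion_of_mono_fieldLike hFL e.left hsp

/-- `S10373`. -/
theorem main {Y X : Sp S} (hY : IsAlgSpace Y) (hX : IsAlgSpace X) (f : Y ⟶ X) (p : FieldPt X)
    (hm : Mono p.toHom) (hq : RepWith @QuasiCompact p.toHom)
    (hYr : EtaleLocally (fun U => IsReduced U) Y)
    (hf : ∀ y : Points Y, Points.map f y = Points.mk p) :
    ∃ g : Y ⟶ (yon S).obj p.pt, g ≫ p.toHom = f := by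
  obtain ⟨V, bY, hbYe, hbYs, hVr⟩ := hYr
  haveI : IsReduced V.left := hVr
  obtain ⟨U, a, hU, hae, u₀, hu₀⟩ := FieldFibre.exists_affine_chart_through hX (Points.mk p)
  haveI : IsAffine U.left := hU
  obtain ⟨F, c, e, sqF⟩ := AlgSpBasic.exists_isPullback_yon hX.diag p.toHom a
  haveI hpre : IsPreimmersion e.left := isPreimmersion_fibre hX p hm hq a hae c e sqF
  obtain ⟨V', π₁, π₂, sqV⟩ := AlgSpBasic.exists_isPullback_yon hX.diag (bY ≫ f) a
  haveI : Etale π₁.left := hae.property (bY ≫ f) ((yon S).map π₂) π₁ sqV.flip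
  haveI : IsReduced V'.left := SchLib.isReduced_of_smooth π₁.left
  have hVpt : ∀ v : ↥V.left, Points.ofPt (bY ≫ f) v = Points.mk p := by
    intro v
    rw [← Points.map_ofPt]
    exact hf _
  haveI : Surjective π₁.left := by
    refine ⟨fun v => ?_⟩
    obtain ⟨v', hv', -⟩ := AlgSpBasic.exists_point_of_isPullback_yon (bY ≫ f) a π₁ π₂ sqV v u₀
      (by rw [hVpt, hu₀])
    exact ⟨v', hv'⟩
  -- the base change of `e` to `V'`
  obtain ⟨E, ε, ρ, sqE⟩ := AlgSpBasic.exists_isPullback_yon
    (IsAlgSpace.yon_obj (S := S) U).diag ((yon S).map π₂) ((yon S).map e)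
  have sqE' : IsPullback ε ρ π₂ e := IsPullback.of_map (yon S) ((yon S).map_injective (by
    rw [Functor.map_comp, Functor.map_comp]; exact sqE.w)) sqE
  have sqE'' := sqE'.map (Over.forget S)
  haveI : IsPreimmersion ε.left :=
    MorphismProperty.of_isPullback (P := @IsPreimmersion) sqE''.flip hpre
  haveI : Surjective ε.left := by
    refine ⟨fun v' => ?_⟩
    have h1 : Points.ofPt a (π₂.left v') = Points.mk p := by
      rw [← AlgSpBasic.ofPt_yon_map_comp, ← sqV.w, AlgSpBasic.ofPt_yon_map_comp]
      exact hVpt _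
    obtain ⟨w, hw⟩ := FieldFibre.exists_of_ofPt_eq p a c e sqF (π₂.left v') h1
    obtain ⟨z, hz, -⟩ := AlgSpBasic.exists_point_of_isPullback_yon ((yon S).map π₂)
      ((yon S).map e) ε ρ sqE v' w (by
        rw [← Category.comp_id ((yon S).map π₂), ← Category.comp_id ((yon S).map e),
          AlgSpBasic.ofPt_yon_map_comp, AlgSpBasic.ofPt_yon_map_comp, hw])
    exact ⟨z, hz⟩
  haveI : IsClosedImmersion ε.left := by
    refine IsClosedImmersion.of_isPreimmersion ε.left ?_
    rw [Set.range_eq_univ.2 ε.left.surjective]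
    exact isClosed_univ
  haveI : IsIso ε.left := isIso_of_isClosedImmersion_of_surjective ε.left
  haveI : IsIso ε := by
    haveI : IsIso ((Over.forget S).map ε) := ‹IsIso ε.left›
    exact isIso_of_reflects_iso ε (Over.forget S)
  -- the factorization on the cover
  let lam : V' ⟶ F := inv ε ≫ ρ
  have hlam : lam ≫ e = π₂ := by
    simp only [lam, Category.assoc]
    rw [← sqE'.w, IsIso.inv_hom_id_assoc]
  have hbYflat : RepWith @Flat ((yon S).map π₁ ≫ bY) ∧
      RepWith @LocallyOfFinitePresentation ((yon S).map π₁ ≫ bY) ∧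
      RepWith @Surjective ((yon S).map π₁ ≫ bY) := by
    have h1 : RepWith @Etale ((yon S).map π₁ ≫ bY) :=
      AlgSpBasic.repWith_comp @Etale ((repWith_yon_map_iff @Etale π₁).2 inferInstance) hbYe
    refine ⟨AlgSpBasic.repWith_flat_of_etale h1, ?_, ?_⟩
    · exact AlgSpBasic.repWith_mono (fun _ _ g (hg : Etale g) =>
        (inferInstance : LocallyOfFinitePresentation g)) h1
    · exact AlgSpBasic.repWith_comp @Surjective
        ((repWith_yon_map_iff @Surjective π₁).2 inferInstance) hbYs
  haveI : Sheaf.IsLocallySurjective ((yon S).map π₁ ≫ bY) :=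
    AlgSpBasic.isLocallySurjective_of_fppf _ hbYflat.1 hbYflat.2.1 hbYflat.2.2
  haveI : Epi ((yon S).map π₁ ≫ bY) := inferInstance
  haveI := hm
  refine exists_factor_of_epi ((yon S).map π₁ ≫ bY) p.toHom f ((yon S).map lam ≫ (yon S).map c) ?_
  rw [Category.assoc, sqF.w, ← Category.assoc, ← Functor.map_comp, hlam, Category.assoc]
  exact sqV.w.symm

/-- `S10193`, the nontrivial direction. -/
theorem exists_factor_closed {X Y Z : Sp S} (i : Z ⟶ X) (hi : RepWith @IsClosedImmersion i)
    (hYr : EtaleLocally (fun U => IsReduced U) Y) (f : Y ⟶ X)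
    (h : Set.range (Points.map f) ⊆ Set.range (Points.map i)) : ∃ g : Y ⟶ Z, g ≫ i = f := by
  obtain ⟨V, bY, hbYe, hbYs, hVr⟩ := hYr
  haveI : IsReduced V.left := hVr
  have hrep := hi.rep
  have sq := hrep.isPullback (bY ≫ f)
  haveI : IsClosedImmersion (hrep.snd (bY ≫ f)).left := hi.property (bY ≫ f) _ _ sq
  haveI : Surjective (hrep.snd (bY ≫ f)).left := by
    refine ⟨fun v => ?_⟩
    obtain ⟨z, hz⟩ := h ⟨Points.ofPt bY v, rfl⟩
    obtain ⟨q, -, hq2⟩ := AlgSpBasic.points_exists_of_isPullback (bY ≫ f) i (hrep.fst (bY ≫ f))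
      ((yon S).map (hrep.snd (bY ≫ f))) sq z (Points.ofScheme V v) (by
        rw [hz, ← Points.ofPt_eq_map_ofScheme, Points.map_ofPt])
    obtain ⟨e, rfl⟩ := (Points.schemeHomeo (hrep.pullback (bY ≫ f))).surjective q
    refine ⟨e, ?_⟩
    have := Points.map_yon_map_apply (hrep.snd (bY ≫ f)) e
    rw [hq2] at this
    exact ((Points.schemeHomeo V).injective this).symm
  haveI : IsIso (hrep.snd (bY ≫ f)).left :=
    isIso_of_isClosedImmersion_of_surjective (hrep.snd (bY ≫ f)).left
  haveI : IsIso (hrep.snd (bY ≫ f)) := by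
    haveI : IsIso ((Over.forget S).map (hrep.snd (bY ≫ f))) := ‹IsIso (hrep.snd (bY ≫ f)).left›
    exact isIso_of_reflects_iso _ (Over.forget S)
  haveI : Mono i := AlgSpBasic.mono_of_repWith_monomorphisms i
    (AlgSpBasic.repWith_mono (fun _ _ g (hg : IsClosedImmersion g) =>
      (inferInstance : Mono g)) hi)
  haveI : Sheaf.IsLocallySurjective bY :=
    AlgSpBasic.isLocallySurjective_of_fppf _ (AlgSpBasic.repWith_flat_of_etale hbYe)
      (AlgSpBasic.repWith_mono (fun _ _ g (hg : Etale g) =>
        (inferInstance : LocallyOfFinitePresentation g)) hbYe) hbYs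
  haveI : Epi bY := inferInstance
  refine exists_factor_of_epi bY i f ((yon S).map (inv (hrep.snd (bY ≫ f))) ≫ hrep.fst (bY ≫ f)) ?_
  rw [Category.assoc, sq.w, ← Category.assoc, ← Functor.map_comp, IsIso.inv_hom_id,
    CategoryTheory.Functor.map_id, Category.id_comp]

end Groth.Agent.Helper2.ReducedFactor
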