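import Groth.Prelude.Def_AlgSpSub
import Groth.Agent.Lib.Helper2.AlgSp.RedInduced
import Groth.Agent.Lib.Helper2.AlgSp.ReducedFactor
import Groth.Agent.Lib.Helper2.AlgSp.Mor2

set_option autoImplicit false
set_option backward.isDefEq.respectTransparency false
set_option linter.style.haveILetI false
universe u
open CategoryTheory CategoryTheory.Limits AlgebraicGeometry Opposite AlgSp TopologicalSpace

namespace Groth.Agent.Helper2.RedInduced
open Groth.Agent.Helper2.AlgSpBasic

variable {S : Scheme.{u}}

/-- S9966. -/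
theorem main66 {X Y Z : Sp S} (hY : IsAlgSpace Y) (f : X ⟶ Y) (i : Z ⟶ Y)
    (hX : IsReducedSp X) (hZ : IsSchImage f i) :
    IsRedInduced (closure (Set.range (Points.map f))) i := by
  obtain ⟨hi, ⟨f', hf'⟩, hmin⟩ := hZ
  obtain ⟨ZT, hZT, iT, hiT, hrT, hredT⟩ :=
    main192 hY (closure (Set.range (Points.map f))) isClosed_closure
  haveI : Mono i := mono_of_repWith_monomorphisms i
    (repWith_mono (fun _ _ g (hg : IsClosedImmersion g) => (inferInstance : Mono g)) hi)
  haveI : Mono iT := mono_of_repWith_monomorphisms iT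
    (repWith_mono (fun _ _ g (hg : IsClosedImmersion g) => (inferInstance : Mono g)) hiT)
  obtain ⟨g, hg⟩ := Groth.Agent.Helper2.ReducedFactor.exists_factor_closed iT hiT hX f (by
    rw [hrT]
    exact subset_closure)
  obtain ⟨k, hk⟩ := hmin iT hZT hiT ⟨g, hg⟩
  have hcl : IsClosed (Set.range (Points.map i)) :=
    (repWith_isClosedImmersion_iff_isClosed_range hY i
      (repWith_mono (fun _ _ g (hg : IsClosedImmersion g) => (inferInstance : IsImmersion g))
        hi)).mp hi
  have hsub : Set.range (Points.map iT) ⊆ Set.range (Points.map i) := by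
    rw [hrT]
    apply closure_minimal _ hcl
    rintro _ ⟨x, rfl⟩
    refine ⟨Points.map f' x, ?_⟩
    rw [← hf', Points.map_comp]
  obtain ⟨k', hk'⟩ := Groth.Agent.Helper2.ReducedFactor.exists_factor_closed i hi hredT iT hsub
  have h1 : k' ≫ k = 𝟙 _ := by
    rw [← cancel_mono iT, Category.assoc, hk, hk', Category.id_comp]
  have h2 : k ≫ k' = 𝟙 _ := by
    rw [← cancel_mono i, Category.assoc, hk', hk, Category.id_comp]
  haveI : IsIso k' := ⟨k, h1, h2⟩
  refine ⟨hi, ?_, ?_⟩
  · apply Set.eq_of_subset_of_subset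
    · rw [← hrT]
      rintro _ ⟨z, rfl⟩
      refine ⟨Points.map k z, ?_⟩
      rw [← hk, Points.map_comp]
    · rw [← hrT]
      exact hsub
  · obtain ⟨U, p, hpe, hps, hU⟩ := hredT
    exact ⟨U, p ≫ k', repWith_comp @Etale hpe (repWith_of_isIso @Etale k'),
      repWith_comp @Surjective hps (repWith_of_isIso @Surjective k'), hU⟩

end Groth.Agent.Helper2.RedInduced
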