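import Groth.Prelude.Def_AlgSpSub
import Groth.Agent.Lib.Helper2.AlgSp.RedInduced2
import Groth.Agent.Lib.Helper2.AlgSp.SchImage
import Groth.Agent.Lib.Helper2.AlgSp.LargestOpen
import Groth.Agent.Lib.Helper2.AlgSp.Reduced

set_option autoImplicit false
set_option backward.isDefEq.respectTransparency false
set_option linter.style.haveILetI false
universe u
open CategoryTheory CategoryTheory.Limits AlgebraicGeometry Opposite AlgSp

namespace Groth.Agent.Helper2.RedInduced
open Groth.Agent.Helper2.AlgSpBasic Groth.Agent.Helper2.SchImage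

variable {S : Scheme.{u}}

/-- The image on points of the base change of a morphism. -/
theorem range_points_map_of_isPullback {X Y V XV : Sp S} (f : X ⟶ Y) (b : V ⟶ Y) (f₁ : XV ⟶ X)
    (fV : XV ⟶ V) (sq : IsPullback f₁ fV f b) :
    Set.range (Points.map fV) = Points.map b ⁻¹' Set.range (Points.map f) := by
  ext v
  constructor
  · rintro ⟨p, rfl⟩
    refine ⟨Points.map f₁ p, ?_⟩
    rw [← Points.map_comp, ← Points.map_comp, sq.w]
  · rintro ⟨x, hx⟩
    obtain ⟨p, -, hp⟩ := points_exists_of_isPullback b f f₁ fV sq x v hx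
    exact ⟨p, hp⟩

/-- Two reduced closed subspaces with the same points: scheme theoretic images transfer. -/
theorem isSchImage_of_range_eq {A V Z Z' : Sp S} (g : A ⟶ V) (i : Z ⟶ V) (i' : Z' ⟶ V)
    (hi : RepWith @IsClosedImmersion i) (hZr : IsReducedSp Z) (hZ'r : IsReducedSp Z')
    (h' : IsSchImage g i') (hr : Set.range (Points.map i) = Set.range (Points.map i')) :
    IsSchImage g i := by
  obtain ⟨hi', ⟨f'', hf''⟩, hmin⟩ := h'
  obtain ⟨k, hk⟩ := Groth.Agent.Helper2.ReducedFactor.exists_factor_closed i' hi' hZr i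
    (le_of_eq hr)
  obtain ⟨k', hk'⟩ := Groth.Agent.Helper2.ReducedFactor.exists_factor_closed i hi hZ'r i'
    (le_of_eq hr.symm)
  refine ⟨hi, ⟨f'' ≫ k', by rw [Category.assoc, hk', hf'']⟩, ?_⟩
  intro Z'' i'' hZ'' hi'' hfac
  obtain ⟨m, hm⟩ := hmin i'' hZ'' hi'' hfac
  exact ⟨k ≫ m, by rw [Category.assoc, hm, hk]⟩

/-- S12193. -/
theorem main193 {X Y Z V XV ZV : Sp S} (hX : IsAlgSpace X) (hY : IsAlgSpace Y)
    (hZ : IsAlgSpace Z) (hV : IsAlgSpace V) (hXV : IsAlgSpace XV) (hZV : IsAlgSpace ZV)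
    (f : X ⟶ Y) (i : Z ⟶ Y) (hXr : IsReducedSp X) (hZi : IsSchImage f i) (b : V ⟶ Y)
    (hb : IsEtaleMor b) (f₁ : XV ⟶ X) (fV : XV ⟶ V) (i₁ : ZV ⟶ Z) (iV : ZV ⟶ V)
    (sqX : IsPullback f₁ fV f b) (sqZ : IsPullback i₁ iV i b) : IsSchImage fV iV := by
  obtain ⟨hi, hrange, hZr⟩ := main66 hY f i hXr hZi
  have hbe : LocP @Etale b := locP_etale_of_isEtaleMor hY.diag b hb
  have hsm : LocP @Smooth b :=
    locP_mono (fun _ _ g (hg : Etale g) => (inferInstance : Smooth g)) hbe
  have hf₁ : LocP @Smooth f₁ := locP_of_isPullback @Smooth hV hY hX hXV b f fV f₁ sqX.flip hsm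
  have hi₁ : LocP @Smooth i₁ := locP_of_isPullback @Smooth hV hY hZ hZV b i iV i₁ sqZ.flip hsm
  have hXVr : IsReducedSp XV := isReducedSp_of_smooth hXV hX f₁ hf₁ hXr
  have hZVr : IsReducedSp ZV := isReducedSp_of_smooth hZV hZ i₁ hi₁ hZr
  have hiV : RepWith @IsClosedImmersion iV := repWith_of_isPullback @IsClosedImmersion sqZ hi
  obtain ⟨Z', hZ', i', hZ'i⟩ := main64 hXV hV fV
  obtain ⟨hi', hrange', hZ'r⟩ := main66 hV fV i' hXVr hZ'i
  refine isSchImage_of_range_eq fV iV i' hiV hZVr hZ'r hZ'i ?_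
  rw [hrange', range_points_map_of_isPullback i b i₁ iV sqZ,
    range_points_map_of_isPullback f b f₁ fV sqX, hrange]
  exact (isOpenMap_points_of_isEtaleMor hV b hb).preimage_closure_eq_closure_preimage
    (Points.continuous_map b) _

end Groth.Agent.Helper2.RedInduced
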