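import Groth.Prelude.Def_AlgSpSub
import Groth.Agent.Lib.Helper2.AlgSp.ImmFactor
import Groth.Agent.Lib.Helper2.AlgSp.RedInduced3
import Groth.Agent.Lib.Helper2.AlgSp.ImmTop
import Groth.Agent.Lib.Helper2.AlgSp.Reduced
import Groth.Agent.Lib.Helper2.Sch.ToImageDense

/-!
# An immersion is a dense open immersion into its scheme theoretic image (helper2)
-/

set_option autoImplicit false
set_option backward.isDefEq.respectTransparency false
set_option linter.style.haveILetI false
universe u
open CategoryTheory CategoryTheory.Limits AlgebraicGeometry Opposite AlgSp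

namespace Groth.Agent.Helper2.ImmDense
open Groth.Agent.Helper2.AlgSpBasic Groth.Agent.Helper2.CartierPull
  Groth.Agent.Helper2.CartierDescent Groth.Agent.Helper2.CartierSum Groth.Agent.Helper2.CutOut
  Groth.Agent.Helper2.ChartIdeal Groth.Agent.Helper2.KerFlat Groth.Agent.Helper2.SchImage
  Groth.Agent.Helper2.KerIdeal Groth.Agent.Helper2.SchImageFlat Groth.Agent.Helper2.ImmFactor
  Groth.Agent.Helper2.RedInduced Groth.Agent.Helper2.ToImageDense

variable {S : Scheme.{u}}

/-- Chart data for an immersion into its scheme theoretic image. -/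
theorem chart_data {Z X Zbar : Sp S} (hZ : IsAlgSpace Z) (hX : IsAlgSpace X)
    (hZbar : IsAlgSpace Zbar) (i : Z ⟶ X) (hi : RepWith @IsImmersion i)
    (hq : IsQuasiCompactMor i ∨ IsReducedSp Z) (c : Zbar ⟶ X) (hc : IsSchImage i c) (j : Z ⟶ Zbar)
    (fac : j ≫ c = i) :
    ∃ (V : Over S) (fJ : (yon S).obj V ⟶ Zbar) (Q : Over S) (fst : (yon S).obj Q ⟶ Z)
      (lam : Q ⟶ V), RepWith @Etale fJ ∧ RepWith @Surjective fJ ∧
        IsPullback fst ((yon S).map lam) j fJ ∧ IsOpenImmersion lam.left ∧
          ∀ R : V.left.Opens, Set.range lam.left ⊆ (R : Set V.left) →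
            CInt.IsSchematicallyDense R := by
  obtain ⟨W, φ, hφe, hφs⟩ := hX.atlas
  have hcc : RepWith @IsClosedImmersion c := hc.1
  obtain ⟨J, fJ, sqJ⟩ := exists_ideal_sq c hcc φ
  have hrep := hi.rep
  have sqZ := hrep.isPullback φ
  have w : (hrep.fst φ ≫ j) ≫ c = (yon S).map (hrep.snd φ) ≫ φ := by
    rw [Category.assoc, fac]
    exact sqZ.w
  have hl1 : sqJ.lift _ _ w ≫ fJ = hrep.fst φ ≫ j := sqJ.lift_fst _ _ w
  have hl2 : sqJ.lift _ _ w ≫ (yon S).map
      (Over.homMk J.subschemeι rfl : Over.mk (J.subschemeι ≫ W.hom) ⟶ W) =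
      (yon S).map (hrep.snd φ) := sqJ.lift_snd _ _ w
  have sqL : IsPullback (hrep.fst φ) (sqJ.lift _ _ w) j fJ := by
    refine IsPullback.of_bot ?_ hl1.symm sqJ
    rw [hl2, fac]
    exact sqZ
  have hφet : IsEtaleMor φ := fun U ψ hψ => repWith_comp @Etale hψ hφe
  have hsch : IsSchImage ((yon S).map (hrep.snd φ)) ((yon S).map
      (Over.homMk J.subschemeι rfl : Over.mk (J.subschemeι ≫ W.hom) ⟶ W)) := by
    rcases hq with hq | hq
    · exact isSchImage_of_hasFlatCharts (IsAlgSpace.yon_obj _) hX hZ hZbar (IsAlgSpace.yon_obj _)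
        (IsAlgSpace.yon_obj _) φ (hasFlatCharts_of_isEtaleMor (IsAlgSpace.yon_obj _) φ hφet)
        i hq c hc (hrep.fst φ) _ sqZ fJ _ sqJ
    · exact main193 hZ hX hZbar (IsAlgSpace.yon_obj _) (IsAlgSpace.yon_obj _)
        (IsAlgSpace.yon_obj _) i c hq hc φ hφet (hrep.fst φ) _ fJ _ sqZ sqJ
  have hJ : J = (hrep.snd φ).left.ker := ker_eq_of_isSchImage_yon (hrep.snd φ) J hsch
  obtain ⟨lam, hlam⟩ := (yon S).map_surjective (sqJ.lift _ _ w)
  have h1 : lam ≫ (Over.homMk J.subschemeι rfl : Over.mk (J.subschemeι ≫ W.hom) ⟶ W) =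
      hrep.snd φ :=
    (yon S).map_injective (by rw [Functor.map_comp, hlam]; exact hl2)
  have h2 : lam.left ≫ J.subschemeι = (hrep.snd φ).left := congrArg (fun m => m.left) h1
  haveI : IsImmersion (hrep.snd φ).left := hi.property_snd φ
  have hq' : QuasiCompact (hrep.snd φ).left ∨ IsReduced (hrep.pullback φ).left := by
    rcases hq with hq | hq
    · exact Or.inl ((repWith_quasiCompact_of_isQuasiCompactMor i hrep hq).property_snd φ)
    · exact Or.inr (isReduced_of_etale_of_isReducedSp hq (hrep.fst φ)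
        (repWith_of_isPullback @Etale sqZ.flip hφe))
  have hopen : IsOpenImmersion lam.left ∧
      ∀ R : (Over.mk (J.subschemeι ≫ W.hom)).left.Opens,
        Set.range lam.left ⊆ (R : Set (Over.mk (J.subschemeι ≫ W.hom)).left) →
          CInt.IsSchematicallyDense R := by
    subst hJ
    have h3 : lam.left = (hrep.snd φ).left.toImage := by
      rw [← cancel_mono (hrep.snd φ).left.ker.subschemeι, h2]
      exact ((hrep.snd φ).left.toImage_imageι).symm
    rw [h3]
    exact toImage_props (hrep.snd φ).left hq'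
  have hfJe : RepWith @Etale fJ := repWith_of_isPullback @Etale sqJ.flip hφe
  have hfJs : RepWith @Surjective fJ := repWith_of_isPullback @Surjective sqJ.flip hφs
  rw [← hlam] at sqL
  exact ⟨_, fJ, _, hrep.fst φ, lam, hfJe, hfJs, sqL, hopen.1, hopen.2⟩

/-- S9971. -/
theorem main71 {Z X Zbar : Sp S} (hZ : IsAlgSpace Z) (hX : IsAlgSpace X)
    (hZbar : IsAlgSpace Zbar) (i : Z ⟶ X) (hi : RepWith @IsImmersion i)
    (hq : IsQuasiCompactMor i ∨ IsReducedSp Z) (c : Zbar ⟶ X) (hc : IsSchImage i c) (j : Z ⟶ Zbar)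
    (fac : j ≫ c = i) :
    RepWith @IsOpenImmersion j ∧ IsSchDense j ∧ Dense (Set.range (Points.map j)) := by
  obtain ⟨V, fJ, Q, fst, lam, hfJe, hfJs, sqL, hopen, hdense⟩ :=
    chart_data hZ hX hZbar i hi hq c hc j fac
  have hoi : RepWith @IsOpenImmersion j :=
    Groth.Agent.Helper2.ImmDescent.repWith_isOpenImmersion_of_etale_cover hZ hZbar j _ fJ
      hfJe hfJs _ _ sqL ((repWith_yon_map_iff @IsOpenImmersion lam).mpr hopen)
  refine ⟨hoi, ⟨hoi, ?_⟩, ?_⟩
  · haveI := hopen
    let W : V.left.Opens := lam.left.opensRange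
    have hw : lam.left.isoOpensRange.hom ≫ (W.ι ≫ V.hom) = Q.hom := by
      rw [← Category.assoc, lam.left.isoOpensRange_hom_ι]
      exact Over.w lam
    let e : Q ≅ Over.mk (W.ι ≫ V.hom) := Over.isoMk lam.left.isoOpensRange hw
    have he : e.hom ≫ (Over.homMk W.ι rfl : Over.mk (W.ι ≫ V.hom) ⟶ V) = lam := by
      apply Over.OverMorphism.ext
      exact lam.left.isoOpensRange_hom_ι
    refine ⟨V, fJ, W, (yon S).map e.inv ≫ fst, hfJe, hfJs, ?_,
      hdense W (fun x hx => hx)⟩
    refine sqL.of_iso ((yon S).mapIso e) (Iso.refl _) (Iso.refl _) (Iso.refl _) ?_ ?_ ?_ ?_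
    · simp only [Functor.mapIso_hom, Iso.refl_hom, Category.comp_id]
      rw [← Category.assoc, ← Functor.map_comp, e.hom_inv_id, CategoryTheory.Functor.map_id,
        Category.id_comp]
    · simp only [Functor.mapIso_hom, Iso.refl_hom, Category.comp_id]
      rw [← Functor.map_comp, he]
    · simp
    · simp
  · have hsub : Set.range (Points.map c) ⊆ closure (Set.range (Points.map i)) := by
      rcases hq with hq | hq
      · exact range_subset_closure hZ hX hZbar i hq c hc
      · exact (main66 hX i c hq hc).2.1.le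
    have hci : RepWith @IsImmersion c :=
      repWith_mono (fun _ _ g (hg : IsClosedImmersion g) => (inferInstance : IsImmersion g)) hc.1
    have hemb := (Groth.Agent.Helper2.ImmTop.main hX c hci).1
    rw [dense_iff_closure_eq, hemb.isInducing.closure_eq_preimage_closure_image,
      Set.eq_univ_iff_forall]
    intro z
    have hz : Points.map c z ∈ closure (Set.range (Points.map i)) := hsub ⟨z, rfl⟩
    have himg : Points.map c '' Set.range (Points.map j) = Set.range (Points.map i) := by
      rw [← Set.range_comp, ← fac]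
      congr 1
      funext x
      exact (Points.map_comp j c x).symm
    show Points.map c z ∈ closure (Points.map c '' Set.range (Points.map j))
    rw [himg]
    exact hz

end Groth.Agent.Helper2.ImmDense
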