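import Groth.Prelude.Def_AlgSpSub
import Groth.Agent.Lib.Helper2.AlgSp.ImmDense

/-!
# Scheme theoretic density of a quasi-compact open and its scheme theoretic closure (helper2)
-/

set_option autoImplicit false
set_option backward.isDefEq.respectTransparency false
set_option linter.style.haveILetI false
universe u
open CategoryTheory CategoryTheory.Limits AlgebraicGeometry Opposite AlgSp

namespace Groth.Agent.Helper2.SchDenseImage
open Groth.Agent.Helper2.AlgSpBasic Groth.Agent.Helper2.CartierPull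
  Groth.Agent.Helper2.CartierDescent Groth.Agent.Helper2.CartierSum Groth.Agent.Helper2.CutOut
  Groth.Agent.Helper2.ChartIdeal Groth.Agent.Helper2.KerFlat Groth.Agent.Helper2.SchImage
  Groth.Agent.Helper2.KerIdeal Groth.Agent.Helper2.SchImageFlat Groth.Agent.Helper2.ImmFactor
  Groth.Agent.Helper2.RedInduced Groth.Agent.Helper2.ToImageDense

variable {S : Scheme.{u}}

/-- Build `IsSchDense` from a chart in which the inverse image is an open immersion with
scheme theoretically dense range. -/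
theorem isSchDense_of_chart {G F : Sp S} (j : G ⟶ F) (hj : RepWith @IsOpenImmersion j)
    (V : Over S) (φ : (yon S).obj V ⟶ F) (hφe : RepWith @Etale φ) (hφs : RepWith @Surjective φ)
    (Q : Over S) (fst : (yon S).obj Q ⟶ G) (lam : Q ⟶ V)
    (sq : IsPullback fst ((yon S).map lam) j φ) [IsOpenImmersion lam.left]
    (hd : CInt.IsSchematicallyDense lam.left.opensRange) : IsSchDense j := by
  refine ⟨hj, ?_⟩
  let W : V.left.Opens := lam.left.opensRange
  have hw : lam.left.isoOpensRange.hom ≫ (W.ι ≫ V.hom) = Q.hom := by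
    rw [← Category.assoc, lam.left.isoOpensRange_hom_ι]
    exact Over.w lam
  let e : Q ≅ Over.mk (W.ι ≫ V.hom) := Over.isoMk lam.left.isoOpensRange hw
  have he : e.hom ≫ (Over.homMk W.ι rfl : Over.mk (W.ι ≫ V.hom) ⟶ V) = lam := by
    apply Over.OverMorphism.ext
    exact lam.left.isoOpensRange_hom_ι
  refine ⟨V, φ, W, (yon S).map e.inv ≫ fst, hφe, hφs, ?_, hd⟩
  refine sq.of_iso ((yon S).mapIso e) (Iso.refl _) (Iso.refl _) (Iso.refl _) ?_ ?_ ?_ ?_
  · simp only [Functor.mapIso_hom, Iso.refl_hom, Category.comp_id]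
    rw [← Category.assoc, ← Functor.map_comp, e.hom_inv_id, CategoryTheory.Functor.map_id,
      Category.id_comp]
  · simp only [Functor.mapIso_hom, Iso.refl_hom, Category.comp_id]
    rw [← Functor.map_comp, he]
  · simp
  · simp

/-- The kernel of the inclusion of a scheme theoretically dense open is zero. -/
theorem ker_ι_eq_bot {V : Scheme.{u}} (W : V.Opens) (hW : CInt.IsSchematicallyDense W) :
    W.ι.ker = ⊥ := by
  rw [eq_bot_iff]
  intro U
  rw [Scheme.IdealSheafData.ideal_bot]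
  refine (Scheme.IdealSheafData.ideal_ofIdeals_le _ U).trans ?_
  intro s hs
  rw [RingHom.mem_ker] at hs
  show s = 0
  rw [Scheme.Opens.ι_app] at hs
  apply hW U.1
  rw [map_zero]
  have hle : U.1 ⊓ W ≤ W.ι ''ᵁ W.ι ⁻¹ᵁ U.1 := by
    rintro x ⟨hxU, hxW⟩
    exact ⟨⟨x, hxW⟩, hxU, rfl⟩
  have h3 := congrArg (V.presheaf.map (homOfLE hle).op) hs
  rw [map_zero] at h3
  rw [← h3]
  show _ = (V.presheaf.map _ ≫ V.presheaf.map _) _
  rw [← V.presheaf.map_comp]
  rfl

theorem isSchImage_id_of_isSchDense {U X : Sp S} (j : U ⟶ X) (hd : IsSchDense j) :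
    IsSchImage j (𝟙 X) := by
  obtain ⟨hj, V, φ, W, fst, hφe, hφs, sq, hW⟩ := hd
  refine ⟨repWith_of_isIso @IsClosedImmersion (𝟙 X), ⟨j, Category.comp_id j⟩, ?_⟩
  rintro Z' i' hZ' hi' ⟨f'', hf''⟩
  obtain ⟨I, fI, sqI⟩ := exists_ideal_sq i' hi' φ
  have w : (fst ≫ f'') ≫ i' =
      (yon S).map (Over.homMk W.ι rfl : Over.mk (W.ι ≫ V.hom) ⟶ V) ≫ φ := by
    rw [Category.assoc, hf'']
    exact sq.w
  obtain ⟨lam, hlam⟩ := (yon S).map_surjective (sqI.lift _ _ w)
  have h1 : lam ≫ (Over.homMk I.subschemeι rfl : Over.mk (I.subschemeι ≫ V.hom) ⟶ V) =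
      (Over.homMk W.ι rfl : Over.mk (W.ι ≫ V.hom) ⟶ V) :=
    (yon S).map_injective (by rw [Functor.map_comp, hlam]; exact sqI.lift_snd _ _ w)
  have h2 : lam.left ≫ I.subschemeι = W.ι := congrArg (fun m => m.left) h1
  have hle : I ≤ W.ι.ker := by
    conv_lhs => rw [← I.ker_subschemeι]
    rw [← h2]
    exact Scheme.Hom.le_ker_comp _ _
  have hI : I = ⊥ := by
    rw [eq_bot_iff, ← ker_ι_eq_bot W hW]
    exact hle
  haveI h3 : IsIso I.subschemeι := (Scheme.isIso_subschemeι_iff_eq_bot I).mpr hI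
  haveI h4 : IsIso (Over.homMk I.subschemeι rfl : Over.mk (I.subschemeι ≫ V.hom) ⟶ V) := by
    haveI : IsIso ((Over.forget S).map
        (Over.homMk I.subschemeι rfl : Over.mk (I.subschemeι ≫ V.hom) ⟶ V)) := h3
    exact isIso_of_reflects_iso _ (Over.forget S)
  have hφ : φ = inv ((yon S).map
      (Over.homMk I.subschemeι rfl : Over.mk (I.subschemeι ≫ V.hom) ⟶ V)) ≫ fI ≫ i' := by
    rw [IsIso.eq_inv_comp]
    exact sqI.w.symm
  haveI := isLocallySurjective_of_etale_surjective φ hφe hφs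
  haveI : Epi φ := inferInstance
  haveI : Epi i' := by
    rw [hφ, ← Category.assoc] at this
    exact @epi_of_epi _ _ _ _ _ _ i' this
  haveI : Mono i' := mono_of_repWith_monomorphisms i'
    (repWith_mono (fun _ _ g (hg : IsClosedImmersion g) => (inferInstance : Mono g)) hi')
  haveI : IsIso i' := isIso_of_mono_of_epi i'
  exact ⟨inv i', IsIso.inv_hom_id i'⟩

theorem isSchDense_of_isSchImage_id {U X : Sp S} (hU : IsAlgSpace U) (hX : IsAlgSpace X)
    (j : U ⟶ X) (hj : RepWith @IsOpenImmersion j) (hq : IsQuasiCompactMor j)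
    (h : IsSchImage j (𝟙 X)) : IsSchDense j := by
  obtain ⟨V, φ, hφe, hφs⟩ := hX.atlas
  have hrep := hj.rep
  have sqU := hrep.isPullback φ
  haveI hoi : IsOpenImmersion (hrep.snd φ).left := hj.property_snd φ
  have hφet : IsEtaleMor φ := fun U ψ hψ => repWith_comp @Etale hψ hφe
  have sqid : IsPullback φ (𝟙 ((yon S).obj V)) (𝟙 X) φ := IsPullback.of_vert_isIso ⟨by simp⟩
  have hsch : IsSchImage ((yon S).map (hrep.snd φ)) (𝟙 ((yon S).obj V)) :=
    isSchImage_of_hasFlatCharts (IsAlgSpace.yon_obj _) hX hU hX (IsAlgSpace.yon_obj _)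
      (IsAlgSpace.yon_obj _) φ (hasFlatCharts_of_isEtaleMor (IsAlgSpace.yon_obj _) φ hφet)
      j hq (𝟙 X) h (hrep.fst φ) _ sqU φ (𝟙 _) sqid
  haveI hqc : QuasiCompact (hrep.snd φ).left :=
    (repWith_quasiCompact_of_isQuasiCompactMor j hrep hq).property_snd φ
  have hker : (hrep.snd φ).left.ker = ⊥ := by
    obtain ⟨-, -, hmin⟩ := hsch
    let ιK : Over.mk ((hrep.snd φ).left.ker.subschemeι ≫ V.hom) ⟶ V :=
      Over.homMk (hrep.snd φ).left.ker.subschemeι rfl
    let tI : hrep.pullback φ ⟶ Over.mk ((hrep.snd φ).left.ker.subschemeι ≫ V.hom) :=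
      Over.homMk (hrep.snd φ).left.toImage (by
        show (hrep.snd φ).left.toImage ≫ (hrep.snd φ).left.ker.subschemeι ≫ V.hom = _
        rw [← Category.assoc]
        have : (hrep.snd φ).left.toImage ≫ (hrep.snd φ).left.ker.subschemeι =
          (hrep.snd φ).left := (hrep.snd φ).left.toImage_imageι
        rw [this]
        exact Over.w (hrep.snd φ))
    have htI : tI ≫ ιK = hrep.snd φ := by
      apply Over.OverMorphism.ext
      exact (hrep.snd φ).left.toImage_imageι
    obtain ⟨k, hk⟩ := hmin ((yon S).map ιK) (IsAlgSpace.yon_obj _)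
      ((repWith_yon_map_iff @IsClosedImmersion ιK).mpr
        (inferInstanceAs (IsClosedImmersion (hrep.snd φ).left.ker.subschemeι)))
      ⟨(yon S).map tI, by rw [← Functor.map_comp, htI]⟩
    obtain ⟨κ, rfl⟩ := (yon S).map_surjective k
    have h1 : κ ≫ ιK = 𝟙 V :=
      (yon S).map_injective (by rw [Functor.map_comp, hk, CategoryTheory.Functor.map_id])
    have h2 : κ.left ≫ (hrep.snd φ).left.ker.subschemeι = 𝟙 V.left :=
      congrArg (fun m => m.left) h1
    rw [eq_bot_iff]
    conv_lhs => rw [← (hrep.snd φ).left.ker.ker_subschemeι]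
    refine (Scheme.Hom.le_ker_comp κ.left _).trans ?_
    rw [h2, Scheme.Hom.ker_eq_bot_of_isIso]
  have hinj : ∀ N ∈ V.left.affineOpens, Function.Injective ((hrep.snd φ).left.app N) := by
    intro N hN
    have h3 := (hrep.snd φ).left.ker_apply ⟨N, hN⟩
    rw [hker, Scheme.IdealSheafData.ideal_bot] at h3
    exact (RingHom.injective_iff_ker_eq_bot _).mpr h3.symm
  exact isSchDense_of_chart j hj V φ hφe hφs _ (hrep.fst φ) (hrep.snd φ) sqU
    (isSchematicallyDense_of_app_injective (hrep.snd φ).left (hrep.snd φ).left.opensRange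
      (by rintro _ ⟨x, rfl⟩; exact ⟨x, rfl⟩) _ V.left.isBasis_affineOpens hinj)

/-- S9969. -/
theorem main69 {U X : Sp S} (hU : IsAlgSpace U) (hX : IsAlgSpace X)
    (j : U ⟶ X) (hj : RepWith @IsOpenImmersion j) (hq : IsQuasiCompactMor j) :
    IsSchDense j ↔ IsSchImage j (𝟙 X) :=
  ⟨isSchImage_id_of_isSchDense j, isSchDense_of_isSchImage_id hU hX j hj hq⟩

end Groth.Agent.Helper2.SchDenseImage
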