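import Groth.Prelude.Def_AlgSpSub
import Groth.Agent.Lib.Helper2.AlgSp.SchImageFlat2
import Groth.Agent.Lib.Helper2.Sch.SchDenseFlat

set_option autoImplicit false
set_option backward.isDefEq.respectTransparency false
set_option linter.style.haveILetI false
universe u
open CategoryTheory CategoryTheory.Limits AlgebraicGeometry Opposite AlgSp

namespace Groth.Agent.Helper2.SchDenseSp
open Groth.Agent.Helper2.AlgSpBasic Groth.Agent.Helper2.CartierPull
  Groth.Agent.Helper2.CartierDescent Groth.Agent.Helper2.CartierSum Groth.Agent.Helper2.CutOut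
  Groth.Agent.Helper2.ChartIdeal Groth.Agent.Helper2.KerFlat Groth.Agent.Helper2.SchImage
  Groth.Agent.Helper2.KerIdeal Groth.Agent.Helper2.SchImageFlat Groth.Agent.Helper2.SchDenseFlat

variable {S : Scheme.{u}}

/-- Pull back the chart square of an open subspace along a morphism of schemes. -/
theorem exists_sq_preimage {Y G : Sp S} (j : G ⟶ Y) {V : Over S} (φ : (yon S).obj V ⟶ Y)
    (W : V.left.Opens) (fstW : (yon S).obj (Over.mk (W.ι ≫ V.hom)) ⟶ G)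
    (sqW : IsPullback fstW ((yon S).map (Over.homMk W.ι rfl : Over.mk (W.ι ≫ V.hom) ⟶ V)) j φ)
    {T : Over S} (α : T ⟶ V) :
    ∃ fst' : (yon S).obj (Over.mk ((α.left ⁻¹ᵁ W).ι ≫ T.hom)) ⟶ G,
      IsPullback fst' ((yon S).map (Over.homMk (α.left ⁻¹ᵁ W).ι rfl :
        Over.mk ((α.left ⁻¹ᵁ W).ι ≫ T.hom) ⟶ T)) j ((yon S).map α ≫ φ) := by
  let r : Over.mk ((α.left ⁻¹ᵁ W).ι ≫ T.hom) ⟶ Over.mk (W.ι ≫ V.hom) :=
    Over.homMk (α.left ∣_ W) (by
      show (α.left ∣_ W) ≫ W.ι ≫ V.hom = (α.left ⁻¹ᵁ W).ι ≫ T.hom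
      rw [← Category.assoc, morphismRestrict_ι, Category.assoc, Over.w α])
  have sq₀ : IsPullback r (Over.homMk (α.left ⁻¹ᵁ W).ι rfl :
      Over.mk ((α.left ⁻¹ᵁ W).ι ≫ T.hom) ⟶ T)
      (Over.homMk W.ι rfl : Over.mk (W.ι ≫ V.hom) ⟶ V) α :=
    IsPullback.of_map (Over.forget S) (by
      apply Over.OverMorphism.ext
      exact morphismRestrict_ι α.left W) (isPullback_morphismRestrict α.left W)
  exact ⟨(yon S).map r ≫ fstW, (sq₀.map (yon S)).paste_horiz sqW⟩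

/-- Quasi-compactness of an open subspace, on a chart. -/
theorem isCompact_inf_of_isQuasiCompactMor {Y G : Sp S} (j : G ⟶ Y) (hjq : IsQuasiCompactMor j)
    {V : Over S} (φ : (yon S).obj V ⟶ Y) (W : V.left.Opens)
    (fstW : (yon S).obj (Over.mk (W.ι ≫ V.hom)) ⟶ G)
    (sqW : IsPullback fstW ((yon S).map (Over.homMk W.ι rfl : Over.mk (W.ι ≫ V.hom) ⟶ V)) j φ)
    (O : V.left.affineOpens) : IsCompact ((O.1 ⊓ W : V.left.Opens) : Set V.left) := by
  obtain ⟨fst', sq'⟩ := exists_sq_preimage j φ W fstW sqW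
    (Over.homMk O.1.ι rfl : Over.mk (O.1.ι ≫ V.hom) ⟶ V)
  haveI : IsAffine (Over.mk (O.1.ι ≫ V.hom)).left := O.2
  have hq := hjq (IsAlgSpace.yon_obj _) ((isQuasiCompactSp_yon_iff _).mpr inferInstance) _ _ _ sq'
  haveI : CompactSpace ↥(O.1.ι ⁻¹ᵁ W).toScheme := (isQuasiCompactSp_yon_iff _).mp hq
  have h1 : ((O.1 ⊓ W : V.left.Opens) : Set V.left) =
      Set.range ((O.1.ι ⁻¹ᵁ W).ι ≫ O.1.ι) := by
    rw [Scheme.Hom.comp_base, TopCat.coe_comp, Set.range_comp, Scheme.Opens.range_ι]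
    show _ = O.1.ι '' (O.1.ι ⁻¹' (W : Set V.left))
    rw [Set.image_preimage_eq_inter_range, Scheme.Opens.range_ι, Set.inter_comm]
    rfl
  rw [h1]
  exact isCompact_range ((O.1.ι ⁻¹ᵁ W).ι ≫ O.1.ι).continuous


/-- S9973. -/
theorem main73 {X Y V V' : Sp S} (hX : IsAlgSpace X) (hY : IsAlgSpace Y) (f : X ⟶ Y)
    (hf : LocP @Flat f) (j : V ⟶ Y) (hj : IsSchDense j) (hjq : IsQuasiCompactMor j)
    (fst : V' ⟶ V) (jX : V' ⟶ X) (sq : IsPullback fst jX j f) : IsSchDense jX := by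
  obtain ⟨hjo, VY, φ, W, fstW, hφe, hφs, sqW, hW⟩ := hj
  have sqP := IsPullback.of_hasPullback f φ
  have hP : IsAlgSpace (pullback f φ) :=
    isAlgSpace_of_isPullback hY.diag hX (IsAlgSpace.yon_obj _) f φ _ _ sqP
  obtain ⟨WX, b, hbe, hbs⟩ := hP.atlas
  obtain ⟨γ₀, hγ₀⟩ := (yon S).map_surjective (b ≫ pullback.snd f φ)
  have hψe : RepWith @Etale (b ≫ pullback.fst f φ) :=
    repWith_comp @Etale hbe (repWith_of_isPullback @Etale sqP.flip hφe)
  have hψs : RepWith @Surjective (b ≫ pullback.fst f φ) :=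
    repWith_comp @Surjective hbs (repWith_of_isPullback @Surjective sqP.flip hφs)
  have comm : (b ≫ pullback.fst f φ) ≫ f = (yon S).map γ₀ ≫ φ := by
    rw [Category.assoc, sqP.w, ← Category.assoc, hγ₀]
  haveI hflat : Flat γ₀.left := hf _ φ γ₀ hψe hφe comm
  obtain ⟨fst₁, sq₁⟩ := exists_sq_preimage j φ W fstW sqW γ₀
  obtain ⟨fst', sq'⟩ := exists_sq_of_isPullback j f fst jX sq _ _ fst₁ sq₁
    (b ≫ pullback.fst f φ) comm
  refine ⟨repWith_of_isPullback @IsOpenImmersion sq hjo, WX, b ≫ pullback.fst f φ,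
    γ₀.left ⁻¹ᵁ W, fst', hψe, hψs, sq', ?_⟩
  exact isSchematicallyDense_preimage_of_flat γ₀.left W
    (isCompact_inf_of_isQuasiCompactMor j hjq φ W fstW sqW) hW

end Groth.Agent.Helper2.SchDenseSp
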