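import Groth.Prelude.Def_AlgSpSub
import Groth.Agent.Lib.Helper2.AlgSp.SchDenseImage
import Groth.Agent.Lib.Helper2.AlgSp.SchDenseSp
import Groth.Agent.Lib.Helper2.AlgSp.EpiPullback
import Groth.Agent.Lib.Helper2.AlgSp.Mono

/-!
# Factoring through an fppf cover after checking over a scheme theoretically dense open (helper2)
-/

set_option autoImplicit false
set_option backward.isDefEq.respectTransparency false
set_option linter.style.haveILetI false
universe u
open CategoryTheory CategoryTheory.Limits AlgebraicGeometry Opposite AlgSp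

namespace Groth.Agent.Helper2.FactorDense
open Groth.Agent.Helper2.AlgSpBasic Groth.Agent.Helper2.SchDenseImage
  Groth.Agent.Helper2.SchDenseSp Groth.Agent.Helper2.EpiPullback

variable {S : Scheme.{u}}

/-- An epimorphism of sheaves is the coequalizer of its kernel pair. -/
theorem exists_desc_of_epi {U M Y : Sp S} (q : U ⟶ M) [Epi q] (f : U ⟶ Y)
    (h : pullback.fst q q ≫ f = pullback.snd q q ≫ f) : ∃ d : M ⟶ Y, q ≫ d = f := by
  have w : pullback.snd q q ≫ q = pullback.fst q q ≫ q := pullback.condition.symm
  have hid : (pullback.lift (pullback.fst q q) (pullback.snd q q) w.symm :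
      pullback q q ⟶ pullback q q) = 𝟙 _ := by
    apply pullback.hom_ext
    · rw [pullback.lift_fst, Category.id_comp]
    · rw [pullback.lift_snd, Category.id_comp]
  haveI : Epi (pullback.lift (pullback.fst q q) (pullback.snd q q) w.symm :
      pullback q q ⟶ pullback q q) := by
    rw [hid]
    infer_instance
  haveI := isIso_coequalizer_desc (pullback.snd q q) (pullback.fst q q) q w
  refine ⟨inv (coequalizer.desc q w) ≫ coequalizer.desc f h.symm, ?_⟩
  have h1 : coequalizer.π _ _ ≫ coequalizer.desc q w = q := coequalizer.π_desc q w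
  calc q ≫ inv (coequalizer.desc q w) ≫ coequalizer.desc f h.symm
      = (coequalizer.π _ _ ≫ coequalizer.desc q w) ≫ inv (coequalizer.desc q w) ≫
          coequalizer.desc f h.symm := by rw [h1]
    _ = coequalizer.π _ _ ≫ coequalizer.desc f h.symm := by
        rw [Category.assoc, IsIso.hom_inv_id_assoc]
    _ = f := coequalizer.π_desc f h.symm

/-- Two morphisms into a separated space which agree on a scheme theoretically dense open
agree. -/
theorem eq_of_eq_on_isSchDense {R Y B D : Sp S} (hR : IsAlgSpace R) (hY : IsAlgSpace Y)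
    (hB : IsAlgSpace B) (pY : Y ⟶ B) (hpY : IsSeparatedMor pY) (a b : R ⟶ Y)
    (hab : a ≫ pY = b ≫ pY) (ρ : D ⟶ R) (hρ : IsSchDense ρ) (h : ρ ≫ a = ρ ≫ b) : a = b := by
  have hYY : IsAlgSpace (pullback pY pY) :=
    isAlgSpace_of_isPullback hB.diag hY hY pY pY _ _ (IsPullback.of_hasPullback pY pY)
  have sqE := IsPullback.of_hasPullback (pullback.diagonal pY) (pullback.lift a b hab)
  have hE : IsAlgSpace (pullback (pullback.diagonal pY) (pullback.lift a b hab)) :=
    isAlgSpace_of_isPullback hYY.diag hY hR _ _ _ _ sqE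
  have he : RepWith @IsClosedImmersion
      (pullback.snd (pullback.diagonal pY) (pullback.lift a b hab)) :=
    repWith_of_isPullback @IsClosedImmersion sqE hpY
  have hw : (ρ ≫ a) ≫ pullback.diagonal pY = ρ ≫ pullback.lift a b hab := by
    apply pullback.hom_ext
    · rw [Category.assoc, Category.assoc, pullback.diagonal_fst, Category.comp_id,
        Category.assoc, pullback.lift_fst]
    · rw [Category.assoc, Category.assoc, pullback.diagonal_snd, Category.comp_id,
        Category.assoc, pullback.lift_snd, h]
  obtain ⟨k, hk⟩ := (isSchImage_id_of_isSchDense ρ hρ).2.2 _ hE he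
    ⟨pullback.lift (ρ ≫ a) ρ hw, pullback.lift_snd _ _ hw⟩
  have h1 : pullback.snd (pullback.diagonal pY) (pullback.lift a b hab) ≫ a =
      pullback.snd (pullback.diagonal pY) (pullback.lift a b hab) ≫ b := by
    have e1 := congrArg (fun m => m ≫ pullback.fst pY pY) sqE.w
    have e2 := congrArg (fun m => m ≫ pullback.snd pY pY) sqE.w
    simp only [Category.assoc, pullback.diagonal_fst, pullback.diagonal_snd, Category.comp_id,
      pullback.lift_fst, pullback.lift_snd] at e1 e2
    rw [← e1, ← e2]
  calc a = (k ≫ pullback.snd _ _) ≫ a := by rw [hk, Category.id_comp]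
    _ = (k ≫ pullback.snd _ _) ≫ b := by rw [Category.assoc, h1, Category.assoc]
    _ = b := by rw [hk, Category.id_comp]

/-- S10129. -/
theorem main29 {B X Y Z V : Sp S} (hB : IsAlgSpace B) (hX : IsAlgSpace X) (hY : IsAlgSpace Y)
    (hZ : IsAlgSpace Z) (pX : X ⟶ B) (pY : Y ⟶ B) (pZ : Z ⟶ B) (f : X ⟶ Y) (g : X ⟶ Z)
    (hf : f ≫ pY = pX) (hg : g ≫ pZ = pX) (hpY : IsSeparatedMor pY)
    (hgs : IsSurjectiveMor g) (hgf : LocP @Flat g)
    (hgp : LocP @LocallyOfFinitePresentation g) (v : V ⟶ Z) (hv : IsSchDense v)
    (hvq : IsQuasiCompactMor v)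
    (hfac : ∃ φ : V ⟶ Y, pullback.fst g v ≫ f = pullback.snd g v ≫ φ) :
    ∃ h : Z ⟶ Y, g ≫ h = f := by
  obtain ⟨φ, hφ⟩ := hfac
  haveI := isLocallySurjective_of_locP_fppf_surjective hX hZ g hgf hgp hgs
  haveI : Epi g := inferInstance
  apply exists_desc_of_epi g f
  have sqR := IsPullback.of_hasPullback g g
  have hR : IsAlgSpace (pullback g g) := isAlgSpace_of_isPullback hZ.diag hX hX g g _ _ sqR
  have hpr : LocP @Flat (pullback.fst g g) :=
    locP_of_isPullback @Flat hX hZ hX hR g g _ _ sqR.flip hgf
  have hRZ : LocP @Flat (pullback.fst g g ≫ g) := locP_comp @Flat hR hX hZ _ _ hpr hgf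
  have sqD := IsPullback.of_hasPullback (pullback.fst g g ≫ g) v
  have hρ : IsSchDense (pullback.fst (pullback.fst g g ≫ g) v) :=
    main73 hR hZ _ hRZ v hv hvq _ _ sqD.flip
  refine eq_of_eq_on_isSchDense hR hY hB pY hpY _ _ ?_ _ hρ ?_
  · rw [Category.assoc, Category.assoc, hf, ← hg, ← Category.assoc, ← Category.assoc,
      pullback.condition]
  · -- both sides equal the projection to `V` followed by `φ`
    have w1 : (pullback.fst (pullback.fst g g ≫ g) v ≫ pullback.fst g g) ≫ g =
        pullback.snd (pullback.fst g g ≫ g) v ≫ v := by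
      rw [Category.assoc]
      exact sqD.w
    have w2 : (pullback.fst (pullback.fst g g ≫ g) v ≫ pullback.snd g g) ≫ g =
        pullback.snd (pullback.fst g g ≫ g) v ≫ v := by
      rw [Category.assoc, ← pullback.condition]
      exact sqD.w
    have e1 : pullback.fst (pullback.fst g g ≫ g) v ≫ pullback.fst g g ≫ f =
        pullback.snd (pullback.fst g g ≫ g) v ≫ φ := by
      have := congrArg (fun m => pullback.lift _ _ w1 ≫ m) hφ
      simp only [← Category.assoc, pullback.lift_fst, pullback.lift_snd] at this
      rw [← Category.assoc]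
      exact this
    have e2 : pullback.fst (pullback.fst g g ≫ g) v ≫ pullback.snd g g ≫ f =
        pullback.snd (pullback.fst g g ≫ g) v ≫ φ := by
      have := congrArg (fun m => pullback.lift _ _ w2 ≫ m) hφ
      simp only [← Category.assoc, pullback.lift_fst, pullback.lift_snd] at this
      rw [← Category.assoc]
      exact this
    rw [e1, e2]

end Groth.Agent.Helper2.FactorDense
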