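import Mathlib
import Groth.Agent.Lib.Helper2.AlgSp.Coprod
import Groth.Agent.Lib.Helper2.AlgSp.FactorDense
import Groth.Agent.Lib.Helper2.AlgSp.Mor2

/-!
# Gluing morphisms of fppf sheaves along a jointly epimorphic family (helper2)
-/

set_option autoImplicit false
open CategoryTheory CategoryTheory.Limits AlgebraicGeometry Opposite AlgSp
open Groth.Agent.Helper2.AlgSpBasic

namespace Groth.Agent.Helper2.GlueFamily
universe u w
variable {S : Scheme.{u}}

/-- Morphisms out of `W` glue along a family `π i : F i ⟶ W` whose induced map from the coproduct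
is an epimorphism, when they agree on all the fibre products `F i ×_W F i'`. -/
theorem exists_desc_of_family {ι : Type w} (F : ι → Sp S) [HasCoproduct F] {W Y : Sp S}
    (π : ∀ i, F i ⟶ W) [Epi (Sigma.desc π)] (a : ∀ i, F i ⟶ Y)
    (hcompat : ∀ i i', pullback.fst (π i) (π i') ≫ a i = pullback.snd (π i) (π i') ≫ a i') :
    ∃ d : W ⟶ Y, ∀ i, π i ≫ d = a i := by
  have hker : pullback.fst (Sigma.desc π) (Sigma.desc π) ≫ Sigma.desc a =
      pullback.snd (Sigma.desc π) (Sigma.desc π) ≫ Sigma.desc a := by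
    apply hom_ext_yon
    intro T s
    obtain ⟨κ, Wk, p, hp, hs, hl⟩ := Groth.Agent.Helper2.Coprod.exists_local_lift
      (Cofan.mk (∐ F) (Sigma.ι F)) (coproductIsCoproduct F)
      (s ≫ pullback.fst (Sigma.desc π) (Sigma.desc π))
    apply Groth.Agent.Helper2.AlgSpFormal.hom_ext_of_family Wk p hp hs
    intro k
    obtain ⟨i, x, hx⟩ := hl k
    obtain ⟨κ', Wk', p', hp', hs', hl'⟩ := Groth.Agent.Helper2.Coprod.exists_local_lift
      (Cofan.mk (∐ F) (Sigma.ι F)) (coproductIsCoproduct F)
      ((yon S).map (p k) ≫ s ≫ pullback.snd (Sigma.desc π) (Sigma.desc π))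
    apply Groth.Agent.Helper2.AlgSpFormal.hom_ext_of_family Wk' p' hp' hs'
    intro k'
    obtain ⟨i', y, hy⟩ := hl' k'
    have hx' : x ≫ Sigma.ι F i = (yon S).map (p k) ≫ s ≫
        pullback.fst (Sigma.desc π) (Sigma.desc π) := hx
    have hy' : y ≫ Sigma.ι F i' = (yon S).map (p' k') ≫ (yon S).map (p k) ≫ s ≫
        pullback.snd (Sigma.desc π) (Sigma.desc π) := hy
    -- the pair of local lifts maps to the fibre product
    have hw : ((yon S).map (p' k') ≫ x) ≫ π i = y ≫ π i' := by
      have h1 : ((yon S).map (p' k') ≫ x) ≫ π i =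
          ((yon S).map (p' k') ≫ x ≫ Sigma.ι F i) ≫ Sigma.desc π := by
        simp only [Category.assoc, Sigma.ι_desc]
      have h2 : y ≫ π i' = (y ≫ Sigma.ι F i') ≫ Sigma.desc π := by
        simp only [Category.assoc, Sigma.ι_desc]
      rw [h1, h2, hx', hy']
      simp only [Category.assoc]
      rw [pullback.condition]
    have key := congrArg (fun φ => pullback.lift _ _ hw ≫ φ) (hcompat i i')
    simp only [pullback.lift_fst_assoc, pullback.lift_snd_assoc] at key
    calc (yon S).map (p' k') ≫ (yon S).map (p k) ≫ s ≫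
          pullback.fst (Sigma.desc π) (Sigma.desc π) ≫ Sigma.desc a
        = (yon S).map (p' k') ≫ (x ≫ Sigma.ι F i) ≫ Sigma.desc a := by
          rw [hx']; simp only [Category.assoc]
      _ = ((yon S).map (p' k') ≫ x) ≫ a i := by simp only [Category.assoc, Sigma.ι_desc]
      _ = y ≫ a i' := key
      _ = (y ≫ Sigma.ι F i') ≫ Sigma.desc a := by simp only [Category.assoc, Sigma.ι_desc]
      _ = (yon S).map (p' k') ≫ (yon S).map (p k) ≫ s ≫
          pullback.snd (Sigma.desc π) (Sigma.desc π) ≫ Sigma.desc a := by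
          rw [hy']; simp only [Category.assoc]
  obtain ⟨d, hd⟩ := Groth.Agent.Helper2.FactorDense.exists_desc_of_epi (Sigma.desc π)
    (Sigma.desc a) hker
  refine ⟨d, fun i => ?_⟩
  have := congrArg (fun φ => Sigma.ι F i ≫ φ) hd
  simpa using this

end Groth.Agent.Helper2.GlueFamily
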