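import Mathlib
import Groth.Prelude.Def_AlgSpSub
import Groth.Agent.Lib.Helper2.AlgSp.GlueFamily
import Groth.Agent.Lib.Helper2.AlgSp.PointsMor
import Groth.Agent.Lib.Helper2.AlgSp.Points
import Groth.Agent.Lib.Helper2.AlgSp.QuotOpen
import Groth.Agent.Lib.Helper2.AlgSp.FieldFibre
import Groth.Agent.Lib.Helper2.AlgSp.Diag

/-!
# Elementary distinguished squares are pushouts (helper2)
-/

set_option autoImplicit false
open CategoryTheory CategoryTheory.Limits AlgebraicGeometry Opposite AlgSp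
open Groth.Agent.Helper2.AlgSpBasic Groth.Agent.Helper2.FieldFibre

namespace Groth.Agent.Helper2.ElemDistSq
universe u
variable {S : Scheme.{u}}

/-- A point of a one-point reduced scheme whose image lies in a closed subspace factors
through it. -/
theorem exists_factor_of_closedImmersion {W T : Sp S} (i : T ⟶ W)
    (hi : RepWith @IsClosedImmersion i) {Q : Over S} [IsReduced Q.left] [Subsingleton ↥Q.left]
    (q₀ : ↥Q.left) (s : (yon S).obj Q ⟶ W)
    (hs : Points.ofPt s q₀ ∈ Set.range (Points.map i)) :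
    ∃ s' : (yon S).obj Q ⟶ T, s' ≫ i = s := by
  obtain ⟨Z, c, fst, sq⟩ := hi.1 s
  haveI : IsClosedImmersion c.left := hi.2 s fst c sq
  obtain ⟨x, hx⟩ := hs
  obtain ⟨z, -, hz⟩ := exists_point_of_isPullback_right i s fst c sq x q₀ hx
  haveI : Surjective c.left := ⟨fun y => ⟨z, Subsingleton.elim _ _⟩⟩
  haveI : IsIso c.left := isIso_of_isClosedImmersion_of_surjective c.left
  haveI : IsIso ((Over.forget S).map c) := ‹IsIso c.left›
  haveI : IsIso c := isIso_of_reflects_iso c (Over.forget S)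
  refine ⟨inv ((yon S).map c) ≫ fst, ?_⟩
  rw [Category.assoc, sq.w, IsIso.inv_hom_id_assoc]

/-- The two-member family `U`, `h_{V₀}`. -/
def fam (U : Sp S) (V₀ : Over S) : Bool → Sp S
  | true => U
  | false => (yon S).obj V₀

def famπ {U Y : Sp S} {V₀ : Over S} (j : U ⟶ Y) (g : (yon S).obj V₀ ⟶ Y) : ∀ b, fam U V₀ b ⟶ Y
  | true => j
  | false => g

/-- The coprojection of `U`. -/
noncomputable def ι₁ (U : Sp S) (V₀ : Over S) : U ⟶ ∐ fam U V₀ := Sigma.ι (fam U V₀) true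

/-- The coprojection of `h_{V₀}`. -/
noncomputable def ι₀ (U : Sp S) (V₀ : Over S) : (yon S).obj V₀ ⟶ ∐ fam U V₀ :=
  Sigma.ι (fam U V₀) false

theorem ι₁_desc {U Y : Sp S} {V₀ : Over S} (j : U ⟶ Y) (g : (yon S).obj V₀ ⟶ Y) :
    ι₁ U V₀ ≫ Sigma.desc (famπ j g) = j := Sigma.ι_desc (famπ j g) true

theorem ι₀_desc {U Y : Sp S} {V₀ : Over S} (j : U ⟶ Y) (g : (yon S).obj V₀ ⟶ Y) :
    ι₀ U V₀ ≫ Sigma.desc (famπ j g) = g := Sigma.ι_desc (famπ j g) false

theorem isLocallySurjective_desc {U W : Sp S} {V₀ : Over S} (j : U ⟶ W)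
    (hj : RepWith @IsOpenImmersion j) (g : (yon S).obj V₀ ⟶ W) (hg : RepWith @Etale g)
    (hcov : ∀ w : Points W, w ∈ Set.range (Points.map j) ∨ w ∈ Set.range (Points.ofPt g)) :
    Sheaf.IsLocallySurjective (Sigma.desc (famπ j g)) := by
  apply Groth.Agent.Helper2.QuotOpen.isLocallySurjective_of_family_lift
  intro T s
  obtain ⟨TU, cU, fU, sqU⟩ := hj.1 s
  obtain ⟨TV, cV, fV, sqV⟩ := hg.1 s
  haveI hcU : IsOpenImmersion cU.left := hj.2 s fU cU sqU
  haveI hcV : Etale cV.left := hg.2 s fV cV sqV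
  obtain ⟨fV', rfl⟩ := (yon S).map_surjective fV
  refine ⟨ULift.{u} Bool, fun k => cond k.down TU TV,
    fun k => match k with | ⟨true⟩ => cU | ⟨false⟩ => cV, ?_, ?_, ?_⟩
  · rintro ⟨_ | _⟩
    · exact ⟨inferInstanceAs (Flat cV.left), inferInstanceAs (LocallyOfFinitePresentation cV.left)⟩
    · exact ⟨inferInstanceAs (Flat cU.left), inferInstanceAs (LocallyOfFinitePresentation cU.left)⟩
  · intro x
    rcases hcov (Points.ofPt s x) with ⟨y, hy⟩ | ⟨v₀, hv⟩
    · obtain ⟨w', -, hw'⟩ := exists_point_of_isPullback_right j s fU cU sqU y x hy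
      exact ⟨⟨true⟩, w', hw'⟩
    · obtain ⟨w', -, hw'⟩ := exists_point_of_isPullback_yon g s fV' cV sqV v₀ x hv
      exact ⟨⟨false⟩, w', hw'⟩
  · rintro ⟨_ | _⟩
    · refine ⟨(yon S).map fV' ≫ ι₀ U V₀, ?_⟩
      rw [Category.assoc, ι₀_desc]
      exact sqV.w
    · refine ⟨fU ≫ ι₁ U V₀, ?_⟩
      rw [Category.assoc, ι₁_desc]
      exact sqU.w


section Main

variable {U V W Y P : Sp S}

/-- The key compatibility on `V₀ ×_W V₀`. -/
theorem compat_VV (hV : IsAlgSpace V) (hW : IsAlgSpace W) (j : U ⟶ W) (f : V ⟶ W)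
    (hj : RepWith @IsOpenImmersion j) {T P' : Sp S} (i : T ⟶ W) (p₁ : P' ⟶ T) (p₂ : P' ⟶ V)
    (hi : RepWith @IsClosedImmersion i)
    (hiT : Set.range (Points.map i) = (Set.range (Points.map j))ᶜ)
    (sqT : IsPullback p₁ p₂ i f) [Mono p₁]
    (p : P ⟶ U) (q : P ⟶ V) (hP : IsPullback p q j f)
    {V₀ : Over S} (v : (yon S).obj V₀ ⟶ V) (hve : RepWith @Etale v)
    (hg : RepWith @Etale (v ≫ f))
    (a : U ⟶ Y) (b : V ⟶ Y) (hab : p ≫ a = q ≫ b)
    {R : Over S} (π₁ π₂ : R ⟶ V₀)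
    (sqR : IsPullback ((yon S).map π₁) ((yon S).map π₂) (v ≫ f) (v ≫ f)) :
    (yon S).map π₁ ≫ v ≫ b = (yon S).map π₂ ≫ v ≫ b := by
  obtain ⟨D, d₁, d₂, sqD⟩ := exists_isPullback_yon hV.diag v v
  -- the comparison `D ⟶ R`
  obtain ⟨δ, hδ⟩ := (yon S).map_surjective (sqR.lift ((yon S).map d₁) ((yon S).map d₂)
    (by rw [← Category.assoc, sqD.w, Category.assoc]))
  have hδ1 : δ ≫ π₁ = d₁ := (yon S).map_injective (by
    rw [Functor.map_comp, hδ]; exact sqR.lift_fst _ _ _)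
  have hδ2 : δ ≫ π₂ = d₂ := (yon S).map_injective (by
    rw [Functor.map_comp, hδ]; exact sqR.lift_snd _ _ _)
  have hπ₁ : Etale π₁.left := hg.2 (v ≫ f) ((yon S).map π₂) π₁ sqR.flip
  have hd₁ : Etale d₁.left := hve.2 v ((yon S).map d₂) d₁ sqD.flip
  have hδe : Etale δ.left := by
    refine MorphismProperty.HasOfPostcompProperty.of_postcomp (W := @Etale) δ.left π₁.left hπ₁ ?_
    rw [← Over.comp_left, hδ1]
    exact hd₁
  -- the open part
  obtain ⟨RU, ρ, lU, sqU⟩ := hj.1 ((yon S).map π₁ ≫ v ≫ f)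
  haveI hρ : IsOpenImmersion ρ.left := hj.2 _ lU ρ sqU
  refine Groth.Agent.Helper2.AlgSpFormal.hom_ext_of_family
    (fun k : ULift.{u} Bool => cond k.down RU D)
    (fun k => match k with | ⟨true⟩ => ρ | ⟨false⟩ => δ) ?_ ?_ _ _ ?_
  · rintro ⟨_ | _⟩
    · exact ⟨inferInstanceAs (Flat δ.left), inferInstanceAs (LocallyOfFinitePresentation δ.left)⟩
    · exact ⟨inferInstanceAs (Flat ρ.left), inferInstanceAs (LocallyOfFinitePresentation ρ.left)⟩
  · intro r
    by_cases hw : Points.ofPt ((yon S).map π₁ ≫ v ≫ f) r ∈ Set.range (Points.map j)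
    · obtain ⟨y, hy⟩ := hw
      obtain ⟨z, -, hz⟩ := exists_point_of_isPullback_right j _ lU ρ sqU y r hy
      exact ⟨⟨true⟩, z, hz⟩
    · have hw' : Points.ofPt ((yon S).map π₁ ≫ v ≫ f) r ∈ Set.range (Points.map i) := by
        rw [hiT]; exact hw
      -- the residue field point of `r`
      obtain ⟨Q, ξ, hQ⟩ : ∃ (Q : Over S) (ξ : Q ⟶ R), Q = resOver R r ∧ HEq ξ (resι R r) :=
        ⟨_, _, rfl, HEq.rfl⟩
      obtain ⟨rfl, hξ⟩ := hQ
      obtain rfl : ξ = resι R r := eq_of_heq hξ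
      haveI : Subsingleton ↥(resOver R r).left :=
        inferInstanceAs (Subsingleton ↥(Spec (R.left.residueField r)))
      haveI : IsReduced (resOver R r).left :=
        inferInstanceAs (IsReduced (Spec (R.left.residueField r)))
      let pt : ↥(resOver R r).left := (default : ↥(Spec (R.left.residueField r)))
      have hpt : (resι R r).left pt = r := Scheme.fromSpecResidueField_apply r pt
      have hs : Points.ofPt ((yon S).map (resι R r) ≫ (yon S).map π₁ ≫ v ≫ f) pt ∈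
          Set.range (Points.map i) := by
        rw [ofPt_yon_map_comp, hpt]
        exact hw'
      obtain ⟨s', hs'⟩ := exists_factor_of_closedImmersion i hi pt _ hs
      let m₁ : (yon S).obj (resOver R r) ⟶ P' :=
        sqT.lift s' ((yon S).map (resι R r) ≫ (yon S).map π₁ ≫ v) (by
          rw [hs']; simp only [Category.assoc])
      let m₂ : (yon S).obj (resOver R r) ⟶ P' :=
        sqT.lift s' ((yon S).map (resι R r) ≫ (yon S).map π₂ ≫ v) (by
          rw [hs']; simp only [Category.assoc]; rw [sqR.w])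
      have hm : m₁ = m₂ := by
        rw [← cancel_mono p₁]
        simp only [m₁, m₂, IsPullback.lift_fst]
      have hxy : (yon S).map (resι R r) ≫ (yon S).map π₁ ≫ v =
          (yon S).map (resι R r) ≫ (yon S).map π₂ ≫ v := by
        have h1 : m₁ ≫ p₂ = _ := sqT.lift_snd _ _ _
        have h2 : m₂ ≫ p₂ = _ := sqT.lift_snd _ _ _
        rw [← h1, ← h2, hm]
      obtain ⟨η, hη⟩ := (yon S).map_surjective (sqD.lift ((yon S).map (resι R r ≫ π₁))
        ((yon S).map (resι R r ≫ π₂)) (by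
          rw [Functor.map_comp, Functor.map_comp, Category.assoc, Category.assoc]; exact hxy))
      have hη1 : η ≫ d₁ = resι R r ≫ π₁ := (yon S).map_injective (by
        rw [Functor.map_comp, hη]; exact sqD.lift_fst _ _ _)
      have hη2 : η ≫ d₂ = resι R r ≫ π₂ := (yon S).map_injective (by
        rw [Functor.map_comp, hη]; exact sqD.lift_snd _ _ _)
      have hηδ : η ≫ δ = resι R r := by
        apply (yon S).map_injective
        apply sqR.hom_ext
        · rw [← Functor.map_comp, ← Functor.map_comp, Category.assoc, hδ1, hη1]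
        · rw [← Functor.map_comp, ← Functor.map_comp, Category.assoc, hδ2, hη2]
      refine ⟨⟨false⟩, η.left pt, ?_⟩
      have h3 : δ.left (η.left pt) = (resι R r).left pt := by
        rw [← hηδ]
        rfl
      exact h3.trans hpt
  · rintro ⟨_ | _⟩
    · show (yon S).map δ ≫ (yon S).map π₁ ≫ v ≫ b = (yon S).map δ ≫ (yon S).map π₂ ≫ v ≫ b
      rw [← Category.assoc, ← Functor.map_comp, hδ1, ← Category.assoc ((yon S).map δ),
        ← Functor.map_comp, hδ2, ← Category.assoc, sqD.w, Category.assoc]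
    · show (yon S).map ρ ≫ (yon S).map π₁ ≫ v ≫ b = (yon S).map ρ ≫ (yon S).map π₂ ≫ v ≫ b
      have e1 : lU ≫ j = ((yon S).map ρ ≫ (yon S).map π₁ ≫ v) ≫ f := by
        rw [sqU.w]; simp only [Category.assoc]
      have e2 : lU ≫ j = ((yon S).map ρ ≫ (yon S).map π₂ ≫ v) ≫ f := by
        rw [sqU.w]; simp only [Category.assoc]; rw [sqR.w]
      have k1 : (yon S).map ρ ≫ (yon S).map π₁ ≫ v ≫ b = lU ≫ a := by
        have h1 : hP.lift lU _ e1 ≫ q = _ := hP.lift_snd _ _ _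
        have h2 : hP.lift lU _ e1 ≫ p = _ := hP.lift_fst _ _ _
        calc (yon S).map ρ ≫ (yon S).map π₁ ≫ v ≫ b
            = ((yon S).map ρ ≫ (yon S).map π₁ ≫ v) ≫ b := by simp only [Category.assoc]
          _ = (hP.lift lU _ e1 ≫ q) ≫ b := by rw [h1]
          _ = hP.lift lU _ e1 ≫ p ≫ a := by rw [Category.assoc, hab]
          _ = lU ≫ a := by rw [← Category.assoc, h2]
      have k2 : (yon S).map ρ ≫ (yon S).map π₂ ≫ v ≫ b = lU ≫ a := by
        have h1 : hP.lift lU _ e2 ≫ q = _ := hP.lift_snd _ _ _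
        have h2 : hP.lift lU _ e2 ≫ p = _ := hP.lift_fst _ _ _
        calc (yon S).map ρ ≫ (yon S).map π₂ ≫ v ≫ b
            = ((yon S).map ρ ≫ (yon S).map π₂ ≫ v) ≫ b := by simp only [Category.assoc]
          _ = (hP.lift lU _ e2 ≫ q) ≫ b := by rw [h1]
          _ = hP.lift lU _ e2 ≫ p ≫ a := by rw [Category.assoc, hab]
          _ = lU ≫ a := by rw [← Category.assoc, h2]
      rw [k1, k2]

theorem epi_desc (j : U ⟶ W) (f : V ⟶ W) (hsq : IsElemDistSq j f) {V₀ : Over S}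
    (v : (yon S).obj V₀ ⟶ V) (hve : RepWith @Etale v) (hvs : RepWith @Surjective v) :
    Epi (Sigma.desc (famπ j (v ≫ f))) := by
  obtain ⟨hj, hf, T, P', i, p₁, p₂, hi, sqT, hp₁⟩ := hsq
  have hg : RepWith @Etale (v ≫ f) := hf v hve
  haveI := isLocallySurjective_desc j hj (v ≫ f) hg (by
    intro w
    by_cases hw : w ∈ Set.range (Points.map j)
    · exact Or.inl hw
    · right
      have hw' : w ∈ Set.range (Points.map i) := by rw [hi.2.1]; exact hw
      obtain ⟨t, rfl⟩ := hw'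
      have ht : Points.map p₁ (Points.map (inv p₁) t) = t := by
        rw [← Points.map_comp, IsIso.inv_hom_id, Points.map_id]
      obtain ⟨v₀, hv₀⟩ := surjective_ofPt v hvs (Points.map p₂ (Points.map (inv p₁) t))
      refine ⟨v₀, ?_⟩
      rw [← Points.map_ofPt, hv₀, ← Points.map_comp, ← sqT.w, Points.map_comp, ht])
  exact (Sheaf.isLocallySurjective_iff_epi _).mp inferInstance

theorem exists_glue (hV : IsAlgSpace V) (hW : IsAlgSpace W) (j : U ⟶ W) (f : V ⟶ W)
    (hsq : IsElemDistSq j f) (p : P ⟶ U) (q : P ⟶ V) (hP : IsPullback p q j f)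
    (a : U ⟶ Y) (b : V ⟶ Y) (hab : p ≫ a = q ≫ b) :
    ∃ d : W ⟶ Y, j ≫ d = a ∧ f ≫ d = b := by
  obtain ⟨V₀, v, hve, hvs⟩ := hV.atlas
  haveI := epi_desc j f hsq v hve hvs
  obtain ⟨hj, hf, T, P', i, p₁, p₂, hi, sqT, hp₁⟩ := hsq
  have hg : RepWith @Etale (v ≫ f) := hf v hve
  haveI : Mono j := mono_of_repWith_monomorphisms j
    (repWith_mono (fun _ _ g (hg : IsOpenImmersion g) => (inferInstance : Mono g)) hj)
  haveI : Sheaf.IsLocallySurjective v := isLocallySurjective_of_etale_surjective v hve hvs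
  haveI : Epi v := (Sheaf.isLocallySurjective_iff_epi v).mp inferInstance
  haveI : Mono p₁ := inferInstance
  have hcompat : ∀ β β', pullback.fst (famπ j (v ≫ f) β) (famπ j (v ≫ f) β') ≫ famπ a (v ≫ b) β =
      pullback.snd (famπ j (v ≫ f) β) (famπ j (v ≫ f) β') ≫ famπ a (v ≫ b) β' := by
    intro β β'
    cases β <;> cases β'
    · -- V₀, V₀
      show pullback.fst (v ≫ f) (v ≫ f) ≫ v ≫ b = pullback.snd (v ≫ f) (v ≫ f) ≫ v ≫ b
      obtain ⟨R, π₁, π₂, sqR⟩ := exists_isPullback_yon hW.diag (v ≫ f) (v ≫ f)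
      have key := compat_VV hV hW j f hj i p₁ p₂ hi.1 hi.2.1 sqT p q hP v hve hg a b hab π₁ π₂ sqR
      apply hom_ext_yon
      intro T₀ s
      obtain ⟨l, hl1, hl2⟩ : ∃ l : (yon S).obj T₀ ⟶ (yon S).obj R,
          l ≫ (yon S).map π₁ = s ≫ pullback.fst (v ≫ f) (v ≫ f) ∧
          l ≫ (yon S).map π₂ = s ≫ pullback.snd (v ≫ f) (v ≫ f) :=
        ⟨sqR.lift (s ≫ pullback.fst _ _) (s ≫ pullback.snd _ _)
          (by rw [Category.assoc, Category.assoc, pullback.condition]),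
          sqR.lift_fst _ _ _, sqR.lift_snd _ _ _⟩
      calc s ≫ pullback.fst (v ≫ f) (v ≫ f) ≫ v ≫ b
          = (s ≫ pullback.fst (v ≫ f) (v ≫ f)) ≫ v ≫ b := by rw [Category.assoc]
        _ = (l ≫ (yon S).map π₁) ≫ v ≫ b := by rw [hl1]
        _ = l ≫ ((yon S).map π₁ ≫ v ≫ b) := Category.assoc _ _ _
        _ = l ≫ ((yon S).map π₂ ≫ v ≫ b) := by rw [key]
        _ = (l ≫ (yon S).map π₂) ≫ v ≫ b := (Category.assoc _ _ _).symm
        _ = (s ≫ pullback.snd (v ≫ f) (v ≫ f)) ≫ v ≫ b := by rw [hl2]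
        _ = s ≫ pullback.snd (v ≫ f) (v ≫ f) ≫ v ≫ b := Category.assoc _ _ _
    · -- V₀, U
      show pullback.fst (v ≫ f) j ≫ v ≫ b = pullback.snd (v ≫ f) j ≫ a
      have e : pullback.snd (v ≫ f) j ≫ j = (pullback.fst (v ≫ f) j ≫ v) ≫ f := by
        rw [Category.assoc, pullback.condition]
      have h1 : hP.lift _ _ e ≫ q = _ := hP.lift_snd _ _ _
      have h2 : hP.lift _ _ e ≫ p = _ := hP.lift_fst _ _ _
      calc pullback.fst (v ≫ f) j ≫ v ≫ b = (hP.lift _ _ e ≫ q) ≫ b := by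
            rw [h1, Category.assoc]
        _ = hP.lift _ _ e ≫ p ≫ a := by rw [Category.assoc, hab]
        _ = pullback.snd (v ≫ f) j ≫ a := by rw [← Category.assoc, h2]
    · -- U, V₀
      show pullback.fst j (v ≫ f) ≫ a = pullback.snd j (v ≫ f) ≫ v ≫ b
      have e : pullback.fst j (v ≫ f) ≫ j = (pullback.snd j (v ≫ f) ≫ v) ≫ f := by
        rw [Category.assoc, pullback.condition]
      have h1 : hP.lift _ _ e ≫ q = _ := hP.lift_snd _ _ _
      have h2 : hP.lift _ _ e ≫ p = _ := hP.lift_fst _ _ _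
      calc pullback.fst j (v ≫ f) ≫ a = (hP.lift _ _ e ≫ p) ≫ a := by rw [h2]
        _ = hP.lift _ _ e ≫ q ≫ b := by rw [Category.assoc, hab]
        _ = pullback.snd j (v ≫ f) ≫ v ≫ b := by rw [← Category.assoc, h1, Category.assoc]
    · -- U, U
      show pullback.fst j j ≫ a = pullback.snd j j ≫ a
      rw [(cancel_mono j).1 pullback.condition]
  obtain ⟨d, hd⟩ := Groth.Agent.Helper2.GlueFamily.exists_desc_of_family (fam U V₀)
    (famπ j (v ≫ f)) (famπ a (v ≫ b)) hcompat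
  have hd1 : j ≫ d = a := hd true
  have hd0 : (v ≫ f) ≫ d = v ≫ b := hd false
  refine ⟨d, hd1, ?_⟩
  rw [← cancel_epi v, ← Category.assoc]
  exact hd0

theorem hom_ext_of_elemDistSq (hV : IsAlgSpace V) (j : U ⟶ W) (f : V ⟶ W)
    (hsq : IsElemDistSq j f) (d d' : W ⟶ Y) (h1 : j ≫ d = j ≫ d') (h2 : f ≫ d = f ≫ d') :
    d = d' := by
  obtain ⟨V₀, v, hve, hvs⟩ := hV.atlas
  haveI := epi_desc j f hsq v hve hvs
  rw [← cancel_epi (Sigma.desc (famπ j (v ≫ f)))]
  apply Sigma.hom_ext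
  intro β
  rw [← Category.assoc, ← Category.assoc, Sigma.ι_desc]
  cases β
  · show (v ≫ f) ≫ d = (v ≫ f) ≫ d'
    rw [Category.assoc, h2, Category.assoc]
  · exact h1

end Main

end Groth.Agent.Helper2.ElemDistSq
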