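import Mathlib
import Groth.Prelude.Def_AlgSpSub
import Groth.Agent.Lib.Helper2.AlgSp.ElemDistSq
import Groth.Agent.Lib.Helper2.AlgSp.ImmDescent
import Groth.Agent.Lib.Helper2.AlgSp.Mor
import Groth.Agent.Lib.Helper2.AlgSp.PointsMor

/-!
# Separatedness through an elementary distinguished square (S10698) (helper2)
-/

set_option autoImplicit false
set_option backward.isDefEq.respectTransparency false

open CategoryTheory CategoryTheory.Limits AlgebraicGeometry Opposite AlgSp
open Groth.Agent.Helper2.AlgSpBasic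

namespace Groth.Agent.Helper2.ElemDistSqSep
universe u
variable {S : Scheme.{u}}

set_option backward.isDefEq.respectTransparency.types false in
/-- Descent of a property of a representable morphism along a family which covers the target
locally in the fppf topology. -/
theorem repWith_of_family_base {F G : Sp S} (a : F ⟶ G) (ha : Representable a)
    (P : MorphismProperty Scheme.{u}) [P.IsStableUnderBaseChange]
    [P.IsLocalAtTarget Scheme.fppfPrecoverage]
    (h : ∀ (T : Over S) (g : (yon S).obj T ⟶ G),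
      ∃ (κ : Type u) (W : κ → Over S) (p : ∀ k, W k ⟶ T),
        (∀ k, (@Flat ⊓ @LocallyOfFinitePresentation : MorphismProperty Scheme.{u}) (p k).left) ∧
        (∀ x : T.left, ∃ k, x ∈ Set.range (p k).left) ∧
        ∀ k, ∃ (H Q : Sp S) (b : H ⟶ G) (b' : Q ⟶ F) (a' : Q ⟶ H), IsPullback b' a' a b ∧
          RepWith P a' ∧ ∃ t : (yon S).obj (W k) ⟶ H, t ≫ b = (yon S).map (p k) ≫ g) :
    RepWith P a := by
  refine ⟨ha, fun T V g fst snd hpb => ?_⟩
  show P snd.left
  obtain ⟨κ, W, p, hp, hs, hl⟩ := h T g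
  refine MorphismProperty.IsLocalAtTarget.of_forall_pullbackSnd (K := Scheme.fppfPrecoverage)
    (R := Presieve.ofArrows (fun k => (W k).left) (fun k => (p k).left))
    ((Scheme.ofArrows_mem_precoverage_iff _).2 ⟨hs, hp⟩) ?_
  rintro _ _ _ ⟨k⟩
  obtain ⟨H, Q, b, b', a', sq, hP, t₀, ht₀⟩ := hl k
  let D := overBC snd (p k).left
  -- identify the chosen base with `W k`
  let e : D.T' ≅ W k := Over.isoMk (Iso.refl _) (by
    show 𝟙 _ ≫ (W k).hom = (p k).left ≫ T.hom
    rw [Category.id_comp, Over.w])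
  have he : e.hom ≫ p k = D.c' := by
    ext
    show 𝟙 _ ≫ (p k).left = (p k).left
    rw [Category.id_comp]
  obtain ⟨t, ht⟩ : ∃ t : (yon S).obj D.T' ⟶ H, t ≫ b = (yon S).map D.c' ≫ g :=
    ⟨(yon S).map e.hom ≫ t₀, by rw [Category.assoc, ht₀, ← Category.assoc, ← Functor.map_comp, he]⟩
  have h1 : IsPullback ((yon S).map D.fst' ≫ fst) ((yon S).map D.snd') a
      ((yon S).map D.c' ≫ g) := (D.sq.map (yon S)).paste_horiz hpb
  have h2 : (yon S).map D.c' ≫ g = t ≫ b := ht.symm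
  rw [h2] at h1
  have hcomm : ((yon S).map D.fst' ≫ fst) ≫ a = ((yon S).map D.snd' ≫ t) ≫ b := by
    have := h1.w
    simp only [Category.assoc] at this ⊢
    exact this
  let l : (yon S).obj D.V' ⟶ Q := sq.lift _ _ hcomm
  have h3 : IsPullback l ((yon S).map D.snd') a' t := by
    refine IsPullback.of_right ?_ (sq.lift_snd _ _ hcomm) sq
    rw [sq.lift_fst]
    exact h1
  have := hP.property t l D.snd' h3
  exact this

/-- A representable immersion of algebraic spaces which is closed on points is a closed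
immersion. -/
theorem repWith_isClosedImmersion_of_immersion_of_closed {F G : Sp S} (hG : IsAlgSpace G)
    (c : F ⟶ G) (him : RepWith @IsImmersion c) (hcl : IsClosedMap (Points.map c)) :
    RepWith @IsClosedImmersion c := by
  obtain ⟨T, a, hae, has⟩ := hG.atlas
  have hrep := him.rep
  have sq := hrep.isPullback a
  obtain ⟨c₀, hc₀⟩ : ∃ c₀, c₀ = hrep.snd a := ⟨_, rfl⟩
  rw [← hc₀] at sq
  haveI : IsImmersion c₀.left := him.property a _ _ sq
  refine ImmDescent.repWith_isClosedImmersion_of_etale_cover c T a hae has _ _ sq ?_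
  rw [repWith_yon_map_iff]
  refine IsClosedImmersion.of_isPreimmersion c₀.left ?_
  have hR : IsClosed (Set.range (Points.map c)) := by
    rw [← Set.image_univ]; exact hcl _ isClosed_univ
  have hset : Set.range c₀.left = Points.ofPt a ⁻¹' Set.range (Points.map c) := by
    ext t
    constructor
    · rintro ⟨w, rfl⟩
      refine ⟨Points.ofPt (hrep.fst a) w, ?_⟩
      rw [Points.map_ofPt, sq.w, ofPt_yon_map_comp]
    · rintro ⟨x, hx⟩
      obtain ⟨w, -, hw⟩ := exists_point_of_isPullback_right c a (hrep.fst a) c₀ sq x t hx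
      exact ⟨w, hw⟩
  rw [hset]
  exact hR.preimage (Points.continuous_ofPt a)

section Cover

variable {U V X Y : Sp S}

/-- Every scheme-valued point of the total space of an elementary distinguished square lifts,
etale locally, to one of the two pieces. -/
theorem exists_cover_lift (hV : IsAlgSpace V) (j : U ⟶ X) (f : V ⟶ X) (hsq : IsElemDistSq j f)
    {T : Over S} (x : (yon S).obj T ⟶ X) :
    ∃ (W : Bool → Over S) (p : ∀ k, W k ⟶ T),
      (∀ k, Etale (p k).left) ∧ (∀ t : T.left, ∃ k, t ∈ Set.range (p k).left) ∧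
      (∃ l : (yon S).obj (W true) ⟶ U, l ≫ j = (yon S).map (p true) ≫ x) ∧
      (∃ l : (yon S).obj (W false) ⟶ V, l ≫ f = (yon S).map (p false) ≫ x) := by
  obtain ⟨V₀, v, hve, hvs⟩ := hV.atlas
  obtain ⟨hj, hf, T', P', i, p₁, p₂, hi, sqT, hp₁⟩ := hsq
  have hg : RepWith @Etale (v ≫ f) := hf v hve
  have hcov : ∀ w : Points X, w ∈ Set.range (Points.map j) ∨
      w ∈ Set.range (Points.ofPt (v ≫ f)) := by
    intro w
    by_cases hw : w ∈ Set.range (Points.map j)
    · exact Or.inl hw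
    · right
      have hw' : w ∈ Set.range (Points.map i) := by rw [hi.2.1]; exact hw
      obtain ⟨t, rfl⟩ := hw'
      have ht : Points.map p₁ (Points.map (inv p₁) t) = t := by
        rw [← Points.map_comp, IsIso.inv_hom_id, Points.map_id]
      obtain ⟨v₀, hv₀⟩ := surjective_ofPt v hvs (Points.map p₂ (Points.map (inv p₁) t))
      refine ⟨v₀, ?_⟩
      rw [← Points.map_ofPt, hv₀, ← Points.map_comp, ← sqT.w, Points.map_comp, ht]
  obtain ⟨TU, cU, fU, sqU⟩ := hj.1 x
  obtain ⟨TV, cV, fV, sqV⟩ := hg.1 x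
  haveI hcU : IsOpenImmersion cU.left := hj.2 x fU cU sqU
  haveI hcV : Etale cV.left := hg.2 x fV cV sqV
  obtain ⟨fV', rfl⟩ := (yon S).map_surjective fV
  refine ⟨fun k => cond k TU TV, fun k => match k with | true => cU | false => cV, ?_, ?_, ?_, ?_⟩
  · rintro (_ | _)
    · exact hcV
    · exact (inferInstance : Etale cU.left)
  · intro t
    rcases hcov (Points.ofPt x t) with ⟨y, hy⟩ | ⟨v₀, hv⟩
    · obtain ⟨w', -, hw'⟩ := exists_point_of_isPullback_right j x fU cU sqU y t hy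
      exact ⟨true, w', hw'⟩
    · obtain ⟨w', -, hw'⟩ := exists_point_of_isPullback_yon (v ≫ f) x fV' cV sqV v₀ t hv
      exact ⟨false, w', hw'⟩
  · exact ⟨fU, sqU.w⟩
  · refine ⟨(yon S).map fV' ≫ v, ?_⟩
    rw [Category.assoc]
    exact sqV.w

end Cover

section Assembly

variable {U V X Y : Sp S}

/-- The canonical morphism `A ×_X B ⟶ A ×_Y B`. -/
noncomputable abbrev mm {A B : Sp S} (g : X ⟶ Y) (α : A ⟶ X) (β : B ⟶ X) :
    pullback α β ⟶ pullback (α ≫ g) (β ≫ g) :=
  pullback.map α β (α ≫ g) (β ≫ g) (𝟙 A) (𝟙 B) g (Category.id_comp _).symm (Category.id_comp _).symm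

/-- The canonical morphism `A ×_Y B ⟶ X ×_Y X`. -/
noncomputable abbrev bb {A B : Sp S} (g : X ⟶ Y) (α : A ⟶ X) (β : B ⟶ X) :
    pullback (α ≫ g) (β ≫ g) ⟶ pullback g g :=
  pullback.map (α ≫ g) (β ≫ g) g g α β (𝟙 _) (Category.comp_id _) (Category.comp_id _)

theorem isPullback_mm {A B : Sp S} (g : X ⟶ Y) (α : A ⟶ X) (β : B ⟶ X) :
    IsPullback (pullback.fst α β ≫ α) (mm g α β) (pullback.diagonal g) (bb g α β) :=
  pullback_map_diagonal_isPullback α β g

/-- One piece of the covering family. -/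
theorem piece {A B : Sp S} (g : X ⟶ Y) (α : A ⟶ X) (β : B ⟶ X)
    (hm : RepWith @IsClosedImmersion (mm g α β)) {T W : Over S} (τ : (yon S).obj T ⟶ pullback g g)
    (p : W ⟶ T) (lα : (yon S).obj W ⟶ A) (lβ : (yon S).obj W ⟶ B)
    (hα : lα ≫ α = (yon S).map p ≫ τ ≫ pullback.fst g g)
    (hβ : lβ ≫ β = (yon S).map p ≫ τ ≫ pullback.snd g g) :
    ∃ (H Q : Sp S) (b : H ⟶ pullback g g) (b' : Q ⟶ X) (a' : Q ⟶ H),
      IsPullback b' a' (pullback.diagonal g) b ∧ RepWith @IsClosedImmersion a' ∧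
        ∃ t : (yon S).obj W ⟶ H, t ≫ b = (yon S).map p ≫ τ := by
  refine ⟨_, _, bb g α β, _, mm g α β, isPullback_mm g α β, hm, ?_⟩
  have hc : lα ≫ α ≫ g = lβ ≫ β ≫ g := by
    rw [← Category.assoc, hα, ← Category.assoc lβ, hβ]
    simp only [Category.assoc, pullback.condition]
  refine ⟨pullback.lift lα lβ hc, ?_⟩
  apply pullback.hom_ext
  · rw [Category.assoc, pullback.lift_fst, pullback.lift_fst_assoc, hα, Category.assoc]
  · rw [Category.assoc, pullback.lift_snd, pullback.lift_snd_assoc, hβ, Category.assoc]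

/-- Separatedness from the four pieces. -/
theorem isSeparatedMor_of_pieces (hX : IsAlgSpace X) (hV : IsAlgSpace V) (g : X ⟶ Y)
    (j : U ⟶ X) (f : V ⟶ X) (hsq : IsElemDistSq j f)
    (hUU : RepWith @IsClosedImmersion (mm g j j)) (hUV : RepWith @IsClosedImmersion (mm g j f))
    (hVU : RepWith @IsClosedImmersion (mm g f j)) (hVV : RepWith @IsClosedImmersion (mm g f f)) :
    IsSeparatedMor g := by
  show RepWith @IsClosedImmersion (pullback.diagonal g)
  refine repWith_of_family_base _ (representable_diagonal g hX.diag) @IsClosedImmersion ?_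
  intro T τ
  -- first level: lift the first coordinate
  obtain ⟨W₁, p₁, hp₁e, hp₁s, ⟨lU₁, hlU₁⟩, ⟨lV₁, hlV₁⟩⟩ :=
    exists_cover_lift hV j f hsq (τ ≫ pullback.fst g g)
  -- second level: lift the second coordinate on each piece
  have h2 : ∀ k₁ : Bool, ∃ (W₂ : Bool → Over S) (p₂ : ∀ k, W₂ k ⟶ W₁ k₁),
      (∀ k, Etale (p₂ k).left) ∧ (∀ t : (W₁ k₁).left, ∃ k, t ∈ Set.range (p₂ k).left) ∧
      (∃ l : (yon S).obj (W₂ true) ⟶ U,
        l ≫ j = (yon S).map (p₂ true) ≫ (yon S).map (p₁ k₁) ≫ τ ≫ pullback.snd g g) ∧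
      (∃ l : (yon S).obj (W₂ false) ⟶ V,
        l ≫ f = (yon S).map (p₂ false) ≫ (yon S).map (p₁ k₁) ≫ τ ≫ pullback.snd g g) :=
    fun k₁ => exists_cover_lift hV j f hsq ((yon S).map (p₁ k₁) ≫ τ ≫ pullback.snd g g)
  choose W₂ p₂ hp₂e hp₂s hlU₂ hlV₂ using h2
  refine ⟨ULift.{u} (Bool × Bool), fun k => W₂ k.down.1 k.down.2,
    fun k => p₂ k.down.1 k.down.2 ≫ p₁ k.down.1, ?_, ?_, ?_⟩
  · rintro ⟨k₁, k₂⟩
    haveI := hp₁e k₁
    haveI := hp₂e k₁ k₂
    have : Etale ((p₂ k₁ k₂).left ≫ (p₁ k₁).left) := inferInstance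
    exact ⟨inferInstanceAs (Flat ((p₂ k₁ k₂).left ≫ (p₁ k₁).left)),
      inferInstanceAs (LocallyOfFinitePresentation ((p₂ k₁ k₂).left ≫ (p₁ k₁).left))⟩
  · intro t
    obtain ⟨k₁, t₁, ht₁⟩ := hp₁s t
    obtain ⟨k₂, t₂, ht₂⟩ := hp₂s k₁ t₁
    refine ⟨⟨k₁, k₂⟩, t₂, ?_⟩
    show ((p₂ k₁ k₂).left ≫ (p₁ k₁).left) t₂ = t
    rw [Scheme.Hom.comp_apply, ht₂, ht₁]
  · rintro ⟨k₁, k₂⟩
    show ∃ (H Q : Sp S) (b : H ⟶ pullback g g) (b' : Q ⟶ X) (a' : Q ⟶ H),
      IsPullback b' a' (pullback.diagonal g) b ∧ RepWith @IsClosedImmersion a' ∧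
        ∃ t : (yon S).obj (W₂ k₁ k₂) ⟶ H, t ≫ b = (yon S).map (p₂ k₁ k₂ ≫ p₁ k₁) ≫ τ
    cases k₁ <;> cases k₂
    · -- V, V
      obtain ⟨l₂, hl₂⟩ := hlV₂ false
      refine piece g f f hVV τ _ ((yon S).map (p₂ false false) ≫ lV₁) l₂ ?_ ?_
      · rw [Category.assoc, hlV₁, Functor.map_comp, Category.assoc]
      · rw [hl₂, Functor.map_comp, Category.assoc]
    · -- V, U
      obtain ⟨l₂, hl₂⟩ := hlU₂ false
      refine piece g f j hVU τ _ ((yon S).map (p₂ false true) ≫ lV₁) l₂ ?_ ?_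
      · rw [Category.assoc, hlV₁, Functor.map_comp, Category.assoc]
      · rw [hl₂, Functor.map_comp, Category.assoc]
    · -- U, V
      obtain ⟨l₂, hl₂⟩ := hlV₂ true
      refine piece g j f hUV τ _ ((yon S).map (p₂ true false) ≫ lU₁) l₂ ?_ ?_
      · rw [Category.assoc, hlU₁, Functor.map_comp, Category.assoc]
      · rw [hl₂, Functor.map_comp, Category.assoc]
    · -- U, U
      obtain ⟨l₂, hl₂⟩ := hlU₂ true
      refine piece g j j hUU τ _ ((yon S).map (p₂ true true) ≫ lU₁) l₂ ?_ ?_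
      · rw [Category.assoc, hlU₁, Functor.map_comp, Category.assoc]
      · rw [hl₂, Functor.map_comp, Category.assoc]

end Assembly

section Pieces

variable {U V X Y : Sp S}

/-- The `(U, U)` piece. -/
theorem piece_UU (g : X ⟶ Y) (j : U ⟶ X) [Mono j] (hU : IsSeparatedMor (j ≫ g)) :
    RepWith @IsClosedImmersion (mm g j j) := by
  haveI : IsIso (pullback.diagonal j) := (pullback.isIso_diagonal_iff j).mpr inferInstance
  have h1 : pullback.diagonal j ≫ mm g j j = pullback.diagonal (j ≫ g) := by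
    apply pullback.hom_ext <;> simp
  have h2 : mm g j j = inv (pullback.diagonal j) ≫ pullback.diagonal (j ≫ g) := by
    rw [← h1, IsIso.inv_hom_id_assoc]
  rw [h2]
  exact ((RepWith (S := S) @IsClosedImmersion).cancel_left_of_respectsIso _ _).2 hU

/-- Transport along chosen fibre products. -/
theorem piece_of_iso {A B PX PY : Sp S} (g : X ⟶ Y) (α : A ⟶ X) (β : B ⟶ X)
    (pX : PX ⟶ A) (qX : PX ⟶ B) (hPX : IsPullback pX qX α β)
    (pY : PY ⟶ A) (qY : PY ⟶ B) (hPY : IsPullback pY qY (α ≫ g) (β ≫ g))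
    (c : PX ⟶ PY) (hc₁ : c ≫ pY = pX) (hc₂ : c ≫ qY = qX)
    (hc : RepWith @IsClosedImmersion c) : RepWith @IsClosedImmersion (mm g α β) := by
  have h1 : c ≫ hPY.isoPullback.hom = hPX.isoPullback.hom ≫ mm g α β := by
    apply pullback.hom_ext
    · simp [hc₁]
    · simp [hc₂]
  have h2 : mm g α β = hPX.isoPullback.inv ≫ c ≫ hPY.isoPullback.hom := by
    rw [h1, Iso.inv_hom_id_assoc]
  rw [h2]
  refine ((RepWith (S := S) @IsClosedImmersion).cancel_left_of_respectsIso _ _).2 ?_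
  exact ((RepWith (S := S) @IsClosedImmersion).cancel_right_of_respectsIso _ _).2 hc

/-- Symmetry of the pieces. -/
theorem piece_symm {A B : Sp S} (g : X ⟶ Y) (α : A ⟶ X) (β : B ⟶ X)
    (h : RepWith @IsClosedImmersion (mm g α β)) : RepWith @IsClosedImmersion (mm g β α) := by
  have h1 : mm g β α = (pullbackSymmetry β α).hom ≫ mm g α β ≫
      (pullbackSymmetry (α ≫ g) (β ≫ g)).hom := by
    apply pullback.hom_ext <;> simp
  rw [h1]
  refine ((RepWith (S := S) @IsClosedImmersion).cancel_left_of_respectsIso _ _).2 ?_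
  exact ((RepWith (S := S) @IsClosedImmersion).cancel_right_of_respectsIso _ _).2 h

/-- The comparison `U ×_X V ⟶ U ×_Y V` is a closed immersion when `U ⟶ X` is an open immersion,
`U ⟶ Y` is separated and the comparison is closed on points. -/
theorem repWith_isClosedImmersion_comparison {PX PY : Sp S} (hPYa : IsAlgSpace PY)
    (g : X ⟶ Y) (j : U ⟶ X) (f : V ⟶ X) (hj : RepWith @IsOpenImmersion j)
    (hU : IsSeparatedMor (j ≫ g))
    (pX : PX ⟶ U) (qX : PX ⟶ V) (hPX : IsPullback pX qX j f)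
    (pY : PY ⟶ U) (qY : PY ⟶ V) (hPY : IsPullback pY qY (j ≫ g) (f ≫ g))
    (c : PX ⟶ PY) (hc₂ : c ≫ qY = qX) (hcl : IsClosedMap (Points.map c)) :
    RepWith @IsClosedImmersion c := by
  have hqX : RepWith @IsOpenImmersion qX := repWith_of_isPullback @IsOpenImmersion hPX hj
  have hqY : RepWith @IsClosedImmersion (pullback.diagonal qY) :=
    repWith_diagonal_of_isPullback @IsClosedImmersion hPY hU
  have sq0 : IsPullback (pullback.fst qY qX) (pullback.snd qY qX) qY qX :=
    IsPullback.of_hasPullback qY qX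
  have hr : RepWith @IsClosedImmersion (pullback.diagonal (pullback.snd qY qX)) :=
    repWith_diagonal_of_isPullback @IsClosedImmersion sq0 hqY
  have ho : RepWith @IsOpenImmersion (pullback.fst qY qX) :=
    repWith_of_isPullback @IsOpenImmersion sq0.flip hqX
  obtain ⟨s, hs⟩ : ∃ s : PX ⟶ pullback qY qX,
      s = pullback.lift c (𝟙 PX) (by rw [hc₂, Category.id_comp]) := ⟨_, rfl⟩
  have hsr : s ≫ pullback.snd qY qX = 𝟙 PX := by rw [hs]; exact pullback.lift_snd _ _ _
  have hso : s ≫ pullback.fst qY qX = c := by rw [hs]; exact pullback.lift_fst _ _ _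
  have hsci : RepWith @IsClosedImmersion s :=
    repWith_section_of_repWith_diagonal @IsClosedImmersion _ s hsr hr
  have him : RepWith @IsImmersion c := by
    rw [← hso]
    refine repWith_comp @IsImmersion ?_ ?_
    · exact repWith_mono (fun _ _ m (hm : IsClosedImmersion m) => (inferInstance : IsImmersion m))
        hsci
    · exact repWith_mono (fun _ _ m (hm : IsOpenImmersion m) => (inferInstance : IsImmersion m)) ho
  exact repWith_isClosedImmersion_of_immersion_of_closed hPYa c him hcl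

end Pieces

/-- S10698. -/
theorem main {U V X Y PX PY QX QY : Space S} (g : X ⟶ Y)
    (j : U ⟶ X) (f : V ⟶ X) (hsq : IsElemDistSq j.hom f.hom)
    (hU : IsSeparatedMor (j ≫ g).hom) (hV : IsSeparatedMor (f ≫ g).hom)
    (pX : PX ⟶ U) (qX : PX ⟶ V) (hPX : IsPullback pX.hom qX.hom j.hom f.hom)
    (pY : PY ⟶ U) (qY : PY ⟶ V) (hPY : IsPullback pY.hom qY.hom (j ≫ g).hom (f ≫ g).hom)
    (c : PX ⟶ PY) (hc₁ : c ≫ pY = pX) (hc₂ : c ≫ qY = qX) (hcl : IsClosedMor c.hom)
    (rX₁ rX₂ : QX ⟶ V) (hQX : IsPullback rX₁.hom rX₂.hom f.hom f.hom)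
    (rY₁ rY₂ : QY ⟶ V) (hQY : IsPullback rY₁.hom rY₂.hom (f ≫ g).hom (f ≫ g).hom)
    (d : QX ⟶ QY) (hd₁ : d ≫ rY₁ = rX₁) (hd₂ : d ≫ rY₂ = rX₂)
    (hdcl : RepWith @IsClosedImmersion d.hom) : IsSeparatedMor g.hom := by
  have hj : RepWith @IsOpenImmersion j.hom := hsq.1
  haveI : Mono j.hom := mono_of_repWith_monomorphisms j.hom
    (repWith_mono (fun _ _ m (hm : IsOpenImmersion m) => (inferInstance : Mono m)) hj)
  have hc₁' : c.hom ≫ pY.hom = pX.hom := congrArg (fun m => m.hom) hc₁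
  have hc₂' : c.hom ≫ qY.hom = qX.hom := congrArg (fun m => m.hom) hc₂
  have hd₁' : d.hom ≫ rY₁.hom = rX₁.hom := congrArg (fun m => m.hom) hd₁
  have hd₂' : d.hom ≫ rY₂.hom = rX₂.hom := congrArg (fun m => m.hom) hd₂
  have hcci : RepWith @IsClosedImmersion c.hom :=
    repWith_isClosedImmersion_comparison PY.property g.hom j.hom f.hom hj hU pX.hom qX.hom hPX
      pY.hom qY.hom hPY c.hom hc₂' hcl
  have hUV : RepWith @IsClosedImmersion (mm g.hom j.hom f.hom) :=
    piece_of_iso g.hom j.hom f.hom pX.hom qX.hom hPX pY.hom qY.hom hPY c.hom hc₁' hc₂' hcci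
  have hVV : RepWith @IsClosedImmersion (mm g.hom f.hom f.hom) :=
    piece_of_iso g.hom f.hom f.hom rX₁.hom rX₂.hom hQX rY₁.hom rY₂.hom hQY d.hom hd₁' hd₂' hdcl
  exact isSeparatedMor_of_pieces X.property V.property g.hom j.hom f.hom hsq
    (piece_UU g.hom j.hom hU) hUV (piece_symm g.hom j.hom f.hom hUV) hVV

end Groth.Agent.Helper2.ElemDistSqSep
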