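import Mathlib
import Groth.Prelude.Def_AlgSpDec
import Groth.Agent.Lib.Helper2.AlgSp.FieldFibre
import Groth.Agent.Lib.Helper2.AlgSp.Diag
import Groth.Agent.Lib.Helper2.AlgSp.Mor2
import Groth.Agent.Lib.Helper2.AlgSp.EtNbhd

/-!
# Elementary etale neighbourhoods (helper2)

The category of elementary etale neighbourhoods of a point of an algebraic space is cofiltered.
-/

set_option autoImplicit false

open CategoryTheory CategoryTheory.Limits AlgebraicGeometry Opposite AlgSp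

namespace Groth.Agent.Helper2.ElemNbhd
open Groth.Agent.Helper2.FieldFibre Groth.Agent.Helper2.AlgSpBasic
universe u
variable {S : Scheme.{u}}

/-- A morphism of schemes over `S` sending `u` to `v` induces a morphism of residue field spectra. -/
theorem exists_resHom {U V : Over S} (h : U ⟶ V) (u : ↥U.left) (v : ↥V.left) (e : h.left u = v) :
    ∃ r : resOver U u ⟶ resOver V v, resι U u ≫ h = r ≫ resι V v := by
  subst e
  refine ⟨Over.homMk (Spec.map (h.left.residueFieldMap u)) ?_, ?_⟩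
  · change Spec.map (h.left.residueFieldMap u) ≫ (V.left.fromSpecResidueField _ ≫ V.hom) =
      U.left.fromSpecResidueField u ≫ U.hom
    rw [← Category.assoc, Scheme.Hom.SpecMap_residueFieldMap_fromSpecResidueField, Category.assoc,
      Over.w h]
  · ext
    change U.left.fromSpecResidueField u ≫ h.left =
      Spec.map (h.left.residueFieldMap u) ≫ V.left.fromSpecResidueField _
    rw [Scheme.Hom.SpecMap_residueFieldMap_fromSpecResidueField]

/-- The residue field point of a chart through which jointly monic maps to elementary charts pass is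
a monomorphism. -/
theorem mono_res_of_joint {X : Sp S} {U' : Over S} (a' : (yon S).obj U' ⟶ X) (v : ↥U'.left)
    {ι : Type} (U : ι → Over S) (a : ∀ i, (yon S).obj (U i) ⟶ X) (h : ∀ i, U' ⟶ U i)
    (hc : ∀ i, (yon S).map (h i) ≫ a i = a')
    (hm : ∀ i, Mono ((yon S).map (resι (U i) ((h i).left v)) ≫ a i))
    (hj : ∀ (W : Over S) (f g : W ⟶ U'), (∀ i, f ≫ h i = g ≫ h i) → f = g) :
    Mono ((yon S).map (resι U' v) ≫ a') := by
  refine ⟨fun {A} p q hpq => hom_ext_yon p q fun T s => ?_⟩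
  obtain ⟨f, hf⟩ := (yon S).map_surjective (s ≫ p)
  obtain ⟨g, hg⟩ := (yon S).map_surjective (s ≫ q)
  rw [← hf, ← hg]
  congr 1
  have key : f ≫ resι U' v = g ≫ resι U' v := by
    apply hj
    intro i
    obtain ⟨r, hr⟩ := exists_resHom (h i) v _ rfl
    haveI := hm i
    have e1 : (yon S).map (f ≫ r) ≫ ((yon S).map (resι (U i) ((h i).left v)) ≫ a i) =
        (yon S).map (g ≫ r) ≫ ((yon S).map (resι (U i) ((h i).left v)) ≫ a i) := by
      have h1 : ∀ k : T ⟶ resOver U' v, (yon S).map (k ≫ r) ≫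
          ((yon S).map (resι (U i) ((h i).left v)) ≫ a i) =
          (yon S).map k ≫ (yon S).map (resι U' v) ≫ a' := by
        intro k
        rw [← hc i, ← Category.assoc ((yon S).map (resι U' v)), ← Functor.map_comp, hr,
          Functor.map_comp, Functor.map_comp, Category.assoc, Category.assoc]
      rw [h1, h1, hf, hg, Category.assoc, Category.assoc, hpq]
    have e2 : f ≫ r = g ≫ r := (yon S).map_injective ((cancel_mono _).1 e1)
    rw [Category.assoc, Category.assoc, hr, ← Category.assoc, ← Category.assoc, e2]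
  exact (cancel_mono _).1 key

theorem mono_toHom_iff {X : Sp S} {U : Over S} (a : (yon S).obj U ⟶ X) (u : ↥U.left) :
    Mono (FieldPt.ofPt a u).toHom ↔ Mono ((yon S).map (resι U u) ≫ a) := by
  rw [FieldPt.toHom_ofPt]
  exact Iff.rfl

/-- Two elementary etale neighbourhoods are dominated by a third. -/
theorem exists_common {X : Sp S} (hX : IsAlgSpace X) (x : Points X) {U₁ U₂ : Over S}
    (a₁ : (yon S).obj U₁ ⟶ X) (a₂ : (yon S).obj U₂ ⟶ X) (u₁ : ↥U₁.left) (u₂ : ↥U₂.left)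
    (h₁ : IsElemEtaleNbhd a₁ u₁ x) (h₂ : IsElemEtaleNbhd a₂ u₂ x) :
    ∃ (U : Over S) (a : (yon S).obj U ⟶ X) (v : ↥U.left) (k₁ : U ⟶ U₁) (k₂ : U ⟶ U₂),
      IsElemEtaleNbhd a v x ∧ (yon S).map k₁ ≫ a₁ = a ∧ (yon S).map k₂ ≫ a₂ = a ∧
        k₁.left v = u₁ ∧ k₂.left v = u₂ := by
  obtain ⟨T, t₁, t₂, sq⟩ := exists_isPullback_yon hX.diag a₁ a₂
  obtain ⟨v, hv1, hv2⟩ := exists_point_of_isPullback_yon a₁ a₂ t₁ t₂ sq u₁ u₂
    (h₁.ofPt_eq.trans h₂.ofPt_eq.symm)
  refine ⟨T, (yon S).map t₁ ≫ a₁, v, t₁, t₂, ⟨?_, ?_, ?_⟩, rfl, sq.w.symm, hv1, hv2⟩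
  · exact repWith_comp @Etale (repWith_of_isPullback @Etale sq.flip h₂.etale) h₁.etale
  · rw [ofPt_yon_map_comp, hv1, h₁.ofPt_eq]
  · rw [mono_toHom_iff]
    have m₁ := (mono_toHom_iff a₁ u₁).1 h₁.mono
    have m₂ := (mono_toHom_iff a₂ u₂).1 h₂.mono
    rw [← hv1] at m₁
    rw [← hv2] at m₂
    refine mono_res_of_joint ((yon S).map t₁ ≫ a₁) v (fun b : Bool => Bool.casesOn b U₂ U₁)
      (fun b => Bool.casesOn b a₂ a₁) (fun b => Bool.casesOn b t₂ t₁) ?_ ?_ ?_
    · intro b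
      cases b
      · exact sq.w.symm
      · rfl
    · intro b
      cases b
      · exact m₂
      · exact m₁
    · intro W f g hfg
      apply (yon S).map_injective
      apply sq.hom_ext
      · rw [← Functor.map_comp, ← Functor.map_comp]
        exact congrArg _ (hfg true)
      · rw [← Functor.map_comp, ← Functor.map_comp]
        exact congrArg _ (hfg false)

/-- Uniqueness of the point of `U ×_X U` over `(u, u)` when the residue field point at `u` is a
monomorphism: it is the diagonal point. -/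
theorem eq_diag_of_mono {X : Sp S} {U T : Over S} (a : (yon S).obj U ⟶ X) (u : ↥U.left)
    (hm : Mono ((yon S).map (resι U u) ≫ a)) (t₁ t₂ : T ⟶ U)
    (sq : IsPullback ((yon S).map t₁) ((yon S).map t₂) a a) (δ : U ⟶ T) (hδ₁ : δ ≫ t₁ = 𝟙 U)
    (hδ₂ : δ ≫ t₂ = 𝟙 U) (τ : ↥T.left) (h1 : t₁.left τ = u) (h2 : t₂.left τ = u) :
    τ = δ.left u := by
  obtain ⟨r₁, hr₁⟩ := exists_resHom t₁ τ u h1
  obtain ⟨r₂, hr₂⟩ := exists_resHom t₂ τ u h2
  have e1 : (yon S).map r₁ ≫ ((yon S).map (resι U u) ≫ a) =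
      (yon S).map r₂ ≫ ((yon S).map (resι U u) ≫ a) := by
    rw [← Category.assoc, ← Category.assoc, ← Functor.map_comp, ← Functor.map_comp, ← hr₁, ← hr₂,
      Functor.map_comp, Functor.map_comp, Category.assoc, Category.assoc, sq.w]
  have e2 : r₁ = r₂ := (yon S).map_injective ((cancel_mono _).1 e1)
  have e3 : resι T τ = (r₁ ≫ resι U u) ≫ δ := by
    apply (yon S).map_injective
    apply sq.hom_ext
    · rw [← Functor.map_comp, ← Functor.map_comp, Category.assoc, hδ₁, Category.comp_id, hr₁]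
    · rw [← Functor.map_comp, ← Functor.map_comp, Category.assoc, hδ₂, Category.comp_id, hr₂, e2]
  obtain ⟨s⟩ : Nonempty ↥(Spec (T.left.residueField τ)) := inferInstance
  have e4 : (resι T τ).left s = τ := Scheme.fromSpecResidueField_apply _ s
  rw [← e4, e3]
  change δ.left ((resι U u).left (r₁.left s)) = δ.left u
  congr 1
  exact Scheme.fromSpecResidueField_apply _ _

/-- Two parallel morphisms of elementary etale neighbourhoods are equalized by a third. -/
theorem exists_equalizing {X : Sp S} (hX : IsAlgSpace X) (x : Points X) {U₁ U₂ : Over S}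
    (a₁ : (yon S).obj U₁ ⟶ X) (a₂ : (yon S).obj U₂ ⟶ X) (u₁ : ↥U₁.left) (u₂ : ↥U₂.left)
    (b c : U₁ ⟶ U₂) (h₁ : IsElemEtaleNbhd a₁ u₁ x) (h₂ : IsElemEtaleNbhd a₂ u₂ x)
    (hb : (yon S).map b ≫ a₂ = a₁) (hc : (yon S).map c ≫ a₂ = a₁) (hbu : b.left u₁ = u₂)
    (hcu : c.left u₁ = u₂) :
    ∃ (U : Over S) (a : (yon S).obj U ⟶ X) (v : ↥U.left) (k : U ⟶ U₁),
      IsElemEtaleNbhd a v x ∧ (yon S).map k ≫ a₁ = a ∧ k.left v = u₁ ∧ k ≫ b = k ≫ c := by
  obtain ⟨T, t₁, t₂, sq⟩ := exists_isPullback_yon hX.diag a₂ a₂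
  obtain ⟨δ, hδ⟩ := (yon S).map_surjective (sq.lift (𝟙 _) (𝟙 _) rfl)
  have hδ₁ : δ ≫ t₁ = 𝟙 U₂ := (yon S).map_injective (by
    rw [Functor.map_comp, hδ, sq.lift_fst, CategoryTheory.Functor.map_id])
  have hδ₂ : δ ≫ t₂ = 𝟙 U₂ := (yon S).map_injective (by
    rw [Functor.map_comp, hδ, sq.lift_snd, CategoryTheory.Functor.map_id])
  obtain ⟨β, hβ⟩ := (yon S).map_surjective (sq.lift ((yon S).map b) ((yon S).map c)
    (hb.trans hc.symm))
  have hβ₁ : β ≫ t₁ = b := (yon S).map_injective (by rw [Functor.map_comp, hβ, sq.lift_fst])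
  have hβ₂ : β ≫ t₂ = c := (yon S).map_injective (by rw [Functor.map_comp, hβ, sq.lift_snd])
  haveI : Etale t₁.left :=
    (repWith_yon_map_iff @Etale t₁).1 (repWith_of_isPullback @Etale sq.flip h₂.etale)
  have hδl₁ : δ.left ≫ t₁.left = 𝟙 U₂.left := congrArg Over.Hom.left hδ₁
  have hδl₂ : δ.left ≫ t₂.left = 𝟙 U₂.left := congrArg Over.Hom.left hδ₂
  haveI : IsOpenImmersion δ.left := Groth.Agent.Helper2.EtNbhd.isOpenImmersion_of_section δ.left t₁.left hδl₁
  have hm₂ := (mono_toHom_iff a₂ u₂).1 h₂.mono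
  have hmem : β.left u₁ = δ.left u₂ := by
    apply eq_diag_of_mono a₂ u₂ hm₂ t₁ t₂ sq δ hδ₁ hδ₂
    · rw [← hβ₁] at hbu; exact hbu
    · rw [← hβ₂] at hcu; exact hcu
  let E : U₁.left.Opens := β.left ⁻¹ᵁ δ.left.opensRange
  have hu₁E : u₁ ∈ E := by
    change β.left u₁ ∈ Set.range δ.left
    rw [hmem]
    exact ⟨u₂, rfl⟩
  let k : Over.mk (E.ι ≫ U₁.hom) ⟶ U₁ := Over.homMk E.ι rfl
  haveI : Mono k := by
    apply (Over.forget S).mono_of_mono_map
    change Mono E.ι
    infer_instance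
  have hsub : Set.range (E.ι ≫ β.left) ⊆ Set.range δ.left := by
    rintro _ ⟨y, rfl⟩
    exact y.2
  obtain ⟨l, hfac⟩ : ∃ l, l ≫ δ.left = E.ι ≫ β.left :=
    ⟨_, IsOpenImmersion.lift_fac δ.left (E.ι ≫ β.left) hsub⟩
  have hkbc : k ≫ b = k ≫ c := by
    ext
    change E.ι ≫ b.left = E.ι ≫ c.left
    have eb : E.ι ≫ b.left = l := by
      rw [← hβ₁]
      change E.ι ≫ β.left ≫ t₁.left = _
      rw [← Category.assoc, ← hfac, Category.assoc, hδl₁, Category.comp_id]
    have ec : E.ι ≫ c.left = l := by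
      rw [← hβ₂]
      change E.ι ≫ β.left ≫ t₂.left = _
      rw [← Category.assoc, ← hfac, Category.assoc, hδl₂, Category.comp_id]
    rw [eb, ec]
  have hkv : k.left (⟨u₁, hu₁E⟩ : ↥E) = u₁ := rfl
  refine ⟨Over.mk (E.ι ≫ U₁.hom), (yon S).map k ≫ a₁, ⟨u₁, hu₁E⟩, k, ⟨?_, ?_, ?_⟩, rfl, hkv, hkbc⟩
  · refine repWith_comp @Etale ((repWith_yon_map_iff @Etale k).2 ?_) h₁.etale
    change Etale E.ι
    infer_instance
  · rw [ofPt_yon_map_comp, hkv, h₁.ofPt_eq]
  · rw [mono_toHom_iff]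
    have m₁ := (mono_toHom_iff a₁ u₁).1 h₁.mono
    refine mono_res_of_joint ((yon S).map k ≫ a₁) _ (fun _ : Unit => U₁) (fun _ => a₁)
      (fun _ => k) (fun _ => rfl) (fun _ => ?_) ?_
    · rw [hkv]; exact m₁
    · intro W f g hfg
      exact (cancel_mono k).1 (hfg ())

end Groth.Agent.Helper2.ElemNbhd
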