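import Mathlib
import Groth.Prelude.Def_AlgSpDec
import Groth.Prelude.Def_AlgSpEt
import Groth.Prelude.Def_Hensel
import Groth.Agent.Lib.Helper2.AlgSp.ElemNbhd
import Groth.Agent.Lib.Helper2.Sch.ClosedPointImm
import Groth.Agent.Lib.Helper2.Sch.HensEtaleStalk

/-!
# Morphisms of elementary etale neighbourhoods and henselizations (helper2)
-/

set_option autoImplicit false

open CategoryTheory CategoryTheory.Limits AlgebraicGeometry Opposite AlgSp

namespace Groth.Agent.Helper2.ElemNbhdHens
open Groth.Agent.Helper2.FieldFibre Groth.Agent.Helper2.AlgSpBasic Groth.Agent.Helper2.ElemNbhd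
universe u
variable {S : Scheme.{u}}

/-- A morphism between representable etale charts is etale. -/
theorem etale_left_of_comm {X : Sp S} {U U' : Over S} (a : (yon S).obj U ⟶ X)
    (a' : (yon S).obj U' ⟶ X) (g : U' ⟶ U) (hg : (yon S).map g ≫ a = a')
    (ha : RepWith @Etale a) (ha' : RepWith @Etale a') : Etale g.left :=
  EtOver.etale_left (EtOver.homMk (E := EtOver.mk a' ha') (E' := EtOver.mk a ha) g hg)

/-- A morphism of elementary etale neighbourhoods induces a bijection of residue fields. -/
theorem bijective_residueFieldMap_of_mono {X : Sp S} {U U' : Over S} (a : (yon S).obj U ⟶ X)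
    (a' : (yon S).obj U' ⟶ X) (g : U' ⟶ U) (u' : ↥U'.left)
    (hg : (yon S).map g ≫ a = a') (hm' : Mono (FieldPt.ofPt a' u').toHom) :
    Function.Bijective (g.left.residueFieldMap u').hom := by
  obtain ⟨r, hrl, hr⟩ : ∃ r : resOver U' u' ⟶ resOver U (g.left u'),
      r.left = Spec.map (g.left.residueFieldMap u') ∧ resι U' u' ≫ g = r ≫ resι U (g.left u') := by
    refine ⟨Over.homMk (Spec.map (g.left.residueFieldMap u')) ?_, rfl, ?_⟩
    · change Spec.map (g.left.residueFieldMap u') ≫ (U.left.fromSpecResidueField _ ≫ U.hom) =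
        U'.left.fromSpecResidueField u' ≫ U'.hom
      rw [← Category.assoc, Scheme.Hom.SpecMap_residueFieldMap_fromSpecResidueField, Category.assoc,
        Over.w g]
    · ext
      change U'.left.fromSpecResidueField u' ≫ g.left =
        Spec.map (g.left.residueFieldMap u') ≫ U.left.fromSpecResidueField _
      rw [Scheme.Hom.SpecMap_residueFieldMap_fromSpecResidueField]
  have h1 : Mono ((yon S).map (resι U' u') ≫ a') := (mono_toHom_iff a' u').1 hm'
  have h2 : (yon S).map (resι U' u') ≫ a' =
      (yon S).map r ≫ ((yon S).map (resι U (g.left u')) ≫ a) := by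
    rw [← hg, ← Category.assoc, ← Functor.map_comp, hr, Functor.map_comp, Category.assoc]
  rw [h2] at h1
  haveI : Mono ((yon S).map r) := mono_of_mono _ ((yon S).map (resι U (g.left u')) ≫ a)
  haveI : Mono r := (yon S).mono_of_mono_map inferInstance
  haveI : Mono r.left := inferInstance
  haveI : Mono (Spec.map (g.left.residueFieldMap u')) := hrl ▸ ‹Mono r.left›
  exact EtaleField.bijective_of_mono_SpecMap (K := U.left.residueField (g.left u'))
    (L := U'.left.residueField u') (g.left.residueFieldMap u')

/-- **Independence of the henselization from the elementary etale neighbourhood.** -/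
theorem isHenselization_of_elemNbhd_hom {X : Sp S} {U U' : Over S} (a : (yon S).obj U ⟶ X)
    (a' : (yon S).obj U' ⟶ X) (g : U' ⟶ U) (u' : ↥U'.left)
    (hg : (yon S).map g ≫ a = a') (hae : RepWith @Etale a) (hae' : RepWith @Etale a')
    (hm' : Mono (FieldPt.ofPt a' u').toHom)
    (R : Type u) [CommRing R] [IsLocalRing R]
    [Algebra ↥(U'.left.presheaf.stalk u') R] [IsLocalHom (algebraMap ↥(U'.left.presheaf.stalk u') R)]
    [Hensel.IsHenselization ↥(U'.left.presheaf.stalk u') R] :
    letI : Algebra ↥(U.left.presheaf.stalk (g.left.base u')) R :=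
      ((algebraMap ↥(U'.left.presheaf.stalk u') R).comp (g.left.stalkMap u').hom).toAlgebra
    ∃ (_ : IsLocalHom (algebraMap ↥(U.left.presheaf.stalk (g.left.base u')) R)),
      Hensel.IsHenselization ↥(U.left.presheaf.stalk (g.left.base u')) R := by
  haveI : Etale g.left := etale_left_of_comm a a' g hg hae hae'
  have hb := bijective_residueFieldMap_of_mono a a' g u' hg hm'
  exact HensEtaleStalk.isHenselization_stalk_of_etale g.left u' hb.2 R

end Groth.Agent.Helper2.ElemNbhdHens
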