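import Mathlib
import Groth.Prelude
import Groth.Agent.Lib.Helper2.AlgSp.ElemNbhdHens
import Groth.Agent.Lib.Helper2.AlgSp.Points
import Groth.Agent.Lib.Lead.GUnib19
import Groth.Agent.Lib.Helper8.HensGU9
import Groth.Agent.Lib.Helper7.SHens.HensModel

/-!
# Branches at a point of a decent space via elementary etale neighbourhoods (helper2)
-/

set_option autoImplicit false

open CategoryTheory CategoryTheory.Limits AlgebraicGeometry Opposite AlgSp

namespace Groth.Agent.Helper2.ElemNbhdBranches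
open Groth.Agent.Helper2.FieldFibre Groth.Agent.Helper2.AlgSpBasic Groth.Agent.Helper2.ElemNbhd
open Groth.Agent.Helper2.ElemNbhdHens
universe u
variable {S : Scheme.{u}}

/-- The number of branches does not change along a morphism of elementary etale
neighbourhoods. -/
theorem numBranchesAt_eq_of_hom {X : Sp S} {U U' : Over S} (a : (yon S).obj U ⟶ X)
    (a' : (yon S).obj U' ⟶ X) (g : U' ⟶ U) (u' : ↥U'.left)
    (hg : (yon S).map g ≫ a = a') (hae : RepWith @Etale a) (hae' : RepWith @Etale a')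
    (hm' : Mono (FieldPt.ofPt a' u').toHom) :
    Brnch.numBranchesAt U'.left u' = Brnch.numBranchesAt U.left (g.left u') := by
  let A' := U'.left.presheaf.stalk u'
  let R := Groth.Agent.Helper7.SHens.HModel A'
  haveI hH : Hensel.IsHenselization A' R := Groth.Agent.Helper7.SHens.isHenselization_HModel A'
  obtain ⟨hloc, hH2⟩ := isHenselization_of_elemNbhd_hom a a' g u' hg hae hae' hm' R
  letI : Algebra ↥(U.left.presheaf.stalk (g.left.base u')) R :=
      ((algebraMap ↥(U'.left.presheaf.stalk u') R).comp (g.left.stalkMap u').hom).toAlgebra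
  have h1 := Groth.Agent.Helper8.HensGU.card_minimalPrimes_henselization A' R
  have h2 := Groth.Agent.Helper8.HensGU.card_minimalPrimes_henselization
    (U.left.presheaf.stalk (g.left.base u')) R
  exact h1.symm.trans h2

/-- All elementary etale neighbourhoods of a point have the same number of branches. -/
theorem numBranchesAt_eq {X : Sp S} (hX : IsAlgSpace X) (x : Points X) {U₁ U₂ : Over S}
    (a₁ : (yon S).obj U₁ ⟶ X) (a₂ : (yon S).obj U₂ ⟶ X) (u₁ : ↥U₁.left) (u₂ : ↥U₂.left)
    (h₁ : IsElemEtaleNbhd a₁ u₁ x) (h₂ : IsElemEtaleNbhd a₂ u₂ x) :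
    Brnch.numBranchesAt U₁.left u₁ = Brnch.numBranchesAt U₂.left u₂ := by
  obtain ⟨U, a, v, k₁, k₂, h, e₁, e₂, rfl, rfl⟩ := exists_common hX x a₁ a₂ u₁ u₂ h₁ h₂
  rw [← numBranchesAt_eq_of_hom a₁ a k₁ v e₁ h₁.etale h.etale h.mono,
    ← numBranchesAt_eq_of_hom a₂ a k₂ v e₂ h₂.etale h.etale h.mono]

/-- A scheme-theoretic elementary etale neighbourhood of an elementary etale neighbourhood is an
elementary etale neighbourhood. -/
theorem isElemEtaleNbhd_comp {X : Sp S} (x : Points X) {U : Over S} (a : (yon S).obj U ⟶ X)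
    (u : ↥U.left) (h : IsElemEtaleNbhd a u x) {V : Scheme.{u}} (g : V ⟶ U.left) (v : ↥V)
    (hg : Hens2.IsEtaleNbhd g v u) :
    IsElemEtaleNbhd (U := Over.mk (g ≫ U.hom))
      ((yon S).map (Over.homMk g rfl : Over.mk (g ≫ U.hom) ⟶ U) ≫ a) v x := by
  obtain rfl : g v = u := hg.base_eq
  haveI := hg.etale
  set V' : Over S := Over.mk (g ≫ U.hom) with hV'
  set g' : V' ⟶ U := Over.homMk g rfl with hg'
  refine ⟨?_, ?_, ?_⟩
  · exact repWith_comp @Etale ((repWith_yon_map_iff @Etale g').2 hg.etale) h.etale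
  · rw [ofPt_yon_map_comp]
    exact h.ofPt_eq
  · rw [mono_toHom_iff]
    have m := (mono_toHom_iff a (g v)).1 h.mono
    obtain ⟨r, hrl, hr⟩ : ∃ r : resOver V' v ⟶ resOver U (g v),
        r.left = Spec.map (g.residueFieldMap v) ∧ resι V' v ≫ g' = r ≫ resι U (g v) := by
      refine ⟨Over.homMk (Spec.map (g.residueFieldMap v)) ?_, rfl, ?_⟩
      · change Spec.map (g.residueFieldMap v) ≫ (U.left.fromSpecResidueField _ ≫ U.hom) =
          V.fromSpecResidueField v ≫ (g ≫ U.hom)
        rw [← Category.assoc, Scheme.Hom.SpecMap_residueFieldMap_fromSpecResidueField,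
          Category.assoc]
      · ext
        change V.fromSpecResidueField v ≫ g =
          Spec.map (g.residueFieldMap v) ≫ U.left.fromSpecResidueField _
        rw [Scheme.Hom.SpecMap_residueFieldMap_fromSpecResidueField]
    haveI : IsIso (g.residueFieldMap v) :=
      (ConcreteCategory.isIso_iff_bijective _).2 hg.residue_bijective
    haveI : IsIso r.left := hrl ▸ (inferInstance : IsIso (Spec.map (g.residueFieldMap v)))
    haveI : IsIso ((Over.forget S).map r) := ‹IsIso r.left›
    haveI : IsIso r := isIso_of_reflects_iso r (Over.forget S)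
    have h2 : (yon S).map (resι V' v) ≫ (yon S).map g' ≫ a =
        (yon S).map r ≫ ((yon S).map (resι U (g v)) ≫ a) := by
      rw [← Category.assoc, ← Functor.map_comp, hr, Functor.map_comp, Category.assoc]
    rw [h2]
    exact mono_comp _ _

variable {X : Sp S} (hX : IsAlgSpace X) (x : Points X)

/-- The number of irreducible components through the point of an elementary etale neighbourhood
is at most the number of branches. -/
theorem encard_components_le_numBranchesAt (U : Scheme.{u}) (u : ↥U) :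
    {Z : Set ↥U | Z ∈ irreducibleComponents ↥U ∧ u ∈ Z}.encard ≤ Brnch.numBranchesAt U u := by
  rw [Groth.Agent.Lead.GUnib.S9752_main U u]
  have hid : Hens2.IsEtaleNbhd (𝟙 U) u u := by
    refine ⟨inferInstance, rfl, ?_⟩
    rw [Scheme.residueFieldMap_id]
    exact Function.bijective_id
  exact le_iSup₂_of_le U (𝟙 U) (le_iSup₂_of_le u hid le_rfl)

include hX in
theorem components_conditions_iff (n : ℕ) (hn : 1 ≤ n) {U₀ : Over S}
    (a₀ : (yon S).obj U₀ ⟶ X) (u₀ : ↥U₀.left) (h₀ : IsElemEtaleNbhd a₀ u₀ x) :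
    ((∀ (U : Over S) (a : (yon S).obj U ⟶ X) (u : ↥U.left), IsElemEtaleNbhd a u x →
        {Z : Set ↥U.left | Z ∈ irreducibleComponents ↥U.left ∧ u ∈ Z}.encard ≤ n) ∧
      (∃ (U : Over S) (a : (yon S).obj U ⟶ X) (u : ↥U.left), IsElemEtaleNbhd a u x ∧
        {Z : Set ↥U.left | Z ∈ irreducibleComponents ↥U.left ∧ u ∈ Z}.encard = n)) ↔
    Brnch.numBranchesAt U₀.left u₀ = n := by
  constructor
  · rintro ⟨hall, U, a, u, h, he⟩
    apply le_antisymm
    · rw [Groth.Agent.Lead.GUnib.S9752_main U₀.left u₀]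
      refine iSup_le fun V => iSup_le fun g => iSup_le fun v => iSup_le fun hg => ?_
      exact hall (Over.mk (g ≫ U₀.hom)) _ v (isElemEtaleNbhd_comp x a₀ u₀ h₀ g v hg)
    · rw [← he, numBranchesAt_eq hX x a₀ a u₀ u h₀ h]
      exact encard_components_le_numBranchesAt U.left u
  · intro hN
    refine ⟨fun U a u h => ?_, ?_⟩
    · rw [← hN, numBranchesAt_eq hX x a₀ a u₀ u h₀ h]
      exact encard_components_le_numBranchesAt U.left u
    · by_contra hcon
      push Not at hcon
      obtain ⟨k, rfl⟩ : ∃ k : ℕ, n = k + 1 := ⟨n - 1, by omega⟩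
      have hle : Brnch.numBranchesAt U₀.left u₀ ≤ (k : ℕ∞) := by
        rw [Groth.Agent.Lead.GUnib.S9752_main U₀.left u₀]
        refine iSup_le fun V => iSup_le fun g => iSup_le fun v => iSup_le fun hg => ?_
        have hE := isElemEtaleNbhd_comp x a₀ u₀ h₀ g v hg
        have h1 : {Z : Set ↥V | Z ∈ irreducibleComponents ↥V ∧ v ∈ Z}.encard ≤
            Brnch.numBranchesAt U₀.left u₀ := by
          rw [numBranchesAt_eq hX x (U₂ := Over.mk (g ≫ U₀.hom)) a₀ _ u₀ v h₀ hE]
          exact encard_components_le_numBranchesAt V v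
        rw [hN] at h1
        have h2 := hcon (Over.mk (g ≫ U₀.hom)) _ v hE
        have h3 : {Z : Set ↥V | Z ∈ irreducibleComponents ↥V ∧ v ∈ Z}.encard <
            ((k : ℕ) : ℕ∞) + 1 := by
          refine lt_of_le_of_ne ?_ ?_
          · simpa using h1
          · simpa using h2
        exact (ENat.lt_add_one_iff (ENat.natCast_ne_top k)).1 h3
      rw [hN] at hle
      have : ((k + 1 : ℕ) : ℕ∞) ≤ (k : ℕ∞) := hle
      rw [Nat.cast_le] at this
      omega

include hX in
theorem branches_conditions_iff (n : ℕ∞) {U₀ : Over S}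
    (a₀ : (yon S).obj U₀ ⟶ X) (u₀ : ↥U₀.left) (h₀ : IsElemEtaleNbhd a₀ u₀ x) :
    ((∀ (U : Over S) (a : (yon S).obj U ⟶ X) (u : ↥U.left), IsElemEtaleNbhd a u x →
        Brnch.numBranchesAt U.left u ≤ n) ∧
      (∃ (U : Over S) (a : (yon S).obj U ⟶ X) (u : ↥U.left), IsElemEtaleNbhd a u x ∧
        Brnch.numBranchesAt U.left u = n)) ↔
    Brnch.numBranchesAt U₀.left u₀ = n := by
  constructor
  · rintro ⟨-, U, a, u, h, he⟩
    rw [← he]
    exact numBranchesAt_eq hX x a₀ a u₀ u h₀ h
  · intro hN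
    refine ⟨fun U a u h => ?_, U₀, a₀, u₀, h₀, hN⟩
    rw [← hN, numBranchesAt_eq hX x a₀ a u₀ u h₀ h]

end Groth.Agent.Helper2.ElemNbhdBranches
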