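import Mathlib
import Groth.Agent.Lib.Helper2.AlgSp.QuotOpenSch

/-!
# Restriction of a flat lfp equivalence relation along a flat lfp map gives an open immersion
of quotient sheaves (helper2)
-/

set_option autoImplicit false
open CategoryTheory CategoryTheory.Limits AlgebraicGeometry Opposite AlgSp
open Groth.Agent.Helper2.AlgSpBasic

namespace Groth.Agent.Helper2.EqvRelQuotOpen
universe u
variable {S : Scheme.{u}}

/-- Points of fibre products in `Over S`. -/
theorem exists_preimage_over_pullback {X Y Z : Over S} (f : X ⟶ Z) (g : Y ⟶ Z) (x : ↥X.left)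
    (y : ↥Y.left) (h : f.left x = g.left y) :
    ∃ z : ↥(pullback f g).left, (pullback.fst f g).left z = x ∧ (pullback.snd f g).left z = y := by
  have sq : IsPullback (pullback.fst f g).left (pullback.snd f g).left f.left g.left :=
    (IsPullback.of_hasPullback f g).map (Over.forget S)
  obtain ⟨z0, hz1, hz2⟩ := Scheme.Pullback.exists_preimage_pullback x y h
  refine ⟨sq.isoPullback.inv z0, ?_, ?_⟩
  · rw [← Scheme.Hom.comp_apply, sq.isoPullback_inv_fst, hz1]
  · rw [← Scheme.Hom.comp_apply, sq.isoPullback_inv_snd, hz2]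

theorem prop_left_pullback_snd (P : MorphismProperty Scheme.{u}) [P.IsStableUnderBaseChange]
    {X Y Z : Over S} (f : X ⟶ Z) (g : Y ⟶ Z) (hf : P f.left) : P (pullback.snd f g).left :=
  P.of_isPullback ((IsPullback.of_hasPullback f g).map (Over.forget S)) hf

theorem prop_left_pullback_fst (P : MorphismProperty Scheme.{u}) [P.IsStableUnderBaseChange]
    {X Y Z : Over S} (f : X ⟶ Z) (g : Y ⟶ Z) (hg : P g.left) : P (pullback.fst f g).left :=
  P.of_isPullback ((IsPullback.of_hasPullback f g).map (Over.forget S)).flip hg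

section
variable {R U : Over S} (s t : R ⟶ U)

/-- A `T`-point equivalence relation on a scheme gives a pre-equivalence relation of sheaves. -/
theorem isPreEqvRelSp_of_equivalence
    (h : ∀ (T : Over S),
      _root_.Equivalence (fun a b : T ⟶ U => ∃ r : T ⟶ R, r ≫ t = a ∧ r ≫ s = b)) :
    IsPreEqvRelSp ((yon S).map s) ((yon S).map t) := by
  intro T
  have key : ∀ a b : T ⟶ U,
      (∃ r : (yon S).obj T ⟶ (yon S).obj R, r ≫ (yon S).map t = (yon S).map a ∧
        r ≫ (yon S).map s = (yon S).map b) ↔ ∃ r : T ⟶ R, r ≫ t = a ∧ r ≫ s = b := by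
    intro a b
    constructor
    · rintro ⟨r, h1, h2⟩
      obtain ⟨ρ, rfl⟩ := (yon S).map_surjective r
      exact ⟨ρ, (yon S).map_injective (by rw [Functor.map_comp]; exact h1),
        (yon S).map_injective (by rw [Functor.map_comp]; exact h2)⟩
    · rintro ⟨ρ, rfl, rfl⟩
      exact ⟨(yon S).map ρ, by rw [Functor.map_comp], by rw [Functor.map_comp]⟩
  refine ⟨fun a => ?_, ?_, ?_⟩
  · obtain ⟨α, rfl⟩ := (yon S).map_surjective a
    exact (key α α).mpr ((h T).refl α)
  · intro a b hab
    obtain ⟨α, rfl⟩ := (yon S).map_surjective a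
    obtain ⟨β, rfl⟩ := (yon S).map_surjective b
    exact (key β α).mpr ((h T).symm ((key α β).mp hab))
  · intro a b c hab hbc
    obtain ⟨α, rfl⟩ := (yon S).map_surjective a
    obtain ⟨β, rfl⟩ := (yon S).map_surjective b
    obtain ⟨γ, rfl⟩ := (yon S).map_surjective c
    exact (key α γ).mpr ((h T).trans ((key α β).mp hab) ((key β γ).mp hbc))

variable (heq : ∀ (T : Over S),
      _root_.Equivalence (fun a b : T ⟶ U => ∃ r : T ⟶ R, r ≫ t = a ∧ r ≫ s = b))
include heq

theorem exists_unit : ∃ e : U ⟶ R, e ≫ t = 𝟙 U ∧ e ≫ s = 𝟙 U := (heq U).refl (𝟙 U)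

theorem exists_inv : ∃ i : R ⟶ R, i ≫ t = s ∧ i ≫ s = t :=
  (heq R).symm ⟨𝟙 R, Category.id_comp _, Category.id_comp _⟩

theorem exists_comp : ∃ c : pullback s t ⟶ R, c ≫ t = pullback.fst s t ≫ t ∧
    c ≫ s = pullback.snd s t ≫ s :=
  (heq (pullback s t)).trans ⟨pullback.fst s t, rfl, rfl⟩ ⟨pullback.snd s t, pullback.condition.symm, rfl⟩

variable {U' : Over S} (g : U' ⟶ U)

/-- The saturation of the image of `g`. -/
def sat (s t : R ⟶ U) (g : U' ⟶ U) : Set ↥U.left := Set.range ⇑(pullback.snd g t ≫ s).left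

omit heq in
theorem mem_sat_iff (u : ↥U.left) :
    u ∈ sat s t g ↔ ∃ (u' : ↥U'.left) (ρ : ↥R.left), t.left ρ = g.left u' ∧ s.left ρ = u := by
  constructor
  · rintro ⟨z, rfl⟩
    refine ⟨(pullback.fst g t).left z, (pullback.snd g t).left z, ?_, rfl⟩
    rw [← Scheme.Hom.comp_apply, ← Scheme.Hom.comp_apply, ← Over.comp_left, ← Over.comp_left,
      pullback.condition]
  · rintro ⟨u', ρ, h1, rfl⟩
    obtain ⟨z, hz1, hz2⟩ := exists_preimage_over_pullback g t u' ρ h1.symm
    exact ⟨z, by rw [Over.comp_left, Scheme.Hom.comp_apply, hz2]⟩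

theorem mem_sat_of_t (ρ : ↥R.left) (h : t.left ρ ∈ sat s t g) : s.left ρ ∈ sat s t g := by
  obtain ⟨c, hct, hcs⟩ := exists_comp s t heq
  rw [mem_sat_iff] at h ⊢
  obtain ⟨u', ρ₁, h1, h2⟩ := h
  obtain ⟨y, hy1, hy2⟩ := exists_preimage_over_pullback s t ρ₁ ρ h2
  refine ⟨u', c.left y, ?_, ?_⟩
  · rw [← Scheme.Hom.comp_apply, ← Over.comp_left, hct, Over.comp_left, Scheme.Hom.comp_apply,
      hy1, h1]
  · rw [← Scheme.Hom.comp_apply, ← Over.comp_left, hcs, Over.comp_left, Scheme.Hom.comp_apply,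
      hy2]

theorem mem_sat_of_s (ρ : ↥R.left) (h : s.left ρ ∈ sat s t g) : t.left ρ ∈ sat s t g := by
  obtain ⟨i, hit, his⟩ := exists_inv s t heq
  have h1 : t.left (i.left ρ) ∈ sat s t g := by
    rw [← Scheme.Hom.comp_apply, ← Over.comp_left, hit]; exact h
  have := mem_sat_of_t s t heq g (i.left ρ) h1
  rwa [← Scheme.Hom.comp_apply, ← Over.comp_left, his] at this

theorem image_subset_sat (u' : ↥U'.left) : g.left u' ∈ sat s t g := by
  obtain ⟨e, het, hes⟩ := exists_unit s t heq
  rw [mem_sat_iff]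
  refine ⟨u', e.left (g.left u'), ?_, ?_⟩
  · rw [← Scheme.Hom.comp_apply, ← Over.comp_left, het]; rfl
  · rw [← Scheme.Hom.comp_apply, ← Over.comp_left, hes]; rfl

end


section Main
variable {R U R' U' : Over S} (s t : R ⟶ U) (g : U' ⟶ U) (s' t' : R' ⟶ U') (r : R' ⟶ R)

theorem repWith_isOpenImmersion_quot_restrict
    (hsq : IsPullback (prod.lift t' s') r (prod.map g g) (prod.lift t s))
    (heq : ∀ (T : Over S),
      _root_.Equivalence (fun a b : T ⟶ U => ∃ r : T ⟶ R, r ≫ t = a ∧ r ≫ s = b))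
    [Flat s.left] [LocallyOfFinitePresentation s.left]
    [Flat g.left] [LocallyOfFinitePresentation g.left]
    (φ : QuotSh.quot Scheme.fppfPrecoverage s' t' ⟶ QuotSh.quot Scheme.fppfPrecoverage s t)
    (hφ : QuotSh.quotπ Scheme.fppfPrecoverage s' t' ≫ φ =
      QuotSh.repMap Scheme.fppfPrecoverage g ≫ QuotSh.quotπ Scheme.fppfPrecoverage s t) :
    AlgSp.RepWith @IsOpenImmersion φ := by
  -- `h = snd ≫ s` is flat and locally of finite presentation
  have hfl1 : Flat (pullback.snd g t).left := prop_left_pullback_snd @Flat g t inferInstance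
  have hfp1 : LocallyOfFinitePresentation (pullback.snd g t).left :=
    prop_left_pullback_snd @LocallyOfFinitePresentation g t inferInstance
  have hfl : Flat (pullback.snd g t ≫ s).left := by rw [Over.comp_left]; infer_instance
  have hfp : LocallyOfFinitePresentation (pullback.snd g t ≫ s).left := by
    rw [Over.comp_left]; infer_instance
  have hopen : IsOpen (sat s t g) := (pullback.snd g t ≫ s).left.isOpenMap.isOpen_range
  refine QuotOpenSch.repWith_isOpenImmersion_quot_restrict s t g s' t' r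
    (isPreEqvRelSp_of_equivalence s t heq) hsq ⟨sat s t g, hopen⟩ ?_ ?_ ?_ φ hφ
  · intro ρ
    exact ⟨mem_sat_of_t s t heq g ρ, mem_sat_of_s s t heq g ρ⟩
  · intro u'
    exact image_subset_sat s t heq g u'
  · intro T α hα
    refine ⟨PUnit, fun _ => pullback α (pullback.snd g t ≫ s),
      fun _ => pullback.fst α (pullback.snd g t ≫ s), fun _ => ⟨?_, ?_⟩, fun x => ⟨⟨⟩, ?_⟩,
      fun _ => ⟨pullback.snd α (pullback.snd g t ≫ s) ≫ pullback.fst g t,
        pullback.snd α (pullback.snd g t ≫ s) ≫ pullback.snd g t, ?_, ?_⟩⟩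
    · exact prop_left_pullback_fst @Flat α _ hfl
    · exact prop_left_pullback_fst @LocallyOfFinitePresentation α _ hfp
    · obtain ⟨z, hz⟩ := hα x
      obtain ⟨y, hy1, _⟩ := exists_preimage_over_pullback α (pullback.snd g t ≫ s) x z hz.symm
      exact ⟨y, hy1⟩
    · rw [Category.assoc, Category.assoc, pullback.condition]
    · rw [Category.assoc, ← pullback.condition]

end Main

end Groth.Agent.Helper2.EqvRelQuotOpen
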