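import Mathlib
import Groth.Prelude.Def_AlgSpOX2
import Groth.Agent.Lib.Helper2.AlgSp.EtClosedDenseSp

/-!
# Direct image of modules along a closed immersion of algebraic spaces is fully faithful (helper2)
-/

set_option autoImplicit false
set_option backward.isDefEq.respectTransparency false
set_option synthInstance.maxHeartbeats 400000
set_option maxHeartbeats 4000000
set_option linter.style.haveILetI false
set_option linter.unusedSectionVars false
set_option linter.unusedVariables false
set_option linter.unusedSimpArgs false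
set_option linter.unnecessarySimpa false

open CategoryTheory CategoryTheory.Limits AlgebraicGeometry Opposite

namespace Groth.Agent.Helper2.EtClosedMod

section Generic

universe w v v₁ v₂ u₁ u₂

variable {C : Type u₁} [Category.{v₁} C] {D : Type u₂} [Category.{v₂} D]
  {J : GrothendieckTopology C} {K : GrothendieckTopology D} {G : C ⥤ D}
  [G.IsContinuous J K] {RC : Sheaf J RingCat.{w}} {RD : Sheaf K RingCat.{w}}
  (φ : RC ⟶ (G.sheafPushforwardContinuous RingCat.{w} J K).obj RD)

/-- The pushforward of sheaves of modules is faithful when the pushforward of abelian sheaves is. -/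
theorem faithful_pushforward
    [(G.sheafPushforwardContinuous AddCommGrpCat.{v} J K).Faithful] :
    (SheafOfModules.pushforward.{v} φ).Faithful where
  map_injective {M N} a b hab := by
    apply (SheafOfModules.toSheaf RD).map_injective
    apply (G.sheafPushforwardContinuous AddCommGrpCat.{v} J K).map_injective
    refine Sheaf.hom_ext ?_
    refine NatTrans.ext (funext fun V => ?_)
    refine ConcreteCategory.hom_ext _ _ fun m' => ?_
    exact congrArg (fun t => (t.val.app V).hom m') hab

/-- The pushforward of sheaves of modules is full when the pushforward of abelian sheaves is and the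
ring morphism is locally surjective in a suitable sense. -/
theorem full_pushforward
    [(G.sheafPushforwardContinuous AddCommGrpCat.{v} J K).Full]
    [K.HasSheafCompose (forget AddCommGrpCat.{v})]
    (H : ∀ (W : D) (r : RD.obj.obj (op W)), ∃ R : Sieve W, R ∈ K W ∧
      ∀ ⦃T : D⦄ (k : T ⟶ W), R k → ∃ (V : C) (h : T ⟶ G.obj V) (k' : G.obj V ⟶ W)
        (r' : RC.obj.obj (op V)), h ≫ k' = k ∧
          (φ.hom.app (op V)).hom r' = (RD.obj.map k'.op).hom r) :
    (SheafOfModules.pushforward.{v} φ).Full where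
  map_surjective {M N} ψ := by
    obtain ⟨χ, hχ⟩ := (G.sheafPushforwardContinuous AddCommGrpCat.{v} J K).map_surjective
      (ObjectProperty.homMk ((SheafOfModules.toSheaf RC).map ψ).hom :
        (G.sheafPushforwardContinuous AddCommGrpCat.{v} J K).obj ((SheafOfModules.toSheaf RD).obj M) ⟶
        (G.sheafPushforwardContinuous AddCommGrpCat.{v} J K).obj ((SheafOfModules.toSheaf RD).obj N))
    obtain ⟨χ', hχ'⟩ : ∃ χ' : M.val.presheaf ⟶ N.val.presheaf,
        ∀ (V : C) (m' : M.val.obj (op (G.obj V))),
          χ'.app (op (G.obj V)) m' = (ψ.val.app (op V)).hom m' :=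
      ⟨χ.hom, fun V m' => congrArg (fun t => (t.hom.app (op V)) m') hχ⟩
    have lin : ∀ (W : Dᵒᵖ) (r : RD.obj.obj W) (m : M.val.obj W),
        χ'.app W (r • m) = r • χ'.app W m := by
      intro W r m
      obtain ⟨Rs, hRs, hk⟩ := H W.unop r
      refine (Presheaf.IsSheaf.isSeparated (J := K) N.isSheaf) W.unop Rs hRs _ _
        (fun T k hkR => ?_)
      obtain ⟨V, h, k', r', hkk', hr'⟩ := hk k hkR
      subst hkk'
      have a1 : ∀ y : M.val.obj W, N.val.map k'.op (χ'.app W y) =
          χ'.app (op (G.obj V)) (M.val.map k'.op y) := fun y =>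
        (ConcreteCategory.congr_hom (χ'.naturality k'.op) y).symm
      have b1 : M.val.map k'.op (r • m) = RD.obj.map k'.op r • M.val.map k'.op m :=
        M.val.map_smul k'.op r m
      have c1 : N.val.map k'.op (r • χ'.app W m) =
          RD.obj.map k'.op r • N.val.map k'.op (χ'.app W m) :=
        N.val.map_smul k'.op r (χ'.app W m)
      have e' : ∀ m' : M.val.obj (op (G.obj V)),
          χ'.app (op (G.obj V)) ((RD.obj.map k'.op).hom r • m') =
            (RD.obj.map k'.op).hom r • χ'.app (op (G.obj V)) m' := fun m' => by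
        rw [hχ' V, hχ' V, ← hr']
        exact (ψ.val.app (op V)).hom.map_smul r' m'
      have key : N.val.map k'.op (χ'.app W (r • m)) = N.val.map k'.op (r • χ'.app W m) :=
        (a1 (r • m)).trans ((congrArg (χ'.app (op (G.obj V))) b1).trans
          ((e' (M.val.map k'.op m)).trans
            ((congrArg (fun z => (RD.obj.map k'.op).hom r • z) (a1 m).symm).trans c1.symm)))
      have e1 := N.val.map_comp_apply k'.op h.op (χ'.app W (r • m))
      have e2 := N.val.map_comp_apply k'.op h.op (r • χ'.app W m)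
      exact e1.trans ((congrArg (N.val.map h.op) key).trans e2.symm)
    refine ⟨⟨PresheafOfModules.homMk χ' lin⟩, ?_⟩
    apply SheafOfModules.hom_ext
    apply PresheafOfModules.hom_ext
    intro V
    refine ModuleCat.hom_ext (LinearMap.ext fun m' => ?_)
    exact hχ' V.unop m'

end Generic

section Geo

universe u

open AlgSp Groth.Agent.Helper2.EtClosedDenseSp

variable {S : Scheme.{u}} {Z X : Sp S} {f : Z ⟶ X}

/-- Around every point of an object of the small étale site of `Z` there is a base change of an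
object of the small étale site of `X`. -/
theorem exists_bc_nbhd (hf : RepWith @IsClosedImmersion f) (hX : IsAlgSpace X) (W : EtOver Z)
    (x : ↥W.obj.left.left) :
    ∃ (V₁ : EtOver X) (k₁ : (EtOver.bc hf.1).obj V₁ ⟶ W), x ∈ Set.range k₁.hom.left.left := by
  obtain ⟨W₁, V', pr, m, hpr⟩ := exists_chart_cover hf.1 hX W
  obtain ⟨x', hx'⟩ := hpr x
  obtain ⟨V₁, g, T, t, θ, ⟨z, hz⟩, hθ⟩ := key hf W₁ V' m x'
  refine ⟨V₁, θ.inv ≫ t ≫ pr, θ.hom.hom.left.left z, ?_⟩
  have h1 : θ.hom ≫ θ.inv ≫ t ≫ pr = t ≫ pr := Iso.hom_inv_id_assoc _ _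
  have h2 : (θ.hom ≫ θ.inv ≫ t ≫ pr).hom.left.left z = (t ≫ pr).hom.left.left z :=
    congrArg (fun q => q.hom.left.left z) h1
  refine Eq.trans ?_ (h2.trans ?_)
  · rfl
  · change pr.hom.left.left (t.hom.left.left z) = x
    rw [hz, hx']

theorem exists_preimage_of_isPullback {A B C' D' : Scheme.{u}} {f' : A ⟶ B} {g' : A ⟶ C'}
    {g : B ⟶ D'} {f₀ : C' ⟶ D'} (h : IsPullback f' g' g f₀) (b : B) (c : C')
    (hc : f₀ c = g b) : ∃ a : A, f' a = b := by
  obtain ⟨z, hz1, -⟩ := Scheme.Pullback.exists_preimage_pullback (f := g) (g := f₀) b c hc.symm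
  refine ⟨h.isoPullback.inv z, ?_⟩
  rw [← hz1, ← Scheme.Hom.comp_apply, h.isoPullback_inv_fst]

/-- Functions on objects of the small étale site of `Z` lift locally to the ambient space. -/
theorem locSurj (hf : RepWith @IsClosedImmersion f) (hX : IsAlgSpace X) (W : EtOver Z)
    (r : (OEtRing Z).obj.obj (op W)) :
    ∃ R : Sieve W, R ∈ etTop Z W ∧ ∀ ⦃T : EtOver Z⦄ (k : T ⟶ W), R k →
      ∃ (V : EtOver X) (h : T ⟶ (EtOver.bc hf.1).obj V) (k' : (EtOver.bc hf.1).obj V ⟶ W)
        (r' : (OEtRing X).obj.obj (op V)), h ≫ k' = k ∧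
          ((bcRingHom hf.1).hom.app (op V)).hom r' = ((OEtRing Z).obj.map k'.op).hom r := by
  refine ⟨⟨fun T k => ∃ (V : EtOver X) (h : T ⟶ (EtOver.bc hf.1).obj V)
      (k' : (EtOver.bc hf.1).obj V ⟶ W) (r' : (OEtRing X).obj.obj (op V)), h ≫ k' = k ∧
        ((bcRingHom hf.1).hom.app (op V)).hom r' = ((OEtRing Z).obj.map k'.op).hom r, ?_⟩, ?_,
    fun T k hk => hk⟩
  · rintro T T' k ⟨V, h, k', r', rfl, hr⟩ g
    exact ⟨V, g ≫ h, k', r', Category.assoc _ _ _, hr⟩
  · refine mem_etTop_of_forall _ (fun x => ?_)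
    obtain ⟨V₁, k₁, x₁, hx₁⟩ := exists_bc_nbhd hf hX W x
    obtain ⟨j, y, hy⟩ :=
      V₁.obj.left.left.affineCover.exists_eq ((hf.1.snd V₁.obj.hom).left x₁)
    haveI : Etale (V₁.obj.left.left.affineCover.f j) := inferInstance
    have hpb := EtOver.isPullback_bcMap_left hf.1 (overHom V₁ (V₁.obj.left.left.affineCover.f j))
    obtain ⟨x₂, hx₂⟩ := exists_preimage_of_isPullback hpb x₁ y hy
    haveI : IsAffine (overObj V₁ (V₁.obj.left.left.affineCover.f j)).obj.left.left :=
      inferInstanceAs (IsAffine (V₁.obj.left.left.affineCover.X j))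
    haveI : IsClosedImmersion
        (hf.1.snd (overObj V₁ (V₁.obj.left.left.affineCover.f j)).obj.hom).left :=
      hf.2 _ _ _ (hf.1.isPullback _)
    have hsurj : Function.Surjective
        (hf.1.snd (overObj V₁ (V₁.obj.left.left.affineCover.f j)).obj.hom).left.appTop.hom :=
      (IsClosedImmersion.isAffine_surjective_of_isAffine
        (hf.1.snd (overObj V₁ (V₁.obj.left.left.affineCover.f j)).obj.hom).left).2
    obtain ⟨s₀, hs₀⟩ := hsurj (ULift.down (((OEtRing Z).obj.map
      ((EtOver.bc hf.1).map (overHom V₁ (V₁.obj.left.left.affineCover.f j)) ≫ k₁).op).hom r))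
    refine ⟨(EtOver.bc hf.1).obj (overObj V₁ (V₁.obj.left.left.affineCover.f j)),
      (EtOver.bc hf.1).map (overHom V₁ (V₁.obj.left.left.affineCover.f j)) ≫ k₁,
      ⟨overObj V₁ (V₁.obj.left.left.affineCover.f j), 𝟙 _, _, ULift.up s₀, Category.id_comp _, ?_⟩,
      x₂, ?_⟩
    · apply ULift.ext
      exact hs₀
    · change k₁.hom.left.left ((EtOver.bcMap hf.1 (overHom V₁ _)).hom.left.left x₂) = x
      rw [hx₂, hx₁]

theorem full_pushModEt (hf : RepWith @IsClosedImmersion f) (hX : IsAlgSpace X) :
    (pushModEt hf.1).Full := by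
  haveI := full_pushEt AddCommGrpCat.{u + 1} hf hX
  exact full_pushforward (bcRingHom hf.1) (fun W r => locSurj hf hX W r)

theorem faithful_pushModEt (hf : RepWith @IsClosedImmersion f) (hX : IsAlgSpace X) :
    (pushModEt hf.1).Faithful := by
  haveI := faithful_pushEt AddCommGrpCat.{u + 1} hf hX
  exact faithful_pushforward (bcRingHom hf.1)

theorem isIso_counit_app (hf : RepWith @IsClosedImmersion f) (hX : IsAlgSpace X)
    [(SheafOfModules.pushforward.{u + 1} (bcRingHom hf.1)).IsRightAdjoint] (G : ModEt Z) :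
    IsIso ((pullPushAdjModEt hf.1).counit.app G) := by
  haveI := full_pushModEt hf hX
  haveI := faithful_pushModEt hf hX
  infer_instance

end Geo

end Groth.Agent.Helper2.EtClosedMod
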