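import Mathlib
import Groth.Prelude.Def_AlgSpOX3
import Groth.Prelude.Def_AlgSpOX2
import Groth.Agent.Lib.Helper2.AlgSp.EtClosedMod
import Groth.Agent.Lib.Helper2.AlgSp.EtStalk

/-!
# Stalks of the direct image along a closed immersion of algebraic spaces (helper2)
-/

set_option autoImplicit false
set_option backward.isDefEq.respectTransparency false
set_option synthInstance.maxHeartbeats 400000
set_option maxHeartbeats 4000000
set_option linter.style.haveILetI false
set_option linter.unusedSectionVars false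
set_option linter.unusedVariables false
set_option linter.unusedSimpArgs false
set_option linter.unnecessarySimpa false

universe u
open CategoryTheory CategoryTheory.Limits AlgebraicGeometry Opposite AlgSp

namespace Groth.Agent.Helper2.EtClosedStalk

open Groth.Agent.Helper2.EtClosedDenseSp Groth.Agent.Helper2.EtClosedMod

variable {S : Scheme.{u}} {Z X : Sp S} {f : Z ⟶ X}

/-- The lift of the point `z` to the base change of a neighbourhood of its image. -/
noncomputable def bcLift (hf : Representable f) (z : FieldPt Z) (N : EtNbhd (z.map f)) :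
    (FieldPt.liftsTo z).obj ((EtOver.bc hf).obj N.1) :=
  ⟨hf.lift z.toHom N.2.1 ((N.2.2.trans (FieldPt.toHom_map f z)).symm), hf.lift_fst _ _ _⟩

theorem bcLift_map (hf : Representable f) (z : FieldPt Z) {N N' : EtNbhd (z.map f)} (g : N ⟶ N') :
    (FieldPt.liftsTo z).map ((EtOver.bc hf).map g.1) (bcLift hf z N) = bcLift hf z N' := by
  apply Subtype.ext
  change hf.lift z.toHom N.2.1 _ ≫ (EtOver.bcMap hf g.1).hom.left = hf.lift z.toHom N'.2.1 _
  refine hf.hom_ext (g := N'.1.obj.hom) ?_ ?_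
  · rw [Functor.map_comp, Category.assoc, EtOver.map_bcMap_fst, hf.lift_fst, hf.lift_fst]
  · rw [Category.assoc, EtOver.bcMap_snd, ← Category.assoc, hf.lift_snd, hf.lift_snd]
    exact congrArg Subtype.val g.2

/-- Base change of étale neighbourhoods. -/
noncomputable def Φ (hf : Representable f) (z : FieldPt Z) : EtNbhd (z.map f) ⥤ EtNbhd z where
  obj N := ⟨(EtOver.bc hf).obj N.1, bcLift hf z N⟩
  map g := ⟨(EtOver.bc hf).map g.1, bcLift_map hf z g⟩
  map_id N := Subtype.ext ((EtOver.bc hf).map_id N.1)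
  map_comp g g' := Subtype.ext ((EtOver.bc hf).map_comp g.1 g'.1)

/-- The neighbourhood of the image point given by a lift of `z` to a base change. -/
noncomputable def nbhdOf (hf : Representable f) (z : FieldPt Z) (W : EtOver X)
    (y : (FieldPt.liftsTo z).obj ((EtOver.bc hf).obj W)) : EtNbhd (z.map f) :=
  ⟨W, ⟨y.1 ≫ hf.snd W.obj.hom, by
    rw [Functor.map_comp, Category.assoc, ← hf.w W.obj.hom, ← Category.assoc, FieldPt.toHom_map]
    exact congrArg (· ≫ f) y.2⟩⟩

theorem bcLift_nbhdOf (hf : Representable f) (z : FieldPt Z) (W : EtOver X)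
    (y : (FieldPt.liftsTo z).obj ((EtOver.bc hf).obj W)) :
    bcLift hf z (nbhdOf hf z W y) = y := by
  apply Subtype.ext
  refine hf.hom_ext (g := W.obj.hom) ?_ ?_
  · exact (hf.lift_fst _ _ _).trans y.2.symm
  · exact hf.lift_snd _ _ _

theorem exists_to (hf : RepWith @IsClosedImmersion f) (hX : IsAlgSpace X) (z : FieldPt Z)
    (hz : z.IsGeometric) (M : EtNbhd z) :
    ∃ N : EtNbhd (z.map f), Nonempty ((Φ hf.1 z).obj N ⟶ M) := by
  obtain ⟨V₁, k₁, hx⟩ := exists_bc_nbhd hf hX M.1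
    (M.2.1.left (default : ↥(Spec (CommRingCat.of z.K))))
  obtain ⟨y, hy⟩ := Groth.Agent.Helper2.EtStalk.exists_lift_of_mem_range z hz k₁ M.2 hx
  refine ⟨nbhdOf hf.1 z V₁ y, ⟨⟨k₁, ?_⟩⟩⟩
  change (FieldPt.liftsTo z).map k₁ (bcLift hf.1 z (nbhdOf hf.1 z V₁ y)) = M.2
  rw [bcLift_nbhdOf]
  exact hy

theorem exists_factor (hf : RepWith @IsClosedImmersion f) (z : FieldPt Z) (hz : z.IsGeometric)
    (M : EtNbhd z) (N : EtNbhd (z.map f)) (e : M ⟶ (Φ hf.1 z).obj N) :
    ∃ (N' : EtNbhd (z.map f)) (t : N' ⟶ N) (a : (Φ hf.1 z).obj N' ⟶ M),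
      a ≫ e = (Φ hf.1 z).map t := by
  obtain ⟨W, g, T, t, θ, hx, hθ⟩ := key hf N.1 M.1 e.1
    (M.2.1.left (default : ↥(Spec (CommRingCat.of z.K))))
  obtain ⟨yT, hyT⟩ := Groth.Agent.Helper2.EtStalk.exists_lift_of_mem_range z hz t M.2 hx
  have c2 : θ.hom.hom.left ≫ (EtOver.bcMap hf.1 g).hom.left = t.hom.left ≫ e.1.hom.left :=
    congrArg (fun q => q.hom.left) hθ
  have c3 : yT.1 ≫ t.hom.left = M.2.1 := congrArg Subtype.val hyT
  have c4 : M.2.1 ≫ e.1.hom.left = (bcLift hf.1 z N).1 := congrArg Subtype.val e.2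
  have c5 : (bcLift hf.1 z N).1 ≫ hf.1.snd N.1.obj.hom = N.2.1 := hf.1.lift_snd _ _ _
  have c6 : hf.1.snd W.obj.hom ≫ g.hom.left =
      (EtOver.bcMap hf.1 g).hom.left ≫ hf.1.snd N.1.obj.hom := (EtOver.bcMap_snd hf.1 g).symm
  have c7 : θ.hom.hom.left ≫ θ.inv.hom.left = 𝟙 _ := congrArg (fun q => q.hom.left) θ.hom_inv_id
  have d1 : (yT.1 ≫ θ.hom.hom.left ≫ hf.1.snd W.obj.hom) ≫ g.hom.left = N.2.1 := by
    rw [Category.assoc, Category.assoc, c6, ← Category.assoc θ.hom.hom.left, c2, Category.assoc,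
      ← Category.assoc yT.1, c3, ← Category.assoc, c4, c5]
  have d2 : (yT.1 ≫ θ.hom.hom.left) ≫ θ.inv.hom.left ≫ t.hom.left = M.2.1 := by
    rw [Category.assoc, ← Category.assoc θ.hom.hom.left, c7, Category.id_comp, c3]
  refine ⟨nbhdOf hf.1 z W ((FieldPt.liftsTo z).map θ.hom yT),
    ⟨g, Subtype.ext ((Category.assoc _ _ _).symm.trans d1)⟩, ⟨θ.inv ≫ t, ?_⟩, ?_⟩
  · change (FieldPt.liftsTo z).map (θ.inv ≫ t)
      (bcLift hf.1 z (nbhdOf hf.1 z W ((FieldPt.liftsTo z).map θ.hom yT))) = M.2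
    rw [bcLift_nbhdOf]
    exact Subtype.ext d2
  · refine Subtype.ext ?_
    change (θ.inv ≫ t) ≫ e.1 = (EtOver.bc hf.1).map g
    rw [Category.assoc, ← hθ, Iso.inv_hom_id_assoc]

theorem initial_Φ (hf : RepWith @IsClosedImmersion f) (hX : IsAlgSpace X) (z : FieldPt Z)
    (hz : z.IsGeometric) : (Φ hf.1 z).Initial := by
  haveI : IsCofiltered (EtNbhd (z.map f)) :=
    Groth.Agent.Helper2.EtNbhd.isCofiltered (z.map f) hX hz
  refine Functor.initial_of_exists_of_isCofiltered _ (exists_to hf hX z hz) ?_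
  intro M N s s'
  obtain ⟨M', e, he⟩ := Groth.Agent.Helper2.EtNbhd.cone_maps z s s'
  obtain ⟨N', t, a, hat⟩ := exists_factor hf z hz M' N e
  refine ⟨N', t, ?_⟩
  rw [← hat, Category.assoc, Category.assoc, he]

theorem main (hf : RepWith @IsClosedImmersion f) (hX : IsAlgSpace X) (z : FieldPt Z)
    (hz : z.IsGeometric) (F : EtSh Z (Type (u + 1))) :
    ∃ φ : stalkEt (z.map f) ((pushEt hf.1 (Type (u + 1))).obj F) ≃ stalkEt z F,
      ∀ (N : EtNbhd (z.map f)) (s : F.obj.obj (op ((EtOver.bc hf.1).obj N.1))),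
        φ (stalkEtι (z.map f) ((pushEt hf.1 (Type (u + 1))).obj F) N s) =
          stalkEtι z F ((Φ hf.1 z).obj N) s := by
  haveI := initial_Φ hf hX z hz
  let e : stalkEt (z.map f) ((pushEt hf.1 (Type (u + 1))).obj F) ≅ stalkEt z F :=
    Functor.Final.colimitIso (Φ hf.1 z).op (stalkEtDiagram z F)
  refine ⟨e.toEquiv, fun N s => ?_⟩
  exact ConcreteCategory.congr_hom
    (Functor.Final.ι_colimitIso_hom (Φ hf.1 z).op (stalkEtDiagram z F) (op N)) s

end Groth.Agent.Helper2.EtClosedStalk
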