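import Mathlib
import Groth.Prelude.Def_AlgSpEt
import Groth.Agent.Lib.Helper2.AlgSp.Basic

/-!
# The functor `(U ⟶ X) ↦ (U ⟶ X ⟶ Y)` of small etale sites along an etale morphism is
continuous and cocontinuous
-/

universe u

open CategoryTheory CategoryTheory.Limits AlgebraicGeometry Opposite

set_option backward.isDefEq.respectTransparency false

namespace Groth.Agent.Helper2.PostcompSite

open AlgSp AlgSp.EtOver

variable {S : Scheme.{u}} {X Y : Sp S} (f : X ⟶ Y) (hf : IsEtaleMor f)

section Pullbacks

variable {E₁ E₂ E₀ : EtOver X} (g₁ : E₁ ⟶ E₀) (g₂ : E₂ ⟶ E₀)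

theorem map_condition :
    (postcomp f hf).map (pullbackFst g₁ g₂) ≫ (postcomp f hf).map g₁ =
      (postcomp f hf).map (pullbackSnd g₁ g₂) ≫ (postcomp f hf).map g₂ := by
  rw [← Functor.map_comp, ← Functor.map_comp, pullback_condition]

/-- The image of the chosen fibre product square is a fibre product square. -/
noncomputable def mapPullbackIsLimit :
    IsLimit (PullbackCone.mk ((postcomp f hf).map (pullbackFst g₁ g₂))
      ((postcomp f hf).map (pullbackSnd g₁ g₂)) (map_condition f hf g₁ g₂)) :=
  PullbackCone.IsLimit.mk _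
    (fun s => homMk (pullback.lift s.fst.hom.left s.snd.hom.left
        (congrArg (fun k => k.hom.left) s.condition)) (by
      change (yon S).map _ ≫ ((yon S).map _ ≫ E₁.obj.hom) ≫ f = s.pt.obj.hom
      rw [← Category.assoc, ← Category.assoc, ← Functor.map_comp, pullback.lift_fst, Category.assoc]
      exact w s.fst))
    (fun s => hom_ext _ _ (pullback.lift_fst _ _ _))
    (fun s => hom_ext _ _ (pullback.lift_snd _ _ _))
    (fun s m h₁ h₂ => hom_ext _ _ (pullback.hom_ext
      ((congrArg (fun k => k.hom.left) h₁).trans (pullback.lift_fst _ _ _).symm)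
      ((congrArg (fun k => k.hom.left) h₂).trans (pullback.lift_snd _ _ _).symm)))

instance preservesLimit_cospan_postcomp : PreservesLimit (cospan g₁ g₂) (postcomp f hf) :=
  preservesLimit_of_preserves_limit_cone (pullbackIsLimit g₁ g₂)
    ((isLimitMapConePullbackConeEquiv _ _).symm (mapPullbackIsLimit f hf g₁ g₂))

end Pullbacks

instance preservesPullbacks_postcomp : PreservesLimitsOfShape WalkingCospan (postcomp f hf) where
  preservesLimit {K} := preservesLimit_of_iso_diagram _ (diagramIsoCospan K).symm

theorem toScheme_postcomp : postcomp f hf ⋙ toScheme Y = toScheme X := rfl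

theorem isContinuous : (postcomp f hf).IsContinuous (etTop X) (etTop Y) := by
  unfold etTop
  refine Functor.isContinuous_toGrothendieck_of_pullbacksPreservedBy (postcomp f hf) (etPre X)
    (etPre Y) (le_of_eq ?_)
  unfold etPre
  rw [← Precoverage.comap_comp]
  rfl


/-- Lift of an object of the small etale site of `Y` over `(U ⟶ X ⟶ Y)` to the small etale
site of `X`. -/
noncomputable def liftObj {U : EtOver X} {W : EtOver Y} (g : W ⟶ (postcomp f hf).obj U) :
    EtOver X :=
  EtOver.mk ((yon S).map g.hom.left ≫ U.obj.hom)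
    (AlgSpBasic.repWith_comp @Etale ((repWith_yon_map_iff @Etale g.hom.left).2
      (EtOver.etale_left g)) U.property)

noncomputable def liftHom {U : EtOver X} {W : EtOver Y} (g : W ⟶ (postcomp f hf).obj U) :
    liftObj f hf g ⟶ U :=
  EtOver.homMk g.hom.left rfl

noncomputable def liftComparison {U : EtOver X} {W : EtOver Y}
    (g : W ⟶ (postcomp f hf).obj U) : (postcomp f hf).obj (liftObj f hf g) ⟶ W :=
  EtOver.homMk (𝟙 _) (by
    change (yon S).map (𝟙 _) ≫ W.obj.hom = ((yon S).map g.hom.left ≫ U.obj.hom) ≫ f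
    rw [CategoryTheory.Functor.map_id, Category.id_comp, Category.assoc]
    exact (EtOver.w g).symm)

theorem liftComparison_comp {U : EtOver X} {W : EtOver Y} (g : W ⟶ (postcomp f hf).obj U) :
    liftComparison f hf g ≫ g = (postcomp f hf).map (liftHom f hf g) :=
  EtOver.hom_ext _ _ (Category.id_comp _)

theorem isCocontinuous : (postcomp f hf).IsCocontinuous (etTop X) (etTop Y) := by
  refine ⟨fun {U} T hT => ?_⟩
  obtain ⟨R, hR, hle⟩ :=
    (Precoverage.mem_toGrothendieck_iff_of_isStableUnderComposition (J := etPre Y)).1 hT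
  obtain ⟨ι, W, g, rfl⟩ := Presieve.exists_eq_ofArrows R
  rw [ofArrows_mem_etPre_iff] at hR
  have hcov : Sieve.ofArrows (fun i => liftObj f hf (g i)) (fun i => liftHom f hf (g i)) ∈
      etTop X U := ofArrows_mem_etTop _ _ hR
  refine (etTop X).superset_covering ?_ hcov
  rintro V k ⟨Z, a, b, ⟨i⟩, rfl⟩
  change T ((postcomp f hf).map (a ≫ liftHom f hf (g i)))
  rw [Functor.map_comp, ← liftComparison_comp, ← Category.assoc]
  exact T.downward_closed (hle _ _ (Presieve.ofArrows.mk i)) _

theorem main : (postcomp f hf).IsContinuous (etTop X) (etTop Y) ∧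
    (postcomp f hf).IsCocontinuous (etTop X) (etTop Y) :=
  ⟨isContinuous f hf, isCocontinuous f hf⟩

end Groth.Agent.Helper2.PostcompSite
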