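import Mathlib
import Groth.Prelude.Def_AlgSpOX2
import Groth.Agent.Lib.Helper2.AlgSp.PostcompSite

/-!
# Inverse image of modules along a representable etale morphism is restriction

For `f : X ⟶ Y` representable and etale, base change `bc : EtOver Y ⥤ EtOver X` is right adjoint to
`postcomp : EtOver X ⥤ EtOver Y`; hence `f^*` on modules is the restriction along `postcomp`,
which is exact.
-/

set_option autoImplicit false
set_option backward.isDefEq.respectTransparency false
set_option synthInstance.maxHeartbeats 400000
set_option maxHeartbeats 4000000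
set_option linter.style.haveILetI false
set_option linter.unusedSectionVars false
set_option linter.unusedVariables false
set_option linter.unusedSimpArgs false
set_option linter.unnecessarySimpa false

namespace Groth.Agent.Helper2.EtPullMod

open CategoryTheory CategoryTheory.Limits AlgebraicGeometry Opposite AlgSp AlgSp.EtOver

section Generic

universe v v₁ v₂ u₁ u₂ w

variable {C : Type u₁} [Category.{v₁} C] {D : Type u₂} [Category.{v₂} D]

/-- pushforward of presheaves of modules preserves finite limits -/
theorem preservesFiniteLimits_presheaf_pushforward {F : C ⥤ D} {R : Dᵒᵖ ⥤ RingCat.{w}}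
    {S : Cᵒᵖ ⥤ RingCat.{w}} (φ : S ⟶ F.op ⋙ R) :
    PreservesFiniteLimits (PresheafOfModules.pushforward.{v} φ) := by
  haveI : PreservesFiniteLimits
      (PresheafOfModules.pushforward.{v} φ ⋙ PresheafOfModules.toPresheaf S) :=
    preservesFiniteLimits_of_natIso (PresheafOfModules.pushforwardCompToPresheaf.{v} φ).symm
  exact preservesFiniteLimits_of_reflects_of_preserves _ (PresheafOfModules.toPresheaf S)

variable {J : GrothendieckTopology C} {K : GrothendieckTopology D} {F : C ⥤ D}
  {S : Sheaf J RingCat.{w}} {R : Sheaf K RingCat.{w}} [Functor.IsContinuous F J K]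
  (φ : S ⟶ (F.sheafPushforwardContinuous RingCat.{w} J K).obj R)

/-- pushforward of sheaves of modules preserves finite limits -/
theorem preservesFiniteLimits_pushforward :
    PreservesFiniteLimits (SheafOfModules.pushforward.{v} φ) := by
  haveI := preservesFiniteLimits_presheaf_pushforward.{v} φ.hom
  haveI : PreservesFiniteLimits
      (SheafOfModules.forget.{v} R ⋙ PresheafOfModules.pushforward.{v} φ.hom) :=
    comp_preservesFiniteLimits _ _
  haveI : PreservesFiniteLimits
      (SheafOfModules.pushforward.{v} φ ⋙ SheafOfModules.forget.{v} S) :=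
    preservesFiniteLimits_of_natIso
      (Iso.refl _ : SheafOfModules.forget.{v} R ⋙ PresheafOfModules.pushforward.{v} φ.hom ≅
        SheafOfModules.pushforward.{v} φ ⋙ SheafOfModules.forget.{v} S)
  exact preservesFiniteLimits_of_reflects_of_preserves _ (SheafOfModules.forget.{v} S)

end Generic

universe u

variable {S : Scheme.{u}} {X Y : Sp S} {f : X ⟶ Y} (hf : Representable f) (he : IsEtaleMor f)

instance postcomp_isContinuous : (postcomp f he).IsContinuous (etTop X) (etTop Y) :=
  PostcompSite.isContinuous f he

instance postcomp_isCocontinuous : (postcomp f he).IsCocontinuous (etTop X) (etTop Y) :=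
  PostcompSite.isCocontinuous f he

/-- `Hom_Y(U, V) = Hom_X(U, V ×_Y X)`. -/
noncomputable def homEquiv (U : EtOver X) (V : EtOver Y) :
    ((postcomp f he).obj U ⟶ V) ≃ (U ⟶ (bc hf).obj V) where
  toFun g := homMk (hf.lift U.obj.hom g.hom.left (EtOver.w g).symm) (hf.lift_fst _ _ _)
  invFun k := homMk (k.hom.left ≫ hf.snd V.obj.hom) (by
    change (yon S).map (k.hom.left ≫ hf.snd V.obj.hom) ≫ V.obj.hom = U.obj.hom ≫ f
    rw [Functor.map_comp, Category.assoc, ← hf.w, ← Category.assoc]
    congr 1
    exact EtOver.w k)
  left_inv g := hom_ext _ _ (hf.lift_snd _ _ _)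
  right_inv k := hom_ext _ _ (hf.hom_ext
    ((hf.lift_fst _ _ _).trans (EtOver.w k).symm) (hf.lift_snd _ _ _))

theorem homEquiv_apply_left (U : EtOver X) (V : EtOver Y) (g : (postcomp f he).obj U ⟶ V) :
    (homEquiv hf he U V g).hom.left ≫ hf.snd V.obj.hom = g.hom.left :=
  hf.lift_snd _ _ _

theorem homEquiv_apply_fst (U : EtOver X) (V : EtOver Y) (g : (postcomp f he).obj U ⟶ V) :
    (yon S).map (homEquiv hf he U V g).hom.left ≫ hf.fst V.obj.hom = U.obj.hom :=
  hf.lift_fst _ _ _

theorem homEquiv_symm_left (U : EtOver X) (V : EtOver Y) (k : U ⟶ (bc hf).obj V) :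
    ((homEquiv hf he U V).symm k).hom.left = k.hom.left ≫ hf.snd V.obj.hom := rfl

/-- `postcomp ⊣ bc`. -/
noncomputable def adjSite : postcomp f he ⊣ bc hf :=
  Adjunction.mkOfHomEquiv
    { homEquiv := homEquiv hf he
      homEquiv_naturality_left_symm := fun {U' U V} h k => hom_ext _ _ (by
        show (h.hom.left ≫ k.hom.left) ≫ hf.snd V.obj.hom =
          h.hom.left ≫ (k.hom.left ≫ hf.snd V.obj.hom)
        exact Category.assoc _ _ _)
      homEquiv_naturality_right := fun {U V V'} g v => hom_ext _ _ (hf.hom_ext
        (by
          have h1 := homEquiv_apply_fst hf he U V' (g ≫ v)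
          have h2 : (yon S).map ((homEquiv hf he U V g).hom.left ≫ (bcMap hf v).hom.left) ≫
              hf.fst V'.obj.hom = U.obj.hom := by
            rw [Functor.map_comp, Category.assoc, map_bcMap_fst]
            exact homEquiv_apply_fst hf he U V g
          exact h1.trans h2.symm)
        (by
          have h1 := homEquiv_apply_left hf he U V' (g ≫ v)
          have h2 : ((homEquiv hf he U V g).hom.left ≫ (bcMap hf v).hom.left) ≫
              hf.snd V'.obj.hom = g.hom.left ≫ v.hom.left := by
            rw [Category.assoc, bcMap_snd, ← Category.assoc, homEquiv_apply_left]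
          exact h1.trans h2.symm)) }

theorem counit_left (V : EtOver Y) :
    ((adjSite hf he).counit.app V).hom.left = hf.snd V.obj.hom := by
  have h : (adjSite hf he).counit.app V = (homEquiv hf he _ V).symm (𝟙 _) := by
    rw [adjSite, Adjunction.mkOfHomEquiv_counit_app]
  rw [h, homEquiv_symm_left]
  exact Category.id_comp _

theorem unit_left_snd (U : EtOver X) :
    ((adjSite hf he).unit.app U).hom.left ≫ hf.snd ((postcomp f he).obj U).obj.hom = 𝟙 _ := by
  have h : (adjSite hf he).unit.app U = homEquiv hf he U _ (𝟙 _) := by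
    rw [adjSite, Adjunction.mkOfHomEquiv_unit_app]
  rw [h]
  exact homEquiv_apply_left hf he U _ (𝟙 _)

/-- The identification `O_X ⟶ (postcomp)_* O_Y`: both are global functions on the scheme. -/
noncomputable def resRingHom :
    OEtRing X ⟶ ((postcomp f he).sheafPushforwardContinuous RingCat.{u + 1} (etTop X)
      (etTop Y)).obj (OEtRing Y) :=
  ObjectProperty.homMk
    { app := fun E => 𝟙 ((BigSite.ORing Scheme.etalePrecoverage S).obj.obj (op E.unop.obj.left))
      naturality := fun E E' g => by
        change (BigSite.ORing Scheme.etalePrecoverage S).obj.map g.unop.hom.left.op ≫ 𝟙 _ =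
          𝟙 _ ≫ (BigSite.ORing Scheme.etalePrecoverage S).obj.map g.unop.hom.left.op
        rw [Category.comp_id, Category.id_comp] }

theorem H₁ : Functor.whiskerRight (NatTrans.op (adjSite hf he).counit) (OEtRing Y).obj =
    (bcRingHom hf).hom ≫ (bc hf).op.whiskerLeft (resRingHom he).hom := by
  ext V : 2
  change (BigSite.ORing Scheme.etalePrecoverage S).obj.map
      ((adjSite hf he).counit.app V.unop).hom.left.op =
    (BigSite.ORing Scheme.etalePrecoverage S).obj.map (hf.snd V.unop.obj.hom).op ≫ 𝟙 _
  rw [Category.comp_id, counit_left]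

theorem H₂ : (resRingHom he).hom ≫ (postcomp f he).op.whiskerLeft (bcRingHom hf).hom ≫
    Functor.whiskerRight (NatTrans.op (adjSite hf he).unit) (OEtRing X).obj = 𝟙 (OEtRing X).obj := by
  ext U : 2
  change 𝟙 _ ≫ (BigSite.ORing Scheme.etalePrecoverage S).obj.map
      (hf.snd ((postcomp f he).obj U.unop).obj.hom).op ≫
    (BigSite.ORing Scheme.etalePrecoverage S).obj.map
      ((adjSite hf he).unit.app U.unop).hom.left.op = 𝟙 _
  rw [Category.id_comp, ← Functor.map_comp, ← op_comp, unit_left_snd, op_id]
  exact CategoryTheory.Functor.map_id _ _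

/-- restriction along `postcomp` is left adjoint to `f_*` on modules. -/
noncomputable def adjMod :
    SheafOfModules.pushforward.{u + 1} (resRingHom he) ⊣ pushModEt hf :=
  SheafOfModules.pushforwardPushforwardAdj.{u + 1} (adjSite hf he) (resRingHom he) (bcRingHom hf)
    (H₁ hf he) (H₂ hf he)

/-- `f^*` is restriction along `postcomp`. -/
noncomputable def pullIso [(SheafOfModules.pushforward.{u + 1} (bcRingHom hf)).IsRightAdjoint] :
    pullModEt hf ≅ SheafOfModules.pushforward.{u + 1} (resRingHom he) :=
  (pullPushAdjModEt hf).leftAdjointUniq (adjMod hf he)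

theorem preservesFiniteLimits_pullModEt {X Y : Sp S} {f : X ⟶ Y} (hf : Representable f)
    (he : IsEtaleMor f)
    [(SheafOfModules.pushforward.{u + 1} (bcRingHom hf)).IsRightAdjoint] :
    PreservesFiniteLimits (pullModEt hf) := by
  haveI : PreservesFiniteLimits (SheafOfModules.pushforward.{u + 1} (resRingHom he)) :=
    preservesFiniteLimits_pushforward.{u + 1} _
  exact preservesFiniteLimits_of_natIso (pullIso hf he).symm

end Groth.Agent.Helper2.EtPullMod
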