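import Mathlib
import Groth.Prelude.Def_AlgSpOX2
import Groth.Agent.Lib.Helper2.AlgSp.EtPullMod

/-!
# Inverse image of a quasi-coherent module along a representable etale morphism
-/

set_option autoImplicit false
set_option backward.isDefEq.respectTransparency false
set_option synthInstance.maxHeartbeats 400000
set_option maxHeartbeats 4000000
set_option linter.style.haveILetI false
set_option linter.unusedSectionVars false
set_option linter.unusedVariables false
set_option linter.unusedSimpArgs false
set_option linter.unnecessarySimpa false

namespace Groth.Agent.Helper2.EtPullQc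

open CategoryTheory CategoryTheory.Limits AlgebraicGeometry Opposite AlgSp AlgSp.EtOver
open Groth.Agent.Helper2.EtPullMod

section Generic

universe v₁ v₂ u₁ u₂

variable {C : Type u₁} [Category.{v₁} C] {D : Type u₂} [Category.{v₂} D]

/-- `Over.post G` preserves pullbacks if `G` does. -/
theorem preservesPullbacks_over_post [HasPullbacks C] [HasPullbacks D] (G : D ⥤ C)
    [PreservesLimitsOfShape WalkingCospan G] (X : D) :
    PreservesLimitsOfShape WalkingCospan (Over.post (X := X) G) := by
  haveI : PreservesLimitsOfShape WalkingCospan (Over.post (X := X) G ⋙ Over.forget (G.obj X)) :=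
    (inferInstance : PreservesLimitsOfShape WalkingCospan (Over.forget X ⋙ G))
  exact preservesLimitsOfShape_of_reflects_of_preserves (Over.post (X := X) G)
    (Over.forget (G.obj X))

/-- Continuity of `Over.post G` on slices, for topologies generated by precoverages. -/
theorem over_post_isContinuous [HasPullbacks C] [HasPullbacks D]
    (JD : Precoverage D) (JC : Precoverage C)
    [JD.HasPullbacks] [JD.IsStableUnderBaseChange] [JC.HasPullbacks] [JC.IsStableUnderBaseChange]
    (G : D ⥤ C) [PreservesLimitsOfShape WalkingCospan G] (h : JD ≤ JC.comap G) (X : D) :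
    (Over.post (X := X) G).IsContinuous (JD.toGrothendieck.over X)
      (JC.toGrothendieck.over (G.obj X)) := by
  rw [over_toGrothendieck_eq_toGrothendieck_comap_forget,
    over_toGrothendieck_eq_toGrothendieck_comap_forget]
  haveI := preservesPullbacks_over_post G X
  refine Functor.isContinuous_toGrothendieck_of_pullbacksPreservedBy _ _ _ ?_
  intro Y R hR
  obtain ⟨ι, Z, g, rfl⟩ := R.exists_eq_ofArrows
  rw [Precoverage.mem_comap_iff, Presieve.map_ofArrows] at hR
  have h2 := h _ hR
  rw [Precoverage.mem_comap_iff, Presieve.map_ofArrows] at h2
  rw [Precoverage.mem_comap_iff, Presieve.map_ofArrows, Precoverage.mem_comap_iff,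
    Presieve.map_ofArrows]
  exact h2

end Generic

universe u

variable {S : Scheme.{u}} {X Y : Sp S} {f : X ⟶ Y} (hf : Representable f) (he : IsEtaleMor f)

theorem etPre_le_comap_postcomp : etPre X ≤ (etPre Y).comap (postcomp f he) := by
  refine le_of_eq ?_
  unfold etPre
  rw [← Precoverage.comap_comp]
  rfl

instance over_post_postcomp_isContinuous (E : EtOver X) :
    (Over.post (X := E) (postcomp f he)).IsContinuous ((etTop X).over E)
      ((etTop Y).over ((postcomp f he).obj E)) :=
  over_post_isContinuous (etPre X) (etPre Y) (postcomp f he) (etPre_le_comap_postcomp he) E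

instance isIso_resRingHom : IsIso (resRingHom he) := by
  haveI : IsIso ((sheafToPresheaf _ _).map (resRingHom he)) := by
    haveI : ∀ E, IsIso (((sheafToPresheaf _ _).map (resRingHom he)).app E) :=
      fun E => (inferInstance : IsIso (𝟙 _))
    exact NatIso.isIso_of_isIso_app _
  exact isIso_of_reflects_iso _ (sheafToPresheaf _ _)

theorem isIso_unit : IsIso (SheafOfModules.unitToPushforwardObjUnit (resRingHom he)) := by
  haveI : IsIso ((SheafOfModules.forget _).map
      (SheafOfModules.unitToPushforwardObjUnit (resRingHom he))) := by
    haveI : IsIso ((PresheafOfModules.toPresheaf _).map ((SheafOfModules.forget _).map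
        (SheafOfModules.unitToPushforwardObjUnit (resRingHom he)))) := by
      haveI : ∀ E, IsIso (((PresheafOfModules.toPresheaf _).map ((SheafOfModules.forget _).map
          (SheafOfModules.unitToPushforwardObjUnit (resRingHom he)))).app E) := by
        intro E
        rw [ConcreteCategory.isIso_iff_bijective]
        exact ⟨fun a b h => h, fun a => ⟨a, rfl⟩⟩
      exact NatIso.isIso_of_isIso_app _
    exact isIso_of_reflects_iso _ (PresheafOfModules.toPresheaf _)
  exact isIso_of_reflects_iso _ (SheafOfModules.forget _)

/-- Restriction along `postcomp` preserves quasi-coherence. -/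
theorem isQuasicoherent_restrict {X Y : Sp S} {f : X ⟶ Y} (hf : Representable f)
    (he : IsEtaleMor f) (M : ModEt Y) [M.IsQuasicoherent] :
    ((SheafOfModules.pushforward.{u + 1} (resRingHom he)).obj M).IsQuasicoherent := by
  haveI := (adjSite hf he).isLeftAdjoint
  haveI := isIso_unit he
  exact SheafOfModules.isQuasicoherent_pushforward_of_isLeftAdjoint (postcomp f he)
    (resRingHom he) (asIso (SheafOfModules.unitToPushforwardObjUnit (resRingHom he))).symm

theorem isQuasicoherent_pullModEt {X Y : Sp S} {f : X ⟶ Y} (hf : Representable f)
    (he : IsEtaleMor f)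
    [(SheafOfModules.pushforward.{u + 1} (bcRingHom hf)).IsRightAdjoint]
    (M : ModEt Y) (hM : M.IsQuasicoherent) :
    ((pullModEt hf).obj M).IsQuasicoherent := by
  haveI := hM
  have h := isQuasicoherent_restrict hf he M
  exact (SheafOfModules.isQuasicoherent.{u + 1} (OEtRing X)).prop_of_iso
    ((pullIso hf he).app M).symm h

end Groth.Agent.Helper2.EtPullQc
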