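import Mathlib
import Groth.Prelude.Def_AlgSpRep
import Groth.Agent.Lib.Helper2.AlgSp.EtEqvQuot
import Groth.Agent.Lib.Helper2.AlgSp.BootPsh
import Groth.Agent.Lib.Helper2.Sch.QuotEtale

/-!
# Étale sheaves with an étale atlas are algebraic spaces (helper2)
-/

set_option autoImplicit false
set_option linter.style.haveILetI false
universe u
open CategoryTheory CategoryTheory.Limits AlgebraicGeometry Opposite AlgSp
open Groth.Agent.Helper2.AlgSpBasic Groth.Agent.Helper2.QuotEff

namespace Groth.Agent.Helper2.EtSheafSpace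
variable {S : Scheme.{u}}

variable (S) in
/-- The big étale topology on schemes over `S`. -/
abbrev Jet : GrothendieckTopology (Over S) := QuotSh.J Scheme.etalePrecoverage S

theorem etalePrecoverage_le_fppfPrecoverage :
    Scheme.etalePrecoverage.{u} ≤ Scheme.fppfPrecoverage.{u} :=
  fun _ _ hR => Groth.Agent.Helper2.QuotEtale.etalePrecoverage_le_fppf _ hR

theorem Jet_le_J : Jet S ≤ J S := by
  intro T Sv hSv
  rw [J_eq, GrothendieckTopology.mem_over_iff]
  rw [GrothendieckTopology.mem_over_iff] at hSv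
  exact Precoverage.toGrothendieck_mono etalePrecoverage_le_fppfPrecoverage _ hSv

/-- An fppf sheaf is an étale sheaf. -/
theorem isSheaf_Jet (F : Sp S) : Presheaf.IsSheaf (Jet S) F.obj :=
  Presheaf.IsSheaf.of_le Jet_le_J F.property

/-- Sections of `h_U` over `T`. -/
abbrev sec {T U : Over S} (a : T ⟶ U) : ((pyon S).obj U).obj (op T) := ⟨a⟩

/-- The sieve on `T` generated by an étale surjective morphism is covering for the big étale
topology. -/
theorem sieve_mem_Jet {T V : Over S} (g : V ⟶ T) (he : Etale g.left) (hs : Surjective g.left)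
    (R : Sieve T) (h : R g) : R ∈ Jet S T := by
  refine Groth.Agent.Helper2.QuotEtale.sieve_mem_J_of_singleton Scheme.etalePrecoverage g ?_ R h
  unfold Scheme.etalePrecoverage
  rw [Scheme.singleton_mem_precoverage_iff]
  exact ⟨hs.surj, he⟩


/-- A representable étale surjective morphism of fppf sheaves is locally surjective for the big
étale topology. -/
theorem isLocallySurjective_Jet_of_etale {F G : Sp S} (a : F ⟶ G)
    (h₁ : RepWith @Etale a) (h₃ : RepWith @Surjective a) :
    Presheaf.IsLocallySurjective (Jet S) a.hom := by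
  constructor
  intro T s
  let g : (yon S).obj T ⟶ G := (J S).uliftYonedaEquiv.symm s
  have hrep : Representable a := h₁.rep
  have hpb := hrep.isPullback g
  have he : Etale (hrep.snd g).left := h₁.property g _ _ hpb
  have hsurj : Surjective (hrep.snd g).left := h₃.property g _ _ hpb
  refine sieve_mem_Jet (hrep.snd g) he hsurj _ ?_
  refine ⟨(J S).uliftYonedaEquiv (hrep.fst g), ?_⟩
  have := hpb.w
  have h2 := congrArg (J S).uliftYonedaEquiv this
  rw [GrothendieckTopology.uliftYonedaEquiv_comp] at h2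
  rw [h2, ← GrothendieckTopology.uliftYonedaEquiv_naturality]
  simp [g]

/-- The kernel pair of a map from a representable presheaf, when representable with étale
projections, is an étale equivalence relation. -/
theorem isEtaleEqvRel_of_isPullback_psh {F : PSp S} {R U : Over S} (s t : R ⟶ U)
    (p : (pyon S).obj U ⟶ F) (sq : IsPullback ((pyon S).map t) ((pyon S).map s) p p)
    (hs : Etale s.left) (ht : Etale t.left) : IsEtaleEqvRel s t where
  injective := by
    intro T r r' h1 h2
    have := psh_ext_of_isPullback sq (op T) (⟨r⟩ : ((pyon S).obj R).obj (op T)) ⟨r'⟩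
      (congrArg ULift.up h1) (congrArg ULift.up h2)
    exact congrArg ULift.down this
  equivalence := by
    intro T
    have key : ∀ x y : T ⟶ U, (∃ r : T ⟶ R, r ≫ t = x ∧ r ≫ s = y) ↔
        p.app (op T) (⟨x⟩ : ((pyon S).obj U).obj (op T)) = p.app (op T) ⟨y⟩ := by
      intro x y
      constructor
      · rintro ⟨r, rfl, rfl⟩
        have := congrArg (fun f => f.app (op T) (⟨r⟩ : ((pyon S).obj R).obj (op T))) sq.w
        exact this
      · intro h
        obtain ⟨z, hz1, hz2⟩ := psh_exists_of_isPullback sq (op T)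
          (⟨x⟩ : ((pyon S).obj U).obj (op T)) ⟨y⟩ h
        exact ⟨z.down, congrArg ULift.down hz1, congrArg ULift.down hz2⟩
    refine ⟨fun x => (key x x).mpr rfl, fun {x y} h => (key y x).mpr ((key x y).mp h).symm,
      fun {x y z} h1 h2 => (key x z).mpr (((key x y).mp h1).trans ((key y z).mp h2))⟩
  etale_left := hs
  etale_right := ht


/-- An étale sheaf `F` with a map `p : h_U ⟶ F` which is locally surjective for the étale
topology and whose kernel pair is a scheme with étale projections is an algebraic space. -/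
theorem isAlgSpaceP_of_kernelPair (F : PSp S) (h1 : Presheaf.IsSheaf (Jet S) F) {R U : Over S}
    (s t : R ⟶ U) (p : (pyon S).obj U ⟶ F)
    (sq : IsPullback ((pyon S).map t) ((pyon S).map s) p p) (hs : Etale s.left)
    (ht : Etale t.left) (hsurj : Presheaf.IsLocallySurjective (Jet S) p) : IsAlgSpaceP F := by
  have hE := isEtaleEqvRel_of_isPullback_psh s t p sq hs ht
  have hQ : IsAlgSpace (QuotSh.quot Scheme.fppfPrecoverage s t) :=
    Groth.Agent.Helper2.AlgSpDesc.isAlgSpace_quot s t hE
  have hpres := isPresentation_qπ s t hE hQ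
  set Q : Sp S := QuotSh.quot Scheme.fppfPrecoverage s t with hQdef
  -- the three étale sheaves
  let A : Sheaf (Jet S) (Type (u + 1)) := ⟨(pyon S).obj U, isSheaf_Jet ((yon S).obj U)⟩
  let B : Sheaf (Jet S) (Type (u + 1)) := ⟨F, h1⟩
  let B' : Sheaf (Jet S) (Type (u + 1)) := ⟨Q.obj, isSheaf_Jet Q⟩
  let πB : A ⟶ B := ObjectProperty.homMk p
  let πB' : A ⟶ B' := ObjectProperty.homMk (qπ s t).hom
  haveI : Sheaf.IsLocallySurjective πB := hsurj
  haveI : Sheaf.IsLocallySurjective πB' :=
    isLocallySurjective_Jet_of_etale (qπ s t) hpres.etale hpres.surjective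
  haveI : Epi πB := (Sheaf.isLocallySurjective_iff_epi πB).mp inferInstance
  haveI : Epi πB' := (Sheaf.isLocallySurjective_iff_epi πB').mp inferInstance
  haveI : EffectiveEpi πB :=
    (isRegularEpi_iff_effectiveEpi _).mp (IsRegularEpiCategory.regularEpiOfEpi πB)
  haveI : EffectiveEpi πB' :=
    (isRegularEpi_iff_effectiveEpi _).mp (IsRegularEpiCategory.regularEpiOfEpi πB')
  -- the two maps have the same kernel pair relation
  have hcond : ∀ (T : Over S) (r : T ⟶ R),
      (qπ s t).hom.app (op T) (⟨r ≫ t⟩ : ((pyon S).obj U).obj (op T)) =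
        (qπ s t).hom.app (op T) ⟨r ≫ s⟩ := by
    intro T r
    have := congrArg (fun f : (yon S).obj R ⟶ Q =>
      f.hom.app (op T) (⟨r⟩ : ((pyon S).obj R).obj (op T))) (qπ_condition s t)
    exact this.symm
  have sqQ : IsPullback ((pyon S).map t) ((pyon S).map s) (qπ s t).hom (qπ s t).hom :=
    hpres.isPullback.map (sheafToPresheaf (J S) (Type (u + 1)))
  have hfwd : ∀ {Z : Sheaf (Jet S) (Type (u + 1))} (g₁ g₂ : Z ⟶ A),
      g₁ ≫ πB = g₂ ≫ πB → g₁ ≫ πB' = g₂ ≫ πB' := by
    intro Z g₁ g₂ h
    apply ObjectProperty.hom_ext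
    ext T z
    have hz := congrArg (fun f : Z ⟶ B => f.hom.app T z) h
    obtain ⟨r, hr1, hr2⟩ := psh_exists_of_isPullback sq T (g₁.hom.app T z) (g₂.hom.app T z) hz
    show (qπ s t).hom.app T (g₁.hom.app T z) = (qπ s t).hom.app T (g₂.hom.app T z)
    rw [← hr1, ← hr2]
    exact hcond T.unop r.down
  have hbwd : ∀ {Z : Sheaf (Jet S) (Type (u + 1))} (g₁ g₂ : Z ⟶ A),
      g₁ ≫ πB' = g₂ ≫ πB' → g₁ ≫ πB = g₂ ≫ πB := by
    intro Z g₁ g₂ h
    apply ObjectProperty.hom_ext
    ext T z
    have hz := congrArg (fun f : Z ⟶ B' => f.hom.app T z) h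
    obtain ⟨r, hr1, hr2⟩ := psh_exists_of_isPullback sqQ T (g₁.hom.app T z) (g₂.hom.app T z) hz
    show p.app T (g₁.hom.app T z) = p.app T (g₂.hom.app T z)
    rw [← hr1, ← hr2]
    have := congrArg (fun f => f.app T r) sq.w
    exact this
  let φ : B ⟶ B' := EffectiveEpi.desc πB πB' hfwd
  let ψ : B' ⟶ B := EffectiveEpi.desc πB' πB hbwd
  have hφ : πB ≫ φ = πB' := EffectiveEpi.fac πB πB' hfwd
  have hψ : πB' ≫ ψ = πB := EffectiveEpi.fac πB' πB hbwd
  have h12 : φ ≫ ψ = 𝟙 B := by
    rw [← cancel_epi πB, ← Category.assoc, hφ, hψ, Category.comp_id]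
  have h21 : ψ ≫ φ = 𝟙 B' := by
    rw [← cancel_epi πB', ← Category.assoc, hψ, hφ, Category.comp_id]
  let e : B ≅ B' := ⟨φ, ψ, h12, h21⟩
  have e' : F ≅ Q.obj := (sheafToPresheaf (Jet S) (Type (u + 1))).mapIso e
  exact ((isAlgSpaceP_obj_iff Q).2 hQ).of_iso e'.symm


/-- `S10108`: an étale sheaf receiving a representable étale surjective map from a scheme is an
algebraic space. -/
theorem isAlgSpaceP_of_etale_chart (F : PSp S) (h1 : Presheaf.IsSheaf (Jet S) F) (U : Over S)
    (p : (pyon S).obj U ⟶ F)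
    (he : (MorphismProperty.inverseImage @Etale (Over.forget S)).relative (pyon S) p)
    (hs : (MorphismProperty.inverseImage @Surjective (Over.forget S)).relative (pyon S) p) :
    IsAlgSpaceP F := by
  have hrep := he.rep
  have sq := hrep.isPullback' p
  have hs1 : Etale (hrep.snd p).left := he.property p _ _ sq
  have ht1 : Etale (hrep.fst' p).left := he.property p _ _ sq.flip
  refine isAlgSpaceP_of_kernelPair F h1 (hrep.snd p) (hrep.fst' p) p sq hs1 ht1 ?_
  constructor
  intro T ξ
  let g : (pyon S).obj T ⟶ F := uliftYonedaEquiv.symm ξ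
  have hpb := hrep.isPullback g
  have he' : Etale (hrep.snd g).left := he.property g _ _ hpb
  have hs' : Surjective (hrep.snd g).left := hs.property g _ _ hpb
  refine sieve_mem_Jet (hrep.snd g) he' hs' _ ?_
  refine ⟨uliftYonedaEquiv (hrep.fst g), ?_⟩
  have h2 := congrArg uliftYonedaEquiv hpb.w
  rw [uliftYonedaEquiv_comp] at h2
  rw [h2]
  have h3 := uliftYonedaEquiv_naturality g (hrep.snd g).op
  rw [show uliftYonedaEquiv g = ξ from Equiv.apply_symm_apply _ _] at h3
  exact h3.symm

end Groth.Agent.Helper2.EtSheafSpace
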