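import Mathlib
import Groth.Prelude.Def_AlgSpRep
import Groth.Agent.Lib.Helper2.AlgSp.EtSheafSpace
import Groth.Agent.Lib.Helper2.Lqf.BootEt

/-!
# Étale sheaves with an étale cover by an algebraic space are algebraic spaces (helper2)
-/

set_option autoImplicit false
set_option linter.style.haveILetI false
universe u
open CategoryTheory CategoryTheory.Limits AlgebraicGeometry Opposite AlgSp
open Groth.Agent.Helper2.AlgSpBasic Groth.Agent.Helper2.EtaleLocal Groth.Agent.Helper2.AlgSpDesc
open Groth.Agent.Helper2.Lqf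

namespace Groth.Agent.Helper2.EtSheafSpace
variable {S : Scheme.{u}}

set_option maxHeartbeats 800000 in
/-- `S10109`. -/
theorem isAlgSpaceP_of_repBySpWith_etale_surj (F : PSp S) (h1 : Presheaf.IsSheaf (Jet S) F)
    {X : Sp S} (hX : IsAlgSpace X) (p : X.obj ⟶ F)
    (hp : RepBySpWith (IsSurjectiveMor ⊓ IsEtaleMor) p) : IsAlgSpaceP F := by
  obtain ⟨U, a, hae, has⟩ := hX.atlas
  have key : ∀ (T : Over S) (ξ : (pyon S).obj T ⟶ F), ∃ (W : Over S)
      (w₁ : (pyon S).obj W ⟶ (pyon S).obj U) (w₂ : W ⟶ T),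
      IsPullback w₁ ((pyon S).map w₂) (a.hom ≫ p) ξ ∧ Etale w₂.left ∧ Surjective w₂.left := by
    intro T ξ
    have sqP := IsPullback.of_hasPullback p ξ
    obtain ⟨hsh, hP, hPs, hPe⟩ := hp ξ _ _ sqP
    let P' : Sp S := ⟨pullback p ξ, hsh⟩
    let fstP : P' ⟶ X := ObjectProperty.homMk (pullback.fst p ξ)
    let sndP : P' ⟶ (yon S).obj T := ObjectProperty.homMk (pullback.snd p ξ)
    have sqQ := IsPullback.of_hasPullback a fstP
    have sqQ' : IsPullback (pullback.fst a fstP).hom (pullback.snd a fstP).hom a.hom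
        (pullback.fst p ξ) := sqQ.map (sheafToPresheaf (J S) (Type (u + 1)))
    have sqB : IsPullback (pullback.fst a fstP).hom
        ((pullback.snd a fstP).hom ≫ pullback.snd p ξ) (a.hom ≫ p) ξ := sqQ'.paste_vert sqP
    have hQ : IsAlgSpace (pullback a fstP) :=
      isAlgSpace_of_isPullback hX.diag (IsAlgSpace.yon_obj U) hP a _ _ _ sqQ
    have ha'e : RepWith @Etale (pullback.snd a fstP) := repWith_of_isPullback @Etale sqQ hae
    have ha's : RepWith @Surjective (pullback.snd a fstP) :=
      repWith_of_isPullback @Surjective sqQ has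
    have h1' : LocP @Etale (pullback.snd a fstP ≫ sndP) :=
      locP_comp @Etale hQ hP (IsAlgSpace.yon_obj T) _ _
        (locP_of_repWith @Etale hQ.diag _ ha'e)
        (locP_etale_of_isEtaleMor (IsAlgSpace.yon_obj T).diag _ hPe)
    obtain ⟨W, ⟨e⟩⟩ := exists_iso_yon_of_jointly_mono hQ (pullback.fst a fstP)
      (pullback.snd a fstP ≫ sndP)
      (fun s t h1 h2 => ObjectProperty.hom_ext _ (sqB.hom_ext
        (congrArg (fun m => m.hom) h1) (congrArg (fun m => m.hom) h2)))
      (locP_mono etale_le_lqf_lft h1')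
    obtain ⟨w₂, hw₂⟩ := (yon S).map_surjective (e.hom ≫ pullback.snd a fstP ≫ sndP)
    let e' : (pyon S).obj W ≅ (pullback a fstP).obj :=
      (sheafToPresheaf (J S) (Type (u + 1))).mapIso e
    have hw₂' : (pyon S).map w₂ = e'.hom ≫ (pullback.snd a fstP).hom ≫ pullback.snd p ξ :=
      congrArg (fun m => m.hom) hw₂
    refine ⟨W, e'.hom ≫ (pullback.fst a fstP).hom, w₂, ?_, ?_, ?_⟩
    · rw [hw₂']
      exact IsPullback.of_iso sqB e'.symm (Iso.refl _) (Iso.refl _) (Iso.refl _)
        ((Category.comp_id _).trans (e'.inv_hom_id_assoc _).symm)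
        ((Category.comp_id _).trans (e'.inv_hom_id_assoc _).symm)
        ((Category.comp_id _).trans (Category.id_comp _).symm)
        ((Category.comp_id _).trans (Category.id_comp _).symm)
    · have h2 : LocP @Etale ((yon S).map w₂) := by
        rw [hw₂]
        exact locP_comp @Etale (IsAlgSpace.yon_obj W) hQ (IsAlgSpace.yon_obj T) e.hom _
          (locP_of_isIso @Etale hQ.diag e.hom) h1'
      exact locP_yon_map h2
    · apply surjective_of_surjective_points_map
      rw [hw₂]
      intro y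
      obtain ⟨y₁, hy₁⟩ := hPs y
      obtain ⟨y₂, hy₂⟩ := isSurjectiveMor_of_repWith_surjective _ ha's y₁
      refine ⟨Points.map e.inv y₂, ?_⟩
      rw [← Points.map_comp, Iso.inv_hom_id_assoc, Points.map_comp, hy₂, hy₁]
  have hce : (MorphismProperty.inverseImage @Etale (Over.forget S)).relative (pyon S)
      (a.hom ≫ p) := by
    refine MorphismProperty.relative.of_exists fun T ξ => ?_
    obtain ⟨W, w₁, w₂, sq, he, -⟩ := key T ξ
    exact ⟨W, w₁, w₂, sq, he⟩
  have hcs : (MorphismProperty.inverseImage @Surjective (Over.forget S)).relative (pyon S)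
      (a.hom ≫ p) := by
    refine MorphismProperty.relative.of_exists fun T ξ => ?_
    obtain ⟨W, w₁, w₂, sq, -, hs⟩ := key T ξ
    exact ⟨W, w₁, w₂, sq, hs⟩
  exact isAlgSpaceP_of_etale_chart F h1 U (a.hom ≫ p) hce hcs

end Groth.Agent.Helper2.EtSheafSpace
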