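import Mathlib
import Groth.Prelude.Def_AlgSpOX2
import Groth.Agent.Lib.Helper2.AlgSp.EtPullQc

/-!
# Quasi-coherence can be checked on a surjective etale chart

The slice of the small etale site of `X` over an object `E₀ = (U, p)` is equivalent to the small
etale site of `h_U`; under this equivalence `F.over E₀` corresponds to the restriction of `F`
along `postcomp p`.  Hence `F` is quasi-coherent as soon as `p^* F` is, for `p` surjective etale.
-/

set_option autoImplicit false
set_option backward.isDefEq.respectTransparency false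
set_option synthInstance.maxHeartbeats 400000
set_option maxHeartbeats 4000000
set_option linter.style.haveILetI false
set_option linter.unusedSectionVars false
set_option linter.unusedVariables false
set_option linter.unusedSimpArgs false
set_option linter.unnecessarySimpa false

namespace Groth.Agent.Helper2.EtSliceQc

open CategoryTheory CategoryTheory.Limits AlgebraicGeometry Opposite AlgSp AlgSp.EtOver
open Groth.Agent.Helper2.EtPullMod Groth.Agent.Helper2.EtPullQc

universe u

variable {S : Scheme.{u}} {X : Sp S} (E₀ : EtOver X)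

theorem G_map_w {Z Z' : Over E₀} (k : Z ⟶ Z') :
    (yon S).map k.left.hom.left ≫ (yon S).map Z'.hom.hom.left = (yon S).map Z.hom.hom.left := by
  have h : k.left.hom.left ≫ Z'.hom.hom.left = Z.hom.hom.left :=
    congrArg (fun m => m.hom.left) (Over.w k)
  rw [← Functor.map_comp, h]

/-- The slice of the small etale site over `E₀` maps to the small etale site of the scheme of
`E₀`. -/
noncomputable def G : Over E₀ ⥤ EtOver ((yon S).obj E₀.obj.left) where
  obj Z := EtOver.mk ((yon S).map Z.hom.hom.left)
    ((repWith_yon_map_iff @Etale Z.hom.hom.left).2 (EtOver.etale_left Z.hom))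
  map {Z Z'} k := EtOver.homMk k.left.hom.left (G_map_w E₀ k)
  map_id Z := EtOver.hom_ext _ _ rfl
  map_comp k k' := EtOver.hom_ext _ _ rfl

theorem w_left (Z : Over E₀) : (yon S).map Z.hom.hom.left ≫ E₀.obj.hom = Z.left.obj.hom :=
  EtOver.w Z.hom

instance G_faithful : (G E₀).Faithful where
  map_injective {Z Z'} k k' h := Over.OverMorphism.ext
    (EtOver.hom_ext _ _ (congrArg (fun m => m.hom.left) h))

instance G_full : (G E₀).Full where
  map_surjective {Z Z'} m := by
    have h0 : (yon S).map m.hom.left ≫ (yon S).map Z'.hom.hom.left =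
        (yon S).map Z.hom.hom.left := EtOver.w m
    have hw : m.hom.left ≫ Z'.hom.hom.left = Z.hom.hom.left := (yon S).map_injective (by
      rw [Functor.map_comp]; exact h0)
    have e1 : Z'.left.obj.hom = (yon S).map Z'.hom.hom.left ≫ E₀.obj.hom := (w_left E₀ Z').symm
    have e2 : Z.left.obj.hom = (yon S).map Z.hom.hom.left ≫ E₀.obj.hom := (w_left E₀ Z).symm
    have w1 : (yon S).map m.hom.left ≫ Z'.left.obj.hom = Z.left.obj.hom :=
      (congrArg (fun t => (yon S).map m.hom.left ≫ t) e1).trans
        ((Category.assoc _ _ _).symm.trans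
          ((congrArg (fun t => t ≫ E₀.obj.hom) h0).trans e2.symm))
    exact ⟨Over.homMk (EtOver.homMk m.hom.left w1) (EtOver.hom_ext _ _ hw),
      EtOver.hom_ext _ _ rfl⟩

instance G_essSurj : (G E₀).EssSurj where
  mem_essImage W := by
    obtain ⟨a, ha⟩ := (yon S).map_surjective W.obj.hom
    have hE : RepWith @Etale ((yon S).map a) := ha ▸ W.property
    let Y : EtOver X := EtOver.mk ((yon S).map a ≫ E₀.obj.hom)
      (AlgSpBasic.repWith_comp @Etale hE E₀.property)
    let Z : Over E₀ := Over.mk (Y := Y) (EtOver.homMk a rfl)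
    refine ⟨Z, ⟨Iso.mk (EtOver.homMk (𝟙 W.obj.left) ?_) (EtOver.homMk (𝟙 W.obj.left) ?_)
      (EtOver.hom_ext _ _ (Category.id_comp _)) (EtOver.hom_ext _ _ (Category.id_comp _))⟩⟩
    · change (yon S).map (𝟙 _) ≫ W.obj.hom = (yon S).map a
      rw [CategoryTheory.Functor.map_id, Category.id_comp, ha]
    · change (yon S).map (𝟙 _) ≫ (yon S).map a = W.obj.hom
      rw [CategoryTheory.Functor.map_id, Category.id_comp, ha]

instance G_isEquivalence : (G E₀).IsEquivalence :=
  Functor.IsEquivalence.mk inferInstance inferInstance inferInstance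

instance G_preservesPullbacks : PreservesLimitsOfShape WalkingCospan (G E₀) := inferInstance

theorem etPre_comap_forget_eq :
    (etPre X).comap (Over.forget E₀) = (etPre ((yon S).obj E₀.obj.left)).comap (G E₀) := by
  unfold etPre
  rw [← Precoverage.comap_comp, ← Precoverage.comap_comp]
  rfl

instance G_isContinuous :
    (G E₀).IsContinuous ((etTop X).over E₀) (etTop ((yon S).obj E₀.obj.left)) := by
  have h := Functor.isContinuous_toGrothendieck_of_pullbacksPreservedBy (G E₀)
    ((etPre X).comap (Over.forget E₀)) (etPre ((yon S).obj E₀.obj.left))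
    (le_of_eq (etPre_comap_forget_eq E₀))
  rw [← over_toGrothendieck_eq_toGrothendieck_comap_forget] at h
  exact h

/-- Lift of an object over `G Z` to the small etale site of `X`. -/
noncomputable def liftObj {Z : Over E₀} {W : EtOver ((yon S).obj E₀.obj.left)}
    (g : W ⟶ (G E₀).obj Z) : EtOver X :=
  EtOver.mk ((yon S).map g.hom.left ≫ Z.left.obj.hom)
    (AlgSpBasic.repWith_comp @Etale ((repWith_yon_map_iff @Etale g.hom.left).2
      (EtOver.etale_left g)) Z.left.property)

noncomputable def liftHom {Z : Over E₀} {W : EtOver ((yon S).obj E₀.obj.left)}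
    (g : W ⟶ (G E₀).obj Z) : liftObj E₀ g ⟶ Z.left :=
  EtOver.homMk g.hom.left rfl

theorem mem_of_lift {Z : Over E₀} {W : EtOver ((yon S).obj E₀.obj.left)}
    (g : W ⟶ (G E₀).obj Z) (T : Sieve ((G E₀).obj Z)) (hT : T.arrows g) {Y : EtOver X}
    (a : Y ⟶ liftObj E₀ g) :
    (Sieve.overEquiv Z (T.functorPullback (G E₀))).arrows (a ≫ liftHom E₀ g) := by
  refine (Sieve.overEquiv_iff _ _).2 ?_
  have e1 : W.obj.hom = (yon S).map g.hom.left ≫ (yon S).map Z.hom.hom.left := (EtOver.w g).symm
  let c : (G E₀).obj (Over.mk ((a ≫ liftHom E₀ g) ≫ Z.hom)) ⟶ W := EtOver.homMk a.hom.left (by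
    change (yon S).map a.hom.left ≫ W.obj.hom =
      (yon S).map (a.hom.left ≫ g.hom.left ≫ Z.hom.hom.left)
    rw [e1, Functor.map_comp, Functor.map_comp])
  have hc : (G E₀).map (Over.homMk (a ≫ liftHom E₀ g) rfl :
      Over.mk ((a ≫ liftHom E₀ g) ≫ Z.hom) ⟶ Z) = c ≫ g := EtOver.hom_ext _ _ rfl
  change T.arrows ((G E₀).map (Over.homMk (a ≫ liftHom E₀ g) rfl :
      Over.mk ((a ≫ liftHom E₀ g) ≫ Z.hom) ⟶ Z))
  rw [hc]
  exact T.downward_closed hT c

instance G_isCocontinuous :
    (G E₀).IsCocontinuous ((etTop X).over E₀) (etTop ((yon S).obj E₀.obj.left)) := by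
  refine ⟨fun {Z} T hT => ?_⟩
  obtain ⟨R, hR, hle⟩ :=
    (Precoverage.mem_toGrothendieck_iff_of_isStableUnderComposition
      (J := etPre ((yon S).obj E₀.obj.left))).1 hT
  obtain ⟨ι, W, g, rfl⟩ := Presieve.exists_eq_ofArrows R
  rw [ofArrows_mem_etPre_iff] at hR
  rw [GrothendieckTopology.mem_over_iff]
  have hcov : Sieve.ofArrows (fun i => liftObj E₀ (g i)) (fun i => liftHom E₀ (g i)) ∈
      etTop X Z.left := ofArrows_mem_etTop _ _ hR
  refine (etTop X).superset_covering ?_ hcov
  rintro V k ⟨Y, a, b, ⟨i⟩, rfl⟩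
  exact mem_of_lift E₀ (g i) T (hle _ _ (Presieve.ofArrows.mk i)) a

instance G_over_post_isContinuous (Z : Over E₀) :
    (Over.post (X := Z) (G E₀)).IsContinuous (((etTop X).over E₀).over Z)
      ((etTop ((yon S).obj E₀.obj.left)).over ((G E₀).obj Z)) := by
  have h := over_post_isContinuous ((etPre X).comap (Over.forget E₀))
    (etPre ((yon S).obj E₀.obj.left)) (G E₀) (le_of_eq (etPre_comap_forget_eq E₀)) Z
  rw [← over_toGrothendieck_eq_toGrothendieck_comap_forget] at h
  exact h

/-- The identification of structure sheaves along `G`. -/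
noncomputable def ψG : (OEtRing X).over E₀ ⟶
    ((G E₀).sheafPushforwardContinuous RingCat.{u + 1} ((etTop X).over E₀)
      (etTop ((yon S).obj E₀.obj.left))).obj (OEtRing ((yon S).obj E₀.obj.left)) :=
  ObjectProperty.homMk
    { app := fun Z =>
        𝟙 ((BigSite.ORing Scheme.etalePrecoverage S).obj.obj (op Z.unop.left.obj.left))
      naturality := fun Z Z' k => by
        change (BigSite.ORing Scheme.etalePrecoverage S).obj.map k.unop.left.hom.left.op ≫ 𝟙 _ =
          𝟙 _ ≫ (BigSite.ORing Scheme.etalePrecoverage S).obj.map k.unop.left.hom.left.op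
        rw [Category.comp_id, Category.id_comp] }

instance isIso_ψG : IsIso (ψG E₀) := by
  haveI : IsIso ((sheafToPresheaf _ _).map (ψG E₀)) := by
    haveI : ∀ Z, IsIso (((sheafToPresheaf _ _).map (ψG E₀)).app Z) :=
      fun Z => (inferInstance : IsIso (𝟙 _))
    exact NatIso.isIso_of_isIso_app _
  exact isIso_of_reflects_iso _ (sheafToPresheaf _ _)

theorem isIso_unitG : IsIso (SheafOfModules.unitToPushforwardObjUnit (ψG E₀)) := by
  haveI : IsIso ((SheafOfModules.forget _).map
      (SheafOfModules.unitToPushforwardObjUnit (ψG E₀))) := by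
    haveI : IsIso ((PresheafOfModules.toPresheaf _).map ((SheafOfModules.forget _).map
        (SheafOfModules.unitToPushforwardObjUnit (ψG E₀)))) := by
      haveI : ∀ Z, IsIso (((PresheafOfModules.toPresheaf _).map ((SheafOfModules.forget _).map
          (SheafOfModules.unitToPushforwardObjUnit (ψG E₀)))).app Z) := by
        intro Z
        rw [ConcreteCategory.isIso_iff_bijective]
        exact ⟨fun a b h => h, fun a => ⟨a, rfl⟩⟩
      exact NatIso.isIso_of_isIso_app _
    exact isIso_of_reflects_iso _ (PresheafOfModules.toPresheaf _)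
  exact isIso_of_reflects_iso _ (SheafOfModules.forget _)

variable (he : IsEtaleMor E₀.obj.hom)

/-- Forgetting the slice is `G` followed by `postcomp`, up to the canonical isomorphism. -/
noncomputable def eIso : Over.forget E₀ ≅ G E₀ ⋙ postcomp E₀.obj.hom he :=
  NatIso.ofComponents (fun Z =>
    { hom := EtOver.homMk (𝟙 Z.left.obj.left) (by
        change (yon S).map (𝟙 _) ≫ ((yon S).map Z.hom.hom.left ≫ E₀.obj.hom) = Z.left.obj.hom
        rw [CategoryTheory.Functor.map_id, Category.id_comp]
        exact EtOver.w Z.hom)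
      inv := EtOver.homMk (𝟙 Z.left.obj.left) (by
        change (yon S).map (𝟙 _) ≫ Z.left.obj.hom = (yon S).map Z.hom.hom.left ≫ E₀.obj.hom
        rw [CategoryTheory.Functor.map_id, Category.id_comp]
        exact (EtOver.w Z.hom).symm)
      hom_inv_id := EtOver.hom_ext _ _ (Category.id_comp _)
      inv_hom_id := EtOver.hom_ext _ _ (Category.id_comp _) })
    (fun {Z Z'} k => EtOver.hom_ext _ _ ((Category.comp_id _).trans (Category.id_comp _).symm))

instance comp_isContinuous :
    (G E₀ ⋙ postcomp E₀.obj.hom he).IsContinuous ((etTop X).over E₀) (etTop X) :=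
  Functor.isContinuous_comp _ _ _ (etTop ((yon S).obj E₀.obj.left)) _

theorem ring_compat :
    ((ψG E₀ ≫ ((G E₀).sheafPushforwardContinuous RingCat.{u + 1} ((etTop X).over E₀)
        (etTop ((yon S).obj E₀.obj.left))).map (resRingHom he) :
      (OEtRing X).over E₀ ⟶ ((G E₀ ⋙ postcomp E₀.obj.hom he).sheafPushforwardContinuous
        RingCat.{u + 1} ((etTop X).over E₀) (etTop X)).obj (OEtRing X))) ≫
      (Functor.sheafPushforwardContinuousNatTrans (eIso E₀ he).hom RingCat.{u + 1}
        ((etTop X).over E₀) (etTop X)).app (OEtRing X) = 𝟙 ((OEtRing X).over E₀) := by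
  refine Sheaf.hom_ext ?_
  refine NatTrans.ext (funext fun Z => ?_)
  change (𝟙 ((BigSite.ORing Scheme.etalePrecoverage S).obj.obj (op Z.unop.left.obj.left)) ≫
      𝟙 _) ≫ (BigSite.ORing Scheme.etalePrecoverage S).obj.map (𝟙 Z.unop.left.obj.left).op = 𝟙 _
  rw [Category.id_comp, Category.id_comp, op_id]
  exact CategoryTheory.Functor.map_id _ _

/-- If the restriction of `M` along `postcomp p` is quasi-coherent, so is `M.over (U, p)`. -/
theorem isQuasicoherent_over (M : ModEt X)
    (hM : ((SheafOfModules.pushforward.{u + 1} (resRingHom he)).obj M).IsQuasicoherent) :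
    (M.over E₀).IsQuasicoherent := by
  haveI := hM
  haveI := isIso_unitG E₀
  have h1 : ((SheafOfModules.pushforward.{u + 1} (ψG E₀)).obj
      ((SheafOfModules.pushforward.{u + 1} (resRingHom he)).obj M)).IsQuasicoherent :=
    SheafOfModules.isQuasicoherent_pushforward_of_isLeftAdjoint (G E₀) (ψG E₀)
      (asIso (SheafOfModules.unitToPushforwardObjUnit (ψG E₀))).symm
  exact (SheafOfModules.isQuasicoherent.{u + 1} ((OEtRing X).over E₀)).prop_of_iso
    ((SheafOfModules.pushforwardCongr₂ _ (eIso E₀ he) (ring_compat E₀ he)).app M) h1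

/-- A surjective etale chart covers the terminal object of the small etale site. -/
theorem coversTop (hrep : Representable E₀.obj.hom) (hs : RepWith @Surjective E₀.obj.hom) :
    (etTop X).CoversTop (fun _ : PUnit.{u + 2} => E₀) := by
  intro E
  have hpb := hrep.isPullback E.obj.hom
  have hetale : Etale (hrep.snd E.obj.hom).left :=
    E₀.property.2 E.obj.hom (hrep.fst E.obj.hom) (hrep.snd E.obj.hom) hpb
  have hsurj : Surjective (hrep.snd E.obj.hom).left :=
    hs.2 E.obj.hom (hrep.fst E.obj.hom) (hrep.snd E.obj.hom) hpb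
  obtain ⟨a', ha'⟩ := (yon S).map_surjective (hrep.fst E.obj.hom)
  let E' : EtOver X := EtOver.mk ((yon S).map (hrep.snd E.obj.hom) ≫ E.obj.hom)
    (AlgSpBasic.repWith_comp @Etale ((repWith_yon_map_iff @Etale _).2 hetale) E.property)
  let k : E' ⟶ E := EtOver.homMk (hrep.snd E.obj.hom) rfl
  let t : E' ⟶ E₀ := EtOver.homMk a' (by
    change (yon S).map a' ≫ E₀.obj.hom = (yon S).map (hrep.snd E.obj.hom) ≫ E.obj.hom
    rw [ha']
    exact hpb.w)
  have hcov : Sieve.ofArrows (fun _ : PUnit.{1} => E') (fun _ => k) ∈ etTop X E := by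
    refine ofArrows_mem_etTop _ _ fun x => ?_
    obtain ⟨y, hy⟩ := hsurj.surj x
    exact ⟨PUnit.unit, y, hy⟩
  refine (etTop X).superset_covering ?_ hcov
  rintro V m ⟨Z, a, b, ⟨i⟩, rfl⟩
  exact ⟨PUnit.unit, ⟨a ≫ t⟩⟩

/-- Quasi-coherence descends along a surjective etale chart. -/
theorem isQuasicoherent_of_pullModEt_chart (F : ModEt X) {U : Over S}
    (p : (yon S).obj U ⟶ X) (hrep : Representable p) (hp : RepWith @Etale p)
    (hs : RepWith @Surjective p)
    [(SheafOfModules.pushforward.{u + 1} (bcRingHom hrep)).IsRightAdjoint]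
    (hF : ((pullModEt hrep).obj F).IsQuasicoherent) : F.IsQuasicoherent := by
  have he : IsEtaleMor p := isEtaleMor_of_repWith p hp
  have h1 : ((SheafOfModules.pushforward.{u + 1} (resRingHom he)).obj F).IsQuasicoherent :=
    (SheafOfModules.isQuasicoherent.{u + 1} (OEtRing ((yon S).obj U))).prop_of_iso
      ((pullIso hrep he).app F) hF
  haveI : (F.over (EtOver.mk p hp)).IsQuasicoherent :=
    isQuasicoherent_over (EtOver.mk p hp) he F h1
  exact SheafOfModules.IsQuasicoherent.of_coversTop F (fun _ : PUnit.{u + 2} => EtOver.mk p hp)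
    (coversTop (EtOver.mk p hp) hrep hs)

end Groth.Agent.Helper2.EtSliceQc
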