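import Mathlib
import Groth.Prelude.Def_AlgSpCov
import Groth.Prelude.Def_AlgSpEt
import Groth.Agent.Lib.Helper2.AlgSp.Points

/-!
# The functor from the small etale site of `Y` to the big etale site of spaces over `X`

Continuity and cocontinuity of `(h_U ⟶ Y) ↦ (h_U ⟶ Y ⟶ X)`.
-/

set_option autoImplicit false
set_option backward.isDefEq.respectTransparency false
set_option synthInstance.maxHeartbeats 400000
set_option maxHeartbeats 4000000
set_option linter.style.haveILetI false
set_option linter.unusedSectionVars false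
set_option linter.unusedVariables false
set_option linter.unusedSimpArgs false
set_option linter.unnecessarySimpa false

namespace Groth.Agent.Helper2.EtSpSite

open CategoryTheory CategoryTheory.Limits AlgebraicGeometry Opposite AlgSp

universe u

variable {S : Scheme.{u}}

/-- The functor of the statements. -/
noncomputable abbrev G {X Y : Space S} (f : Y ⟶ X) : EtOver Y.obj ⥤ Over X :=
  EtOver.toEtSpOver Y ⋙ ObjectProperty.ι (fun E : Over Y => IsEtaleMor E.hom.hom) ⋙ Over.map f

section Pullbacks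

variable {X Y : Space S} (f : Y ⟶ X) {E₁ E₂ E₀ : EtOver Y.obj} (g₁ : E₁ ⟶ E₀) (g₂ : E₂ ⟶ E₀)

theorem isPullback_space :
    IsPullback ((AlgSp.ofScheme S).map (pullback.fst g₁.hom.left g₂.hom.left))
      ((AlgSp.ofScheme S).map (pullback.snd g₁.hom.left g₂.hom.left))
      ((AlgSp.ofScheme S).map g₁.hom.left) ((AlgSp.ofScheme S).map g₂.hom.left) := by
  have h1 : IsPullback (pullback.fst g₁.hom.left g₂.hom.left) (pullback.snd g₁.hom.left g₂.hom.left)
      g₁.hom.left g₂.hom.left := IsPullback.of_hasPullback _ _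
  have h2 := h1.map (yon S)
  refine IsPullback.of_map (ObjectProperty.ι (IsAlgSpace (S := S))) ?_ h2
  rw [← Functor.map_comp, ← Functor.map_comp, pullback.condition]

theorem map_condition :
    (G f).map (EtOver.pullbackFst g₁ g₂) ≫ (G f).map g₁ =
      (G f).map (EtOver.pullbackSnd g₁ g₂) ≫ (G f).map g₂ := by
  rw [← Functor.map_comp, ← Functor.map_comp, EtOver.pullback_condition]

theorem isPullback_G :
    IsPullback ((G f).map (EtOver.pullbackFst g₁ g₂)) ((G f).map (EtOver.pullbackSnd g₁ g₂))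
      ((G f).map g₁) ((G f).map g₂) :=
  IsPullback.of_map (Over.forget X) (map_condition f g₁ g₂) (isPullback_space g₁ g₂)

noncomputable instance preservesLimit_cospan_G : PreservesLimit (cospan g₁ g₂) (G f) :=
  preservesLimit_of_preserves_limit_cone (EtOver.pullbackIsLimit g₁ g₂)
    ((isLimitMapConePullbackConeEquiv _ _).symm (isPullback_G f g₁ g₂).isLimit)

end Pullbacks

noncomputable instance preservesPullbacks_G {X Y : Space S} (f : Y ⟶ X) :
    PreservesLimitsOfShape WalkingCospan (G f) where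
  preservesLimit {K} := preservesLimit_of_iso_diagram _ (diagramIsoCospan K).symm

/-- The image of a covering of the small etale site generates a covering of the big site. -/
theorem generate_map_mem {X Y : Space S} (f : Y ⟶ X) {E : EtOver Y.obj} (R : Presieve E)
    (hR : R ∈ etPre Y.obj E) :
    Sieve.generate (R.map (G f)) ∈ spacesTopOver IsEtaleMor X ((G f).obj E) := by
  obtain ⟨ι, Z, g, rfl⟩ := R.exists_eq_ofArrows
  rw [Presieve.map_ofArrows, GrothendieckTopology.mem_over_iff]
  have h1 : Sieve.overEquiv ((G f).obj E)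
      (Sieve.generate (Presieve.ofArrows (fun i => (G f).obj (Z i)) (fun i => (G f).map (g i)))) =
      Sieve.ofArrows (fun i => ((G f).obj (Z i)).left) (fun i => ((G f).map (g i)).left) :=
    Sieve.overEquiv_ofArrows _ _
  rw [h1]
  refine Precoverage.generate_mem_toGrothendieck ?_
  rw [mem_spacesPre_iff]
  refine ⟨?_, fun x => ?_⟩
  · rintro Y' k ⟨i⟩
    exact (isEtaleMor_yon_map_iff (g i).hom.left).2 (EtOver.etale_left (g i))
  · have hx : Points.ofScheme E.obj.left (Points.toScheme E.obj.left x) = x :=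
      Points.ofScheme_toScheme E.obj.left x
    obtain ⟨i, z, hz⟩ := (ofArrows_mem_etPre_iff Z g).1 hR (Points.toScheme E.obj.left x)
    refine ⟨_, _, ⟨i⟩, Points.ofScheme (Z i).obj.left z, ?_⟩
    rw [← hx, ← hz]
    exact Points.map_yon_map_apply (g i).hom.left z

theorem isContinuous {X Y : Space S} (f : Y ⟶ X) :
    (G f).IsContinuous (etTop Y.obj) (spacesTopOver IsEtaleMor X) := by
  change (G f).IsContinuous (etPre Y.obj).toGrothendieck _
  refine ⟨fun ⟨P, H⟩ => ?_⟩
  rw [isSheaf_iff_isSheaf_of_type] at H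
  rw [← Precoverage.toGrothendieck_toCoverage, Presieve.isSheaf_coverage]
  intro E R hR
  have : (G f).PreservesPairwisePullbacks R := inferInstance
  have : R.HasPairwisePullbacks := (etPre Y.obj).hasPairwisePullbacks_of_mem hR
  rw [Presieve.IsSheafFor.comp_iff_of_preservesPairwisePullbacks]
  rw [Presieve.isSheafFor_iff_generate]
  exact H _ (generate_map_mem f R hR)

/-! ### Cocontinuity -/

/-- A sieve on an algebraic space is *locally nonempty for the etale topology of schemes* if every
scheme-valued point lifts etale locally into the sieve. -/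
def Loc {Z : Space S} (T : Sieve Z) : Prop :=
  ∀ (U : Over S) (a : (AlgSp.ofScheme S).obj U ⟶ Z) (u : ↥U.left),
    ∃ (W : Over S) (e : W ⟶ U) (w : ↥W.left), Etale e.left ∧ e.left w = u ∧
      T ((AlgSp.ofScheme S).map e ≫ a)

theorem loc_of_saturate {Z : Space S} {T : Sieve Z}
    (h : (spacesPre S IsEtaleMor).Saturate Z T) : Loc T := by
  induction h with
  | of Z R hR =>
    intro U a u
    obtain ⟨hP, hx⟩ := (mem_spacesPre_iff _ R).1 hR
    obtain ⟨Y', g, hg, y', hy'⟩ := hx (Points.ofPt a.hom u)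
    obtain ⟨V, φ, hφe, hφs⟩ := Y'.property.atlas
    obtain ⟨v, rfl⟩ := AlgSpBasic.surjective_ofPt φ hφs y'
    have hrw : RepWith @Etale (φ ≫ g.hom) := hP g hg φ hφe
    have hrep := hrw.rep
    have sq := hrep.isPullback a.hom
    obtain ⟨fst', hfst'⟩ := (yon S).map_surjective (hrep.fst a.hom)
    have sq' : IsPullback ((yon S).map fst') ((yon S).map (hrep.snd a.hom)) (φ ≫ g.hom) a.hom := by
      rw [hfst']; exact sq
    have e1 : Points.ofPt (φ ≫ g.hom) v = Points.ofPt a.hom u := by
      rw [← Points.map_ofPt]; exact hy'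
    obtain ⟨w, hw1, hw2⟩ := AlgSpBasic.exists_point_of_isPullback_yon (φ ≫ g.hom) a.hom fst'
      (hrep.snd a.hom) sq' v u e1
    refine ⟨hrep.pullback a.hom, hrep.snd a.hom, w, hrw.property a.hom _ _ sq, hw2, ?_⟩
    refine ⟨Y', ObjectProperty.homMk (hrep.fst a.hom ≫ φ), g, hg, ?_⟩
    refine ObjectProperty.hom_ext _ ?_
    show (hrep.fst a.hom ≫ φ) ≫ g.hom = (yon S).map (hrep.snd a.hom) ≫ a.hom
    rw [Category.assoc]
    exact sq.w
  | top Z =>
    intro U a u
    refine ⟨U, 𝟙 U, u, ?_, ?_, trivial⟩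
    · rw [Over.id_left]; infer_instance
    · rw [Over.id_left]; rfl
  | pullback Z T hT Z' f ih =>
    intro U a u
    obtain ⟨W, e, w, he, hw, hmem⟩ := ih U (a ≫ f) u
    refine ⟨W, e, w, he, hw, ?_⟩
    show T (((AlgSp.ofScheme S).map e ≫ a) ≫ f)
    rw [Category.assoc]
    exact hmem
  | transitive Z T₀ T hT₀ hT ih₀ ih =>
    intro U a u
    obtain ⟨W₁, e₁, w₁, he₁, hw₁, hmem₁⟩ := ih₀ U a u
    obtain ⟨W₂, e₂, w₂, he₂, hw₂, hmem₂⟩ := ih hmem₁ W₁ (𝟙 _) w₁
    refine ⟨W₂, e₂ ≫ e₁, w₂, ?_, ?_, ?_⟩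
    · rw [Over.comp_left]
      haveI := he₁
      haveI := he₂
      infer_instance
    · rw [Over.comp_left, Scheme.Hom.comp_apply, hw₂, hw₁]
    · have h3 : T (((AlgSp.ofScheme S).map e₂ ≫ 𝟙 _) ≫ ((AlgSp.ofScheme S).map e₁ ≫ a)) := hmem₂
      rw [Category.comp_id, ← Category.assoc, ← Functor.map_comp] at h3
      exact h3

/-- The object of the small etale site of `Y` given by an etale morphism to an object. -/
noncomputable def liftObj {Y : Space S} (U : EtOver Y.obj) {W : Over S} (e : W ⟶ U.obj.left)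
    (he : Etale e.left) : EtOver Y.obj :=
  EtOver.mk ((yon S).map e ≫ U.obj.hom)
    ((repWith_isMultiplicative (S := S) @Etale).comp_mem _ _
      ((repWith_yon_map_iff _ _).2 he) U.property)

noncomputable def liftHom {Y : Space S} (U : EtOver Y.obj) {W : Over S} (e : W ⟶ U.obj.left)
    (he : Etale e.left) : liftObj U e he ⟶ U :=
  EtOver.homMk e rfl

theorem mem_of_overEquiv {X Y : Space S} (f : Y ⟶ X) (U : EtOver Y.obj)
    (Sv : Sieve ((G f).obj U)) {W : Over S} (e : W ⟶ U.obj.left) (he : Etale e.left)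
    (hmem : Sieve.overEquiv ((G f).obj U) Sv ((AlgSp.ofScheme S).map e ≫ 𝟙 _)) :
    Sv ((G f).map (liftHom U e he)) := by
  obtain ⟨Z', g', h', hg', heq⟩ :
      ∃ (Z' : Over X) (g' : Z' ⟶ (G f).obj U)
        (h' : (AlgSp.ofScheme S).obj W ⟶ (Over.forget X).obj Z'),
        Sv g' ∧ (AlgSp.ofScheme S).map e ≫ 𝟙 _ = h' ≫ (Over.forget X).map g' := hmem
  have heq' : (AlgSp.ofScheme S).map e = h' ≫ g'.left := by
    have h0 := heq
    rw [Category.comp_id] at h0
    exact h0
  have hw : h' ≫ Z'.hom = ((G f).obj (liftObj U e he)).hom := by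
    rw [← Over.w g', ← Category.assoc, ← heq']
    rfl
  have hfac : (G f).map (liftHom U e he) = Over.homMk h' hw ≫ g' := by
    apply Over.OverMorphism.ext
    exact heq'
  rw [hfac]
  exact Sv.downward_closed hg' _

theorem isCocontinuous {X Y : Space S} (f : Y ⟶ X) :
    (G f).IsCocontinuous (etTop Y.obj) (spacesTopOver IsEtaleMor X) := by
  constructor
  intro U Sv hSv
  rw [GrothendieckTopology.mem_over_iff] at hSv
  have hsat : (spacesPre S IsEtaleMor).Saturate _ (Sieve.overEquiv ((G f).obj U) Sv) := hSv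
  have hloc := loc_of_saturate hsat
  have key : ∀ u : ↥U.obj.left.left, ∃ (W : Over S) (e : W ⟶ U.obj.left) (w : ↥W.left),
      Etale e.left ∧ e.left w = u ∧
        Sieve.overEquiv ((G f).obj U) Sv ((AlgSp.ofScheme S).map e ≫ 𝟙 _) :=
    fun u => hloc U.obj.left (𝟙 _) u
  choose W e w he hw hmem using key
  have hcov : Sieve.ofArrows (fun u => liftObj U (e u) (he u)) (fun u => liftHom U (e u) (he u)) ∈
      etTop Y.obj U :=
    ofArrows_mem_etTop _ _ (fun x => ⟨x, w x, hw x⟩)
  refine (etTop Y.obj).superset_covering ?_ hcov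
  rw [Sieve.ofArrows, Sieve.generate_le_iff]
  rintro V k ⟨u⟩
  exact mem_of_overEquiv f U Sv (e u) (he u) (hmem u)

end Groth.Agent.Helper2.EtSpSite
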