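import Mathlib
import Groth.Agent.Lib.Helper2.AlgSp.Basic
import Groth.Prelude.Def_AlgSpMor5

set_option autoImplicit false
open CategoryTheory CategoryTheory.Limits AlgebraicGeometry Opposite AlgSp
open Groth.Agent.Helper2.AlgSpBasic

namespace Groth.Agent.Helper2.EtaleLocT
universe u
variable {S : Scheme.{u}}

theorem pullbackSnd_of_etale (P : MorphismProperty Scheme.{u})
    [P.IsLocalAtTarget Scheme.etalePrecoverage] {X Y U : Scheme.{u}} (f : X ⟶ Y) (g : U ⟶ Y)
    [Etale g] (hf : P f) : P (pullback.snd f g) := by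
  let Xf : Bool → Scheme.{u} := fun b => Bool.rec Y U b
  let ff : ∀ b, Xf b ⟶ Y := fun b => Bool.rec (motive := fun b => Xf b ⟶ Y) (𝟙 Y) g b
  have hR : Presieve.ofArrows Xf ff ∈ Scheme.etalePrecoverage Y := by
    refine (Scheme.ofArrows_mem_precoverage_iff (P := @Etale)).2 ⟨fun x => ⟨false, x, rfl⟩, fun b => ?_⟩
    cases b
    · exact (inferInstance : Etale (𝟙 Y))
    · exact (inferInstance : Etale g)
  have hg : Presieve.ofArrows Xf ff g := Presieve.ofArrows.mk (f := ff) true
  exact MorphismProperty.IsLocalAtTarget.pullbackSnd (K := Scheme.etalePrecoverage) hR hg hf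

theorem of_pullbackSnd_of_etale_surjective (P : MorphismProperty Scheme.{u})
    [P.IsLocalAtTarget Scheme.etalePrecoverage] {X Y U : Scheme.{u}} (f : X ⟶ Y) (g : U ⟶ Y)
    [Etale g] [Surjective g] (h : P (pullback.snd f g)) : P f := by
  have hR : Presieve.singleton g ∈ Scheme.etalePrecoverage Y := by
    exact (Scheme.singleton_mem_precoverage_iff (P := @Etale) g).2 ⟨g.surjective, inferInstance⟩
  refine MorphismProperty.IsLocalAtTarget.of_forall_pullbackSnd (K := Scheme.etalePrecoverage) hR ?_
  rintro _ _ _ ⟨⟩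
  exact h


theorem of_isPullback_etale (P : MorphismProperty Scheme.{u})
    [P.IsLocalAtTarget Scheme.etalePrecoverage] {X Y U X' : Scheme.{u}} {f : X ⟶ Y} {g : U ⟶ Y}
    {fst : X' ⟶ X} {snd : X' ⟶ U} (h : IsPullback fst snd f g) (hg : Etale g) (hf : P f) :
    P snd := by
  have h1 := pullbackSnd_of_etale P f g hf
  rw [← h.isoPullback_hom_snd]
  exact (P.cancel_left_of_respectsIso _ _).mpr h1

theorem of_isPullback_etale_surjective (P : MorphismProperty Scheme.{u})
    [P.IsLocalAtTarget Scheme.etalePrecoverage] {X Y U X' : Scheme.{u}} {f : X ⟶ Y} {g : U ⟶ Y}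
    {fst : X' ⟶ X} {snd : X' ⟶ U} (h : IsPullback fst snd f g) (hg : Etale g)
    (hg' : Surjective g) (hs : P snd) : P f := by
  apply of_pullbackSnd_of_etale_surjective P f g
  rw [← h.isoPullback_hom_snd] at hs
  exact (P.cancel_left_of_respectsIso _ _).mp hs

/-- One surjective étale chart suffices for a property étale local on the target. -/
theorem repLocT_of_chart (P : MorphismProperty Scheme.{u})
    [P.IsLocalAtTarget Scheme.etalePrecoverage] {X Y : Sp S} (f : X ⟶ Y) (hf : Representable f)
    {V W : Over S} (b : (yon S).obj V ⟶ Y) (hb1 : RepWith @Etale b) (hb2 : RepWith @Surjective b)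
    (fst : (yon S).obj W ⟶ X) (snd : W ⟶ V) (sq : IsPullback fst ((yon S).map snd) f b)
    (hP : P snd.left) : RepLocT P f := by
  refine ⟨hf, fun V' W' b' fst' snd' hb' sq' => ?_⟩
  have hrep : Representable b := hb1.rep
  obtain ⟨p1, hp1⟩ := (yon S).map_surjective (hrep.fst b')
  let p2 : hrep.pullback b' ⟶ V' := hrep.snd b'
  have sqV : IsPullback ((yon S).map p1) ((yon S).map p2) b b' := by
    rw [hp1]; exact hrep.isPullback b'
  haveI hp1e : Etale p1.left := hb'.property b _ p1 sqV.flip
  haveI hp2e : Etale p2.left := hb1.property b' _ p2 sqV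
  haveI hp2s : Surjective p2.left := hb2.property b' _ p2 sqV
  let D := overBC snd p1.left
  have hD : P D.snd'.left := of_isPullback_etale P (D.sq.map (Over.forget S)) hp1e hP
  -- the map to `V'`
  let p2' : D.T' ⟶ V' := Over.homMk p2.left (by
    show p2.left ≫ V'.hom = p1.left ≫ V.hom
    rw [Over.w p2, Over.w p1])
  let ehom : D.T' ⟶ hrep.pullback b' := Over.homMk (𝟙 _) (by
    show 𝟙 _ ≫ (hrep.pullback b').hom = p1.left ≫ V.hom
    rw [Category.id_comp, Over.w p1])
  have he1 : D.c' = ehom ≫ p1 := Over.OverMorphism.ext (by simp [ehom, D, overBC])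
  have he2 : p2' = ehom ≫ p2 := Over.OverMorphism.ext (Category.id_comp _).symm
  have hV : (yon S).map D.c' ≫ b = (yon S).map p2' ≫ b' := by
    rw [he1, he2, Functor.map_comp, Functor.map_comp, Category.assoc, Category.assoc, sqV.w]
  have A1 : IsPullback ((yon S).map D.fst' ≫ fst) ((yon S).map D.snd') f
      ((yon S).map D.c' ≫ b) := (D.sq.map (yon S)).paste_horiz sq
  rw [hV] at A1
  have hcomm : ((yon S).map D.fst' ≫ fst) ≫ f = ((yon S).map D.snd' ≫ (yon S).map p2') ≫ b' := by
    rw [A1.w, Category.assoc]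
  obtain ⟨r, hr⟩ := (yon S).map_surjective (sq'.lift _ _ hcomm)
  have A2 : IsPullback ((yon S).map r) ((yon S).map D.snd') ((yon S).map snd')
      ((yon S).map p2') := by
    rw [hr]
    refine IsPullback.of_right ?_ (sq'.lift_snd _ _ hcomm) sq'
    rw [sq'.lift_fst]
    exact A1
  have A3 : IsPullback r D.snd' snd' p2' :=
    IsPullback.of_map (yon S) ((yon S).map_injective (by
      rw [Functor.map_comp, Functor.map_comp]; exact A2.w)) A2
  have A4 : IsPullback r.left D.snd'.left snd'.left p2.left := A3.map (Over.forget S)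
  exact of_isPullback_etale_surjective P A4 hp2e hp2s hD

end Groth.Agent.Helper2.EtaleLocT
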