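import Mathlib
import Groth.Prelude.Def_AlgSp4
import Groth.Prelude.Def_AlgSpDec
import Groth.Prelude.Def_W4decUnivBdd
import Groth.Agent.Lib.Helper2.AlgSp.DecentLocal2

/-!
# Universally bounded fibres and decent spaces (helper2)
-/

set_option autoImplicit false
set_option backward.isDefEq.respectTransparency false

open CategoryTheory CategoryTheory.Limits AlgebraicGeometry Opposite AlgSp

namespace Groth.Agent.Helper2.UnivBdd
universe u
variable {S : Scheme.{u}}

/-- A scheme finite over the spectrum of a field is a finite set. -/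
theorem finite_of_isFinite_field {T : Scheme.{u}} {K : Type u} [Field K]
    (c : T ⟶ Spec (CommRingCat.of K)) [IsFinite c] : Finite ↥T := by
  let c₀ : ↥(Spec (CommRingCat.of K)) := IsLocalRing.closedPoint K
  have h1 := c.finite_preimage_singleton c₀
  refine Set.finite_univ_iff.mp (h1.subset (fun w _ => ?_))
  exact Subsingleton.elim (α := ↥(Spec (CommRingCat.of K))) _ _

/-- If the fibre product of the residue field point of a chart with the chart is a finite set,
the point is represented by a monomorphism. -/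
theorem exists_mono_of_finite_fibre_product {X : Sp S} (hX : IsAlgSpace X) {U : Over S}
    (φ : (yon S).obj U ⟶ X) (hφ : RepWith @Etale φ) (u : ↥U.left) {T : Over S}
    (c : T ⟶ FieldFibre.resOver U u) (snd₀ : T ⟶ U)
    (sqT : IsPullback ((yon S).map c) ((yon S).map snd₀)
      ((yon S).map (FieldFibre.resι U u) ≫ φ) φ) [Finite ↥T.left] :
    ∃ p : FieldPt X, Points.mk p = Points.ofPt φ u ∧ Mono p.toHom := by
  let str := U.left.fromSpecResidueField u ≫ U.hom
  let a : (yon S).obj (Over.mk str) ⟶ X := (yon S).map (FieldFibre.resι U u) ≫ φ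
  obtain ⟨P, π, π', sq⟩ := AlgSpBasic.exists_isPullback_yon hX.diag a a
  haveI : Etale π.left := FieldFibre.etale_fst_of_isPullback_residue φ hφ u str a π π' sq
  obtain ⟨l, hl⟩ := (yon S).map_surjective
    (sqT.lift ((yon S).map π) ((yon S).map (π' ≫ FieldFibre.resι U u)) (by
      rw [Functor.map_comp, Category.assoc]; exact sq.w))
  have hl1 : l ≫ c = π := (yon S).map_injective (by rw [Functor.map_comp, hl, sqT.lift_fst])
  have hl2 : l ≫ snd₀ = π' ≫ FieldFibre.resι U u :=
    (yon S).map_injective (by rw [Functor.map_comp, hl, sqT.lift_snd])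
  haveI : Mono l := by
    refine ⟨fun {Z} x y hxy => ?_⟩
    have h1 : x ≫ π = y ≫ π := by rw [← hl1, ← Category.assoc, hxy, Category.assoc]
    have h2 : x ≫ π' = y ≫ π' := by
      rw [← cancel_mono (FieldFibre.resι U u), Category.assoc, Category.assoc, ← hl2,
        ← Category.assoc, hxy, Category.assoc]
    apply (yon S).map_injective
    apply sq.hom_ext
    · rw [← Functor.map_comp, ← Functor.map_comp, h1]
    · rw [← Functor.map_comp, ← Functor.map_comp, h2]
  haveI : Mono l.left := inferInstance
  haveI : Finite ↥P.left := Finite.of_injective l.left l.left.injective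
  haveI : CompactSpace ↥P.left := Finite.compactSpace
  let cu : ↥(Over.mk str).left := IsLocalRing.closedPoint ↥(U.left.residueField u)
  obtain ⟨p, hp1, hp2, -⟩ := FieldQuot.exists_mono_fieldPt str π π' a sq.flip cu
  refine ⟨p, ?_, hp2⟩
  rw [hp1, AlgSpBasic.ofPt_yon_map_comp]
  have h1 : (FieldFibre.resι U u).left cu = u := Scheme.fromSpecResidueField_apply u cu
  rw [h1]

/-- `S10430`. -/
theorem isDecent_of_hasUnivBddFibres {X : Sp S} (hX : IsAlgSpace X)
    (h : ∀ (U : Over S) (φ : (yon S).obj U ⟶ X), IsAffine U.left → RepWith @Etale φ →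
      W4dec.HasUnivBddFibres φ) : IsDecent X := by
  intro x
  obtain ⟨V, φ, hV, hφ, ⟨u, hu⟩⟩ := FieldFibre.exists_affine_chart_through hX x
  obtain ⟨n, hn⟩ := h V φ hV hφ
  let str := V.left.fromSpecResidueField u ≫ V.hom
  let a : (yon S).obj (Over.mk str) ⟶ X := (yon S).map (FieldFibre.resι V u) ≫ φ
  obtain ⟨T, c, snd₀, sqT⟩ := AlgSpBasic.exists_isPullback_yon hX.diag a φ
  have hfinc : IsFinite c.left := by
    have sq' : IsPullback ((yon S).map c) ((yon S).map snd₀)
        (AlgSpBasic.fieldPtOfHom str a).toHom φ := by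
      rw [FieldQuot.toHom_fieldPtOfHom]; exact sqT
    exact (hn (AlgSpBasic.fieldPtOfHom str a) T c _ sq').1
  haveI : Finite ↥T.left :=
    finite_of_isFinite_field (K := ↥(V.left.residueField u)) c.left
  obtain ⟨p, hp, hm⟩ := exists_mono_of_finite_fibre_product hX φ hφ u c snd₀ sqT
  rw [hu] at hp
  refine DecentLocal.exists_qc_mono_of_finite_fibres hX x p hp hm ?_
  intro U' ψ hU' hψ
  obtain ⟨n', hn'⟩ := h U' ψ hU' hψ
  obtain ⟨T', c', snd', sq'⟩ := AlgSpBasic.exists_isPullback_yon hX.diag p.toHom ψ
  haveI : IsFinite c'.left := (hn' p T' c' _ sq').1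
  haveI : Finite ↥T'.left := finite_of_isFinite_field (K := p.K) c'.left
  rw [← hp]
  exact (Set.finite_range snd'.left).subset
    (fun v hv => FieldFibre.exists_of_ofPt_eq p ψ c' snd' sq' v hv)

end Groth.Agent.Helper2.UnivBdd
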