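import Mathlib
import Groth.Agent.Lib.Helper2.AlgSp.FieldQuot
import Groth.Agent.Lib.Helper2.AlgSp.Mono
import Groth.Agent.Lib.Helper2.AlgSp.Coprod
import Groth.Agent.Lib.Helper2.AlgSp.GlueSp
import Groth.Agent.Lib.Helper2.AlgSp.UnivBdd
import Groth.Agent.Lib.Helper2.AlgSp.FieldFibre3

/-!
# Algebraic spaces etale over the spectrum of a field are schemes (helper2)
-/

set_option autoImplicit false
set_option backward.isDefEq.respectTransparency false

open CategoryTheory CategoryTheory.Limits AlgebraicGeometry Opposite AlgSp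
open Groth.Agent.Helper2.AlgSpBasic

namespace Groth.Agent.Helper2.EtaleOverField
universe u
variable {S : Scheme.{u}}

/-- A family of monomorphisms from schemes into a sheaf, with pairwise disjoint sets of points,
induces a monomorphism from the disjoint union. -/
theorem mono_desc_sigmaOver {X : Sp S} {ι : Type u} (W : ι → Over S)
    (m : ∀ i, (yon S).obj (W i) ⟶ X) (hm : ∀ i, Mono (m i))
    (hdisj : ∀ (i j : ι) (w : ↥(W i).left) (w' : ↥(W j).left),
      Points.ofPt (m i) w = Points.ofPt (m j) w' → i = j)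
    (p : (yon S).obj (Coprod.sigmaOver W) ⟶ X)
    (hp : ∀ i, (yon S).map (Coprod.sigmaOverι W i) ≫ p = m i) : Mono p := by
  refine ⟨fun {A} α β h => ?_⟩
  apply hom_ext_yon
  intro T t
  obtain ⟨a, ha⟩ := (yon S).map_surjective (t ≫ α)
  obtain ⟨b, hb⟩ := (yon S).map_surjective (t ≫ β)
  rw [← ha, ← hb]
  have hab : (yon S).map a ≫ p = (yon S).map b ≫ p := by
    rw [ha, hb, Category.assoc, Category.assoc, h]
  let O : ι → T.left.Opens := fun i => a.left ⁻¹ᵁ (Coprod.sigmaOverι W i).left.opensRange
  let O' : ι → T.left.Opens := fun j => b.left ⁻¹ᵁ (Coprod.sigmaOverι W j).left.opensRange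
  let Q : ι × ι → Over S := fun ij => FieldFibre.opensOver T (O ij.1 ⊓ O' ij.2)
  let e : ∀ ij, Q ij ⟶ T := fun ij => FieldFibre.opensι T (O ij.1 ⊓ O' ij.2)
  refine Groth.Agent.Helper2.AlgSpFormal.hom_ext_of_family Q e
    (fun ij => ⟨inferInstanceAs (Flat (O ij.1 ⊓ O' ij.2).ι),
      inferInstanceAs (LocallyOfFinitePresentation (O ij.1 ⊓ O' ij.2).ι)⟩) ?_ _ _ ?_
  · intro x
    obtain ⟨i, hi⟩ := Coprod.sigmaOverι_covers W (a.left x)
    obtain ⟨j, hj⟩ := Coprod.sigmaOverι_covers W (b.left x)
    refine ⟨(i, j), ?_⟩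
    show x ∈ Set.range (O i ⊓ O' j).ι
    rw [Scheme.Opens.range_ι]
    exact ⟨hi, hj⟩
  · rintro ⟨i, j⟩
    have hrange_a : Set.range ((e (i, j)).left ≫ a.left) ⊆
        Set.range (Coprod.sigmaOverι W i).left := by
      rintro _ ⟨z, rfl⟩
      exact z.2.1
    have hrange_b : Set.range ((e (i, j)).left ≫ b.left) ⊆
        Set.range (Coprod.sigmaOverι W j).left := by
      rintro _ ⟨z, rfl⟩
      exact z.2.2
    let qi₀ : (Q (i, j)).left ⟶ (W i).left :=
      IsOpenImmersion.lift (Coprod.sigmaOverι W i).left ((e (i, j)).left ≫ a.left) hrange_a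
    let qj₀ : (Q (i, j)).left ⟶ (W j).left :=
      IsOpenImmersion.lift (Coprod.sigmaOverι W j).left ((e (i, j)).left ≫ b.left) hrange_b
    have hqi₀ : qi₀ ≫ (Coprod.sigmaOverι W i).left = (e (i, j)).left ≫ a.left :=
      IsOpenImmersion.lift_fac _ _ _
    have hqj₀ : qj₀ ≫ (Coprod.sigmaOverι W j).left = (e (i, j)).left ≫ b.left :=
      IsOpenImmersion.lift_fac _ _ _
    let qi : Q (i, j) ⟶ W i := Over.homMk qi₀ (by
      rw [← Over.w (Coprod.sigmaOverι W i), ← Category.assoc, hqi₀, Category.assoc, Over.w a,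
        Over.w (e (i, j))])
    let qj : Q (i, j) ⟶ W j := Over.homMk qj₀ (by
      rw [← Over.w (Coprod.sigmaOverι W j), ← Category.assoc, hqj₀, Category.assoc, Over.w b,
        Over.w (e (i, j))])
    have hqi : qi ≫ Coprod.sigmaOverι W i = e (i, j) ≫ a := Over.OverMorphism.ext hqi₀
    have hqj : qj ≫ Coprod.sigmaOverι W j = e (i, j) ≫ b := Over.OverMorphism.ext hqj₀
    have key : (yon S).map qi ≫ m i = (yon S).map qj ≫ m j := by
      rw [← hp i, ← hp j, ← Category.assoc, ← Category.assoc, ← Functor.map_comp,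
        ← Functor.map_comp, hqi, hqj, Functor.map_comp, Functor.map_comp, Category.assoc,
        Category.assoc, hab]
    by_cases hij : i = j
    · subst hij
      haveI := hm i
      have h1 : (yon S).map qi = (yon S).map qj := (cancel_mono (m i)).1 key
      have h2 : qi = qj := (yon S).map_injective h1
      rw [← Functor.map_comp, ← Functor.map_comp, ← hqi, ← hqj, h2]
    · have hE : IsEmpty ↥(Q (i, j)).left := by
        refine ⟨fun z => hij ?_⟩
        refine hdisj i j (qi.left z) (qj.left z) ?_
        rw [← ofPt_yon_map_comp, ← ofPt_yon_map_comp, key]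
      exact Coprod.hom_ext_of_isEmpty hE _ _

/-- A chart of a sheaf etale over the spectrum of a field: every point of the chart gives a
monomorphism from the spectrum of a field, representable etale, onto the point. -/
theorem exists_open_point {X : Sp S} (hX : IsAlgSpace X) {k : Type u} [Field k]
    (str : Spec (CommRingCat.of k) ⟶ S) (f : X ⟶ (yon S).obj (Over.mk str)) {U : Over S}
    (a : (yon S).obj U ⟶ X) (hae : RepWith @Etale a) (g : U ⟶ Over.mk str)
    (hg : (yon S).map g = a ≫ f) (hge : Etale g.left) (u : ↥U.left) :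
    ∃ (W : Over S) (m : (yon S).obj W ⟶ X), Mono m ∧ RepWith @Etale m ∧ Nonempty ↥W.left ∧
      ∀ w : ↥W.left, Points.ofPt m w = Points.ofPt a u := by
  have hFL : EtaleField.IsFieldLike U.left := EtaleField.isFieldLike_of_etale (K := k) g.left
  haveI hoi : IsOpenImmersion (FieldFibre.resι U u).left :=
    FieldFibre.isOpenImmersion_fromSpecResidueField hFL u
  let strA := U.left.fromSpecResidueField u ≫ U.hom
  obtain ⟨m, hmdef⟩ : ∃ m : (yon S).obj (Over.mk strA) ⟶ X,
      m = (yon S).map (FieldFibre.resι U u) ≫ a := ⟨_, rfl⟩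
  have hme : RepWith @Etale m := by
    rw [hmdef]
    exact repWith_comp @Etale ((repWith_yon_map_iff @Etale _).2 inferInstance) hae
  obtain ⟨R, t, s, sq⟩ := exists_isPullback_yon hX.diag m m
  haveI : Etale s.left := hme.property m _ _ sq
  -- the map to Spec k
  obtain ⟨q₀, hq₀def⟩ : ∃ q₀ : Over.mk strA ⟶ Over.mk str, q₀ = FieldFibre.resι U u ≫ g :=
    ⟨_, rfl⟩
  have hq₀ : (yon S).map q₀ = m ≫ f := by
    rw [hq₀def, hmdef, Functor.map_comp, hg, Category.assoc]
  haveI hq₀e : Etale q₀.left := by
    rw [hq₀def]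
    show Etale ((FieldFibre.resι U u).left ≫ g.left)
    infer_instance
  haveI : CompactSpace ↥(Over.mk strA).left :=
    inferInstanceAs (CompactSpace ↥(Spec (U.left.residueField u)))
  haveI hq₀f : IsFinite q₀.left := FieldQuot.isFinite_of_etale_field (K := k) q₀.left
  have hcomm : t ≫ q₀ = s ≫ q₀ := (yon S).map_injective (by
    rw [(yon S).map_comp t q₀, (yon S).map_comp s q₀, hq₀, ← Category.assoc, ← Category.assoc,
      sq.w])
  let l : R.left ⟶ pullback q₀.left q₀.left :=
    pullback.lift t.left s.left (congrArg (fun φ => φ.left) hcomm)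
  have hl1 : l ≫ pullback.fst _ _ = t.left := pullback.lift_fst _ _ _
  have hl2 : l ≫ pullback.snd _ _ = s.left := pullback.lift_snd _ _ _
  haveI : Mono l := by
    refine ⟨fun {Z} x y hxy => ?_⟩
    have h1 : x ≫ t.left = y ≫ t.left := by
      rw [← hl1, ← Category.assoc, hxy, Category.assoc]
    have h2 : x ≫ s.left = y ≫ s.left := by
      rw [← hl2, ← Category.assoc, hxy, Category.assoc]
    let Z' : Over S := Over.mk (x ≫ R.hom)
    let x' : Z' ⟶ R := Over.homMk x rfl
    let y' : Z' ⟶ R := Over.homMk y (by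
      show y ≫ R.hom = x ≫ R.hom
      rw [← Over.w t, ← Category.assoc, ← Category.assoc, h1])
    have hxy' : x' = y' := by
      apply (yon S).map_injective
      apply sq.hom_ext
      · rw [← Functor.map_comp, ← Functor.map_comp]
        congr 1
        exact Over.OverMorphism.ext h1
      · rw [← Functor.map_comp, ← Functor.map_comp]
        congr 1
        exact Over.OverMorphism.ext h2
    exact congrArg (fun φ => φ.left) hxy'
  haveI : IsFinite (pullback.fst q₀.left q₀.left) :=
    MorphismProperty.pullback_fst (P := @IsFinite) _ _ hq₀f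
  haveI : Finite ↥(pullback q₀.left q₀.left) :=
    UnivBdd.finite_of_isFinite_field (K := ↥(U.left.residueField u))
      (pullback.fst q₀.left q₀.left)
  haveI : Finite ↥R.left := Finite.of_injective l l.injective
  haveI : CompactSpace ↥R.left := Finite.compactSpace
  obtain ⟨k', str', hstr, m', hfd, hm', hqm⟩ := FieldQuot.exists_mono_point strA s t m sq
  obtain ⟨hfl, hlfp, hsurj, -⟩ := FieldQuot.fppf_spec_subfield k'
  let q' : Over.mk strA ⟶ Over.mk str' :=
    Over.homMk (Spec.map (CommRingCat.ofHom k'.subtype)) hstr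
  obtain ⟨h, hh⟩ := (yon S).map_surjective (m' ≫ f)
  have hq'h : q' ≫ h = q₀ := (yon S).map_injective (by
    rw [Functor.map_comp, hh, ← Category.assoc, hqm, hq₀])
  haveI : Flat q'.left := hfl
  haveI : LocallyOfFinitePresentation q'.left := hlfp
  haveI : FormallyUnramified (q'.left ≫ h.left) := by
    rw [← Over.comp_left, hq'h]
    infer_instance
  haveI : FormallyUnramified q'.left := FormallyUnramified.of_comp q'.left h.left
  have hq'e : Etale q'.left := Etale.of_formallyUnramified_of_flat _
  have hm'e : RepWith @Etale m' :=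
    repWith_etale_of_comp_surjective_etale @Etale hX q' hq'e hsurj m' (by rw [hqm]; exact hme)
  refine ⟨Over.mk str', m', hm', hm'e,
    inferInstanceAs (Nonempty ↥(Spec (CommRingCat.of k'))), fun w => ?_⟩
  let c : ↥(Over.mk strA).left := IsLocalRing.closedPoint ↥(U.left.residueField u)
  have hw : w = q'.left c := Subsingleton.elim (α := ↥(Spec (CommRingCat.of k'))) _ _
  rw [hw, ← ofPt_yon_map_comp, hqm, hmdef, ofPt_yon_map_comp]
  have h1 : (FieldFibre.resι U u).left c = u := Scheme.fromSpecResidueField_apply u c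
  rw [h1]

/-- `S10206`: an algebraic space etale over the spectrum of a field is a scheme. -/
theorem isRepresentable_of_isEtaleMor {X : Sp S} (hX : IsAlgSpace X) {k : Type u} [Field k]
    (str : Spec (CommRingCat.of k) ⟶ S) (f : X ⟶ (yon S).obj (Over.mk str))
    (hf : IsEtaleMor f) : X.obj.IsRepresentable := by
  obtain ⟨U, a, hae, has⟩ := hX.atlas
  obtain ⟨g, hg⟩ := (yon S).map_surjective (a ≫ f)
  have hge : Etale g.left := (repWith_yon_map_iff @Etale g).1 (by rw [hg]; exact hf a hae)
  have hsurj := surjective_ofPt a has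
  choose σ hσ using hsurj
  let ι : Type u := {u : ↥U.left // σ (Points.ofPt a u) = u}
  choose W m hmono hmet hne hpt using fun i : ι => exists_open_point hX str f a hae g hg hge i.1
  obtain ⟨p, hp⟩ := Coprod.exists_desc_sigmaOver W m
  haveI : Mono p := by
    refine mono_desc_sigmaOver W m hmono ?_ p hp
    intro i j w w' h
    rw [hpt i w, hpt j w'] at h
    apply Subtype.ext
    rw [← i.2, ← j.2, h]
  have hpe : RepWith @Etale p :=
    GlueSp.repWith_of_source_openCover @Etale p W (Coprod.sigmaOverι W)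
      (fun i => inferInstance) (Coprod.sigmaOverι_covers W) (fun i => by rw [hp]; exact hmet i)
  have hps : IsSurjectiveMor p := by
    intro x
    have hi : σ (Points.ofPt a (σ x)) = σ x := by rw [hσ x]
    let i : ι := ⟨σ x, hi⟩
    obtain ⟨w⟩ := hne i
    refine ⟨Points.ofPt ((yon S).map (Coprod.sigmaOverι W i)) w, ?_⟩
    rw [Points.map_ofPt, hp, hpt i w]
    exact hσ x
  have hSig := IsAlgSpace.yon_obj (S := S) (Coprod.sigmaOver W)
  haveI : IsIso p := isIso_of_mono_of_locP_etale_surjective hSig hX p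
    (locP_of_repWith @Etale hSig.diag p hpe) hps
  exact (representableByOfIso (asIso p)).isRepresentable

end Groth.Agent.Helper2.EtaleOverField
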