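import Mathlib
import Groth.Agent.Lib.Helper2.AlgSp.DvrClosedExt
import Groth.Agent.Lib.Helper2.AlgSp.ExistVCSep

/-!
# Lifts over discrete valuation rings after finite separable extensions, decent universally closed
morphisms (helper2)
-/

set_option autoImplicit false
set_option linter.style.haveILetI false

open CategoryTheory CategoryTheory.Limits AlgebraicGeometry Opposite AlgSp TopologicalSpace
open IsLocalRing

universe u

namespace Groth.Agent.Helper2.DvrSep

open Groth.Agent.Helper2.AlgSpBasic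

variable {S : Scheme.{u}}

theorem finiteType_fractionRing_of_dvr (A K : Type u) [CommRing A] [IsDomain A]
    [IsDiscreteValuationRing A] [Field K] [Algebra A K] [IsFractionRing A K] :
    Algebra.FiniteType A K := by
  obtain ⟨ϖ, hϖ⟩ := IsDiscreteValuationRing.exists_irreducible A
  refine ⟨⟨{(algebraMap A K ϖ)⁻¹}, ?_⟩⟩
  rw [Finset.coe_singleton, eq_top_iff]
  intro x _
  obtain ⟨a, b, hb, rfl⟩ := IsFractionRing.div_surjective (A := A) x
  have hb0 : b ≠ 0 := nonZeroDivisors.ne_zero hb
  obtain ⟨n, u, rfl⟩ := IsDiscreteValuationRing.eq_unit_mul_pow_irreducible hb0 hϖ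
  have hϖK : algebraMap A K ϖ ≠ 0 := by
    rw [Ne, map_eq_zero_iff _ (IsFractionRing.injective A K)]
    exact hϖ.ne_zero
  have huK : algebraMap A K (u : A) ≠ 0 := by
    rw [Ne, map_eq_zero_iff _ (IsFractionRing.injective A K)]
    exact u.ne_zero
  have : algebraMap A K a / algebraMap A K (↑u * ϖ ^ n) =
      algebraMap A K (a * ((u⁻¹ : Aˣ) : A)) * ((algebraMap A K ϖ)⁻¹) ^ n := by
    rw [map_mul, map_mul, map_pow]
    have h1 : algebraMap A K ((u⁻¹ : Aˣ) : A) = (algebraMap A K (u : A))⁻¹ := by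
      refine eq_inv_of_mul_eq_one_left ?_
      rw [← map_mul, Units.inv_mul, map_one]
    rw [h1, inv_pow]
    field_simp
  rw [this]
  exact Subalgebra.mul_mem _ (Subalgebra.algebraMap_mem _ _)
    (Subalgebra.pow_mem _ (Algebra.subset_adjoin (Set.mem_singleton _)) n)

section

variable {A K : Type u} [CommRing A] [IsDomain A] [ValuationRing A] [Field K] [Algebra A K]
  [IsFractionRing A K]

/-- Algebraic step, discrete valuation ring version. -/
theorem exists_domExt_lift_of_specializes_dvr {P : Sp S}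
    (str : Spec (CommRingCat.of A) ⟶ S)
    (snd : P ⟶ (yon S).obj (Over.mk str))
    (top : (yon S).obj (Over.mk (Spec.map (CommRingCat.ofHom (algebraMap A K)) ≫ str)) ⟶ P)
    (comm : top ≫ snd =
      (yon S).map (Over.homMk (Spec.map (CommRingCat.ofHom (algebraMap A K))) rfl :
        Over.mk (Spec.map (CommRingCat.ofHom (algebraMap A K)) ≫ str) ⟶ Over.mk str) ≫ 𝟙 _)
    {U T : Over S} (a : (yon S).obj U ⟶ P)
    (h : U ⟶ Over.mk str) (hh : (yon S).map h = a ≫ snd)
    (c : T ⟶ U) (d : T ⟶ Over.mk (Spec.map (CommRingCat.ofHom (algebraMap A K)) ≫ str))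
    (sqw : (yon S).map c ≫ a = (yon S).map d ≫ top)
    (hd : Etale d.left) [IsLocallyNoetherian U.left] [LocallyOfFiniteType c.left]
    (t : ↥T.left) (u' : ↥U.left) (hsp : c.left t ⤳ u') (hne : u' ≠ c.left t)
    (hu'A : h.left u' = closedPoint A) :
    ∃ e : ({ A := A, K := K, str := str, top := top, bot := 𝟙 _, comm := comm } :
        ValSq snd).DomExt, IsDiscreteValuationRing e.A' ∧
      (letI := e.ψ.toAlgebra; Module.Finite K e.K' ∧ Algebra.IsSeparable K e.K') ∧ e.HasLift := by
  let ptK : Over S := Over.mk (Spec.map (CommRingCat.ofHom (algebraMap A K)) ≫ str)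
  let ptA : Over S := Over.mk str
  let j : ptK ⟶ ptA := Over.homMk (Spec.map (CommRingCat.ofHom (algebraMap A K))) rfl
  have comm' : top ≫ snd = (yon S).map j := by rw [comm, Category.comp_id]
  let dd : T.left ⟶ Spec (CommRingCat.of K) := d.left
  haveI : Etale dd := hd
  obtain ⟨R, i₂, hRdvr, hi₂cp, hw'⟩ :=
    Groth.Agent.Lib.Helper4.DomDVR.S4450_main c.left t u' hsp hne
  have hw : T.left.fromSpecResidueField t ≫ c.left =
      Spec.map (CommRingCat.ofHom (algebraMap R (T.left.residueField t))) ≫ i₂ := hw'.symm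
  let K' := T.left.residueField t
  let i₁ : Spec (CommRingCat.of K') ⟶ T.left := T.left.fromSpecResidueField t
  let hl : U.left ⟶ Spec (CommRingCat.of A) := h.left
  let φ : A →+* R := (Spec.preimage (i₂ ≫ hl)).hom
  let ψ : K →+* K' := (Spec.preimage (i₁ ≫ dd)).hom
  have hφ : Spec.map (CommRingCat.ofHom φ) = i₂ ≫ hl := Spec.map_preimage _
  have hψ : Spec.map (CommRingCat.ofHom ψ) = i₁ ≫ dd := Spec.map_preimage _
  have hcd : c ≫ h = d ≫ j := (yon S).map_injective (by
    rw [Functor.map_comp, Functor.map_comp, hh, ← Category.assoc, sqw, Category.assoc, comm'])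
  have hcd' : c.left ≫ hl = dd ≫ Spec.map (CommRingCat.ofHom (algebraMap A K)) :=
    congrArg (fun m => m.left) hcd
  have hcomm : (algebraMap R K').comp φ = ψ.comp (algebraMap A K) := by
    have h1 : Spec.map (CommRingCat.ofHom ((algebraMap R K').comp φ)) =
        Spec.map (CommRingCat.ofHom (ψ.comp (algebraMap A K))) := by
      rw [CommRingCat.ofHom_comp φ (algebraMap (↥R) K'),
        CommRingCat.ofHom_comp (algebraMap A K) ψ, Spec.map_comp, Spec.map_comp, hφ, hψ,
        ← Category.assoc, ← hw, Category.assoc, Category.assoc, hcd']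
    have h2 := Spec.map_injective h1
    exact congrArg CommRingCat.Hom.hom h2
  have hloc : IsLocalHom φ := by
    rw [isLocalHom_iff_comap_closedPoint]
    have h1 : (Spec.map (CommRingCat.ofHom φ)) (closedPoint R) = closedPoint A := by
      rw [hφ, Scheme.Hom.comp_apply, hi₂cp]
      exact hu'A
    exact h1
  have hi₂ : i₂ ≫ U.hom = Spec.map (CommRingCat.ofHom φ) ≫ str := by
    rw [hφ, Category.assoc]
    congr 1
    exact (Over.w h).symm
  have hi₁ : i₁ ≫ T.hom = Spec.map (CommRingCat.ofHom (algebraMap R K')) ≫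
      Spec.map (CommRingCat.ofHom φ) ≫ str := by
    rw [← hi₂, ← Category.assoc, ← hw, Category.assoc, Over.w c]
  let ptA' : Over S := Over.mk (Spec.map (CommRingCat.ofHom φ) ≫ str)
  let ptK' : Over S := Over.mk (Spec.map (CommRingCat.ofHom (algebraMap R K')) ≫
      Spec.map (CommRingCat.ofHom φ) ≫ str)
  let i₂O : ptA' ⟶ U := Over.homMk i₂ hi₂
  let i₁O : ptK' ⟶ T := Over.homMk i₁ hi₁
  let jK' : ptK' ⟶ ptA' := Over.homMk (Spec.map (CommRingCat.ofHom (algebraMap R K'))) rfl
  let ψO : ptK' ⟶ ptK := Over.homMk (Spec.map (CommRingCat.ofHom ψ)) (by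
    change Spec.map _ ≫ Spec.map _ ≫ _ = Spec.map _ ≫ Spec.map _ ≫ _
    rw [← Spec.map_comp_assoc, ← Spec.map_comp_assoc, ← CommRingCat.ofHom_comp,
      ← CommRingCat.ofHom_comp, hcomm])
  let φO : ptA' ⟶ ptA := Over.homMk (Spec.map (CommRingCat.ofHom φ)) rfl
  have e1 : jK' ≫ i₂O = i₁O ≫ c := Over.OverMorphism.ext hw.symm
  have e2 : ψO = i₁O ≫ d := Over.OverMorphism.ext hψ
  have e3 : i₂O ≫ h = φO := Over.OverMorphism.ext hφ.symm
  have g1 : (yon S).map jK' ≫ (yon S).map i₂O ≫ a = (yon S).map ψO ≫ top := by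
    rw [← Category.assoc, ← Functor.map_comp, e1, Functor.map_comp, Category.assoc, sqw,
      ← Category.assoc, ← Functor.map_comp, ← e2]
  have g2 : ((yon S).map i₂O ≫ a) ≫ snd = (yon S).map φO ≫ 𝟙 _ := by
    rw [Category.assoc, ← hh, ← Functor.map_comp, e3, Category.comp_id]
  have hfs := finite_separable_residueField_over_field dd t
  exact ⟨{ A' := R, K' := K', φ := φ, ψ := ψ, comm := hcomm, isLocalHom := hloc }, hRdvr, hfs,
    (yon S).map i₂O ≫ a, g1, g2⟩

end

end Groth.Agent.Helper2.DvrSep
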