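import Mathlib
import Groth.Agent.Lib.Helper2.AlgSp.ExistVCDvr

/-!
# S13897: universal closedness and discrete valuation rings, decent morphisms (helper2)
-/

set_option autoImplicit false
set_option linter.style.haveILetI false

open CategoryTheory CategoryTheory.Limits AlgebraicGeometry Opposite AlgSp TopologicalSpace
open IsLocalRing

universe u

namespace Groth.Agent.Helper2.DvrSep

open Groth.Agent.Helper2.AlgSpBasic

variable {S : Scheme.{u}}

theorem exists_dvr_finite_separable_domExt {X Y : Space S} (f : X ⟶ Y)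
    (hft : IsFiniteTypeMor f.hom) (hdec : IsDecentMor f.hom) (huc : IsUnivClosedMor f.hom)
    (sq : ValSq f.hom) (hA : IsDiscreteValuationRing sq.A) :
    ∃ e : sq.DomExt, IsDiscreteValuationRing e.A' ∧
      (letI := e.ψ.toAlgebra; Module.Finite sq.K e.K' ∧ Algebra.IsSeparable sq.K e.K') ∧
        e.HasLift := by
  have sqP := IsPullback.of_hasPullback f.hom sq.bot
  have hP : IsAlgSpace (pullback f.hom sq.bot) :=
    isAlgSpace_of_isPullback Y.property.diag X.property (IsAlgSpace.yon_obj _) f.hom sq.bot _ _ sqP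
  have hPd : IsDecent (pullback f.hom sq.bot) := hdec sq.bot _ _ sqP
  obtain ⟨snd, hsnd⟩ : ∃ snd : pullback f.hom sq.bot ⟶ (yon S).obj sq.ptA,
    snd = pullback.snd f.hom sq.bot := ⟨_, rfl⟩
  have hcl : IsClosedMap (Points.map snd) := by
    rw [hsnd]; exact huc (IsAlgSpace.yon_obj _) sq.bot _ _ sqP
  obtain ⟨top', htop'⟩ : ∃ top' : (yon S).obj sq.ptK ⟶ pullback f.hom sq.bot,
    top' = pullback.lift sq.top ((yon S).map sq.j) sq.comm := ⟨_, rfl⟩
  have comm'' : top' ≫ snd = (yon S).map sq.j := by
    rw [htop', hsnd]; exact pullback.lift_snd _ _ _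
  have comm' : top' ≫ snd = (yon S).map sq.j ≫ 𝟙 _ := by
    rw [Category.comp_id]; exact comm''
  have htop1 : top' ≫ pullback.fst f.hom sq.bot = sq.top := by
    rw [htop']; exact pullback.lift_fst _ _ _
  -- the points
  let η : ↥sq.ptK.left := closedPoint sq.K
  obtain ⟨x, hxdef⟩ : ∃ x : Points (pullback f.hom sq.bot), x = Points.ofPt top' η := ⟨_, rfl⟩
  have hx : Points.map snd x = Points.schemeHomeo sq.ptA (sq.j.left η) := by
    rw [hxdef, Points.map_ofPt, comm'', ofPt_yon_map]
  have hsp0 : sq.j.left η ⤳ (closedPoint sq.A : ↥sq.ptA.left) :=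
    specializes_closedPoint (R := sq.A) _
  have hmem : Points.schemeHomeo sq.ptA (closedPoint sq.A) ∈ Points.map snd '' closure {x} := by
    refine (hsp0.map (Points.schemeHomeo sq.ptA).continuous).mem_closed
      (hcl _ isClosed_closure) ?_
    exact ⟨x, subset_closure rfl, hx⟩
  obtain ⟨x', hx'c, hx'⟩ := hmem
  obtain ⟨U₀, a₀, hae, has⟩ := hP.atlas
  obtain ⟨u', hu'⟩ := surjective_ofPt a₀ has x'
  obtain ⟨h, hh⟩ := (yon S).map_surjective (a₀ ≫ snd)
  have hh_pt : ∀ v : ↥U₀.left, Points.map snd (Points.ofPt a₀ v) =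
      Points.schemeHomeo sq.ptA (h.left v) := by
    intro v
    rw [Points.map_ofPt, ← hh, ofPt_yon_map]
  have hu'A : h.left u' = closedPoint sq.A := by
    have h1 := hh_pt u'
    rw [hu', hx'] at h1
    exact ((Points.schemeHomeo sq.ptA).injective h1).symm
  have hxx' : x ⤳ x' := specializes_iff_mem_closure.2 hx'c
  obtain ⟨u, huu', hu⟩ :=
    Groth.Agent.Helper2.FibreSpecB.exists_specializes_of_isDecent hP hPd x' x hxx' a₀ hae u' hu'
  -- the generic fibre of the chart
  have hrep := hae.rep
  obtain ⟨c, hc⟩ := (yon S).map_surjective (hrep.fst top')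
  obtain ⟨d, hd⟩ : ∃ d : hrep.pullback top' ⟶ sq.ptK, d = hrep.snd top' := ⟨_, rfl⟩
  have sqT : IsPullback ((yon S).map c) ((yon S).map d) a₀ top' := by
    rw [hc, hd]; exact hrep.isPullback top'
  have hde : Etale d.left := by
    rw [hd]; exact hae.property top' _ _ (hrep.isPullback top')
  obtain ⟨t, ht1, ht2⟩ := exists_point_of_isPullback_yon a₀ top' c d sqT u η (hu.trans hxdef)
  have hsp : c.left t ⤳ u' := by rw [ht1]; exact huu'
  -- finiteness
  have hl : LocP @LocallyOfFiniteType snd := by
    rw [hsnd]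
    exact locP_of_isPullback @LocallyOfFiniteType X.property Y.property (IsAlgSpace.yon_obj _) hP
      f.hom sq.bot _ _ sqP hft.1
  haveI : LocallyOfFiniteType h.left :=
    hl a₀ (𝟙 _) h hae (repWith_of_isIso @Etale (𝟙 _)) (by rw [hh, Category.comp_id])
  haveI : IsDiscreteValuationRing sq.A := hA
  haveI : IsNoetherianRing sq.A := inferInstance
  haveI : IsLocallyNoetherian sq.ptA.left :=
    (inferInstance : IsLocallyNoetherian (Spec (CommRingCat.of sq.A)))
  haveI : IsLocallyNoetherian U₀.left := LocallyOfFiniteType.isLocallyNoetherian h.left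
  have hcd : c ≫ h = d ≫ sq.j := (yon S).map_injective (by
    rw [Functor.map_comp, Functor.map_comp, hh, ← Category.assoc, sqT.w, Category.assoc, comm''])
  have hcd' : c.left ≫ h.left = d.left ≫ sq.j.left := congrArg (fun m => m.left) hcd
  haveI : LocallyOfFiniteType sq.j.left := by
    show LocallyOfFiniteType (Spec.map (CommRingCat.ofHom (algebraMap sq.A sq.K)))
    rw [HasRingHomProperty.Spec_iff (P := @LocallyOfFiniteType)]
    show (algebraMap sq.A sq.K).FiniteType
    exact RingHom.finiteType_algebraMap.mpr (finiteType_fractionRing_of_dvr sq.A sq.K)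
  haveI : LocallyOfFiniteType d.left := by have := hde; infer_instance
  haveI : LocallyOfFiniteType (c.left ≫ h.left) := by rw [hcd']; infer_instance
  haveI : LocallyOfFiniteType c.left := locallyOfFiniteType_of_comp c.left h.left
  have hne : u' ≠ c.left t := by
    intro heq
    have h1 : h.left (c.left t) = sq.j.left (d.left t) := by
      have := congrArg (fun m => m.base t) hcd'
      exact this
    rw [← heq, hu'A] at h1
    -- the closed point is not in the image of the generic point
    have h2 : (closedPoint sq.A) ∈ Set.range (Spec.map (CommRingCat.ofHom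
        (algebraMap sq.A sq.K))).base := ⟨d.left t, h1.symm⟩
    obtain ⟨p, hp⟩ := h2
    have h3 : (closedPoint sq.A).asIdeal = ⊥ := by
      rw [← hp]
      show Ideal.comap (algebraMap sq.A sq.K) p.asIdeal = ⊥
      have : p.asIdeal = ⊥ := by
        rcases Ideal.eq_bot_or_top p.asIdeal with h | h
        · exact h
        · exact absurd h p.isPrime.ne_top
      rw [this]
      exact (RingHom.injective_iff_ker_eq_bot _).1 (IsFractionRing.injective sq.A sq.K)
    exact IsDiscreteValuationRing.not_a_field sq.A h3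
  obtain ⟨e', hdvr, hfs, l'', hl''1, hl''2⟩ :=
    exists_domExt_lift_of_specializes_dvr (A := sq.A) (K := sq.K) sq.str snd top' comm' a₀ h hh c d
      sqT.w hde t u' hsp hne hu'A
  let e : sq.DomExt :=
    { A' := e'.A', K' := e'.K', φ := e'.φ, ψ := e'.ψ, comm := e'.comm, isLocalHom := e'.isLocalHom }
  refine ⟨e, hdvr, hfs, l'' ≫ pullback.fst f.hom sq.bot, ?_, ?_⟩
  · have h3 := congrArg (· ≫ pullback.fst f.hom sq.bot) hl''1
    simp only [Category.assoc] at h3
    rw [h3]
    congr 1
  · rw [Category.assoc, pullback.condition, ← Category.assoc, ← hsnd, hl''2, Category.assoc,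
      Category.id_comp]

theorem S13897_main {X Y : Space S} (f : X ⟶ Y) (hft : IsFiniteTypeMor f.hom)
    (hY : IsLocNoethSp Y.obj) :
    ((∀ sq : ValSq f.hom, IsDiscreteValuationRing sq.A → sq.HasLiftExt) →
      IsUnivClosedMor f.hom) ∧
    (IsDecentMor f.hom → IsUnivClosedMor f.hom →
      ∀ sq : ValSq f.hom, IsDiscreteValuationRing sq.A →
        ∃ e : sq.DomExt, IsDiscreteValuationRing e.A' ∧
          (letI := e.ψ.toAlgebra; Module.Finite sq.K e.K' ∧ Algebra.IsSeparable sq.K e.K') ∧
            e.HasLift) :=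
  ⟨fun h => isUnivClosedMor_of_dvr_liftExt f hft hY h,
    fun hdec huc sq hA => exists_dvr_finite_separable_domExt f hft hdec huc sq hA⟩

end Groth.Agent.Helper2.DvrSep
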