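import Mathlib
import Groth.Agent.Lib.Helper2.AlgSp.ExistVCDvr2
import Groth.Agent.S10380

/-!
# S10379, S10388: universally closed decent morphisms satisfy the existence part of the
valuative criterion (helper2)
-/

set_option autoImplicit false
set_option linter.style.haveILetI false

open CategoryTheory CategoryTheory.Limits AlgebraicGeometry Opposite AlgSp TopologicalSpace
open IsLocalRing

universe u

namespace Groth.Agent.Helper2.DvrSep

open Groth.Agent.Helper2.AlgSpBasic

variable {S : Scheme.{u}}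

theorem exists_finite_separable_domExt_of_isDecentMor {X Y : Space S} (f : X ⟶ Y)
    (hdec : IsDecentMor f.hom) (huc : IsUnivClosedMor f.hom) (sq : ValSq f.hom) :
    ∃ e : sq.DomExt,
      (letI := e.ψ.toAlgebra; Module.Finite sq.K e.K' ∧ Algebra.IsSeparable sq.K e.K') ∧
        e.HasLift := by
  have sqP := IsPullback.of_hasPullback f.hom sq.bot
  have hP : IsAlgSpace (pullback f.hom sq.bot) :=
    isAlgSpace_of_isPullback Y.property.diag X.property (IsAlgSpace.yon_obj _) f.hom sq.bot _ _ sqP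
  have hPd : IsDecent (pullback f.hom sq.bot) := hdec sq.bot _ _ sqP
  obtain ⟨snd, hsnd⟩ : ∃ snd : pullback f.hom sq.bot ⟶ (yon S).obj sq.ptA,
    snd = pullback.snd f.hom sq.bot := ⟨_, rfl⟩
  have hcl : IsClosedMap (Points.map snd) := by
    rw [hsnd]; exact huc (IsAlgSpace.yon_obj _) sq.bot _ _ sqP
  obtain ⟨top', htop'⟩ : ∃ top' : (yon S).obj sq.ptK ⟶ pullback f.hom sq.bot,
    top' = pullback.lift sq.top ((yon S).map sq.j) sq.comm := ⟨_, rfl⟩
  have comm'' : top' ≫ snd = (yon S).map sq.j := by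
    rw [htop', hsnd]; exact pullback.lift_snd _ _ _
  have comm' : top' ≫ snd = (yon S).map sq.j ≫ 𝟙 _ := by
    rw [Category.comp_id]; exact comm''
  have htop1 : top' ≫ pullback.fst f.hom sq.bot = sq.top := by
    rw [htop']; exact pullback.lift_fst _ _ _
  let η : ↥sq.ptK.left := closedPoint sq.K
  obtain ⟨x, hxdef⟩ : ∃ x : Points (pullback f.hom sq.bot), x = Points.ofPt top' η := ⟨_, rfl⟩
  have hx : Points.map snd x = Points.schemeHomeo sq.ptA (sq.j.left η) := by
    rw [hxdef, Points.map_ofPt, comm'', ofPt_yon_map]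
  have hsp0 : sq.j.left η ⤳ (closedPoint sq.A : ↥sq.ptA.left) :=
    specializes_closedPoint (R := sq.A) _
  have hmem : Points.schemeHomeo sq.ptA (closedPoint sq.A) ∈ Points.map snd '' closure {x} := by
    refine (hsp0.map (Points.schemeHomeo sq.ptA).continuous).mem_closed
      (hcl _ isClosed_closure) ?_
    exact ⟨x, subset_closure rfl, hx⟩
  obtain ⟨x', hx'c, hx'⟩ := hmem
  obtain ⟨U₀, a₀, hae, has⟩ := hP.atlas
  obtain ⟨u', hu'⟩ := surjective_ofPt a₀ has x'
  obtain ⟨h, hh⟩ := (yon S).map_surjective (a₀ ≫ snd)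
  have hh_pt : ∀ v : ↥U₀.left, Points.map snd (Points.ofPt a₀ v) =
      Points.schemeHomeo sq.ptA (h.left v) := by
    intro v
    rw [Points.map_ofPt, ← hh, ofPt_yon_map]
  have hu'A : h.left u' = closedPoint sq.A := by
    have h1 := hh_pt u'
    rw [hu', hx'] at h1
    exact ((Points.schemeHomeo sq.ptA).injective h1).symm
  have hxx' : x ⤳ x' := specializes_iff_mem_closure.2 hx'c
  obtain ⟨u, huu', hu⟩ :=
    Groth.Agent.Helper2.FibreSpecB.exists_specializes_of_isDecent hP hPd x' x hxx' a₀ hae u' hu'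
  have hrep := hae.rep
  obtain ⟨c, hc⟩ := (yon S).map_surjective (hrep.fst top')
  obtain ⟨d, hd⟩ : ∃ d : hrep.pullback top' ⟶ sq.ptK, d = hrep.snd top' := ⟨_, rfl⟩
  have sqT : IsPullback ((yon S).map c) ((yon S).map d) a₀ top' := by
    rw [hc, hd]; exact hrep.isPullback top'
  have hde : Etale d.left := by
    rw [hd]; exact hae.property top' _ _ (hrep.isPullback top')
  obtain ⟨t, ht1, ht2⟩ := exists_point_of_isPullback_yon a₀ top' c d sqT u η (hu.trans hxdef)
  have hsp : c.left t ⤳ u' := by rw [ht1]; exact huu'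
  obtain ⟨e', hfs, l'', hl''1, hl''2⟩ :=
    exists_domExt_lift_of_specializes (A := sq.A) (K := sq.K) sq.str snd top' comm' a₀ h hh c d
      sqT.w hde t u' hsp hu'A
  let e : sq.DomExt :=
    { A' := e'.A', K' := e'.K', φ := e'.φ, ψ := e'.ψ, comm := e'.comm, isLocalHom := e'.isLocalHom }
  refine ⟨e, hfs, l'' ≫ pullback.fst f.hom sq.bot, ?_, ?_⟩
  · have h3 := congrArg (· ≫ pullback.fst f.hom sq.bot) hl''1
    simp only [Category.assoc] at h3
    rw [h3]
    congr 1
  · rw [Category.assoc, pullback.condition, ← Category.assoc, ← hsnd, hl''2, Category.assoc,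
      Category.id_comp]

theorem S10388_main {X Y : Space S} (f : X ⟶ Y)
    (hd : IsDecentMor f.hom) (hc : IsUnivClosedMor f.hom) : ExistVC f.hom := by
  intro sq
  obtain ⟨e, -, he⟩ := exists_finite_separable_domExt_of_isDecentMor f hd hc sq
  exact ⟨e, he⟩

theorem S10379_main {X Y : Space S} (f : X ⟶ Y)
    (hX : IsDecent X.obj) (hc : IsUnivClosedMor f.hom) : ExistVC f.hom :=
  S10388_main f (Groth.Agent.S10380.result f hX) hc

end Groth.Agent.Helper2.DvrSep
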