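import Mathlib
import Groth.Prelude.Def_AlgSpDec
import Groth.Agent.Lib.Helper2.AlgSp.GeomPoint
import Groth.Agent.Lib.Helper2.AlgSp.LocP
import Groth.Agent.Lib.Helper2.AlgSp.PointsMor
import Groth.Agent.Lib.Helper2.Alg.FieldFT
namespace Groth.Agent.Helper2.AlgSpBasic
open CategoryTheory CategoryTheory.Limits AlgebraicGeometry Opposite AlgSp Topology
open Groth.Agent.Helper2.EtaleLocal
universe u
variable {S : Scheme.{u}}

/-- Finite type points: represented by a morphism locally of finite type from a field. -/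
def IsFTPt (X : Sp S) (x : Points X) : Prop :=
  ∃ (k : Type u) (_ : Field k) (str : Spec (CommRingCat.of k) ⟶ S)
    (ξ : (yon S).obj (Over.mk str) ⟶ X),
    LocP @LocallyOfFiniteType ξ ∧ Points.ofPt ξ (IsLocalRing.closedPoint k) = x

/-- The residue field inclusion of a point of a scheme over `S`. -/
noncomputable abbrev resPt (W : Over S) (w : ↥W.left) : Over S :=
  Over.mk (W.left.fromSpecResidueField w ≫ W.hom)

noncomputable abbrev resHom (W : Over S) (w : ↥W.left) : resPt W w ⟶ W :=
  Over.homMk (W.left.fromSpecResidueField w) rfl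

theorem repWith_etale_lft {F G : Sp S} {f : F ⟶ G} (hf : RepWith @Etale f) :
    RepWith @LocallyOfFiniteType f :=
  repWith_mono (fun _ _ g (hg : Etale g) => (inferInstance : LocallyOfFiniteType g)) hf

/-- A closed point of an étale chart gives a finite type point. -/
theorem locP_lft_of_closed_point {P : Sp S} (hP : IsAlgSpace P) {W : Over S}
    (c : (yon S).obj W ⟶ P) (hc : RepWith @Etale c) (w : ↥W.left) (hw : IsClosed ({w} : Set ↥W.left)) :
    LocP @LocallyOfFiniteType ((yon S).map (resHom W w) ≫ c) := by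
  refine locP_comp _ (IsAlgSpace.yon_obj _) (IsAlgSpace.yon_obj W) hP _ _ ?_ ?_
  · refine locP_of_repWith _ (IsAlgSpace.yon_obj _).diag _ ((repWith_yon_map_iff _ _).2 ?_)
    change LocallyOfFiniteType (W.left.fromSpecResidueField w)
    rw [isClosed_singleton_iff_isClosedImmersion] at hw
    infer_instance
  · exact locP_of_repWith _ (IsAlgSpace.yon_obj W).diag _ (repWith_etale_lft hc)

theorem ofPt_resHom {P : Sp S} {W : Over S} (c : (yon S).obj W ⟶ P) (w : ↥W.left)
    (t : ↥(resPt W w).left) :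
    Points.ofPt ((yon S).map (resHom W w) ≫ c) t = Points.ofPt c w := by
  rw [ofPt_yon_map_comp]
  congr 1
  exact Scheme.fromSpecResidueField_apply _ _

theorem isFTPt_of_closed_point {P : Sp S} (hP : IsAlgSpace P) {W : Over S}
    (c : (yon S).obj W ⟶ P) (hc : RepWith @Etale c) (w : ↥W.left) (hw : IsClosed ({w} : Set ↥W.left)) :
    IsFTPt P (Points.ofPt c w) :=
  ⟨W.left.residueField w, inferInstance, _, (yon S).map (resHom W w) ≫ c,
    locP_lft_of_closed_point hP c hc w hw, ofPt_resHom c w _⟩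

/-- Post-composition with a morphism locally of finite type preserves finite type points. -/
theorem IsFTPt.map {X Y : Sp S} (hX : IsAlgSpace X) (hY : IsAlgSpace Y) (f : X ⟶ Y)
    (hf : LocP @LocallyOfFiniteType f) {x : Points X} (hx : IsFTPt X x) :
    IsFTPt Y (Points.map f x) := by
  obtain ⟨k, _, str, ξ, hξ, rfl⟩ := hx
  exact ⟨k, inferInstance, str, ξ ≫ f, locP_comp _ (IsAlgSpace.yon_obj _) hX hY ξ f hξ hf,
    (Points.map_ofPt _ _ _).symm⟩

/-- A nonempty algebraic space locally of finite type over a field has a finite type point. -/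
theorem exists_isFTPt_of_lft_field {P : Sp S} (hP : IsAlgSpace P) {k : Type u} [Field k]
    (str : Spec (CommRingCat.of k) ⟶ S) (snd : P ⟶ (yon S).obj (Over.mk str))
    (hsnd : LocP @LocallyOfFiniteType snd) (p₀ : Points P) : ∃ p, IsFTPt P p := by
  obtain ⟨W, c, hcE, hcS⟩ := hP.atlas
  obtain ⟨w₀, -⟩ := surjective_ofPt c hcS p₀
  obtain ⟨h, hh⟩ := (yon S).map_surjective (c ≫ snd)
  have hlft : LocallyOfFiniteType h.left :=
    hsnd c (𝟙 _) h hcE (repWith_id _ _) (by rw [hh, Category.comp_id])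
  have : JacobsonSpace ↥(Over.mk str).left := by
    change JacobsonSpace ↥(Spec (CommRingCat.of k))
    infer_instance
  have : JacobsonSpace ↥W.left := LocallyOfFiniteType.jacobsonSpace h.left
  have hne : (closedPoints ↥W.left).Nonempty := by
    by_contra hcon
    rw [Set.not_nonempty_iff_eq_empty] at hcon
    have hcl := closure_closedPoints (X := ↥W.left)
    rw [hcon, closure_empty] at hcl
    haveI : Nonempty ↥W.left := ⟨w₀⟩
    exact Set.empty_ne_univ hcl
  obtain ⟨w, hw⟩ := hne
  exact ⟨_, isFTPt_of_closed_point hP c hcE w hw⟩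

/-- Finite type points lift along surjective morphisms locally of finite type. -/
theorem exists_isFTPt_lift {X Y : Sp S} (hX : IsAlgSpace X) (hY : IsAlgSpace Y) (f : X ⟶ Y)
    (hf : LocP @LocallyOfFiniteType f) (hs : IsSurjectiveMor f) (y : Points Y) (hy : IsFTPt Y y) :
    ∃ x, Points.map f x = y ∧ IsFTPt X x := by
  obtain ⟨k, _, str, ξ, hξ, rfl⟩ := hy
  have sq := IsPullback.of_hasPullback f ξ
  have hP : IsAlgSpace (pullback f ξ) :=
    isAlgSpace_of_isPullback hY.diag hX (IsAlgSpace.yon_obj _) f ξ _ _ sq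
  have hsnd : LocP @LocallyOfFiniteType (pullback.snd f ξ) :=
    locP_of_isPullback _ hX hY (IsAlgSpace.yon_obj _) hP f ξ _ _ sq hf
  have hfst : LocP @LocallyOfFiniteType (pullback.fst f ξ) :=
    locP_of_isPullback _ (IsAlgSpace.yon_obj _) hY hX hP ξ f _ _ sq.flip hξ
  have hsurj : IsSurjectiveMor (pullback.snd f ξ) := isSurjectiveMor_of_isPullback f ξ _ _ sq hs
  obtain ⟨p₀, -⟩ := hsurj (Points.ofScheme _ (IsLocalRing.closedPoint k))
  obtain ⟨p, hp⟩ := exists_isFTPt_of_lft_field hP str (pullback.snd f ξ) hsnd p₀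
  refine ⟨Points.map (pullback.fst f ξ) p, ?_, hp.map hP hX _ hfst⟩
  rw [← Points.map_comp, pullback.condition, Points.map_comp, Points.ofPt_eq_map_ofScheme]
  congr 1
  obtain ⟨t, ht⟩ := (Points.schemeHomeo (Over.mk str)).surjective (Points.map (pullback.snd f ξ) p)
  rw [← ht]
  change Points.ofScheme _ t = Points.ofScheme _ _
  congr 1
  exact Subsingleton.elim (α := PrimeSpectrum k) _ _

/-- A nonempty locally closed subset of a scheme contains a point closed in an affine open. -/
theorem exists_closed_point_in_open_of_isLocallyClosed {U : Scheme.{u}} (Z : Set U)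
    (hZ : IsLocallyClosed Z) (hne : Z.Nonempty) :
    ∃ (V : U.Opens) (v : (V : Scheme.{u})), IsClosed ({v} : Set (V : Scheme.{u})) ∧ V.ι v ∈ Z := by
  obtain ⟨O, C, hO, hC, rfl⟩ := hZ
  obtain ⟨z, hzO, hzC⟩ := hne
  obtain ⟨_, ⟨V₀, hV', rfl⟩, hzV, hVO⟩ := (U.isBasis_affineOpens).exists_subset_of_mem_open hzO hO
  let V' : U.Opens := V₀
  have : CompactSpace (V' : Scheme.{u}) := by
    have : IsAffine (V' : Scheme.{u}) := hV'
    infer_instance
  have hcl : IsClosed (V'.ι ⁻¹' C) := hC.preimage V'.ι.continuous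
  have hne' : (V'.ι ⁻¹' C).Nonempty := ⟨⟨z, hzV⟩, hzC⟩
  obtain ⟨v, hvC, hv⟩ := hcl.exists_closed_singleton hne'
  refine ⟨V', v, hv, hVO ?_, hvC⟩
  exact v.2

/-- Every nonempty locally closed subset of the points of an algebraic space contains a finite
type point. -/
theorem exists_isFTPt_of_isLocallyClosed {X : Sp S} (hX : IsAlgSpace X) (T : Set (Points X))
    (hT : IsLocallyClosed T) (hne : T.Nonempty) : ∃ x ∈ T, IsFTPt X x := by
  obtain ⟨U, a, haE, haS⟩ := hX.atlas
  obtain ⟨x₀, hx₀⟩ := hne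
  obtain ⟨u₀, hu₀⟩ := surjective_ofPt a haS x₀
  have hZ : IsLocallyClosed (Points.ofPt a ⁻¹' T) := hT.preimage (Points.continuous_ofPt a)
  obtain ⟨V, v, hv, hvT⟩ := exists_closed_point_in_open_of_isLocallyClosed _ hZ
    ⟨u₀, by rw [Set.mem_preimage, hu₀]; exact hx₀⟩
  let VO : Over S := Over.mk (V.ι ≫ U.hom)
  let j : VO ⟶ U := Over.homMk V.ι rfl
  have hjE : RepWith @Etale ((yon S).map j ≫ a) := by
    refine repWith_comp @Etale ((repWith_yon_map_iff @Etale _).mpr ?_) haE
    change Etale V.ι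
    infer_instance
  refine ⟨Points.ofPt ((yon S).map j ≫ a) v, ?_, isFTPt_of_closed_point hX _ hjE v hv⟩
  rw [ofPt_yon_map_comp]
  exact hvT

/-- Finite type points are dense in every closed subset. -/
theorem subset_closure_isFTPt {X : Sp S} (hX : IsAlgSpace X) (T : Set (Points X))
    (hT : IsClosed T) : T ⊆ closure {x | x ∈ T ∧ IsFTPt X x} := by
  intro x hx
  rw [mem_closure_iff]
  intro O hO hxO
  obtain ⟨y, ⟨hyO, hyT⟩, hy⟩ := exists_isFTPt_of_isLocallyClosed hX (O ∩ T)
    ⟨O, T, hO, hT, rfl⟩ ⟨x, hxO, hx⟩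
  exact ⟨y, hyO, hyT, hy⟩

/-- The image of a morphism locally of finite type from the spectrum of a field is a point that is
closed in an open neighbourhood. -/
theorem exists_open_closure_inter_subset_of_lft {U : Scheme.{u}} {L : Type u} [Field L]
    (g : Spec (CommRingCat.of L) ⟶ U) [LocallyOfFiniteType g] :
    ∃ V : U.Opens, g (IsLocalRing.closedPoint L) ∈ V ∧
      closure {g (IsLocalRing.closedPoint L)} ∩ (V : Set U) ⊆ {g (IsLocalRing.closedPoint L)} := by
  set u := g (IsLocalRing.closedPoint L) with hu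
  obtain ⟨_, ⟨U₀, hU', rfl⟩, huU', -⟩ :=
    (U.isBasis_affineOpens).exists_subset_of_mem_open (Set.mem_univ u) isOpen_univ
  let U' : U.Opens := U₀
  have hU'a : IsAffineOpen U' := hU'
  haveI : IsAffine (U' : Scheme.{u}) := hU'a
  have hrange : Set.range g ⊆ Set.range U'.ι := by
    rintro _ ⟨t, rfl⟩
    have : t = IsLocalRing.closedPoint L := Subsingleton.elim (α := PrimeSpectrum L) _ _
    rw [this, Scheme.Opens.range_ι]
    exact huU'
  let g' : Spec (CommRingCat.of L) ⟶ (U' : Scheme.{u}) := IsOpenImmersion.lift U'.ι g hrange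
  have hg' : g' ≫ U'.ι = g := IsOpenImmersion.lift_fac _ _ _
  haveI : LocallyOfFiniteType (g' ≫ U'.ι) := by rw [hg']; infer_instance
  haveI : LocallyOfFiniteType g' := locallyOfFiniteType_of_comp g' U'.ι
  let e := (U' : Scheme.{u}).isoSpec
  let ψ : Γ((U' : Scheme.{u}), ⊤) ⟶ CommRingCat.of L := Spec.preimage (g' ≫ e.hom)
  have hψ : Spec.map ψ = g' ≫ e.hom := Spec.map_preimage _
  have hft : ψ.hom.FiniteType := by
    rw [← HasRingHomProperty.Spec_iff (P := @LocallyOfFiniteType), hψ]
    infer_instance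
  letI : Algebra Γ((U' : Scheme.{u}), ⊤) L := ψ.hom.toAlgebra
  haveI : Algebra.FiniteType Γ((U' : Scheme.{u}), ⊤) L := hft
  obtain ⟨g₀, hg₀, hmax⟩ := Groth.Agent.Helper2.AlgLib.exists_le_ker_of_finiteType_field
    (A := Γ((U' : Scheme.{u}), ⊤)) (L := L)
  -- the point of `Spec A`
  let v₀ : PrimeSpectrum Γ((U' : Scheme.{u}), ⊤) := (Spec.map ψ) (IsLocalRing.closedPoint L)
  have hv₀ : v₀.asIdeal = RingHom.ker ψ.hom := by
    change Ideal.comap ψ.hom (IsLocalRing.maximalIdeal L) = _
    rw [IsLocalRing.maximalIdeal_eq_bot]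
    rfl
  -- the open set
  let D : (Spec Γ((U' : Scheme.{u}), ⊤)).Opens := PrimeSpectrum.basicOpen g₀
  let V : U.Opens := U'.ι ''ᵁ (e.hom ⁻¹ᵁ D)
  have hu' : U'.ι (g' (IsLocalRing.closedPoint L)) = u := by
    rw [← Scheme.Hom.comp_apply, hg']
  have hev : e.hom (g' (IsLocalRing.closedPoint L)) = v₀ := by
    change _ = (Spec.map ψ) _
    rw [hψ, Scheme.Hom.comp_apply]
  have hv₀D : v₀ ∈ D := by
    change g₀ ∉ v₀.asIdeal
    rw [hv₀]
    exact hg₀
  refine ⟨V, ⟨g' (IsLocalRing.closedPoint L), ?_, hu'⟩, ?_⟩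
  · change e.hom (g' (IsLocalRing.closedPoint L)) ∈ D
    rw [hev]
    exact hv₀D
  · rintro x ⟨hxcl, x', hx'D, rfl⟩
    rw [Set.mem_singleton_iff, ← hu']
    congr 1
    -- specialization in `U'`
    have hsp : g' (IsLocalRing.closedPoint L) ⤳ x' := by
      rw [← U'.ι.isOpenEmbedding.isInducing.specializes_iff, hu']
      exact specializes_iff_mem_closure.2 hxcl
    let y : PrimeSpectrum Γ((U' : Scheme.{u}), ⊤) := e.hom x'
    have hsp' : v₀ ⤳ y := by
      rw [← hev]
      exact hsp.map e.hom.continuous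
    have hle : v₀.asIdeal ≤ y.asIdeal := (PrimeSpectrum.le_iff_specializes _ _).2 hsp'
    have hx'g : g₀ ∉ y.asIdeal := hx'D
    have hle2 : RingHom.ker ψ.hom ≤ y.asIdeal := hv₀ ▸ hle
    have hle' : y.asIdeal ≤ v₀.asIdeal := by
      rw [hv₀]
      exact hmax _ y.isPrime hle2 hx'g
    have heq : e.hom x' = v₀ := PrimeSpectrum.ext (le_antisymm hle' hle)
    rw [← hev] at heq
    exact (e.hom.isOpenEmbedding.injective heq)

/-- A finite type point is the image of a closed point of some étale chart. -/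
theorem exists_closed_point_chart_of_isFTPt {X : Sp S} (hX : IsAlgSpace X) (x : Points X)
    (hx : IsFTPt X x) :
    ∃ (U : Over S) (φ : (yon S).obj U ⟶ X) (u : ↥U.left), RepWith @Etale φ ∧
      IsClosed ({u} : Set ↥U.left) ∧ Points.ofPt φ u = x := by
  obtain ⟨k, _, str, ξ, hξ, rfl⟩ := hx
  obtain ⟨U, a, haE, haS⟩ := hX.atlas
  have hrepξ : Representable ξ := hX.representable_from_yon ξ
  have hξr : RepWith @LocallyOfFiniteType ξ :=
    repWith_of_locP _ (IsAlgSpace.yon_obj _) hX ξ hrepξ hξ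
  have hrep := haE.rep
  have sq := hrep.isPullback ξ
  obtain ⟨fstP, hfstP⟩ := (yon S).map_surjective (hrep.fst ξ)
  rw [← hfstP] at sq
  haveI hE : Etale (hrep.snd ξ).left := haE.property ξ _ _ (hrep.isPullback ξ)
  have hSj : Surjective (hrep.snd ξ).left := haS.property ξ _ _ (hrep.isPullback ξ)
  obtain ⟨w, -⟩ := hSj.surj (IsLocalRing.closedPoint k)
  haveI hlft : LocallyOfFiniteType fstP.left := hξr.property a _ _ sq.flip
  haveI : DiscreteTopology ↥(hrep.pullback ξ).left := discreteTopology_of_etale_field (hrep.snd ξ).left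
  have hwc : IsClosed ({w} : Set ↥(hrep.pullback ξ).left) := isClosed_discrete _
  rw [isClosed_singleton_iff_isClosedImmersion] at hwc
  let gg : Spec (CommRingCat.of ↑((hrep.pullback ξ).left.residueField w)) ⟶ U.left :=
    (hrep.pullback ξ).left.fromSpecResidueField w ≫ fstP.left
  haveI : LocallyOfFiniteType gg := by
    change LocallyOfFiniteType ((hrep.pullback ξ).left.fromSpecResidueField w ≫ fstP.left)
    infer_instance
  obtain ⟨V, huV, hVcl⟩ := exists_open_closure_inter_subset_of_lft gg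
  have hgw : gg (IsLocalRing.closedPoint _) = fstP.left w := by
    change ((hrep.pullback ξ).left.fromSpecResidueField w ≫ fstP.left) _ = _
    rw [Scheme.Hom.comp_apply, Scheme.fromSpecResidueField_apply]
  rw [hgw] at huV hVcl
  let VO : Over S := Over.mk (V.ι ≫ U.hom)
  let j : VO ⟶ U := Over.homMk V.ι rfl
  have hjE : RepWith @Etale ((yon S).map j ≫ a) := by
    refine repWith_comp @Etale ((repWith_yon_map_iff @Etale _).mpr ?_) haE
    change Etale V.ι
    infer_instance
  refine ⟨VO, (yon S).map j ≫ a, ⟨fstP.left w, huV⟩, hjE, ?_, ?_⟩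
  · have : ({⟨fstP.left w, huV⟩} : Set ↥V) = Subtype.val ⁻¹' closure {fstP.left w} := by
      ext y
      constructor
      · intro hy
        rw [Set.mem_singleton_iff] at hy
        rw [hy]
        exact subset_closure rfl
      · intro hy
        have := hVcl ⟨hy, y.2⟩
        rw [Set.mem_singleton_iff] at this ⊢
        exact Subtype.ext this
    change IsClosed ({⟨fstP.left w, huV⟩} : Set ↥V)
    rw [this]
    exact isClosed_closure.preimage continuous_subtype_val
  · rw [ofPt_yon_map_comp]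
    change Points.ofPt a (fstP.left w) = _
    rw [← ofPt_yon_map_comp, sq.w, ofPt_yon_map_comp]
    congr 1
    exact Subsingleton.elim (α := PrimeSpectrum k) _ _

end Groth.Agent.Helper2.AlgSpBasic
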