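import Mathlib
import Groth.Prelude.Def_AlgSp4
import Groth.Prelude.Def_AlgSpDec
import Groth.Prelude.Def_Flat
import Groth.Agent.Lib.Helper2.AlgSp.QfAtSp
import Groth.Agent.Lib.Helper2.AlgSp.OpenSub
import Groth.Agent.Lib.Helper2.AlgSp.PointsMor
import Groth.Agent.Lib.Helper2.Sch.FibreDimZero
import Groth.Agent.Lib.Helper2.Sch.QfAtBC
import Groth.Agent.Lib.Helper2.Sch.LocalDimEtale

/-!
# Fibre of dimension zero at a point gives local quasi-finiteness near the point
-/

set_option autoImplicit false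
set_option backward.isDefEq.respectTransparency false

open CategoryTheory CategoryTheory.Limits AlgebraicGeometry Opposite AlgSp

namespace Groth.Agent.Helper2.FibreDimLqf
universe u
variable {S : Scheme.{u}}

open Groth.Agent.Helper2.ChartIndep Groth.Agent.Helper2.QfAt Groth.Agent.Helper2.QfAtSp

/-- If the fibre over a field-valued point has local dimension zero at `z`, the chart morphism is
quasi-finite at every point of the chart over the image of `z`. -/
theorem quasiFiniteAt_of_fibre_localDim_zero {X Y F : Sp S} (hY : IsAlgSpace Y)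
    (hF : IsAlgSpace F) (f : X ⟶ Y) (hf : LocP @LocallyOfFiniteType f) (k : Type u) [Field k]
    (str : Spec (.of k) ⟶ S) (y : (yon S).obj (Over.mk str) ⟶ Y) (p : F ⟶ X)
    (q : F ⟶ (yon S).obj (Over.mk str)) (sq : IsPullback p q f y) (z : Points F)
    (hz : HasAt (fun U u => FlatMor.localDim ↥U u = 0) F z)
    {U V : Over S} (a : (yon S).obj U ⟶ X) (b : (yon S).obj V ⟶ Y) (h : U ⟶ V)
    (hae : RepWith @Etale a) (hbe : RepWith @Etale b) (c : a ≫ f = (yon S).map h ≫ b)
    (u : ↥U.left) (hu : Points.ofPt a u = Points.map p z) : h.left.QuasiFiniteAt u := by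
  haveI : LocallyOfFiniteType h.left := hf a b h hae hbe c
  obtain ⟨P, π₁, π₂, sqP⟩ := AlgSpBasic.exists_isPullback_yon hY.diag (a ≫ f) y
  have wl : ((yon S).map π₁ ≫ a) ≫ f = (yon S).map π₂ ≫ y := by
    rw [Category.assoc]; exact sqP.w
  let l : (yon S).obj P ⟶ F := sq.lift ((yon S).map π₁ ≫ a) ((yon S).map π₂) wl
  have hl1 : l ≫ p = (yon S).map π₁ ≫ a := sq.lift_fst _ _ _
  have hl2 : l ≫ q = (yon S).map π₂ := sq.lift_snd _ _ _
  have sqL : IsPullback l ((yon S).map π₁) p a := by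
    refine IsPullback.of_right ?_ hl1 sq.flip
    rw [hl2]
    exact sqP.flip
  have hl : RepWith @Etale l := AlgSpBasic.repWith_of_isPullback @Etale sqL.flip hae
  obtain ⟨p₀, hp₀z, hp₀u⟩ :=
    AlgSpBasic.exists_point_of_isPullback_right p a l π₁ sqL z u hu.symm
  have hdim : FlatMor.localDim ↥P.left p₀ = 0 :=
    (hasAt_iff_forall (LocalDimEtale.etaleInvariant_localDim 0) hF z).mp hz P l p₀ hl hp₀z
  obtain ⟨T, τ₁, τ₂, sqT⟩ := AlgSpBasic.exists_isPullback_yon hY.diag b y
  have hτ₂ : Etale τ₂.left := hbe.property y ((yon S).map τ₁) τ₂ sqT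
  have wm : (yon S).map (π₁ ≫ h) ≫ b = (yon S).map π₂ ≫ y := by
    rw [Functor.map_comp, Category.assoc, ← c]
    exact sqP.w
  obtain ⟨m, hm⟩ := (yon S).map_surjective (sqT.lift _ _ wm)
  have e₁ : m ≫ τ₁ = π₁ ≫ h := by
    apply (yon S).map_injective
    rw [Functor.map_comp, hm, sqT.lift_fst]
  have e₂ : m ≫ τ₂ = π₂ := by
    apply (yon S).map_injective
    rw [Functor.map_comp, hm, sqT.lift_snd]
  have sqM : IsPullback ((yon S).map m) ((yon S).map π₁) ((yon S).map τ₁) ((yon S).map h) := by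
    refine IsPullback.of_right ?_ ?_ sqT.flip
    · rw [← Functor.map_comp, e₂, ← c]
      exact sqP.flip
    · rw [← Functor.map_comp, ← Functor.map_comp, e₁]
  have sqS : IsPullback m π₁ τ₁ h := IsPullback.of_map (yon S) e₁ sqM
  have sqS' : IsPullback π₁.left m.left h.left τ₁.left := (sqS.map (Over.forget S)).flip
  haveI : LocallyOfFiniteType m.left := MorphismProperty.of_isPullback sqS' inferInstance
  haveI := hτ₂
  haveI := locallyQuasiFinite_of_etale τ₂.left
  haveI : LocallyOfFiniteType (m.left ≫ τ₂.left) := inferInstance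
  have hq2 : (m.left ≫ τ₂.left).QuasiFiniteAt p₀ :=
    FibreDimZero.quasiFiniteAt_of_localDim_eq_zero (k := k) (m.left ≫ τ₂.left) p₀ hdim
  have hq3 : m.left.QuasiFiniteAt p₀ := Scheme.Hom.quasiFiniteAt_comp_iff.mp hq2
  have := quasiFiniteAt_of_isPullback sqS' p₀ hq3
  rw [hp₀u] at this
  exact this

/-- S10329. -/
theorem main {X Y F : Sp S} (hX : IsAlgSpace X) (hY : IsAlgSpace Y) (hF : IsAlgSpace F)
    (f : X ⟶ Y) (hf : LocP @LocallyOfFiniteType f) (k : Type u) [Field k]
    (str : Spec (.of k) ⟶ S) (y : (yon S).obj (Over.mk str) ⟶ Y) (p : F ⟶ X)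
    (q : F ⟶ (yon S).obj (Over.mk str)) (sq : IsPullback p q f y) (z : Points F)
    (hz : HasAt (fun U u => FlatMor.localDim ↥U u = 0) F z) :
    ∃ (X' : Sp S) (j : X' ⟶ X), IsAlgSpace X' ∧ RepWith @IsOpenImmersion j ∧
      Points.map p z ∈ Set.range (Points.map j) ∧
      LocP (@LocallyQuasiFinite ⊓ @LocallyOfFiniteType) (j ≫ f) := by
  obtain ⟨V, b, hbe, hbs⟩ := hY.atlas
  obtain ⟨U, a, h, hae, has, c⟩ := AlgSpBasic.exists_chart_lift hX f b hbe hbs
  haveI : LocallyOfFiniteType h.left := hf a b h hae hbe c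
  obtain ⟨u, hu⟩ := AlgSpBasic.surjective_ofPt a has (Points.map p z)
  have hqu : h.left.QuasiFiniteAt u :=
    quasiFiniteAt_of_fibre_localDim_zero hY hF f hf k str y p q sq z hz a b h hae hbe c u hu
  have hopen : IsOpen (Points.ofPt a '' (h.left.quasiFiniteLocus : Set ↥U.left)) :=
    AlgSpBasic.isOpenMap_ofPt a hae _ h.left.quasiFiniteLocus.2
  obtain ⟨X', j, hX', hjm, hjo, hjr⟩ := AlgSpBasic.exists_openSubspace hX hopen
  refine ⟨X', j, hX', hjo, ?_, ?_⟩
  · rw [hjr]
    exact ⟨u, hqu, hu⟩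
  · intro U' V' a' b' h' ha' hb' c'
    have hja : RepWith @Etale (a' ≫ j) :=
      AlgSpBasic.repWith_comp @Etale ha' (AlgSpBasic.repWith_isOpenImmersion_le_etale hjo)
    have c'' : (a' ≫ j) ≫ f = (yon S).map h' ≫ b' := by rw [Category.assoc]; exact c'
    have hlft : LocallyOfFiniteType h'.left := hf (a' ≫ j) b' h' hja hb' c''
    refine ⟨?_, hlft⟩
    haveI := hlft
    rw [← Scheme.Hom.quasiFiniteLocus_eq_top_iff]
    refine top_le_iff.mp fun u' _ => ?_
    have hmem : Points.ofPt (a' ≫ j) u' ∈ Set.range (Points.map j) :=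
      ⟨Points.ofPt a' u', rfl⟩
    rw [hjr] at hmem
    obtain ⟨u₁, hu₁q, hu₁⟩ := hmem
    exact (quasiFiniteAt_chart_indep hX.diag hY.diag f hf a b h (a' ≫ j) b' h' hae hbe hja hb' c c''
      u₁ u' hu₁).mp hu₁q

end Groth.Agent.Helper2.FibreDimLqf
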