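import Mathlib
import Groth.Prelude.Def_AlgSp4
import Groth.Prelude.Def_AlgSpDec
import Groth.Agent.Lib.Helper2.AlgSp.QfAtSp
import Groth.Agent.Lib.Helper2.AlgSp.QC
import Groth.Agent.Lib.Helper2.AlgSp.DimIntegralSp

/-!
# Finiteness of the set of points of a fibre where a finite type morphism is quasi-finite
-/

set_option autoImplicit false
set_option backward.isDefEq.respectTransparency false

open CategoryTheory CategoryTheory.Limits AlgebraicGeometry Opposite AlgSp

namespace Groth.Agent.Helper2.QfFinite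
universe u
variable {S : Scheme.{u}}

open Groth.Agent.Helper2.ChartIndep Groth.Agent.Helper2.QfAt Groth.Agent.Helper2.QfAtSp

/-- A chart diagram for a quasi-compact morphism over an affine chart of the target: the source
chart is quasi-compact and covers all the points over the points of the target chart. -/
theorem exists_qc_diagram {X Y : Sp S} (hX : IsAlgSpace X) (hY : IsAlgSpace Y) (f : X ⟶ Y)
    (hqc : IsQuasiCompactMor f) {V : Over S} [IsAffine V.left] (b : (yon S).obj V ⟶ Y)
    (hbe : RepWith @Etale b) :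
    ∃ (U : Over S) (a : (yon S).obj U ⟶ X) (h : U ⟶ V), RepWith @Etale a ∧
      a ≫ f = (yon S).map h ≫ b ∧ CompactSpace ↥U.left ∧
      ∀ (x : Points X) (v : ↥V.left), Points.map f x = Points.ofPt b v →
        ∃ u : ↥U.left, Points.ofPt a u = x ∧ h.left u = v := by
  let fst : pullback f b ⟶ X := pullback.fst f b
  let snd : pullback f b ⟶ (yon S).obj V := pullback.snd f b
  have sq : IsPullback fst snd f b := IsPullback.of_hasPullback f b
  have hZ' : IsAlgSpace (pullback f b) :=
    AlgSpBasic.isAlgSpace_of_isPullback hY.diag hX (IsAlgSpace.yon_obj V) f b fst snd sq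
  have hVq : IsQuasiCompactSp ((yon S).obj V) :=
    (AlgSpBasic.isQuasiCompactSp_yon_iff V).mpr inferInstance
  have hZ'q : IsQuasiCompactSp (pullback f b) := hqc (IsAlgSpace.yon_obj V) hVq b fst snd sq
  obtain ⟨U, c, hce, hcs, hUc⟩ := hZ'q
  obtain ⟨h, hh⟩ := (yon S).map_surjective (c ≫ snd)
  have hfst : RepWith @Etale fst := AlgSpBasic.repWith_of_isPullback @Etale sq.flip hbe
  refine ⟨U, c ≫ fst, h, AlgSpBasic.repWith_comp @Etale hce hfst, ?_, hUc, ?_⟩
  · rw [hh, Category.assoc, Category.assoc, sq.w]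
  · intro x v e
    rw [Points.ofPt_eq_map_ofScheme] at e
    obtain ⟨p, hp1, hp2⟩ := AlgSpBasic.points_exists_of_isPullback f b snd fst sq.flip
      (Points.ofScheme V v) x e.symm
    obtain ⟨u, hu⟩ := AlgSpBasic.surjective_ofPt c hcs p
    refine ⟨u, ?_, ?_⟩
    · have : Points.ofPt (c ≫ fst) u = Points.map fst (Points.ofPt c u) := rfl
      rw [this, hu, hp2]
    · have h1 : Points.ofPt (c ≫ snd) u = Points.map snd (Points.ofPt c u) := rfl
      rw [hu, hp1, ← hh] at h1
      have h2 := Points.map_yon_map_apply h u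
      rw [Points.ofPt_eq_map_ofScheme] at h1
      have h3 : Points.ofScheme V (h.left u) = Points.ofScheme V v := h2.symm.trans h1
      exact (Points.schemeHomeo V).injective h3

/-- S9995. -/
theorem main {X Y : Sp S} (hX : IsAlgSpace X) (hY : IsAlgSpace Y) (f : X ⟶ Y)
    (hf : IsFiniteTypeMor f) (y : Points Y) :
    {x : Points X | Points.map f x = y ∧ HasAtMor QfQ f x}.Finite := by
  obtain ⟨hlft, hqc⟩ := hf
  obtain ⟨V₀, b₀, hb₀e, hb₀s⟩ := hY.atlas
  obtain ⟨v₀, hv₀⟩ := AlgSpBasic.surjective_ofPt b₀ hb₀s y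
  obtain ⟨V, j, v, hV, hj, hv, hbe⟩ := DimIntegralSp.exists_affine_chart b₀ hb₀e v₀
  haveI := hV
  have hvy : Points.ofPt ((yon S).map j ≫ b₀) v = y := by
    rw [AlgSpBasic.ofPt_yon_map_comp, hv, hv₀]
  obtain ⟨U, a, h, hae, c, hUc, hpts⟩ := exists_qc_diagram hX hY f hqc ((yon S).map j ≫ b₀) hbe
  haveI : LocallyOfFiniteType h.left := hlft a _ h hae hbe c
  haveI := hUc
  haveI : QuasiCompact h.left :=
    (HasAffineProperty.iff_of_isAffine (P := @QuasiCompact) (f := h.left)).mpr hUc
  have hfin := finite_quasiFiniteAt_fibre h.left v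
  refine (hfin.image (Points.ofPt a)).subset ?_
  rintro x ⟨hx, hq⟩
  obtain ⟨u, hu1, hu2⟩ := hpts x v (hx.trans hvy.symm)
  refine ⟨u, ⟨hu2, ?_⟩, hu1⟩
  exact quasiFiniteAt_of_hasAtMor hX.diag hY.diag f hlft x hq a _ h hae hbe c u hu1

end Groth.Agent.Helper2.QfFinite
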