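import Mathlib
import Groth.Prelude.Def_AlgSp4
import Groth.Prelude.Def_AlgSpDec
import Groth.Prelude.Def_Flat
import Groth.Agent.Lib.Helper2.AlgSp.FibreDimField
import Groth.Agent.Lib.Helper2.AlgSp.Mor2
import Groth.Agent.Lib.Helper2.AlgSp.LargestOpen
import Groth.Agent.Lib.Helper2.AlgSp.QfFinite
import Groth.Agent.Lib.Helper2.AlgSp.DimIneqSp
import Groth.Agent.Lib.Helper2.FibDim.FlatLowerSemi
import Groth.Agent.Lib.Helper4.Chev2
import Groth.Agent.Lib.Helper4.FibDimComp1

/-!
# Semicontinuity of the fibre dimension for morphisms of algebraic spaces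
(S10679, S10680, S10692) (helper2)
-/

set_option autoImplicit false
set_option backward.isDefEq.respectTransparency false

open CategoryTheory CategoryTheory.Limits AlgebraicGeometry Opposite AlgSp

namespace Groth.Agent.Helper2.FibreDimSemicont
universe u
variable {S : Scheme.{u}}

open Groth.Agent.Helper2.ChartIndep Groth.Agent.Helper2.ChartIndepMor Groth.Agent.Helper2.RelDimSp

/-! ### order lemmas -/

theorem lt_top_iff_exists_nat (a : WithBot ℕ∞) : a < ⊤ ↔ ∃ n : ℕ, a ≤ (n : WithBot ℕ∞) := by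
  induction a with
  | bot => exact ⟨fun _ => ⟨0, bot_le⟩, fun _ => bot_lt_top⟩
  | coe a =>
    induction a with
    | top =>
      constructor
      · intro h; exact absurd h (lt_irrefl _)
      · rintro ⟨n, hn⟩
        exfalso
        have h1 : ((⊤ : ℕ∞) : WithBot ℕ∞) ≤ ((n : ℕ∞) : WithBot ℕ∞) := hn
        rw [WithBot.coe_le_coe] at h1
        exact absurd h1 (by simp)
    | coe m =>
      constructor
      · intro _; exact ⟨m, le_rfl⟩
      · intro _
        have : ((m : ℕ∞) : WithBot ℕ∞) < (((⊤ : ℕ∞)) : WithBot ℕ∞) :=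
          WithBot.coe_lt_coe.2 (ENat.natCast_lt_top m)
        exact this

theorem lt_zero_iff_eq_bot (a : WithBot ℕ∞) : a < ((0 : ℕ) : WithBot ℕ∞) ↔ a = ⊥ := by
  induction a with
  | bot => exact ⟨fun _ => rfl, fun _ => WithBot.bot_lt_coe _⟩
  | coe a =>
    constructor
    · intro h
      exfalso
      have h1 : ((a : ℕ∞) : WithBot ℕ∞) < (((0 : ℕ) : ℕ∞) : WithBot ℕ∞) := h
      rw [WithBot.coe_lt_coe] at h1
      exact absurd h1 (by simp)
    · intro h; exact absurd h WithBot.coe_ne_bot

theorem lt_succ_iff_le (a : WithBot ℕ∞) (n : ℕ) :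
    a < ((n + 1 : ℕ) : WithBot ℕ∞) ↔ a ≤ (n : WithBot ℕ∞) := by
  induction a with
  | bot => exact ⟨fun _ => bot_le, fun _ => WithBot.bot_lt_coe _⟩
  | coe a =>
    have e1 : ((n + 1 : ℕ) : WithBot ℕ∞) = (((n + 1 : ℕ) : ℕ∞) : WithBot ℕ∞) := rfl
    have e2 : ((n : ℕ) : WithBot ℕ∞) = (((n : ℕ) : ℕ∞) : WithBot ℕ∞) := rfl
    rw [e1, e2, WithBot.coe_lt_coe, WithBot.coe_le_coe]
    induction a with
    | top => simp
    | coe m =>
      rw [Nat.cast_lt, Nat.cast_le]
      omega

theorem eq_of_forall_nat_le_iff {a b : WithBot ℕ∞} (h0 : a = ⊥ ↔ b = ⊥)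
    (h : ∀ n : ℕ, a ≤ (n : WithBot ℕ∞) ↔ b ≤ (n : WithBot ℕ∞)) : a = b := by
  induction a with
  | bot => exact (h0.1 rfl).symm
  | coe a =>
    induction b with
    | bot => exact absurd (h0.2 rfl) WithBot.coe_ne_bot
    | coe b =>
      congr 1
      induction a with
      | top =>
        induction b with
        | top => rfl
        | coe m =>
          exfalso
          have h1 := (h m).2 le_rfl
          have h2 : ((⊤ : ℕ∞) : WithBot ℕ∞) ≤ ((m : ℕ∞) : WithBot ℕ∞) := h1
          rw [WithBot.coe_le_coe] at h2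
          exact absurd h2 (by simp)
      | coe m =>
        induction b with
        | top =>
          exfalso
          have h1 := (h m).1 le_rfl
          have h2 : ((⊤ : ℕ∞) : WithBot ℕ∞) ≤ ((m : ℕ∞) : WithBot ℕ∞) := h1
          rw [WithBot.coe_le_coe] at h2
          exact absurd h2 (by simp)
        | coe m' =>
          have h1 := (h m).1 le_rfl
          have h2 := (h m').2 le_rfl
          have h1' : ((m' : ℕ∞) : WithBot ℕ∞) ≤ ((m : ℕ∞) : WithBot ℕ∞) := h1
          have h2' : ((m : ℕ∞) : WithBot ℕ∞) ≤ ((m' : ℕ∞) : WithBot ℕ∞) := h2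
          rw [WithBot.coe_le_coe, Nat.cast_le] at h1' h2'
          have : m = m' := le_antisymm h2' h1'
          rw [this]

/-! ### the fibre dimension function -/

/-- all points over `y` have local fibre dimension at most `n` -/
def Bdd {X Y : Sp S} (f : X ⟶ Y) (n : ℕ) (y : Points Y) : Prop :=
  ∀ x : Points X, Points.map f x = y →
    HasAtMor (fun _ _ h u => FlatMor.fibreDimAt h u ≤ (n : WithBot ℕ∞)) f x

/-- the dimension of a chosen fibre over `y` -/
noncomputable def δ {X Y : Sp S} (f : X ⟶ Y) (y : Points Y) : WithBot ℕ∞ :=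
  AlgSp.dim (pullback f (Points.mk_surjective y).choose.toHom)

/-- the sets of the statements -/
def Sset {X Y : Sp S} (f : X ⟶ Y) (R : WithBot ℕ∞ → Prop) : Set (Points Y) :=
  {y | ∀ (k : FieldPt Y), Points.mk k = y →
      ∀ (Xk : Sp S) (fst : Xk ⟶ X) (snd : Xk ⟶ (yon S).obj k.pt),
        IsPullback fst snd f k.toHom → R (AlgSp.dim Xk)}

section
variable {X Y : Sp S} (hX : IsAlgSpace X) (hY : IsAlgSpace Y) (f : X ⟶ Y)
  (hf : LocP @LocallyOfFiniteType f)
include hX hY hf

theorem δ_eq_bot_iff (y : Points Y) : δ f y = ⊥ ↔ y ∉ Set.range (Points.map f) :=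
  (FibreDimField.S10678_main hX hY f hf y _ (Points.mk_surjective y).choose_spec _ _ _
    (IsPullback.of_hasPullback f _)).1

theorem δ_le_iff (y : Points Y) (n : ℕ) : δ f y ≤ (n : WithBot ℕ∞) ↔ Bdd f n y :=
  (FibreDimField.S10678_main hX hY f hf y _ (Points.mk_surjective y).choose_spec _ _ _
    (IsPullback.of_hasPullback f _)).2 n

theorem dim_eq_δ (y : Points Y) (k : FieldPt Y) (hk : Points.mk k = y) (Xk : Sp S)
    (fst : Xk ⟶ X) (snd : Xk ⟶ (yon S).obj k.pt) (h : IsPullback fst snd f k.toHom) :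
    AlgSp.dim Xk = δ f y := by
  have h1 := FibreDimField.S10678_main hX hY f hf y k hk Xk fst snd h
  refine eq_of_forall_nat_le_iff ?_ fun n => ?_
  · rw [h1.1, δ_eq_bot_iff hX hY f hf]
  · rw [h1.2 n, δ_le_iff hX hY f hf]
    rfl

theorem sset_eq (R : WithBot ℕ∞ → Prop) : Sset f R = {y | R (δ f y)} := by
  ext y
  constructor
  · intro hy
    exact hy _ (Points.mk_surjective y).choose_spec _ _ _ (IsPullback.of_hasPullback f _)
  · intro hy k hk Xk fst snd h
    rw [dim_eq_δ hX hY f hf y k hk Xk fst snd h]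
    exact hy

/-- Upper semicontinuity on the source: the locus where all points over `y` have small fibre
dimension is open when `f` is closed. -/
theorem isOpen_bdd (hcl : IsClosedMap (Points.map f)) (n : ℕ) : IsOpen {y | Bdd f n y} := by
  have hop : IsOpen {x : Points X |
      HasAtMor (fun _ _ h u => FlatMor.fibreDimAt h u ≤ (n : WithBot ℕ∞)) f x} :=
    isOpen_locus (etaleLocalST_fibreDimAt_le (n : WithBot ℕ∞))
      (fun U V h hh => by
        haveI := hh
        exact Groth.Agent.Lib.Helper4.Chev2.S0402_main h n) hX hY f hf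
  have : {y | Bdd f n y} = (Points.map f '' {x : Points X |
      HasAtMor (fun _ _ h u => FlatMor.fibreDimAt h u ≤ (n : WithBot ℕ∞)) f x}ᶜ)ᶜ := by
    ext y
    simp only [Set.mem_ofPred_eq, Set.mem_compl_iff, Set.mem_image, not_exists, not_and, Bdd]
    constructor
    · intro hy x hx hxy
      exact hx (hy x hxy)
    · intro hy x hxy
      by_contra hx
      exact hy x hx hxy
  rw [this]
  exact (hcl _ hop.isClosed_compl).isOpen_compl

theorem isOpen_not_range (hcl : IsClosedMap (Points.map f)) :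
    IsOpen (Set.range (Points.map f))ᶜ := by
  rw [← Set.image_univ]
  exact (hcl _ isClosed_univ).isOpen_compl

/-- Lower semicontinuity for flat morphisms locally of finite presentation. -/
theorem isOpen_not_bdd (hfl : LocP @Flat f) (hfp : LocP @LocallyOfFinitePresentation f) (n : ℕ) :
    IsOpen {y | ¬ Bdd f n y} := by
  obtain ⟨V, b, hbe, hbs⟩ := hY.atlas
  obtain ⟨U, a, h₀, hae, has, c⟩ := AlgSpBasic.exists_chart_lift hX f b hbe hbs
  haveI : Flat h₀.left := hfl a b h₀ hae hbe c
  haveI : LocallyOfFinitePresentation h₀.left := hfp a b h₀ hae hbe c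
  have hmap : ∀ t : ↥U.left, Points.ofPt b (h₀.left t) = Points.map f (Points.ofPt a t) :=
    fun t => DimIneqSp.ofPt_map_eq f a b h₀ c t
  have : {y | ¬ Bdd f n y} = Points.ofPt b '' (h₀.left '' {u : ↥U.left |
      ¬ FlatMor.fibreDimAt h₀.left u ≤ (n : WithBot ℕ∞)}) := by
    ext y
    simp only [Set.mem_ofPred_eq, Set.mem_image, Bdd]
    constructor
    · intro hy
      by_contra hcon
      apply hy
      intro x hx
      obtain ⟨u, hu⟩ := AlgSpBasic.surjective_ofPt a has x
      rw [← hu]
      refine hasAtMor_of f a b h₀ hae hbe c u ?_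
      by_contra hu'
      exact hcon ⟨h₀.left u, ⟨u, hu', rfl⟩, by rw [hmap, hu, hx]⟩
    · rintro ⟨_, ⟨u, hu, rfl⟩, rfl⟩ hy
      apply hu
      exact of_hasAtMor (etaleLocalST_fibreDimAt_le (n : WithBot ℕ∞)) hX.diag hY.diag f _
        (hy (Points.ofPt a u) (hmap u).symm) a b h₀ hae hbe c u rfl
  rw [this]
  exact AlgSpBasic.isOpenMap_ofPt b hbe _
    (Groth.Agent.Helper2.FibDim.isOpen_image_setOf_not_fibreDimAt_le h₀.left n)

/-- The fibres of a quasi-compact morphism locally of finite type have bounded dimension. -/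
theorem exists_bdd (hqc : IsQuasiCompactMor f) (y : Points Y) : ∃ n : ℕ, Bdd f n y := by
  obtain ⟨V₀, b₀, hb₀e, hb₀s⟩ := hY.atlas
  obtain ⟨v₀, hv₀⟩ := AlgSpBasic.surjective_ofPt b₀ hb₀s y
  obtain ⟨V, j, v, hV, hj, hv, hbe⟩ := DimIntegralSp.exists_affine_chart b₀ hb₀e v₀
  haveI := hV
  have hvy : Points.ofPt ((yon S).map j ≫ b₀) v = y := by
    rw [AlgSpBasic.ofPt_yon_map_comp, hv, hv₀]
  obtain ⟨U, a, h, hae, c, hUc, hpts⟩ :=
    QfFinite.exists_qc_diagram hX hY f hqc ((yon S).map j ≫ b₀) hbe
  haveI : LocallyOfFiniteType h.left := hf a _ h hae hbe c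
  haveI := hUc
  -- a uniform bound on the compact chart
  have hcov : (Set.univ : Set ↥U.left) ⊆ ⋃ n : ℕ,
      {u : ↥U.left | FlatMor.fibreDimAt h.left u ≤ (n : WithBot ℕ∞)} := by
    intro u _
    obtain ⟨d, hd⟩ := Groth.Agent.Lib.Helper4.FibDimComp1.exists_fibreDimAt_nat h.left u
    exact Set.mem_iUnion.2 ⟨d, hd.le⟩
  obtain ⟨t, ht⟩ := isCompact_univ.elim_finite_subcover _
    (fun n : ℕ => Groth.Agent.Lib.Helper4.Chev2.S0402_main h.left n) hcov
  refine ⟨t.sup id, fun x hx => ?_⟩
  obtain ⟨u, hu1, -⟩ := hpts x v (hx.trans hvy.symm)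
  rw [← hu1]
  refine hasAtMor_of f a _ h hae hbe c u ?_
  obtain ⟨n, hn, hun⟩ := Set.mem_iUnion₂.1 (ht (Set.mem_univ u))
  have hun' : FlatMor.fibreDimAt h.left u ≤ (n : WithBot ℕ∞) := hun
  refine hun'.trans ?_
  have : n ≤ t.sup id := Finset.le_sup (f := id) hn
  exact_mod_cast this

end

/-- S10680 -/
theorem S10680_main {X Y : Sp S} (hX : IsAlgSpace X) (hY : IsAlgSpace Y) (f : X ⟶ Y)
    (hf : LocP @LocallyOfFiniteType f) (hcl : IsClosedMap (Points.map f)) (d : WithBot ℕ∞) :
    IsOpen (Sset f (fun e => e < d)) := by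
  rw [sset_eq hX hY f hf]
  induction d with
  | bot =>
    have : {y | δ f y < ⊥} = ∅ := by
      ext y; simp
    rw [this]; exact isOpen_empty
  | coe d =>
    induction d with
    | top =>
      have : {y | δ f y < ((⊤ : ℕ∞) : WithBot ℕ∞)} = ⋃ n : ℕ, {y | Bdd f n y} := by
        ext y
        simp only [Set.mem_ofPred_eq, Set.mem_iUnion]
        have e : (((⊤ : ℕ∞)) : WithBot ℕ∞) = ⊤ := rfl
        rw [e, lt_top_iff_exists_nat]
        exact exists_congr fun n => δ_le_iff hX hY f hf y n
      rw [this]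
      exact isOpen_iUnion fun n => isOpen_bdd hX hY f hf hcl n
    | coe m =>
      cases m with
      | zero =>
        have : {y | δ f y < (((0 : ℕ) : ℕ∞) : WithBot ℕ∞)} = (Set.range (Points.map f))ᶜ := by
          ext y
          simp only [Set.mem_ofPred_eq, Set.mem_compl_iff]
          rw [← δ_eq_bot_iff hX hY f hf y]
          exact lt_zero_iff_eq_bot _
        rw [this]
        exact isOpen_not_range hX hY f hf hcl
      | succ m =>
        have : {y | δ f y < (((m + 1 : ℕ) : ℕ∞) : WithBot ℕ∞)} = {y | Bdd f m y} := by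
          ext y
          simp only [Set.mem_ofPred_eq]
          rw [← δ_le_iff hX hY f hf y m]
          exact lt_succ_iff_le _ m
        rw [this]
        exact isOpen_bdd hX hY f hf hcl m

/-- S10679 -/
theorem S10679_main {X Y : Sp S} (hX : IsAlgSpace X) (hY : IsAlgSpace Y) (f : X ⟶ Y)
    (hfl : LocP @Flat f) (hfp : LocP @LocallyOfFinitePresentation f) (d : WithBot ℕ∞) :
    IsOpen (Sset f (fun e => d < e)) := by
  have hf : LocP @LocallyOfFiniteType f := fun U V a b h ha hb c =>
    haveI := hfp a b h ha hb c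
    inferInstance
  rw [sset_eq hX hY f hf]
  induction d with
  | bot =>
    have : {y | ⊥ < δ f y} = Set.range (Points.map f) := by
      ext y
      simp only [Set.mem_ofPred_eq]
      rw [bot_lt_iff_ne_bot, Ne, δ_eq_bot_iff hX hY f hf y, not_not]
    rw [this, ← Set.image_univ]
    exact AlgSpBasic.isOpenMap_points_of_flat_lfp hX hY f hfl hfp _ isOpen_univ
  | coe d =>
    induction d with
    | top =>
      have : {y | ((⊤ : ℕ∞) : WithBot ℕ∞) < δ f y} = ∅ := by
        ext y
        simp only [Set.mem_ofPred_eq, Set.mem_empty_iff_false, iff_false]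
        rw [WithBot.coe_top]
        exact not_top_lt
      rw [this]; exact isOpen_empty
    | coe m =>
      have : {y | (((m : ℕ) : ℕ∞) : WithBot ℕ∞) < δ f y} = {y | ¬ Bdd f m y} := by
        ext y
        simp only [Set.mem_ofPred_eq]
        rw [← δ_le_iff hX hY f hf y m, not_le]
        rfl
      rw [this]
      exact isOpen_not_bdd hX hY f hf hfl hfp m

/-- S10692 -/
theorem S10692_main {X Y : Sp S} (hX : IsAlgSpace X) (hY : IsAlgSpace Y) (f : X ⟶ Y)
    (hcl : IsClosedMap (Points.map f)) (hqc : IsQuasiCompactMor f)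
    (hfl : LocP @Flat f) (hfp : LocP @LocallyOfFinitePresentation f) (d : WithBot ℕ∞) :
    IsOpen (Sset f (fun e => e = d)) := by
  have hf : LocP @LocallyOfFiniteType f := fun U V a b h ha hb c =>
    haveI := hfp a b h ha hb c
    inferInstance
  rw [sset_eq hX hY f hf]
  induction d with
  | bot =>
    have : {y | δ f y = ⊥} = (Set.range (Points.map f))ᶜ := by
      ext y
      simp only [Set.mem_ofPred_eq, Set.mem_compl_iff]
      exact δ_eq_bot_iff hX hY f hf y
    rw [this]
    exact isOpen_not_range hX hY f hf hcl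
  | coe d =>
    induction d with
    | top =>
      have : {y | δ f y = ((⊤ : ℕ∞) : WithBot ℕ∞)} = ∅ := by
        ext y
        simp only [Set.mem_ofPred_eq, Set.mem_empty_iff_false, iff_false]
        intro hy
        obtain ⟨n, hn⟩ := exists_bdd hX hY f hf hqc y
        rw [← δ_le_iff hX hY f hf y n, hy] at hn
        have hn' : ((⊤ : ℕ∞) : WithBot ℕ∞) ≤ (((n : ℕ) : ℕ∞) : WithBot ℕ∞) := hn
        rw [WithBot.coe_le_coe] at hn'
        exact absurd hn' (by simp)
      rw [this]; exact isOpen_empty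
    | coe m =>
      cases m with
      | zero =>
        have : {y | δ f y = (((0 : ℕ) : ℕ∞) : WithBot ℕ∞)} =
            {y | Bdd f 0 y} ∩ Set.range (Points.map f) := by
          ext y
          simp only [Set.mem_ofPred_eq, Set.mem_inter_iff]
          rw [← δ_le_iff hX hY f hf y 0]
          constructor
          · intro hy
            refine ⟨hy.le, ?_⟩
            by_contra hcon
            rw [← δ_eq_bot_iff hX hY f hf y, hy] at hcon
            exact absurd hcon WithBot.coe_ne_bot
          · rintro ⟨h1, h2⟩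
            refine le_antisymm h1 ?_
            have h3 : δ f y ≠ ⊥ := fun hb => ((δ_eq_bot_iff hX hY f hf y).1 hb) h2
            by_contra hcon
            exact h3 ((lt_zero_iff_eq_bot _).1 (not_le.1 hcon))
        rw [this]
        refine (isOpen_bdd hX hY f hf hcl 0).inter ?_
        rw [← Set.image_univ]
        exact AlgSpBasic.isOpenMap_points_of_flat_lfp hX hY f hfl hfp _ isOpen_univ
      | succ m =>
        have : {y | δ f y = (((m + 1 : ℕ) : ℕ∞) : WithBot ℕ∞)} =
            {y | Bdd f (m + 1) y} ∩ {y | ¬ Bdd f m y} := by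
          ext y
          simp only [Set.mem_ofPred_eq, Set.mem_inter_iff]
          rw [← δ_le_iff hX hY f hf y (m + 1), ← δ_le_iff hX hY f hf y m]
          constructor
          · intro hy
            refine ⟨hy.le, ?_⟩
            rw [← lt_succ_iff_le, hy]
            exact lt_irrefl _
          · rintro ⟨h1, h2⟩
            refine le_antisymm h1 ?_
            by_contra hcon
            exact h2 ((lt_succ_iff_le _ m).1 (not_le.1 hcon))
        rw [this]
        exact (isOpen_bdd hX hY f hf hcl (m + 1)).inter (isOpen_not_bdd hX hY f hf hfl hfp m)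

end Groth.Agent.Helper2.FibreDimSemicont
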