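import Mathlib
import Groth.Prelude.Def_AlgSp4
import Groth.Prelude.Def_AlgSpDec
import Groth.Agent.Lib.Helper2.AlgSp.NoethDescent
import Groth.Agent.Lib.Helper2.AlgSp.ChartIndep
import Groth.Agent.Lib.Helper2.Sch.DimFormula
import Groth.Agent.Lib.Helper2.AlgSp.Points

/-!
# No specializations in fibres of etale charts of locally Noetherian spaces (helper2)
-/

set_option autoImplicit false
set_option backward.isDefEq.respectTransparency false

open CategoryTheory CategoryTheory.Limits AlgebraicGeometry Opposite AlgSp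

namespace Groth.Agent.Helper2.FibreSpecNoeth
universe u
variable {S : Scheme.{u}}

/-- `S10342`. -/
theorem eq_of_specializes_of_locNoeth {X : Sp S} (hX : IsAlgSpace X) (hN : IsLocNoethSp X)
    {U : Over S} (a : (yon S).obj U ⟶ X) (ha : RepWith @Etale a) (u u' : ↥U.left)
    (he : Points.ofPt a u = Points.ofPt a u') (hs : u' ⤳ u) : u = u' := by
  haveI : IsLocallyNoetherian U.left :=
    AlgSpBasic.isLocallyNoetherian_of_etale_of_isLocNoethSp hN a ha
  obtain ⟨R, t, s, hR⟩ := AlgSpBasic.exists_isPullback_yon hX.diag a a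
  haveI : Etale s.left := ha.property a ((yon S).map t) s hR
  haveI : Etale t.left := ha.property a ((yon S).map s) t hR.flip
  obtain ⟨r, hr1, hr2⟩ := AlgSpBasic.exists_point_of_isPullback_yon a a t s hR u u' he
  have h1 := ChartIndep.ringKrullDim_stalk_eq_of_etale t.left r
  have h2 := ChartIndep.ringKrullDim_stalk_eq_of_etale s.left r
  rw [hr1] at h1
  rw [hr2] at h2
  have h3 : ringKrullDim ↥(U.left.presheaf.stalk u) = ringKrullDim ↥(U.left.presheaf.stalk u') :=
    h1.symm.trans h2
  have hfin : ringKrullDim ↥(U.left.presheaf.stalk u') < ⊤ := ringKrullDim_lt_top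
  rw [DimFormula.ringKrullDim_stalk_eq_coheight] at hfin
  rw [DimFormula.ringKrullDim_stalk_eq_coheight, DimFormula.ringKrullDim_stalk_eq_coheight] at h3
  have h4 : Order.coheight u = Order.coheight u' := WithBot.coe_injective h3
  have hfin' : Order.coheight u' < ⊤ := by
    rw [← WithBot.coe_top] at hfin
    exact WithBot.coe_lt_coe.mp hfin
  by_contra hne
  have hle : u ≤ u' := hs
  have hlt : u < u' := by
    rw [lt_iff_le_not_ge]
    refine ⟨hle, fun h' => hne ?_⟩
    have h'' : u ⤳ u' := h'
    exact (h''.antisymm hs).eq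
  have h5 := Order.coheight_strictAnti hlt hfin'
  rw [h4] at h5
  exact lt_irrefl _ h5

end Groth.Agent.Helper2.FibreSpecNoeth
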