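import Mathlib
import Groth.Prelude.Def_AlgSp4
import Groth.Prelude.Def_AlgSpDec
import Groth.Prelude.Def_FDesc
import Groth.Agent.Lib.Helper2.Sch.GeomReducedEtale
import Groth.Agent.Lib.Helper2.AlgSp.Basic
import Groth.Agent.Lib.Helper2.AlgSp.Points

/-!
# Geometric reducedness of an algebraic space over a field at a point does not depend on the chart
-/

set_option autoImplicit false
set_option backward.isDefEq.respectTransparency false

open CategoryTheory CategoryTheory.Limits AlgebraicGeometry Opposite AlgSp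

namespace Groth.Agent.Helper2.GeomReduced
universe u

variable {k : Type u} [Field k]

local notation "Sk" => Spec (CommRingCat.of k)

/-- Along an etale morphism of schemes over `k`, geometric reducedness at a point is unchanged. -/
theorem iff_of_etale_over {W U : Over (Spec (CommRingCat.of k))} (g : W ⟶ U) (hg : Etale g.left)
    (w : ↥W.left) : FBase.IsGeomReducedAt W.hom w ↔ FBase.IsGeomReducedAt U.hom (g.left w) := by
  have h := GeomReducedEtale.isGeomReducedAt_iff_of_etale U.hom g.left w
  have hw : g.left ≫ U.hom = W.hom := Over.w g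
  rw [hw] at h
  exact h

/-- Geometric reducedness at a point of an algebraic space can be tested on any etale chart. -/
theorem chart_indep {X : Sp (Spec (CommRingCat.of k))} {U V : Over (Spec (CommRingCat.of k))}
    (a : (yon _).obj U ⟶ X) (b : (yon _).obj V ⟶ X) (ha : RepWith @Etale a)
    (hb : RepWith @Etale b) (u : ↥U.left) (v : ↥V.left) (e : Points.ofPt a u = Points.ofPt b v) :
    FBase.IsGeomReducedAt U.hom u ↔ FBase.IsGeomReducedAt V.hom v := by
  have hrep := hb.rep
  let pV := hrep.fst' a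
  let pU := hrep.snd a
  have sq : IsPullback ((yon _).map pV) ((yon _).map pU) b a := hrep.isPullback' a
  have hpU : Etale pU.left := hb.property_snd a
  have hpV : Etale pV.left := by
    have h1 : RepWith @Etale ((yon _).map pV) :=
      (repWith_isStableUnderBaseChange (S := Spec (CommRingCat.of k)) @Etale).of_isPullback
        sq.flip ha
    exact (repWith_yon_map_iff @Etale pV).1 h1
  obtain ⟨w, hw1, hw2⟩ := AlgSpBasic.exists_point_of_isPullback_yon b a pV pU sq v u e.symm
  have h1 := iff_of_etale_over pU hpU w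
  have h2 := iff_of_etale_over pV hpV w
  rw [hw2] at h1
  rw [hw1] at h2
  exact h1.symm.trans h2


/-- S10473. -/
theorem some_iff_all {X : Sp (Spec (CommRingCat.of k))} (hX : IsAlgSpace X) (x : Points X) :
    (∃ (U : Over (Spec (CommRingCat.of k))) (a : (yon _).obj U ⟶ X) (u : ↥U.left),
      RepWith @Etale a ∧ Points.ofPt a u = x ∧ FBase.IsGeomReducedAt U.hom u) ↔
      ∀ (U : Over (Spec (CommRingCat.of k))) (a : (yon _).obj U ⟶ X) (u : ↥U.left),
        RepWith @Etale a → Points.ofPt a u = x → FBase.IsGeomReducedAt U.hom u := by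
  constructor
  · rintro ⟨U, a, u, ha, hu, hred⟩ V b v hb hv
    exact (chart_indep a b ha hb u v (hu.trans hv.symm)).mp hred
  · intro H
    obtain ⟨U, a, hae, has⟩ := hX.atlas
    obtain ⟨u, hu⟩ := AlgSpBasic.surjective_ofPt a has x
    exact ⟨U, a, u, hae, hu, H U a u hae hu⟩

/-- S10474. -/
theorem of_surjective_chart {X : Sp (Spec (CommRingCat.of k))}
    {U : Over (Spec (CommRingCat.of k))} (a : (yon _).obj U ⟶ X) (ha : RepWith @Etale a)
    (hs : RepWith @Surjective a) (hU : ∀ u : ↥U.left, FBase.IsGeomReducedAt U.hom u)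
    {V : Over (Spec (CommRingCat.of k))} (b : (yon _).obj V ⟶ X) (hb : RepWith @Etale b)
    (v : ↥V.left) : FBase.IsGeomReducedAt V.hom v := by
  obtain ⟨u, hu⟩ := AlgSpBasic.surjective_ofPt a hs (Points.ofPt b v)
  exact (chart_indep a b ha hb u v hu).mp (hU u)

/-- S10480. -/
theorem iff_of_etale_surjective {X Y : Sp (Spec (CommRingCat.of k))} (hX : IsAlgSpace X)
    (f : X ⟶ Y) (he : IsEtaleMor f) (hs : IsSurjectiveMor f) :
    (∀ x : Points X, (∃ (U : Over (Spec (CommRingCat.of k))) (a : (yon _).obj U ⟶ X) (u : ↥U.left),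
      RepWith @Etale a ∧ Points.ofPt a u = x ∧ FBase.IsGeomReducedAt U.hom u)) ↔
      ∀ y : Points Y, (∃ (U : Over (Spec (CommRingCat.of k))) (a : (yon _).obj U ⟶ Y) (u : ↥U.left),
      RepWith @Etale a ∧ Points.ofPt a u = y ∧ FBase.IsGeomReducedAt U.hom u) := by
  constructor
  · intro H y
    obtain ⟨x, rfl⟩ := hs y
    obtain ⟨U, a, u, ha, hu, hred⟩ := H x
    refine ⟨U, a ≫ f, u, he a ha, ?_, hred⟩
    rw [← hu]
    rfl
  · intro H x
    obtain ⟨V, b, v, hb, hv, hred⟩ := H (Points.map f x)
    obtain ⟨U, a, hae, has⟩ := hX.atlas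
    obtain ⟨u, hu⟩ := AlgSpBasic.surjective_ofPt a has x
    refine ⟨U, a, u, hae, hu, ?_⟩
    have e : Points.ofPt b v = Points.ofPt (a ≫ f) u := by
      rw [hv, ← hu]
      rfl
    exact (chart_indep b (a ≫ f) hb (he a hae) v u e).mp hred

/-- S10481. -/
theorem iff_of_etaleAt {X Y : Sp (Spec (CommRingCat.of k))} (f : X ⟶ Y) (x : Points X)
    (he : HasAtMor (fun U _ h u => ∃ W : U.Opens, u ∈ W ∧ Etale (W.ι ≫ h)) f x) :
    (∃ (U : Over (Spec (CommRingCat.of k))) (a : (yon _).obj U ⟶ X) (u : ↥U.left),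
      RepWith @Etale a ∧ Points.ofPt a u = x ∧ FBase.IsGeomReducedAt U.hom u) ↔
    (∃ (U : Over (Spec (CommRingCat.of k))) (a : (yon _).obj U ⟶ Y) (u : ↥U.left),
      RepWith @Etale a ∧ Points.ofPt a u = Points.map f x ∧ FBase.IsGeomReducedAt U.hom u) := by
  obtain ⟨U, V, a, b, h, u, ha, hb, hcomm, hu, W, huW, hW⟩ := he
  have hfx : Points.ofPt b (h.left u) = Points.map f x := by
    rw [← hu]
    show _ = Points.ofPt (a ≫ f) u
    rw [hcomm]
    exact (AlgSpBasic.ofPt_yon_map_comp h b u).symm
  -- the key equivalence between the two given charts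
  have key : FBase.IsGeomReducedAt U.hom u ↔ FBase.IsGeomReducedAt V.hom (h.left u) := by
    let WO : Over (Spec (CommRingCat.of k)) := Over.mk (W.ι ≫ U.hom)
    let i : WO ⟶ U := Over.homMk W.ι rfl
    let j : WO ⟶ V := Over.homMk (W.ι ≫ h.left) (by
      show (W.ι ≫ h.left) ≫ V.hom = W.ι ≫ U.hom
      rw [Category.assoc, Over.w h])
    have h1 := iff_of_etale_over i (inferInstanceAs (Etale W.ι)) ⟨u, huW⟩
    have h2 := iff_of_etale_over j hW ⟨u, huW⟩
    exact h1.symm.trans h2
  constructor
  · rintro ⟨U', a', u', ha', hu', hred⟩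
    refine ⟨V, b, h.left u, hb, hfx, key.mp ?_⟩
    exact (chart_indep a' a ha' ha u' u (hu'.trans hu.symm)).mp hred
  · rintro ⟨V', b', v', hb', hv', hred⟩
    refine ⟨U, a, u, ha, hu, key.mpr ?_⟩
    exact (chart_indep b' b hb' hb v' (h.left u) (hv'.trans hfx.symm)).mp hred

end Groth.Agent.Helper2.GeomReduced
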