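import Mathlib
import Groth.Prelude.Def_AlgSp4
import Groth.Prelude.Def_AlgSpDec
import Groth.Prelude.Def_FDesc
import Groth.Agent.S1545
import Groth.Agent.Lib.Helper2.AlgSp.GeomReduced
import Groth.Agent.Lib.Helper2.AlgSp.Coprod
import Groth.Agent.Lib.Helper2.AlgSp.Reduced

/-!
# Base change of an algebraic space over a field to an extension field: charts
-/

set_option autoImplicit false
set_option backward.isDefEq.respectTransparency false

open CategoryTheory CategoryTheory.Limits AlgebraicGeometry Opposite AlgSp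

namespace Groth.Agent.Helper2.FieldBC
open Groth.Agent.Helper2.AlgSpBasic
universe u

variable {k : Type u} [Field k] (K : Type u) [Field K] [Algebra k K]

/-- `Spec K` over `Spec k`. -/
noncomputable abbrev SK : Over (Spec (CommRingCat.of k)) :=
  Over.mk (Spec.map (CommRingCat.ofHom (algebraMap k K)))

/-- The base change `U_K` as an object over `Spec k`. -/
noncomputable abbrev UK (U : Over (Spec (CommRingCat.of k))) : Over (Spec (CommRingCat.of k)) :=
  Over.mk (FBase.bcπ U.hom K ≫ U.hom)

/-- The projection `U_K ⟶ U`. -/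
noncomputable abbrev πU (U : Over (Spec (CommRingCat.of k))) : UK K U ⟶ U :=
  Over.homMk (FBase.bcπ U.hom K) rfl

/-- The structure morphism `U_K ⟶ Spec K`. -/
noncomputable abbrev qU (U : Over (Spec (CommRingCat.of k))) : UK K U ⟶ SK (k := k) K :=
  Over.homMk (FBase.bcStr U.hom K) (pullback.condition (f := U.hom)
    (g := Spec.map (CommRingCat.ofHom (algebraMap k K)))).symm

theorem sqK (U : Over (Spec (CommRingCat.of k))) :
    IsPullback ((yon _).map (πU K U)) ((yon _).map (qU K U))
      ((yon _).map (Over.homMk U.hom : U ⟶ Over.mk (𝟙 (Spec (CommRingCat.of k)))))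
      ((yon _).map (Over.homMk (SK (k := k) K).hom :
        SK (k := k) K ⟶ Over.mk (𝟙 (Spec (CommRingCat.of k))))) := by
  apply yon_isPullback_of_left
  exact IsPullback.of_hasPullback U.hom (Spec.map (CommRingCat.ofHom (algebraMap k K)))

variable {X : Sp (Spec (CommRingCat.of k))}

/-- The chart of `X_K` induced by a chart of `X`. -/
noncomputable def chartK {U : Over (Spec (CommRingCat.of k))} (a : (yon _).obj U ⟶ X) :
    (yon _).obj (UK K U) ⟶ X ⨯ (yon _).obj (SK (k := k) K) :=
  prod.lift ((yon _).map (πU K U) ≫ a) ((yon _).map (qU K U))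

@[simp, reassoc]
theorem chartK_fst {U : Over (Spec (CommRingCat.of k))} (a : (yon _).obj U ⟶ X) :
    chartK K a ≫ prod.fst = (yon _).map (πU K U) ≫ a := prod.lift_fst _ _

@[simp, reassoc]
theorem chartK_snd {U : Over (Spec (CommRingCat.of k))} (a : (yon _).obj U ⟶ X) :
    chartK K a ≫ prod.snd = (yon _).map (qU K U) := prod.lift_snd _ _

theorem isPullback_chartK {U : Over (Spec (CommRingCat.of k))} (a : (yon _).obj U ⟶ X) :
    IsPullback (chartK K a) ((yon _).map (πU K U)) prod.fst a := by
  have hT := Coprod.isTerminalYonId (Spec (CommRingCat.of k))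
  have sq := sqK K U
  refine isPullback_of_existsUnique (chartK_fst K a) ?_ ?_
  · intro A α β h
    refine ⟨sq.lift β (α ≫ prod.snd) (hT.hom_ext _ _), ?_, sq.lift_fst _ _ _⟩
    apply Limits.prod.hom_ext
    · rw [Category.assoc, chartK_fst, ← Category.assoc, sq.lift_fst, h]
    · rw [Category.assoc, chartK_snd, sq.lift_snd]
  · intro A l l' h1 h2
    apply sq.hom_ext h2
    have := congrArg (· ≫ prod.snd) h1
    simpa only [Category.assoc, chartK_snd] using this

theorem repWith_chartK (P : MorphismProperty Scheme.{u}) {U : Over (Spec (CommRingCat.of k))}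
    (a : (yon _).obj U ⟶ X) (ha : RepWith P a) : RepWith P (chartK K a) :=
  repWith_of_isPullback P (isPullback_chartK K a).flip ha

/-- Points of the chart `U_K` over a point of `U` and a point of `X_K`. -/
theorem exists_point_chartK {U : Over (Spec (CommRingCat.of k))} (a : (yon _).obj U ⟶ X)
    (u : ↥U.left) (x' : Points (X ⨯ (yon _).obj (SK (k := k) K)))
    (h : Points.map prod.fst x' = Points.ofPt a u) :
    ∃ u' : ↥(UK K U).left, (FBase.bcπ U.hom K) u' = u ∧ Points.ofPt (chartK K a) u' = x' := by
  rw [Points.ofPt_eq_map_ofScheme] at h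
  obtain ⟨p, hp1, hp2⟩ := points_exists_of_isPullback a prod.fst (chartK K a)
    ((yon _).map (πU K U)) (isPullback_chartK K a) x' (Points.ofScheme U u) h
  obtain ⟨u', rfl⟩ := (Points.schemeHomeo (UK K U)).surjective p
  refine ⟨u', ?_, ?_⟩
  · have := Points.map_yon_map_apply (πU K U) u'
    rw [hp2] at this
    exact ((Points.schemeHomeo U).injective this).symm
  · rw [Points.ofPt_eq_map_ofScheme]
    exact hp1


theorem surjective_bcπ (U : Over (Spec (CommRingCat.of k))) :
    Function.Surjective (FBase.bcπ U.hom K) := by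
  have : Surjective (Spec.map (CommRingCat.ofHom (algebraMap k K))) := by
    constructor
    intro x
    refine ⟨IsLocalRing.closedPoint K, Subsingleton.elim (α := ↥(Spec (CommRingCat.of k))) _ _⟩
  have : Surjective (FBase.bcπ U.hom K) :=
    MorphismProperty.pullback_fst (P := @Surjective) _ _ inferInstance
  exact (FBase.bcπ U.hom K).surjective

/-- Over every point of `X` there is a point of `X_K`. -/
theorem exists_point_over {U : Over (Spec (CommRingCat.of k))} (a : (yon _).obj U ⟶ X)
    (u : ↥U.left) :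
    ∃ u' : ↥(UK K U).left, (FBase.bcπ U.hom K) u' = u ∧
      Points.map prod.fst (Points.ofPt (chartK K a) u') = Points.ofPt a u := by
  obtain ⟨u', hu'⟩ := surjective_bcπ K U u
  refine ⟨u', hu', ?_⟩
  rw [Points.map_ofPt, chartK_fst, ofPt_yon_map_comp]
  show Points.ofPt a ((FBase.bcπ U.hom K) u') = _
  rw [hu']

/-- Geometric reducedness over `K` at a point of a sheaf over `h_{Spec K}` does not depend on the
etale chart. -/
theorem chart_indepK {X' : Sp (Spec (CommRingCat.of k))}
    (π : X' ⟶ (yon _).obj (SK (k := k) K)) {U V : Over (Spec (CommRingCat.of k))}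
    (a : (yon _).obj U ⟶ X') (b : (yon _).obj V ⟶ X') (qa : U ⟶ SK (k := k) K)
    (qb : V ⟶ SK (k := k) K) (ha : RepWith @Etale a) (hb : RepWith @Etale b)
    (hqa : a ≫ π = (yon _).map qa) (hqb : b ≫ π = (yon _).map qb)
    (u : ↥U.left) (v : ↥V.left) (e : Points.ofPt a u = Points.ofPt b v) :
    FBase.IsGeomReducedAt qa.left u ↔ FBase.IsGeomReducedAt qb.left v := by
  have hrep := hb.rep
  let pV := hrep.fst' a
  let pU := hrep.snd a
  have sq : IsPullback ((yon _).map pV) ((yon _).map pU) b a := hrep.isPullback' a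
  have hpU : Etale pU.left := hb.property_snd a
  have hpV : Etale pV.left := by
    have h1 : RepWith @Etale ((yon _).map pV) :=
      (repWith_isStableUnderBaseChange (S := Spec (CommRingCat.of k)) @Etale).of_isPullback
        sq.flip ha
    exact (repWith_yon_map_iff @Etale pV).1 h1
  obtain ⟨w, hw1, hw2⟩ := AlgSpBasic.exists_point_of_isPullback_yon b a pV pU sq v u e.symm
  have hcomm : pV ≫ qb = pU ≫ qa := by
    apply (yon _).map_injective
    rw [Functor.map_comp, Functor.map_comp, ← hqb, ← hqa, ← Category.assoc, ← Category.assoc, sq.w]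
  have hcomm' : pV.left ≫ qb.left = pU.left ≫ qa.left := by
    have := congrArg (fun φ => φ.left) hcomm
    simpa using this
  have h1 := GeomReducedEtale.isGeomReducedAt_iff_of_etale qa.left pU.left w
  have h2 := GeomReducedEtale.isGeomReducedAt_iff_of_etale qb.left pV.left w
  rw [hw2] at h1
  rw [hw1, hcomm'] at h2
  exact h1.symm.trans h2

/-- S10479. -/
theorem geomReducedAt_iff_bc (hX : IsAlgSpace X) (x : Points X)
    (x' : Points (X ⨯ (yon _).obj (SK (k := k) K)))
    (hx' : Points.map (prod.fst : X ⨯ (yon _).obj (SK (k := k) K) ⟶ X) x' = x) :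
    (∃ (U : Over (Spec (CommRingCat.of k))) (a : (yon _).obj U ⟶ X) (u : ↥U.left),
      RepWith @Etale a ∧ Points.ofPt a u = x ∧ FBase.IsGeomReducedAt U.hom u) ↔
      ∃ (U' : Over (Spec (CommRingCat.of k)))
        (a' : (yon _).obj U' ⟶ X ⨯ (yon _).obj (SK (k := k) K))
        (q : U' ⟶ SK (k := k) K) (u' : ↥U'.left),
        RepWith @Etale a' ∧ a' ≫ prod.snd = (yon _).map q ∧
          Points.ofPt a' u' = x' ∧ FBase.IsGeomReducedAt q.left u' := by
  constructor
  · rintro ⟨U, a, u, ha, hu, hred⟩
    obtain ⟨u', hu'1, hu'2⟩ := exists_point_chartK K a u x' (by rw [hx', hu])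
    refine ⟨UK K U, chartK K a, qU K U, u', repWith_chartK K @Etale a ha, chartK_snd K a, hu'2, ?_⟩
    let _ : U.left.Over (Spec (CommRingCat.of k)) := ⟨U.hom⟩
    exact (Groth.Agent.S1545.main k U.left K u u' hu'1).mp hred
  · rintro ⟨U', a', q, u', ha', hq, hu', hred⟩
    obtain ⟨U, a, hae, has⟩ := hX.atlas
    obtain ⟨u, hu⟩ := surjective_ofPt a has x
    obtain ⟨u₁, hu₁1, hu₁2⟩ := exists_point_chartK K a u x' (by rw [hx', hu])
    refine ⟨U, a, u, hae, hu, ?_⟩
    have h1 := chart_indepK K prod.snd (chartK K a) a' (qU K U) q (repWith_chartK K @Etale a hae) ha'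
      (chartK_snd K a) hq u₁ u' (hu₁2.trans hu'.symm)
    let _ : U.left.Over (Spec (CommRingCat.of k)) := ⟨U.hom⟩
    exact (Groth.Agent.S1545.main k U.left K u u₁ hu₁1).mpr (h1.mpr hred)

/-- S10502. -/
theorem geomReduced_iff_bc (hX : IsAlgSpace X) :
    (∀ x : Points X, ∃ (U : Over (Spec (CommRingCat.of k))) (a : (yon _).obj U ⟶ X)
      (u : ↥U.left), RepWith @Etale a ∧ Points.ofPt a u = x ∧ FBase.IsGeomReducedAt U.hom u) ↔
      ∀ x' : Points (X ⨯ (yon _).obj (SK (k := k) K)),
        ∃ (U' : Over (Spec (CommRingCat.of k)))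
        (a' : (yon _).obj U' ⟶ X ⨯ (yon _).obj (SK (k := k) K))
        (q : U' ⟶ SK (k := k) K) (u' : ↥U'.left),
        RepWith @Etale a' ∧ a' ≫ prod.snd = (yon _).map q ∧
          Points.ofPt a' u' = x' ∧ FBase.IsGeomReducedAt q.left u' := by
  constructor
  · intro H x'
    exact (geomReducedAt_iff_bc K hX _ x' rfl).mp (H _)
  · intro H x
    obtain ⟨U, a, hae, has⟩ := hX.atlas
    obtain ⟨u, hu⟩ := surjective_ofPt a has x
    obtain ⟨u', -, hu'2⟩ := exists_point_over K a u
    exact (geomReducedAt_iff_bc K hX x _ (hu'2.trans hu)).mpr (H _)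

/-- If `X` is geometrically reduced at all points then `X_K` is reduced. -/
theorem isReducedSp_bc_of_geomReduced (hX : IsAlgSpace X)
    (H : ∀ x : Points X, ∃ (U : Over (Spec (CommRingCat.of k))) (a : (yon _).obj U ⟶ X)
      (u : ↥U.left), RepWith @Etale a ∧ Points.ofPt a u = x ∧ FBase.IsGeomReducedAt U.hom u) :
    EtaleLocally (fun U => IsReduced U) (X ⨯ (yon _).obj (SK (k := k) K)) := by
  obtain ⟨U, a, hae, has⟩ := hX.atlas
  refine ⟨UK K U, chartK K a, repWith_chartK K @Etale a hae, repWith_chartK K @Surjective a has, ?_⟩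
  have hst : ∀ u' : ↥(UK K U).left, _root_.IsReduced ((UK K U).left.presheaf.stalk u') := by
    intro u'
    have h1 := (GeomReduced.some_iff_all hX (Points.ofPt a ((FBase.bcπ U.hom K) u'))).mp (H _)
      U a _ hae rfl
    exact h1 K u' rfl
  exact isReduced_of_isReduced_stalk _

/-- If `U_K` has reduced stalks at all points over `u` for every `K`, ... : chart form of the
converse. -/
theorem geomReducedAt_of_forall_isReducedSp_bc {U : Over (Spec (CommRingCat.of k))}
    (a : (yon _).obj U ⟶ X) (hae : RepWith @Etale a) (u : ↥U.left)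
    (H : ∀ (K : Type u) [Field K] [Algebra k K],
      EtaleLocally (fun U => IsReduced U) (X ⨯ (yon _).obj (SK (k := k) K))) :
    FBase.IsGeomReducedAt U.hom u := by
  intro K' _ _ u' _
  have : IsReduced (UK K' U).left :=
    isReduced_of_etale_of_isReducedSp (H K') (chartK K' a) (repWith_chartK K' @Etale a hae)
  exact (inferInstance : _root_.IsReduced ((UK K' U).left.presheaf.stalk u'))

end Groth.Agent.Helper2.FieldBC
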