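import Mathlib
import Groth.Prelude.Def_AlgSp4
import Groth.Agent.S4619
import Groth.Agent.Lib.Helper2.AlgSp.FieldBC
import Groth.Agent.Lib.Helper2.AlgSp.PointsMor
import Groth.Agent.Lib.Helper2.AlgSp.UnivTop
import Groth.Agent.Lib.Helper2.AlgSp.Mor

/-!
# Connectedness of base changes of algebraic spaces over fields (helper2)
-/

set_option autoImplicit false
set_option backward.isDefEq.respectTransparency false

open CategoryTheory CategoryTheory.Limits AlgebraicGeometry Opposite AlgSp Topology

namespace Groth.Agent.Helper2.FieldConn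
open Groth.Agent.Helper2.AlgSpBasic
universe u

section Cat

variable {C : Type*} [Category C]

/-- The projection from a product is the base change of the projection. -/
theorem isPullback_prod_map_snd (X : C) {A B : C} (γ : A ⟶ B) [HasBinaryProduct X A]
    [HasBinaryProduct X B] :
    IsPullback (prod.map (𝟙 X) γ) (prod.snd : X ⨯ A ⟶ A) (prod.snd : X ⨯ B ⟶ B) γ := by
  refine isPullback_of_existsUnique (prod.map_snd _ _) ?_ ?_
  · intro T α β h
    refine ⟨prod.lift (α ≫ prod.fst) β, ?_, prod.lift_snd _ _⟩
    apply Limits.prod.hom_ext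
    · rw [Category.assoc, prod.map_fst, Category.comp_id, prod.lift_fst]
    · rw [Category.assoc, prod.map_snd, ← Category.assoc, prod.lift_snd, h]
  · intro T l l' h1 h2
    apply Limits.prod.hom_ext
    · have := congrArg (· ≫ prod.fst) h1
      simpa only [Category.assoc, prod.map_fst, Category.comp_id] using this
    · exact h2

end Cat

section General

variable {S : Scheme.{u}}

/-- Every point of a sheaf comes from a morphism from the spectrum of a field. -/
theorem exists_field_ofPt_eq {X : Sp S} (x : Points X) :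
    ∃ (L : Type u) (_ : Field L) (str : Spec (CommRingCat.of L) ⟶ S)
      (g : (yon S).obj (Over.mk str) ⟶ X), Points.ofPt g (IsLocalRing.closedPoint L) = x := by
  induction x using Points.ind with | h q => ?_
  let g : (yon S).obj q.pt ⟶ X := (J S).uliftYonedaEquiv.symm q.val
  refine ⟨q.K, inferInstance, q.str, g, ?_⟩
  have this : Points.ofScheme q.pt (IsLocalRing.closedPoint q.K) = _ :=
    Points.ofScheme_apply_eq_mk q.pt (𝟙 _) (Category.id_comp _)
  rw [Points.ofPt_eq_map_ofScheme]
  rw [this, Points.map_mk, Points.mk_eq_mk_iff]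
  refine ⟨q.K, inferInstance, q.str, 𝟙 _, 𝟙 _, ?_⟩
  congr 1
  have h3 : g.hom.app (op q.pt) ⟨𝟙 q.pt⟩ = X.obj.map (𝟙 q.pt).op q.val :=
    GrothendieckTopology.uliftYonedaEquiv_symm_app_apply _ _ _ _
  rw [op_id, X.obj.map_id] at h3
  exact h3

/-- The fibre of the map on points over a point coming from a one-point scheme is the image of
the points of the fibre product. -/
theorem preimage_singleton_eq_range {P Z Q : Sp S} (f : P ⟶ Z) {T : Over S}
    [Subsingleton ↥T.left] (γ : (yon S).obj T ⟶ Z) (t : ↥T.left) (l : Q ⟶ P)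
    (r : Q ⟶ (yon S).obj T) (sq : IsPullback l r f γ) :
    Points.map f ⁻¹' {Points.ofPt γ t} = Set.range (Points.map l) := by
  ext p
  simp only [Set.mem_preimage, Set.mem_singleton_iff, Set.mem_range]
  constructor
  · intro hp
    rw [Points.ofPt_eq_map_ofScheme] at hp
    obtain ⟨q, hq1, -⟩ := points_exists_of_isPullback γ f l r sq p (Points.ofScheme T t) hp
    exact ⟨q, hq1⟩
  · rintro ⟨q, rfl⟩
    rw [← Points.map_comp, sq.w, Points.map_comp, Points.ofPt_eq_map_ofScheme]
    congr 1
    obtain ⟨t', ht'⟩ := (Points.schemeHomeo T).surjective (Points.map r q)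
    rw [← ht', Subsingleton.elim t' t]
    rfl

theorem isConnected_preimage_singleton {P Z Q : Sp S} (f : P ⟶ Z) {T : Over S}
    [Subsingleton ↥T.left] (γ : (yon S).obj T ⟶ Z) (t : ↥T.left) (l : Q ⟶ P)
    (r : Q ⟶ (yon S).obj T) (sq : IsPullback l r f γ) [ConnectedSpace (Points Q)] :
    IsConnected (Points.map f ⁻¹' {Points.ofPt γ t}) := by
  rw [preimage_singleton_eq_range f γ t l r sq]
  exact isConnected_range (Points.continuous_map l)

/-- A morphism whose map on points is open, with connected fibres. -/
theorem isCoinducing_of_isOpenMap_of_fibres {P Z : Sp S} (f : P ⟶ Z)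
    (ho : IsOpenMap (Points.map f)) (hc : ∀ z, IsConnected (Points.map f ⁻¹' {z})) :
    IsCoinducing (Points.map f) :=
  (ho.isQuotientMap (Points.continuous_map f) (fun z => (hc z).nonempty)).isCoinducing

theorem connectedSpace_of_isOpenMap_of_fibres {P Z : Sp S} (f : P ⟶ Z)
    (ho : IsOpenMap (Points.map f)) (hc : ∀ z, IsConnected (Points.map f ⁻¹' {z}))
    [ConnectedSpace (Points Z)] : ConnectedSpace (Points P) := by
  have := (isCoinducing_of_isOpenMap_of_fibres f ho hc).isConnected_preimage_of_isClosed hc
    isClosed_univ isConnected_univ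
  rw [Set.preimage_univ] at this
  exact connectedSpace_iff_univ.mpr this

theorem bijective_connectedComponentsMap {P Z : Sp S} (f : P ⟶ Z)
    (ho : IsOpenMap (Points.map f)) (hc : ∀ z, IsConnected (Points.map f ⁻¹' {z})) :
    Function.Bijective (Continuous.connectedComponentsMap (Points.continuous_map f)) :=
  (isCoinducing_of_isOpenMap_of_fibres f ho hc).connectedComponentsMap_bijective hc

end General

section SepClosed

/-- A connected scheme over a separably closed field is geometrically connected. -/
theorem geometricallyConnected_of_isSepClosed {F : Type u} [Field F] [IsSepClosed F]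
    {Y : Scheme.{u}} [ConnectedSpace Y] (f : Y ⟶ Spec (CommRingCat.of F)) :
    GeometricallyConnected f := by
  obtain ⟨y⟩ : Nonempty Y := inferInstance
  refine Groth.Agent.S4619.result f y ?_
  refine ⟨(Spec.preimage (Y.fromSpecResidueField y ≫ f)).hom, ?_, ?_⟩
  · rw [CommRingCat.ofHom_hom, Spec.map_preimage]
  · letI := (Spec.preimage (Y.fromSpecResidueField y ≫ f)).hom.toAlgebra
    exact IntermediateField.eq_bot_of_isSepClosed_of_isSeparable _

end SepClosed

section Tower

variable {S : Scheme.{u}} {F K' : Type u} [Field F] [Field K']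
  {sF : Spec (CommRingCat.of F) ⟶ S} {sK : Spec (CommRingCat.of K') ⟶ S}
  (φ : Over.mk sK ⟶ Over.mk sF) {Z P : Sp S} (g : Z ⟶ (yon S).obj (Over.mk sF))
  (fst : P ⟶ Z) (snd : P ⟶ (yon S).obj (Over.mk sK))
  (sq : IsPullback fst snd g ((yon S).map φ))

include sq

/-- The base change of `Spec K' ⟶ Spec F` is open on points. -/
theorem isOpenMap_fst (hZ : IsAlgSpace Z) : IsOpenMap (Points.map fst) := by
  have h1 : UniversallyOpen φ.left := by
    have : IsIntegral (Over.mk sF).left := by
      change IsIntegral (Spec (CommRingCat.of F))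
      infer_instance
    have : Subsingleton ↥(Over.mk sF).left := by
      change Subsingleton ↥(Spec (CommRingCat.of F))
      infer_instance
    infer_instance
  have h2 : RepWith @UniversallyOpen ((yon S).map φ) := (repWith_yon_map_iff _ φ).mpr h1
  have h3 : IsUnivOpenMor ((yon S).map φ) :=
    (repWith_universallyOpen_iff _ h2.rep).mp h2
  exact h3 hZ g snd fst sq.flip

/-- The base change of `Spec K' ⟶ Spec F` has connected fibres when `F` is separably closed. -/
theorem isConnected_fibre_fst [IsSepClosed F] (z : Points Z) :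
    IsConnected (Points.map fst ⁻¹' {z}) := by
  obtain ⟨L, _, str, γ, rfl⟩ := exists_field_ofPt_eq z
  obtain ⟨ψ, hψ⟩ := (yon S).map_surjective (γ ≫ g)
  have : GeometricallyConnected ψ.left := by
    have : ConnectedSpace ↥(Over.mk str).left := by
      change ConnectedSpace ↥(Spec (CommRingCat.of L))
      infer_instance
    exact geometricallyConnected_of_isSepClosed
      (ψ.left : (Over.mk str).left ⟶ Spec (CommRingCat.of F))
  let W : Over S := Over.mk (pullback.fst ψ.left φ.left ≫ str)
  let π₁ : W ⟶ Over.mk str := Over.homMk (pullback.fst ψ.left φ.left) rfl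
  let π₂ : W ⟶ Over.mk sK := Over.homMk (pullback.snd ψ.left φ.left) (by
    have h1 := Over.w ψ
    have h2 := Over.w φ
    simp only [Over.mk_hom] at h1 h2
    show pullback.snd ψ.left φ.left ≫ sK = pullback.fst ψ.left φ.left ≫ str
    calc pullback.snd ψ.left φ.left ≫ sK
        = pullback.snd ψ.left φ.left ≫ (φ.left ≫ sF) := congrArg _ h2.symm
      _ = (pullback.fst ψ.left φ.left ≫ ψ.left) ≫ sF := by
          rw [← Category.assoc, ← pullback.condition]
      _ = pullback.fst ψ.left φ.left ≫ str := by
          rw [Category.assoc]; exact congrArg _ h1)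
  have sqW : IsPullback ((yon S).map π₁) ((yon S).map π₂) ((yon S).map ψ) ((yon S).map φ) :=
    yon_isPullback_of_left π₁ π₂ ψ φ (IsPullback.of_hasPullback ψ.left φ.left)
  have hl : ((yon S).map π₁ ≫ γ) ≫ g = (yon S).map π₂ ≫ (yon S).map φ := by
    rw [Category.assoc, ← hψ, sqW.w]
  have sqL : IsPullback (sq.lift _ _ hl) ((yon S).map π₁) fst γ := by
    refine IsPullback.of_right ?_ (sq.lift_fst _ _ hl) sq.flip
    rw [sq.lift_snd, ← hψ]
    exact sqW.flip
  have : ConnectedSpace ↥W.left :=
    GeometricallyConnected.geometrically_connectedSpace (f := ψ.left)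
      (φ.left : Spec (CommRingCat.of K') ⟶ Spec (CommRingCat.of F)) _ _
      (IsPullback.of_hasPullback ψ.left φ.left)
  have : ConnectedSpace (Points ((yon S).obj W)) :=
    (Points.schemeHomeo W).surjective.connectedSpace (Points.schemeHomeo W).continuous
  have : Subsingleton ↥(Over.mk str).left := by
    change Subsingleton ↥(Spec (CommRingCat.of L))
    infer_instance
  exact isConnected_preimage_singleton fst γ _ (sq.lift _ _ hl) ((yon S).map π₁) sqL

theorem connectedSpace_of_tower [IsSepClosed F] (hZ : IsAlgSpace Z) [ConnectedSpace (Points Z)] :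
    ConnectedSpace (Points P) :=
  connectedSpace_of_isOpenMap_of_fibres fst (isOpenMap_fst φ g fst snd sq hZ)
    (isConnected_fibre_fst φ g fst snd sq)

theorem bijective_connectedComponentsMap_of_tower [IsSepClosed F] (hZ : IsAlgSpace Z) :
    Function.Bijective (Continuous.connectedComponentsMap (Points.continuous_map fst)) :=
  bijective_connectedComponentsMap fst (isOpenMap_fst φ g fst snd sq hZ)
    (isConnected_fibre_fst φ g fst snd sq)

end Tower

section FieldMaps

variable {S : Scheme.{u}}

/-- A morphism between spectra of fields is surjective on points. -/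
theorem isSurjectiveMor_yon_map_field {F K' : Type u} [Field F] [Field K']
    {sF : Spec (CommRingCat.of F) ⟶ S} {sK : Spec (CommRingCat.of K') ⟶ S}
    (φ : Over.mk sK ⟶ Over.mk sF) : IsSurjectiveMor ((yon S).map φ) := by
  intro y
  obtain ⟨t, rfl⟩ := (Points.schemeHomeo (Over.mk sF)).surjective y
  refine ⟨Points.schemeHomeo (Over.mk sK) (IsLocalRing.closedPoint K'), ?_⟩
  rw [Points.map_yon_map_apply]
  congr 1
  exact Subsingleton.elim (α := ↥(Spec (CommRingCat.of F))) _ _

/-- Base change along a morphism of spectra of fields is surjective on points. -/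
theorem surjective_prod_map_field {F K' : Type u} [Field F] [Field K']
    {sF : Spec (CommRingCat.of F) ⟶ S} {sK : Spec (CommRingCat.of K') ⟶ S}
    (φ : Over.mk sK ⟶ Over.mk sF) (X : Sp S) :
    Function.Surjective (Points.map (prod.map (𝟙 X) ((yon S).map φ))) :=
  isSurjectiveMor_of_isPullback ((yon S).map φ) prod.snd prod.snd _
    (isPullback_prod_map_snd X ((yon S).map φ)).flip (isSurjectiveMor_yon_map_field φ)

theorem connectedSpace_of_prod_map_field {F K' : Type u} [Field F] [Field K']
    {sF : Spec (CommRingCat.of F) ⟶ S} {sK : Spec (CommRingCat.of K') ⟶ S}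
    (φ : Over.mk sK ⟶ Over.mk sF) (X : Sp S)
    [ConnectedSpace (Points (X ⨯ (yon S).obj (Over.mk sK)))] :
    ConnectedSpace (Points (X ⨯ (yon S).obj (Over.mk sF))) :=
  (surjective_prod_map_field φ X).connectedSpace (Points.continuous_map _)

end FieldMaps

section OverField

open Groth.Agent.Helper2.FieldBC

variable {k : Type u} [Field k]

/-- The morphism of spectra induced by a homomorphism of field extensions. -/
noncomputable def SKmap {K K' : Type u} [Field K] [Field K'] [Algebra k K] [Algebra k K']
    (ψ : K →ₐ[k] K') : SK (k := k) K' ⟶ SK (k := k) K :=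
  Over.homMk (Spec.map (CommRingCat.ofHom (ψ : K →+* K'))) (by
    show Spec.map (CommRingCat.ofHom (ψ : K →+* K')) ≫
      Spec.map (CommRingCat.ofHom (algebraMap k K)) = Spec.map (CommRingCat.ofHom (algebraMap k K'))
    rw [← Spec.map_comp, ← CommRingCat.ofHom_comp, AlgHom.comp_algebraMap])

/-- Two field extensions have a common extension. -/
theorem exists_compositum (K₁ K₂ : Type u) [Field K₁] [Field K₂] [Algebra k K₁] [Algebra k K₂] :
    ∃ (Ω : Type u) (_ : Field Ω) (_ : Algebra k Ω) (_ : Algebra K₁ Ω)
      (_ : IsScalarTower k K₁ Ω), Nonempty (K₂ →ₐ[k] Ω) := by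
  have : Nontrivial (TensorProduct k K₁ K₂) :=
    Algebra.TensorProduct.nontrivial_of_algebraMap_injective_of_isDomain k K₁ K₂
      (algebraMap k K₁).injective (algebraMap k K₂).injective
  obtain ⟨m, hm⟩ := Ideal.exists_maximal (TensorProduct k K₁ K₂)
  letI := Ideal.Quotient.field m
  exact ⟨TensorProduct k K₁ K₂ ⧸ m, inferInstance, inferInstance, inferInstance, inferInstance,
    ⟨(Ideal.Quotient.mkₐ k m).comp Algebra.TensorProduct.includeRight⟩⟩

variable {X : Sp (Spec (CommRingCat.of k))}

/-- If `X_{K'}` is connected and `K ⊆ K'`, then `X_K` is connected. -/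
theorem connectedSpace_bc_of_algHom {K K' : Type u} [Field K] [Field K'] [Algebra k K]
    [Algebra k K'] (ψ : K →ₐ[k] K')
    [ConnectedSpace (Points (X ⨯ (yon _).obj (SK (k := k) K')))] :
    ConnectedSpace (Points (X ⨯ (yon _).obj (SK (k := k) K))) :=
  connectedSpace_of_prod_map_field (SKmap ψ) X

/-- If `F` is separably closed, `F ⊆ K'` and `X_F` is connected, then `X_{K'}` is connected. -/
theorem connectedSpace_bc_of_isSepClosed (hX : IsAlgSpace X) {F K' : Type u} [Field F] [Field K']
    [Algebra k F] [Algebra k K'] [IsSepClosed F] (ψ : F →ₐ[k] K')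
    [ConnectedSpace (Points (X ⨯ (yon _).obj (SK (k := k) F)))] :
    ConnectedSpace (Points (X ⨯ (yon _).obj (SK (k := k) K'))) :=
  connectedSpace_of_tower (SKmap ψ) prod.snd (prod.map (𝟙 X) ((yon _).map (SKmap ψ))) prod.snd
    (isPullback_prod_map_snd X ((yon _).map (SKmap ψ))) (isAlgSpace_prod hX (IsAlgSpace.yon_obj _))

/-- The structure morphism of `Spec K` as a morphism to the terminal object. -/
noncomputable abbrev SKterm (K : Type u) [Field K] [Algebra k K] :
    SK (k := k) K ⟶ Over.mk (𝟙 (Spec (CommRingCat.of k))) :=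
  Over.homMk (SK (k := k) K).hom

theorem isPullback_prod_term (K : Type u) [Field K] [Algebra k K]
    (g : X ⟶ (yon _).obj (Over.mk (𝟙 (Spec (CommRingCat.of k))))) :
    IsPullback (prod.fst : X ⨯ (yon _).obj (SK (k := k) K) ⟶ X) prod.snd g
      ((yon _).map (SKterm (k := k) K)) := by
  have hT := Coprod.isTerminalYonId (Spec (CommRingCat.of k))
  have this : IsPullback (prod.fst : X ⨯ (yon _).obj (SK (k := k) K) ⟶ X) prod.snd (hT.from X)
      (hT.from ((yon _).obj (SK (k := k) K))) :=
    IsPullback.of_isLimit_binaryFan_of_isTerminal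
      (limit.isLimit (pair X ((yon _).obj (SK (k := k) K)))) hT
  have e : hT.from ((yon _).obj (SK (k := k) K)) = (yon _).map (SKterm (k := k) K) :=
    hT.hom_ext _ _
  have e' : hT.from X = g := hT.hom_ext _ _
  rw [e, e'] at this
  exact this

/-- The structure morphism of a sheaf over `Spec k`. -/
noncomputable abbrev toTerm (X : Sp (Spec (CommRingCat.of k))) :
    X ⟶ (yon _).obj (Over.mk (𝟙 (Spec (CommRingCat.of k)))) :=
  (Coprod.isTerminalYonId (Spec (CommRingCat.of k))).from X

/-- Over a separably closed field, `X_K ⟶ X` induces a bijection on connected components. -/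
theorem bijective_connectedComponentsMap_fst [IsSepClosed k] (hX : IsAlgSpace X) (K : Type u)
    [Field K] [Algebra k K] :
    Function.Bijective (Continuous.connectedComponentsMap (Points.continuous_map
      (prod.fst : X ⨯ (yon _).obj (SK (k := k) K) ⟶ X))) :=
  bijective_connectedComponentsMap_of_tower (F := k) (sF := 𝟙 _) (SKterm (k := k) K) (toTerm X) prod.fst
    prod.snd (isPullback_prod_term K _) hX

theorem connectedSpace_bc_of_isSepClosed_base [IsSepClosed k] (hX : IsAlgSpace X) (K : Type u)
    [Field K] [Algebra k K] [ConnectedSpace (Points X)] :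
    ConnectedSpace (Points (X ⨯ (yon _).obj (SK (k := k) K))) :=
  connectedSpace_of_tower (F := k) (sF := 𝟙 _) (SKterm (k := k) K) (toTerm X) prod.fst
    prod.snd (isPullback_prod_term K _) hX

theorem surjective_fst_of_isSepClosed [IsSepClosed k] (K : Type u)
    [Field K] [Algebra k K] :
    Function.Surjective (Points.map (prod.fst : X ⨯ (yon _).obj (SK (k := k) K) ⟶ X)) :=
  fun x => (isConnected_fibre_fst (F := k) (sF := 𝟙 _) (SKterm (k := k) K) (toTerm X) prod.fst
    prod.snd (isPullback_prod_term K _) x).nonempty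

end OverField

section ProdSnd

open Groth.Agent.Helper2.FieldBC

variable {k : Type u} [Field k] {X Y : Sp (Spec (CommRingCat.of k))}

/-- Over a field, the projection `X × Y ⟶ Y` is open on points. -/
theorem isOpenMap_prod_snd (hX : IsAlgSpace X) (hY : IsAlgSpace Y) :
    IsOpenMap (Points.map (prod.snd : X ⨯ Y ⟶ Y)) := by
  obtain ⟨U, a, hae, has⟩ := hX.atlas
  have hT := Coprod.isTerminalYonId (Spec (CommRingCat.of k))
  let τ : U ⟶ Over.mk (𝟙 (Spec (CommRingCat.of k))) := Over.homMk U.hom
  have h1 : UniversallyOpen τ.left := by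
    change UniversallyOpen (U.hom : U.left ⟶ Spec (CommRingCat.of k))
    infer_instance
  have h2 : RepWith @UniversallyOpen ((yon _).map τ) := (repWith_yon_map_iff _ τ).mpr h1
  have h3 : IsUnivOpenMor ((yon _).map τ) := (repWith_universallyOpen_iff _ h2.rep).mp h2
  have sq1 : IsPullback (prod.fst : (yon _).obj U ⨯ Y ⟶ (yon _).obj U) prod.snd
      ((yon _).map τ) (hT.from Y) := by
    have this : IsPullback (prod.fst : (yon _).obj U ⨯ Y ⟶ (yon _).obj U) prod.snd
        (hT.from ((yon _).obj U)) (hT.from Y) :=
      IsPullback.of_isLimit_binaryFan_of_isTerminal (limit.isLimit (pair ((yon _).obj U) Y)) hT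
    have e : hT.from ((yon _).obj U) = (yon _).map τ := hT.hom_ext _ _
    rw [e] at this
    exact this
  have h4 : IsOpenMap (Points.map (prod.snd : (yon _).obj U ⨯ Y ⟶ Y)) :=
    h3 hY (hT.from Y) prod.fst prod.snd sq1
  have sq2 : IsPullback (prod.fst : (yon _).obj U ⨯ Y ⟶ (yon _).obj U) (prod.map a (𝟙 Y)) a
      prod.fst := IsPullback.of_prod_fst_with_id a Y
  have h5 : Function.Surjective (Points.map (prod.map a (𝟙 Y))) :=
    isSurjectiveMor_of_isPullback a prod.fst prod.fst (prod.map a (𝟙 Y)) sq2
      (isSurjectiveMor_of_repWith_surjective a has)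
  intro W hW
  have e : Points.map (prod.snd : X ⨯ Y ⟶ Y) '' W =
      Points.map (prod.snd : (yon _).obj U ⨯ Y ⟶ Y) '' (Points.map (prod.map a (𝟙 Y)) ⁻¹' W) := by
    ext y
    constructor
    · rintro ⟨w, hw, rfl⟩
      obtain ⟨w', rfl⟩ := h5 w
      refine ⟨w', hw, ?_⟩
      rw [← Points.map_comp, prod.map_snd, Category.comp_id]
    · rintro ⟨w', hw', rfl⟩
      refine ⟨_, hw', ?_⟩
      rw [← Points.map_comp, prod.map_snd, Category.comp_id]
  rw [e]
  exact h4 _ (hW.preimage (Points.continuous_map _))

/-- If `X` is geometrically connected then the fibres of `X × Y ⟶ Y` are connected. -/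
theorem isConnected_fibre_prod_snd
    (hX : ∀ (K : Type u) [Field K] [Algebra k K],
      ConnectedSpace (Points (X ⨯ (yon _).obj (SK (k := k) K))))
    (y : Points Y) : IsConnected (Points.map (prod.snd : X ⨯ Y ⟶ Y) ⁻¹' {y}) := by
  obtain ⟨L, _, str, γ, rfl⟩ := exists_field_ofPt_eq y
  obtain ⟨ψ, rfl⟩ : ∃ ψ : CommRingCat.of k ⟶ CommRingCat.of L, Spec.map ψ = str :=
    ⟨Spec.preimage str, Spec.map_preimage str⟩
  letI : Algebra k L := ψ.hom.toAlgebra
  have : ConnectedSpace (Points (X ⨯ (yon _).obj (Over.mk (Spec.map ψ)))) := hX L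
  have : Subsingleton ↥(Over.mk (Spec.map ψ)).left := by
    change Subsingleton ↥(Spec (CommRingCat.of L))
    infer_instance
  exact isConnected_preimage_singleton prod.snd γ _ (prod.map (𝟙 X) γ) prod.snd
    (isPullback_prod_map_snd X γ)

theorem bijective_connectedComponentsMap_prod_snd (hX : IsAlgSpace X) (hY : IsAlgSpace Y)
    (h : ∀ (K : Type u) [Field K] [Algebra k K],
      ConnectedSpace (Points (X ⨯ (yon _).obj (SK (k := k) K)))) :
    Function.Bijective (Continuous.connectedComponentsMap (Points.continuous_map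
      (prod.snd : X ⨯ Y ⟶ Y))) :=
  bijective_connectedComponentsMap prod.snd (isOpenMap_prod_snd hX hY)
    (isConnected_fibre_prod_snd h)

end ProdSnd

end Groth.Agent.Helper2.FieldConn
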