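import Mathlib
import Groth.Prelude.Def_AlgSp4
import Groth.Prelude.Def_AlgSpDec
import Groth.Agent.Lib.Helper2.AlgSp.FieldConn
import Groth.Agent.Lib.Helper2.AlgSp.NoethDescent
import Groth.Agent.Lib.Helper2.Sch.NoethDescent

/-!
# Locally Noetherian base changes along field extensions (helper2)
-/

set_option autoImplicit false
set_option backward.isDefEq.respectTransparency false

open CategoryTheory CategoryTheory.Limits AlgebraicGeometry Opposite AlgSp Topology

namespace Groth.Agent.Helper2.FieldNoeth
open Groth.Agent.Helper2.AlgSpBasic Groth.Agent.Helper2.SchLib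
universe u

/-- The locally Noetherian property descends along flat surjective universally open morphisms. -/
theorem isLocallyNoetherian_of_flat_univOpen_surjective {W V : Scheme.{u}} (f : W ⟶ V) [Flat f]
    [UniversallyOpen f] [Surjective f] [IsLocallyNoetherian W] :
    IsLocallyNoetherian V := by
  refine ⟨fun U => ?_⟩
  haveI : IsAffine (U.1 : Scheme) := U.2
  haveI : Flat (f ∣_ U.1) := IsZariskiLocalAtTarget.restrict ‹_› U.1
  haveI : UniversallyOpen (f ∣_ U.1) := IsZariskiLocalAtTarget.restrict ‹_› U.1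
  haveI : Surjective (f ∣_ U.1) := IsZariskiLocalAtTarget.restrict ‹_› U.1
  have := isNoetherianRing_of_flat_open_surjective (f ∣_ U.1) (f ∣_ U.1).isOpenMap
  exact isNoetherianRing_of_ringEquiv _ (U.1.topIso).commRingCatIsoToRingEquiv

section Tower

variable {S : Scheme.{u}} {F K' : Type u} [Field F] [Field K']
  {sF : Spec (CommRingCat.of F) ⟶ S} {sK : Spec (CommRingCat.of K') ⟶ S}
  (φ : Over.mk sK ⟶ Over.mk sF) {Z P : Sp S} (g : Z ⟶ (yon S).obj (Over.mk sF))
  (fst : P ⟶ Z) (snd : P ⟶ (yon S).obj (Over.mk sK))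
  (sq : IsPullback fst snd g ((yon S).map φ))

include sq

/-- The chart of the base change `P` induced by a chart of `Z`. -/
theorem exists_chart_bc {V : Over S} (a : (yon S).obj V ⟶ Z) :
    ∃ (W : Over S) (π₁ : W ⟶ V) (π₂ : W ⟶ Over.mk sK) (ψ : V ⟶ Over.mk sF)
      (l : (yon S).obj W ⟶ P), IsPullback π₁.left π₂.left ψ.left φ.left ∧
      IsPullback l ((yon S).map π₁) fst a ∧ l ≫ snd = (yon S).map π₂ := by
  obtain ⟨ψ, hψ⟩ := (yon S).map_surjective (a ≫ g)
  let W : Over S := Over.mk (pullback.fst ψ.left φ.left ≫ V.hom)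
  let π₁ : W ⟶ V := Over.homMk (pullback.fst ψ.left φ.left) rfl
  let π₂ : W ⟶ Over.mk sK := Over.homMk (pullback.snd ψ.left φ.left) (by
    have h1 := Over.w ψ
    have h2 := Over.w φ
    simp only [Over.mk_hom] at h1 h2
    show pullback.snd ψ.left φ.left ≫ sK = pullback.fst ψ.left φ.left ≫ V.hom
    calc pullback.snd ψ.left φ.left ≫ sK
        = pullback.snd ψ.left φ.left ≫ (φ.left ≫ sF) := congrArg _ h2.symm
      _ = (pullback.fst ψ.left φ.left ≫ ψ.left) ≫ sF := by
          rw [← Category.assoc, ← pullback.condition]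
      _ = pullback.fst ψ.left φ.left ≫ V.hom := by
          rw [Category.assoc]; exact congrArg _ h1)
  have sqW : IsPullback ((yon S).map π₁) ((yon S).map π₂) ((yon S).map ψ) ((yon S).map φ) :=
    yon_isPullback_of_left π₁ π₂ ψ φ (IsPullback.of_hasPullback ψ.left φ.left)
  have hl : ((yon S).map π₁ ≫ a) ≫ g = (yon S).map π₂ ≫ (yon S).map φ := by
    rw [Category.assoc, ← hψ, sqW.w]
  have sqL : IsPullback (sq.lift _ _ hl) ((yon S).map π₁) fst a := by
    refine IsPullback.of_right ?_ (sq.lift_fst _ _ hl) sq.flip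
    rw [sq.lift_snd, ← hψ]
    exact sqW.flip
  exact ⟨W, π₁, π₂, ψ, sq.lift _ _ hl, IsPullback.of_hasPullback ψ.left φ.left, sqL,
    sq.lift_snd _ _ hl⟩

/-- Descent of the locally Noetherian property along a field extension. -/
theorem isLocNoethSp_of_bc (hZ : IsAlgSpace Z) (hP : IsLocNoethSp P) : IsLocNoethSp Z := by
  obtain ⟨V, a, hae, has⟩ := hZ.atlas
  obtain ⟨W, π₁, π₂, ψ, l, sqW, sqL, -⟩ := exists_chart_bc φ g fst snd sq a
  have hl : RepWith @Etale l := repWith_of_isPullback @Etale sqL.flip hae
  haveI : IsLocallyNoetherian W.left := isLocallyNoetherian_of_etale_of_isLocNoethSp hP l hl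
  have hφ1 : Flat φ.left := by
    change Flat (φ.left : Spec (CommRingCat.of K') ⟶ Spec (CommRingCat.of F))
    obtain ⟨ρ, hρ⟩ := Spec.map_surjective
      (φ.left : Spec (CommRingCat.of K') ⟶ Spec (CommRingCat.of F))
    rw [← hρ, HasRingHomProperty.Spec_iff (P := @Flat)]
    algebraize [ρ.hom]
    show Module.Flat F K'
    infer_instance
  have hφ2 : UniversallyOpen φ.left := by
    have : IsIntegral (Over.mk sF).left := by
      change IsIntegral (Spec (CommRingCat.of F))
      infer_instance
    have : Subsingleton ↥(Over.mk sF).left := by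
      change Subsingleton ↥(Spec (CommRingCat.of F))
      infer_instance
    infer_instance
  have hφ3 : Surjective φ.left := by
    constructor
    intro x
    exact ⟨(IsLocalRing.closedPoint K' : ↥(Spec (CommRingCat.of K'))),
      Subsingleton.elim (α := ↥(Spec (CommRingCat.of F))) _ _⟩
  haveI : Flat π₁.left := MorphismProperty.of_isPullback sqW.flip hφ1
  haveI : UniversallyOpen π₁.left := MorphismProperty.of_isPullback sqW.flip hφ2
  haveI : Surjective π₁.left := MorphismProperty.of_isPullback sqW.flip hφ3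
  exact ⟨V, a, hae, has, isLocallyNoetherian_of_flat_univOpen_surjective π₁.left⟩

/-- The locally Noetherian property passes to base changes along finitely generated field
extensions. -/
theorem isLocNoethSp_bc_of_lft (hφ : LocallyOfFiniteType φ.left) (hZ : IsLocNoethSp Z) :
    IsLocNoethSp P := by
  obtain ⟨V, a, hae, has, hV⟩ := hZ
  obtain ⟨W, π₁, π₂, ψ, l, sqW, sqL, -⟩ := exists_chart_bc φ g fst snd sq a
  have hl : RepWith @Etale l := repWith_of_isPullback @Etale sqL.flip hae
  have hls : RepWith @Surjective l := repWith_of_isPullback @Surjective sqL.flip has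
  haveI : LocallyOfFiniteType π₁.left := MorphismProperty.of_isPullback sqW.flip hφ
  exact ⟨W, l, hl, hls, LocallyOfFiniteType.isLocallyNoetherian π₁.left⟩

end Tower

end Groth.Agent.Helper2.FieldNoeth
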