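import Mathlib
import Groth.Agent.Lib.Helper2.AlgSp.DecentOpen3
import Groth.Agent.Lib.Helper2.AlgSp.FinLocFreeQuot3
import Groth.Agent.Lib.Helper2.AlgSp.UnivTop
import Groth.Agent.Lib.Helper2.AlgSp.Mor2
import Groth.Agent.Lib.Helper2.AlgSp.Sep

/-!
# The schematic locus of the target of a finite locally free surjection (helper2)
-/

set_option autoImplicit false
set_option linter.style.haveILetI false

open CategoryTheory CategoryTheory.Limits AlgebraicGeometry Opposite AlgSp

universe u

namespace Groth.Agent.Helper2.FinLocFreeSchLocus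

open Groth.Agent.Helper2.AlgSpBasic Groth.Agent.Helper2.LargestSch
open Groth.Agent.Helper2.DecentOpen Groth.Agent.Helper2.FinLocFreeQuot

variable {S : Scheme.{u}}

/-- A representable finite chart has finite fibres on points. -/
theorem finite_fiber_of_repWith_finite {F : Sp S} {U : Over S} (a : (yon S).obj U ⟶ F)
    (ha : RepWith @IsFinite a) (u₀ : U.left) :
    (Points.ofPt a ⁻¹' {Points.ofPt a u₀}).Finite := by
  let str : Spec (CommRingCat.of ↑(U.left.residueField u₀)) ⟶ S :=
    U.left.fromSpecResidueField u₀ ≫ U.hom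
  let ι₀ : Over.mk str ⟶ U := Over.homMk (U.left.fromSpecResidueField u₀) rfl
  let cu : ↥(Over.mk str).left := IsLocalRing.closedPoint ↥(U.left.residueField u₀)
  have hcu : ι₀.left cu = u₀ := Scheme.fromSpecResidueField_apply u₀ cu
  have hrep := ha.rep
  obtain ⟨g, hg⟩ : ∃ g, g = (yon S).map ι₀ ≫ a := ⟨_, rfl⟩
  have sq := hrep.isPullback g
  obtain ⟨t, ht⟩ := (yon S).map_surjective (hrep.fst g)
  rw [← ht] at sq
  haveI : IsFinite (hrep.snd g).left := ha.property g _ _ sq
  have hfin : ((hrep.snd g).left ⁻¹' {cu}).Finite :=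
    Scheme.Hom.finite_preimage_singleton (hrep.snd g).left cu
  refine (hfin.image t.left).subset ?_
  intro u hu
  have e : Points.ofPt a u = Points.ofPt g cu := by
    rw [hg, ofPt_yon_map_comp, hcu]
    exact hu
  obtain ⟨w, hw1, hw2⟩ := exists_point_of_isPullback_yon a g t (hrep.snd g) sq u cu e
  exact ⟨w, hw2, hw1⟩

/-- If a finite locally free surjection `f : X ⟶ Y` has the fibre over `y` contained in an affine
open subscheme of `X`, then `y` lies in the schematic locus of `Y`. -/
theorem mem_schLocus_of_fiber_subset_affine {X Y : Sp S} (hX : IsAlgSpace X) (hY : IsAlgSpace Y)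
    (f : X ⟶ Y) (hf : RepWith finLocFree f) (hs : RepWith @Surjective f) (y : Points Y)
    {U : Over S} [IsAffine U.left] (a : (yon S).obj U ⟶ X) (ha : RepWith @IsOpenImmersion a)
    (hfib : Points.map f ⁻¹' {y} ⊆ Set.range (Points.ofPt a)) : y ∈ schLocus Y := by
  -- `f` is closed on points
  have hfin : RepWith @IsFinite f := repWith_finite_of_finLocFree hf
  have huc : RepWith @UniversallyClosed f :=
    repWith_mono (fun _ _ g (hg : IsFinite g) => (inferInstance : UniversallyClosed g)) hfin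
  have hcl : IsClosedMap (Points.map f) :=
    isClosedMap_of_isUnivClosedMor hY f
      ((repWith_universallyClosed_iff f hf.rep).mp huc)
  have hae : RepWith @Etale a :=
    repWith_mono (fun _ _ g (hg : IsOpenImmersion g) => (inferInstance : Etale g)) ha
  have hro : IsOpen (Set.range (Points.ofPt a)) := (isOpenMap_ofPt a hae).isOpen_range
  -- the open `E`
  obtain ⟨E, hEdef⟩ : ∃ E : Set (Points Y), E = (Points.map f '' (Set.range (Points.ofPt a))ᶜ)ᶜ :=
    ⟨_, rfl⟩
  have hE : IsOpen E := by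
    rw [hEdef]; exact (hcl _ hro.isClosed_compl).isOpen_compl
  have hyE : y ∈ E := by
    rw [hEdef]
    rintro ⟨z, hz, hzy⟩
    exact hz (hfib hzy)
  have hEsub : Points.map f ⁻¹' E ⊆ Set.range (Points.ofPt a) := by
    intro x hx
    by_contra hxr
    rw [hEdef] at hx
    exact hx ⟨x, hxr, rfl⟩
  have hopen : IsOpen (Points.map f ⁻¹' E) := hE.preimage (Points.continuous_map f)
  -- the chart of `Y₁`
  obtain ⟨j, hj⟩ : ∃ j, j = (yon S).map (preimageOverι a hopen) ≫ a := ⟨_, rfl⟩
  have hjO : RepWith @IsOpenImmersion j := by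
    rw [hj]
    exact repWith_comp @IsOpenImmersion ((repWith_yon_map_iff @IsOpenImmersion _).mpr
      (inferInstanceAs (IsOpenImmersion (preimageOpens a hopen).ι))) ha
  have hjmem : ∀ p, Points.map j p ∈ Points.map f ⁻¹' E := by
    rw [hj]; exact points_map_preimageOverι_mem a hopen
  have hjrange : Set.range (Points.map j) = Points.map f ⁻¹' E := by
    apply Set.Subset.antisymm
    · rintro _ ⟨p, rfl⟩
      exact hjmem p
    · intro x hx
      obtain ⟨u, rfl⟩ := hEsub hx
      refine ⟨Points.ofScheme _ (⟨u, hx⟩ : (preimageOver a hopen).left), ?_⟩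
      rw [← Points.ofPt_eq_map_ofScheme, hj, ofPt_yon_map_comp]
      rfl
  haveI hciso : IsIso (openSubLift (Points.map f ⁻¹' E) j hjmem) :=
    isIso_openSubLift_of_range_eq (IsAlgSpace.yon_obj _) hX j hjO _
      hjrange hjmem
  have sqf := isPullback_openSub f E
  have hf₁ := repWith_of_isPullback finLocFree sqf hf
  obtain ⟨f₁, hf₁def⟩ : ∃ f₁, f₁ = openSubLift E (openSubι X (Points.map f ⁻¹' E) ≫ f)
      (fun p => by
        rw [Points.map_comp]
        exact points_map_openSubι_mem X _ p) := ⟨_, rfl⟩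
  rw [← hf₁def] at hf₁
  have hf₁ι : f₁ ≫ openSubι Y E = openSubι X (Points.map f ⁻¹' E) ≫ f := by
    rw [hf₁def, openSubLift_ι]
  obtain ⟨b, hbdef⟩ : ∃ b, b = openSubLift (Points.map f ⁻¹' E) j hjmem ≫ f₁ := ⟨_, rfl⟩
  have hb : RepWith finLocFree b := by
    rw [hbdef]
    exact repWith_of_iso_comp finLocFree _ hf₁
  have hbι : b ≫ openSubι Y E = j ≫ f := by
    rw [hbdef, Category.assoc, hf₁ι, ← Category.assoc, openSubLift_ι]
  have hofPt : ∀ u' : (preimageOver a hopen).left,
      Points.map (openSubι Y E) (Points.ofPt b u') =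
        Points.map f (Points.ofPt a ((preimageOpens a hopen).ι u')) := by
    intro u'
    rw [Points.map_ofPt, hbι, Points.map_ofPt, hj, Category.assoc, ofPt_yon_map_comp]
    rfl
  -- the point
  obtain ⟨x₀, hx₀⟩ := Groth.Agent.Helper2.AlgSpBasic.isSurjectiveMor_of_repWith_surjective f hs y
  obtain ⟨u₀, hu₀⟩ := hfib (show x₀ ∈ Points.map f ⁻¹' {y} from hx₀)
  have hu₀E : Points.ofPt a u₀ ∈ Points.map f ⁻¹' E := by
    show Points.map f (Points.ofPt a u₀) ∈ E
    rw [hu₀, hx₀]; exact hyE
  obtain ⟨u₁, hu₁⟩ : ∃ u₁ : (preimageOver a hopen).left, u₁ = ⟨u₀, hu₀E⟩ := ⟨_, rfl⟩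
  have hy₁ : Points.map (openSubι Y E) (Points.ofPt b u₁) = y := by
    rw [hofPt, hu₁]
    show Points.map f (Points.ofPt a u₀) = y
    rw [hu₀, hx₀]
  have horbfin : (Points.ofPt b ⁻¹' {Points.ofPt b u₁}).Finite :=
    finite_fiber_of_repWith_finite b (repWith_finite_of_finLocFree hb) u₁
  have himfin : ((preimageOpens a hopen).ι '' (Points.ofPt b ⁻¹' {Points.ofPt b u₁})).Finite :=
    horbfin.image _
  have himsub : ((preimageOpens a hopen).ι '' (Points.ofPt b ⁻¹' {Points.ofPt b u₁})) ⊆
      (preimageOpens a hopen : Set U.left) := by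
    rintro _ ⟨u', -, rfl⟩
    exact u'.2
  obtain ⟨g, hg1, hg2⟩ := Groth.Agent.Helper2.GrpdLib.InvOpen.exists_basicOpen_of_finite_subset
    (isAffineOpen_top U.left) (preimageOpens a hopen) _ himfin himsub (fun _ _ => trivial)
  have hVaff : IsAffineOpen ((preimageOpens a hopen).ι ⁻¹ᵁ U.left.basicOpen g) := by
    apply IsAffineOpen.preimage_of_isOpenImmersion ((isAffineOpen_top U.left).basicOpen g)
    rw [Scheme.Opens.opensRange_ι]; exact hg2
  have key := mem_schLocus_of_orbit_subset_affine b hb u₁ _ hVaff (by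
    intro u' hu'
    show (preimageOpens a hopen).ι u' ∈ U.left.basicOpen g
    exact hg1 ⟨u', hu', rfl⟩)
  have := map_openSubι_mem_schLocus hY hE _ key
  rw [hy₁] at this
  exact this

end Groth.Agent.Helper2.FinLocFreeSchLocus
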