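import Mathlib
import Groth.Agent.Lib.Helper2.AlgSp.FinLocFreeSchLocus

/-!
# The schematic locus of the target of a finite locally free surjection, II (helper2)
-/

set_option autoImplicit false
set_option linter.style.haveILetI false

open CategoryTheory CategoryTheory.Limits AlgebraicGeometry Opposite AlgSp

universe u

namespace Groth.Agent.Helper2.FinLocFreeSchLocus

open Groth.Agent.Helper2.AlgSpBasic Groth.Agent.Helper2.LargestSch
open Groth.Agent.Helper2.DecentOpen Groth.Agent.Helper2.FinLocFreeQuot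

variable {S : Scheme.{u}}

/-- A point of the schematic locus has an affine open neighbourhood. -/
theorem exists_affine_open_of_mem_schLocus {Y : Sp S} (y : Points Y) (hy : y ∈ schLocus Y) :
    ∃ (W : Over S) (j : (yon S).obj W ⟶ Y) (w : W.left), IsAffine W.left ∧
      RepWith @IsOpenImmersion j ∧ Points.ofPt j w = y := by
  obtain ⟨V, hV, hyV, W, ⟨e⟩⟩ := hy
  have hj : RepWith @IsOpenImmersion (e.hom ≫ openSubι Y V) :=
    repWith_comp @IsOpenImmersion (repWith_of_isIso @IsOpenImmersion e.hom)
      (repWith_isOpenImmersion_openSubι Y hV)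
  rw [← range_points_map_openSubι Y V] at hyV
  obtain ⟨p, rfl⟩ := hyV
  obtain ⟨w, hw⟩ := (Points.schemeHomeo W).surjective (Points.map e.inv p)
  have hw' : Points.ofScheme W w = Points.map e.inv p := hw
  have hyw : Points.ofPt (e.hom ≫ openSubι Y V) w = Points.map (openSubι Y V) p := by
    rw [Points.ofPt_eq_map_ofScheme, hw', ← Points.map_comp, Iso.inv_hom_id_assoc]
  obtain ⟨_, ⟨W', hW', rfl⟩, hwW, -⟩ := W.left.isBasis_affineOpens.exists_subset_of_mem_open
    (Set.mem_univ w) isOpen_univ
  obtain ⟨W₀, hWe⟩ : ∃ W₀ : W.left.Opens, W₀ = W' := ⟨_, rfl⟩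
  rw [← hWe] at hW' hwW
  refine ⟨opensOver W₀, (yon S).map (opensOverι W₀) ≫ e.hom ≫ openSubι Y V, ⟨w, hwW⟩, hW', ?_, ?_⟩
  · exact repWith_comp @IsOpenImmersion ((repWith_yon_map_iff @IsOpenImmersion _).mpr
      (inferInstanceAs (IsOpenImmersion W₀.ι))) hj
  · rw [ofPt_yon_map_comp]
    exact hyw

/-- The preimage of a point of the schematic locus under a finite locally free morphism lies in
an affine open subscheme. -/
theorem exists_affine_open_of_mem_schLocus_target {X Y : Sp S} (f : X ⟶ Y)
    (hf : RepWith finLocFree f) (y : Points Y) (hy : y ∈ schLocus Y) :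
    ∃ (U : Over S) (a : (yon S).obj U ⟶ X), IsAffine U.left ∧ RepWith @IsOpenImmersion a ∧
      Points.map f ⁻¹' {y} ⊆ Set.range (Points.ofPt a) := by
  obtain ⟨W, j, w, hW, hj, rfl⟩ := exists_affine_open_of_mem_schLocus y hy
  have hrep := hf.rep
  have sq := hrep.isPullback j
  haveI : IsFinite (hrep.snd j).left := (hf.property j _ _ sq).1
  haveI : IsAffine W.left := hW
  refine ⟨hrep.pullback j, hrep.fst j, isAffine_of_isAffineHom (hrep.snd j).left,
    repWith_of_isPullback @IsOpenImmersion sq.flip hj, ?_⟩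
  intro x hx
  obtain ⟨p, hp, -⟩ := exists_point_of_isPullback_right f j (hrep.fst j) (hrep.snd j) sq x w hx
  exact ⟨p, hp⟩

end Groth.Agent.Helper2.FinLocFreeSchLocus
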