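import Groth.Prelude.Def_AlgSp
import Groth.Prelude.Def_AlgSp3
import Groth.Agent.Lib.Helper2.AlgSp.Basic
import Groth.Agent.Lib.Helper2.AlgSp.Coprod

/-!
# Fixed points of a finite group acting on a separated algebraic space (helper2)
-/

set_option autoImplicit false
set_option backward.isDefEq.respectTransparency false
set_option synthInstance.maxHeartbeats 400000
set_option maxHeartbeats 4000000
set_option linter.style.haveILetI false
set_option linter.unusedSectionVars false
set_option linter.unusedVariables false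

universe u
open CategoryTheory CategoryTheory.Limits AlgebraicGeometry Opposite AlgSp
open Groth.Agent.Helper2.AlgSpBasic

namespace Groth.Agent.Helper2.FixedPts

variable {S : Scheme.{u}}

/-- The equaliser of the identity and an endomorphism `r` of a separated sheaf `F` is a closed
subsheaf. -/
theorem exists_eq_locus (F : Sp S) (hsep : IsSeparatedSp F) (r : F ⟶ F) :
    ∃ (E : Sp S) (j : E ⟶ F), RepWith @IsClosedImmersion j ∧ Mono j ∧ j ≫ r = j ∧
      ∀ (W : Sp S) (x : W ⟶ F), x ≫ r = x → ∃ l : W ⟶ E, l ≫ j = x := by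
  let c : F ⟶ F ⨯ F := prod.lift (𝟙 F) r
  have sq : IsPullback (pullback.fst (Limits.diag F) c) (pullback.snd (Limits.diag F) c)
      (Limits.diag F) c := IsPullback.of_hasPullback _ _
  have h1 : pullback.fst (Limits.diag F) c = pullback.snd (Limits.diag F) c := by
    have := congrArg (· ≫ prod.fst) sq.w
    simpa only [Limits.diag, Category.assoc, prod.lift_fst, Category.comp_id, c] using this
  have h2 : pullback.fst (Limits.diag F) c = pullback.snd (Limits.diag F) c ≫ r := by
    have := congrArg (· ≫ prod.snd) sq.w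
    simpa only [Limits.diag, Category.assoc, prod.lift_snd, Category.comp_id, c] using this
  refine ⟨pullback (Limits.diag F) c, pullback.snd (Limits.diag F) c,
    repWith_of_isPullback @IsClosedImmersion sq hsep, ?_, ?_, ?_⟩
  · constructor
    intro A a b hab
    apply sq.hom_ext
    · rw [h1]; exact hab
    · exact hab
  · rw [← h2, h1]
  · intro W x hx
    refine ⟨sq.lift x x ?_, sq.lift_snd _ _ _⟩
    apply Limits.prod.hom_ext
    · simp only [Limits.diag, Category.assoc, prod.lift_fst, Category.comp_id, c]
    · simp only [Limits.diag, Category.assoc, prod.lift_snd, Category.comp_id, c]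
      exact hx.symm

/-- The common fixed locus of a finite set of endomorphisms of a separated sheaf. -/
theorem exists_fixed_finset (F : Sp S) (hsep : IsSeparatedSp F) {G : Type u} [DecidableEq G]
    (r : G → (F ⟶ F)) (s : Finset G) :
    ∃ (Z' : Sp S) (i' : Z' ⟶ F), RepWith @IsClosedImmersion i' ∧ Mono i' ∧
      (∀ g ∈ s, i' ≫ r g = i') ∧
      ∀ (W : Sp S) (x : W ⟶ F), (∀ g ∈ s, x ≫ r g = x) → ∃ z : W ⟶ Z', z ≫ i' = x := by
  induction s using Finset.induction_on with
  | empty =>
    refine ⟨F, 𝟙 F, (RepWith (S := S) @IsClosedImmersion).id_mem F, inferInstance, ?_, ?_⟩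
    · intro g hg; simp at hg
    · intro W x _; exact ⟨x, Category.comp_id x⟩
  | insert g s hgs ih =>
    obtain ⟨Z', i', hci, hmono, hinv, huniv⟩ := ih
    obtain ⟨E, j, hjci, hjmono, hjr, hjuniv⟩ := exists_eq_locus F hsep (r g)
    have sq : IsPullback (pullback.fst i' j) (pullback.snd i' j) i' j :=
      IsPullback.of_hasPullback _ _
    refine ⟨pullback i' j, pullback.fst i' j ≫ i', ?_, ?_, ?_, ?_⟩
    · exact repWith_comp @IsClosedImmersion
        (repWith_of_isPullback @IsClosedImmersion sq.flip hjci) hci
    · haveI := hmono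
      haveI := hjmono
      constructor
      intro A a b hab
      apply sq.hom_ext
      · rw [← cancel_mono i']
        simpa only [Category.assoc] using hab
      · rw [← cancel_mono j]
        simpa only [Category.assoc, ← sq.w] using hab
    · intro h hh
      rcases Finset.mem_insert.1 hh with rfl | hh
      · rw [sq.w, Category.assoc, hjr]
      · rw [Category.assoc, hinv h hh]
    · intro W x hx
      obtain ⟨z, hz⟩ := huniv W x (fun h hh => hx h (Finset.mem_insert_of_mem hh))
      obtain ⟨l, hl⟩ := hjuniv W x (hx g (Finset.mem_insert_self g s))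
      refine ⟨sq.lift z l (hz.trans hl.symm), ?_⟩
      rw [← Category.assoc, sq.lift_fst, hz]

variable (F : Sp S) (hF : IsAlgSpace F) (hsep : IsSeparatedSp F)
  (G : Type u) [Group G] [Finite G] (ρ : G →* Aut F)
  (Z : Sp S) (i : Z ⟶ F) (hi : ∀ g : G, i ≫ (ρ g).hom = i)
  (huniv : ∀ (W : Sp S) (x : W ⟶ F), (∀ g : G, x ≫ (ρ g).hom = x) → ∃! z : W ⟶ Z, z ≫ i = x)

include hi huniv in
theorem mono_of_univ : Mono i := by
  constructor
  intro A a b hab
  have hx : ∀ g : G, (a ≫ i) ≫ (ρ g).hom = a ≫ i := fun g => by rw [Category.assoc, hi g]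
  obtain ⟨z, -, hz⟩ := huniv A (a ≫ i) hx
  rw [hz a rfl, hz b hab.symm]

include hsep hi huniv in
theorem repWith_of_univ : RepWith @IsClosedImmersion i := by
  classical
  haveI : Fintype G := Fintype.ofFinite G
  obtain ⟨Z', i', hci, hmono, hinv, hex⟩ :=
    exists_fixed_finset F hsep (fun g : G => (ρ g).hom) Finset.univ
  haveI := hmono
  haveI : Mono i := mono_of_univ F G ρ Z i hi huniv
  obtain ⟨z, hz⟩ := hex Z i (fun g _ => hi g)
  obtain ⟨z', hz', -⟩ := huniv Z' i' (fun g => hinv g (Finset.mem_univ g))
  have h1 : z ≫ z' = 𝟙 Z := by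
    rw [← cancel_mono i, Category.assoc, hz', hz, Category.id_comp]
  have h2 : z' ≫ z = 𝟙 Z' := by
    rw [← cancel_mono i', Category.assoc, hz, hz', Category.id_comp]
  haveI : IsIso z := ⟨z', h1, h2⟩
  haveI : (RepWith (S := S) @IsClosedImmersion).RespectsIso :=
    MorphismProperty.IsStableUnderBaseChange.respectsIso
  rw [← hz]
  exact (MorphismProperty.cancel_left_of_respectsIso _ z i').2 hci

include hF hsep hi huniv in
theorem main13210 : IsAlgSpace Z ∧ RepWith @IsClosedImmersion i := by
  have h := repWith_of_univ F hsep G ρ Z i hi huniv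
  haveI : Mono i := mono_of_univ F G ρ Z i hi huniv
  exact ⟨Groth.Agent.Helper2.Coprod.isAlgSpace_of_representable_mono i h.1 hF, h⟩

end Groth.Agent.Helper2.FixedPts
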