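import Mathlib
import Groth.Agent.Lib.Helper2.AlgSp.FlatFibresSp
import Groth.Agent.Lib.Helper2.AlgSp.NoethDescent
import Groth.Agent.Lib.Helper2.Sch.CritFibNoeth

/-!
# The fibrewise criterion of flatness for locally Noetherian algebraic spaces (helper2)
-/

set_option autoImplicit false
set_option linter.style.haveILetI false

open CategoryTheory CategoryTheory.Limits AlgebraicGeometry Opposite AlgSp

universe u

namespace Groth.Agent.Helper2.FlatFibresSp

open Groth.Agent.Helper2.AlgSpBasic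

variable {S : Scheme.{u}}

/-- S10604 core. -/
theorem main_noeth {X Y Z : Sp S} (hX : IsAlgSpace X) (hY : IsAlgSpace Y) (hZ : IsAlgSpace Z)
    (f : X ⟶ Y) (h : Y ⟶ Z) (hXn : IsLocNoethSp X) (hYn : IsLocNoethSp Y) (hZn : IsLocNoethSp Z)
    (hfl : LocP @Flat (f ≫ h)) (hfib : FlatOnFibres f h) :
    LocP @Flat f ∧ (IsSurjectiveMor f → LocP @Flat h) := by
  obtain ⟨T⟩ := exists_tower hX hY hZ f h
  have hcomm : T.a ≫ f ≫ h = (yon S).map (T.k₁ ≫ T.k₂) ≫ T.c := T.comm_ac
  haveI h2 : Flat (T.k₁.left ≫ T.k₂.left) := by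
    rw [← Over.comp_left]
    exact hfl T.a T.c (T.k₁ ≫ T.k₂) T.hae T.hce hcomm
  haveI : IsLocallyNoetherian T.U.left := isLocallyNoetherian_of_etale_of_isLocNoethSp hXn T.a T.hae
  haveI : IsLocallyNoetherian T.V.left := isLocallyNoetherian_of_etale_of_isLocNoethSp hYn T.b T.hbe
  haveI : IsLocallyNoetherian T.W.left := isLocallyNoetherian_of_etale_of_isLocNoethSp hZn T.c T.hce
  have key := fun u : ↥T.U.left =>
    Groth.Agent.Helper2.CritFibNoeth.flat_stalkMap_of_flat_fibres_noeth T.k₁.left T.k₂.left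
      (fun w => flat_fibre_snd T w hfib) u
  constructor
  · have hfl1 : Flat T.k₁.left := (Flat.iff_flat_stalkMap _).mpr fun u => (key u).2
    exact locP_of_one_chart @Flat hX.diag hY.diag f T.a T.b T.k₁ T.hae T.has T.hbe T.comm_a hfl1
  · intro hs
    have hfl2 : Flat T.k₂.left := by
      refine (Flat.iff_flat_stalkMap _).mpr fun v => ?_
      obtain ⟨u, rfl⟩ := surjective_k₁ T hs v
      exact (key u).1
    exact locP_of_one_chart @Flat hY.diag hZ.diag h T.b T.c T.k₂ T.hbe T.hbs T.hce T.comm_b hfl2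

end Groth.Agent.Helper2.FlatFibresSp
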