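import Mathlib
import Groth.Agent.Lib.Helper2.AlgSp.ExistVC
namespace Groth.Agent.Helper2.AlgSpBasic
open CategoryTheory CategoryTheory.Limits AlgebraicGeometry Opposite AlgSp Topology
open Groth.Agent.Helper2.AlgStLib Groth.Agent.Helper2.EtaleLocal
open IsLocalRing
universe u
variable {S : Scheme.{u}}

/-- Along a flat morphism, a valuation ring whose closed point is hit lifts after an injective
local extension of valuation rings. -/
theorem exists_lift_valuationRing_of_flat {X Y : Sp S} (hX : IsAlgSpace X) (hY : IsAlgSpace Y)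
    (f : X ⟶ Y) (hf : LocP @Flat f) (A : Type u) [CommRing A] [IsDomain A] [ValuationRing A]
    (str : Spec (CommRingCat.of A) ⟶ S) (b : (yon S).obj (Over.mk str) ⟶ Y)
    (hb : Points.ofPt b (closedPoint A) ∈ Set.range (Points.map f)) :
    ∃ (A' : Type u) (_ : CommRing A') (_ : IsDomain A') (_ : ValuationRing A') (φ : A →+* A'),
      Function.Injective φ ∧ IsLocalHom φ ∧
      ∃ l : (yon S).obj (Over.mk (Spec.map (CommRingCat.ofHom φ) ≫ str)) ⟶ X,
        l ≫ f = (yon S).map (Over.homMk (Spec.map (CommRingCat.ofHom φ)) rfl :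
          Over.mk (Spec.map (CommRingCat.ofHom φ) ≫ str) ⟶ Over.mk str) ≫ b := by
  let ptA : Over S := Over.mk str
  obtain ⟨x₀, hx₀⟩ := hb
  have sqP := IsPullback.of_hasPullback f b
  have hP : IsAlgSpace (pullback f b) :=
    isAlgSpace_of_isPullback hY.diag hX (IsAlgSpace.yon_obj ptA) f b _ _ sqP
  obtain ⟨p', hp1, -⟩ := points_exists_of_isPullback f b (pullback.snd f b) (pullback.fst f b)
    sqP.flip (Points.ofScheme ptA (closedPoint A)) x₀
    (by rw [← Points.ofPt_eq_map_ofScheme, hx₀])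
  obtain ⟨U₀, a₀, hae, has⟩ := hP.atlas
  obtain ⟨u₀, hu₀⟩ := surjective_ofPt a₀ has p'
  obtain ⟨h, hh⟩ := (yon S).map_surjective (a₀ ≫ pullback.snd f b)
  have hflat : LocP @Flat (pullback.snd f b) :=
    locP_of_isPullback @Flat hX hY (IsAlgSpace.yon_obj ptA) hP f b _ _ sqP hf
  have hhflat : Flat h.left :=
    hflat a₀ (𝟙 _) h hae (repWith_id _ ptA) (by rw [hh, Category.comp_id])
  let hl : U₀.left ⟶ Spec (CommRingCat.of A) := h.left
  have hu₀A : hl u₀ = closedPoint A := by
    have h1 : Points.map (pullback.snd f b) (Points.ofPt a₀ u₀) = Points.ofScheme ptA (h.left u₀) := by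
      rw [Points.map_ofPt, ← hh, ofPt_yon_map]
    rw [hu₀, hp1] at h1
    have h2 := congrArg (Points.toScheme ptA) h1
    rw [Points.toScheme_ofScheme, Points.toScheme_ofScheme] at h2
    exact h2.symm
  let ξ : PrimeSpectrum A := ⊥
  have hξ : (ξ : ↥(Spec (CommRingCat.of A))) ⤳ hl u₀ := by
    rw [hu₀A]; exact specializes_closedPoint ξ
  haveI : Flat hl := hhflat
  obtain ⟨u, hu1, hu2⟩ := (Flat.generalizingMap hl) hξ
  obtain ⟨Sq, hSq1, hSq2⟩ := exists_valuativeCommSq_of_specializes (𝟙 U₀.left) u u₀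
    (by simpa using hu1)
  let φ : A →+* Sq.R := (Spec.preimage (Sq.i₂ ≫ hl)).hom
  have hφ : Spec.map (CommRingCat.ofHom φ) = Sq.i₂ ≫ hl := Spec.map_preimage _
  have hloc : IsLocalHom φ := by
    rw [isLocalHom_iff_comap_closedPoint]
    have h1 : (Spec.map (CommRingCat.ofHom φ)) (closedPoint Sq.R) = closedPoint A := by
      rw [hφ, Scheme.Hom.comp_apply, hSq2]
      exact hu₀A
    exact h1
  have hinj : Function.Injective φ := by
    have hg : Spec.map (CommRingCat.ofHom ((algebraMap Sq.R Sq.K).comp φ)) = Sq.i₁ ≫ hl := by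
      rw [CommRingCat.ofHom_comp, Spec.map_comp, hφ, ← Category.assoc, ← Sq.commSq.w,
        Category.comp_id]
    have h1 : (Spec.map (CommRingCat.ofHom ((algebraMap Sq.R Sq.K).comp φ))) (closedPoint Sq.K) =
        ξ := by
      rw [hg, Scheme.Hom.comp_apply, hSq1]
      exact hu2
    have h2 : RingHom.ker ((algebraMap Sq.R Sq.K).comp φ) = ⊥ := by
      have h3 := congrArg PrimeSpectrum.asIdeal h1
      have h4 : (closedPoint Sq.K).asIdeal = ⊥ := by
        show maximalIdeal Sq.K = ⊥
        exact IsLocalRing.maximalIdeal_eq_bot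
      change Ideal.comap _ (closedPoint Sq.K).asIdeal = ⊥ at h3
      rw [h4] at h3
      exact h3
    have h5 : Function.Injective ((algebraMap Sq.R Sq.K).comp φ) :=
      (RingHom.injective_iff_ker_eq_bot _).2 h2
    exact Function.Injective.of_comp (f := algebraMap Sq.R Sq.K) h5
  have hi₂ : Sq.i₂ ≫ U₀.hom = Spec.map (CommRingCat.ofHom φ) ≫ str := by
    rw [hφ, Category.assoc]
    congr 1
    exact (Over.w h).symm
  let ptA' : Over S := Over.mk (Spec.map (CommRingCat.ofHom φ) ≫ str)
  let i₂O : ptA' ⟶ U₀ := Over.homMk Sq.i₂ hi₂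
  let φO : ptA' ⟶ ptA := Over.homMk (Spec.map (CommRingCat.ofHom φ)) rfl
  have e3 : i₂O ≫ h = φO := Over.OverMorphism.ext hφ.symm
  refine ⟨Sq.R, inferInstance, inferInstance, inferInstance, φ, hinj, hloc,
    (yon S).map i₂O ≫ a₀ ≫ pullback.fst f b, ?_⟩
  rw [Category.assoc, Category.assoc, pullback.condition, ← Category.assoc a₀, ← hh,
    ← Category.assoc, ← Functor.map_comp, e3]

end Groth.Agent.Helper2.AlgSpBasic
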