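import Mathlib
import Groth.Prelude.Def_AlgSp4
import Groth.Prelude.Def_AlgSpDec
import Groth.Prelude.Def_Flat
import Groth.Agent.Lib.Helper2.AlgSp.ChartIndep
import Groth.Agent.Lib.Helper2.AlgSp.ChartIndepMor
import Groth.Agent.Lib.Helper2.AlgSp.DimIneqSp
import Groth.Agent.Lib.Helper2.AlgSp.NoethDescent
import Groth.Agent.Lib.Helper2.Sch.LocalDimEtale
import Groth.Agent.Lib.Helper2.FibDim.FlatLocalDim

/-!
# The local dimension formula for flat morphisms of relative dimension `d` of algebraic spaces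
(S10314) (helper2)
-/

set_option autoImplicit false
set_option backward.isDefEq.respectTransparency false

open CategoryTheory CategoryTheory.Limits AlgebraicGeometry Opposite AlgSp

namespace Groth.Agent.Helper2.FlatLocalDimSp
universe u
variable {S : Scheme.{u}}

open Groth.Agent.Helper2.ChartIndep Groth.Agent.Helper2.ChartIndepMor

/-- S10314 -/
theorem S10314_main {X Y : Sp S} (hXa : IsAlgSpace X) (hYa : IsAlgSpace Y) (f : X ⟶ Y)
    (hY : IsLocNoethSp Y) (hf : LocP @Flat f) (hf' : LocP @LocallyOfFiniteType f) (d : ℕ)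
    (hd : ∀ x : Points X,
      HasAtMor (fun _ _ h u => FlatMor.fibreDimAt h u = (d : WithBot ℕ∞)) f x)
    (x : Points X) (dX dY : WithBot ℕ∞)
    (hx : HasAt (fun U u => FlatMor.localDim ↥U u = dX) X x)
    (hy : HasAt (fun U u => FlatMor.localDim ↥U u = dY) Y (Points.map f x)) :
    dX = dY + (d : WithBot ℕ∞) := by
  obtain ⟨U, V, p, q, h, u, hp, hq, comm, hu, -⟩ := hd x
  haveI : IsLocallyNoetherian V.left :=
    AlgSpBasic.isLocallyNoetherian_of_etale_of_isLocNoethSp hY q hq
  haveI : LocallyOfFiniteType h.left := hf' p q h hp hq comm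
  haveI : Flat h.left := hf p q h hp hq comm
  have hall : ∀ u' : ↥U.left, FlatMor.fibreDimAt h.left u' = (d : WithBot ℕ∞) := fun u' =>
    of_hasAtMor (etaleLocalST_fibreDimAt_eq _) hXa.diag hYa.diag f _ (hd (Points.ofPt p u'))
      p q h hp hq comm u' rfl
  have ha' : FlatMor.localDim ↥U.left u = dX :=
    (hasAt_iff_forall (LocalDimEtale.etaleInvariant_localDim dX) hXa x).1 hx U p u hp hu
  have hv : Points.ofPt q (h.left u) = Points.map f x := by
    rw [← hu]; exact DimIneqSp.ofPt_map_eq f p q h comm u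
  have hb' : FlatMor.localDim ↥V.left (h.left u) = dY :=
    (hasAt_iff_forall (LocalDimEtale.etaleInvariant_localDim dY) hYa _).1 hy V q (h.left u) hq hv
  rw [← ha', ← hb']
  exact Groth.Agent.Helper2.FibDim.localDim_eq_add_of_fibreDimAt h.left d hall u

end Groth.Agent.Helper2.FlatLocalDimSp
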