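import Mathlib
import Groth.Agent.Lib.Helper2.AlgSp.FlatFibresSp
import Groth.Agent.Lib.Helper2.Sch.FlatAtFibreBC
import Groth.Agent.Lib.Lead.FlatLoc13

/-!
# The flat locus of a morphism of algebraic spaces over a base (helper2)
-/

set_option autoImplicit false
set_option linter.style.haveILetI false

open CategoryTheory CategoryTheory.Limits AlgebraicGeometry Opposite AlgSp

universe u

namespace Groth.Agent.Helper2.FlatFibresSp

open Groth.Agent.Helper2.AlgSpBasic Groth.Agent.Helper2.FlatPt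

variable {S : Scheme.{u}}

/-- Flatness at a point does not depend on the chart diagram. -/
theorem flatAt_chart_indep {X Y : Sp S} (hX : IsAlgSpace X) (hY : IsAlgSpace Y) (f : X ⟶ Y)
    {U V U' V' : Over S} (a : (yon S).obj U ⟶ X) (b : (yon S).obj V ⟶ Y) (k : U ⟶ V)
    (ha : RepWith @Etale a) (hb : RepWith @Etale b) (hc : a ≫ f = (yon S).map k ≫ b)
    (a' : (yon S).obj U' ⟶ X) (b' : (yon S).obj V' ⟶ Y) (k' : U' ⟶ V')
    (ha' : RepWith @Etale a') (hb' : RepWith @Etale b') (hc' : a' ≫ f = (yon S).map k' ≫ b')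
    (u : ↥U.left) (u' : ↥U'.left) (e : Points.ofPt a u = Points.ofPt a' u')
    (hfl : FlatAt k.left u) : FlatAt k'.left u' := by
  obtain ⟨U'', p₁, p₂, sqU⟩ := exists_isPullback_yon hX.diag a a'
  obtain ⟨V'', q₁, q₂, sqV⟩ := exists_isPullback_yon hY.diag b b'
  haveI hp₁ : Etale p₁.left := ha'.property a _ _ sqU.flip
  haveI hp₂ : Etale p₂.left := ha.property a' _ _ sqU
  haveI hq₁ : Etale q₁.left := hb'.property b _ _ sqV.flip
  haveI hq₂ : Etale q₂.left := hb.property b' _ _ sqV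
  obtain ⟨u'', hu1, hu2⟩ := exists_point_of_isPullback_yon a a' p₁ p₂ sqU u u' e
  have hcomm : (yon S).map (p₁ ≫ k) ≫ b = (yon S).map (p₂ ≫ k') ≫ b' := by
    rw [Functor.map_comp, Functor.map_comp, Category.assoc, Category.assoc, ← hc, ← hc',
      ← Category.assoc, ← Category.assoc, sqU.w]
  obtain ⟨k'', hk''⟩ := (yon S).map_surjective (sqV.lift _ _ hcomm)
  have hk1 : k'' ≫ q₁ = p₁ ≫ k :=
    (yon S).map_injective (by rw [Functor.map_comp, hk'', sqV.lift_fst])
  have hk2 : k'' ≫ q₂ = p₂ ≫ k' :=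
    (yon S).map_injective (by rw [Functor.map_comp, hk'', sqV.lift_snd])
  have hk1' : k''.left ≫ q₁.left = p₁.left ≫ k.left := by
    rw [← Over.comp_left, ← Over.comp_left, hk1]
  have hk2' : k''.left ≫ q₂.left = p₂.left ≫ k'.left := by
    rw [← Over.comp_left, ← Over.comp_left, hk2]
  have h1 : FlatAt (p₁.left ≫ k.left) u'' :=
    FlatAt.comp (flatAt_of_flat p₁.left u'') (by rw [hu1]; exact hfl)
  rw [← hk1'] at h1
  have h2 : FlatAt k''.left u'' := FlatAt.of_postcomp_etale h1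
  have h3 : FlatAt (k''.left ≫ q₂.left) u'' := FlatAt.comp h2 (flatAt_of_flat q₂.left _)
  rw [hk2'] at h3
  have h4 := FlatAt.of_comp h3 (flatAt_of_flat p₂.left u'')
  rw [hu2] at h4
  exact h4

/-- Flatness at a point, read on one chart diagram. -/
theorem isFlatAtMor_iff_chart {X Y : Sp S} (hX : IsAlgSpace X) (hY : IsAlgSpace Y) (f : X ⟶ Y)
    {U V : Over S} (a : (yon S).obj U ⟶ X) (b : (yon S).obj V ⟶ Y) (k : U ⟶ V)
    (ha : RepWith @Etale a) (hb : RepWith @Etale b) (hc : a ≫ f = (yon S).map k ≫ b)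
    (u : ↥U.left) : IsFlatAtMor f (Points.ofPt a u) ↔ FlatAt k.left u := by
  constructor
  · intro h
    exact h a b k u ha hb hc rfl
  · intro h U' V' a' b' k' u' ha' hb' hc' hu'
    exact flatAt_chart_indep hX hY f a b k ha hb hc a' b' k' ha' hb' hc' u u' hu'.symm h

/-- Base change of a strong chart. -/
theorem exists_strongChart_baseChange {B C B' C' : Sp S} (q : B ⟶ C) (g : C' ⟶ C)
    (pB : B' ⟶ B) (q' : B' ⟶ C') (sqB : IsPullback pB q' q g)
    {V W W' : Over S} (γ : (yon S).obj W ⟶ C) {BW : Sp S} (π₁ : BW ⟶ B)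
    (π₂ : BW ⟶ (yon S).obj W) (sqW : IsPullback π₁ π₂ q γ)
    (β₀ : (yon S).obj V ⟶ BW) (k : V ⟶ W) (hk : (yon S).map k = β₀ ≫ π₂)
    (γ' : (yon S).obj W' ⟶ C') (n : W' ⟶ W) (hn : γ' ≫ g = (yon S).map n ≫ γ)
    {V' : Over S} (m : V' ⟶ V) (k' : V' ⟶ W')
    (sqV : IsPullback ((yon S).map m) ((yon S).map k') ((yon S).map k) ((yon S).map n))
    {BW' : Sp S} (π₁' : BW' ⟶ B') (π₂' : BW' ⟶ (yon S).obj W')
    (sqW' : IsPullback π₁' π₂' q' γ') :
    ∃ β₀' : (yon S).obj V' ⟶ BW', β₀' ≫ π₂' = (yon S).map k' ∧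
      (β₀' ≫ π₁') ≫ pB = (yon S).map m ≫ β₀ ≫ π₁ ∧
      ∀ (P : MorphismProperty Scheme.{u}), RepWith P β₀ → RepWith P β₀' := by
  have hωc : (π₁' ≫ pB) ≫ q = (π₂' ≫ (yon S).map n) ≫ γ := by
    rw [Category.assoc, sqB.w, ← Category.assoc, sqW'.w, Category.assoc, hn, Category.assoc]
  obtain ⟨ω, hω⟩ : ∃ ω, ω = sqW.lift _ _ hωc := ⟨_, rfl⟩
  have hω1 : ω ≫ π₁ = π₁' ≫ pB := by rw [hω, sqW.lift_fst]
  have hω2 : ω ≫ π₂ = π₂' ≫ (yon S).map n := by rw [hω, sqW.lift_snd]
  have sqA : IsPullback ω π₂' π₂ ((yon S).map n) := by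
    refine IsPullback.of_right ?_ hω2 sqW
    rw [hω1, ← hn]
    exact sqW'.paste_horiz sqB
  have hβc : ((yon S).map m ≫ β₀) ≫ π₂ = (yon S).map k' ≫ (yon S).map n := by
    rw [Category.assoc, ← hk, sqV.w]
  obtain ⟨β₀', hβ₀'⟩ : ∃ β₀', β₀' = sqA.lift _ _ hβc := ⟨_, rfl⟩
  have hβ1 : β₀' ≫ ω = (yon S).map m ≫ β₀ := by rw [hβ₀', sqA.lift_fst]
  have hβ2 : β₀' ≫ π₂' = (yon S).map k' := by rw [hβ₀', sqA.lift_snd]
  have sqBB : IsPullback β₀' ((yon S).map m) ω β₀ := by
    refine IsPullback.of_right ?_ hβ1 sqA.flip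
    rw [hβ2, ← hk]
    exact sqV.flip
  refine ⟨β₀', hβ2, ?_, fun P hP => repWith_of_isPullback P sqBB.flip hP⟩
  rw [Category.assoc, ← hω1, ← Category.assoc, hβ1, Category.assoc]

/-- Scheme-level pullback from a pullback of representable sheaves. -/
theorem isPullback_left_of_yon {A B C D : Over S} {f : A ⟶ B} {g : A ⟶ C} {h : B ⟶ D} {i : C ⟶ D}
    (sq : IsPullback ((yon S).map f) ((yon S).map g) ((yon S).map h) ((yon S).map i)) :
    IsPullback f.left g.left h.left i.left := by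
  have h1 : IsPullback f g h i :=
    IsPullback.of_map (yon S) ((yon S).map_injective (by
      rw [Functor.map_comp, Functor.map_comp]; exact sq.w)) sq
  exact h1.map (Over.forget S)

set_option maxHeartbeats 800000 in
/-- S10609 core. -/
theorem flatLocus_main {X Y Z : Sp S} (hX : IsAlgSpace X) (hY : IsAlgSpace Y) (hZ : IsAlgSpace Z)
    (f : X ⟶ Y) (h : Y ⟶ Z)
    (hfp : LocP @LocallyOfFinitePresentation (f ≫ h)) (hfl : LocP @Flat (f ≫ h))
    (hft : LocP @LocallyOfFiniteType h) :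
    IsOpen {x : Points X | IsFlatAtMor f x} ∧
    ∀ (X' Y' Z' : Sp S), IsAlgSpace X' → IsAlgSpace Y' → IsAlgSpace Z' →
      ∀ (g : Z' ⟶ Z) (f' : X' ⟶ Y') (h' : Y' ⟶ Z') (pX : X' ⟶ X) (pY : Y' ⟶ Y),
      IsPullback pY h' h g → IsPullback pX f' f pY →
      {x' : Points X' | IsFlatAtMor f' x'} =
        Points.map pX ⁻¹' {x : Points X | IsFlatAtMor f x} := by
  obtain ⟨T⟩ := exists_tower hX hY hZ f h
  have hcomm : T.a ≫ f ≫ h = (yon S).map (T.k₁ ≫ T.k₂) ≫ T.c := T.comm_ac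
  haveI h1 : LocallyOfFinitePresentation (T.k₁.left ≫ T.k₂.left) := by
    rw [← Over.comp_left]
    exact hfp T.a T.c (T.k₁ ≫ T.k₂) T.hae T.hce hcomm
  haveI h2 : Flat (T.k₁.left ≫ T.k₂.left) := by
    rw [← Over.comp_left]
    exact hfl T.a T.c (T.k₁ ≫ T.k₂) T.hae T.hce hcomm
  haveI h3 : LocallyOfFiniteType T.k₂.left := hft T.b T.c T.k₂ T.hbe T.hce T.comm_b
  haveI h4 : LocallyOfFinitePresentation T.k₁.left :=
    Groth.Agent.Lead.CritFib.locallyOfFinitePresentation_of_comp T.k₁.left T.k₂.left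
  have hchart : ∀ u : ↥T.U.left, IsFlatAtMor f (Points.ofPt T.a u) ↔ FlatAt T.k₁.left u :=
    fun u => isFlatAtMor_iff_chart hX hY f T.a T.b T.k₁ T.hae T.hbe T.comm_a u
  constructor
  · have hF : IsOpen {u : ↥T.U.left | FlatAt T.k₁.left u} :=
      Groth.Agent.Lead.FlatLoc.isOpen_flatLocus_of_locallyOfFinitePresentation T.k₁.left
    have heq : {x : Points X | IsFlatAtMor f x} =
        Points.ofPt T.a '' {u : ↥T.U.left | FlatAt T.k₁.left u} := by
      ext x
      constructor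
      · intro hx
        obtain ⟨u, rfl⟩ := surjective_ofPt T.a T.has x
        exact ⟨u, (hchart u).mp hx, rfl⟩
      · rintro ⟨u, hu, rfl⟩
        exact (hchart u).mpr hu
    rw [heq]
    exact isOpenMap_ofPt T.a T.hae _ hF
  · intro X' Y' Z' hX' hY' hZ' g f' h' pX pY sqYb sqXb
    -- the chart of `Z'`
    have sqZ := IsPullback.of_hasPullback g T.c
    have hZW : IsAlgSpace (pullback g T.c) :=
      isAlgSpace_of_isPullback hZ.diag hZ' (IsAlgSpace.yon_obj T.W) g T.c _ _ sqZ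
    obtain ⟨W', c₀', hc₀'e, hc₀'s⟩ := hZW.atlas
    obtain ⟨n, hn⟩ := (yon S).map_surjective (c₀' ≫ pullback.snd g T.c)
    have hγ₁e : RepWith @Etale (pullback.fst g T.c) := repWith_of_isPullback @Etale sqZ.flip T.hce
    have hγ₁s : RepWith @Surjective (pullback.fst g T.c) :=
      repWith_of_isPullback @Surjective sqZ.flip T.hcs
    obtain ⟨c', hc'⟩ : ∃ c', c' = c₀' ≫ pullback.fst g T.c := ⟨_, rfl⟩
    have hc'e : RepWith @Etale c' := by rw [hc']; exact repWith_comp @Etale hc₀'e hγ₁e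
    have hc's : RepWith @Surjective c' := by rw [hc']; exact repWith_comp @Surjective hc₀'s hγ₁s
    have hnc : c' ≫ g = (yon S).map n ≫ T.c := by
      rw [hc', Category.assoc, sqZ.w, ← Category.assoc, ← hn]
    -- the chart of `Y'`
    obtain ⟨V', m, k₂', sqV⟩ :=
      exists_isPullback_yon (IsAlgSpace.yon_obj T.W).diag ((yon S).map T.k₂) ((yon S).map n)
    have sqW' := IsPullback.of_hasPullback h' c'
    obtain ⟨b₀', hb₀'2, hb₀'1, hPb⟩ := exists_strongChart_baseChange h g pY h' sqYb T.c T.π₁ T.π₂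
      T.sqY T.b₀ T.k₂ T.hk₂ c' n hnc m k₂' sqV (pullback.fst h' c') (pullback.snd h' c') sqW'
    have hπ₁'e : RepWith @Etale (pullback.fst h' c') := repWith_of_isPullback @Etale sqW'.flip hc'e
    have hπ₁'s : RepWith @Surjective (pullback.fst h' c') :=
      repWith_of_isPullback @Surjective sqW'.flip hc's
    obtain ⟨b', hb'⟩ : ∃ b', b' = b₀' ≫ pullback.fst h' c' := ⟨_, rfl⟩
    have hb'e : RepWith @Etale b' := by
      rw [hb']; exact repWith_comp @Etale (hPb _ T.hb₀e) hπ₁'e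
    have hb's : RepWith @Surjective b' := by
      rw [hb']; exact repWith_comp @Surjective (hPb _ T.hb₀s) hπ₁'s
    have hmb : b' ≫ pY = (yon S).map m ≫ T.b₀ ≫ T.π₁ := by rw [hb']; exact hb₀'1
    -- the chart of `X'`
    obtain ⟨U', pr, k₁', sqU⟩ :=
      exists_isPullback_yon (IsAlgSpace.yon_obj T.V).diag ((yon S).map T.k₁) ((yon S).map m)
    have sqXV' := IsPullback.of_hasPullback f' b'
    obtain ⟨a₀', ha₀'2, ha₀'1, hPa⟩ := exists_strongChart_baseChange f pY pX f' sqXb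
      (T.b₀ ≫ T.π₁) T.ρ₁ T.ρ₂ T.sqX T.a₀ T.k₁ T.hk₁ b' m hmb pr k₁' sqU (pullback.fst f' b')
      (pullback.snd f' b') sqXV'
    have hρ₁'e : RepWith @Etale (pullback.fst f' b') := repWith_of_isPullback @Etale sqXV'.flip hb'e
    have hρ₁'s : RepWith @Surjective (pullback.fst f' b') :=
      repWith_of_isPullback @Surjective sqXV'.flip hb's
    obtain ⟨a', ha'⟩ : ∃ a', a' = a₀' ≫ pullback.fst f' b' := ⟨_, rfl⟩
    have ha'e : RepWith @Etale a' := by
      rw [ha']; exact repWith_comp @Etale (hPa _ T.ha₀e) hρ₁'e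
    have ha's : RepWith @Surjective a' := by
      rw [ha']; exact repWith_comp @Surjective (hPa _ T.ha₀s) hρ₁'s
    have hpra : a' ≫ pX = (yon S).map pr ≫ T.a := by rw [ha']; exact ha₀'1
    have hc' : a' ≫ f' = (yon S).map k₁' ≫ b' := by
      rw [ha', Category.assoc, sqXV'.w, ← Category.assoc, ha₀'2]
    -- the scheme-level squares
    have hYs : IsPullback m.left k₂'.left T.k₂.left n.left := isPullback_left_of_yon sqV
    have hXs : IsPullback pr.left k₁'.left T.k₁.left m.left := isPullback_left_of_yon sqU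
    ext x'
    obtain ⟨u', rfl⟩ := surjective_ofPt a' ha's x'
    have hmapx : Points.map pX (Points.ofPt a' u') = Points.ofPt T.a (pr.left u') := by
      rw [Points.map_ofPt, hpra, ofPt_yon_map_comp]
    show IsFlatAtMor f' (Points.ofPt a' u') ↔ IsFlatAtMor f (Points.map pX (Points.ofPt a' u'))
    rw [hmapx, hchart, isFlatAtMor_iff_chart hX' hY' f' a' b' k₁' ha'e hb'e hc' u']
    constructor
    · intro hu'
      exact flatAt_of_flatAt_baseChange T.k₁.left T.k₂.left n.left m.left k₂'.left hYs pr.left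
        k₁'.left hXs u' hu'
    · intro hu
      exact flatAt_of_isPullback' T.k₁.left m.left k₁'.left pr.left hXs u' hu

end Groth.Agent.Helper2.FlatFibresSp
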