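import Mathlib
import Groth.Prelude.Def_AlgSp4
import Groth.Prelude.Def_AlgSpDec
import Groth.Prelude.Def_Flat
import Groth.Agent.Lib.Helper2.AlgSp.QfAtBCSp
import Groth.Agent.Lib.Helper2.AlgSp.OpenSub
import Groth.Agent.Lib.Helper2.Sch.FibreDimZero

/-!
# The quasi-finite locus of a morphism of algebraic spaces locally of finite type
-/

set_option autoImplicit false
set_option backward.isDefEq.respectTransparency false

open CategoryTheory CategoryTheory.Limits AlgebraicGeometry Opposite AlgSp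

namespace Groth.Agent.Helper2.QfLocusSp
universe u
variable {S : Scheme.{u}}

open Groth.Agent.Helper2.ChartIndep Groth.Agent.Helper2.QfAt Groth.Agent.Helper2.QfAtSp

theorem isOpen_qfLocus {X Y : Sp S} (hX : IsAlgSpace X) (hY : IsAlgSpace Y) (f : X ⟶ Y)
    (hf : LocP @LocallyOfFiniteType f) : IsOpen {x : Points X | HasAtMor QfQ f x} := by
  obtain ⟨V, b, hbe, hbs⟩ := hY.atlas
  obtain ⟨U, a, h, hae, has, c⟩ := AlgSpBasic.exists_chart_lift hX f b hbe hbs
  haveI : LocallyOfFiniteType h.left := hf a b h hae hbe c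
  have : {x : Points X | HasAtMor QfQ f x} =
      Points.ofPt a '' (h.left.quasiFiniteLocus : Set ↥U.left) := by
    ext x
    constructor
    · intro hx
      obtain ⟨u, hu⟩ := AlgSpBasic.surjective_ofPt a has x
      exact ⟨u, quasiFiniteAt_of_hasAtMor hX.diag hY.diag f hf x hx a b h hae hbe c u hu, hu⟩
    · rintro ⟨u, hu, rfl⟩
      exact hasAtMor_of_quasiFiniteAt f hf a b h hae hbe c u hu
  rw [this]
  exact AlgSpBasic.isOpenMap_ofPt a hae _ h.left.quasiFiniteLocus.2

/-- On an open subspace contained in the quasi-finite locus the morphism is locally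
quasi-finite. -/
theorem locP_lqf_of_range_subset {X Y X' : Sp S} (hX : IsAlgSpace X) (hY : IsAlgSpace Y)
    (f : X ⟶ Y) (hf : LocP @LocallyOfFiniteType f) (j : X' ⟶ X)
    (hjo : RepWith @IsOpenImmersion j)
    (hjr : Set.range (Points.map j) ⊆ {x : Points X | HasAtMor QfQ f x}) :
    LocP (@LocallyQuasiFinite ⊓ @LocallyOfFiniteType) (j ≫ f) := by
  intro U' V' a' b' h' ha' hb' c'
  have hja : RepWith @Etale (a' ≫ j) :=
    AlgSpBasic.repWith_comp @Etale ha' (AlgSpBasic.repWith_isOpenImmersion_le_etale hjo)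
  have c'' : (a' ≫ j) ≫ f = (yon S).map h' ≫ b' := by rw [Category.assoc]; exact c'
  have hlft : LocallyOfFiniteType h'.left := hf (a' ≫ j) b' h' hja hb' c''
  refine ⟨?_, hlft⟩
  haveI := hlft
  rw [← Scheme.Hom.quasiFiniteLocus_eq_top_iff]
  refine top_le_iff.mp fun u' _ => ?_
  have hmem : Points.ofPt (a' ≫ j) u' ∈ Set.range (Points.map j) := ⟨Points.ofPt a' u', rfl⟩
  exact quasiFiniteAt_of_hasAtMor hX.diag hY.diag f hf _ (hjr hmem) (a' ≫ j) b' h' hja hb' c'' u' rfl

theorem localDim_nonneg {T : Type*} [TopologicalSpace T] (z : T) : 0 ≤ FlatMor.localDim T z :=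
  le_iInf fun U => FibreDimZero.topologicalKrullDim_nonneg_of_mem _ z U.2

/-- S10313. -/
theorem main {X Y : Sp S} (hX : IsAlgSpace X) (hY : IsAlgSpace Y) (f : X ⟶ Y)
    (hf : LocP @LocallyOfFiniteType f) :
    ∃ (X' : Sp S) (j : X' ⟶ X), IsAlgSpace X' ∧ RepWith @IsOpenImmersion j ∧
      LocP (@LocallyQuasiFinite ⊓ @LocallyOfFiniteType) (j ≫ f) ∧
      (∀ x : Points X, x ∉ Set.range (Points.map j) →
        HasAtMor (fun _ _ h u => 1 ≤ FlatMor.fibreDimAt h u) f x) ∧
      ∀ (Y'' X'' : Sp S) (_ : IsAlgSpace Y'') (_ : IsAlgSpace X'') (g : Y'' ⟶ Y) (b : X'' ⟶ X)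
        (f'' : X'' ⟶ Y''), IsPullback b f'' f g → ∀ x'' : Points X'',
          Points.map b x'' ∈ Set.range (Points.map j) ↔ HasAtMor QfQ f'' x'' := by
  obtain ⟨X', j, hX', hjm, hjo, hjr⟩ := AlgSpBasic.exists_openSubspace hX (isOpen_qfLocus hX hY f hf)
  refine ⟨X', j, hX', hjo, locP_lqf_of_range_subset hX hY f hf j hjo hjr.le, ?_, ?_⟩
  · intro x hx
    rw [hjr] at hx
    obtain ⟨V, b, hbe, hbs⟩ := hY.atlas
    obtain ⟨U, a, h, hae, has, c⟩ := AlgSpBasic.exists_chart_lift hX f b hbe hbs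
    haveI : LocallyOfFiniteType h.left := hf a b h hae hbe c
    obtain ⟨u, hu⟩ := AlgSpBasic.surjective_ofPt a has x
    refine ⟨U, V, a, b, h, u, hae, hbe, c, hu, ?_⟩
    apply FibreDimZero.one_le_of_not_le_zero
    intro hle
    have h0 : FlatMor.fibreDimAt h.left u = 0 := le_antisymm hle (localDim_nonneg _)
    apply hx
    rw [← hu]
    exact hasAtMor_of_quasiFiniteAt f hf a b h hae hbe c u
      ((FibreDimZero.fibreDimAt_eq_zero_iff u).mp h0)
  · intro Y'' X'' hY'' hX'' g b f'' sq x''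
    rw [hjr]
    exact (QfAtBCSp.hasAtMor_qf_bc_iff hX hY hX'' hY'' f g b f'' sq hf x'').symm

end Groth.Agent.Helper2.QfLocusSp
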