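import Mathlib
import Groth.Prelude.Def_AlgSp4
import Groth.Prelude.Def_AlgSpDec
import Groth.Agent.Lib.Helper2.Lqf.Main
import Groth.Agent.Lib.Helper2.Lqf.EtSplit
import Groth.Agent.Lib.Helper2.AlgSp.FiniteMor
import Groth.Agent.Lib.Helper2.AlgSp.UnivTop
import Groth.Agent.Lib.Helper2.AlgSp.UnivClosedQC
import Groth.Agent.Lib.Helper2.AlgSp.SepDescent
import Groth.Agent.Lib.Helper2.AlgSp.QfAtBCSp
import Groth.Agent.Lib.Helper2.AlgSp.QfLocusSp
import Groth.Agent.Lib.Helper2.AlgSp.DiscreteFibre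
import Groth.Agent.Lib.Helper2.AlgSp.QsFieldPt

/-!
# Proper and locally quasi-finite morphisms of algebraic spaces are finite (helper2)
-/

set_option autoImplicit false
universe u
open CategoryTheory CategoryTheory.Limits AlgebraicGeometry Opposite AlgSp
open Groth.Agent.Helper2.AlgSpBasic Groth.Agent.Helper2.EtaleLocal
open Groth.Agent.Helper2.Lqf Groth.Agent.Helper2.QfAtSp

namespace Groth.Agent.Helper2.ProperQf

variable {S : Scheme.{u}}

/-- A separated, locally quasi-finite, universally closed morphism of algebraic spaces is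
finite. -/
theorem isFiniteMor_of_sep_lqf_univClosed {X Y : Sp S} (hX : IsAlgSpace X) (hY : IsAlgSpace Y)
    (f : X ⟶ Y) (hsep : IsSeparatedMor f)
    (hqf : LocP (@LocallyQuasiFinite ⊓ @LocallyOfFiniteType) f) (huc : IsUnivClosedMor f) :
    IsFiniteMor f := by
  intro Z hZ g
  have hZs : IsAlgSpace ((yon S).obj Z) := IsAlgSpace.yon_obj Z
  obtain ⟨P, fst, snd, sq⟩ : ∃ (P : Sp S) (fst : P ⟶ X) (snd : P ⟶ (yon S).obj Z),
    IsPullback fst snd f g := ⟨_, _, _, IsPullback.of_hasPullback f g⟩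
  have hP : IsAlgSpace P := isAlgSpace_of_isPullback hY.diag hX hZs f g fst snd sq
  have h1 : IsSeparatedMor snd := repWith_diagonal_of_isPullback @IsClosedImmersion sq hsep
  have h2 : LocP (@LocallyQuasiFinite ⊓ @LocallyOfFiniteType) snd :=
    locP_of_isPullback _ hX hY hZs hP f g fst snd sq hqf
  obtain ⟨W, ⟨ε⟩⟩ := exists_iso_yon_of_sep_lqf hP snd h1 h2
  obtain ⟨i, hi⟩ : ∃ i : W ⟶ Z, (yon S).map i = ε.hom ≫ snd :=
    ⟨(yon S).preimage _, (yon S).map_preimage _⟩
  have sq' : IsPullback (ε.hom ≫ fst) ((yon S).map i) f g := by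
    rw [hi]
    exact IsPullback.of_iso sq ε.symm (Iso.refl _) (Iso.refl _) (Iso.refl _)
      (by simp) (by simp) (by simp) (by simp)
  have hW : IsAlgSpace ((yon S).obj W) := IsAlgSpace.yon_obj W
  have k1 : IsSeparated i.left :=
    (isSeparatedMor_yon_map_iff i).1 (repWith_diagonal_of_isPullback @IsClosedImmersion sq' hsep)
  have k2 : (@LocallyQuasiFinite ⊓ @LocallyOfFiniteType : MorphismProperty Scheme.{u}) i.left :=
    locP_yon_map (locP_of_isPullback _ hX hY hZs hW f g _ _ sq' hqf)
  have k3 : UniversallyClosed i.left := by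
    have h3 : IsUnivClosedMor ((yon S).map i) := univSp_of_isPullback' IsClosedMor sq' huc
    exact (repWith_yon_map_iff @UniversallyClosed i).1
      ((repWith_universallyClosed_iff _ (representable_yon_map i)).2 h3)
  have k4 : LocallyQuasiFinite i.left := k2.1
  have k5 : LocallyOfFiniteType i.left := k2.2
  have k6 : IsProper i.left := { }
  have k7 : IsFinite i.left := IsFinite.of_isProper_of_locallyQuasiFinite i.left
  have := hZ
  exact ⟨W, i, ε.hom ≫ fst, sq', isAffine_of_isAffineHom i.left, k7⟩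


/-- Finite morphisms are locally quasi-finite and locally of finite type. -/
theorem locP_lqf_lft_of_isFiniteMor {X Y : Sp S} (hX : IsAlgSpace X) {f : X ⟶ Y}
    (h : IsFiniteMor f) : LocP (@LocallyQuasiFinite ⊓ @LocallyOfFiniteType) f := by
  refine locP_of_forall_affine_yon (@LocallyQuasiFinite ⊓ @LocallyOfFiniteType) hX f
    fun Z hZ g _ => ?_
  obtain ⟨W, i, fst, sq, hW, hi⟩ := h hZ g
  exact ⟨W, i, fst, sq, inferInstance, inferInstance⟩

/-- Étale-local properties of the source can be checked after precomposing with an étale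
surjective morphism of algebraic spaces. -/
theorem locP_of_precomp_etale_surjective (P : MorphismProperty Scheme.{u}) [IsEtaleLocalST P]
    {U X Y : Sp S} (hU : IsAlgSpace U) (hX : IsAlgSpace X) (hY : IsAlgSpace Y) (p : U ⟶ X)
    (f : X ⟶ Y) (hp : IsEtaleMor p) (hps : IsSurjectiveMor p) (h : LocP P (p ≫ f)) :
    LocP P f := by
  obtain ⟨U₀, a₀, hae, has⟩ := hU.atlas
  have h1 : RepWith @Etale (a₀ ≫ p) := hp a₀ hae
  have h2 : RepWith @Surjective (a₀ ≫ p) :=
    repWith_surjective_of_isSurjectiveMor _ h1.rep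
      (isSurjectiveMor_comp a₀ p (isSurjectiveMor_of_repWith_surjective a₀ has) hps)
  refine locP_of_source_cover P hX hY f U₀ (a₀ ≫ p) h1 h2 ?_
  rw [Category.assoc]
  exact locP_comp P (IsAlgSpace.yon_obj U₀) hU hY a₀ (p ≫ f)
    (locP_of_repWith P (IsAlgSpace.yon_obj U₀).diag a₀
      (repWith_mono (fun _ _ _ hh => IsEtaleLocalST.of_etale _ hh) hae)) h

/-- `S16833`: if `p` is étale surjective, `f` separated and `p ≫ f` finite, then `f` is finite. -/
theorem isFiniteMor_of_etale_surjective_precomp {U X Y : Sp S} (hU : IsAlgSpace U)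
    (hX : IsAlgSpace X) (hY : IsAlgSpace Y) (p : U ⟶ X) (f : X ⟶ Y) (hp : IsEtaleMor p)
    (hps : IsSurjectiveMor p) (hf : IsSeparatedMor f) (h : IsFiniteMor (p ≫ f)) :
    IsFiniteMor f := by
  have hpr := isProperMor_of_isFiniteMor hU hY h
  refine isFiniteMor_of_sep_lqf_univClosed hX hY f hf ?_
    (isUnivClosedMor_of_surjective_triangle p f hpr.2.2 hps)
  exact locP_of_precomp_etale_surjective _ hU hX hY p f hp hps (locP_lqf_lft_of_isFiniteMor hU h)


/-- A morphism locally of finite type which is quasi-finite at every point is locally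
quasi-finite. -/
theorem locP_lqf_of_forall_hasAtMor {X Y : Sp S} (hX : IsAlgSpace X) (hY : IsAlgSpace Y)
    (f : X ⟶ Y) (hf : LocP @LocallyOfFiniteType f) (h : ∀ x : Points X, HasAtMor QfQ f x) :
    LocP (@LocallyQuasiFinite ⊓ @LocallyOfFiniteType) f := by
  have := Groth.Agent.Helper2.QfLocusSp.locP_lqf_of_range_subset hX hY f hf (𝟙 X)
    (repWith_of_isIso @IsOpenImmersion (𝟙 X)) (fun x _ => h x)
  rwa [Category.id_comp] at this

/-- `S10650`: a proper morphism which is quasi-finite at all points over `y` is finite over an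
open neighbourhood of `y`. -/
theorem exists_open_finite_of_proper_qf_fibre {X Y : Sp S} (hX : IsAlgSpace X)
    (hY : IsAlgSpace Y) (f : X ⟶ Y) (y : Points Y) (hf : IsProperMor f)
    (hq : ∀ x : Points X, Points.map f x = y → HasAtMor QfQ f x) :
    ∃ O : Set (Points Y), IsOpen O ∧ y ∈ O ∧
      ∀ (P : Sp S) (fst : P ⟶ X) (snd : P ⟶ openSub Y O), IsAlgSpace P →
        IsPullback fst snd f (openSubι Y O) → IsFiniteMor snd := by
  obtain ⟨hsep, ⟨hlft, -⟩, huc⟩ := hf
  have hQ : IsOpen {x : Points X | HasAtMor QfQ f x} :=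
    Groth.Agent.Helper2.QfLocusSp.isOpen_qfLocus hX hY f hlft
  have hcl : IsClosedMap (Points.map f) := isClosedMap_of_isUnivClosedMor hY f huc
  have hC : IsClosed (Points.map f '' {x : Points X | HasAtMor QfQ f x}ᶜ) :=
    hcl _ hQ.isClosed_compl
  refine ⟨(Points.map f '' {x : Points X | HasAtMor QfQ f x}ᶜ)ᶜ, hC.isOpen_compl, ?_, ?_⟩
  · rintro ⟨c, hc, hcy⟩
    exact hc (hq c hcy)
  · intro P fst snd hP sq
    have hO : IsAlgSpace (openSub Y (Points.map f '' {x : Points X | HasAtMor QfQ f x}ᶜ)ᶜ) :=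
      isAlgSpace_openSub hY hC.isOpen_compl
    refine isFiniteMor_of_sep_lqf_univClosed hP hO snd
      (repWith_diagonal_of_isPullback @IsClosedImmersion sq hsep) ?_
      (univSp_of_isPullback' IsClosedMor sq huc)
    have hlft' : LocP @LocallyOfFiniteType snd :=
      locP_of_isPullback _ hX hY hO hP f _ fst snd sq hlft
    refine locP_lqf_of_forall_hasAtMor hP hO snd hlft' fun p => ?_
    rw [Groth.Agent.Helper2.QfAtBCSp.hasAtMor_qf_bc_iff hX hY hP hO f _ fst snd sq hlft p]
    by_contra hn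
    have h1 : Points.map f (Points.map fst p) ∈
        Points.map f '' {x : Points X | HasAtMor QfQ f x}ᶜ := ⟨_, hn, rfl⟩
    have h2 := points_map_openSubι_mem Y _ (Points.map snd p)
    rw [← Points.map_comp, ← sq.w, Points.map_comp] at h2
    exact h2 h1


/-- A locally quasi-finite morphism is quasi-finite at every point. -/
theorem hasAtMor_of_locP_lqf {X Y : Sp S} (hX : IsAlgSpace X) (hY : IsAlgSpace Y) (f : X ⟶ Y)
    (h : LocP (@LocallyQuasiFinite ⊓ @LocallyOfFiniteType) f) (x : Points X) :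
    HasAtMor QfQ f x := by
  obtain ⟨V, b, hbe, hbs⟩ := hY.atlas
  obtain ⟨U, a, k, hae, has, hak⟩ := exists_chart_lift hX f b hbe hbs
  obtain ⟨u, rfl⟩ := surjective_ofPt a has x
  have hk := h a b k hae hbe hak
  have : LocallyQuasiFinite k.left := hk.1
  exact hasAtMor_of_quasiFiniteAt f (locP_mono (fun _ _ _ hh => hh.2) h) a b k hae hbe hak u
    (Scheme.Hom.quasiFiniteAt k.left u)

/-- An algebraic space separated and locally quasi-finite over a field has discrete space of
points. -/
theorem discreteTopology_points_of_sep_lqf {Q : Sp S} (hQ : IsAlgSpace Q) {K : Type u} [Field K]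
    (str : Spec (CommRingCat.of K) ⟶ S) (q : Q ⟶ (yon S).obj (Over.mk str))
    (hsep : IsSeparatedMor q) (hq : LocP (@LocallyQuasiFinite ⊓ @LocallyOfFiniteType) q) :
    DiscreteTopology (Points Q) := by
  obtain ⟨W, ⟨ε⟩⟩ := exists_iso_yon_of_sep_lqf hQ q hsep hq
  obtain ⟨i, hi⟩ : ∃ i : W ⟶ Over.mk str, (yon S).map i = ε.hom ≫ q :=
    ⟨(yon S).preimage _, (yon S).map_preimage _⟩
  have h1 : LocP (@LocallyQuasiFinite ⊓ @LocallyOfFiniteType) ((yon S).map i) := by
    rw [hi]
    exact locP_comp _ (IsAlgSpace.yon_obj W) hQ (IsAlgSpace.yon_obj _) ε.hom q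
      (locP_of_isIso _ hQ.diag ε.hom) hq
  have h2 := locP_yon_map h1
  have h3 : LocallyQuasiFinite i.left := h2.1
  have h4 : IsLocallyArtinian (Over.mk str).left :=
    inferInstanceAs (IsLocallyArtinian (Spec (CommRingCat.of K)))
  have h5 : IsLocallyArtinian W.left := IsLocallyArtinian.of_locallyQuasiFinite i.left
  have h6 : DiscreteTopology ↥W.left := inferInstance
  have h7 : DiscreteTopology (Points ((yon S).obj W)) :=
    (Points.schemeHomeo W).symm.isEmbedding.discreteTopology
  exact (pointsHomeoOfIso ε).symm.isEmbedding.discreteTopology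

/-- `S10649`. -/
theorem isFiniteMor_tfae {X Y : Sp S} (hX : IsAlgSpace X) (hY : IsAlgSpace Y) (f : X ⟶ Y) :
    [IsFiniteMor f,
      IsProperMor f ∧ LocP (@LocallyQuasiFinite ⊓ @LocallyOfFiniteType) f,
      IsProperMor f ∧
        ∀ (k : FieldPt Y) (Xk : Sp S) (fst : Xk ⟶ X) (snd : Xk ⟶ (yon S).obj k.pt),
          IsPullback fst snd f k.toHom → DiscreteTopology (Points Xk),
      IsUnivClosedMor f ∧ IsSeparatedMor f ∧ LocP @LocallyOfFiniteType f ∧
        ∀ (k : FieldPt Y) (Xk : Sp S) (fst : Xk ⟶ X) (snd : Xk ⟶ (yon S).obj k.pt),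
          IsPullback fst snd f k.toHom → DiscreteTopology (Points Xk)].TFAE := by
  tfae_have 1 → 2 := fun h =>
    ⟨isProperMor_of_isFiniteMor hX hY h, locP_lqf_lft_of_isFiniteMor hX h⟩
  tfae_have 2 → 1 := fun ⟨hp, hq⟩ => isFiniteMor_of_sep_lqf_univClosed hX hY f hp.1 hq hp.2.2
  tfae_have 2 → 3 := by
    rintro ⟨hp, hq⟩
    refine ⟨hp, fun k Xk fst snd sq => ?_⟩
    have hk : IsAlgSpace ((yon S).obj k.pt) := IsAlgSpace.yon_obj _
    have hXk : IsAlgSpace Xk := isAlgSpace_of_isPullback hY.diag hX hk f k.toHom fst snd sq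
    exact discreteTopology_points_of_sep_lqf hXk k.str snd
      (repWith_diagonal_of_isPullback @IsClosedImmersion sq hp.1)
      (locP_of_isPullback _ hX hY hk hXk f k.toHom fst snd sq hq)
  tfae_have 3 → 4 := fun ⟨hp, hd⟩ => ⟨hp.2.2, hp.1, hp.2.1.1, hd⟩
  tfae_have 4 → 2 := by
    rintro ⟨huc, hsep, hlft, hd⟩
    refine ⟨⟨hsep, ⟨hlft, isQuasiCompactMor_of_isUnivClosedMor hX hY f huc⟩, huc⟩, ?_⟩
    refine locP_lqf_of_forall_hasAtMor hX hY f hlft fun x => ?_
    obtain ⟨p, rfl⟩ := Points.mk_surjective x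
    obtain ⟨Xk, fst, snd, sq⟩ : ∃ (Xk : Sp S) (fst : Xk ⟶ X)
        (snd : Xk ⟶ (yon S).obj (p.map f).pt), IsPullback fst snd f (p.map f).toHom :=
      ⟨_, _, _, IsPullback.of_hasPullback f (p.map f).toHom⟩
    have hk : IsAlgSpace ((yon S).obj (p.map f).pt) := IsAlgSpace.yon_obj _
    have hXk : IsAlgSpace Xk := isAlgSpace_of_isPullback hY.diag hX hk f _ fst snd sq
    have hlft' : LocP @LocallyOfFiniteType snd :=
      locP_of_isPullback _ hX hY hk hXk f _ fst snd sq hlft
    have hqf := Groth.Agent.Helper2.DiscFib.locP_lqf_of_discrete_points hXk (p.map f).str snd hlft'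
      (hd (p.map f) Xk fst snd sq)
    obtain ⟨σ, hσ1, hσ2⟩ : ∃ σ : (yon S).obj (p.map f).pt ⟶ Xk, σ ≫ fst = p.toHom ∧
        σ ≫ snd = 𝟙 _ :=
      ⟨sq.lift p.toHom (𝟙 _) (by rw [FieldPt.toHom_map, Category.id_comp]; rfl),
        sq.lift_fst _ _ _, sq.lift_snd _ _ _⟩
    have hx' := hasAtMor_of_locP_lqf hXk hk snd hqf
      (Points.ofPt σ (IsLocalRing.closedPoint p.K))
    rw [Groth.Agent.Helper2.QfAtBCSp.hasAtMor_qf_bc_iff hX hY hXk hk f _ fst snd sq hlft,
      Points.map_ofPt, hσ1] at hx'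
    rw [← Points.ofPt_toHom p (IsLocalRing.closedPoint p.K)]
    exact hx'
  tfae_finish


/-- An algebraic space quasi-separated and locally of finite type over a field, with finitely many
points, is locally quasi-finite over the field. -/
theorem locP_lqf_of_finite_points {Q : Sp S} (hQ : IsAlgSpace Q) {K : Type u} [Field K]
    (str : Spec (CommRingCat.of K) ⟶ S) (q : Q ⟶ (yon S).obj (Over.mk str))
    (hqs : IsQuasiSeparatedMor q) (hq : LocP @LocallyOfFiniteType q) (hfin : Finite (Points Q)) :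
    LocP (@LocallyQuasiFinite ⊓ @LocallyOfFiniteType) q := by
  have : CompactSpace (Points Q) := Finite.compactSpace
  obtain ⟨U, a, hUa, hae, has⟩ := exists_affine_chart_of_compactSpace hQ
  obtain ⟨k, hk⟩ := (yon S).map_surjective (a ≫ q)
  have comm : a ≫ q = (yon S).map k ≫ 𝟙 _ := by rw [hk, Category.comp_id]
  have hlft : LocallyOfFiniteType k.left := hq a (𝟙 _) k hae (repWith_id _ _) comm
  -- fibres of `|U| → |Q|` are finite
  have hfib : ∀ x : Points Q, (Points.ofPt a ⁻¹' {x}).Finite := by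
    intro x
    obtain ⟨p, rfl⟩ := Points.mk_surjective x
    have hb : RepWith @QuasiCompact p.toHom :=
      Groth.Agent.Helper2.QsFieldPt.repWith_quasiCompact_of_isQuasiSeparatedMor hQ q hqs p.str
        p.toHom
    obtain ⟨W, w1, w2, sqW⟩ := exists_isPullback_yon hQ.diag a p.toHom
    have h1 : QuasiCompact w1.left := hb.property a _ _ sqW.flip
    have h2 : Etale w2.left := hae.property p.toHom _ _ sqW
    have h3 : CompactSpace ↥W.left := QuasiCompact.compactSpace_of_compactSpace w1.left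
    have h4 : LocallyQuasiFinite w2.left := EtaleLocal.locallyQuasiFinite_of_etale w2.left
    have hqsK : QuasiSeparatedSpace ↥p.pt.left :=
      inferInstanceAs (QuasiSeparatedSpace ↥(Spec (CommRingCat.of p.K)))
    have h5 : QuasiCompact w2.left := quasiCompact_of_compactSpace w2.left
    have h6 : Finite ↥W.left := by
      have hfp := w2.left.finite_preimage_singleton (IsLocalRing.closedPoint p.K)
      have huniv : (Set.univ : Set ↥W.left) ⊆ w2.left ⁻¹' {IsLocalRing.closedPoint p.K} := by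
        intro w _
        exact Subsingleton.elim (α := PrimeSpectrum p.K) _ _
      exact Set.finite_univ_iff.mp (hfp.subset huniv)
    refine (Set.finite_range w1.left).subset ?_
    intro u hu
    have hu' : Points.ofPt a u = Points.ofPt p.toHom (IsLocalRing.closedPoint p.K) := by
      rw [Points.ofPt_toHom]
      exact hu
    obtain ⟨w, hw1, -⟩ := exists_point_of_isPullback_yon a p.toHom w1 w2 sqW u _ hu'
    exact ⟨w, hw1⟩
  have hUfin : Finite ↥U.left := by
    have : (Set.univ : Set ↥U.left) = ⋃ x : Points Q, Points.ofPt a ⁻¹' {x} := by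
      ext u
      simp
    rw [← Set.finite_univ_iff, this]
    exact Set.finite_iUnion hfib
  have hlqf : LocallyQuasiFinite k.left :=
    LocallyQuasiFinite.of_finite_preimage_singleton k.left fun _ => Set.toFinite _
  exact locP_of_one_chart _ hQ.diag (IsAlgSpace.yon_obj _).diag q a (𝟙 _) k hae has
    (repWith_id _ _) comm ⟨hlqf, hlft⟩

/-- `S10750`: a proper morphism with a finite fibre over a field point is finite over an open
neighbourhood of the point. -/
theorem exists_open_finite_of_proper_finite_fibre {X Y : Sp S} (hX : IsAlgSpace X)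
    (hY : IsAlgSpace Y) (f : X ⟶ Y) (hf : IsProperMor f) (y : FieldPt Y) (Xy : Sp S)
    (fst : Xy ⟶ X) (snd : Xy ⟶ (yon S).obj y.pt) (sq : IsPullback fst snd f y.toHom)
    (hfin : Finite (Points Xy)) :
    ∃ O : Set (Points Y), IsOpen O ∧ Points.mk y ∈ O ∧
      ∀ (P : Sp S) (fst' : P ⟶ X) (snd' : P ⟶ openSub Y O), IsAlgSpace P →
        IsPullback fst' snd' f (openSubι Y O) → IsFiniteMor snd' := by
  have hk : IsAlgSpace ((yon S).obj y.pt) := IsAlgSpace.yon_obj _
  have hXy : IsAlgSpace Xy := isAlgSpace_of_isPullback hY.diag hX hk f y.toHom fst snd sq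
  have hlft' : LocP @LocallyOfFiniteType snd :=
    locP_of_isPullback _ hX hY hk hXy f _ fst snd sq hf.2.1.1
  have hqs : IsQuasiSeparatedMor snd :=
    repWith_mono (fun _ _ _ h => by
      have : IsClosedImmersion _ := h
      infer_instance) (repWith_diagonal_of_isPullback @IsClosedImmersion sq hf.1)
  have hqf := locP_lqf_of_finite_points hXy y.str snd hqs hlft' hfin
  refine exists_open_finite_of_proper_qf_fibre hX hY f (Points.mk y) hf fun x hx => ?_
  have e : Points.map y.toHom (Points.ofScheme y.pt (IsLocalRing.closedPoint y.K)) =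
      Points.map f x := by
    rw [← Points.ofPt_eq_map_ofScheme, Points.ofPt_toHom, hx]
  obtain ⟨x', -, hx'⟩ := points_exists_of_isPullback f y.toHom snd fst sq.flip _ x e
  have h1 := hasAtMor_of_locP_lqf hXy hk snd hqf x'
  rw [Groth.Agent.Helper2.QfAtBCSp.hasAtMor_qf_bc_iff hX hY hXy hk f _ fst snd sq hf.2.1.1,
    hx'] at h1
  exact h1

end Groth.Agent.Helper2.ProperQf
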