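import Mathlib
import Groth.Prelude.Def_AlgSp4
import Groth.Prelude.Def_AlgSpDec
import Groth.Prelude.Def_Flat
import Groth.Agent.Lib.Helper2.AlgSp.RelDimSp
import Groth.Agent.Lib.Helper2.AlgSp.QC
import Groth.Agent.Lib.Helper2.FibDim.DenseOpen2

/-!
# Relative dimension bounded over a dense open subspace, flat case, for algebraic spaces (S10653)
(helper2)
-/

set_option autoImplicit false
set_option backward.isDefEq.respectTransparency false

open CategoryTheory CategoryTheory.Limits AlgebraicGeometry Opposite AlgSp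

namespace Groth.Agent.Helper2.RelDimSp
universe u
variable {S : Scheme.{u}}

open Groth.Agent.Helper2.ChartIndepMor Groth.Agent.Helper2.QfAtSp

/-- S10653 -/
theorem S10653_main {X Y V P : Sp S} (hX : IsAlgSpace X) (hY : IsAlgSpace Y) (hV : IsAlgSpace V)
    (hP : IsAlgSpace P) (f : X ⟶ Y) (j : V ⟶ Y) (d : ℕ)
    (hf1 : LocP @Flat f) (hf2 : LocP @LocallyOfFiniteType f)
    (hj1 : RepWith @IsOpenImmersion j) (hj2 : Dense (Set.range (Points.map j)))
    (fst : P ⟶ X) (snd : P ⟶ V) (hPb : IsPullback fst snd f j)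
    (hVd : ∀ x, HasAtMor (fun _ _ h u => FlatMor.fibreDimAt h u ≤ (d : WithBot ℕ∞)) snd x)
    (h : LocP @LocallyOfFinitePresentation f ∨ IsQuasiCompactMor j) :
    ∀ x, HasAtMor (fun _ _ h u => FlatMor.fibreDimAt h u ≤ (d : WithBot ℕ∞)) f x := by
  obtain ⟨V₀, b, hbe, hbs⟩ := hY.atlas
  obtain ⟨U, a, h₀, hae, has, c⟩ := AlgSpBasic.exists_chart_lift hX f b hbe hbs
  haveI hflat : Flat h₀.left := hf1 a b h₀ hae hbe c
  haveI hlft : LocallyOfFiniteType h₀.left := hf2 a b h₀ hae hbe c
  have hrep := hj1.rep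
  have sq := hrep.isPullback b
  obtain ⟨ι, hι⟩ : ∃ ι : hrep.pullback b ⟶ V₀, ι = hrep.snd b := ⟨_, rfl⟩
  rw [← hι] at sq
  haveI hιo : IsOpenImmersion ι.left := hj1.property b _ _ sq
  -- the range of `ι`
  have hrange : Set.range ι.left = Points.ofPt b ⁻¹' Set.range (Points.map j) := by
    ext v
    constructor
    · rintro ⟨w, rfl⟩
      refine ⟨Points.ofPt (hrep.fst b) w, ?_⟩
      rw [Points.map_ofPt, sq.w, AlgSpBasic.ofPt_yon_map_comp]
    · rintro ⟨p, hp⟩
      obtain ⟨w, -, hw⟩ := AlgSpBasic.exists_point_of_isPullback_right j b (hrep.fst b) ι sq p v hp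
      exact ⟨w, hw⟩
  have hdense : Dense ((ι.left.opensRange : V₀.left.Opens) : Set ↥V₀.left) := by
    change Dense (Set.range ι.left)
    rw [hrange]
    exact hj2.preimage (AlgSpBasic.isOpenMap_ofPt b hbe)
  have hle : ∀ u : ↥U.left, h₀.left u ∈ ι.left.opensRange →
      FlatMor.fibreDimAt h₀.left u ≤ (d : WithBot ℕ∞) := by
    intro u hu
    have hu' : h₀.left u ∈ Points.ofPt b ⁻¹' Set.range (Points.map j) := by
      rw [← hrange]; exact hu
    obtain ⟨p, hp⟩ := hu'
    have hxp : Points.map j p = Points.map f (Points.ofPt a u) := by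
      rw [hp, Points.map_ofPt, c, AlgSpBasic.ofPt_yon_map_comp]
    obtain ⟨π, hπ1, hπ2⟩ := AlgSpBasic.points_exists_of_isPullback j f fst snd hPb
      (Points.ofPt a u) p hxp.symm
    have h1 := (hasAtMor_bc_iff (etaleLocalST_fibreDimAt_le (d : WithBot ℕ∞))
      (baseChangeInv_fibreDimAt_le (d : WithBot ℕ∞)) hX hY hP hV f j fst snd hPb hf2 π).mp (hVd π)
    rw [hπ1] at h1
    exact of_hasAtMor (etaleLocalST_fibreDimAt_le (d : WithBot ℕ∞)) hX.diag hY.diag f _ h1 a b h₀
      hae hbe c u rfl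
  have hcond : LocallyOfFinitePresentation h₀.left ∨
      IsRetrocompact ((ι.left.opensRange : V₀.left.Opens) : Set ↥V₀.left) := by
    rcases h with h | h
    · exact Or.inl (h a b h₀ hae hbe c)
    · right
      have hqc : QuasiCompact ι.left :=
        (AlgSpBasic.repWith_quasiCompact_of_isQuasiCompactMor j hrep h).property b _ _ sq
      intro K hKc hKo
      have h1 : IsCompact (ι.left ⁻¹' K) := hqc.isCompact_preimage K hKo hKc
      have h2 : ((ι.left.opensRange : V₀.left.Opens) : Set ↥V₀.left) ∩ K =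
          ι.left '' (ι.left ⁻¹' K) := by
        rw [Set.image_preimage_eq_inter_range, Set.inter_comm]
        rfl
      rw [h2]
      exact h1.image ι.left.continuous
  intro x
  obtain ⟨u, hu⟩ := AlgSpBasic.surjective_ofPt a has x
  rw [← hu]
  exact hasAtMor_of f a b h₀ hae hbe c u
    (Groth.Agent.Helper2.FibDim.S1240_main h₀.left ι.left.opensRange hdense d
      (fun u' hu' => hle u' hu') hcond u)

end Groth.Agent.Helper2.RelDimSp
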