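import Mathlib
import Groth.Agent.Lib.Helper2.AlgSp.RelDimSp5
import Groth.Agent.Lib.Helper2.AlgSp.ProperQf
import Groth.Agent.Lib.Helper2.Sch.FibreDimZero
import Groth.Agent.Lib.Helper4.ChevCrit7

/-!
# A flat proper morphism finite over a dense open is finite (helper2)
-/

set_option autoImplicit false
set_option linter.style.haveILetI false

open CategoryTheory CategoryTheory.Limits AlgebraicGeometry Opposite AlgSp

universe u

namespace Groth.Agent.Helper2.FlatProperFinite

open Groth.Agent.Helper2.AlgSpBasic Groth.Agent.Helper2.ChartIndepMor Groth.Agent.Helper2.RelDimSp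
open Groth.Agent.Helper2.ProperQf

variable {S : Scheme.{u}}

theorem fibreDimAt_nonneg {U V : Scheme.{u}} (k : U ⟶ V) (u : ↥U) :
    0 ≤ FlatMor.fibreDimAt k u := by
  unfold FlatMor.fibreDimAt FlatMor.localDim
  exact le_iInf fun W =>
    Groth.Agent.Helper2.FibreDimZero.topologicalKrullDim_nonneg_of_mem _ _ W.2

/-- S10654 -/
theorem S10654_main {X Y V P : Sp S} (hX : IsAlgSpace X) (hY : IsAlgSpace Y) (hV : IsAlgSpace V)
    (hP : IsAlgSpace P) (f : X ⟶ Y) (j : V ⟶ Y)
    (hf1 : LocP @Flat f) (hf2 : IsProperMor f)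
    (hj1 : RepWith @IsOpenImmersion j) (hj2 : Dense (Set.range (Points.map j)))
    (fst : P ⟶ X) (snd : P ⟶ V) (hPb : IsPullback fst snd f j) (hfin : IsFiniteMor snd)
    (h : LocP @LocallyOfFinitePresentation f ∨ IsQuasiCompactMor j) :
    IsFiniteMor f := by
  obtain ⟨hsep, ⟨hlft, -⟩, huc⟩ := hf2
  have hlqfV := locP_lqf_lft_of_isFiniteMor hP hfin
  have hVd : ∀ x, HasAtMor (fun _ _ h u => FlatMor.fibreDimAt h u ≤ ((0 : ℕ) : WithBot ℕ∞))
      snd x := by
    intro x
    obtain ⟨V₀, b, hbe, hbs⟩ := hV.atlas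
    obtain ⟨U, a, k, hae, has, hak⟩ := exists_chart_lift hP snd b hbe hbs
    obtain ⟨u, rfl⟩ := surjective_ofPt a has x
    have hk := hlqfV a b k hae hbe hak
    haveI : LocallyQuasiFinite k.left := hk.1
    haveI : LocallyOfFiniteType k.left := hk.2
    exact hasAtMor_of snd a b k hae hbe hak u
      (Groth.Agent.Lib.Helper4.ChevCrit7.fibreDimAt_eq_zero_of_locallyQuasiFinite k.left u).le
  have hall := Groth.Agent.Helper2.RelDimSp.S10653_main hX hY hV hP f j 0 hf1 hlft hj1 hj2 fst snd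
    hPb hVd h
  have hlqf : LocP (@LocallyQuasiFinite ⊓ @LocallyOfFiniteType) f := by
    intro U' V' a b k hae hbe c
    haveI : LocallyOfFiniteType k.left := hlft a b k hae hbe c
    refine ⟨?_, inferInstance⟩
    rw [← Scheme.Hom.quasiFiniteLocus_eq_top_iff]
    apply top_le_iff.mp
    intro u _
    refine (Groth.Agent.Helper2.FibreDimZero.fibreDimAt_eq_zero_iff u).1 ?_
    have h1 : FlatMor.fibreDimAt k.left u ≤ ((0 : ℕ) : WithBot ℕ∞) :=
      of_hasAtMor (etaleLocalST_fibreDimAt_le _) hX.diag hY.diag f _ (hall (Points.ofPt a u))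
        a b k hae hbe c u rfl
    exact le_antisymm h1 (fibreDimAt_nonneg k.left u)
  exact isFiniteMor_of_sep_lqf_univClosed hX hY f hsep hlqf huc

end Groth.Agent.Helper2.FlatProperFinite
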