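import Mathlib
import Groth.Prelude.Def_AlgSpInf
import Groth.Agent.Lib.Helper2.AlgSp.FormalLift
import Groth.Agent.Lib.Helper2.Formal.EtaleStdScheme

/-!
# Descent of formal etaleness along representable surjective etale morphisms
-/

namespace Groth.Agent.Helper2.AlgSpFormal
open CategoryTheory CategoryTheory.Limits AlgebraicGeometry Opposite AlgSp
open Groth.Agent.Helper2.AlgSpBasic Groth.Agent.Helper2.FormalLib
universe u
variable {S : Scheme.{u}}

/-- The square of rings `A → B`, `A → A ⧸ I`, `B → B ⧸ I B` is a pushout. -/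
theorem isPushout_quot {A B : Type u} [CommRing A] [CommRing B] (φ : A →+* B) (I : Ideal A) :
    IsPushout (CommRingCat.ofHom (Ideal.Quotient.mk I)) (CommRingCat.ofHom φ)
      (CommRingCat.ofHom (Ideal.quotientMap (I.map φ) φ Ideal.le_comap_map))
      (CommRingCat.ofHom (Ideal.Quotient.mk (I.map φ))) := by
  have w : CommRingCat.ofHom (Ideal.Quotient.mk I) ≫
      CommRingCat.ofHom (Ideal.quotientMap (I.map φ) φ Ideal.le_comap_map) =
      CommRingCat.ofHom φ ≫ CommRingCat.ofHom (Ideal.Quotient.mk (I.map φ)) := by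
    ext x
    rfl
  have hker : ∀ s : PushoutCocone (CommRingCat.ofHom (Ideal.Quotient.mk I)) (CommRingCat.ofHom φ),
      ∀ x ∈ I.map φ, s.inr.hom x = 0 := by
    intro s
    have : I.map φ ≤ RingHom.ker s.inr.hom := by
      rw [Ideal.map_le_iff_le_comap]
      intro x hx
      have h1 := congrArg (fun m => m.hom x) s.condition
      change s.inl.hom (Ideal.Quotient.mk I x) = s.inr.hom (φ x) at h1
      rw [Ideal.mem_comap, RingHom.mem_ker, ← h1, Ideal.Quotient.eq_zero_iff_mem.2 hx, map_zero]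
    exact fun x hx => this hx
  refine ⟨⟨w⟩, ⟨PushoutCocone.IsColimit.mk _
    (fun s => CommRingCat.ofHom (Ideal.Quotient.lift (I.map φ) s.inr.hom (hker s))) ?_ ?_ ?_⟩⟩
  · intro s
    ext x
    have h1 := congrArg (fun m => m.hom x) s.condition
    change s.inl.hom (Ideal.Quotient.mk I x) = s.inr.hom (φ x) at h1
    change Ideal.Quotient.lift (I.map φ) s.inr.hom (hker s)
      (Ideal.quotientMap (I.map φ) φ Ideal.le_comap_map (Ideal.Quotient.mk I x)) = _
    rw [Ideal.quotientMap_mk, Ideal.Quotient.lift_mk]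
    exact h1.symm
  · intro s
    ext x
    change Ideal.Quotient.lift (I.map φ) s.inr.hom (hker s) (Ideal.Quotient.mk _ x) = _
    rw [Ideal.Quotient.lift_mk]
  · intro s m _ h2
    ext x
    have := congrArg (fun m => m.hom x) h2
    change m.hom (Ideal.Quotient.mk _ x) = s.inr.hom x at this
    change m.hom (Ideal.Quotient.mk _ x) = Ideal.Quotient.lift (I.map φ) s.inr.hom (hker s)
      (Ideal.Quotient.mk _ x)
    rw [Ideal.Quotient.lift_mk, this]

/-- `Spec (B ⧸ I B)` is the fibre product of `Spec B` and `Spec (A ⧸ I)` over `Spec A`. -/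
theorem isPullback_spec_quot {A B : Type u} [CommRing A] [CommRing B] (φ : A →+* B)
    (I : Ideal A) :
    IsPullback (Spec.map (CommRingCat.ofHom (Ideal.quotientMap (I.map φ) φ Ideal.le_comap_map)))
      (Spec.map (CommRingCat.ofHom (Ideal.Quotient.mk (I.map φ))))
      (Spec.map (CommRingCat.ofHom (Ideal.Quotient.mk I)))
      (Spec.map (CommRingCat.ofHom φ)) :=
  isPullback_SpecMap_of_isPushout _ _ _ _ (isPushout_quot φ I)

section BaseThick

variable {F G : Sp S} {f : F ⟶ G} (sq : InfSq f) {B : Type u} [CommRing B] (φ : sq.A →+* B)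

instance : IsAffine (bT' sq φ).left := inferInstanceAs (IsAffine (Spec (CommRingCat.of B)))

theorem isPullback_bj :
    IsPullback ((yon S).map (bg sq φ)) ((yon S).map (bj sq φ)) ((yon S).map sq.j)
      ((yon S).map (bg' sq φ)) :=
  yon_isPullback_of_left _ _ _ _ (isPullback_spec_quot φ sq.I)

end BaseThick

section Sol

variable {Z' X T T' : Sp S} {h' : Z' ⟶ X} {j : T ⟶ T'} {a₁ : T ⟶ Z'} {b : T' ⟶ X}

/-- Gluing solutions of a lifting problem along a flat lfp covering family of a chart, given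
uniqueness of solutions on all scheme charts. -/
theorem exists_isSol_of_family {V : Over S} (c : (yon S).obj V ⟶ T') {ι : Type*}
    (W : ι → Over S) (p : ∀ k, W k ⟶ V)
    (hp : ∀ k, (@Flat ⊓ @LocallyOfFinitePresentation : MorphismProperty Scheme.{u}) (p k).left)
    (hs : ∀ x : V.left, ∃ k, x ∈ Set.range (p k).left)
    (m : ∀ k, (yon S).obj (W k) ⟶ Z')
    (hm : ∀ k, IsSol h' j a₁ b ((yon S).map (p k) ≫ c) (m k))
    (Hu : ∀ (Q : Over S) (d : (yon S).obj Q ⟶ T') (n n' : (yon S).obj Q ⟶ Z'),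
      IsSol h' j a₁ b d n → IsSol h' j a₁ b d n' → n = n') :
    ∃ l, IsSol h' j a₁ b c l ∧ ∀ k, (yon S).map (p k) ≫ l = m k := by
  have compat : ∀ i k (Q : Over S) (qi : Q ⟶ W i) (qk : Q ⟶ W k),
      qi ≫ p i = qk ≫ p k → (yon S).map qi ≫ m i = (yon S).map qk ≫ m k := by
    intro i k Q qi qk e
    have hd : (yon S).map qk ≫ (yon S).map (p k) ≫ c = (yon S).map qi ≫ (yon S).map (p i) ≫ c := by
      rw [← Category.assoc, ← Category.assoc, ← Functor.map_comp, ← Functor.map_comp, e]
    refine Hu Q _ _ _ ((hm i).restrict qi) ?_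
    rw [← hd]
    exact (hm k).restrict qk
  obtain ⟨l, hl⟩ := exists_glue_of_family W p hp hs m compat
  refine ⟨l, ⟨?_, ?_⟩, hl⟩
  · refine hom_ext_of_family W p hp hs _ _ ?_
    intro k
    rw [← Category.assoc, hl k, (hm k).1, Category.assoc]
  · intro Q u v e
    refine hom_ext_of_family (fun k => pullback v (p k))
      (fun k => pullback.fst v (p k)) ?_ ?_ _ _ ?_
    · intro k
      have hpb := isPullback_left_of_over (IsPullback.of_hasPullback v (p k))
      exact MorphismProperty.of_isPullback hpb.flip (hp k)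
    · intro x
      obtain ⟨k, y, hy⟩ := hs (v.left x)
      have hpb := isPullback_left_of_over (IsPullback.of_hasPullback v (p k))
      obtain ⟨z, hz1, -⟩ := Scheme.exists_preimage_of_isPullback hpb x y hy.symm
      exact ⟨k, z, hz1⟩
    · intro k
      have hcond : pullback.fst v (p k) ≫ v = pullback.snd v (p k) ≫ p k := pullback.condition
      have h3 := (hm k).2 _ ((yon S).map (pullback.fst v (p k)) ≫ u)
        (pullback.snd v (p k)) (by
          rw [Category.assoc, e, ← Category.assoc, ← Functor.map_comp, hcond, Functor.map_comp,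
            Category.assoc])
      rw [← Category.assoc, ← Functor.map_comp, hcond, Functor.map_comp, Category.assoc, hl k, h3,
        Category.assoc]

end Sol

section Comp

variable {F G H : Sp S} (a : F ⟶ G) (b : G ⟶ H)

/-- The lifting square for `b` obtained from one for `a ≫ b`. -/
noncomputable def InfSq.push (sq : InfSq (a ≫ b)) : InfSq b where
  A := sq.A
  I := sq.I
  sq_zero := sq.sq_zero
  str := sq.str
  top := sq.top ≫ a
  bot := sq.bot
  comm := by rw [Category.assoc]; exact sq.comm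

theorem isFormallySmoothMor_comp_etale (ha : RepWith @Etale a) (hb : IsFormallySmoothMor b) :
    IsFormallySmoothMor (a ≫ b) := by
  intro sq
  obtain ⟨l, hl1, hl2⟩ := hb (InfSq.push a b sq)
  change (yon S).map sq.j ≫ l = sq.top ≫ a at hl1
  change l ≫ b = sq.bot at hl2
  obtain ⟨l', ⟨hl'1, hl'2⟩, -⟩ := ul_of_repWith_etale a ha sq.j (isFOT_j sq) sq.top l hl1.symm
  exact ⟨l', hl'1, by rw [← Category.assoc, hl'2]; exact hl2⟩

theorem isFormallyUnramifiedMor_comp_etale (ha : RepWith @Etale a)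
    (hb : IsFormallyUnramifiedMor b) : IsFormallyUnramifiedMor (a ≫ b) := by
  intro sq l l' h1 h2 h1' h2'
  have e : l ≫ a = l' ≫ a := by
    refine hb (InfSq.push a b sq) (l ≫ a) (l' ≫ a) ?_ ?_ ?_ ?_
    · change (yon S).map sq.j ≫ l ≫ a = sq.top ≫ a
      rw [← Category.assoc, h1]
    · change (l ≫ a) ≫ b = sq.bot
      rw [Category.assoc, h2]
    · change (yon S).map sq.j ≫ l' ≫ a = sq.top ≫ a
      rw [← Category.assoc, h1']
    · change (l' ≫ a) ≫ b = sq.bot
      rw [Category.assoc, h2']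
  exact uu_of_repWith_etale a ha sq.j (isFOT_j sq) l l' (h1.trans h1'.symm) e

theorem isFormallyUnramifiedMor_of_isFormallyEtaleMor {f : F ⟶ G} (hf : IsFormallyEtaleMor f) :
    IsFormallyUnramifiedMor f := by
  intro sq l l' h1 h2 h1' h2'
  exact (hf sq).unique ⟨h1, h2⟩ ⟨h1', h2'⟩

theorem isFormallySmoothMor_of_isFormallyEtaleMor {f : F ⟶ G} (hf : IsFormallyEtaleMor f) :
    IsFormallySmoothMor f := by
  intro sq
  obtain ⟨l, hl, -⟩ := hf sq
  exact ⟨l, hl⟩

theorem isFormallyEtaleMor_of_smooth_unramified {f : F ⟶ G} (h1 : IsFormallySmoothMor f)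
    (h2 : IsFormallyUnramifiedMor f) : IsFormallyEtaleMor f := by
  intro sq
  obtain ⟨l, hl⟩ := h1 sq
  exact ⟨l, hl, fun l' hl' => h2 sq l' l hl'.1 hl'.2 hl.1 hl.2⟩

theorem isFormallyEtaleMor_comp_etale (ha : RepWith @Etale a) (hb : IsFormallyEtaleMor b) :
    IsFormallyEtaleMor (a ≫ b) :=
  isFormallyEtaleMor_of_smooth_unramified
    (isFormallySmoothMor_comp_etale a b ha (isFormallySmoothMor_of_isFormallyEtaleMor hb))
    (isFormallyUnramifiedMor_comp_etale a b ha (isFormallyUnramifiedMor_of_isFormallyEtaleMor hb))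

/-- Formal unramifiedness descends along a representable surjective etale morphism. -/
theorem isFormallyUnramifiedMor_of_comp_etale_surj (ha : RepWith @Etale a)
    (has : RepWith @Surjective a) (hab : IsFormallyUnramifiedMor (a ≫ b)) :
    IsFormallyUnramifiedMor b := by
  intro sq l l' h1 h2 h1' h2'
  have hrep : Representable a := ha.rep
  have pb := hrep.isPullback l
  have het : Etale (hrep.snd l).left := ha.property l _ _ pb
  have hsj : Surjective (hrep.snd l).left := has.property l _ _ pb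
  let 𝒲 := (hrep.pullback l).left.affineOpenCover
  let φ : ∀ k : 𝒲.I₀, sq.A →+* (𝒲.X k : Type u) := fun k =>
    (Spec.preimage (𝒲.f k ≫ (hrep.snd l).left)).hom
  have hφ : ∀ k, Spec.map (CommRingCat.ofHom (φ k)) = 𝒲.f k ≫ (hrep.snd l).left := fun k => by
    rw [CommRingCat.ofHom_hom, Spec.map_preimage]
  refine hom_ext_of_family (fun k => bT' sq (φ k)) (fun k => bg' sq (φ k)) ?_ ?_ l l' ?_
  · intro k
    change (@Flat ⊓ @LocallyOfFinitePresentation : MorphismProperty Scheme.{u})
      (Spec.map (CommRingCat.ofHom (φ k)))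
    rw [hφ k]
    exact ⟨inferInstance, inferInstance⟩
  · intro x
    obtain ⟨w, rfl⟩ := (hrep.snd l).left.surjective x
    obtain ⟨y, hy⟩ := 𝒲.covers w
    refine ⟨𝒲.idx w, y, ?_⟩
    change (Spec.map (CommRingCat.ofHom (φ (𝒲.idx w)))) y = _
    rw [hφ, Scheme.Hom.comp_apply, hy]
  · intro k
    let γ : bT' sq (φ k) ⟶ hrep.pullback l := Over.homMk (𝒲.f k) (by
      change _ = Spec.map (CommRingCat.ofHom (φ k)) ≫ sq.str
      rw [hφ k, Category.assoc]
      congr 1
      exact (Over.w (hrep.snd l)).symm)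
    have hγ : γ ≫ hrep.snd l = bg' sq (φ k) := Over.OverMorphism.ext (hφ k).symm
    have e0 : ((yon S).map γ ≫ hrep.fst l) ≫ a = (yon S).map (bg' sq (φ k)) ≫ l := by
      rw [Category.assoc, pb.w, ← Category.assoc, ← Functor.map_comp, hγ]
    have hcomm : ((yon S).map (bj sq (φ k)) ≫ (yon S).map γ ≫ hrep.fst l) ≫ a =
        (yon S).map (bj sq (φ k)) ≫ (yon S).map (bg' sq (φ k)) ≫ l' := by
      rw [Category.assoc, e0, ← Category.assoc, ← Category.assoc, ← Functor.map_comp, bsq,
        Functor.map_comp, Category.assoc, Category.assoc, h1, h1']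
    obtain ⟨p', ⟨hp'1, hp'2⟩, -⟩ := ul_of_repWith_etale a ha (bj sq (φ k)) (isFOT_bj sq (φ k))
      _ _ hcomm
    have key : (yon S).map γ ≫ hrep.fst l = p' :=
      uu_of_isFormallyUnramifiedMor_affine (a ≫ b) hab (bj sq (φ k)) (isFOT_bj sq (φ k)) _ _
        hp'1.symm (by
          rw [← Category.assoc, ← Category.assoc, e0, hp'2, Category.assoc, Category.assoc, h2,
            h2'])
    rw [← e0, key, hp'2]

/-- Formal etaleness descends along a representable surjective etale morphism. -/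
theorem isFormallyEtaleMor_of_comp_etale_surj (ha : RepWith @Etale a)
    (has : RepWith @Surjective a) (hab : IsFormallyEtaleMor (a ≫ b)) :
    IsFormallyEtaleMor b := by
  have hbu : IsFormallyUnramifiedMor b :=
    isFormallyUnramifiedMor_of_comp_etale_surj a b ha has
      (isFormallyUnramifiedMor_of_isFormallyEtaleMor hab)
  refine isFormallyEtaleMor_of_smooth_unramified ?_ hbu
  intro sq
  have hrep : Representable a := ha.rep
  have pb₀ := hrep.isPullback sq.top
  have het : Etale (hrep.snd sq.top).left := ha.property sq.top _ _ pb₀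
  have hsj : Surjective (hrep.snd sq.top).left := has.property sq.top _ _ pb₀
  -- local lifts of the etale cover of `T` to etale schemes over `T'`
  have key : ∀ u : (hrep.pullback sq.top).left, ∃ (B : CommRingCat.{u}) (φ : sq.A →+* B)
      (ι : bT sq φ ⟶ hrep.pullback sq.top), Etale (Spec.map (CommRingCat.ofHom φ)) ∧
      ι ≫ hrep.snd sq.top = bg sq φ ∧ u ∈ Set.range ι.left := by
    intro u
    obtain ⟨B, iB, φ, ι, h1, -, h3, h4⟩ :=
      exists_etale_lift_nbhd sq.I sq.sq_zero (hrep.snd sq.top).left u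
    refine ⟨CommRingCat.of B, φ, Over.homMk ι ?_, h1, ?_, h4⟩
    · change ι ≫ (hrep.pullback sq.top).hom = Spec.map _ ≫ Spec.map _ ≫ sq.str
      rw [← Over.w (hrep.snd sq.top), ← Category.assoc, h3]
      change Spec.map _ ≫ Spec.map _ ≫ sq.str = _
      rw [reassoc_of% bT_comm sq φ]
    · apply Over.OverMorphism.ext
      exact h3
  choose B φ ι hφ hι hu using key
  -- uniqueness of solutions on all scheme charts
  have Hu : ∀ (Q : Over S) (d : (yon S).obj Q ⟶ (yon S).obj sq.ptT')
      (n n' : (yon S).obj Q ⟶ G),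
      IsSol b ((yon S).map sq.j) sq.top sq.bot d n →
      IsSol b ((yon S).map sq.j) sq.top sq.bot d n' → n = n' := by
    intro Q d n n' hn hn'
    obtain ⟨δ, rfl⟩ := (yon S).map_surjective d
    let 𝒬 := Q.left.affineOpenCover
    let ψ : ∀ k : 𝒬.I₀, sq.A →+* (𝒬.X k : Type u) := fun k =>
      (Spec.preimage (𝒬.f k ≫ δ.left)).hom
    have hψ : ∀ k, Spec.map (CommRingCat.ofHom (ψ k)) = 𝒬.f k ≫ δ.left := fun k => by
      rw [CommRingCat.ofHom_hom, Spec.map_preimage]
    let γ : ∀ k, bT' sq (ψ k) ⟶ Q := fun k => Over.homMk (𝒬.f k) (by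
      change _ = Spec.map (CommRingCat.ofHom (ψ k)) ≫ sq.str
      rw [hψ k, Category.assoc]
      congr 1
      exact (Over.w δ).symm)
    have hγ : ∀ k, γ k ≫ δ = bg' sq (ψ k) := fun k => Over.OverMorphism.ext (hψ k).symm
    refine hom_ext_of_family (fun k => bT' sq (ψ k)) γ ?_ ?_ n n' ?_
    · intro k
      exact ⟨(inferInstance : Flat (𝒬.f k)), (inferInstance : LocallyOfFinitePresentation (𝒬.f k))⟩
    · intro x
      exact ⟨𝒬.idx x, 𝒬.covers x⟩
    · intro k
      have s1 := hn.restrict (γ k)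
      have s2 := hn'.restrict (γ k)
      have e : (yon S).map (bg sq (ψ k)) ≫ (yon S).map sq.j =
          (yon S).map (bj sq (ψ k)) ≫ ((yon S).map (γ k) ≫ (yon S).map δ) := by
        rw [← Functor.map_comp, ← Functor.map_comp, ← Functor.map_comp, hγ, bsq]
      refine uu_of_isFormallyUnramifiedMor_affine b hbu (bj sq (ψ k)) (isFOT_bj sq (ψ k)) _ _ ?_ ?_
      · rw [s1.2 _ _ _ e, s2.2 _ _ _ e]
      · rw [s1.1, s2.1]
  -- solutions on the covering family
  have hsol : ∀ u, ∃ m : (yon S).obj (bT' sq (φ u)) ⟶ G,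
      IsSol b ((yon S).map sq.j) sq.top sq.bot ((yon S).map (bg' sq (φ u)) ≫ 𝟙 _) m := by
    intro u
    have comm : ((yon S).map (ι u) ≫ hrep.fst sq.top) ≫ a ≫ b =
        (yon S).map (bj sq (φ u)) ≫ (yon S).map (bg' sq (φ u)) ≫ sq.bot := by
      calc ((yon S).map (ι u) ≫ hrep.fst sq.top) ≫ a ≫ b
          = (yon S).map (ι u) ≫ (hrep.fst sq.top ≫ a) ≫ b := by simp only [Category.assoc]
        _ = (yon S).map (ι u) ≫ ((yon S).map (hrep.snd sq.top) ≫ sq.top) ≫ b := by rw [pb₀.w]
        _ = (yon S).map (ι u ≫ hrep.snd sq.top) ≫ sq.top ≫ b := by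
            rw [Functor.map_comp]; simp only [Category.assoc]
        _ = (yon S).map (bg sq (φ u)) ≫ (yon S).map sq.j ≫ sq.bot := by rw [hι u, sq.comm]
        _ = (yon S).map (bg sq (φ u) ≫ sq.j) ≫ sq.bot := by
            rw [Functor.map_comp, Category.assoc]
        _ = _ := by rw [← bsq, Functor.map_comp, Category.assoc]
    obtain ⟨lam, ⟨hl1, hl2⟩, -⟩ := ul_of_isFormallyEtaleMor_affine (a ≫ b) hab (bj sq (φ u))
      (isFOT_bj sq (φ u)) ((yon S).map (ι u) ≫ hrep.fst sq.top)
      ((yon S).map (bg' sq (φ u)) ≫ sq.bot) comm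
    refine ⟨lam ≫ a, ?_⟩
    rw [Category.comp_id]
    refine (isSol_iff_of_isPullback _ _ _ (isPullback_bj sq (φ u))).2 ⟨?_, ?_⟩
    · rw [Category.assoc, hl2]
    · rw [← Category.assoc, hl1, Category.assoc, pb₀.w, ← Category.assoc, ← Functor.map_comp, hι u]
  choose m hm using hsol
  have hp : ∀ u, (@Flat ⊓ @LocallyOfFinitePresentation : MorphismProperty Scheme.{u})
      (bg' sq (φ u)).left := by
    intro u
    have := hφ u
    change (@Flat ⊓ @LocallyOfFinitePresentation : MorphismProperty Scheme.{u})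
      (Spec.map (CommRingCat.ofHom (φ u)))
    exact ⟨inferInstance, inferInstance⟩
  have hs : ∀ x : sq.ptT'.left, ∃ u, x ∈ Set.range (bg' sq (φ u)).left := by
    intro x
    have hjs : Surjective sq.j.left := (isFOT_j sq).surj
    obtain ⟨y, rfl⟩ := sq.j.left.surjective x
    obtain ⟨u, rfl⟩ := (hrep.snd sq.top).left.surjective y
    obtain ⟨z, hz⟩ := hu u
    refine ⟨u, (bj sq (φ u)).left z, ?_⟩
    have e1 : (bj sq (φ u)).left ≫ (bg' sq (φ u)).left =
        (ι u).left ≫ (hrep.snd sq.top).left ≫ sq.j.left := by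
      rw [← Over.comp_left, ← Over.comp_left, ← Over.comp_left, bsq, ← hι u, Category.assoc]
    rw [← Scheme.Hom.comp_apply, e1, Scheme.Hom.comp_apply, Scheme.Hom.comp_apply, hz]
  obtain ⟨l, hl, -⟩ := exists_isSol_of_family (𝟙 _) (fun u => bT' sq (φ u))
    (fun u => bg' sq (φ u)) hp hs m hm Hu
  refine ⟨l, ?_, ?_⟩
  · have := hl.2 sq.ptT (𝟙 _) sq.j (by rw [Category.id_comp, Category.comp_id])
    rw [this, Category.id_comp]
  · rw [hl.1, Category.id_comp]

end Comp

end Groth.Agent.Helper2.AlgSpFormal
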