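import Mathlib
import Groth.Prelude.Def_AlgSpInf
import Groth.Agent.Lib.Helper2.AlgSp.FormalDescent
import Groth.Agent.Lib.Helper2.AlgSp.LocP
import Groth.Agent.Lib.Helper2.Formal.EtaleHom

/-!
# Formally etale morphisms of algebraic spaces via charts
-/

namespace Groth.Agent.Helper2.AlgSpFormal
open CategoryTheory CategoryTheory.Limits AlgebraicGeometry Opposite AlgSp
open Groth.Agent.Helper2.AlgSpBasic Groth.Agent.Helper2.FormalLib
universe u
variable {S : Scheme.{u}}

/-- Scheme level: etale iff locally of finite presentation and formally etale. -/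
theorem etale_iff_lfp_isFormallyEtaleHom {X Y : Scheme.{u}} (f : X ⟶ Y) :
    Etale f ↔ LocallyOfFinitePresentation f ∧ MoreMor.IsFormallyEtaleHom f := by
  rw [isFormallyEtaleHom_iff_locFEt]
  constructor
  · intro h
    refine ⟨inferInstance, ?_⟩
    intro U V hU hV hUV
    have := (f.etale_appLE hV hU hUV).toAlgebra
    exact this.formallyEtale
  · rintro ⟨h1, h2⟩
    constructor
    intro V hV U hU e
    have hfp := f.finitePresentation_appLE hV hU e
    have hfe := h2 U V hU hV e
    letI := (f.appLE V U e).hom.toAlgebra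
    exact ⟨hfe, hfp⟩

/-- A representable etale morphism of sheaves is formally etale. -/
theorem isFormallyEtaleMor_of_repWith_etale {F G : Sp S} (a : F ⟶ G) (ha : RepWith @Etale a) :
    IsFormallyEtaleMor a := fun sq =>
  ul_of_repWith_etale a ha sq.j (isFOT_j sq) sq.top sq.bot sq.comm

/-- The lifting square for `g` obtained from one for `g ≫ b` and a lift for `b`. -/
noncomputable def InfSq.pull {F G H : Sp S} (g : F ⟶ G) (b : G ⟶ H) (sq : InfSq (g ≫ b))
    (l : (yon S).obj sq.ptT' ⟶ G) (hl : (yon S).map sq.j ≫ l = sq.top ≫ g) : InfSq g where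
  A := sq.A
  I := sq.I
  sq_zero := sq.sq_zero
  str := sq.str
  top := sq.top
  bot := l
  comm := hl.symm

/-- Composition of formally etale morphisms of sheaves. -/
theorem isFormallyEtaleMor_comp {F G H : Sp S} (g : F ⟶ G) (b : G ⟶ H)
    (hg : IsFormallyEtaleMor g) (hb : IsFormallyEtaleMor b) : IsFormallyEtaleMor (g ≫ b) := by
  intro sq
  obtain ⟨l, ⟨hl1, hl2⟩, hlu⟩ : ∃! l : (yon S).obj sq.ptT' ⟶ G,
      (yon S).map sq.j ≫ l = sq.top ≫ g ∧ l ≫ b = sq.bot := hb (InfSq.push g b sq)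
  obtain ⟨l', ⟨hl'1, hl'2⟩, hl'u⟩ : ∃! l' : (yon S).obj sq.ptT' ⟶ F,
      (yon S).map sq.j ≫ l' = sq.top ∧ l' ≫ g = l := hg (InfSq.pull g b sq l hl1)
  refine ⟨l', ⟨hl'1, by rw [← Category.assoc, hl'2, hl2]⟩, ?_⟩
  rintro m ⟨hm1, hm2⟩
  have e : m ≫ g = l := by
    apply hlu
    refine ⟨?_, ?_⟩
    · rw [← Category.assoc, hm1]
    · rw [Category.assoc, hm2]
  exact hl'u m ⟨hm1, e⟩

/-- Cancellation: if `g ≫ b` is formally etale and `b` is formally unramified then `g` is formally
etale. -/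
theorem isFormallyEtaleMor_of_comp {F G H : Sp S} (g : F ⟶ G) (b : G ⟶ H)
    (hgb : IsFormallyEtaleMor (g ≫ b)) (hb : IsFormallyUnramifiedMor b) :
    IsFormallyEtaleMor g := by
  intro sq
  have comm' : sq.top ≫ g ≫ b = (yon S).map sq.j ≫ sq.bot ≫ b := by
    rw [← Category.assoc, sq.comm, Category.assoc]
  let sq' : InfSq (g ≫ b) :=
    { A := sq.A
      I := sq.I
      sq_zero := sq.sq_zero
      str := sq.str
      top := sq.top
      bot := sq.bot ≫ b
      comm := comm' }
  obtain ⟨l, ⟨hl1, hl2⟩, hlu⟩ : ∃! l : (yon S).obj sq.ptT' ⟶ F,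
      (yon S).map sq.j ≫ l = sq.top ∧ l ≫ g ≫ b = sq.bot ≫ b := hgb sq'
  let sq'' : InfSq b :=
    { A := sq.A
      I := sq.I
      sq_zero := sq.sq_zero
      str := sq.str
      top := sq.top ≫ g
      bot := sq.bot ≫ b
      comm := by rw [Category.assoc]; exact comm' }
  have e : l ≫ g = sq.bot := by
    refine hb sq'' (l ≫ g) sq.bot ?_ ?_ ?_ rfl
    · change (yon S).map sq.j ≫ l ≫ g = sq.top ≫ g
      rw [← Category.assoc, hl1]
    · change (l ≫ g) ≫ b = sq.bot ≫ b
      rw [Category.assoc, hl2]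
    · change (yon S).map sq.j ≫ sq.bot = sq.top ≫ g
      exact sq.comm.symm
  refine ⟨l, ⟨hl1, e⟩, ?_⟩
  rintro m ⟨hm1, hm2⟩
  apply hlu
  refine ⟨hm1, ?_⟩
  rw [← Category.assoc, hm2]

/-- A morphism of schemes over `S` which is formally etale gives a formally etale morphism of
sheaves. -/
theorem isFormallyEtaleMor_yon_map_of_isFormallyEtaleHom {U V : Over S} (h : U ⟶ V)
    (hh : MoreMor.IsFormallyEtaleHom h.left) : IsFormallyEtaleMor ((yon S).map h) := by
  intro sq
  obtain ⟨τ, hτ⟩ := (yon S).map_surjective sq.top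
  obtain ⟨β, hβ⟩ := (yon S).map_surjective sq.bot
  have comm : τ ≫ h = sq.j ≫ β := by
    apply (yon S).map_injective
    rw [Functor.map_comp, Functor.map_comp, hτ, hβ]
    exact sq.comm
  have comm' : Spec.map (CommRingCat.ofHom (Ideal.Quotient.mk sq.I)) ≫ β.left =
      τ.left ≫ h.left := (congrArg (fun m => m.left) comm).symm
  obtain ⟨l₀, ⟨h1, h2⟩, hu⟩ := hh sq.A sq.I sq.sq_zero τ.left β.left comm'
  have hl₀ : l₀ ≫ U.hom = sq.str := by
    rw [← Over.w h, ← Category.assoc, h2]
    exact Over.w β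
  let l : sq.ptT' ⟶ U := Over.homMk l₀ hl₀
  refine ⟨(yon S).map l, ⟨?_, ?_⟩, ?_⟩
  · change (yon S).map sq.j ≫ (yon S).map l = sq.top
    rw [← hτ, ← Functor.map_comp]
    congr 1
    apply Over.OverMorphism.ext
    exact h1
  · change (yon S).map l ≫ (yon S).map h = sq.bot
    rw [← hβ, ← Functor.map_comp]
    congr 1
    apply Over.OverMorphism.ext
    exact h2
  · rintro m ⟨hm1, hm2⟩
    obtain ⟨μ, rfl⟩ := (yon S).map_surjective m
    change (yon S).map sq.j ≫ (yon S).map μ = sq.top at hm1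
    change (yon S).map μ ≫ (yon S).map h = sq.bot at hm2
    have e1 : sq.j ≫ μ = τ :=
      (yon S).map_injective (by rw [Functor.map_comp, hm1, hτ])
    have e2 : μ ≫ h = β :=
      (yon S).map_injective (by rw [Functor.map_comp, hm2, hβ])
    have := hu μ.left ⟨congrArg (fun m => m.left) e1, congrArg (fun m => m.left) e2⟩
    congr 1
    apply Over.OverMorphism.ext
    exact this

/-- Conversely. -/
theorem isFormallyEtaleHom_of_isFormallyEtaleMor_yon_map {U V : Over S} (h : U ⟶ V)
    (hh : IsFormallyEtaleMor ((yon S).map h)) : MoreMor.IsFormallyEtaleHom h.left := by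
  intro A _ I hI a b w
  have ha : a ≫ U.hom = Spec.map (CommRingCat.ofHom (Ideal.Quotient.mk I)) ≫ b ≫ V.hom := by
    rw [← Over.w h, ← Category.assoc, ← w, Category.assoc]
  let τ : Over.mk (Spec.map (CommRingCat.ofHom (Ideal.Quotient.mk I)) ≫ b ≫ V.hom) ⟶ U :=
    Over.homMk a ha
  let β : Over.mk (b ≫ V.hom) ⟶ V := Over.homMk b rfl
  let J : Over.mk (Spec.map (CommRingCat.ofHom (Ideal.Quotient.mk I)) ≫ b ≫ V.hom) ⟶
      Over.mk (b ≫ V.hom) := Over.homMk (Spec.map (CommRingCat.ofHom (Ideal.Quotient.mk I))) rfl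
  have comm : τ ≫ h = J ≫ β := Over.OverMorphism.ext w.symm
  let sq : InfSq ((yon S).map h) :=
    { A := A
      I := I
      sq_zero := hI
      str := b ≫ V.hom
      top := (yon S).map τ
      bot := (yon S).map β
      comm := by rw [← Functor.map_comp, ← Functor.map_comp, comm] }
  obtain ⟨m, ⟨hm1, hm2⟩, hmu⟩ : ∃! m : (yon S).obj (Over.mk (b ≫ V.hom)) ⟶ (yon S).obj U,
      (yon S).map J ≫ m = (yon S).map τ ∧ m ≫ (yon S).map h = (yon S).map β := hh sq
  obtain ⟨μ, rfl⟩ := (yon S).map_surjective m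
  have e1 : J ≫ μ = τ := (yon S).map_injective (by rw [Functor.map_comp, hm1])
  have e2 : μ ≫ h = β := (yon S).map_injective (by rw [Functor.map_comp, hm2])
  refine ⟨μ.left, ⟨congrArg (fun m => m.left) e1, congrArg (fun m => m.left) e2⟩, ?_⟩
  rintro l₀ ⟨h1, h2⟩
  have hl₀ : l₀ ≫ U.hom = b ≫ V.hom := by
    rw [← Over.w h, ← Category.assoc, h2]
  let l : Over.mk (b ≫ V.hom) ⟶ U := Over.homMk l₀ hl₀
  have := hmu ((yon S).map l) ⟨?_, ?_⟩
  · exact congrArg (fun m => m.left) ((yon S).map_injective this)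
  · rw [← Functor.map_comp]
    congr 1
    apply Over.OverMorphism.ext
    exact h1
  · rw [← Functor.map_comp]
    congr 1
    apply Over.OverMorphism.ext
    exact h2

theorem isFormallyEtaleMor_yon_map_iff {U V : Over S} (h : U ⟶ V) :
    IsFormallyEtaleMor ((yon S).map h) ↔ MoreMor.IsFormallyEtaleHom h.left :=
  ⟨isFormallyEtaleHom_of_isFormallyEtaleMor_yon_map h,
    isFormallyEtaleMor_yon_map_of_isFormallyEtaleHom h⟩

/-- Charts of a formally etale morphism of sheaves are formally etale. -/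
theorem locP_of_isFormallyEtaleMor {F G : Sp S} (f : F ⟶ G) (hf : IsFormallyEtaleMor f) :
    LocP @MoreMor.IsFormallyEtaleHom f := by
  intro U V a b h ha hb comm
  apply isFormallyEtaleHom_of_isFormallyEtaleMor_yon_map
  apply isFormallyEtaleMor_of_comp ((yon S).map h) b
  · rw [← comm]
    exact isFormallyEtaleMor_comp_etale a f ha hf
  · exact isFormallyUnramifiedMor_of_isFormallyEtaleMor (isFormallyEtaleMor_of_repWith_etale b hb)

/-- One chart diagram with surjective etale source chart, etale target chart and formally etale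
chart morphism suffices for formal etaleness. -/
theorem isFormallyEtaleMor_of_chart {F G : Sp S} (f : F ⟶ G) {U V : Over S}
    (a : (yon S).obj U ⟶ F) (b : (yon S).obj V ⟶ G) (h : U ⟶ V)
    (ha : RepWith @Etale a) (has : RepWith @Surjective a) (hb : RepWith @Etale b)
    (comm : a ≫ f = (yon S).map h ≫ b) (hh : MoreMor.IsFormallyEtaleHom h.left) :
    IsFormallyEtaleMor f := by
  apply isFormallyEtaleMor_of_comp_etale_surj a f ha has
  rw [comm]
  exact isFormallyEtaleMor_comp _ _ (isFormallyEtaleMor_yon_map_of_isFormallyEtaleHom h hh)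
    (isFormallyEtaleMor_of_repWith_etale b hb)

/-- For morphisms of algebraic spaces, formal etaleness is equivalent to formal etaleness of all
chart morphisms. -/
theorem isFormallyEtaleMor_iff_locP {X Y : Sp S} (hX : IsAlgSpace X) (hY : IsAlgSpace Y)
    (f : X ⟶ Y) : IsFormallyEtaleMor f ↔ LocP @MoreMor.IsFormallyEtaleHom f := by
  refine ⟨locP_of_isFormallyEtaleMor f, fun hf => ?_⟩
  obtain ⟨V, b, hbe, hbs⟩ := hY.atlas
  obtain ⟨U, a, h, hae, has, comm⟩ := exists_chart_lift hX f b hbe hbs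
  exact isFormallyEtaleMor_of_chart f a b h hae has hbe comm (hf a b h hae hbe comm)

/-- A morphism of algebraic spaces is etale iff it is locally of finite presentation and formally
etale. -/
theorem isEtaleMor_iff_lfp_isFormallyEtaleMor {X Y : Sp S} (hX : IsAlgSpace X)
    (hY : IsAlgSpace Y) (f : X ⟶ Y) :
    IsEtaleMor f ↔ LocP @LocallyOfFinitePresentation f ∧ IsFormallyEtaleMor f := by
  rw [isEtaleMor_iff_locP_etale hX hY, isFormallyEtaleMor_iff_locP hX hY]
  constructor
  · intro h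
    exact ⟨locP_mono (fun _ _ g hg => ((etale_iff_lfp_isFormallyEtaleHom g).1 hg).1) h,
      locP_mono (fun _ _ g hg => ((etale_iff_lfp_isFormallyEtaleHom g).1 hg).2) h⟩
  · rintro ⟨h1, h2⟩
    exact locP_mono (fun _ _ g hg => (etale_iff_lfp_isFormallyEtaleHom g).2 hg) (locP_inf h1 h2)

/-- Etale morphisms of algebraic spaces are formally etale. -/
theorem isFormallyEtaleMor_of_isEtaleMor {X Y : Sp S} (hX : IsAlgSpace X)
    (hY : IsAlgSpace Y) (f : X ⟶ Y) (hf : IsEtaleMor f) : IsFormallyEtaleMor f :=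
  ((isEtaleMor_iff_lfp_isFormallyEtaleMor hX hY f).1 hf).2

end Groth.Agent.Helper2.AlgSpFormal
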