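import Mathlib
import Groth.Prelude.Def_AlgSpInf
import Groth.Agent.Lib.Helper2.AlgSp.FormalDescent
import Groth.Agent.Lib.Helper7.CAlg.EtaleLift

/-!
# Etale-local lifting for `b` when `a ≫ b` is formally smooth and `a` is etale surjective
-/

namespace Groth.Agent.Helper2.FormalSmoothLocal
open CategoryTheory CategoryTheory.Limits AlgebraicGeometry Opposite AlgSp
open Groth.Agent.Helper2.AlgSpBasic Groth.Agent.Helper2.AlgSpFormal
open Groth.Agent.Helper2.FormalLib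
universe u
variable {S : Scheme.{u}}

/-- An etale `A ⧸ I`-algebra lifts to an etale `A`-algebra. -/
theorem exists_lift_ring {A : Type u} [CommRing A] (I : Ideal A) {B₀ : Type u} [CommRing B₀]
    (ψ : A ⧸ I →+* B₀) (hψ : ψ.Etale) :
    ∃ (B : Type u) (_ : CommRing B) (φ : A →+* B), φ.Etale ∧
      ∃ ε : B₀ →+* B ⧸ I.map φ, Function.Bijective ε ∧
        ε.comp ψ = Ideal.quotientMap (I.map φ) φ Ideal.le_comap_map := by
  algebraize [ψ]
  obtain ⟨B, _, _, hB, ⟨e⟩⟩ := Groth.Agent.Helper7.EtaleLift.exists_etale_lift A I B₀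
  refine ⟨B, inferInstance, algebraMap A B, RingHom.etale_algebraMap.2 hB, ?_⟩
  obtain ⟨e2, he2⟩ : ∃ e2 : (B ⧸ I.map (algebraMap A B)) ≃ₐ[A ⧸ I] B₀, e2 = e2 :=
    ⟨(Algebra.TensorProduct.quotIdealMapEquivQuotTensor B I).trans e, rfl⟩
  refine ⟨(e2.symm : B₀ →+* (B ⧸ I.map (algebraMap A B))), e2.symm.bijective, ?_⟩
  refine RingHom.ext fun x => ?_
  exact e2.symm.commutes x


theorem main {F G H : Sp S} (a : F ⟶ G) (b : G ⟶ H) (ha : RepWith @Etale a)
    (ha' : RepWith @Surjective a) (hab : IsFormallySmoothMor (a ≫ b)) (sq : InfSq b)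
    (t : ↥sq.ptT'.left) :
    ∃ (U' : Over S) (g : U' ⟶ sq.ptT') (l : (yon S).obj U' ⟶ G),
      IsAffine U'.left ∧ Etale g.left ∧ (∃ u : ↥U'.left, g.left u = t) ∧
        l ≫ b = (yon S).map g ≫ sq.bot ∧
          ∀ (V : Over S) (p : V ⟶ sq.ptT) (q : V ⟶ U'), p ≫ sq.j = q ≫ g →
            (yon S).map q ≫ l = (yon S).map p ≫ sq.top := by
  obtain ⟨W, snd, fst, hpb⟩ := ha.1 sq.top
  have hsnd_et : Etale snd.left := ha.2 sq.top fst snd hpb
  have hsnd_surj : Surjective snd.left := ha'.2 sq.top fst snd hpb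
  obtain ⟨t₀, ht₀⟩ := (surjective_spec_quot sq.I sq.sq_zero).surj t
  obtain ⟨w, hw⟩ := hsnd_surj.surj t₀
  obtain ⟨k, w', hw'⟩ := affIncl_covers W w
  obtain ⟨ι, hι⟩ : ∃ ι : Spec (W.left.affineOpenCover.X k) ⟶ W.left,
      ι = W.left.affineOpenCover.f k := ⟨_, rfl⟩
  have hιw : ι w' = w := by rw [hι]; exact hw'
  have hιet : Etale ι := by rw [hι]; infer_instance
  obtain ⟨ψc, hψc⟩ : ∃ ψc : CommRingCat.of (sq.A ⧸ sq.I) ⟶ W.left.affineOpenCover.X k,
      Spec.map ψc = ι ≫ snd.left := ⟨Spec.preimage (ι ≫ snd.left), Spec.map_preimage _⟩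
  have hψet : ψc.hom.Etale := by
    have : Etale (Spec.map ψc) := by rw [hψc]; infer_instance
    exact (HasRingHomProperty.Spec_iff (P := @Etale)).1 this
  obtain ⟨B, _, φ, hφ, ε, hε, hεψ⟩ := exists_lift_ring sq.I ψc.hom hψet
  -- the comparison `Spec (B ⧸ I B) ⟶ W`
  have hcomp : (Spec.map (CommRingCat.ofHom ε) ≫ ι) ≫ snd.left =
      Spec.map (CommRingCat.ofHom (Ideal.quotientMap (sq.I.map φ) φ Ideal.le_comap_map)) := by
    rw [Category.assoc, ← hψc, ← Spec.map_comp]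
    congr 1
    ext x
    exact congrArg (fun m => m x) hεψ
  obtain ⟨κ, hκ⟩ : ∃ κ : bT sq φ ⟶ W, κ.left = Spec.map (CommRingCat.ofHom ε) ≫ ι := by
    refine ⟨Over.homMk (Spec.map (CommRingCat.ofHom ε) ≫ ι) ?_, rfl⟩
    have h1 : snd.left ≫ sq.ptT.hom = W.hom := Over.w snd
    rw [← h1, ← Category.assoc, hcomp]
    change _ ≫ _ ≫ sq.str = _ ≫ _ ≫ sq.str
    rw [reassoc_of% bT_comm sq φ]
  have hκsnd : κ ≫ snd = bg sq φ := by
    apply Over.OverMorphism.ext
    rw [Over.comp_left, hκ, hcomp]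
    rfl
  -- the new lifting square for `a ≫ b`
  obtain ⟨nsq, hnsq⟩ : ∃ nsq : InfSq (a ≫ b), nsq.HasLift →
      ∃ l₀ : (yon S).obj (bT' sq φ) ⟶ F, (yon S).map (bj sq φ) ≫ l₀ = (yon S).map κ ≫ fst ∧
        l₀ ≫ a ≫ b = (yon S).map (bg' sq φ) ≫ sq.bot := by
    refine ⟨{ A := B, I := sq.I.map φ
              sq_zero := by rw [← Ideal.map_pow, sq.sq_zero, Ideal.map_bot]
              str := Spec.map (CommRingCat.ofHom φ) ≫ sq.str
              top := (yon S).map κ ≫ fst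
              bot := (yon S).map (bg' sq φ) ≫ sq.bot
              comm := ?_ }, ?_⟩
    · change ((yon S).map κ ≫ fst) ≫ a ≫ b = (yon S).map (bj sq φ) ≫ (yon S).map (bg' sq φ) ≫ sq.bot
      rw [Category.assoc, ← Category.assoc fst, hpb.w, Category.assoc, sq.comm,
        ← Category.assoc, ← Functor.map_comp, hκsnd, ← Category.assoc, ← Functor.map_comp,
        ← Category.assoc, ← Functor.map_comp, bsq]
    · rintro ⟨l₀, h1, h2⟩
      exact ⟨l₀, h1, h2⟩
  obtain ⟨l₀, h1, h2⟩ := hnsq (hab nsq)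
  refine ⟨bT' sq φ, bg' sq φ, l₀ ≫ a, inferInstance, ?_, ?_, ?_, ?_⟩
  · change Etale (Spec.map (CommRingCat.ofHom φ))
    exact (HasRingHomProperty.Spec_iff (P := @Etale)).2 hφ
  · have hiso : IsIso (CommRingCat.ofHom ε) := (ConcreteCategory.isIso_iff_bijective _).2 hε
    obtain ⟨z, hz⟩ := (Spec.map (CommRingCat.ofHom ε)).surjective w'
    refine ⟨(bj sq φ).left z, ?_⟩
    have e1 : (bj sq φ).left ≫ (bg' sq φ).left = (bg sq φ).left ≫ sq.j.left := by
      rw [← Over.comp_left, ← Over.comp_left, bsq]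
    have e2 : (bg sq φ).left = κ.left ≫ snd.left := by rw [← Over.comp_left, hκsnd]
    have e3 : (bg' sq φ).left ((bj sq φ).left z) = sq.j.left ((bg sq φ).left z) := by
      rw [← Scheme.Hom.comp_apply, e1, Scheme.Hom.comp_apply]
    rw [e3, e2, hκ, Scheme.Hom.comp_apply, Scheme.Hom.comp_apply, hz, hιw, hw]
    exact ht₀
  · rw [Category.assoc, h2]
  · intro V p q e
    have hpbS := over_isPullback_of_left (bg sq φ) (bj sq φ) sq.j (bg' sq φ)
      (isPullback_spec_quot φ sq.I)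
    have hv1 : hpbS.lift p q e ≫ bg sq φ = p := hpbS.lift_fst p q e
    have hv2 : hpbS.lift p q e ≫ bj sq φ = q := hpbS.lift_snd p q e
    rw [← hv2, Functor.map_comp, Category.assoc, ← Category.assoc _ l₀, h1, Category.assoc,
      hpb.w, ← Category.assoc _ _ sq.top, ← Functor.map_comp, hκsnd, ← Category.assoc,
      ← Functor.map_comp, hv1]

end Groth.Agent.Helper2.FormalSmoothLocal
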