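import Mathlib
import Groth.Agent.S0083
import Groth.Agent.Lib.Helper2.AlgSp.ProperQf
import Groth.Agent.Lib.Helper2.AlgSp.Fpqc2
import Groth.Agent.Lib.Helper2.Sch.LqfDescent

/-!
# Finite morphisms of algebraic spaces are fpqc local on the base (helper2)
-/

set_option autoImplicit false
universe u
open CategoryTheory CategoryTheory.Limits AlgebraicGeometry Opposite AlgSp
open Groth.Agent.Helper2.AlgSpBasic Groth.Agent.Helper2.EtaleLocal

namespace Groth.Agent.Helper2.FpqcFinite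

variable {S : Scheme.{u}}

theorem isFiniteMor_iff {X Y : Sp S} (hX : IsAlgSpace X) (hY : IsAlgSpace Y) (f : X ⟶ Y) :
    (IsSeparatedMor f ∧ (IsUnivClosedMor f ∧
      LocP (@LocallyQuasiFinite ⊓ @LocallyOfFiniteType) f)) ↔ IsFiniteMor f := by
  have tf := Groth.Agent.Helper2.ProperQf.isFiniteMor_tfae hX hY f
  have h12 := tf.out 0 1
  rw [h12]
  constructor
  · rintro ⟨a, b, c⟩
    exact ⟨⟨a, ⟨locP_mono inf_le_right c, isQuasiCompactMor_of_isUnivClosedMor hX hY f b⟩, b⟩, c⟩
  · rintro ⟨⟨a, -, b⟩, c⟩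
    exact ⟨a, b, c⟩

theorem isLocalOnBase_fpqc_isFiniteMor :
    IsLocalOnBase (IsFpqcCover (S := S)) IsFiniteMor := by
  have := Groth.Agent.S0083.result.{u}
  refine isLocalOnBase_congr (fun X Y f hX hY => isFiniteMor_iff hX hY f) ?_
  exact isLocalOnBase_and (isLocalOnBase_fpqc_diagonal @IsClosedImmersion)
    (isLocalOnBase_and isLocalOnBase_fpqc_isUnivClosedMor
      (isLocalOnBase_fpqc_locP (@LocallyQuasiFinite ⊓ @LocallyOfFiniteType)))

end Groth.Agent.Helper2.FpqcFinite
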