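import Mathlib
import Groth.Agent.Lib.Helper2.AlgSp.FpqcFinite
import Groth.Agent.Lib.Helper2.AlgSp.FinLocFree

/-!
# Finite locally free morphisms of algebraic spaces are fpqc local on the base (helper2)
-/

set_option autoImplicit false
universe u
open CategoryTheory CategoryTheory.Limits AlgebraicGeometry Opposite AlgSp
open Groth.Agent.Helper2.AlgSpBasic Groth.Agent.Helper2.EtaleLocal

namespace Groth.Agent.Helper2.FpqcFinite

variable {S : Scheme.{u}}

theorem isLocalOnBase_fpqc_isFinLocFreeMor :
    IsLocalOnBase (IsFpqcCover (S := S)) IsFinLocFreeMor := by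
  intro ι Y Yi g hY hYi hcov X f hX Xi p q hXi sq
  constructor
  · intro hf i
    exact repWith_of_isPullback finLocFree (sq i) hf
  · intro hp
    have hfin : ∀ i, IsFiniteMor (p i) := fun i =>
      Groth.Agent.Helper2.FinLocFree.isAffQMor_of_repWith @IsFinite
        (fun _ _ g (hg : IsFinite g) => (inferInstance : IsAffineHom g))
        (repWith_mono (fun _ _ g hg => hg.1) (hp i))
    have hf : IsFiniteMor f :=
      (isLocalOnBase_fpqc_isFiniteMor Yi g hY hYi hcov f hX Xi p q hXi sq).2 hfin
    have hrep : Representable f :=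
      (Groth.Agent.Helper2.FinLocFree.repWith_of_isAffQMor @IsFinite hf).rep
    exact repWith_of_fpqcCover finLocFree Yi g hY hYi hcov f hX Xi p q hXi sq hrep hp

end Groth.Agent.Helper2.FpqcFinite
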