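import Mathlib
import Groth.Prelude.Def_AlgSpCov
import Groth.Agent.Lib.Helper2.AlgSp.FpqcTop
import Groth.Agent.Lib.Helper2.AlgSp.Mono
namespace Groth.Agent.Helper2.AlgSpBasic
open CategoryTheory CategoryTheory.Limits AlgebraicGeometry Opposite AlgSp Topology
universe u
variable {S : Scheme.{u}}

/-- Openness of a set of points may be tested on affine schemes. -/
theorem isOpen_of_forall_affine {F : Sp S} (W : Set (Points F))
    (h : ∀ (Z : Over S), IsAffine Z.left → ∀ g : (yon S).obj Z ⟶ F,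
      IsOpen (Points.ofPt g ⁻¹' W)) : IsOpen W := by
  rw [Points.isOpen_iff]
  intro T g
  rw [isOpen_iff_forall_mem_open]
  intro t ht
  obtain ⟨U, hU, htU⟩ : ∃ U : T.left.Opens, IsAffineOpen U ∧ t ∈ U := by
    obtain ⟨U, hU⟩ := TopologicalSpace.Opens.isBasis_iff_nbhd.mp T.left.isBasis_affineOpens
      (show t ∈ (⊤ : T.left.Opens) from trivial)
    exact ⟨U, hU.1, hU.2.1⟩
  let UO : Over S := Over.mk (U.ι ≫ T.hom)
  let ι : UO ⟶ T := Over.homMk U.ι rfl
  have hopen : IsOpen (Points.ofPt ((yon S).map ι ≫ g) ⁻¹' W) := h UO hU _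
  refine ⟨U.ι '' (Points.ofPt ((yon S).map ι ≫ g) ⁻¹' W), ?_, ?_, ?_⟩
  · rintro _ ⟨u, hu, rfl⟩
    change Points.ofPt ((yon S).map ι ≫ g) u ∈ W at hu
    rw [ofPt_yon_map_comp] at hu
    exact hu
  · exact U.ι.isOpenEmbedding.isOpenMap _ hopen
  · refine ⟨⟨t, htU⟩, ?_, rfl⟩
    change Points.ofPt ((yon S).map ι ≫ g) ⟨t, htU⟩ ∈ W
    rw [ofPt_yon_map_comp]
    exact ht

/-- Openness descends along fpqc coverings. -/
theorem isOpen_of_isFpqcCover {T : Sp S} {ι : Type u} (Ti : ι → Sp S) (g : ∀ i, Ti i ⟶ T)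
    (hg : IsFpqcCover Ti g) (W : Set (Points T))
    (hW : ∀ i, IsOpen (Points.map (g i) ⁻¹' W)) : IsOpen W := by
  refine isOpen_of_forall_affine W fun Z hZ h => ?_
  obtain ⟨m, Wj, c, hWj, hc, hsurj, hl⟩ := hg.2 Z hZ h
  haveI : IsAffine Z.left := hZ
  rw [← isClosed_compl_iff]
  refine isClosed_of_finite_flat_affine_family (fun j => (Wj j).left) (fun j => (c j).left) hWj hc
    hsurj _ fun j => ?_
  rw [Set.preimage_compl, isClosed_compl_iff]
  obtain ⟨i, l, hl⟩ := hl j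
  have : (c j).left ⁻¹' (Points.ofPt h ⁻¹' W) =
      Points.ofPt l ⁻¹' (Points.map (g i) ⁻¹' W) := by
    ext w
    change Points.ofPt h ((c j).left w) ∈ W ↔ Points.map (g i) (Points.ofPt l w) ∈ W
    rw [← ofPt_yon_map_comp, ← hl, Points.map_ofPt]
  rw [this]
  exact (hW i).preimage (Points.continuous_ofPt l)

/-- An fpqc covering is jointly surjective on points. -/
theorem exists_mem_range_of_isFpqcCover {T : Sp S} {ι : Type u} (Ti : ι → Sp S)
    (g : ∀ i, Ti i ⟶ T) (hg : IsFpqcCover Ti g) (x : Points T) :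
    ∃ i, x ∈ Set.range (Points.map (g i)) := by
  obtain ⟨Z, h, z, hZ, rfl⟩ := exists_ofPt_eq_affine x
  obtain ⟨m, Wj, c, hWj, hc, hsurj, hl⟩ := hg.2 Z hZ h
  obtain ⟨j, w, hw⟩ := hsurj z
  obtain ⟨i, l, hl⟩ := hl j
  refine ⟨i, Points.ofPt l w, ?_⟩
  rw [Points.map_ofPt, hl, ofPt_yon_map_comp, hw]

/-- `S10573`: open subsets descend along fpqc coverings. -/
theorem existsUnique_open_of_isFpqcCover {T : Sp S} {ι : Type u} (Ti : ι → Sp S)
    (g : ∀ i, Ti i ⟶ T) (hg : IsFpqcCover Ti g)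
    (Wi : ∀ i, Set (Points (Ti i))) (hW : ∀ i, IsOpen (Wi i))
    (hc : ∀ i j, Points.map (pullback.fst (g i) (g j)) ⁻¹' Wi i =
      Points.map (pullback.snd (g i) (g j)) ⁻¹' Wi j) :
    ∃! W : TopologicalSpace.Opens (Points T),
      ∀ i, Points.map (g i) ⁻¹' (W : Set (Points T)) = Wi i := by
  have key : ∀ i, Points.map (g i) ⁻¹' (⋃ j, Points.map (g j) '' Wi j) = Wi i := by
    intro i
    ext x
    constructor
    · intro hx
      obtain ⟨j, y, hy, hyx⟩ := Set.mem_iUnion.mp hx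
      obtain ⟨z, hz1, hz2⟩ := points_exists_of_isPullback (g j) (g i) (pullback.fst (g i) (g j))
        (pullback.snd (g i) (g j)) (IsPullback.of_hasPullback _ _) x y hyx.symm
      have : z ∈ Points.map (pullback.snd (g i) (g j)) ⁻¹' Wi j := by
        change Points.map _ z ∈ Wi j
        rw [hz2]; exact hy
      rw [← hc i j] at this
      change Points.map _ z ∈ Wi i at this
      rw [hz1] at this
      exact this
    · intro hx
      exact Set.mem_iUnion.mpr ⟨i, x, hx, rfl⟩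
  have hopen : IsOpen (⋃ j, Points.map (g j) '' Wi j) :=
    isOpen_of_isFpqcCover Ti g hg _ fun i => by rw [key i]; exact hW i
  refine ⟨⟨_, hopen⟩, key, ?_⟩
  intro W' hW'
  ext y
  obtain ⟨i, x, rfl⟩ := exists_mem_range_of_isFpqcCover Ti g hg y
  have h1 : x ∈ Points.map (g i) ⁻¹' (W' : Set (Points T)) ↔ x ∈ Wi i := by rw [hW' i]
  have h2 : x ∈ Points.map (g i) ⁻¹' (⋃ j, Points.map (g j) '' Wi j) ↔ x ∈ Wi i := by
    rw [key i]
  exact h1.trans h2.symm

end Groth.Agent.Helper2.AlgSpBasic
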