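import Mathlib
import Groth.Agent.Lib.Helper2.AlgSp.FpqcAffine

/-!
# fpqc locality on the base of quasi-affine morphisms and quasi-compact immersions of algebraic
spaces (helper2)
-/

set_option autoImplicit false
set_option linter.style.haveILetI false

namespace Groth.Agent.Helper2.FpqcAffine
open CategoryTheory CategoryTheory.Limits AlgebraicGeometry Opposite AlgSp
open Groth.Agent.Helper2.AlgSpBasic Groth.Agent.Helper2.EtaleLocal Groth.Agent.Helper2.RepFpqc
universe u
variable {S : Scheme.{u}}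

theorem isQuasiAffineMor_of_isPullback {X Y X' Y' : Sp S} {f : X ⟶ Y}
    {g : Y' ⟶ Y} {fst : X' ⟶ X} {f' : X' ⟶ Y'} (sq : IsPullback fst f' f g)
    (hf : IsQuasiAffineMor f) : IsQuasiAffineMor f' := by
  intro Z hZ t
  obtain ⟨W, i, fstW, sqW, hW⟩ := hf hZ (t ≫ g)
  refine ⟨W, i, sq.lift fstW ((yon S).map i ≫ t) (by rw [sqW.w, Category.assoc]), ?_, hW⟩
  refine IsPullback.of_right ?_ (sq.lift_snd _ _ _) sq
  rw [sq.lift_fst]
  exact sqW

/-- fpqc descent over an affine base for quasi-affine morphisms. -/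
theorem isQuasiAffineMor_fpqc_desc
    ⦃Z : Over S⦄ ⦃X : Sp S⦄ (f : X ⟶ (yon S).obj Z) (hZ : IsAffine Z.left) (hX : IsAlgSpace X)
    (m : ℕ) (W : Fin m → Over S) (c : ∀ j, W j ⟶ Z) (hW : ∀ j, IsAffine (W j).left)
    (hc : ∀ j, Flat (c j).left) (hsurj : ∀ z : ↥Z.left, ∃ j, z ∈ Set.range (c j).left)
    (Xj : Fin m → Sp S) (fst : ∀ j, Xj j ⟶ X) (snd : ∀ j, Xj j ⟶ (yon S).obj (W j))
    (sq : ∀ j, IsPullback (fst j) (snd j) f ((yon S).map (c j)))
    (h : ∀ j, IsQuasiAffineMor (snd j)) : IsQuasiAffineMor f := by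
  have key : ∀ j, ∃ (V : Over S) (v : V ⟶ W j) (fst' : (yon S).obj V ⟶ X),
      IsPullback fst' ((yon S).map v) f ((yon S).map (c j)) ∧ V.left.IsQuasiAffine := by
    intro j
    obtain ⟨V, v, fst', sqV, hV⟩ := h j (hW j) (𝟙 _)
    refine ⟨V, v, fst' ≫ fst j, ?_, hV⟩
    have := sqV.paste_horiz (sq j)
    rwa [Category.id_comp] at this
  choose V v fst' sq' hV using key
  obtain ⟨hqc, T, tZ, π, hT, hπf, hπ⟩ := exists_factor_of_family f hZ hX W c hW hc hsurj V fst' v
    sq' hV
  intro Z' hZ' g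
  obtain ⟨γ, rfl⟩ := (yon S).map_surjective g
  haveI := hZ
  haveI := hZ'
  haveI := hT
  have hrep := hπ.rep
  have sq1 := hrep.isPullback ((yon S).map (pullback.fst tZ γ))
  have sq2 := (IsPullback.of_hasPullback tZ γ).map (yon S)
  have big := sq1.paste_vert sq2
  rw [hπf, ← Functor.map_comp] at big
  refine ⟨hrep.pullback _, hrep.snd _ ≫ pullback.snd tZ γ, hrep.fst _, big, ?_⟩
  have hoi : IsOpenImmersion (hrep.snd ((yon S).map (pullback.fst tZ γ))).left :=
    hπ.property _ _ _ sq1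
  have sqL : IsPullback (pullback.fst tZ γ).left (pullback.snd tZ γ).left tZ.left γ.left :=
    (IsPullback.of_hasPullback tZ γ).map (Over.forget S)
  haveI hA : IsAffine (pullback tZ γ).left := IsAffine.of_isIso sqL.isoPullback.hom
  haveI hcomp : CompactSpace ↥(hrep.pullback ((yon S).map (pullback.fst tZ γ))).left := by
    have := hqc (IsAlgSpace.yon_obj Z') ((isQuasiCompactSp_yon_iff Z').mpr inferInstance)
      ((yon S).map γ) _ _ big
    exact (isQuasiCompactSp_yon_iff _).mp this
  exact Scheme.IsQuasiAffine.of_isImmersion (hrep.snd ((yon S).map (pullback.fst tZ γ))).left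

/-- `S10537`. -/
theorem isLocalOnBase_fpqc_isQuasiAffineMor :
    IsLocalOnBase (IsFpqcCover (S := S)) IsQuasiAffineMor := by
  refine isLocalOnBase_fpqc_of_desc IsQuasiAffineMor ?_ ?_ ?_
  · intro X Y X' Y' f g f' g' _ _ _ _ sq hf
    exact isQuasiAffineMor_of_isPullback sq hf
  · intro X Y f hX hY h Z hZ g
    have sqP := IsPullback.of_hasPullback f g
    have hP : IsAlgSpace (pullback f g) :=
      isAlgSpace_of_isPullback hY.diag hX (IsAlgSpace.yon_obj Z) f g _ _ sqP
    obtain ⟨W, i, fst', sqW, hW⟩ := h Z hZ g _ _ _ hP sqP hZ (𝟙 _)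
    refine ⟨W, i, fst' ≫ pullback.fst f g, ?_, hW⟩
    have := sqW.paste_horiz sqP
    rwa [Category.id_comp] at this
  · intro Z X f hZ hX m W c hW hc hsurj Xj fst snd _ sq h
    exact isQuasiAffineMor_fpqc_desc f hZ hX m W c hW hc hsurj Xj fst snd sq h

/-- `S10538`. -/
theorem isLocalOnBase_fpqc_repWith_quasiCompact_immersion
    [MorphismProperty.DescendsAlong (@IsImmersion ⊓ @QuasiCompact : MorphismProperty Scheme.{u})
      (@Surjective ⊓ @Flat ⊓ @QuasiCompact : MorphismProperty Scheme.{u})] :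
    IsLocalOnBase (IsFpqcCover (S := S))
      (RepWith (@IsImmersion ⊓ @QuasiCompact : MorphismProperty Scheme.{u})) := by
  refine isLocalOnBase_fpqc_of_desc _ ?_ ?_ ?_
  · intro X Y X' Y' f g f' g' _ _ _ _ sq hf
    exact repWith_of_isPullback _ sq hf
  · intro X Y f hX hY h
    refine Groth.Agent.Helper2.ZarGlue.repWith_of_affine' _ f fun Z hZ g P₀ fst snd sqP => ?_
    exact h Z hZ g P₀ fst snd
      (isAlgSpace_of_isPullback hY.diag hX (IsAlgSpace.yon_obj Z) f g _ _ sqP) sqP
  · intro Z X f hZ hX m W c hW hc hsurj Xj fst snd _ sq h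
    have key : ∀ j, ∃ (V : Over S) (v : V ⟶ W j) (fst' : (yon S).obj V ⟶ X),
        IsPullback fst' ((yon S).map v) f ((yon S).map (c j)) ∧
          (@IsImmersion ⊓ @QuasiCompact : MorphismProperty Scheme.{u}) v.left := by
      intro j
      have hrep := (h j).rep
      have sqV := hrep.isPullback (𝟙 _)
      refine ⟨hrep.pullback (𝟙 _), hrep.snd (𝟙 _), hrep.fst (𝟙 _) ≫ fst j, ?_,
        (h j).property _ _ _ sqV⟩
      have := sqV.paste_horiz (sq j)
      rwa [Category.id_comp] at this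
    choose V v fst' sq' hPv using key
    have hV : ∀ j, (V j).left.IsQuasiAffine := by
      intro j
      haveI := hW j
      haveI : IsImmersion (v j).left := (hPv j).1
      haveI : QuasiCompact (v j).left := (hPv j).2
      haveI : CompactSpace ↥(V j).left := QuasiCompact.compactSpace_of_compactSpace (v j).left
      exact Scheme.IsQuasiAffine.of_isImmersion (v j).left
    obtain ⟨-, T, tZ, π, hT, hπf, hπ⟩ := exists_factor_of_family f hZ hX W c hW hc hsurj V fst' v
      sq' hV
    have hrep := representable_of_factor f tZ π hπf hπ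
    exact repWith_fpqc_desc _ f hZ hrep m W c hW hc hsurj _ fst' _ sq'
      (fun j => (repWith_yon_map_iff _ _).2 (hPv j))

end Groth.Agent.Helper2.FpqcAffine
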