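import Mathlib
import Groth.Prelude.Def_AlgSp
import Groth.Agent.Lib.Helper2.AlgSp.Coprod
import Groth.Agent.Lib.Helper2.AlgSp.FormalLift

/-!
# Free actions of abstract groups on schemes give etale equivalence relations (helper2)
-/

set_option autoImplicit false

namespace Groth.Agent.Helper2.FreeAct
open CategoryTheory CategoryTheory.Limits AlgebraicGeometry Opposite AlgSp
open Groth.Agent.Helper2.AlgSpBasic Groth.Agent.Helper2.Coprod Groth.Agent.Helper2.AlgSpFormal
universe u
variable {S : Scheme.{u}}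

/-- `Spec` of a homomorphism of fields is an epimorphism of schemes. -/
theorem epi_spec_map_field {K L : CommRingCat.{u}} (hK : IsField K) (hL : IsField L) (φ : K ⟶ L) :
    Epi (Spec.map φ) := by
  letI : Field K := hK.toField
  letI : Field L := hL.toField
  haveI : Flat (Spec.map φ) := by
    rw [HasRingHomProperty.Spec_iff (P := @Flat)]
    letI : Algebra K L := φ.hom.toAlgebra
    show Module.Flat K L
    infer_instance
  haveI : Surjective (Spec.map φ) := by
    constructor
    intro y
    haveI : Subsingleton (Spec K) := by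
      show Subsingleton (PrimeSpectrum K)
      infer_instance
    haveI : Nonempty (Spec L) := by
      show Nonempty (PrimeSpectrum L)
      infer_instance
    exact ⟨Classical.arbitrary _, Subsingleton.elim _ _⟩
  exact Flat.epi_of_flat_of_surjective _

section Sigma

variable {ι : Type u} (V : ι → Over S)

/-- The disjoint union over `S` is a coproduct in `Over S`. -/
noncomputable def isColimitSigmaOver : IsColimit (Cofan.mk (sigmaOver V) (sigmaOverι V)) :=
  mkCofanColimit _
    (fun s => Over.homMk (Sigma.desc (fun i => (s.inj i).left)) (by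
      apply Sigma.hom_ext
      intro i
      show Sigma.ι (fun i => (V i).left) i ≫ Sigma.desc (fun i => (s.inj i).left) ≫ s.pt.hom =
        Sigma.ι (fun i => (V i).left) i ≫ Sigma.desc (fun i => (V i).hom)
      rw [Sigma.ι_desc_assoc, Sigma.ι_desc, Over.w]))
    (fun s i => by
      ext
      show Sigma.ι (fun i => (V i).left) i ≫ Sigma.desc (fun i => (s.inj i).left) = _
      rw [Sigma.ι_desc])
    (fun s m hm => by
      ext
      apply Sigma.hom_ext
      intro i
      have h1 : Sigma.ι (fun i => (V i).left) i ≫ m.left = (s.inj i).left :=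
        congrArg (fun φ => φ.left) (hm i)
      show Sigma.ι (fun i => (V i).left) i ≫ m.left =
        Sigma.ι (fun i => (V i).left) i ≫ Sigma.desc (fun i => (s.inj i).left)
      rw [h1, Sigma.ι_desc])

variable {V} (c : Cofan V) (hc : IsColimit c)

/-- `h` of a coproduct of schemes over `S` is the coproduct of the `h`'s. -/
noncomputable def isColimitYonCofan :
    IsColimit (Cofan.mk ((yon S).obj c.pt) (fun i => (yon S).map (c.inj i))) := by
  let e : sigmaOver V ≅ c.pt := (isColimitSigmaOver V).coconePointUniqueUpToIso hc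
  have he : ∀ i, sigmaOverι V i ≫ e.hom = c.inj i := fun i =>
    (isColimitSigmaOver V).comp_coconePointUniqueUpToIso_hom hc ⟨i⟩
  refine IsColimit.ofIsoColimit (isColimitYonSigmaOver V) (Cofan.ext ((yon S).mapIso e) ?_)
  intro i
  show (yon S).map (sigmaOverι V i) ≫ (yon S).map e.hom = (yon S).map (c.inj i)
  rw [← Functor.map_comp, he]

end Sigma


/-- Morphisms of schemes over `S` agreeing on a jointly surjective flat lfp family are equal. -/
theorem hom_ext_local {T X : Over S} (a b : T ⟶ X) {κ : Type*} (W : κ → Over S)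
    (p : ∀ k, W k ⟶ T)
    (hp : ∀ k, (@Flat ⊓ @LocallyOfFinitePresentation : MorphismProperty Scheme.{u}) (p k).left)
    (hs : ∀ x : T.left, ∃ k, x ∈ Set.range (p k).left)
    (h : ∀ k, p k ≫ a = p k ≫ b) : a = b := by
  apply (yon S).map_injective
  refine hom_ext_of_family W p hp hs _ _ fun k => ?_
  rw [← Functor.map_comp, ← Functor.map_comp, h k]

/-- Morphisms over `S` out of an empty scheme are equal. -/
theorem hom_ext_of_isEmpty' {T X : Over S} (hT : IsEmpty T.left) (a b : T ⟶ X) : a = b := by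
  apply (yon S).map_injective
  exact hom_ext_of_isEmpty hT _ _

section Action

variable {U : Over S} {G : Type u} [Group G] (ρ : G →* Aut U)
  (hfree : ∀ (g : G) (x : U.left), g ≠ 1 →
    U.left.fromSpecResidueField x ≫ (ρ g).hom.left ≠ U.left.fromSpecResidueField x)

theorem act_mul (g h : G) : (ρ (g * h)).hom = (ρ h).hom ≫ (ρ g).hom := by
  rw [map_mul, Aut.Aut_mul_def]
  rfl

theorem act_one : (ρ 1).hom = 𝟙 U := by
  rw [map_one]
  rfl

include hfree in
theorem eq_one_of_fixed (k : G) {T : Over S} (x : T.left) (b : T ⟶ U)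
    (h : b ≫ (ρ k).hom = b) : k = 1 := by
  by_contra hk
  apply hfree k (b.left x) hk
  haveI := epi_spec_map_field (Field.toIsField _) (Field.toIsField _) (b.left.residueFieldMap x)
  rw [← cancel_epi (Spec.map (b.left.residueFieldMap x)),
    Scheme.Hom.SpecMap_residueFieldMap_fromSpecResidueField_assoc,
    Scheme.Hom.SpecMap_residueFieldMap_fromSpecResidueField, ← Over.comp_left, h]

include hfree in
theorem eq_of_act_eq (g h : G) {T : Over S} (x : T.left) (b : T ⟶ U)
    (e : b ≫ (ρ g).hom = b ≫ (ρ h).hom) : g = h := by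
  have h1 : h⁻¹ * g = 1 := eq_one_of_fixed ρ hfree (h⁻¹ * g) x b (by
    rw [act_mul, ← Category.assoc, e, Category.assoc, ← act_mul, inv_mul_cancel, act_one,
      Category.comp_id])
  calc g = h * (h⁻¹ * g) := by group
    _ = h := by rw [h1, mul_one]

variable (c : Cofan (fun _ : G => U)) (hc : IsColimit c) (s t : c.pt ⟶ U)
  (hs : ∀ g, c.inj g ≫ s = 𝟙 U) (ht : ∀ g, c.inj g ≫ t = (ρ g).hom)

include hc in
theorem exists_local_lift' {T : Over S} (r : T ⟶ c.pt) :
    ∃ (κ : Type u) (W : κ → Over S) (p : ∀ k, W k ⟶ T),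
      (∀ k, (@Flat ⊓ @LocallyOfFinitePresentation : MorphismProperty Scheme.{u}) (p k).left) ∧
      (∀ x : T.left, ∃ k, x ∈ Set.range (p k).left) ∧
      ∀ k, ∃ (g : G) (x : W k ⟶ U), x ≫ c.inj g = p k ≫ r := by
  obtain ⟨κ, W, p, hp, hsurj, hl⟩ :=
    exists_local_lift (Cofan.mk ((yon S).obj c.pt) (fun i => (yon S).map (c.inj i)))
      (isColimitYonCofan c hc) ((yon S).map r)
  refine ⟨κ, W, p, hp, hsurj, fun k => ?_⟩
  obtain ⟨g, x, hx⟩ := hl k
  obtain ⟨x', rfl⟩ := (yon S).map_surjective x
  refine ⟨g, x', (yon S).map_injective ?_⟩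
  rw [Functor.map_comp, Functor.map_comp]
  exact hx

include hfree hs ht in
/-- The key pointwise injectivity. -/
theorem inj_eq_of_eq {T : Over S} (a a' : T ⟶ U) (g g' : G)
    (h1 : (a ≫ c.inj g) ≫ t = (a' ≫ c.inj g') ≫ t)
    (h2 : (a ≫ c.inj g) ≫ s = (a' ≫ c.inj g') ≫ s) : a ≫ c.inj g = a' ≫ c.inj g' := by
  have e1 : a = a' := by
    rw [Category.assoc, Category.assoc, hs, hs, Category.comp_id, Category.comp_id] at h2
    exact h2
  subst e1
  rw [Category.assoc, Category.assoc, ht, ht] at h1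
  by_cases hT : IsEmpty T.left
  · exact hom_ext_of_isEmpty' hT _ _
  · rw [not_isEmpty_iff] at hT
    obtain ⟨x⟩ := hT
    rw [eq_of_act_eq ρ hfree g g' x a h1]

include hfree hc hs ht in
theorem injective_of_free (T : Over S) (r r' : T ⟶ c.pt) (h1 : r ≫ t = r' ≫ t)
    (h2 : r ≫ s = r' ≫ s) : r = r' := by
  obtain ⟨κ, W, p, hp, hsurj, hl⟩ := exists_local_lift' c hc r
  refine hom_ext_local r r' W p hp hsurj fun k => ?_
  obtain ⟨g, x, hx⟩ := hl k
  obtain ⟨κ', W', q, hq, hsurj', hl'⟩ := exists_local_lift' c hc (p k ≫ r')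
  refine hom_ext_local _ _ W' q hq hsurj' fun l => ?_
  obtain ⟨g', x', hx'⟩ := hl' l
  have e1 : q l ≫ p k ≫ r = (q l ≫ x) ≫ c.inj g := by
    rw [Category.assoc, hx]
  have e2 : q l ≫ p k ≫ r' = x' ≫ c.inj g' := hx'.symm
  rw [e1, e2]
  apply inj_eq_of_eq ρ hfree c s t hs ht
  · rw [← e1, ← e2, Category.assoc, Category.assoc, Category.assoc, Category.assoc, h1]
  · rw [← e1, ← e2, Category.assoc, Category.assoc, Category.assoc, Category.assoc, h2]

/-- The relation on `T`-points of `U` defined by `R`. -/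
def Rel (T : Over S) (a b : T ⟶ U) : Prop := ∃ r : T ⟶ c.pt, r ≫ t = a ∧ r ≫ s = b

include hs ht in
theorem rel_of_act {T : Over S} (a b : T ⟶ U) (g : G) (h : a = b ≫ (ρ g).hom) :
    Rel c s t T a b :=
  ⟨b ≫ c.inj g, by rw [Category.assoc, ht, h], by rw [Category.assoc, hs, Category.comp_id]⟩

theorem rel_precomp {T T' : Over S} (p : T' ⟶ T) {a b : T ⟶ U} (h : Rel c s t T a b) :
    Rel c s t T' (p ≫ a) (p ≫ b) := by
  obtain ⟨r, h1, h2⟩ := h
  exact ⟨p ≫ r, by rw [Category.assoc, h1], by rw [Category.assoc, h2]⟩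

include hc hs ht in
theorem rel_exists_local {T : Over S} {a b : T ⟶ U} (h : Rel c s t T a b) :
    ∃ (κ : Type u) (W : κ → Over S) (p : ∀ k, W k ⟶ T),
      (∀ k, (@Flat ⊓ @LocallyOfFinitePresentation : MorphismProperty Scheme.{u}) (p k).left) ∧
      (∀ x : T.left, ∃ k, x ∈ Set.range (p k).left) ∧
      ∀ k, ∃ g : G, p k ≫ a = (p k ≫ b) ≫ (ρ g).hom := by
  obtain ⟨r, h1, h2⟩ := h
  obtain ⟨κ, W, p, hp, hsurj, hl⟩ := exists_local_lift' c hc r
  refine ⟨κ, W, p, hp, hsurj, fun k => ?_⟩
  obtain ⟨g, x, hx⟩ := hl k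
  refine ⟨g, ?_⟩
  have e2 : p k ≫ b = x := by
    rw [← h2, ← Category.assoc, ← hx, Category.assoc, hs, Category.comp_id]
  rw [e2, ← h1, ← Category.assoc, ← hx, Category.assoc, ht]

include hfree hc hs ht in
theorem rel_local {T : Over S} (a b : T ⟶ U) {κ : Type u} (W : κ → Over S) (p : ∀ k, W k ⟶ T)
    (hp : ∀ k, (@Flat ⊓ @LocallyOfFinitePresentation : MorphismProperty Scheme.{u}) (p k).left)
    (hsurj : ∀ x : T.left, ∃ k, x ∈ Set.range (p k).left)
    (h : ∀ k, Rel c s t (W k) (p k ≫ a) (p k ≫ b)) : Rel c s t T a b := by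
  choose r hr1 hr2 using h
  obtain ⟨l, hl⟩ := exists_glue_of_family (F := (yon S).obj c.pt) W p hp hsurj
    (fun k => (yon S).map (r k)) (by
      intro i j Q qi qj e
      rw [← Functor.map_comp, ← Functor.map_comp]
      congr 1
      apply injective_of_free ρ hfree c hc s t hs ht
      · rw [Category.assoc, Category.assoc, hr1, hr1, ← Category.assoc, ← Category.assoc, e]
      · rw [Category.assoc, Category.assoc, hr2, hr2, ← Category.assoc, ← Category.assoc, e])
  obtain ⟨r0, rfl⟩ := (yon S).map_surjective l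
  have hl' : ∀ k, p k ≫ r0 = r k := fun k => (yon S).map_injective (by
    rw [Functor.map_comp]; exact hl k)
  refine ⟨r0, ?_, ?_⟩
  · refine hom_ext_local _ _ W p hp hsurj fun k => ?_
    rw [← Category.assoc, hl', hr1]
  · refine hom_ext_local _ _ W p hp hsurj fun k => ?_
    rw [← Category.assoc, hl', hr2]

include hfree hc hs ht in
theorem equivalence_of_free (T : Over S) :
    Equivalence (fun a b : T ⟶ U => ∃ r : T ⟶ c.pt, r ≫ t = a ∧ r ≫ s = b) := by
  refine ⟨fun a => ?_, fun {a b} hab => ?_, fun {a b d} hab hbd => ?_⟩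
  · exact rel_of_act ρ c s t hs ht a a 1 (by rw [act_one, Category.comp_id])
  · obtain ⟨κ, W, p, hp, hsurj, hl⟩ := rel_exists_local ρ c hc s t hs ht hab
    refine rel_local ρ hfree c hc s t hs ht b a W p hp hsurj fun k => ?_
    obtain ⟨g, hg⟩ := hl k
    refine rel_of_act ρ c s t hs ht _ _ g⁻¹ ?_
    rw [hg, Category.assoc, ← act_mul, inv_mul_cancel, act_one, Category.comp_id]
  · obtain ⟨κ, W, p, hp, hsurj, hl⟩ := rel_exists_local ρ c hc s t hs ht hab
    refine rel_local ρ hfree c hc s t hs ht a d W p hp hsurj fun k => ?_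
    obtain ⟨g, hg⟩ := hl k
    have hbd' := rel_precomp c s t (p k) hbd
    obtain ⟨κ', W', q, hq, hsurj', hl'⟩ := rel_exists_local ρ c hc s t hs ht hbd'
    refine rel_local ρ hfree c hc s t hs ht _ _ W' q hq hsurj' fun l => ?_
    obtain ⟨g', hg'⟩ := hl' l
    refine rel_of_act ρ c s t hs ht _ _ (g * g') ?_
    rw [hg, ← Category.assoc, ← Category.assoc, Category.assoc (q l), hg', act_mul,
      Category.assoc, Category.assoc, Category.assoc]

include hc in
theorem etale_of_inj {f : c.pt ⟶ U} (hf : ∀ g, Etale (c.inj g ≫ f).left) : Etale f.left := by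
  let e : sigmaOver (fun _ : G => U) ≅ c.pt :=
    (isColimitSigmaOver (fun _ : G => U)).coconePointUniqueUpToIso hc
  have he : ∀ i, sigmaOverι (fun _ : G => U) i ≫ e.hom = c.inj i := fun i =>
    (isColimitSigmaOver (fun _ : G => U)).comp_coconePointUniqueUpToIso_hom hc ⟨i⟩
  have h1 : (e.hom ≫ f).left = Sigma.desc (fun g : G => (c.inj g ≫ f).left) := by
    apply Sigma.hom_ext
    intro g
    rw [Sigma.ι_desc, ← he g]
    rfl
  have h2 : Etale (e.hom ≫ f).left := by
    rw [h1]
    exact IsZariskiLocalAtSource.sigmaDesc (P := @Etale) hf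
  have h3 : f.left = e.inv.left ≫ (e.hom ≫ f).left := by
    rw [← Over.comp_left, Iso.inv_hom_id_assoc]
  rw [h3]
  haveI : IsIso e.inv.left := inferInstanceAs (IsIso ((Over.forget S).map e.inv))
  infer_instance

include hfree hc hs ht in
theorem isEtaleEqvRel_of_free : IsEtaleEqvRel s t where
  injective := injective_of_free ρ hfree c hc s t hs ht
  equivalence := equivalence_of_free ρ hfree c hc s t hs ht
  etale_left := etale_of_inj c hc (fun g => by
    rw [hs]
    show Etale (𝟙 U.left)
    infer_instance)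
  etale_right := etale_of_inj c hc (fun g => by
    rw [ht]
    haveI : IsIso (ρ g).hom.left := inferInstanceAs (IsIso ((Over.forget S).map (ρ g).hom))
    infer_instance)

end Action

end Groth.Agent.Helper2.FreeAct
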