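import Mathlib
import Groth.Prelude.Def_AlgSp
import Groth.Agent.Lib.Helper2.AlgSp.FreeAct
import Groth.Agent.Lib.Helper2.AlgSp.Sep
import Groth.Agent.Lib.Helper2.AlgSp.EtEqvQuot
import Groth.Agent.Lib.Helper2.SigmaFinite

/-!
# Separation of the quotient by a free action of a finite group (helper2)
-/

set_option autoImplicit false

namespace Groth.Agent.Helper2.FreeActSep
open CategoryTheory CategoryTheory.Limits AlgebraicGeometry Opposite AlgSp
open Groth.Agent.Helper2.AlgSpBasic Groth.Agent.Helper2.Coprod Groth.Agent.Helper2.AlgSpFormal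
open Groth.Agent.Helper2.FreeAct Groth.Agent.Helper2.QuotEff Groth.Agent.Helper2.AlgSpDesc
universe u
variable {S : Scheme.{u}}

/-- A finite disjoint union of schemes quasi-compact over `Z` is quasi-compact over `Z`. -/
theorem quasiCompact_sigmaDesc {ι : Type u} [Finite ι] (W : ι → Scheme.{u}) (Z : Scheme.{u})
    (f : ∀ i, W i ⟶ Z) (hf : ∀ i, QuasiCompact (f i)) : QuasiCompact (Sigma.desc f) := by
  refine ⟨fun V hV hVc => ?_⟩
  have h : (Sigma.desc f) ⁻¹' V = ⋃ i, (Sigma.ι W i) '' ((f i) ⁻¹' V) := by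
    ext x
    simp only [Set.mem_preimage, Set.mem_iUnion, Set.mem_image]
    constructor
    · intro hx
      obtain ⟨⟨i, y⟩, rfl⟩ := (sigmaMk W).surjective x
      rw [sigmaMk_mk] at hx ⊢
      refine ⟨i, y, ?_, rfl⟩
      rw [← Scheme.Hom.comp_apply, Sigma.ι_desc] at hx
      exact hx
    · rintro ⟨i, y, hy, rfl⟩
      rw [← Scheme.Hom.comp_apply, Sigma.ι_desc]
      exact hy
  rw [h]
  exact isCompact_iUnion fun i =>
    ((hf i).isCompact_preimage V hV hVc).image (Sigma.ι W i).continuous

/-- the second projection of a product over `S` inherits base-change-stable properties of the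
first structure map -/
theorem prop_prod_snd_left (P : MorphismProperty Scheme.{u}) [P.IsStableUnderBaseChange]
    (U V : Over S) (h : P U.hom) : P (prod.snd : U ⨯ V ⟶ V).left := by
  rw [← Over.prodLeftIsoPullback_hom_snd]
  exact (P.cancel_left_of_respectsIso _ _).mpr (P.pullback_snd _ _ h)

section General

variable {R U : Over S} (s t : R ⟶ U)

/-- For an étale equivalence relation, the diagonal of the quotient is read off from
`(t, s) : R ⟶ U ×_S U`. -/
theorem repWith_diag_quot_iff (h : IsEtaleEqvRel s t) (P : MorphismProperty Scheme.{u})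
    [P.IsStableUnderBaseChange] [P.IsLocalAtTarget Scheme.fppfPrecoverage] :
    RepWith P (Limits.diag (QuotSh.quot Scheme.fppfPrecoverage s t)) ↔
      P (prod.lift t s).left := by
  have hX := isAlgSpace_quot s t h
  have hrep := representable_qπ s t h
  have he : RepWith @Etale (qπ s t) := repWith_qπ s t @Etale h.toIsEqvRel hrep h.etale_left
  have hsj : RepWith @Surjective (qπ s t) := repWith_qπ s t @Surjective h.toIsEqvRel hrep
    (surjective_left_of_isEqvRel s t h.toIsEqvRel)
  have sq := isPullback_diag_of_isPullback (qπ s t) (qπ s t) t s (isPullback_qπ s t h.toIsEqvRel)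
  have hqe := repWith_prodComparison_prod_map @Etale _ _ he he
  have hqs := repWith_prodComparison_prod_map @Surjective _ _ hsj hsj
  exact repWith_iff_of_chart (Limits.diag _) hX.diag _ hqe hqs _ (prod.lift t s) sq P

theorem mono_prod_lift_of_isEqvRel (h : IsEqvRel s t) : Mono (prod.lift t s).left :=
  mono_prod_lift_left (qπ s t) (qπ s t) t s (isPullback_qπ s t h)

end General

section Action

variable {U : Over S} {G : Type u} [Group G] (ρ : G →* Aut U)
variable (c : Cofan (fun _ : G => U)) (hc : IsColimit c) (s t : c.pt ⟶ U)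
  (hs : ∀ g, c.inj g ≫ s = 𝟙 U) (ht : ∀ g, c.inj g ≫ t = (ρ g).hom)

include hc hs ht in
/-- `(t, s)` on the coproduct is the disjoint union of the graphs. -/
theorem prop_prod_lift_iff (P : MorphismProperty Scheme.{u}) [P.RespectsIso] :
    P (prod.lift t s).left ↔
      P (Sigma.desc (fun g : G => (prod.lift (ρ g).hom (𝟙 U)).left)) := by
  let e : sigmaOver (fun _ : G => U) ≅ c.pt :=
    (isColimitSigmaOver _).coconePointUniqueUpToIso hc
  have he : ∀ g, sigmaOverι (fun _ : G => U) g ≫ e.hom = c.inj g := fun g =>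
    (isColimitSigmaOver _).comp_coconePointUniqueUpToIso_hom hc ⟨g⟩
  have h0 : ∀ g, sigmaOverι (fun _ : G => U) g ≫ (e.hom ≫ prod.lift t s) =
      prod.lift (ρ g).hom (𝟙 U) := by
    intro g
    rw [← Category.assoc, he]
    apply Limits.prod.hom_ext
    · rw [Category.assoc, prod.lift_fst, prod.lift_fst, ht]
    · rw [Category.assoc, prod.lift_snd, prod.lift_snd, hs]
  have h0' : ∀ g, (sigmaOverι (fun _ : G => U) g).left ≫ (e.hom ≫ prod.lift t s).left =
      (prod.lift (ρ g).hom (𝟙 U)).left := by
    intro g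
    rw [← Over.comp_left, h0]
  have h1 : (e.hom ≫ prod.lift t s).left =
      Sigma.desc (fun g : G => (prod.lift (ρ g).hom (𝟙 U)).left) := by
    apply Sigma.hom_ext
    intro g
    rw [Sigma.ι_desc]
    exact h0' g
  rw [← h1, Over.comp_left]
  haveI : IsIso e.hom.left := inferInstance
  exact (P.cancel_left_of_respectsIso e.hom.left _).symm

theorem graph_snd (g : G) :
    (prod.lift (ρ g).hom (𝟙 U)).left ≫ (prod.snd : U ⨯ U ⟶ U).left = 𝟙 U.left := by
  rw [← Over.comp_left, prod.lift_snd]
  rfl

theorem quasiCompact_graph (hU : QuasiSeparated U.hom) (g : G) :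
    QuasiCompact (prod.lift (ρ g).hom (𝟙 U)).left := by
  haveI : QuasiSeparated (prod.snd : U ⨯ U ⟶ U).left :=
    prop_prod_snd_left @QuasiSeparated U U hU
  haveI : QuasiCompact ((prod.lift (ρ g).hom (𝟙 U)).left ≫ (prod.snd : U ⨯ U ⟶ U).left) := by
    rw [graph_snd]; infer_instance
  exact QuasiCompact.of_comp _ (prod.snd : U ⨯ U ⟶ U).left

theorem isClosedImmersion_graph (hU : IsSeparated U.hom) (g : G) :
    IsClosedImmersion (prod.lift (ρ g).hom (𝟙 U)).left := by
  haveI : IsSeparated (prod.snd : U ⨯ U ⟶ U).left :=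
    prop_prod_snd_left @IsSeparated U U hU
  haveI : IsClosedImmersion
      ((prod.lift (ρ g).hom (𝟙 U)).left ≫ (prod.snd : U ⨯ U ⟶ U).left) := by
    rw [graph_snd]; infer_instance
  exact IsClosedImmersion.of_comp _ (prod.snd : U ⨯ U ⟶ U).left

variable [Finite G]

include hc hs ht in
theorem isQuasiSeparatedSp_quot (h : IsEtaleEqvRel s t) (hU : QuasiSeparated U.hom) :
    IsQuasiSeparatedSp (QuotSh.quot Scheme.fppfPrecoverage s t) := by
  rw [IsQuasiSeparatedSp, repWith_diag_quot_iff s t h @QuasiCompact,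
    prop_prod_lift_iff ρ c hc s t hs ht @QuasiCompact]
  exact quasiCompact_sigmaDesc _ _ _ (quasiCompact_graph ρ hU)

include hc hs ht in
theorem isSeparatedSp_quot (h : IsEtaleEqvRel s t) (hU : IsSeparated U.hom) :
    IsSeparatedSp (QuotSh.quot Scheme.fppfPrecoverage s t) := by
  rw [IsSeparatedSp, repWith_diag_quot_iff s t h @IsClosedImmersion,
    IsClosedImmersion.iff_isFinite_and_mono]
  refine ⟨?_, mono_prod_lift_of_isEqvRel s t h.toIsEqvRel⟩
  rw [prop_prod_lift_iff ρ c hc s t hs ht @IsFinite]
  refine Groth.Agent.Helper2.SigmaFinite.isFinite_sigmaDesc _ _ _ fun g => ?_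
  haveI := isClosedImmersion_graph ρ hU g
  infer_instance

end Action

end Groth.Agent.Helper2.FreeActSep
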