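import Mathlib
import Groth.Prelude.Def_AlgSpGpd
import Groth.Agent.Lib.Helper2.AlgSp.Mor2

/-!
# Group actions in sheaves over `B`: action on points (helper2)
-/

set_option autoImplicit false
open CategoryTheory CategoryTheory.Limits AlgebraicGeometry Opposite AlgSp
open MonoidalCategory CartesianMonoidalCategory MonObj

namespace Groth.Agent.Helper2.GActionPts
universe u
variable {S : Scheme.{u}} {B : Sp S} {G X : Over B} [GrpObj G] (a : GAction G X)

/-- The action on `Y`-valued points. -/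
noncomputable def smul {Y : Over B} (g : Y ⟶ G) (x : Y ⟶ X) : Y ⟶ X := lift g x ≫ a.act

theorem one_smul {Y : Over B} (x : Y ⟶ X) : smul a (1 : Y ⟶ G) x = x := by
  unfold smul
  rw [Hom.one_def]
  have h : lift (toUnit Y ≫ η[G]) x = lift (toUnit Y) x ≫ (η[G] ▷ X) := by
    rw [lift_whiskerRight]
  rw [h, Category.assoc, a.one_act]
  simp

theorem mul_smul {Y : Over B} (g h : Y ⟶ G) (x : Y ⟶ X) :
    smul a (g * h) x = smul a g (smul a h x) := by
  unfold smul
  rw [Hom.mul_def]
  have e : lift (lift g h ≫ μ[G]) x = lift (lift g h) x ≫ (μ[G] ▷ X) := by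
    rw [lift_whiskerRight]
  rw [e, Category.assoc, a.mul_act]
  simp

theorem smul_cancel {Y : Over B} (g g' : Y ⟶ G) (x : Y ⟶ X)
    (hfree : ∀ (k : Y ⟶ G), smul a k x = x → k = 1) (h : smul a g x = smul a g' x) : g = g' := by
  have h1 : smul a (g'⁻¹ * g) x = x := by
    rw [mul_smul, h, ← mul_smul, inv_mul_cancel, one_smul]
  have h2 := hfree _ h1
  have : g = g' * (g'⁻¹ * g) := by rw [mul_inv_cancel_left]
  rw [this, h2, _root_.mul_one]

theorem eq_of_comp_shear_eq {Y : Over B} (p q : Y ⟶ G ⊗ X)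
    (hfree : ∀ (k : Y ⟶ G) (x : Y ⟶ X), smul a k x = x → k = 1)
    (h : p ≫ lift a.act (snd G X) = q ≫ lift a.act (snd G X)) : p = q := by
  have hs : p ≫ snd G X = q ≫ snd G X := by
    have := congrArg (· ≫ snd X X) h
    simpa only [Category.assoc, lift_snd] using this
  have hf : p ≫ a.act = q ≫ a.act := by
    have := congrArg (· ≫ fst X X) h
    simpa only [Category.assoc, lift_fst] using this
  have hp : p = lift (p ≫ fst G X) (p ≫ snd G X) := by
    apply CartesianMonoidalCategory.hom_ext <;> simp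
  have hq : q = lift (q ≫ fst G X) (p ≫ snd G X) := by
    apply CartesianMonoidalCategory.hom_ext
    · simp
    · simp [hs]
  have key : p ≫ fst G X = q ≫ fst G X := by
    apply smul_cancel a _ _ (p ≫ snd G X) (fun k => hfree k _)
    unfold smul
    rw [← hp, ← hq, hf]
  rw [hp, hq, key]

open Groth.Agent.Helper2.AlgSpBasic in
theorem mono_shear_of_isFree (ha : a.IsFree) : Mono (lift a.act (snd G X)).left := by
  constructor
  intro A u v huv
  apply hom_ext_yon
  intro T p
  have hPQ : (p ≫ u) ≫ (lift a.act (snd G X)).left = (p ≫ v) ≫ (lift a.act (snd G X)).left := by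
    rw [Category.assoc, Category.assoc, huv]
  have hQβ : (p ≫ v) ≫ (G ⊗ X).hom = (p ≫ u) ≫ (G ⊗ X).hom := by
    rw [← Over.w (lift a.act (snd G X)), ← Category.assoc, ← hPQ, Category.assoc,
      Over.w (lift a.act (snd G X))]
  let P' : Over.mk ((p ≫ u) ≫ (G ⊗ X).hom) ⟶ G ⊗ X := Over.homMk (p ≫ u) rfl
  let Q' : Over.mk ((p ≫ u) ≫ (G ⊗ X).hom) ⟶ G ⊗ X := Over.homMk (p ≫ v) hQβ
  have h' : P' ≫ lift a.act (snd G X) = Q' ≫ lift a.act (snd G X) :=
    Over.OverMorphism.ext hPQ
  have key : P' = Q' := by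
    apply eq_of_comp_shear_eq a P' Q' _ h'
    intro k x hk
    exact ha _ k x hk
  exact congrArg (fun m => m.left) key

end Groth.Agent.Helper2.GActionPts
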