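import Mathlib
import Groth.Agent.Lib.Helper2.AlgSp.GSect

/-!
# helper2: global functions on a normal integral algebraic space form a normal domain (S10495)

For `t = f/g` integral over `R = Γ(X, O_X)`, we show that on every object `E` of the small etale
site and at every point `e` of `E` the germ of `g_E` is a nonzerodivisor dividing the germ of `f_E`
(`Good`): on the normal chart this is normality of the local rings, and it passes up and down flat
(etale) morphisms.  Zariski gluing on each `E` then gives unique `h_E` with `f_E = g_E h_E`, and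
uniqueness makes the `h_E` a compatible family, i.e. a global section.
-/

set_option autoImplicit false
set_option backward.isDefEq.respectTransparency false
set_option synthInstance.maxHeartbeats 400000
set_option maxHeartbeats 4000000
set_option linter.style.haveILetI false
set_option linter.unusedSectionVars false
set_option linter.unusedVariables false
set_option linter.unusedSimpArgs false
set_option linter.unnecessarySimpa false

open CategoryTheory CategoryTheory.Limits AlgebraicGeometry Opposite AlgSp Polynomial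

namespace Groth.Agent.Helper2.GSectNormal

open Groth.Agent.Helper2.GSect

universe u

/-! ### Algebra -/

theorem exists_mul_eq_of_scaleRoots {R A : Type*} [CommRing R] [CommRing A] [IsDomain A]
    [IsIntegrallyClosed A] (ρ : R →+* A) (f g : R) (p : R[X]) (hp : p.Monic)
    (h0 : (scaleRoots p g).eval f = 0) (hg : ρ g ≠ 0) : ∃ c : A, ρ f = ρ g * c := by
  have h1 : ((p.map ρ).scaleRoots (ρ g)).eval (ρ f) = 0 := by
    rw [← Polynomial.map_scaleRoots p g ρ (by rw [hp.leadingCoeff, map_one]; exact one_ne_zero),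
      Polynomial.eval_map, Polynomial.eval₂_at_apply, h0, map_zero]
  have hg' : algebraMap A (FractionRing A) (ρ g) ≠ 0 :=
    (map_ne_zero_iff _ (IsFractionRing.injective A (FractionRing A))).mpr hg
  have h2 : eval₂ (algebraMap A (FractionRing A))
      (algebraMap A (FractionRing A) (ρ g) *
        (algebraMap A (FractionRing A) (ρ f) / algebraMap A (FractionRing A) (ρ g)))
      ((p.map ρ).scaleRoots (ρ g)) = 0 := by
    have e : algebraMap A (FractionRing A) (ρ g) *
        (algebraMap A (FractionRing A) (ρ f) / algebraMap A (FractionRing A) (ρ g))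
        = algebraMap A (FractionRing A) (ρ f) := by
      field_simp
    rw [e, Polynomial.eval₂_at_apply, h1, map_zero]
  rw [Polynomial.scaleRoots_eval₂_mul] at h2
  have h3 : eval₂ (algebraMap A (FractionRing A))
      (algebraMap A (FractionRing A) (ρ f) / algebraMap A (FractionRing A) (ρ g))
      (p.map ρ) = 0 := by
    rcases mul_eq_zero.mp h2 with h | h
    · exact absurd h (pow_ne_zero _ hg')
    · exact h
  have hint : IsIntegral A
      (algebraMap A (FractionRing A) (ρ f) / algebraMap A (FractionRing A) (ρ g)) :=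
    ⟨p.map ρ, hp.map ρ, h3⟩
  obtain ⟨c, hc⟩ := IsIntegrallyClosed.algebraMap_eq_of_integral hint
  refine ⟨c, ?_⟩
  apply IsFractionRing.injective A (FractionRing A)
  rw [map_mul, hc]
  field_simp

/-! ### Elements of the limit -/

variable {S : Scheme.{u}} {X : Sp S}

/-- The component map as a ring homomorphism. -/
noncomputable def compHom (E : EtOver X) : ↥(gsectEt (OEt X)) →+* Γ(E.obj.left.left, ⊤) :=
  (ULift.ringEquiv (R := Γ(E.obj.left.left, ⊤))).toRingHom.comp
    (limit.π (OEt X).obj (op E)).hom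

theorem compHom_apply (E : EtOver X) (f : ↥(gsectEt (OEt X))) : compHom E f = comp f E := rfl

/-- A compatible family of functions defines a global section. -/
noncomputable def mkSec (h : ∀ E : EtOver X, Γ(E.obj.left.left, ⊤))
    (hc : ∀ {E E' : EtOver X} (g : E ⟶ E'), h E = g.hom.left.left.appTop.hom (h E')) :
    ↥(gsectEt (OEt X)) :=
  (Types.isLimitEquivSections (isLimitOfPreserves (forget CommRingCat.{u + 1})
    (limit.isLimit (OEt X).obj))).symm
    ⟨fun j => (ULift.up (h j.unop) : ↥((OEt X).obj.obj j)), by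
      intro j j' φ
      have h1 := OEt_map (X := X) φ.unop (ULift.up (h j.unop) : ↥((OEt X).obj.obj (op j.unop)))
      have h2 := hc φ.unop
      change (OEt X).obj.map φ.unop.op (ULift.up (h j.unop)) = ULift.up (h j'.unop)
      rw [h1, h2]⟩

theorem comp_mkSec (h : ∀ E : EtOver X, Γ(E.obj.left.left, ⊤))
    (hc : ∀ {E E' : EtOver X} (g : E ⟶ E'), h E = g.hom.left.left.appTop.hom (h E'))
    (E : EtOver X) : comp (mkSec h hc) E = h E := by
  have := Types.isLimitEquivSections_symm_apply (isLimitOfPreserves (forget CommRingCat.{u + 1})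
    (limit.isLimit (OEt X).obj))
    ⟨fun j => (ULift.up (h j.unop) : ↥((OEt X).obj.obj j)), by
      intro j j' φ
      have h1 := OEt_map (X := X) φ.unop (ULift.up (h j.unop) : ↥((OEt X).obj.obj (op j.unop)))
      have h2 := hc φ.unop
      change (OEt X).obj.map φ.unop.op (ULift.up (h j.unop)) = ULift.up (h j'.unop)
      rw [h1, h2]⟩ (op E)
  exact congrArg ULift.down this

/-! ### Zariski gluing of quotients -/

theorem res_res {Y : Scheme.{u}} {A B C : Y.Opens} (i : A ⟶ B) (j : B ⟶ C) (k : A ⟶ C)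
    (s : Γ(Y, C)) : Y.presheaf.map i.op (Y.presheaf.map j.op s) = Y.presheaf.map k.op s := by
  rw [← CommRingCat.comp_apply, ← Functor.map_comp, ← op_comp]
  rw [Subsingleton.elim (i ≫ j) k]

theorem section_ext' (Y : Scheme.{u}) (U : Y.Opens) (s t : Γ(Y, U))
    (h : ∀ (x : Y) (hx : x ∈ U), Y.presheaf.germ U x hx s = Y.presheaf.germ U x hx t) : s = t :=
  TopCat.Presheaf.section_ext Y.sheaf U s t h

/-- `g` is a nonzerodivisor at `y` and divides `f` there. -/
def Good (Y : Scheme.{u}) (f g : Γ(Y, ⊤)) (y : Y) : Prop :=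
  (∀ s : Y.presheaf.stalk y, Y.presheaf.germ ⊤ y trivial g * s = 0 → s = 0) ∧
  ∃ c : Y.presheaf.stalk y, Y.presheaf.germ ⊤ y trivial f = Y.presheaf.germ ⊤ y trivial g * c

theorem eq_of_mul_eq (Y : Scheme.{u}) (g : Γ(Y, ⊤))
    (hg : ∀ y : Y, ∀ s : Y.presheaf.stalk y, Y.presheaf.germ ⊤ y trivial g * s = 0 → s = 0)
    (h h' : Γ(Y, ⊤)) (he : g * h = g * h') : h = h' := by
  apply section_ext' Y ⊤ h h'
  intro y hy
  have h1 : Y.presheaf.germ ⊤ y trivial g *
      (Y.presheaf.germ ⊤ y trivial h - Y.presheaf.germ ⊤ y trivial h') = 0 := by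
    rw [mul_sub, ← map_mul, ← map_mul, he, sub_self]
  exact sub_eq_zero.mp (hg y _ h1)

theorem exists_quotient_section (Y : Scheme.{u}) (f g : Γ(Y, ⊤)) (hG : ∀ y : Y, Good Y f g y) :
    ∃ h : Γ(Y, ⊤), f = g * h := by
  have hloc : ∀ y : Y, ∃ (V : Y.Opens) (hy : y ∈ V) (h : Γ(Y, V)),
      Y.presheaf.map (homOfLE le_top : V ⟶ ⊤).op f =
        Y.presheaf.map (homOfLE le_top : V ⟶ ⊤).op g * h := by
    intro y
    obtain ⟨-, c, hc⟩ := hG y
    obtain ⟨V, hyV, h, hh⟩ := TopCat.Presheaf.exists_germ_eq Y.presheaf c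
    have h1 : Y.presheaf.germ V y hyV (Y.presheaf.map (homOfLE le_top : V ⟶ ⊤).op f) =
        Y.presheaf.germ V y hyV (Y.presheaf.map (homOfLE le_top : V ⟶ ⊤).op g * h) := by
      rw [map_mul, TopCat.Presheaf.germ_res_apply, TopCat.Presheaf.germ_res_apply, hh]
      exact hc
    obtain ⟨W, hyW, i1, i2, hW⟩ := TopCat.Presheaf.germ_eq Y.presheaf y hyV hyV _ _ h1
    refine ⟨W, hyW, Y.presheaf.map i1.op h, ?_⟩
    rw [Subsingleton.elim i2 i1, map_mul, res_res i1 _ (homOfLE le_top),
      res_res i1 _ (homOfLE le_top)] at hW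
    exact hW
  choose V hyV hV hVe using hloc
  have hcompat : TopCat.Presheaf.IsCompatible Y.presheaf V hV := by
    intro y z
    apply section_ext' Y
    intro x hx
    rw [TopCat.Presheaf.germ_res_apply, TopCat.Presheaf.germ_res_apply]
    have e1 := congrArg (Y.presheaf.germ (V y) x hx.1) (hVe y)
    have e2 := congrArg (Y.presheaf.germ (V z) x hx.2) (hVe z)
    rw [map_mul, TopCat.Presheaf.germ_res_apply, TopCat.Presheaf.germ_res_apply] at e1 e2
    have h1 : Y.presheaf.germ ⊤ x trivial g *
        (Y.presheaf.germ (V y) x hx.1 (hV y) - Y.presheaf.germ (V z) x hx.2 (hV z)) = 0 := by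
      rw [mul_sub, ← e1, ← e2, sub_self]
    exact sub_eq_zero.mp ((hG x).1 _ h1)
  obtain ⟨s, hs, -⟩ : ∃! s : Γ(Y, ⊤),
      ∀ y, Y.presheaf.map (homOfLE le_top : V y ⟶ ⊤).op s = hV y :=
    Y.sheaf.existsUnique_gluing' V ⊤ (fun y => homOfLE le_top)
      (fun y _ => TopologicalSpace.Opens.mem_iSup.mpr ⟨y, hyV y⟩) hV hcompat
  refine ⟨s, ?_⟩
  apply section_ext' Y ⊤ f (g * s)
  intro x hx
  have e1 := congrArg (Y.presheaf.germ (V x) x (hyV x)) (hVe x)
  rw [map_mul, TopCat.Presheaf.germ_res_apply, TopCat.Presheaf.germ_res_apply] at e1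
  rw [map_mul, e1, ← hs x, TopCat.Presheaf.germ_res_apply]

/-! ### Going up and down flat morphisms -/

theorem germ_appTop {W U : Scheme.{u}} (φ : W ⟶ U) (w : W) (y : Γ(U, ⊤)) :
    W.presheaf.germ ⊤ w trivial (φ.appTop.hom y) =
      φ.stalkMap w (U.presheaf.germ ⊤ (φ w) trivial y) :=
  (Scheme.Hom.germ_stalkMap_apply φ ⊤ w trivial y).symm

theorem Good.ascend {W U : Scheme.{u}} (φ : W ⟶ U) [Flat φ] (f g : Γ(U, ⊤)) (w : W)
    (h : Good U f g (φ w)) : Good W (φ.appTop.hom f) (φ.appTop.hom g) w := by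
  obtain ⟨h1, c, hc⟩ := h
  have hflat : (φ.stalkMap w).hom.Flat := Flat.stalkMap φ w
  algebraize [(φ.stalkMap w).hom]
  constructor
  · intro s hs
    have hreg : IsSMulRegular (U.presheaf.stalk (φ w)) (U.presheaf.germ ⊤ (φ w) trivial g) := by
      intro a b hab
      have hab' : U.presheaf.germ ⊤ (φ w) trivial g * a = U.presheaf.germ ⊤ (φ w) trivial g * b :=
        hab
      have : U.presheaf.germ ⊤ (φ w) trivial g * (a - b) = 0 := by
        rw [mul_sub, hab', sub_self]
      exact sub_eq_zero.mp (h1 _ this)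
    have hreg' := IsSMulRegular.of_flat (S := W.presheaf.stalk w) hreg
    rw [germ_appTop] at hs
    apply hreg'
    change φ.stalkMap w (U.presheaf.germ ⊤ (φ w) trivial g) * s
      = φ.stalkMap w (U.presheaf.germ ⊤ (φ w) trivial g) * 0
    rw [mul_zero]
    exact hs
  · refine ⟨φ.stalkMap w c, ?_⟩
    rw [germ_appTop, germ_appTop, hc, map_mul]

theorem Good.descend {W E : Scheme.{u}} (φ : W ⟶ E) [Flat φ] (f g : Γ(E, ⊤)) (w : W)
    (h : Good W (φ.appTop.hom f) (φ.appTop.hom g) w) : Good E f g (φ w) := by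
  obtain ⟨h1, c, hc⟩ := h
  have hflat : (φ.stalkMap w).hom.Flat := Flat.stalkMap φ w
  algebraize [(φ.stalkMap w).hom]
  haveI : IsLocalHom (algebraMap (E.presheaf.stalk (φ w)) (W.presheaf.stalk w)) :=
    inferInstanceAs (IsLocalHom (φ.stalkMap w).hom)
  haveI : Module.FaithfullyFlat (E.presheaf.stalk (φ w)) (W.presheaf.stalk w) :=
    Module.FaithfullyFlat.of_flat_of_isLocalHom
  have hinj : Function.Injective (φ.stalkMap w).hom :=
    FaithfulSMul.algebraMap_injective (E.presheaf.stalk (φ w)) (W.presheaf.stalk w)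
  rw [germ_appTop, germ_appTop] at hc
  constructor
  · intro s hs
    apply hinj
    rw [map_zero]
    apply h1
    rw [germ_appTop]
    change φ.stalkMap w (E.presheaf.germ ⊤ (φ w) trivial g) * φ.stalkMap w s = 0
    rw [← map_mul, hs, map_zero]
  · have hmem : E.presheaf.germ ⊤ (φ w) trivial f ∈
        (Ideal.span {E.presheaf.germ ⊤ (φ w) trivial g} : Ideal (E.presheaf.stalk (φ w))) := by
      rw [← Ideal.comap_map_eq_self_of_faithfullyFlat (B := W.presheaf.stalk w)
        (Ideal.span {E.presheaf.germ ⊤ (φ w) trivial g})]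
      rw [Ideal.mem_comap, Ideal.map_span, Set.image_singleton, Ideal.mem_span_singleton']
      refine ⟨c, ?_⟩
      rw [mul_comm]
      exact hc.symm
    obtain ⟨c', hc'⟩ := Ideal.mem_span_singleton'.mp hmem
    exact ⟨c', by rw [← hc', mul_comm]⟩

/-! ### Nonvanishing germs -/

theorem germ_comp_ne_zero (hXa : IsAlgSpace X) [IrreducibleSpace (Points X)]
    (g : ↥(gsectEt (OEt X))) (hg : (nonvanishing g).Nonempty) (E : EtOver X)
    (e : ↥E.obj.left.left) :
    E.obj.left.left.presheaf.germ ⊤ e trivial (comp g E) ≠ 0 := by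
  intro h0
  have h0' : E.obj.left.left.presheaf.germ ⊤ e trivial (comp g E) =
      E.obj.left.left.presheaf.germ ⊤ e trivial 0 := by rw [h0, map_zero]
  obtain ⟨V, heV, i1, i2, hV⟩ :=
    TopCat.Presheaf.germ_eq E.obj.left.left.presheaf (U := ⊤) (V := ⊤) e trivial trivial _ _ h0'
  rw [map_zero] at hV
  have hopen : IsOpen (Points.ofPt E.obj.hom '' (V : Set ↥E.obj.left.left)) :=
    AlgSpBasic.isOpenMap_ofPt E.obj.hom E.property _ V.isOpen
  have hne : (Points.ofPt E.obj.hom '' (V : Set ↥E.obj.left.left)).Nonempty :=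
    ⟨_, e, heV, rfl⟩
  obtain ⟨x, ⟨v, hvV, hvx⟩, ⟨E', e', he', hm'⟩⟩ :=
    nonempty_preirreducible_inter hopen (isOpen_nonvanishing g) hne hg
  obtain ⟨W, a, b, sq⟩ := EtStalk.exists_fibre_product E E'
  obtain ⟨w, hw1, hw2⟩ := AlgSpBasic.exists_point_of_isPullback_yon E'.obj.hom E.obj.hom
    b.hom.left a.hom.left sq e' v (he'.trans hvx.symm)
  have hm : v ∈ E.obj.left.left.basicOpen (comp g E) := by
    have h1 := (mem_basicOpen_comp_map g b w).mpr (hw1 ▸ hm')
    have h2 := (mem_basicOpen_comp_map g a w).mp h1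
    rwa [hw2] at h2
  have hmem : v ∈ E.obj.left.left.basicOpen (E.obj.left.left.presheaf.map i1.op (comp g E)) := by
    rw [Scheme.basicOpen_res]
    exact ⟨hvV, hm⟩
  rw [hV, Scheme.basicOpen_zero] at hmem
  exact hmem

/-! ### Main theorem -/

theorem main95 {S : Scheme.{u}} (X : AlgSp.Space S) (hXi : IsIntegralSp X.obj)
    (hXn : EtaleLocally (fun U => ∀ u : ↥U, IsDomain ↥(U.presheaf.stalk u) ∧
      IsIntegrallyClosed ↥(U.presheaf.stalk u)) X.obj) :
    IsDomain ↥(gsectEt (OEt X.obj)) ∧ IsIntegrallyClosed ↥(gsectEt (OEt X.obj)) := by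
  have hdom := main94 X.property hXi
  refine ⟨hdom, ?_⟩
  haveI := hdom
  obtain ⟨hred, -, hirr⟩ := hXi
  haveI := hirr
  have key := (main42 hred).2
  obtain ⟨U, p, hpe, hps, hnorm⟩ := hXn
  rw [isIntegrallyClosed_iff (FractionRing ↥(gsectEt (OEt X.obj)))]
  intro x hx
  obtain ⟨f, g, hg, rfl⟩ := IsFractionRing.div_surjective (A := ↥(gsectEt (OEt X.obj))) x
  obtain ⟨P, hP, hPx⟩ := hx
  have hg0 : g ≠ 0 := nonZeroDivisors.ne_zero hg
  have hinjK := IsFractionRing.injective ↥(gsectEt (OEt X.obj))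
    (FractionRing ↥(gsectEt (OEt X.obj)))
  have h0 : (scaleRoots P g).eval f = 0 := by
    have h := Polynomial.scaleRoots_eval₂_eq_zero_of_eval₂_div_eq_zero hinjK hPx hg
    rw [Polynomial.eval₂_at_apply] at h
    exact hinjK (h.trans (map_zero _).symm)
  have hnv : (nonvanishing g).Nonempty := by
    by_contra h
    rw [Set.not_nonempty_iff_eq_empty] at h
    exact hg0 (key g fun E => basicOpen_eq_bot_of_nonvanishing_eq_empty g h E)
  have hchart : ∀ u : ↥(EtOver.mk p hpe).obj.left.left,
      Good (EtOver.mk p hpe).obj.left.left (comp f (EtOver.mk p hpe))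
        (comp g (EtOver.mk p hpe)) u := by
    intro u
    obtain ⟨hd, hic⟩ := hnorm u
    haveI : IsDomain ↥((EtOver.mk p hpe).obj.left.left.presheaf.stalk u) := hd
    haveI : IsIntegrallyClosed ↥((EtOver.mk p hpe).obj.left.left.presheaf.stalk u) := hic
    have hne := germ_comp_ne_zero X.property g hnv (EtOver.mk p hpe) u
    constructor
    · intro s hs
      rcases mul_eq_zero.mp hs with h | h
      · exact absurd h hne
      · exact h
    · exact exists_mul_eq_of_scaleRoots
        (((EtOver.mk p hpe).obj.left.left.presheaf.germ ⊤ u trivial).hom.comp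
          (compHom (EtOver.mk p hpe))) f g P hP h0 hne
  have hall : ∀ (E : EtOver X.obj) (e : ↥E.obj.left.left),
      Good E.obj.left.left (comp f E) (comp g E) e := by
    intro E e
    obtain ⟨W, a, b, sq⟩ := EtStalk.exists_fibre_product E (EtOver.mk p hpe)
    haveI hs : Surjective a.hom.left.left :=
      hps.property E.obj.hom ((yon S).map b.hom.left) a.hom.left sq
    haveI : Etale a.hom.left.left := EtOver.etale_left a
    haveI : Etale b.hom.left.left := EtOver.etale_left b
    obtain ⟨w, rfl⟩ := a.hom.left.left.surjective e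
    have h1 := (hchart (b.hom.left.left w)).ascend b.hom.left.left _ _ w
    rw [← comp_map f b, ← comp_map g b, comp_map f a, comp_map g a] at h1
    exact h1.descend a.hom.left.left _ _ w
  have hex : ∀ E : EtOver X.obj, ∃ h : Γ(E.obj.left.left, ⊤), comp f E = comp g E * h :=
    fun E => exists_quotient_section _ _ _ (hall E)
  choose hh hhh using hex
  have huniq : ∀ (E : EtOver X.obj) (h h' : Γ(E.obj.left.left, ⊤)),
      comp g E * h = comp g E * h' → h = h' :=
    fun E h h' he => eq_of_mul_eq _ _ (fun e => (hall E e).1) h h' he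
  have hcompat : ∀ {E E' : EtOver X.obj} (φ : E ⟶ E'),
      hh E = φ.hom.left.left.appTop.hom (hh E') := by
    intro E E' φ
    apply huniq E
    rw [← hhh E, comp_map g φ, ← map_mul, ← hhh E', ← comp_map f φ]
  obtain ⟨hsec, hsec_def⟩ : ∃ hsec : ↥(gsectEt (OEt X.obj)), ∀ E, comp hsec E = hh E :=
    ⟨mkSec hh hcompat, fun E => comp_mkSec hh hcompat E⟩
  have hfg : f = g * hsec := by
    have h : f - g * hsec = 0 := by
      apply ext_zero
      intro E
      rw [← compHom_apply, map_sub, map_mul, compHom_apply, compHom_apply, compHom_apply,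
        hsec_def E, ← hhh E, sub_self]
    exact sub_eq_zero.mp h
  refine ⟨hsec, ?_⟩
  have hg' : algebraMap ↥(gsectEt (OEt X.obj)) (FractionRing ↥(gsectEt (OEt X.obj))) g ≠ 0 :=
    (map_ne_zero_iff _ hinjK).mpr hg0
  rw [hfg, map_mul, mul_div_cancel_left₀ _ hg']

end Groth.Agent.Helper2.GSectNormal
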