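import Mathlib
import Groth.Prelude.Def_AlgSp4
import Groth.Agent.Lib.Helper2.AlgSp.FieldConn

/-!
# The number of geometric connected components of a fibre is well defined
-/

namespace Groth.Agent.Helper2.GeomConnCount
open CategoryTheory CategoryTheory.Limits AlgebraicGeometry Opposite AlgSp
open Groth.Agent.Helper2.AlgSpBasic Groth.Agent.Helper2.FieldConn
universe u
variable {S : Scheme.{u}}

/-- Two field-valued points with the same class are dominated by a common field-valued point. -/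
theorem exists_common_of_mk_eq {Y : Sp S} (p q : FieldPt Y) (h : Points.mk p = Points.mk q) :
    ∃ (Ω : Type u) (_ : Field Ω) (w : Spec (CommRingCat.of Ω) ⟶ S) (α : Over.mk w ⟶ p.pt)
      (β : Over.mk w ⟶ q.pt), (yon S).map α ≫ p.toHom = (yon S).map β ≫ q.toHom := by
  rw [Points.mk_eq_mk_iff] at h
  obtain ⟨Ω, hΩ, w, α, β, hab⟩ := h
  refine ⟨Ω, hΩ, w, α, β, ?_⟩
  apply (J S).uliftYonedaEquiv.injective
  rw [GrothendieckTopology.uliftYonedaEquiv_comp, GrothendieckTopology.uliftYonedaEquiv_comp,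
    GrothendieckTopology.uliftYonedaEquiv_uliftYoneda_map,
    GrothendieckTopology.uliftYonedaEquiv_uliftYoneda_map]
  have h1 := FieldPt.toHom_app p α
  have h2 := FieldPt.toHom_app q β
  exact h1.trans (hab.trans h2.symm)


theorem main {X Y X' Y' : Space S} (f : X ⟶ Y) (g : Y' ⟶ Y) (gX : X' ⟶ X) (f' : X' ⟶ Y')
    (hsq : IsPullback gX.hom f'.hom f.hom g.hom)
    (k' : FieldPt Y'.obj) (hk' : k'.IsGeometric) (k : FieldPt Y.obj) (hk : k.IsGeometric)
    (hkk : Points.mk k = Points.map g.hom (Points.mk k'))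
    (Xk' : Sp S) (a' : Xk' ⟶ X'.obj) (b' : Xk' ⟶ (yon S).obj k'.pt)
    (h' : IsPullback a' b' f'.hom k'.toHom)
    (Xk : Sp S) (a : Xk ⟶ X.obj) (b : Xk ⟶ (yon S).obj k.pt) (h : IsPullback a b f.hom k.toHom) :
    ENat.card (_root_.ConnectedComponents (Points Xk')) =
      ENat.card (_root_.ConnectedComponents (Points Xk)) := by
  rw [Points.map_mk] at hkk
  obtain ⟨Ω, _, w, α, β, hαβ⟩ := exists_common_of_mk_eq k (k'.map g.hom) hkk
  rw [FieldPt.toHom_map] at hαβ
  haveI : IsAlgClosed k.K := hk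
  haveI : IsAlgClosed k'.K := hk'
  have hXk : IsAlgSpace Xk :=
    isAlgSpace_of_isPullback Y.property.diag X.property (IsAlgSpace.yon_obj _) _ _ _ _ h
  have hXk' : IsAlgSpace Xk' :=
    isAlgSpace_of_isPullback Y'.property.diag X'.property (IsAlgSpace.yon_obj _) _ _ _ _ h'
  obtain ⟨P, p₁, p₂, sqP⟩ : ∃ (P : Sp S) (p₁ : P ⟶ Xk) (p₂ : P ⟶ (yon S).obj (Over.mk w)),
      IsPullback p₁ p₂ b ((yon S).map α) :=
    ⟨_, _, _, IsPullback.of_hasPullback b ((yon S).map α)⟩
  obtain ⟨β', hβ'⟩ : ∃ β' : Over.mk w ⟶ k'.pt, β' = β := ⟨β, rfl⟩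
  have hαβ' : (yon S).map α ≫ k.toHom = ((yon S).map β' ≫ k'.toHom) ≫ g.hom := by
    rw [hβ', Category.assoc]; exact hαβ
  have big : IsPullback (p₁ ≫ a) p₂ f.hom ((yon S).map α ≫ k.toHom) := sqP.paste_horiz h
  rw [hαβ'] at big
  have hm : (p₁ ≫ a) ≫ f.hom = (p₂ ≫ (yon S).map β' ≫ k'.toHom) ≫ g.hom := by
    rw [big.w]; simp only [Category.assoc]
  have sqM : IsPullback (hsq.lift _ _ hm) p₂ f'.hom ((yon S).map β' ≫ k'.toHom) := by
    refine IsPullback.of_right ?_ (hsq.lift_snd _ _ hm) hsq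
    rw [hsq.lift_fst]
    exact big
  have hn : hsq.lift _ _ hm ≫ f'.hom = (p₂ ≫ (yon S).map β') ≫ k'.toHom := by
    rw [hsq.lift_snd, Category.assoc]
  have sqN : IsPullback (h'.lift _ _ hn) p₂ b' ((yon S).map β') := by
    refine IsPullback.of_right ?_ (h'.lift_snd _ _ hn) h'
    rw [h'.lift_fst]
    exact sqM
  have bij₁ := bijective_connectedComponentsMap_of_tower α b p₁ p₂ sqP hXk
  have bij₂ := bijective_connectedComponentsMap_of_tower β' b' (h'.lift _ _ hn) p₂ sqN hXk'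
  rw [← ENat.card_congr (Equiv.ofBijective _ bij₁), ← ENat.card_congr (Equiv.ofBijective _ bij₂)]

end Groth.Agent.Helper2.GeomConnCount
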