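import Mathlib
import Groth.Prelude.Def_AlgSp4
import Groth.Agent.Lib.Helper2.AlgSp.GeomConnCount

/-!
# Galois-stable closed subsets of `|X_K|` descend to `|X|`
-/

namespace Groth.Agent.Helper2.GaloisClosed
open CategoryTheory CategoryTheory.Limits AlgebraicGeometry Opposite AlgSp
open Groth.Agent.Helper2.AlgSpBasic Groth.Agent.Helper2.FieldConn
open Groth.Agent.Helper2.GeomConnCount Groth.Agent.Helper2.FieldBC
universe u

section Algebra

/-- Two embeddings of a normal extension into a field differ by an automorphism. -/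
theorem exists_algEquiv_comp {k K Ω : Type*} [Field k] [Field K] [Field Ω] [Algebra k K]
    [Algebra k Ω] [Normal k K] (j₁ j₂ : K →ₐ[k] Ω) : ∃ σ : K ≃ₐ[k] K, ∀ a, j₁ a = j₂ (σ a) := by
  let e : K ≃ₐ[k] j₂.fieldRange := AlgEquiv.ofInjectiveField j₂
  haveI : Normal k j₂.fieldRange := Normal.of_algEquiv e
  let f : j₂.fieldRange →ₐ[k] Ω := j₁.comp e.symm.toAlgHom
  have hf : f.fieldRange = j₂.fieldRange := AlgHom.fieldRange_of_normal f
  have hmem : ∀ a, j₁ a ∈ j₂.fieldRange := by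
    intro a
    rw [← hf]
    refine ⟨e a, ?_⟩
    change j₁ (e.symm (e a)) = j₁ a
    rw [AlgEquiv.symm_apply_apply]
  let σ₀ : K →ₐ[k] K :=
    e.symm.toAlgHom.comp (j₁.codRestrict j₂.fieldRange.toSubalgebra hmem)
  haveI : Algebra.IsAlgebraic k K := Normal.toIsAlgebraic
  refine ⟨AlgEquiv.ofBijective σ₀ (Algebra.IsAlgebraic.algHom_bijective σ₀), ?_⟩
  intro a
  change j₁ a = j₂ (e.symm ⟨j₁ a, hmem a⟩)
  have h1 : (e (e.symm ⟨j₁ a, hmem a⟩) : Ω) = j₂ (e.symm ⟨j₁ a, hmem a⟩) := rfl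
  rw [← h1, AlgEquiv.apply_symm_apply]

end Algebra


variable {k : Type u} [Field k] {X : Sp (Spec (CommRingCat.of k))} (K : Type u) [Field K]
  [Algebra k K]

/-- The Galois group acts transitively on the fibres of `|X_K| ⟶ |X|`. -/
theorem exists_gal_of_map_fst_eq [Normal k K]
    (p q : Points (X ⨯ (yon _).obj (SK (k := k) K)))
    (h : Points.map (prod.fst : X ⨯ (yon _).obj (SK (k := k) K) ⟶ X) p =
      Points.map (prod.fst : X ⨯ (yon _).obj (SK (k := k) K) ⟶ X) q) :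
    ∃ (σ : K ≃ₐ[k] K) (g : SK (k := k) K ⟶ SK (k := k) K),
      g.left = Spec.map (CommRingCat.ofHom (σ : K ≃ₐ[k] K).toRingHom) ∧
      Points.map (prod.map (𝟙 X) ((yon _).map g)) q = p := by
  induction p using Points.ind with | h P => ?_
  induction q using Points.ind with | h Q => ?_
  rw [Points.map_mk, Points.map_mk] at h
  obtain ⟨Ω, _, w, α, β, hαβ⟩ := exists_common_of_mk_eq _ _ h
  rw [FieldPt.toHom_map, FieldPt.toHom_map] at hαβ
  obtain ⟨α', hα'⟩ : ∃ α' : Over.mk w ⟶ P.pt, α' = α := ⟨α, rfl⟩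
  obtain ⟨β', hβ'⟩ : ∃ β' : Over.mk w ⟶ Q.pt, β' = β := ⟨β, rfl⟩
  rw [← hα', ← hβ'] at hαβ
  obtain ⟨i₁, hi₁⟩ := (yon _).map_surjective ((yon _).map α' ≫ P.toHom ≫ prod.snd)
  obtain ⟨i₂, hi₂⟩ := (yon _).map_surjective ((yon _).map β' ≫ Q.toHom ≫ prod.snd)
  -- algebra structures
  letI : Algebra k Ω := (Spec.preimage w).hom.toAlgebra
  have hw : Spec.map (CommRingCat.ofHom (algebraMap k Ω)) = w := by
    change Spec.map (CommRingCat.ofHom (Spec.preimage w).hom) = w
    rw [CommRingCat.ofHom_hom, Spec.map_preimage]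
  have mkAlg : ∀ i : Over.mk w ⟶ SK (k := k) K, ∃ j : K →ₐ[k] Ω,
      i.left = Spec.map (CommRingCat.ofHom (j : K →+* Ω)) := by
    intro i
    have h1 : i.left ≫ Spec.map (CommRingCat.ofHom (algebraMap k K)) = w := Over.w i
    have h2 : Spec.map (Spec.preimage i.left) = i.left := Spec.map_preimage _
    refine ⟨{ (Spec.preimage i.left).hom with
      commutes' := fun r => ?_ }, ?_⟩
    · have h3 : CommRingCat.ofHom (algebraMap k K) ≫ Spec.preimage i.left =
          CommRingCat.ofHom (algebraMap k Ω) := by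
        apply Spec.map_injective
        rw [Spec.map_comp, h2, h1, hw]
      exact congrArg (fun m => m.hom r) h3
    · exact h2.symm
  obtain ⟨j₁, hj₁⟩ := mkAlg i₁
  obtain ⟨j₂, hj₂⟩ := mkAlg i₂
  obtain ⟨σ, hσ⟩ := exists_algEquiv_comp j₁ j₂
  have hgw : Spec.map (CommRingCat.ofHom (σ : K ≃ₐ[k] K).toRingHom) ≫ (SK (k := k) K).hom =
      (SK (k := k) K).hom := by
    change Spec.map _ ≫ Spec.map _ = Spec.map _
    rw [← Spec.map_comp]
    congr 1
    ext r
    exact σ.commutes r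
  refine ⟨σ, Over.homMk (Spec.map (CommRingCat.ofHom (σ : K ≃ₐ[k] K).toRingHom)) hgw, rfl, ?_⟩
  obtain ⟨g, hg⟩ : ∃ g : SK (k := k) K ⟶ SK (k := k) K,
      g = Over.homMk (Spec.map (CommRingCat.ofHom (σ : K ≃ₐ[k] K).toRingHom)) hgw := ⟨_, rfl⟩
  rw [← hg]
  have hi : i₁ = i₂ ≫ g := by
    apply Over.OverMorphism.ext
    rw [Over.comp_left, hj₁, hj₂, hg]
    change _ = Spec.map _ ≫ Spec.map _
    rw [← Spec.map_comp]
    congr 1
    ext a
    exact hσ a
  have key : (yon _).map α' ≫ P.toHom =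
      (yon _).map β' ≫ Q.toHom ≫ prod.map (𝟙 X) ((yon _).map g) := by
    apply Limits.prod.hom_ext
    · simp only [Category.assoc, prod.map_fst, Category.comp_id]
      exact hαβ
    · simp only [Category.assoc, prod.map_snd]
      rw [← hi₁, hi, Functor.map_comp, hi₂]
      simp only [Category.assoc]
  have c : ↥(Over.mk w).left := IsLocalRing.closedPoint Ω
  rw [← Points.ofPt_toHom P (α'.left c), ← Points.ofPt_toHom Q (β'.left c), Points.map_ofPt,
    ← ofPt_yon_map_comp, ← ofPt_yon_map_comp, key]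


theorem surjective_fst :
    Function.Surjective (Points.map (prod.fst : X ⨯ (yon _).obj (SK (k := k) K) ⟶ X)) :=
  isSurjectiveMor_of_isPullback ((yon _).map (SKterm (k := k) K)) (toTerm X) prod.snd prod.fst
    (isPullback_prod_term K (toTerm X)).flip (isSurjectiveMor_yon_map_field (SKterm (k := k) K))

theorem isOpenMap_fst' (hX : IsAlgSpace X) :
    IsOpenMap (Points.map (prod.fst : X ⨯ (yon _).obj (SK (k := k) K) ⟶ X)) :=
  isOpenMap_fst (F := k) (sF := 𝟙 _) (SKterm (k := k) K) (toTerm X) prod.fst prod.snd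
    (isPullback_prod_term K _) hX

theorem main (hX : IsAlgSpace X) [Normal k K]
    (T : Set (Points (X ⨯ (yon _).obj (SK (k := k) K)))) (hT : IsClosed T)
    (hσ : ∀ (σ : K ≃ₐ[k] K) (g : SK (k := k) K ⟶ SK (k := k) K),
      g.left = Spec.map (CommRingCat.ofHom (σ : K ≃ₐ[k] K).toRingHom) →
        Points.map (prod.map (𝟙 X) ((yon _).map g)) '' T = T) :
    ∃ T₀ : Set (Points X), IsClosed T₀ ∧
      Points.map (prod.fst : X ⨯ (yon _).obj (SK (k := k) K) ⟶ X) ⁻¹' T₀ = T := by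
  have hpre : Points.map (prod.fst : X ⨯ (yon _).obj (SK (k := k) K) ⟶ X) ⁻¹'
      (Points.map (prod.fst : X ⨯ (yon _).obj (SK (k := k) K) ⟶ X) '' T) = T := by
    ext p
    constructor
    · rintro ⟨q, hq, e⟩
      obtain ⟨σ, g, hg, rfl⟩ := exists_gal_of_map_fst_eq K p q e.symm
      rw [← hσ σ g hg]
      exact ⟨q, hq, rfl⟩
    · intro hp
      exact ⟨p, hp, rfl⟩
  refine ⟨_, ?_, hpre⟩
  rw [← isOpen_compl_iff]
  have : (Points.map (prod.fst : X ⨯ (yon _).obj (SK (k := k) K) ⟶ X) '' T)ᶜ =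
      Points.map (prod.fst : X ⨯ (yon _).obj (SK (k := k) K) ⟶ X) '' Tᶜ := by
    ext x
    obtain ⟨p, rfl⟩ := surjective_fst K x
    constructor
    · intro hx
      refine ⟨p, fun hp => hx ⟨p, hp, rfl⟩, rfl⟩
    · rintro ⟨q, hq, e⟩ hx
      apply hq
      have h1 : q ∈ Points.map (prod.fst : X ⨯ (yon _).obj (SK (k := k) K) ⟶ X) ⁻¹'
          (Points.map (prod.fst : X ⨯ (yon _).obj (SK (k := k) K) ⟶ X) '' T) := by
        rw [Set.mem_preimage, e]
        exact hx
      rwa [hpre] at h1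
  rw [this]
  exact isOpenMap_fst' K hX _ hT.isOpen_compl

end Groth.Agent.Helper2.GaloisClosed
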