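import Mathlib
import Groth.Prelude.Def_AlgSp4
import Groth.Agent.Lib.Helper2.AlgSp.GaloisClosed
import Groth.Agent.Lib.Helper2.AlgSp.UnivTop

/-!
# Opens of `|X_K|` are locally defined over a finite subextension
-/

set_option autoImplicit false

namespace Groth.Agent.Helper2.GaloisLocal
open CategoryTheory CategoryTheory.Limits AlgebraicGeometry Opposite AlgSp TensorProduct
open Groth.Agent.Helper2.AlgSpBasic Groth.Agent.Helper2.FieldConn
open Groth.Agent.Helper2.GeomConnCount Groth.Agent.Helper2.FieldBC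
universe u

section Algebra

variable {k : Type u} [Field k] (R : Type u) [CommRing R] [Algebra k R] (K : Type u) [Field K]
  [Algebra k K]

/-- The base change map `R ⊗ L → R ⊗ K`. -/
noncomputable def tmap (L : IntermediateField k K) : R ⊗[k] L →ₐ[k] R ⊗[k] K :=
  Algebra.TensorProduct.map (AlgHom.id k R) L.val

/-- The base change map `R ⊗ L → R ⊗ L'`. -/
noncomputable def tincl {L L' : IntermediateField k K} (h : L ≤ L') : R ⊗[k] L →ₐ[k] R ⊗[k] L' :=
  Algebra.TensorProduct.map (AlgHom.id k R) (IntermediateField.inclusion h)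

theorem tmap_tincl {L L' : IntermediateField k K} (h : L ≤ L') (x : R ⊗[k] L) :
    tmap R K L' (tincl R K h x) = tmap R K L x := by
  induction x using TensorProduct.induction_on with
  | zero => simp
  | tmul r c => simp [tmap, tincl]
  | add x y hx hy => simp [hx, hy]

theorem range_tmap_mono {L L' : IntermediateField k K} (h : L ≤ L') :
    Set.range (tmap R K L) ⊆ Set.range (tmap R K L') := by
  rintro _ ⟨x, rfl⟩
  exact ⟨tincl R K h x, tmap_tincl R K h x⟩

theorem exists_finite_mem_range [Algebra.IsAlgebraic k K] (f : R ⊗[k] K) :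
    ∃ L : IntermediateField k K, FiniteDimensional k L ∧ f ∈ Set.range (tmap R K L) := by
  induction f using TensorProduct.induction_on with
  | zero => exact ⟨⊥, inferInstance, 0, map_zero _⟩
  | tmul r c =>
    refine ⟨IntermediateField.adjoin k {c},
      IntermediateField.adjoin.finiteDimensional (Algebra.IsIntegral.isIntegral c),
      r ⊗ₜ ⟨c, IntermediateField.mem_adjoin_simple_self k c⟩, ?_⟩
    simp [tmap]
  | add x y hx hy =>
    obtain ⟨L₁, h₁, x', hx'⟩ := hx
    obtain ⟨L₂, h₂, y', hy'⟩ := hy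
    refine ⟨L₁ ⊔ L₂, inferInstance, tincl R K (le_sup_left : L₁ ≤ L₁ ⊔ L₂) x' +
      tincl R K (le_sup_right : L₂ ≤ L₁ ⊔ L₂) y', ?_⟩
    rw [map_add, tmap_tincl, tmap_tincl, hx', hy']

end Algebra

section Scheme

variable {k : Type u} [Field k] {L K : Type u} [Field L] [Field K] [Algebra k L] [Algebra k K]
  (ψ : L →ₐ[k] K)

/-- The base change morphism `U_K ⟶ U_L`. -/
noncomputable def ρ (U : Over (Spec (CommRingCat.of k))) : UK K U ⟶ UK L U :=
  Over.homMk (pullback.lift (FBase.bcπ U.hom K)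
      (FBase.bcStr U.hom K ≫ Spec.map (CommRingCat.ofHom (ψ : L →+* K))) (by
        rw [Category.assoc, ← Spec.map_comp, ← CommRingCat.ofHom_comp, AlgHom.comp_algebraMap]
        exact pullback.condition)) (by
    show pullback.lift _ _ _ ≫ (FBase.bcπ U.hom L ≫ U.hom) = FBase.bcπ U.hom K ≫ U.hom
    rw [← Category.assoc]
    congr 1
    exact pullback.lift_fst _ _ _)

theorem ρ_πU (U : Over (Spec (CommRingCat.of k))) : ρ ψ U ≫ πU L U = πU K U := by
  apply Over.OverMorphism.ext
  exact pullback.lift_fst _ _ _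

theorem ρ_qU (U : Over (Spec (CommRingCat.of k))) : ρ ψ U ≫ qU L U = qU K U ≫ SKmap ψ := by
  apply Over.OverMorphism.ext
  exact pullback.lift_snd _ _ _

variable {X : Sp (Spec (CommRingCat.of k))}

theorem chartK_ρ {U : Over (Spec (CommRingCat.of k))} (a : (yon _).obj U ⟶ X) :
    chartK K a ≫ prod.map (𝟙 X) ((yon _).map (SKmap ψ)) = (yon _).map (ρ ψ U) ≫ chartK L a := by
  apply Limits.prod.hom_ext
  · rw [Category.assoc, prod.map_fst, Category.comp_id, chartK_fst, Category.assoc, chartK_fst,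
      ← Category.assoc, ← Functor.map_comp, ρ_πU]
  · rw [Category.assoc, prod.map_snd, chartK_snd_assoc, Category.assoc, chartK_snd,
      ← Functor.map_comp, ← Functor.map_comp, ρ_qU]

theorem isPullback_ρ {U : Over (Spec (CommRingCat.of k))} (a : (yon _).obj U ⟶ X) :
    IsPullback (chartK K a) ((yon _).map (ρ ψ U)) (prod.map (𝟙 X) ((yon _).map (SKmap ψ)))
      (chartK L a) := by
  refine IsPullback.of_bot ?_ (chartK_ρ ψ a) (isPullback_chartK L a)
  rw [← Functor.map_comp, ρ_πU, prod.map_fst, Category.comp_id]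
  exact isPullback_chartK K a

end Scheme

section Affine

variable {k : Type u} [Field k] (R : Type u) [CommRing R] [Algebra k R]

/-- `Spec R` over `Spec k`. -/
noncomputable abbrev UR : Over (Spec (CommRingCat.of k)) :=
  Over.mk (Spec.map (CommRingCat.ofHom (algebraMap k R)))

/-- `(Spec R)_E ≅ Spec (R ⊗ E)`. -/
noncomputable def isoT (E : Type u) [Field E] [Algebra k E] :
    (UK E (UR (k := k) R)).left ≅ Spec (CommRingCat.of (R ⊗[k] E)) :=
  pullbackSpecIso k R E

/-- The basic open of `(Spec R)_E` defined by `f ∈ R ⊗ E`. -/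
noncomputable def DE (E : Type u) [Field E] [Algebra k E] (f : R ⊗[k] E) :
    Set ↥(UK E (UR (k := k) R)).left :=
  (isoT R E).hom ⁻¹' (PrimeSpectrum.basicOpen f : Set (PrimeSpectrum (R ⊗[k] E)))

theorem isOpen_DE (E : Type u) [Field E] [Algebra k E] (f : R ⊗[k] E) : IsOpen (DE R E f) :=
  (PrimeSpectrum.basicOpen f).isOpen.preimage (isoT R E).hom.continuous

theorem isCompact_DE (E : Type u) [Field E] [Algebra k E] (f : R ⊗[k] E) :
    IsCompact (DE R E f) :=
  (Scheme.homeoOfIso (isoT R E)).isCompact_preimage.2 (PrimeSpectrum.isCompact_basicOpen f)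

theorem exists_DE_subset (E : Type u) [Field E] [Algebra k E]
    (T : Set ↥(UK E (UR (k := k) R)).left) (hT : IsOpen T) (u : ↥(UK E (UR (k := k) R)).left)
    (hu : u ∈ T) : ∃ f : R ⊗[k] E, u ∈ DE R E f ∧ DE R E f ⊆ T := by
  have hT' : IsOpen ((isoT R E).inv ⁻¹' T) := hT.preimage (isoT R E).inv.continuous
  have hu' : (isoT R E).hom u ∈ (isoT R E).inv ⁻¹' T := by
    show (isoT R E).inv ((isoT R E).hom u) ∈ T
    rw [← Scheme.Hom.comp_apply, Iso.hom_inv_id]
    exact hu
  obtain ⟨_, ⟨f, rfl⟩, hf1, hf2⟩ :=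
    PrimeSpectrum.isTopologicalBasis_basic_opens.exists_subset_of_mem_open hu' hT'
  refine ⟨f, hf1, ?_⟩
  intro y hy
  have := hf2 hy
  change (isoT R E).inv ((isoT R E).hom y) ∈ T at this
  rwa [← Scheme.Hom.comp_apply, Iso.hom_inv_id] at this

variable {L K : Type u} [Field L] [Field K] [Algebra k L] [Algebra k K] (ψ : L →ₐ[k] K)

theorem lift_pullbackSpecIso
    (h : pullback.fst (Spec.map (CommRingCat.ofHom (algebraMap k R)))
        (Spec.map (CommRingCat.ofHom (algebraMap k K))) ≫
          Spec.map (CommRingCat.ofHom (algebraMap k R)) =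
        (pullback.snd (Spec.map (CommRingCat.ofHom (algebraMap k R)))
          (Spec.map (CommRingCat.ofHom (algebraMap k K))) ≫
            Spec.map (CommRingCat.ofHom (ψ : L →+* K))) ≫
          Spec.map (CommRingCat.ofHom (algebraMap k L))) :
    pullback.lift (pullback.fst (Spec.map (CommRingCat.ofHom (algebraMap k R)))
        (Spec.map (CommRingCat.ofHom (algebraMap k K))))
      (pullback.snd (Spec.map (CommRingCat.ofHom (algebraMap k R)))
        (Spec.map (CommRingCat.ofHom (algebraMap k K))) ≫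
          Spec.map (CommRingCat.ofHom (ψ : L →+* K))) h ≫ (pullbackSpecIso k R L).hom =
      (pullbackSpecIso k R K).hom ≫
        Spec.map (CommRingCat.ofHom (Algebra.TensorProduct.map (AlgHom.id k R) ψ).toRingHom) := by
  refine (Iso.eq_comp_inv _).1 ?_
  apply pullback.hom_ext
  · rw [pullback.lift_fst, Category.assoc, pullbackSpecIso_inv_fst, Category.assoc,
      ← Spec.map_comp]
    have : (CommRingCat.ofHom (Algebra.TensorProduct.includeLeftRingHom :
        R →+* R ⊗[k] L)) ≫ CommRingCat.ofHom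
          (Algebra.TensorProduct.map (AlgHom.id k R) ψ).toRingHom =
        CommRingCat.ofHom (Algebra.TensorProduct.includeLeftRingHom : R →+* R ⊗[k] K) := by
      ext r
      simp
    rw [this, pullbackSpecIso_hom_fst]
  · rw [pullback.lift_snd, Category.assoc, pullbackSpecIso_inv_snd, Category.assoc,
      ← Spec.map_comp]
    have : (CommRingCat.ofHom ((Algebra.TensorProduct.includeRight :
        L →ₐ[k] R ⊗[k] L) : L →+* R ⊗[k] L)) ≫ CommRingCat.ofHom
          (Algebra.TensorProduct.map (AlgHom.id k R) ψ).toRingHom =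
        CommRingCat.ofHom (ψ : L →+* K) ≫ CommRingCat.ofHom
          ((Algebra.TensorProduct.includeRight : K →ₐ[k] R ⊗[k] K) : K →+* R ⊗[k] K) := by
      ext r
      simp
    rw [this, Spec.map_comp, pullbackSpecIso_hom_snd_assoc]

theorem ρ_isoT :
    (ρ ψ (UR (k := k) R)).left ≫ (isoT R L).hom = (isoT R K).hom ≫
      Spec.map (CommRingCat.ofHom (Algebra.TensorProduct.map (AlgHom.id k R) ψ).toRingHom) :=
  lift_pullbackSpecIso R ψ _

theorem preimage_ρ_DE (f : R ⊗[k] L) :
    (ρ ψ (UR (k := k) R)).left ⁻¹' DE R L f =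
      DE R K (Algebra.TensorProduct.map (AlgHom.id k R) ψ f) := by
  ext y
  show (isoT R L).hom ((ρ ψ (UR (k := k) R)).left y) ∈
    (PrimeSpectrum.basicOpen f : Set (PrimeSpectrum (R ⊗[k] L))) ↔ _
  rw [← Scheme.Hom.comp_apply, ρ_isoT, Scheme.Hom.comp_apply]
  rfl

end Affine

section Local

variable {k : Type u} [Field k] (X : Sp (Spec (CommRingCat.of k))) (K : Type u) [Field K]
  [Algebra k K]

/-- The projection `|X_K| ⟶ |X_L|`. -/
noncomputable abbrev πL (L : IntermediateField k K) :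
    Points (X ⨯ (yon _).obj (SK (k := k) K)) → Points (X ⨯ (yon _).obj (SK (k := k) L)) :=
  Points.map (prod.map (𝟙 X) ((yon _).map (SKmap L.val)))

variable {X}

theorem πL_ofPt_chartK (L : IntermediateField k K) {U : Over (Spec (CommRingCat.of k))}
    (a : (yon _).obj U ⟶ X) (u : ↥(UK K U).left) :
    πL X K L (Points.ofPt (chartK K a) u) = Points.ofPt (chartK L a) ((ρ L.val U).left u) := by
  show Points.map _ (Points.ofPt (chartK K a) u) = _
  rw [Points.map_ofPt, chartK_ρ, ofPt_yon_map_comp]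

theorem local_chart [Algebra.IsAlgebraic k K] (R : Type u) [CommRing R] [Algebra k R]
    (a : (yon _).obj (UR (k := k) R) ⟶ X) (ha : RepWith @Etale a)
    (T : Set (Points (X ⨯ (yon _).obj (SK (k := k) K)))) (hT : IsOpen T)
    (u' : ↥(UK K (UR (k := k) R)).left) (hu' : Points.ofPt (chartK K a) u' ∈ T) :
    ∃ M : Set (Points (X ⨯ (yon _).obj (SK (k := k) K))),
      Points.ofPt (chartK K a) u' ∈ M ∧ M ⊆ T ∧
      ∃ L₀ : IntermediateField k K, FiniteDimensional k L₀ ∧
        ∀ L : IntermediateField k K, L₀ ≤ L →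
          ∃ N' : Set (Points (X ⨯ (yon _).obj (SK (k := k) L))), IsOpen N' ∧ IsCompact N' ∧
            πL X K L ⁻¹' N' = M := by
  have hT' : IsOpen (Points.ofPt (chartK K a) ⁻¹' T) := hT.preimage (Points.continuous_ofPt _)
  obtain ⟨f, hf1, hf2⟩ := exists_DE_subset R K _ hT' u' hu'
  obtain ⟨L₀, hfin, hL₀⟩ := exists_finite_mem_range R K f
  refine ⟨Points.ofPt (chartK K a) '' DE R K f, ⟨u', hf1, rfl⟩, ?_, L₀, hfin, fun L hL => ?_⟩
  · rintro _ ⟨v, hv, rfl⟩
    exact hf2 hv
  obtain ⟨fL, hfL⟩ := range_tmap_mono R K hL hL₀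
  have hpre : (ρ L.val (UR (k := k) R)).left ⁻¹' DE R L fL = DE R K f := by
    rw [preimage_ρ_DE]
    exact congrArg _ hfL
  refine ⟨Points.ofPt (chartK L a) '' DE R L fL, ?_, ?_, ?_⟩
  · exact isOpenMap_ofPt (chartK L a) (repWith_chartK L @Etale a ha) _ (isOpen_DE R L fL)
  · exact (isCompact_DE R L fL).image (Points.continuous_ofPt _)
  · apply Set.Subset.antisymm
    · rintro q ⟨w, hw, e⟩
      rw [Points.ofPt_eq_map_ofScheme] at e
      obtain ⟨p', hp1, hp2⟩ := points_exists_of_isPullback (chartK L a)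
        (prod.map (𝟙 X) ((yon _).map (SKmap L.val))) (chartK K a)
        ((yon _).map (ρ L.val (UR (k := k) R))) (isPullback_ρ L.val a) q
        (Points.ofScheme _ w) e.symm
      obtain ⟨u'', rfl⟩ := (Points.schemeHomeo (UK K (UR (k := k) R))).surjective p'
      have h1 := Points.map_yon_map_apply (ρ L.val (UR (k := k) R)) u''
      rw [hp2] at h1
      have h2 : (ρ L.val (UR (k := k) R)).left u'' = w :=
        ((Points.schemeHomeo (UK L (UR (k := k) R))).injective h1).symm
      have h3 : u'' ∈ (ρ L.val (UR (k := k) R)).left ⁻¹' DE R L fL := by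
        show (ρ L.val (UR (k := k) R)).left u'' ∈ DE R L fL
        rw [h2]
        exact hw
      rw [hpre] at h3
      refine ⟨u'', h3, ?_⟩
      rw [Points.ofPt_eq_map_ofScheme]
      exact hp1
    · rintro _ ⟨v, hv, rfl⟩
      refine ⟨(ρ L.val (UR (k := k) R)).left v, ?_, (πL_ofPt_chartK K L a v).symm⟩
      have : v ∈ (ρ L.val (UR (k := k) R)).left ⁻¹' DE R L fL := by
        rw [hpre]
        exact hv
      exact this

theorem exists_chart_UR (hX : IsAlgSpace X) (x : Points X) :
    ∃ (R : Type u) (_ : CommRing R) (_ : Algebra k R)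
      (a : (yon _).obj (UR (k := k) R) ⟶ X),
      RepWith @Etale a ∧ ∃ u : ↥(UR (k := k) R).left, Points.ofPt a u = x := by
  obtain ⟨U, a₀, hae, has⟩ := hX.atlas
  obtain ⟨u₀, hu₀⟩ := surjective_ofPt a₀ has x
  obtain ⟨_, ⟨V, hV, rfl⟩, huV, -⟩ := U.left.isBasis_affineOpens.exists_subset_of_mem_open
    (Set.mem_univ u₀) isOpen_univ
  have hV' : IsAffineOpen V := hV
  obtain ⟨j, hj⟩ : ∃ j : Spec Γ(U.left, V) ⟶ U.left, j = hV'.fromSpec := ⟨_, rfl⟩
  letI : Algebra k Γ(U.left, V) := (Spec.preimage (j ≫ U.hom)).hom.toAlgebra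
  have hstr : Spec.map (CommRingCat.ofHom (algebraMap k Γ(U.left, V))) = j ≫ U.hom := by
    change Spec.map (CommRingCat.ofHom (Spec.preimage (j ≫ U.hom)).hom) = j ≫ U.hom
    rw [CommRingCat.ofHom_hom, Spec.map_preimage]
  let e : UR (k := k) Γ(U.left, V) ⟶ U := Over.homMk j hstr.symm
  have hje : Etale e.left := by
    change Etale j
    rw [hj]
    infer_instance
  refine ⟨Γ(U.left, V), inferInstance, inferInstance, (yon _).map e ≫ a₀,
    repWith_comp @Etale ((repWith_yon_map_iff @Etale e).mpr hje) hae, ?_⟩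
  have hmem : u₀ ∈ Set.range j := by
    rw [hj, hV'.range_fromSpec]
    exact huV
  obtain ⟨w, hw⟩ := hmem
  refine ⟨w, ?_⟩
  rw [ofPt_yon_map_comp]
  change Points.ofPt a₀ (j w) = x
  rw [hw, hu₀]

theorem local_descend [Algebra.IsAlgebraic k K] (hX : IsAlgSpace X)
    (T : Set (Points (X ⨯ (yon _).obj (SK (k := k) K)))) (hT : IsOpen T)
    (p : Points (X ⨯ (yon _).obj (SK (k := k) K))) (hp : p ∈ T) :
    ∃ M : Set (Points (X ⨯ (yon _).obj (SK (k := k) K))), p ∈ M ∧ M ⊆ T ∧
      ∃ L₀ : IntermediateField k K, FiniteDimensional k L₀ ∧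
        ∀ L : IntermediateField k K, L₀ ≤ L →
          ∃ N' : Set (Points (X ⨯ (yon _).obj (SK (k := k) L))), IsOpen N' ∧ IsCompact N' ∧
            πL X K L ⁻¹' N' = M := by
  obtain ⟨R, _, _, a, ha, u, hu⟩ := exists_chart_UR hX (Points.map prod.fst p)
  obtain ⟨u', -, rfl⟩ := exists_point_chartK K a u p hu.symm
  exact local_chart K R a ha T hT u' hp

theorem isClosedMap_πL [Algebra.IsAlgebraic k K] (hX : IsAlgSpace X)
    (L : IntermediateField k K) : IsClosedMap (πL X K L) := by
  have h1 : UniversallyClosed (SKmap (k := k) L.val).left := by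
    have : IsIntegralHom (Spec.map (CommRingCat.ofHom ((L.val : L →ₐ[k] K) : L →+* K))) := by
      rw [IsIntegralHom.SpecMap_iff]
      have : Algebra.IsAlgebraic L K := Algebra.IsAlgebraic.tower_top (K := k) L
      intro x
      exact Algebra.IsIntegral.isIntegral (R := L) x
    change UniversallyClosed (Spec.map (CommRingCat.ofHom ((L.val : L →ₐ[k] K) : L →+* K)))
    infer_instance
  have h2 : RepWith @UniversallyClosed ((yon _).map (SKmap (k := k) L.val)) :=
    (repWith_yon_map_iff _ _).mpr h1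
  have h3 : IsUnivClosedMor ((yon _).map (SKmap (k := k) L.val)) :=
    (repWith_universallyClosed_iff _ h2.rep).mp h2
  exact h3 (isAlgSpace_prod hX (IsAlgSpace.yon_obj _)) prod.snd prod.snd
    (prod.map (𝟙 X) ((yon _).map (SKmap L.val)))
    (isPullback_prod_map_snd X ((yon _).map (SKmap L.val))).flip

theorem isOpenMap_πL (hX : IsAlgSpace X) (L : IntermediateField k K) :
    IsOpenMap (πL X K L) :=
  isOpenMap_fst (SKmap (k := k) L.val) prod.snd (prod.map (𝟙 X) ((yon _).map (SKmap L.val)))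
    prod.snd (isPullback_prod_map_snd X ((yon _).map (SKmap L.val)))
    (isAlgSpace_prod hX (IsAlgSpace.yon_obj _))

theorem surjective_πL (L : IntermediateField k K) : Function.Surjective (πL X K L) :=
  surjective_prod_map_field (SKmap (k := k) L.val) X

/-- If `K/k` is algebraic and `X_L` is connected for every finite subextension, then `X_K` is
connected. -/
theorem connectedSpace_of_finite_levels [Algebra.IsAlgebraic k K] (hX : IsAlgSpace X)
    (H : ∀ L : IntermediateField k K, FiniteDimensional k L →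
      ConnectedSpace (Points (X ⨯ (yon _).obj (SK (k := k) L)))) :
    ConnectedSpace (Points (X ⨯ (yon _).obj (SK (k := k) K))) := by
  have hbot := H ⊥ inferInstance
  obtain ⟨x₀⟩ : Nonempty (Points (X ⨯ (yon _).obj (SK (k := k) (⊥ : IntermediateField k K)))) :=
    hbot.toNonempty
  obtain ⟨p₀, -⟩ := surjective_πL (X := X) K ⊥ x₀
  haveI : Nonempty (Points (X ⨯ (yon _).obj (SK (k := k) K))) := ⟨p₀⟩
  haveI : PreconnectedSpace (Points (X ⨯ (yon _).obj (SK (k := k) K))) := by
    rw [preconnectedSpace_iff_clopen]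
    intro C hC
    by_contra hcon
    rw [not_or] at hcon
    obtain ⟨hne, hnu⟩ := hcon
    obtain ⟨p, hp⟩ := Set.nonempty_iff_ne_empty.mpr hne
    obtain ⟨q, hq⟩ : ∃ q, q ∉ C := by
      by_contra hall
      exact hnu (Set.eq_univ_of_forall fun x => by_contra fun hx => hall ⟨x, hx⟩)
    obtain ⟨M, hpM, hMC, L₀, hfin, hL₀⟩ := local_descend K hX C hC.isOpen p hp
    obtain ⟨N', -, -, hN'⟩ := hL₀ L₀ le_rfl
    have hpN : p ∈ πL X K L₀ ⁻¹' N' := by rw [hN']; exact hpM
    have hNC : πL X K L₀ ⁻¹' N' ⊆ C := by rw [hN']; exact hMC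
    haveI := H L₀ hfin
    have hcl : IsClopen (πL X K L₀ '' Cᶜ) :=
      ⟨isClosedMap_πL K hX L₀ _ hC.compl.isClosed, isOpenMap_πL K hX L₀ _ hC.compl.isOpen⟩
    have huniv : πL X K L₀ '' Cᶜ = Set.univ :=
      (isClopen_iff.mp hcl).resolve_left (Set.Nonempty.ne_empty ⟨_, q, hq, rfl⟩)
    have hmem : πL X K L₀ p ∈ πL X K L₀ '' Cᶜ := by
      rw [huniv]
      trivial
    obtain ⟨q', hq', e⟩ := hmem
    apply hq'
    apply hNC
    show πL X K L₀ q' ∈ N'
    rw [e]
    exact hpN
  exact { toNonempty := inferInstance }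

/-- A quasi-compact open of `|X_K|` is the inverse image of a quasi-compact open of `|X_L|` for
a finite subextension `L`. -/
theorem exists_level [Algebra.IsAlgebraic k K] (hX : IsAlgSpace X)
    (V : Set (Points (X ⨯ (yon _).obj (SK (k := k) K)))) (hV : IsOpen V) (hVc : IsCompact V) :
    ∃ L : IntermediateField k K, FiniteDimensional k L ∧
      ∃ V' : Set (Points (X ⨯ (yon _).obj (SK (k := k) L))), IsOpen V' ∧ IsCompact V' ∧
        πL X K L ⁻¹' V' = V := by
  classical
  choose M hpM hMV L₀ hfin hL₀ using fun p : ↥V => local_descend K hX V hV p.1 p.2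
  have hMopen : ∀ p, IsOpen (M p) := by
    intro p
    obtain ⟨N', hN'o, -, hN'⟩ := hL₀ p (L₀ p) le_rfl
    rw [← hN']
    exact hN'o.preimage (Points.continuous_map _)
  obtain ⟨t, ht⟩ := hVc.elim_finite_subcover M hMopen
    (fun x hx => Set.mem_iUnion.2 ⟨⟨x, hx⟩, hpM _⟩)
  obtain ⟨L, hLdef⟩ : ∃ L : IntermediateField k K, L = ⨆ p ∈ t, L₀ p := ⟨_, rfl⟩
  have hLfin : FiniteDimensional k L := by
    rw [hLdef]
    exact IntermediateField.finiteDimensional_iSup_of_finset' (fun p _ => hfin p)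
  have hle : ∀ p ∈ t, L₀ p ≤ L := fun p hp => by
    rw [hLdef]
    exact le_iSup₂ (f := fun p _ => L₀ p) p hp
  choose N' hN'o hN'c hN' using fun p : {p // p ∈ t} => hL₀ p.1 L (hle p.1 p.2)
  refine ⟨L, hLfin, ⋃ p : {p // p ∈ t}, N' p, isOpen_iUnion hN'o, isCompact_iUnion hN'c, ?_⟩
  rw [Set.preimage_iUnion]
  simp_rw [hN']
  apply Set.Subset.antisymm
  · exact Set.iUnion_subset fun p => hMV p.1
  · intro x hx
    obtain ⟨p, hp, hxp⟩ := Set.mem_iUnion₂.1 (ht hx)
    exact Set.mem_iUnion.2 ⟨⟨p, hp⟩, hxp⟩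

/-- `S10469`. -/
theorem main_conn (hX : IsAlgSpace X) :
    (∀ (K : Type u) [Field K] [Algebra k K],
      ConnectedSpace (Points (X ⨯ (yon _).obj (SK (k := k) K)))) ↔
      ∀ (k' : Type u) [Field k'] [Algebra k k'], Module.Finite k k' → Algebra.IsSeparable k k' →
        ConnectedSpace (Points (X ⨯ (yon _).obj (SK (k := k) k'))) := by
  constructor
  · intro h k' _ _ _ _
    exact h k'
  · intro H K _ _
    haveI : ConnectedSpace (Points (X ⨯ (yon _).obj (SK (k := k) (SeparableClosure k)))) :=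
      connectedSpace_of_finite_levels (SeparableClosure k) hX fun L hL => H L hL inferInstance
    obtain ⟨Ω, _, _, _, _, ⟨ψ⟩⟩ := exists_compositum (k := k) (SeparableClosure k) K
    haveI : ConnectedSpace (Points (X ⨯ (yon _).obj (SK (k := k) Ω))) :=
      connectedSpace_bc_of_isSepClosed hX (IsScalarTower.toAlgHom k (SeparableClosure k) Ω)
    exact connectedSpace_bc_of_algHom ψ

/-- `S10471`. -/
theorem main_stab [IsGalois k K] (hX : IsAlgSpace X)
    (V : Set (Points (X ⨯ (yon _).obj (SK (k := k) K)))) (hV : IsOpen V) (hVc : IsCompact V) :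
    ∃ H : Subgroup (K ≃ₐ[k] K), IsOpen (H : Set (K ≃ₐ[k] K)) ∧
      ∀ σ ∈ H, ∀ (g : SK (k := k) K ⟶ SK (k := k) K),
        g.left = Spec.map (CommRingCat.ofHom (σ : K ≃ₐ[k] K).toRingHom) →
          Points.map (prod.map (𝟙 X) ((yon _).map g)) '' V = V := by
  obtain ⟨L, hL, V', -, -, hV'⟩ := exists_level K hX V hV hVc
  refine ⟨L.fixingSubgroup, IntermediateField.fixingSubgroup_isOpen L, ?_⟩
  intro σ hσ g hg
  have hcomp : g ≫ SKmap (k := k) L.val = SKmap L.val := by
    apply Over.OverMorphism.ext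
    rw [Over.comp_left, hg]
    change Spec.map _ ≫ Spec.map _ = Spec.map _
    rw [← Spec.map_comp]
    congr 1
    ext x
    exact (IntermediateField.mem_fixingSubgroup_iff L σ).1 hσ x x.2
  have hpre : Points.map (prod.map (𝟙 X) ((yon _).map g)) ⁻¹' V = V := by
    rw [← hV', ← Set.preimage_comp]
    congr 1
    funext q
    show πL X K L (Points.map _ q) = πL X K L q
    show Points.map _ (Points.map _ q) = Points.map _ q
    rw [← Points.map_comp, prod.map_map, Category.comp_id, ← Functor.map_comp, hcomp]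
  have := Set.image_preimage_eq V (surjective_prod_map_field g X)
  rwa [hpre] at this

/-- `S10472`. -/
theorem main_level [IsGalois k K] (hX : IsAlgSpace X)
    (V : Set (Points (X ⨯ (yon _).obj (SK (k := k) K)))) (hV : IsOpen V) (hVc : IsCompact V) :
    ∃ (k' : IntermediateField k K) (_ : FiniteDimensional k k')
      (g : SK (k := k) K ⟶ SK (k := k) k'),
      g.left = Spec.map (CommRingCat.ofHom (algebraMap k' K)) ∧
      ∃ V' : Set (Points (X ⨯ (yon _).obj (SK (k := k) k'))), IsOpen V' ∧ IsCompact V' ∧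
        Points.map (prod.map (𝟙 X) ((yon _).map g)) ⁻¹' V' = V := by
  obtain ⟨L, hL, V', hV'o, hV'c, hV'⟩ := exists_level K hX V hV hVc
  exact ⟨L, hL, SKmap L.val, rfl, V', hV'o, hV'c, hV'⟩

end Local

end Groth.Agent.Helper2.GaloisLocal
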