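import Mathlib
import Groth.Prelude.Def_AlgSp4
import Groth.Agent.Lib.Helper2.AlgSp.GeomConnCount
import Groth.Agent.Lib.Helper2.AlgSp.Reduced
import Groth.Agent.Lib.Helper2.AlgSp.FieldQuot
import Groth.Agent.Lib.Helper2.AlgSp.LocP

/-!
# Geometric reducedness of the fibre over a point does not depend on the representative
-/

namespace Groth.Agent.Helper2.GeomRedFibre
open CategoryTheory CategoryTheory.Limits AlgebraicGeometry Opposite AlgSp
open Groth.Agent.Helper2.AlgSpBasic Groth.Agent.Helper2.FieldConn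
open Groth.Agent.Helper2.GeomConnCount
universe u
variable {S : Scheme.{u}}

/-- The statement "the fibre over `k` is geometrically reduced". -/
def GeomRed {X Y : Space S} (f : X ⟶ Y) (k : FieldPt Y.obj) : Prop :=
  ∀ (k' : Type u) [Field k'] (φ : k.K →+* k') (Xk' : Sp S) (a : Xk' ⟶ X.obj)
    (b : Xk' ⟶ (yon S).obj (Over.mk (Spec.map (CommRingCat.ofHom φ) ≫ k.str))),
    IsPullback a b f.hom ((yon S).map (Over.homMk (Spec.map (CommRingCat.ofHom φ)) rfl :
      Over.mk (Spec.map (CommRingCat.ofHom φ) ≫ k.str) ⟶ k.pt) ≫ k.toHom) →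
    EtaleLocally (fun U => IsReduced U) Xk'

/-- If the fibre over `k₁` is geometrically reduced, the fibre over every equivalent field point
is reduced. -/
theorem reduced_of_common {X Y : Space S} (f : X ⟶ Y) (k₁ : FieldPt Y.obj) (hk₁ : GeomRed f k₁)
    (q : FieldPt Y.obj) (hq : Points.mk k₁ = Points.mk q)
    (Xq : Sp S) (a : Xq ⟶ X.obj) (b : Xq ⟶ (yon S).obj q.pt) (h : IsPullback a b f.hom q.toHom) :
    EtaleLocally (fun U => IsReduced U) Xq := by
  obtain ⟨Ω, _, w, α, β, hαβ⟩ := exists_common_of_mk_eq k₁ q hq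
  obtain ⟨ψ, hψ⟩ : ∃ ψ : k₁.K →+* Ω, Spec.map (CommRingCat.ofHom ψ) = α.left :=
    ⟨(Spec.preimage α.left).hom, by rw [CommRingCat.ofHom_hom, Spec.map_preimage]⟩
  have hw : Spec.map (CommRingCat.ofHom ψ) ≫ k₁.str = w := by
    rw [hψ]; exact Over.w α
  obtain ⟨e, he⟩ : ∃ e : Over.mk (Spec.map (CommRingCat.ofHom ψ) ≫ k₁.str) ⟶ Over.mk w,
      e.left = 𝟙 _ := ⟨Over.homMk (𝟙 _) (by simp [hw]), rfl⟩
  have heα : e ≫ α = (Over.homMk (Spec.map (CommRingCat.ofHom ψ)) rfl :
      Over.mk (Spec.map (CommRingCat.ofHom ψ) ≫ k₁.str) ⟶ k₁.pt) := by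
    apply Over.OverMorphism.ext
    rw [Over.comp_left, he, Category.id_comp, hψ]
    rfl
  have hXq : IsAlgSpace Xq :=
    isAlgSpace_of_isPullback Y.property.diag X.property (IsAlgSpace.yon_obj _) _ _ _ _ h
  obtain ⟨P, p₁, p₂, sqP⟩ : ∃ (P : Sp S) (p₁ : P ⟶ Xq)
      (p₂ : P ⟶ (yon S).obj (Over.mk (Spec.map (CommRingCat.ofHom ψ) ≫ k₁.str))),
      IsPullback p₁ p₂ b ((yon S).map (e ≫ β)) :=
    ⟨_, _, _, IsPullback.of_hasPullback b ((yon S).map (e ≫ β))⟩
  have hP : IsAlgSpace P :=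
    isAlgSpace_of_isPullback (IsAlgSpace.yon_obj _).diag hXq (IsAlgSpace.yon_obj _) _ _ _ _ sqP
  have big : IsPullback (p₁ ≫ a) p₂ f.hom ((yon S).map (e ≫ β) ≫ q.toHom) := sqP.paste_horiz h
  have hbot : (yon S).map (e ≫ β) ≫ q.toHom =
      (yon S).map (Over.homMk (Spec.map (CommRingCat.ofHom ψ)) rfl :
        Over.mk (Spec.map (CommRingCat.ofHom ψ) ≫ k₁.str) ⟶ k₁.pt) ≫ k₁.toHom := by
    rw [Functor.map_comp, Category.assoc, ← hαβ, ← Category.assoc, ← Functor.map_comp, heα]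
  rw [hbot] at big
  have hPred : IsReducedSp P := hk₁ Ω ψ P (p₁ ≫ a) p₂ big
  -- `p₁` is flat and surjective
  have hfl0 : Flat (e ≫ β).left := by
    have : IsIntegral q.pt.left := by
      change IsIntegral (Spec (CommRingCat.of q.K))
      infer_instance
    have : Subsingleton ↥q.pt.left := by
      change Subsingleton ↥(Spec (CommRingCat.of q.K))
      infer_instance
    infer_instance
  have hfl1 : RepWith @Flat ((yon S).map (e ≫ β)) := (repWith_yon_map_iff @Flat _).2 hfl0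
  have hfl2 : RepWith @Flat p₁ := repWith_of_isPullback @Flat sqP.flip hfl1
  have hfl : LocP @Flat p₁ := locP_of_repWith @Flat hP.diag p₁ hfl2
  have hs : IsSurjectiveMor p₁ :=
    isSurjectiveMor_of_isPullback ((yon S).map (e ≫ β)) b p₂ p₁ sqP.flip
      (isSurjectiveMor_yon_map_field (e ≫ β))
  exact isReducedSp_of_flat_of_surjective hP hXq p₁ hfl hs hPred


/-- The field point `Spec k' ⟶ Spec k ⟶ Y` attached to a field homomorphism lies in the class
of `k`. -/
theorem mk_ext_pt {Y : Sp S} (k : FieldPt Y) {k' : Type u} [Field k'] (φ : k.K →+* k') :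
    Points.mk (fieldPtOfHom (Spec.map (CommRingCat.ofHom φ) ≫ k.str)
      ((yon S).map (Over.homMk (Spec.map (CommRingCat.ofHom φ)) rfl :
        Over.mk (Spec.map (CommRingCat.ofHom φ) ≫ k.str) ⟶ k.pt) ≫ k.toHom)) = Points.mk k := by
  rw [Groth.Agent.Helper2.FieldQuot.mk_fieldPtOfHom _ _ (IsLocalRing.closedPoint k'),
    ofPt_yon_map_comp, Points.ofPt_toHom]

theorem main {X Y : Space S} (f : X ⟶ Y) (y : Points Y.obj) :
    [∃ (k : FieldPt Y.obj), Points.mk k = y ∧ GeomRed f k,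
      ∀ (k : FieldPt Y.obj), Points.mk k = y → GeomRed f k,
      ∀ (k : FieldPt Y.obj), Points.mk k = y →
        ∀ (Xk : Sp S) (a : Xk ⟶ X.obj) (b : Xk ⟶ (yon S).obj k.pt),
          IsPullback a b f.hom k.toHom → EtaleLocally (fun U => IsReduced U) Xk].TFAE := by
  have h32 : (∀ (k : FieldPt Y.obj), Points.mk k = y →
        ∀ (Xk : Sp S) (a : Xk ⟶ X.obj) (b : Xk ⟶ (yon S).obj k.pt),
          IsPullback a b f.hom k.toHom → EtaleLocally (fun U => IsReduced U) Xk) →
      ∀ (k : FieldPt Y.obj), Points.mk k = y → GeomRed f k := by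
    intro H k hk k' _ φ Xk' a b h
    refine H (fieldPtOfHom (Spec.map (CommRingCat.ofHom φ) ≫ k.str)
      ((yon S).map (Over.homMk (Spec.map (CommRingCat.ofHom φ)) rfl :
        Over.mk (Spec.map (CommRingCat.ofHom φ) ≫ k.str) ⟶ k.pt) ≫ k.toHom))
      ((mk_ext_pt k φ).trans hk) Xk' a b ?_
    rw [Groth.Agent.Helper2.FieldQuot.toHom_fieldPtOfHom]
    exact h
  tfae_have 1 → 2 := by
    rintro ⟨k₁, hk₁y, hk₁⟩ k hk
    refine h32 (fun q hq Xq a b h => ?_) k hk
    exact reduced_of_common f k₁ hk₁ q (hk₁y.trans hq.symm) Xq a b h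
  tfae_have 2 → 3 := by
    intro H k hk Xk a b h
    obtain ⟨j, hj⟩ : ∃ j : Over.mk (Spec.map (CommRingCat.ofHom (RingHom.id k.K)) ≫ k.str) ⟶ k.pt,
        j = Over.homMk (Spec.map (CommRingCat.ofHom (RingHom.id k.K))) rfl := ⟨_, rfl⟩
    have hjl : IsIso j.left := by
      rw [hj]
      change IsIso (Spec.map (𝟙 _))
      rw [Spec.map_id]
      infer_instance
    haveI : IsIso ((Over.forget S).map j) := hjl
    have hji : IsIso j := isIso_of_reflects_iso j (Over.forget S)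
    have sq0 : IsPullback (𝟙 Xk) (b ≫ inv ((yon S).map j)) b ((yon S).map j) :=
      IsPullback.of_horiz_isIso ⟨by simp⟩
    have sq1 := sq0.paste_horiz h
    rw [Category.id_comp] at sq1
    subst hj
    exact H k hk k.K (RingHom.id k.K) Xk a _ sq1
  tfae_have 3 → 2 := h32
  tfae_have 2 → 1 := by
    intro H
    obtain ⟨k, hk⟩ := Points.mk_surjective y
    exact ⟨k, hk, H k hk⟩
  tfae_finish

end Groth.Agent.Helper2.GeomRedFibre
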