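import Mathlib
import Groth.Prelude.Def_AlgSp4
import Groth.Prelude.Def_AlgSpDec
import Groth.Agent.Lib.Helper2.AlgSp.GeomRedFibre
import Groth.Agent.Lib.Helper2.AlgSp.Points
import Groth.Agent.Lib.Helper2.AlgSp.Diag
import Groth.Agent.Lib.Helper2.AlgSp.QC
import Groth.Agent.Lib.Helper2.Sch.GeomRedLocus
import Groth.Agent.S1301

/-!
# The locus of points with geometrically reduced fibre, for morphisms of algebraic spaces (helper2)

Given `f : X ⟶ Y`, an étale chart `b : h_V ⟶ Y`, the base change `X_V` and an étale surjective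
chart `a : h_U ⟶ X_V` with induced `h : U ⟶ V`, the set of points `v` of `V` over which the fibre of
`f` is geometrically reduced is the set of `v` such that the scheme-theoretic fibre `h⁻¹(v)` is
geometrically reduced over `κ(v)`.
-/

set_option autoImplicit false
set_option linter.style.haveILetI false
universe u

namespace Groth.Agent.Helper2.GeomRedLocusSp
open CategoryTheory CategoryTheory.Limits AlgebraicGeometry Opposite AlgSp Topology
open Groth.Agent.Helper2.AlgSpBasic Groth.Agent.Helper2.GeomRedFibre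
open Groth.Agent.Helper2.GeomRedLocus

variable {S : Scheme.{u}}

/-- Chart data for a morphism of algebraic spaces: an étale chart of the target, the base change
of the source, an étale surjective chart of it and the induced morphism of schemes. -/
structure Chart {X Y : Space S} (f : X ⟶ Y) where
  V : Over S
  b : (yon S).obj V ⟶ Y.obj
  hbe : RepWith @Etale b
  XV : Sp S
  p₁ : XV ⟶ X.obj
  fV : XV ⟶ (yon S).obj V
  sq : IsPullback p₁ fV f.hom b
  U : Over S
  a : (yon S).obj U ⟶ XV
  hae : RepWith @Etale a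
  has : RepWith @Surjective a
  h : U ⟶ V
  comm : a ≫ fV = (yon S).map h

namespace Chart

variable {X Y : Space S} {f : X ⟶ Y} (C : Chart f)

theorem isAlgSpace_XV : IsAlgSpace C.XV :=
  isAlgSpace_of_isPullback Y.property.diag X.property (IsAlgSpace.yon_obj _) _ _ _ _ C.sq

theorem chart_comm : (C.a ≫ C.p₁) ≫ f.hom = (yon S).map C.h ≫ C.b := by
  rw [Category.assoc, C.sq.w, ← Category.assoc, C.comm]

theorem etale_ap₁ : RepWith @Etale (C.a ≫ C.p₁) :=
  repWith_comp @Etale C.hae (repWith_of_isPullback @Etale C.sq.flip C.hbe)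

/-- Lemma A: the base change of `f` along `h_T ⟶ h_V ⟶ Y` is reduced iff the scheme `U ×_V T` is. -/
theorem reduced_iff_of_map {T : Over S} (m : T ⟶ C.V) (Xk' : Sp S) (a' : Xk' ⟶ X.obj)
    (b' : Xk' ⟶ (yon S).obj T) (sq' : IsPullback a' b' f.hom ((yon S).map m ≫ C.b)) :
    EtaleLocally (fun U => IsReduced U) Xk' ↔ IsReduced (pullback C.h.left m.left) := by
  obtain ⟨q, hq1, hq2⟩ : ∃ q : Xk' ⟶ C.XV, q ≫ C.p₁ = a' ∧ q ≫ C.fV = b' ≫ (yon S).map m :=
    ⟨C.sq.lift a' (b' ≫ (yon S).map m) (by rw [sq'.w, Category.assoc]),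
      C.sq.lift_fst _ _ _, C.sq.lift_snd _ _ _⟩
  have sqR : IsPullback b' q ((yon S).map m) C.fV :=
    IsPullback.of_bot (by rw [hq1]; exact sq'.flip) hq2.symm C.sq.flip
  obtain ⟨Um, u₁, u₂, sqU⟩ : ∃ (Um : Over S) (u₁ : Um ⟶ C.U) (u₂ : Um ⟶ T),
      IsPullback u₁ u₂ C.h m := ⟨_, _, _, IsPullback.of_hasPullback C.h m⟩
  have sqUy : IsPullback ((yon S).map u₁) ((yon S).map u₂) ((yon S).map C.h) ((yon S).map m) :=
    sqU.map (yon S)
  obtain ⟨e, he1, he2⟩ : ∃ e : (yon S).obj Um ⟶ Xk', e ≫ b' = (yon S).map u₂ ∧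
      e ≫ q = (yon S).map u₁ ≫ C.a :=
    ⟨sqR.lift ((yon S).map u₂) ((yon S).map u₁ ≫ C.a)
      (by rw [Category.assoc, C.comm]; exact sqUy.w.symm), sqR.lift_fst _ _ _, sqR.lift_snd _ _ _⟩
  have sqL : IsPullback e ((yon S).map u₁) q C.a := by
    refine IsPullback.of_right ?_ he2 sqR
    rw [he1, C.comm]
    exact sqUy.flip
  have hee : RepWith @Etale e := repWith_of_isPullback @Etale sqL.flip C.hae
  have hes : RepWith @Surjective e := repWith_of_isPullback @Surjective sqL.flip C.has
  have sqS : IsPullback u₁.left u₂.left C.h.left m.left := sqU.map (Over.forget S)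
  have iso : Um.left ≅ pullback C.h.left m.left := sqS.isoPullback
  constructor
  · intro hred
    haveI : IsReduced Um.left := isReduced_of_etale_of_isReducedSp hred e hee
    exact isReduced_of_isOpenImmersion iso.inv
  · intro hred
    haveI := hred
    have : IsReduced Um.left := isReduced_of_isOpenImmersion iso.hom
    exact ⟨Um, e, hee, hes, this⟩

/-- Lemma B: for a field point factoring through the chart `V`, the fibre of `f` is geometrically
reduced iff the scheme-theoretic fibre of `h` is. -/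
theorem geomRed_iff (k : FieldPt Y.obj) (j : k.pt ⟶ C.V) (hj : (yon S).map j ≫ C.b = k.toHom) :
    GeomRed f k ↔ GeometricallyReduced (pullback.snd C.h.left j.left) := by
  have key : ∀ (k' : Type u) [Field k'] (φ : k.K →+* k') (Xk' : Sp S) (a' : Xk' ⟶ X.obj)
      (b' : Xk' ⟶ (yon S).obj (Over.mk (Spec.map (CommRingCat.ofHom φ) ≫ k.str))),
      IsPullback a' b' f.hom ((yon S).map (Over.homMk (Spec.map (CommRingCat.ofHom φ)) rfl :
        Over.mk (Spec.map (CommRingCat.ofHom φ) ≫ k.str) ⟶ k.pt) ≫ k.toHom) →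
      (EtaleLocally (fun U => IsReduced U) Xk' ↔
        IsReduced (pullback (pullback.snd C.h.left j.left)
          (Spec.map (CommRingCat.ofHom φ)))) := by
    intro k' _ φ Xk' a' b' sq'
    obtain ⟨c, hc⟩ : ∃ c : Over.mk (Spec.map (CommRingCat.ofHom φ) ≫ k.str) ⟶ k.pt,
        c = Over.homMk (Spec.map (CommRingCat.ofHom φ)) rfl := ⟨_, rfl⟩
    rw [← hc] at sq'
    have sq'' : IsPullback a' b' f.hom ((yon S).map (c ≫ j) ≫ C.b) := by
      rw [Functor.map_comp, Category.assoc, hj]; exact sq'
    rw [C.reduced_iff_of_map (c ≫ j) Xk' a' b' sq'']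
    have iso := pullbackLeftPullbackSndIso C.h.left j.left (Spec.map (CommRingCat.ofHom φ))
    have hl : (c ≫ j).left = Spec.map (CommRingCat.ofHom φ) ≫ j.left := by rw [hc]; rfl
    rw [hl]
    constructor
    · intro hr
      haveI := hr
      exact isReduced_of_isOpenImmersion iso.hom
    · intro hr
      haveI := hr
      exact isReduced_of_isOpenImmersion iso.inv
  rw [geometricallyReduced_iff, geometrically_iff_of_isClosedUnderIsomorphisms]
  constructor
  · intro H K _ y
    obtain ⟨φ, hφ⟩ : ∃ φ : k.K →+* K, Spec.map (CommRingCat.ofHom φ) = y :=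
      ⟨(Spec.preimage y).hom, by rw [CommRingCat.ofHom_hom, Spec.map_preimage]⟩
    subst hφ
    exact (key K φ _ _ _ (IsPullback.of_hasPullback _ _)).1
      (H K φ _ _ _ (IsPullback.of_hasPullback _ _))
  · intro H k' _ φ Xk' a' b' sq'
    exact (key k' φ Xk' a' b' sq').2 (H k' (Spec.map (CommRingCat.ofHom φ)))

theorem forall_geomRed_iff (v : C.V.left) :
    (∀ k : FieldPt Y.obj, Points.mk k = Points.ofPt C.b v → GeomRed f k) ↔
      GeometricallyReduced (C.h.left.fiberToSpecResidueField v) := by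
  have hB := C.geomRed_iff (FieldPt.ofPt C.b v)
    (Over.homMk (C.V.left.fromSpecResidueField v) rfl) (FieldPt.toHom_ofPt C.b v).symm
  constructor
  · intro H
    exact hB.1 (H (FieldPt.ofPt C.b v) rfl)
  · intro H
    have h12 := (main f (Points.ofPt C.b v)).out 0 1
    exact h12.1 ⟨FieldPt.ofPt C.b v, rfl, hB.2 H⟩

theorem preimage_eq :
    Points.ofPt C.b ⁻¹' {y | ∀ k : FieldPt Y.obj, Points.mk k = y → GeomRed f k} =
      {v | GeometricallyReduced (C.h.left.fiberToSpecResidueField v)} := by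
  ext v
  exact C.forall_geomRed_iff v

theorem good_iff_of_ofPt_eq (u u' : C.U.left) (e : Points.ofPt C.a u = Points.ofPt C.a u') :
    Good C.h.left u ↔ Good C.h.left u' := by
  obtain ⟨R, s, t, sqR⟩ := exists_isPullback_yon C.isAlgSpace_XV.diag C.a C.a
  obtain ⟨r, hr1, hr2⟩ := exists_point_of_isPullback_yon C.a C.a s t sqR u u' e
  haveI ht : Etale t.left := C.hae.property C.a _ _ sqR
  haveI hs : Etale s.left := C.hae.property C.a _ _ sqR.flip
  have hst : s ≫ C.h = t ≫ C.h := by
    apply (yon S).map_injective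
    rw [Functor.map_comp, Functor.map_comp, ← C.comm, ← Category.assoc, sqR.w, Category.assoc]
  have hst' : s.left ≫ C.h.left = t.left ≫ C.h.left := by
    rw [← Over.comp_left, hst, Over.comp_left]
  rw [← hr1, ← hr2, ← good_comp_iff s.left C.h.left r, ← good_comp_iff t.left C.h.left r, hst']

theorem isClosed_image (hcl : IsClosedMap (Points.map C.fV)) (Z : Set C.U.left) (hZ : IsClosed Z)
    (hsat : ∀ u u', Points.ofPt C.a u = Points.ofPt C.a u' → (u ∈ Z ↔ u' ∈ Z)) :
    IsClosed (C.h.left '' Z) := by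
  have hq := isQuotientMap_ofPt C.a C.hae C.has
  have h1 : IsClosed (Points.ofPt C.a '' Z) := by
    rw [← hq.isClosed_preimage]
    convert hZ using 1
    ext u
    constructor
    · rintro ⟨u', hu', e⟩
      exact (hsat u' u e).1 hu'
    · intro hu
      exact ⟨u, hu, rfl⟩
  have h2 := hcl _ h1
  have h3 : Points.map C.fV '' (Points.ofPt C.a '' Z) =
      (Points.schemeHomeo C.V) '' (C.h.left '' Z) := by
    rw [Set.image_image, Set.image_image]
    apply Set.image_congr
    intro u _
    rw [Points.map_ofPt, C.comm]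
    have := ofPt_yon_map_comp C.h (𝟙 _) u
    rw [Category.comp_id] at this
    exact this
  rw [h3] at h2
  exact (Points.schemeHomeo C.V).isClosed_image.1 h2

theorem isOpen_geomRed [Flat C.h.left] [LocallyOfFinitePresentation C.h.left]
    (hcl : IsClosedMap (Points.map C.fV)) :
    IsOpen {v | GeometricallyReduced (C.h.left.fiberToSpecResidueField v)} := by
  have hW := isOpen_good C.h.left
  have hZ := C.isClosed_image hcl {u | Good C.h.left u}ᶜ hW.isClosed_compl
    (fun u u' e => not_congr (C.good_iff_of_ofPt_eq u u' e))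
  convert hZ.isOpen_compl using 1
  ext v
  rw [Set.mem_ofPred_eq, ← forall_good_iff]
  constructor
  · rintro H ⟨u, hu, huv⟩
    exact hu (H u huv)
  · intro H u huv
    by_contra hu
    exact H ⟨u, hu, huv⟩

theorem isOpen_locus (hbs : RepWith @Surjective C.b)
    (hf1 : LocP @Flat f.hom) (hf2 : IsProperMor f.hom) (hf3 : IsFinitePresentationMor f.hom) :
    IsOpen {y : Points Y.obj | ∀ k : FieldPt Y.obj, Points.mk k = y → GeomRed f k} := by
  rw [← (isQuotientMap_ofPt C.b C.hbe hbs).isOpen_preimage, C.preimage_eq]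
  haveI : Flat C.h.left := hf1 (C.a ≫ C.p₁) C.b C.h C.etale_ap₁ C.hbe C.chart_comm
  haveI : LocallyOfFinitePresentation C.h.left :=
    hf3.1 (C.a ≫ C.p₁) C.b C.h C.etale_ap₁ C.hbe C.chart_comm
  have hcl : IsClosedMap (Points.map C.fV) :=
    hf2.2.2 (IsAlgSpace.yon_obj _) C.b C.p₁ C.fV C.sq
  exact C.isOpen_geomRed hcl

theorem isConstructible_preimage (hV : IsAffine C.V.left) (hU : CompactSpace C.U.left)
    (hf2 : LocP @LocallyOfFinitePresentation f.hom) :
    IsConstructible (Points.ofPt C.b ⁻¹'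
      {y : Points Y.obj | ∀ k : FieldPt Y.obj, Points.mk k = y → GeomRed f k}) := by
  rw [C.preimage_eq]
  haveI : LocallyOfFinitePresentation C.h.left :=
    hf2 (C.a ≫ C.p₁) C.b C.h C.etale_ap₁ C.hbe C.chart_comm
  haveI : QuasiCompact C.h.left := by
    haveI := hV
    haveI := hU
    exact quasiCompact_of_compactSpace _
  haveI := hV
  exact (Groth.Agent.S1301.result C.h.left).isConstructible

end Chart

/-- `S10682`: openness of the locus with geometrically reduced fibres for flat proper morphisms of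
finite presentation. -/
theorem isOpen_geomRed_locus {X Y : Space S} (f : X ⟶ Y)
    (hf1 : LocP @Flat f.hom) (hf2 : IsProperMor f.hom) (hf3 : IsFinitePresentationMor f.hom) :
    IsOpen {y : Points Y.obj | ∀ k : FieldPt Y.obj, Points.mk k = y → GeomRed f k} := by
  obtain ⟨V, b, hbe, hbs⟩ := Y.property.atlas
  obtain ⟨XV, p₁, fV, sq⟩ : ∃ (XV : Sp S) (p₁ : XV ⟶ X.obj) (fV : XV ⟶ (yon S).obj V),
      IsPullback p₁ fV f.hom b := ⟨_, _, _, IsPullback.of_hasPullback f.hom b⟩
  have hXV : IsAlgSpace XV :=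
    isAlgSpace_of_isPullback Y.property.diag X.property (IsAlgSpace.yon_obj _) _ _ _ _ sq
  obtain ⟨U, a, hae, has⟩ := hXV.atlas
  obtain ⟨h, hh⟩ := (yon S).map_surjective (a ≫ fV)
  exact Chart.isOpen_locus ⟨V, b, hbe, XV, p₁, fV, sq, U, a, hae, has, h, hh.symm⟩ hbs hf1 hf2 hf3

/-- `S10683`: étale-local constructibility of the locus with geometrically reduced fibres for
quasi-compact morphisms locally of finite presentation. -/
theorem isConstructible_geomRed_locus {X Y : Space S} (f : X ⟶ Y)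
    (hf1 : IsQuasiCompactMor f.hom) (hf2 : LocP @LocallyOfFinitePresentation f.hom)
    (V : Over S) (hV : IsAffine V.left) (b : (yon S).obj V ⟶ Y.obj) (hbe : RepWith @Etale b) :
    IsConstructible (Points.ofPt b ⁻¹'
      {y : Points Y.obj | ∀ k : FieldPt Y.obj, Points.mk k = y → GeomRed f k}) := by
  obtain ⟨XV, p₁, fV, sq⟩ : ∃ (XV : Sp S) (p₁ : XV ⟶ X.obj) (fV : XV ⟶ (yon S).obj V),
      IsPullback p₁ fV f.hom b := ⟨_, _, _, IsPullback.of_hasPullback f.hom b⟩
  have hXV : IsAlgSpace XV :=
    isAlgSpace_of_isPullback Y.property.diag X.property (IsAlgSpace.yon_obj _) _ _ _ _ sq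
  have hqc : IsQuasiCompactSp XV :=
    hf1 (IsAlgSpace.yon_obj V) ((isQuasiCompactSp_yon_iff V).mpr inferInstance) b p₁ fV sq
  obtain ⟨U, a, hae, has, hU⟩ := hqc
  obtain ⟨h, hh⟩ := (yon S).map_surjective (a ≫ fV)
  exact Chart.isConstructible_preimage ⟨V, b, hbe, XV, p₁, fV, sq, U, a, hae, has, h, hh.symm⟩
    hV hU hf2

end Groth.Agent.Helper2.GeomRedLocusSp
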