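import Mathlib
import Groth.Prelude.Def_AlgSpMor5
import Groth.Prelude.Def_AlgSpDec
import Groth.Prelude.Def_Dual3
import Groth.Agent.Lib.Helper2.AlgSp.LocP
import Groth.Agent.Lib.Helper2.AlgSp.Points
import Groth.Agent.Lib.Helper2.AlgSp.Mor
import Groth.Agent.Lib.Helper2.AlgSp.Mor2
import Groth.Agent.Lib.Helper2.AlgSp.NoethDescent
import Groth.Agent.Lib.Helper2.AlgSp.FlatLocusSp
import Groth.Agent.Lib.Helper2.Sch.GorEtale

/-!
# Gorenstein morphisms of algebraic spaces: independence of the chart (helper2)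
-/

set_option autoImplicit false
set_option linter.style.haveILetI false

open CategoryTheory CategoryTheory.Limits AlgebraicGeometry Opposite AlgSp

universe u

namespace Groth.Agent.Helper2.GorSp

open Groth.Agent.Helper2.AlgSpBasic Groth.Agent.Helper2.FlatPt Groth.Agent.Helper2.GorSch

variable {S : Scheme.{u}}

/-- Cancellation for representable etale morphisms. -/
theorem repWith_etale_of_comp_etale {Z Y X : Sp S} (hY : IsAlgSpace Y) (a : Z ⟶ Y) (b : Y ⟶ X)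
    (hab : RepWith @Etale (a ≫ b)) (hb : RepWith @Etale b) : RepWith @Etale a := by
  have h1 : RepWith @IsOpenImmersion (pullback.diagonal b) := by
    rw [repWith_diagonal_iff_repWith_of_representable @IsOpenImmersion hY.diag b hb.rep]
    refine repWith_mono ?_ hb
    intro A B g (hg : Etale g)
    exact (inferInstance : IsOpenImmersion (pullback.diagonal g))
  have h2 : RepWith @Etale (pullback.diagonal b) := by
    refine repWith_mono ?_ h1
    intro A B g (hg : IsOpenImmersion g)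
    exact (inferInstance : Etale g)
  exact repWith_of_comp_of_diagonal @Etale a b hab h2

/-- All chart morphisms of `f` have locally Noetherian fibres. -/
def ChartFibNoeth {X Y : Sp S} (f : X ⟶ Y) : Prop :=
  ∀ ⦃U V : Over S⦄ (a : (yon S).obj U ⟶ X) (b : (yon S).obj V ⟶ Y) (h : U ⟶ V),
    RepWith @Etale a → RepWith @Etale b → a ≫ f = (yon S).map h ≫ b →
    ∀ v : ↥V.left, IsLocallyNoetherian (h.left.fiber v)

theorem chartFibNoeth_of_lft {X Y : Sp S} (f : X ⟶ Y) (hf : LocP @LocallyOfFiniteType f) :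
    ChartFibNoeth f := by
  intro U V a b h ha hb comm v
  haveI : LocallyOfFiniteType h.left := hf a b h ha hb comm
  exact isLocallyNoetherian_fiber_of_lft h.left v

set_option maxHeartbeats 800000 in
/-- If the fibres of `f` over field points are locally Noetherian, then all chart morphisms of `f`
have locally Noetherian fibres. -/
theorem chartFibNoeth_of_fibres {X Y : Sp S} (hX : IsAlgSpace X) (hY : IsAlgSpace Y) (f : X ⟶ Y)
    (hf : ∀ (k : FieldPt Y) (Xk : Sp S) (a : Xk ⟶ X) (b : Xk ⟶ (yon S).obj k.pt),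
      IsPullback a b f k.toHom → IsLocNoethSp Xk) : ChartFibNoeth f := by
  intro U V a b h ha hb comm v
  -- the field point
  obtain ⟨ιO, hιO⟩ : ∃ ιO : (FieldPt.ofPt b v).pt ⟶ V,
      ιO = Over.homMk (V.left.fromSpecResidueField v) rfl := ⟨_, rfl⟩
  have hιOl : ιO.left = V.left.fromSpecResidueField v := by rw [hιO]; rfl
  have hk : (FieldPt.ofPt b v).toHom = (yon S).map ιO ≫ b := by
    rw [hιO]; exact FieldPt.toHom_ofPt b v
  -- the fibre of `X`
  have sqk := IsPullback.of_hasPullback f (FieldPt.ofPt b v).toHom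
  have hXk : IsLocNoethSp (pullback f (FieldPt.ofPt b v).toHom) := hf _ _ _ _ sqk
  obtain ⟨Xk, p₁, p₂, sqk', hXk'⟩ : ∃ (Xk : Sp S) (p₁ : Xk ⟶ X)
      (p₂ : Xk ⟶ (yon S).obj (FieldPt.ofPt b v).pt),
      IsPullback p₁ p₂ f ((yon S).map ιO ≫ b) ∧ IsLocNoethSp Xk := by
    refine ⟨_, pullback.fst f (FieldPt.ofPt b v).toHom, pullback.snd f (FieldPt.ofPt b v).toHom,
      ?_, hXk⟩
    rw [← hk]; exact sqk
  -- the space `X_V`
  obtain ⟨XV, ρ₁, ρ₂, sqX⟩ : ∃ (XV : Sp S) (ρ₁ : XV ⟶ X) (ρ₂ : XV ⟶ (yon S).obj V),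
      IsPullback ρ₁ ρ₂ f b := ⟨_, _, _, IsPullback.of_hasPullback _ _⟩
  have hXV : IsAlgSpace XV :=
    isAlgSpace_of_isPullback hY.diag hX (IsAlgSpace.yon_obj V) f b ρ₁ ρ₂ sqX
  have hρ₁ : RepWith @Etale ρ₁ := repWith_of_isPullback @Etale sqX.flip hb
  obtain ⟨a₀, ha₀⟩ : ∃ a₀, a₀ = sqX.lift a ((yon S).map h) comm := ⟨_, rfl⟩
  have ha₀1 : a₀ ≫ ρ₁ = a := by rw [ha₀, sqX.lift_fst]
  have ha₀2 : a₀ ≫ ρ₂ = (yon S).map h := by rw [ha₀, sqX.lift_snd]
  have ha₀e : RepWith @Etale a₀ :=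
    repWith_etale_of_comp_etale hXV a₀ ρ₁ (by rw [ha₀1]; exact ha) hρ₁
  -- `X_k = X_V ×_V Spec κ(v)`
  have hψc : p₁ ≫ f = (p₂ ≫ (yon S).map ιO) ≫ b := by rw [Category.assoc]; exact sqk'.w
  obtain ⟨ψ, hψ⟩ : ∃ ψ, ψ = sqX.lift p₁ (p₂ ≫ (yon S).map ιO) hψc := ⟨_, rfl⟩
  have hψ1 : ψ ≫ ρ₁ = p₁ := by rw [hψ, sqX.lift_fst]
  have hψ2 : ψ ≫ ρ₂ = p₂ ≫ (yon S).map ιO := by rw [hψ, sqX.lift_snd]
  have sqψ : IsPullback ψ p₂ ρ₂ ((yon S).map ιO) := by
    refine IsPullback.of_right ?_ hψ2 sqX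
    rw [hψ1]
    exact sqk'
  -- the fibre of `U`
  have hτw : h.left.fiberToSpecResidueField v ≫ V.left.fromSpecResidueField v ≫ V.hom =
      h.left.fiberι v ≫ U.hom := by
    rw [← Category.assoc, ← h.left.fiber_fac v, Category.assoc, Over.w h]
  obtain ⟨jU, hjU⟩ : ∃ jU : Over.mk (h.left.fiberι v ≫ U.hom) ⟶ U,
      jU = Over.homMk (h.left.fiberι v) rfl := ⟨_, rfl⟩
  obtain ⟨τ, hτ⟩ : ∃ τ : Over.mk (h.left.fiberι v ≫ U.hom) ⟶ (FieldPt.ofPt b v).pt,
      τ = Over.homMk (h.left.fiberToSpecResidueField v) hτw := ⟨_, rfl⟩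
  have sqUv : IsPullback ((yon S).map jU) ((yon S).map τ) ((yon S).map h) ((yon S).map ιO) := by
    refine yon_isPullback_of_left jU τ h ιO ?_
    rw [hjU, hτ, hιO]
    exact IsPullback.of_hasPullback h.left (V.left.fromSpecResidueField v)
  have hθc : ((yon S).map jU ≫ a₀) ≫ ρ₂ = (yon S).map τ ≫ (yon S).map ιO := by
    rw [Category.assoc, ha₀2, sqUv.w]
  obtain ⟨θ, hθ⟩ : ∃ θ, θ = sqψ.lift ((yon S).map jU ≫ a₀) ((yon S).map τ) hθc := ⟨_, rfl⟩
  have hθ1 : θ ≫ ψ = (yon S).map jU ≫ a₀ := by rw [hθ, sqψ.lift_fst]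
  have hθ2 : θ ≫ p₂ = (yon S).map τ := by rw [hθ, sqψ.lift_snd]
  have sqθ : IsPullback θ ((yon S).map jU) ψ a₀ := by
    refine IsPullback.of_right ?_ hθ1 sqψ.flip
    rw [hθ2, ha₀2]
    exact sqUv.flip
  have hθe : RepWith @Etale θ := repWith_of_isPullback @Etale sqθ.flip ha₀e
  exact isLocallyNoetherian_of_etale_of_isLocNoethSp hXk' θ hθe

/-- Being Gorenstein at a point does not depend on the chart diagram. -/
theorem gorAt_chart_indep {X Y : Sp S} (hX : IsAlgSpace X) (hY : IsAlgSpace Y) (f : X ⟶ Y)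
    (hfib : ChartFibNoeth f)
    {U V U' V' : Over S} (a : (yon S).obj U ⟶ X) (b : (yon S).obj V ⟶ Y) (k : U ⟶ V)
    (ha : RepWith @Etale a) (hb : RepWith @Etale b) (hc : a ≫ f = (yon S).map k ≫ b)
    (a' : (yon S).obj U' ⟶ X) (b' : (yon S).obj V' ⟶ Y) (k' : U' ⟶ V')
    (ha' : RepWith @Etale a') (hb' : RepWith @Etale b') (hc' : a' ≫ f = (yon S).map k' ≫ b')
    (u : ↥U.left) (u' : ↥U'.left) (e : Points.ofPt a u = Points.ofPt a' u')
    (hG : Dual3.IsGorensteinAt k.left u) : Dual3.IsGorensteinAt k'.left u' := by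
  obtain ⟨U'', p₁, p₂, sqU⟩ := exists_isPullback_yon hX.diag a a'
  obtain ⟨V'', q₁, q₂, sqV⟩ := exists_isPullback_yon hY.diag b b'
  haveI hp₁ : Etale p₁.left := ha'.property a _ _ sqU.flip
  haveI hp₂ : Etale p₂.left := ha.property a' _ _ sqU
  haveI hq₁ : Etale q₁.left := hb'.property b _ _ sqV.flip
  haveI hq₂ : Etale q₂.left := hb.property b' _ _ sqV
  obtain ⟨u'', hu1, hu2⟩ := exists_point_of_isPullback_yon a a' p₁ p₂ sqU u u' e
  have hcomm : (yon S).map (p₁ ≫ k) ≫ b = (yon S).map (p₂ ≫ k') ≫ b' := by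
    rw [Functor.map_comp, Functor.map_comp, Category.assoc, Category.assoc, ← hc, ← hc',
      ← Category.assoc, ← Category.assoc, sqU.w]
  obtain ⟨k'', hk''⟩ := (yon S).map_surjective (sqV.lift _ _ hcomm)
  have hk1 : k'' ≫ q₁ = p₁ ≫ k :=
    (yon S).map_injective (by rw [Functor.map_comp, hk'', sqV.lift_fst])
  have hk2 : k'' ≫ q₂ = p₂ ≫ k' :=
    (yon S).map_injective (by rw [Functor.map_comp, hk'', sqV.lift_snd])
  have hk1' : k''.left ≫ q₁.left = p₁.left ≫ k.left := by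
    rw [← Over.comp_left, ← Over.comp_left, hk1]
  have hk2' : k''.left ≫ q₂.left = p₂.left ≫ k'.left := by
    rw [← Over.comp_left, ← Over.comp_left, hk2]
  -- the chart diagrams
  have ha1 : RepWith @Etale ((yon S).map p₁ ≫ a) :=
    repWith_comp @Etale ((repWith_yon_map_iff @Etale _).mpr hp₁) ha
  have ha2 : RepWith @Etale ((yon S).map p₂ ≫ a') :=
    repWith_comp @Etale ((repWith_yon_map_iff @Etale _).mpr hp₂) ha'
  have hb1 : RepWith @Etale ((yon S).map q₁ ≫ b) :=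
    repWith_comp @Etale ((repWith_yon_map_iff @Etale _).mpr hq₁) hb
  have hc1 : ((yon S).map p₁ ≫ a) ≫ f = (yon S).map (p₁ ≫ k) ≫ b := by
    rw [Category.assoc, hc, Functor.map_comp, Category.assoc]
  have hc2 : ((yon S).map p₂ ≫ a') ≫ f = (yon S).map (p₂ ≫ k') ≫ b' := by
    rw [Category.assoc, hc', Functor.map_comp, Category.assoc]
  have hc3 : ((yon S).map p₁ ≫ a) ≫ f = (yon S).map k'' ≫ ((yon S).map q₁ ≫ b) := by
    rw [hc1, ← hk1, Functor.map_comp, Category.assoc]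
  have hfk : ∀ v, IsLocallyNoetherian (k.left.fiber v) := hfib a b k ha hb hc
  have hfk' : ∀ v, IsLocallyNoetherian (k'.left.fiber v) := hfib a' b' k' ha' hb' hc'
  have hfk'' : ∀ v, IsLocallyNoetherian (k''.left.fiber v) := hfib _ _ k'' ha1 hb1 hc3
  have hf1 : ∀ v, IsLocallyNoetherian ((p₁.left ≫ k.left).fiber v) := by
    rw [← Over.comp_left]
    exact hfib _ b (p₁ ≫ k) ha1 hb hc1
  have hf2 : ∀ v, IsLocallyNoetherian ((p₂.left ≫ k'.left).fiber v) := by
    rw [← Over.comp_left]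
    exact hfib _ b' (p₂ ≫ k') ha2 hb' hc2
  have hf1' : ∀ v, IsLocallyNoetherian ((k''.left ≫ q₁.left).fiber v) := by
    rw [hk1']; exact hf1
  have hf2' : ∀ v, IsLocallyNoetherian ((k''.left ≫ q₂.left).fiber v) := by
    rw [hk2']; exact hf2
  have h1 : Dual3.IsGorensteinAt (p₁.left ≫ k.left) u'' :=
    (gor_precomp_etale_iff p₁.left k.left hfk hf1 u'').mpr (by rw [hu1]; exact hG)
  have h2 : Dual3.IsGorensteinAt (k''.left ≫ q₁.left) u'' := by rw [hk1']; exact h1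
  have h3 : Dual3.IsGorensteinAt k''.left u'' :=
    (gor_postcomp_etale_iff k''.left q₁.left hfk'' hf1' u'').mp h2
  have h4 : Dual3.IsGorensteinAt (k''.left ≫ q₂.left) u'' :=
    (gor_postcomp_etale_iff k''.left q₂.left hfk'' hf2' u'').mpr h3
  have h5 : Dual3.IsGorensteinAt (p₂.left ≫ k'.left) u'' := by rw [← hk2']; exact h4
  have h6 : Dual3.IsGorensteinAt k'.left (p₂.left u'') :=
    (gor_precomp_etale_iff p₂.left k'.left hfk' hf2 u'').mp h5
  rw [hu2] at h6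
  exact h6

/-- Being Gorenstein at a point, read on one chart diagram. -/
theorem locPAt_gor_iff_chart {X Y : Sp S} (hX : IsAlgSpace X) (hY : IsAlgSpace Y) (f : X ⟶ Y)
    (hfib : ChartFibNoeth f)
    {U V : Over S} (a : (yon S).obj U ⟶ X) (b : (yon S).obj V ⟶ Y) (k : U ⟶ V)
    (ha : RepWith @Etale a) (hb : RepWith @Etale b) (hc : a ≫ f = (yon S).map k ≫ b)
    (u : ↥U.left) :
    LocPAt (fun h u => Dual3.IsGorensteinAt h u) f (Points.ofPt a u) ↔
      Dual3.IsGorensteinAt k.left u := by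
  constructor
  · intro h
    exact h a b k u ha hb hc rfl
  · intro h U' V' a' b' k' u' ha' hb' hc' hu'
    exact gorAt_chart_indep hX hY f hfib a b k ha hb hc a' b' k' ha' hb' hc' u u' hu'.symm h

end Groth.Agent.Helper2.GorSp
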