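import Mathlib
import Groth.Agent.Lib.Helper2.AlgSp.GorChart
import Groth.Agent.Lib.Helper2.AlgSp.FlatLocusSp
import Groth.Agent.S3625

/-!
# Gorenstein morphisms of algebraic spaces: base change (helper2)
-/

set_option autoImplicit false
set_option linter.style.haveILetI false

open CategoryTheory CategoryTheory.Limits AlgebraicGeometry Opposite AlgSp

universe u

namespace Groth.Agent.Helper2.GorSp

open Groth.Agent.Helper2.AlgSpBasic Groth.Agent.Helper2.FlatPt Groth.Agent.Helper2.GorSch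
open Groth.Agent.Helper2.FlatFibresSp

variable {S : Scheme.{u}}

/-- The fibres of a base change are fibres of the original morphism. -/
theorem fibres_of_isPullback {X Y X' Y' : Sp S} (f : X ⟶ Y) (g : Y' ⟶ Y) (g' : X' ⟶ X)
    (f' : X' ⟶ Y') (hsq : IsPullback g' f' f g)
    (hf : ∀ (k : FieldPt Y) (Xk : Sp S) (a : Xk ⟶ X) (b : Xk ⟶ (yon S).obj k.pt),
      IsPullback a b f k.toHom → IsLocNoethSp Xk) :
    ∀ (k : FieldPt Y') (Xk : Sp S) (a : Xk ⟶ X') (b : Xk ⟶ (yon S).obj k.pt),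
      IsPullback a b f' k.toHom → IsLocNoethSp Xk := by
  intro k Xk a b sq
  refine hf (k.map g) Xk (a ≫ g') b ?_
  rw [FieldPt.toHom_map]
  exact sq.paste_horiz hsq

/-- A compatible system of charts for a base change square. -/
theorem exists_chart_baseChange {X Y X' Y' : Sp S} (hX : IsAlgSpace X) (hY : IsAlgSpace Y)
    (hY' : IsAlgSpace Y') (f : X ⟶ Y) (g : Y' ⟶ Y) (g' : X' ⟶ X)
    (f' : X' ⟶ Y') (hsq : IsPullback g' f' f g) :
    ∃ (U V U' V' : Over S) (a : (yon S).obj U ⟶ X) (b : (yon S).obj V ⟶ Y)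
      (a' : (yon S).obj U' ⟶ X') (b' : (yon S).obj V' ⟶ Y')
      (h : U ⟶ V) (h' : U' ⟶ V') (m : U' ⟶ U) (n : V' ⟶ V),
      RepWith @Etale a ∧ RepWith @Etale b ∧ RepWith @Etale a' ∧ RepWith @Surjective a' ∧
      RepWith @Etale b' ∧ a ≫ f = (yon S).map h ≫ b ∧ a' ≫ f' = (yon S).map h' ≫ b' ∧
      b' ≫ g = (yon S).map n ≫ b ∧ a' ≫ g' = (yon S).map m ≫ a ∧
      IsPullback m.left h'.left h.left n.left := by
  obtain ⟨V, b, hbe, hbs⟩ := hY.atlas
  obtain ⟨V', b', n, hb'e, hb's, hn⟩ := exists_chart_lift hY' g b hbe hbs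
  -- the space `X_V`
  obtain ⟨XV, ρ₁, ρ₂, sqX⟩ : ∃ (XV : Sp S) (ρ₁ : XV ⟶ X) (ρ₂ : XV ⟶ (yon S).obj V),
      IsPullback ρ₁ ρ₂ f b := ⟨_, _, _, IsPullback.of_hasPullback _ _⟩
  have hXV : IsAlgSpace XV :=
    isAlgSpace_of_isPullback hY.diag hX (IsAlgSpace.yon_obj V) f b ρ₁ ρ₂ sqX
  have hρ₁e : RepWith @Etale ρ₁ := repWith_of_isPullback @Etale sqX.flip hbe
  obtain ⟨U, a₀, ha₀e, ha₀s⟩ := hXV.atlas
  obtain ⟨h, hh⟩ := (yon S).map_surjective (a₀ ≫ ρ₂)
  -- the space `X'_{V'}`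
  obtain ⟨XV', π₁', π₂', sqX'⟩ : ∃ (XV' : Sp S) (π₁' : XV' ⟶ X') (π₂' : XV' ⟶ (yon S).obj V'),
      IsPullback π₁' π₂' f' b' := ⟨_, _, _, IsPullback.of_hasPullback _ _⟩
  have hπ₁'e : RepWith @Etale π₁' := repWith_of_isPullback @Etale sqX'.flip hb'e
  have hπ₁'s : RepWith @Surjective π₁' := repWith_of_isPullback @Surjective sqX'.flip hb's
  -- the scheme `U'`
  have sqU := IsPullback.of_hasPullback h n
  have sqUy : IsPullback ((yon S).map (pullback.fst h n)) ((yon S).map (pullback.snd h n))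
      ((yon S).map h) ((yon S).map n) := sqU.map (yon S)
  obtain ⟨β₀', hβ1, hβ2, hβP⟩ := exists_strongChart_baseChange f g g' f' hsq b ρ₁ ρ₂ sqX a₀ h hh
    b' n hn (pullback.fst h n) (pullback.snd h n) sqUy π₁' π₂' sqX'
  refine ⟨U, V, pullback h n, V', a₀ ≫ ρ₁, b, β₀' ≫ π₁', b', h, pullback.snd h n,
    pullback.fst h n, n, repWith_comp @Etale ha₀e hρ₁e, hbe,
    repWith_comp @Etale (hβP _ ha₀e) hπ₁'e, repWith_comp @Surjective (hβP _ ha₀s) hπ₁'s, hb'e,
    ?_, ?_, hn, ?_, sqU.map (Over.forget S)⟩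
  · rw [Category.assoc, sqX.w, ← Category.assoc, hh]
  · rw [Category.assoc, sqX'.w, ← Category.assoc, hβ1]
  · rw [hβ2]

set_option maxHeartbeats 800000 in
/-- S10688 core. -/
theorem S10688_main {X Y X' Y' : Sp S} (hX : IsAlgSpace X) (hY : IsAlgSpace Y)
    (hX' : IsAlgSpace X') (hY' : IsAlgSpace Y') (f : X ⟶ Y) (g : Y' ⟶ Y) (g' : X' ⟶ X)
    (f' : X' ⟶ Y') (hsq : IsPullback g' f' f g) (hf : ChartFibNoeth f) (hf' : ChartFibNoeth f')
    (hg : LocP @LocallyOfFiniteType g) (x' : Points X') :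
    (LocPAt (fun h u => Dual3.IsGorensteinAt h u) f (Points.map g' x') →
        LocPAt (fun h u => Dual3.IsGorensteinAt h u) f' x') ∧
      (IsFlatAtMor f (Points.map g' x') → LocPAt (fun h u => Dual3.IsGorensteinAt h u) f' x' →
        LocPAt (fun h u => Dual3.IsGorensteinAt h u) f (Points.map g' x')) ∧
      (IsFlatAtMor g (Points.map f' x') → LocPAt (fun h u => Dual3.IsGorensteinAt h u) f' x' →
        LocPAt (fun h u => Dual3.IsGorensteinAt h u) f (Points.map g' x')) := by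
  obtain ⟨U, V, U', V', a, b, a', b', h, h', m, n, hae, hbe, ha'e, ha's, hb'e, hc, hc', hn, hm,
    sqS⟩ := exists_chart_baseChange hX hY hY' f g g' f' hsq
  obtain ⟨u', rfl⟩ := surjective_ofPt a' ha's x'
  have hpt1 : Points.map g' (Points.ofPt a' u') = Points.ofPt a (m.left u') := by
    rw [Points.map_ofPt, hm, ofPt_yon_map_comp]
  have hpt2 : Points.map f' (Points.ofPt a' u') = Points.ofPt b' (h'.left u') := by
    rw [Points.map_ofPt, hc', ofPt_yon_map_comp]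
  haveI : LocallyOfFiniteType n.left := hg b' b n hb'e hbe hn
  have key := Groth.Agent.S3625.result U.left V.left U'.left V'.left h.left n.left h'.left m.left
    sqS (hf a b h hae hbe hc) u'
  rw [hpt1, hpt2, locPAt_gor_iff_chart hX hY f hf a b h hae hbe hc (m.left u'),
    locPAt_gor_iff_chart hX' hY' f' hf' a' b' h' ha'e hb'e hc' u',
    isFlatAtMor_iff_chart hX hY f a b h hae hbe hc (m.left u'),
    isFlatAtMor_iff_chart hY' hY g b' b n hb'e hbe hn (h'.left u')]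
  exact key

end Groth.Agent.Helper2.GorSp
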