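import Mathlib
import Groth.Agent.Lib.Helper2.AlgSp.GorChart
import Groth.Agent.Lib.Helper2.AlgSp.FlatFibresSp

/-!
# Gorenstein morphisms of algebraic spaces: composition (helper2)
-/

set_option autoImplicit false
set_option linter.style.haveILetI false

open CategoryTheory CategoryTheory.Limits AlgebraicGeometry Opposite AlgSp

universe u

namespace Groth.Agent.Helper2.GorSp

open Groth.Agent.Helper2.AlgSpBasic Groth.Agent.Helper2.FlatPt Groth.Agent.Helper2.GorSch
open Groth.Agent.Helper2.FlatFibresSp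

variable {S : Scheme.{u}}

/-- S10687 core. -/
theorem S10687_main {X Y Z : Sp S} (hX : IsAlgSpace X) (hY : IsAlgSpace Y) (hZ : IsAlgSpace Z)
    (f : X ⟶ Y) (g : Y ⟶ Z) (hf : ChartFibNoeth f) (hg : ChartFibNoeth g)
    (hfg : ChartFibNoeth (f ≫ g)) (x : Points X) :
    (LocPAt (fun h u => Dual3.IsGorensteinAt h u) f x →
        LocPAt (fun h u => Dual3.IsGorensteinAt h u) g (Points.map f x) →
        LocPAt (fun h u => Dual3.IsGorensteinAt h u) (f ≫ g) x) ∧
      (LocPAt (fun h u => Dual3.IsGorensteinAt h u) (f ≫ g) x → IsFlatAtMor f x →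
        LocPAt (fun h u => Dual3.IsGorensteinAt h u) f x ∧
          LocPAt (fun h u => Dual3.IsGorensteinAt h u) g (Points.map f x)) := by
  obtain ⟨T⟩ := exists_tower hX hY hZ f g
  obtain ⟨u, rfl⟩ := surjective_ofPt T.a T.has x
  have hcac : T.a ≫ (f ≫ g) = (yon S).map (T.k₁ ≫ T.k₂) ≫ T.c := T.comm_ac
  have hpt : Points.map f (Points.ofPt T.a u) = Points.ofPt T.b (T.k₁.left u) := by
    rw [Points.map_ofPt, T.comm_a, ofPt_yon_map_comp]
  have key := Groth.Agent.S3627.result T.U.left T.V.left T.W.left T.k₁.left T.k₂.left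
    (hf T.a T.b T.k₁ T.hae T.hbe T.comm_a) (hg T.b T.c T.k₂ T.hbe T.hce T.comm_b)
    (by rw [← Over.comp_left]; exact hfg T.a T.c (T.k₁ ≫ T.k₂) T.hae T.hce hcac) u
  rw [hpt, locPAt_gor_iff_chart hX hY f hf T.a T.b T.k₁ T.hae T.hbe T.comm_a u,
    locPAt_gor_iff_chart hY hZ g hg T.b T.c T.k₂ T.hbe T.hce T.comm_b (T.k₁.left u),
    locPAt_gor_iff_chart hX hZ (f ≫ g) hfg T.a T.c (T.k₁ ≫ T.k₂) T.hae T.hce hcac u,
    isFlatAtMor_iff_chart hX hY f T.a T.b T.k₁ T.hae T.hbe T.comm_a u, Over.comp_left]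
  exact key

end Groth.Agent.Helper2.GorSp
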