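import Mathlib
import Groth.Agent.Lib.Helper2.AlgSp.FlatLocusSp
import Groth.Agent.Lib.Helper2.AlgSp.LargestOpen

/-!
# Where a morphism over a base becomes flat (and surjective) (helper2)
-/

set_option autoImplicit false
set_option linter.style.haveILetI false

open CategoryTheory CategoryTheory.Limits AlgebraicGeometry Opposite AlgSp

universe u

namespace Groth.Agent.Helper2.WhereFlat

open Groth.Agent.Helper2.AlgSpBasic Groth.Agent.Helper2.FlatPt Groth.Agent.Helper2.FlatFibresSp

variable {S : Scheme.{u}}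

/-- Flatness is flatness at all points. -/
theorem locP_flat_iff_forall {X Y : Sp S} (f : X ⟶ Y) :
    LocP @Flat f ↔ ∀ x : Points X, IsFlatAtMor f x := by
  constructor
  · intro hf x U V a b k u ha hb hc _
    haveI : Flat k.left := hf a b k ha hb hc
    exact Flat.stalkMap k.left u
  · intro h U V a b k ha hb hc
    rw [Flat.iff_flat_stalkMap]
    intro u
    exact h (Points.ofPt a u) a b k u ha hb hc rfl

/-- The open set of the base over which `f` is flat. -/
def flatBase {X Y Z : Sp S} (f : X ⟶ Y) (q : Y ⟶ Z) : Set (Points Z) :=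
  (Points.map (f ≫ q) '' {x : Points X | IsFlatAtMor f x}ᶜ)ᶜ

theorem isOpen_flatBase {X Y Z : Sp S} (hX : IsAlgSpace X) (hY : IsAlgSpace Y) (hZ : IsAlgSpace Z)
    (f : X ⟶ Y) (q : Y ⟶ Z)
    (hfp : LocP @LocallyOfFinitePresentation (f ≫ q)) (hfl : LocP @Flat (f ≫ q))
    (hcl : IsClosedMor (f ≫ q)) (hft : LocP @LocallyOfFiniteType q) :
    IsOpen (flatBase f q) := by
  have h1 := (flatLocus_main hX hY hZ f q hfp hfl hft).1
  exact (hcl _ h1.isClosed_compl).isOpen_compl

theorem mem_flatBase_iff {X Y Z : Sp S} (f : X ⟶ Y) (q : Y ⟶ Z) (z : Points Z) :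
    z ∈ flatBase f q ↔ ∀ x : Points X, Points.map (f ≫ q) x = z → IsFlatAtMor f x := by
  constructor
  · intro hz x hx
    by_contra hn
    exact hz ⟨x, hn, hx⟩
  · rintro h ⟨x, hxn, hx⟩
    exact hxn (h x hx)

theorem where_flat_main {X Y Z : Sp S} (hX : IsAlgSpace X) (hY : IsAlgSpace Y) (hZ : IsAlgSpace Z)
    (f : X ⟶ Y) (q : Y ⟶ Z)
    (hfp : LocP @LocallyOfFinitePresentation (f ≫ q)) (hfl : LocP @Flat (f ≫ q))
    (hft : LocP @LocallyOfFiniteType q)
    {Z' : Sp S} (hZ' : IsAlgSpace Z') (g : Z' ⟶ Z) :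
    (∀ z' : Points Z', Points.map g z' ∈ flatBase f q) ↔
      ∀ (Y' : Sp S) (gY : Y' ⟶ Y) (q' : Y' ⟶ Z'), IsAlgSpace Y' → IsPullback gY q' q g →
        ∀ (X' : Sp S) (gX : X' ⟶ X) (f' : X' ⟶ Y'), IsAlgSpace X' → IsPullback gX f' f gY →
          LocP @Flat f' := by
  have hmain := (flatLocus_main hX hY hZ f q hfp hfl hft).2
  constructor
  · intro hg Y' gY q' hY' sqY X' gX f' hX' sqX
    rw [locP_flat_iff_forall]
    intro x'
    have h2 := hmain X' Y' Z' hX' hY' hZ' g f' q' gX gY sqY sqX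
    have h3 : x' ∈ Points.map gX ⁻¹' {x : Points X | IsFlatAtMor f x} := by
      show IsFlatAtMor f (Points.map gX x')
      refine (mem_flatBase_iff f q _).mp (hg (Points.map q' (Points.map f' x'))) _ ?_
      rw [← Points.map_comp, ← Points.map_comp, ← Points.map_comp]
      congr 1
      rw [← Category.assoc, sqX.w, Category.assoc, sqY.w]
    rw [← h2] at h3
    exact h3
  · intro h z'
    rw [mem_flatBase_iff]
    intro x hx
    have sqY := IsPullback.of_hasPullback q g
    have hY' : IsAlgSpace (pullback q g) :=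
      isAlgSpace_of_isPullback hZ.diag hY hZ' q g _ _ sqY
    have sqX := IsPullback.of_hasPullback f (pullback.fst q g)
    have hX' : IsAlgSpace (pullback f (pullback.fst q g)) :=
      isAlgSpace_of_isPullback hY.diag hX hY' f (pullback.fst q g) _ _ sqX
    have hfl' := h _ _ _ hY' sqY _ _ _ hX' sqX
    have h2 := hmain _ _ Z' hX' hY' hZ' g _ _ _ _ sqY sqX
    have sqP : IsPullback (pullback.fst f (pullback.fst q g))
        (pullback.snd f (pullback.fst q g) ≫ pullback.snd q g) (f ≫ q) g :=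
      sqX.paste_vert sqY
    obtain ⟨x', hx'1, hx'2⟩ := points_exists_of_isPullback g (f ≫ q) _ _ sqP x z' hx
    have h3 : x' ∈ {x' | IsFlatAtMor (pullback.snd f (pullback.fst q g)) x'} :=
      (locP_flat_iff_forall _).mp hfl' x'
    rw [h2] at h3
    have h4 : IsFlatAtMor f (Points.map (pullback.fst f (pullback.fst q g)) x') := h3
    rw [hx'1] at h4
    exact h4

end Groth.Agent.Helper2.WhereFlat

namespace Groth.Agent.Helper2.WhereFlat

open Groth.Agent.Helper2.AlgSpBasic Groth.Agent.Helper2.FlatPt Groth.Agent.Helper2.FlatFibresSp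

variable {S : Scheme.{u}}

/-- The image of the flat locus is open. -/
theorem isOpen_image_flatLocus {X Y Z : Sp S} (hX : IsAlgSpace X) (hY : IsAlgSpace Y)
    (hZ : IsAlgSpace Z) (f : X ⟶ Y) (q : Y ⟶ Z)
    (hfp : LocP @LocallyOfFinitePresentation (f ≫ q)) (hfl : LocP @Flat (f ≫ q))
    (hft : LocP @LocallyOfFiniteType q) :
    IsOpen (Points.map f '' {x : Points X | IsFlatAtMor f x}) := by
  have hU := (flatLocus_main hX hY hZ f q hfp hfl hft).1
  have hXU : IsAlgSpace (openSub X {x : Points X | IsFlatAtMor f x}) := isAlgSpace_openSub hX hU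
  have hιe : RepWith @Etale (openSubι X {x : Points X | IsFlatAtMor f x}) :=
    repWith_isOpenImmersion_le_etale (repWith_isOpenImmersion_openSubι X hU)
  have hflp : LocP @LocallyOfFinitePresentation f := by
    refine locP_of_comp' @LocallyOfFinitePresentation @LocallyOfFiniteType ?_ hX hY hZ f q hfp hft
    intro A B C x y hxy hy
    haveI := hxy
    haveI := hy
    exact Groth.Agent.Lead.CritFib.locallyOfFinitePresentation_of_comp x y
  have h1 : LocP @LocallyOfFinitePresentation (openSubι X {x : Points X | IsFlatAtMor f x} ≫ f) := by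
    intro U' V' a b k ha hb hc
    refine hflp (a ≫ openSubι X _) b k (repWith_comp @Etale ha hιe) hb ?_
    rw [Category.assoc]; exact hc
  have h2 : LocP @Flat (openSubι X {x : Points X | IsFlatAtMor f x} ≫ f) := by
    intro U' V' a b k ha hb hc
    rw [Flat.iff_flat_stalkMap]
    intro u
    have hmem : IsFlatAtMor f (Points.ofPt (a ≫ openSubι X {x : Points X | IsFlatAtMor f x}) u) := by
      rw [← Points.map_ofPt]
      exact points_map_openSubι_mem X {x : Points X | IsFlatAtMor f x} _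
    refine hmem (a ≫ openSubι X _) b k u (repWith_comp @Etale ha hιe) hb ?_ rfl
    rw [Category.assoc]; exact hc
  have h3 := isOpenMap_points_of_flat_lfp hXU hY _ h2 h1
  have h4 := h3.isOpen_range
  have h5 : Set.range (Points.map (openSubι X {x : Points X | IsFlatAtMor f x} ≫ f)) =
      Points.map f '' {x : Points X | IsFlatAtMor f x} := by
    ext y
    constructor
    · rintro ⟨p, rfl⟩
      rw [Points.map_comp]
      exact ⟨_, points_map_openSubι_mem X _ p, rfl⟩
    · rintro ⟨x, hx, rfl⟩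
      have hx' : x ∈ Set.range (Points.map (openSubι X {x : Points X | IsFlatAtMor f x})) := by
        rw [range_points_map_openSubι]; exact hx
      obtain ⟨p, rfl⟩ := hx'
      exact ⟨p, by rw [Points.map_comp]⟩
  rw [h5] at h4
  exact h4

/-- The open set of the base over which `f` is flat and surjective. -/
def surjFlatBase {X Y Z : Sp S} (f : X ⟶ Y) (q : Y ⟶ Z) : Set (Points Z) :=
  flatBase f q ∩ (Points.map q '' (Points.map f '' {x : Points X | IsFlatAtMor f x})ᶜ)ᶜ

theorem isOpen_surjFlatBase {X Y Z : Sp S} (hX : IsAlgSpace X) (hY : IsAlgSpace Y)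
    (hZ : IsAlgSpace Z) (f : X ⟶ Y) (q : Y ⟶ Z)
    (hfp : LocP @LocallyOfFinitePresentation (f ≫ q)) (hfl : LocP @Flat (f ≫ q))
    (hcl : IsClosedMor (f ≫ q)) (hft : LocP @LocallyOfFiniteType q) (hqc : IsClosedMor q) :
    IsOpen (surjFlatBase f q) := by
  refine (isOpen_flatBase hX hY hZ f q hfp hfl hcl hft).inter ?_
  exact (hqc _ (isOpen_image_flatLocus hX hY hZ f q hfp hfl hft).isClosed_compl).isOpen_compl

theorem where_surj_flat_main {X Y Z : Sp S} (hX : IsAlgSpace X) (hY : IsAlgSpace Y)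
    (hZ : IsAlgSpace Z) (f : X ⟶ Y) (q : Y ⟶ Z)
    (hfp : LocP @LocallyOfFinitePresentation (f ≫ q)) (hfl : LocP @Flat (f ≫ q))
    (hft : LocP @LocallyOfFiniteType q)
    {Z' : Sp S} (hZ' : IsAlgSpace Z') (g : Z' ⟶ Z) :
    (∀ z' : Points Z', Points.map g z' ∈ surjFlatBase f q) ↔
      ∀ (Y' : Sp S) (gY : Y' ⟶ Y) (q' : Y' ⟶ Z'), IsAlgSpace Y' → IsPullback gY q' q g →
        ∀ (X' : Sp S) (gX : X' ⟶ X) (f' : X' ⟶ Y'), IsAlgSpace X' → IsPullback gX f' f gY →
          (IsSurjectiveMor f' ∧ LocP @Flat f') := by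
  have hmain := where_flat_main hX hY hZ f q hfp hfl hft hZ' g
  constructor
  · intro hg Y' gY q' hY' sqY X' gX f' hX' sqX
    refine ⟨?_, hmain.mp (fun z' => (hg z').1) Y' gY q' hY' sqY X' gX f' hX' sqX⟩
    intro y'
    have h1 := (hg (Points.map q' y')).2
    have h2 : Points.map gY y' ∈ Points.map f '' {x : Points X | IsFlatAtMor f x} := by
      by_contra hn
      apply h1
      refine ⟨Points.map gY y', hn, ?_⟩
      rw [← Points.map_comp, ← Points.map_comp, sqY.w]
    obtain ⟨x, _, hx⟩ := h2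
    obtain ⟨x', hx'1, hx'2⟩ := points_exists_of_isPullback f gY f' gX sqX.flip y' x hx.symm
    exact ⟨x', hx'1⟩
  · intro h z'
    have sqY := IsPullback.of_hasPullback q g
    have hY' : IsAlgSpace (pullback q g) :=
      isAlgSpace_of_isPullback hZ.diag hY hZ' q g _ _ sqY
    have sqX := IsPullback.of_hasPullback f (pullback.fst q g)
    have hX' : IsAlgSpace (pullback f (pullback.fst q g)) :=
      isAlgSpace_of_isPullback hY.diag hX hY' f (pullback.fst q g) _ _ sqX
    have hfb : ∀ z' : Points Z', Points.map g z' ∈ flatBase f q :=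
      hmain.mpr (fun Y' gY q' hY' sqY X' gX f' hX' sqX => (h Y' gY q' hY' sqY X' gX f' hX' sqX).2)
    refine ⟨hfb z', ?_⟩
    rintro ⟨y, hy, hyz⟩
    apply hy
    obtain ⟨hsurj, -⟩ := h _ _ _ hY' sqY _ _ _ hX' sqX
    obtain ⟨y', hy'1, hy'2⟩ := points_exists_of_isPullback g q _ _ sqY y z' hyz
    obtain ⟨x', rfl⟩ := hsurj y'
    refine ⟨Points.map (pullback.fst f (pullback.fst q g)) x', ?_, ?_⟩
    · refine (mem_flatBase_iff f q _).mp (hfb z') _ ?_
      rw [← hy'2, ← Points.map_comp, ← Points.map_comp, ← Points.map_comp]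
      congr 1
      rw [← Category.assoc, sqX.w, Category.assoc, sqY.w]
    · rw [← hy'1, ← Points.map_comp, ← Points.map_comp, sqX.w]

end Groth.Agent.Helper2.WhereFlat
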