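import Mathlib
import Groth.Agent.Lib.Helper2.AlgSp.GorChart
import Groth.Agent.Lib.Helper2.AlgSp.WhereFlat
import Groth.Agent.Lib.Helper2.Sch.GorEtale2
import Groth.Agent.Lib.Helper3.FibStalk5

/-!
# Gorenstein morphisms of algebraic spaces: fibres (helper2)
-/

set_option autoImplicit false
set_option linter.style.haveILetI false

open CategoryTheory CategoryTheory.Limits AlgebraicGeometry Opposite AlgSp

universe u

namespace Groth.Agent.Helper2.GorSp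

open Groth.Agent.Helper2.AlgSpBasic Groth.Agent.Helper2.FlatPt Groth.Agent.Helper2.GorSch
open Groth.Agent.Helper2.FlatFibresSp

variable {S : Scheme.{u}}

set_option maxHeartbeats 800000 in
/-- The fibre of a chart of `X ×_Y V` over a point `v` of `V` is a chart of the fibre of `f`. -/
theorem exists_fibre_chart {X Y : Sp S} (f : X ⟶ Y) {U V : Over S} (b : (yon S).obj V ⟶ Y)
    {XV : Sp S} (ρ₁ : XV ⟶ X) (ρ₂ : XV ⟶ (yon S).obj V) (sqX : IsPullback ρ₁ ρ₂ f b)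
    (a₀ : (yon S).obj U ⟶ XV) (h : U ⟶ V) (hh : (yon S).map h = a₀ ≫ ρ₂) (v : ↥V.left)
    {Xv : Sp S} (p₁ : Xv ⟶ X)
    (p₂ : Xv ⟶ (yon S).obj (Over.mk (V.left.fromSpecResidueField v ≫ V.hom)))
    (sqv : IsPullback p₁ p₂ f ((yon S).map (Over.homMk (V.left.fromSpecResidueField v) rfl :
      Over.mk (V.left.fromSpecResidueField v ≫ V.hom) ⟶ V) ≫ b)) :
    ∃ θ : (yon S).obj (Over.mk (h.left.fiberι v ≫ U.hom)) ⟶ Xv,
      ∀ P : MorphismProperty Scheme.{u}, RepWith P a₀ → RepWith P θ := by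
  obtain ⟨ιO, hιO⟩ : ∃ ιO : Over.mk (V.left.fromSpecResidueField v ≫ V.hom) ⟶ V,
      ιO = Over.homMk (V.left.fromSpecResidueField v) rfl := ⟨_, rfl⟩
  rw [← hιO] at sqv
  -- `X_v = X_V ×_V Spec κ(v)`
  have hψc : p₁ ≫ f = (p₂ ≫ (yon S).map ιO) ≫ b := by rw [Category.assoc]; exact sqv.w
  obtain ⟨ψ, hψ⟩ : ∃ ψ, ψ = sqX.lift p₁ (p₂ ≫ (yon S).map ιO) hψc := ⟨_, rfl⟩
  have hψ1 : ψ ≫ ρ₁ = p₁ := by rw [hψ, sqX.lift_fst]
  have hψ2 : ψ ≫ ρ₂ = p₂ ≫ (yon S).map ιO := by rw [hψ, sqX.lift_snd]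
  have sqψ : IsPullback ψ p₂ ρ₂ ((yon S).map ιO) := by
    refine IsPullback.of_right ?_ hψ2 sqX
    rw [hψ1]
    exact sqv
  -- the fibre of `U`
  have hτw : h.left.fiberToSpecResidueField v ≫ V.left.fromSpecResidueField v ≫ V.hom =
      h.left.fiberι v ≫ U.hom := by
    rw [← Category.assoc, ← h.left.fiber_fac v, Category.assoc, Over.w h]
  obtain ⟨jU, hjU⟩ : ∃ jU : Over.mk (h.left.fiberι v ≫ U.hom) ⟶ U,
      jU = Over.homMk (h.left.fiberι v) rfl := ⟨_, rfl⟩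
  obtain ⟨τ, hτ⟩ : ∃ τ : Over.mk (h.left.fiberι v ≫ U.hom) ⟶
      Over.mk (V.left.fromSpecResidueField v ≫ V.hom),
      τ = Over.homMk (h.left.fiberToSpecResidueField v) hτw := ⟨_, rfl⟩
  have sqUv : IsPullback ((yon S).map jU) ((yon S).map τ) ((yon S).map h) ((yon S).map ιO) := by
    refine yon_isPullback_of_left jU τ h ιO ?_
    rw [hjU, hτ, hιO]
    exact IsPullback.of_hasPullback h.left (V.left.fromSpecResidueField v)
  have hθc : ((yon S).map jU ≫ a₀) ≫ ρ₂ = (yon S).map τ ≫ (yon S).map ιO := by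
    rw [Category.assoc, ← hh, sqUv.w]
  obtain ⟨θ, hθ⟩ : ∃ θ, θ = sqψ.lift ((yon S).map jU ≫ a₀) ((yon S).map τ) hθc := ⟨_, rfl⟩
  have hθ1 : θ ≫ ψ = (yon S).map jU ≫ a₀ := by rw [hθ, sqψ.lift_fst]
  have hθ2 : θ ≫ p₂ = (yon S).map τ := by rw [hθ, sqψ.lift_snd]
  have sqθ : IsPullback θ ((yon S).map jU) ψ a₀ := by
    refine IsPullback.of_right ?_ hθ1 sqψ.flip
    rw [hθ2, ← hh]
    exact sqUv.flip
  exact ⟨θ, fun P hP => repWith_of_isPullback P sqθ.flip hP⟩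

/-- (1) ⟹ (3) of S10690. -/
theorem gor_fibres_of_gor {X Y : Sp S} (hX : IsAlgSpace X) (hY : IsAlgSpace Y) (f : X ⟶ Y)
    (hfib : ChartFibNoeth f)
    (h1 : ∀ x : Points X, LocPAt (fun h u => Dual3.IsGorensteinAt h u) f x)
    (V : Over S) (b : (yon S).obj V ⟶ Y) (hb : RepWith @Etale b) (v : ↥V.left) (Xv : Sp S)
    (p₁ : Xv ⟶ X) (p₂ : Xv ⟶ (yon S).obj (Over.mk (V.left.fromSpecResidueField v ≫ V.hom)))
    (sqv : IsPullback p₁ p₂ f ((yon S).map (Over.homMk (V.left.fromSpecResidueField v) rfl :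
      Over.mk (V.left.fromSpecResidueField v ≫ V.hom) ⟶ V) ≫ b)) :
    EtaleLocally Dual3.IsGorenstein Xv := by
  obtain ⟨XV, ρ₁, ρ₂, sqX⟩ : ∃ (XV : Sp S) (ρ₁ : XV ⟶ X) (ρ₂ : XV ⟶ (yon S).obj V),
      IsPullback ρ₁ ρ₂ f b := ⟨_, _, _, IsPullback.of_hasPullback _ _⟩
  have hXV : IsAlgSpace XV :=
    isAlgSpace_of_isPullback hY.diag hX (IsAlgSpace.yon_obj V) f b ρ₁ ρ₂ sqX
  have hρ₁e : RepWith @Etale ρ₁ := repWith_of_isPullback @Etale sqX.flip hb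
  obtain ⟨U, a₀, ha₀e, ha₀s⟩ := hXV.atlas
  obtain ⟨h, hh⟩ := (yon S).map_surjective (a₀ ≫ ρ₂)
  have hae : RepWith @Etale (a₀ ≫ ρ₁) := repWith_comp @Etale ha₀e hρ₁e
  have hc : (a₀ ≫ ρ₁) ≫ f = (yon S).map h ≫ b := by
    rw [Category.assoc, sqX.w, ← Category.assoc, hh]
  obtain ⟨θ, hθ⟩ := exists_fibre_chart f b ρ₁ ρ₂ sqX a₀ h hh v p₁ p₂ sqv
  refine ⟨Over.mk (h.left.fiberι v ≫ U.hom), θ, hθ _ ha₀e, hθ _ ha₀s,
    hfib _ b h hae hb hc v, fun z => ?_⟩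
  have hG := (h1 (Points.ofPt (a₀ ≫ ρ₁) (h.left.fiberι v z)) (a₀ ≫ ρ₁) b h
    (h.left.fiberι v z) hae hb hc rfl).2
  exact (Groth.Agent.Helper3.FibStalk.gor_fiber_congr h.left
    (h.left.asFiber (h.left.fiberι v z)) z (h.left.fiberι_asFiber _)).mp hG

set_option maxHeartbeats 800000 in
/-- (2) ⟹ (1) of S10690. -/
theorem gor_of_gor_fibres {X Y : Sp S} (hX : IsAlgSpace X) (hY : IsAlgSpace Y) (f : X ⟶ Y)
    (hfib : ChartFibNoeth f) (hfl : LocP @Flat f)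
    (V : Over S) (b : (yon S).obj V ⟶ Y) (hbe : RepWith @Etale b) (hbs : RepWith @Surjective b)
    (hG : ∀ (v : ↥V.left) (Xv : Sp S) (p₁ : Xv ⟶ X)
      (p₂ : Xv ⟶ (yon S).obj (Over.mk (V.left.fromSpecResidueField v ≫ V.hom))),
      IsPullback p₁ p₂ f ((yon S).map (Over.homMk (V.left.fromSpecResidueField v) rfl :
        Over.mk (V.left.fromSpecResidueField v ≫ V.hom) ⟶ V) ≫ b) →
      EtaleLocally Dual3.IsGorenstein Xv) (x : Points X) :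
    LocPAt (fun h u => Dual3.IsGorensteinAt h u) f x := by
  obtain ⟨XV, ρ₁, ρ₂, sqX⟩ : ∃ (XV : Sp S) (ρ₁ : XV ⟶ X) (ρ₂ : XV ⟶ (yon S).obj V),
      IsPullback ρ₁ ρ₂ f b := ⟨_, _, _, IsPullback.of_hasPullback _ _⟩
  have hXV : IsAlgSpace XV :=
    isAlgSpace_of_isPullback hY.diag hX (IsAlgSpace.yon_obj V) f b ρ₁ ρ₂ sqX
  have hρ₁e : RepWith @Etale ρ₁ := repWith_of_isPullback @Etale sqX.flip hbe
  have hρ₁s : RepWith @Surjective ρ₁ := repWith_of_isPullback @Surjective sqX.flip hbs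
  obtain ⟨U, a₀, ha₀e, ha₀s⟩ := hXV.atlas
  obtain ⟨h, hh⟩ := (yon S).map_surjective (a₀ ≫ ρ₂)
  have hae : RepWith @Etale (a₀ ≫ ρ₁) := repWith_comp @Etale ha₀e hρ₁e
  have has : RepWith @Surjective (a₀ ≫ ρ₁) := repWith_comp @Surjective ha₀s hρ₁s
  have hc : (a₀ ≫ ρ₁) ≫ f = (yon S).map h ≫ b := by
    rw [Category.assoc, sqX.w, ← Category.assoc, hh]
  obtain ⟨u, rfl⟩ := surjective_ofPt (a₀ ≫ ρ₁) has x
  rw [locPAt_gor_iff_chart hX hY f hfib (a₀ ≫ ρ₁) b h hae hbe hc u]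
  haveI : Flat h.left := hfl _ b h hae hbe hc
  refine ⟨Flat.stalkMap h.left u, ?_⟩
  -- the fibres of `h`
  have hUv : ∀ v : ↥V.left, Dual3.IsGorenstein (h.left.fiber v) := by
    intro v
    have sqv := IsPullback.of_hasPullback f
      ((yon S).map (Over.homMk (V.left.fromSpecResidueField v) rfl :
        Over.mk (V.left.fromSpecResidueField v ≫ V.hom) ⟶ V) ≫ b)
    obtain ⟨U₀, p₀, hp₀e, hp₀s, hU₀⟩ := hG v _ _ _ sqv
    have hXv : IsAlgSpace (pullback f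
        ((yon S).map (Over.homMk (V.left.fromSpecResidueField v) rfl :
          Over.mk (V.left.fromSpecResidueField v ≫ V.hom) ⟶ V) ≫ b)) :=
      isAlgSpace_of_isPullback hY.diag hX (IsAlgSpace.yon_obj _) f _ _ _ sqv
    obtain ⟨θ, hθ⟩ := exists_fibre_chart f b ρ₁ ρ₂ sqX a₀ h hh v _ _ sqv
    have hθe : RepWith @Etale θ := hθ _ ha₀e
    obtain ⟨W, w₁, w₂, sqW⟩ := exists_isPullback_yon hXv.diag θ p₀
    haveI hw₁e : Etale w₁.left := hp₀e.property θ _ _ sqW.flip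
    haveI hw₁s : Surjective w₁.left := hp₀s.property θ _ _ sqW.flip
    haveI hw₂e : Etale w₂.left := hθe.property p₀ _ _ sqW
    have hW : Dual3.IsGorenstein W.left := isGorenstein_of_etale w₂.left hU₀
    haveI : IsLocallyNoetherian (h.left.fiber v) := hfib _ b h hae hbe hc v
    exact isGorenstein_of_flat_surjective
      (w₁.left : W.left ⟶ (Over.mk (h.left.fiberι v ≫ U.hom)).left) hW
  exact (hUv (h.left u)).2 _

end Groth.Agent.Helper2.GorSp
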