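import Mathlib
import Groth.Agent.Lib.Helper2.AlgSp.GorChart
import Groth.Agent.Lib.Helper2.Ring.SHensGor

/-!
# Gorenstein morphisms of algebraic spaces and strict henselizations (helper2)
-/

set_option autoImplicit false
set_option linter.style.haveILetI false

open CategoryTheory CategoryTheory.Limits AlgebraicGeometry Opposite AlgSp

universe u

namespace Groth.Agent.Helper2.GorSp

open Groth.Agent.Helper2.AlgSpBasic

variable {S : Scheme.{u}}

set_option maxHeartbeats 800000 in
/-- S10693 core. -/
theorem S10693_main {X Y : Sp S} (hX : IsAlgSpace X) (hY : IsAlgSpace Y) (f : X ⟶ Y)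
    (hfib : ChartFibNoeth f) (x : Points X) {U V : Over S} (a : (yon S).obj U ⟶ X)
    (b : (yon S).obj V ⟶ Y) (h : U ⟶ V) (ha : RepWith @Etale a) (hb : RepWith @Etale b)
    (hc : a ≫ f = (yon S).map h ≫ b) (u : ↥U.left) (hu : Points.ofPt a u = x)
    (R : Type u) [CommRing R] [IsLocalRing R] [Algebra ↥(U.left.presheaf.stalk u) R]
    [IsLocalHom (algebraMap ↥(U.left.presheaf.stalk u) R)]
    [Hensel.IsStrictHenselization ↥(U.left.presheaf.stalk u) R]
    (R' : Type u) [CommRing R'] [IsLocalRing R'] [Algebra ↥(V.left.presheaf.stalk (h.left u)) R']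
    [IsLocalHom (algebraMap ↥(V.left.presheaf.stalk (h.left u)) R')]
    [Hensel.IsStrictHenselization ↥(V.left.presheaf.stalk (h.left u)) R']
    (φ : R' →+* R) [IsLocalHom φ]
    (hφ : φ.comp (algebraMap ↥(V.left.presheaf.stalk (h.left u)) R') =
      (algebraMap ↥(U.left.presheaf.stalk u) R).comp (h.left.stalkMap u).hom) :
    LocPAt (fun h u => Dual3.IsGorensteinAt h u) f x ↔
      φ.Flat ∧ LocCoh.IsGorensteinLocalRing (R ⧸ (IsLocalRing.maximalIdeal R').map φ) := by
  subst hu
  rw [locPAt_gor_iff_chart hX hY f hfib a b h ha hb hc u]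
  haveI : IsLocallyNoetherian (h.left.fiber (h.left u)) := hfib a b h ha hb hc (h.left u)
  obtain ⟨γ, hγ, hk⟩ := Groth.Agent.Helper3.FibStalk.exists_fibre_presentation h.left u
  have h1 := Groth.Agent.Helper2.SHensFlat.flat_iff_strictHenselization
    (h.left.stalkMap u).hom R' R φ hφ
  have h2 := Groth.Agent.Helper2.SHensGor.gor_fibre_iff_strictHenselization
    (h.left.stalkMap u).hom R γ hγ hk ((IsLocalRing.maximalIdeal R').map φ) (by
      rw [← Groth.Agent.Helper7.SHens.map_maximalIdeal_of_isStrictHenselization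
        (V.left.presheaf.stalk (h.left u)) R', Ideal.map_map, hφ])
  exact and_congr h1 h2

end Groth.Agent.Helper2.GorSp
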