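import Mathlib
import Groth.Agent.Lib.Helper2.AlgSp.GorFibre
import Groth.Agent.Lib.Helper7.SHens.Abstract
import Groth.Agent.Lib.Helper7.SHens.Noeth
import Groth.Agent.Lib.Helper8.GorFlat10

/-!
# Flat morphisms out of Gorenstein algebraic spaces (helper2)
-/

set_option autoImplicit false
set_option linter.style.haveILetI false

open CategoryTheory CategoryTheory.Limits AlgebraicGeometry Opposite AlgSp

universe u

namespace Groth.Agent.Helper2.GorSp

open Groth.Agent.Helper2.AlgSpBasic Groth.Agent.Helper2.FlatPt Groth.Agent.Helper2.GorSch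
open Groth.Agent.Helper2.FlatFibresSp

/-- A strict henselization of a Gorenstein local ring is Gorenstein. -/
theorem isGorensteinLocalRing_of_isStrictHenselization (A : Type u) [CommRing A] [IsLocalRing A]
    (R : Type u) [CommRing R] [IsLocalRing R] [Algebra A R] [IsLocalHom (algebraMap A R)]
    [Hensel.IsStrictHenselization A R] (hA : LocCoh.IsGorensteinLocalRing A) :
    LocCoh.IsGorensteinLocalRing R := by
  haveI := hA
  haveI : IsNoetherianRing A := inferInstance
  haveI : IsNoetherianRing R :=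
    (Groth.Agent.Helper7.SHens.isNoetherianRing_iff_of_isStrictHenselization A R).mp inferInstance
  have hflat : Module.Flat A R := Groth.Agent.Helper7.SHens.flat_of_isStrictHenselization A R
  have D : Groth.Agent.Helper8.GorFlat.FLData (algebraMap A R) (IsLocalRing.residue R) :=
    ⟨RingHom.flat_algebraMap_iff.mpr hflat, inferInstance, IsLocalRing.residue_surjective,
      by rw [IsLocalRing.ker_residue,
        Groth.Agent.Helper7.SHens.map_maximalIdeal_of_isStrictHenselization A R]⟩
  exact (Groth.Agent.Helper8.GorFlat.iff_of_flData D).mpr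
    ⟨hA, isGorensteinLocalRing_of_isField (Field.toIsField _)⟩

variable {S : Scheme.{u}}

/-- Every scheme etale over a locally Noetherian, etale locally Gorenstein algebraic space is
Gorenstein. -/
theorem isGorenstein_of_etale_chart {X : Sp S} (hX : IsAlgSpace X) (hN : IsLocNoethSp X)
    (hG : EtaleLocally Dual3.IsGorenstein X) {U : Over S} (a : (yon S).obj U ⟶ X)
    (ha : RepWith @Etale a) : Dual3.IsGorenstein U.left := by
  obtain ⟨U₀, p₀, hp₀e, hp₀s, hU₀⟩ := hG
  obtain ⟨W, w₁, w₂, sqW⟩ := exists_isPullback_yon hX.diag a p₀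
  haveI hw₁e : Etale w₁.left := hp₀e.property a _ _ sqW.flip
  haveI hw₁s : Surjective w₁.left := hp₀s.property a _ _ sqW.flip
  haveI hw₂e : Etale w₂.left := ha.property p₀ _ _ sqW
  have hW : Dual3.IsGorenstein W.left := isGorenstein_of_etale w₂.left hU₀
  haveI : IsLocallyNoetherian U.left := isLocallyNoetherian_of_etale_of_isLocNoethSp hN a ha
  exact isGorenstein_of_flat_surjective w₁.left hW

/-- S10691 core. -/
theorem S10691_main {X Y : Sp S} (hX : IsAlgSpace X) (hY : IsAlgSpace Y) (f : X ⟶ Y)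
    (hf : LocP @Flat f) (hX1 : IsLocNoethSp X) (hY1 : IsLocNoethSp Y)
    (hX2 : EtaleLocally Dual3.IsGorenstein X) :
    (∀ x : Points X, LocPAt (fun h u => Dual3.IsGorensteinAt h u) f x) ∧
      ∀ (x : Points X) (V : Over S) (b : (yon S).obj V ⟶ Y), RepWith @Etale b →
        ∀ (v : ↥V.left), Points.ofPt b v = Points.map f x →
          ∀ (R : Type u) [CommRing R] [IsLocalRing R] [Algebra ↥(V.left.presheaf.stalk v) R]
            [IsLocalHom (algebraMap ↥(V.left.presheaf.stalk v) R)]
            [Hensel.IsStrictHenselization ↥(V.left.presheaf.stalk v) R],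
            LocCoh.IsGorensteinLocalRing R := by
  have key : ∀ ⦃U V : Over S⦄ (a : (yon S).obj U ⟶ X) (b : (yon S).obj V ⟶ Y) (h : U ⟶ V),
      RepWith @Etale a → RepWith @Etale b → a ≫ f = (yon S).map h ≫ b →
      Dual3.IsGorensteinMor h.left ∧
        ∀ u : ↥U.left, LocCoh.IsGorensteinLocalRing (V.left.presheaf.stalk (h.left u)) := by
    intro U V a b h ha hb hc
    haveI : IsLocallyNoetherian V.left := isLocallyNoetherian_of_etale_of_isLocNoethSp hY1 b hb
    haveI : Flat h.left := hf a b h ha hb hc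
    exact Groth.Agent.S3624.result U.left V.left h.left
      (isGorenstein_of_etale_chart hX hX1 hX2 a ha)
  refine ⟨fun x U V a b h u ha hb hc _ => (key a b h ha hb hc).1 u, ?_⟩
  intro x V b hb v hv R _ _ _ _ _
  -- a chart of `X ×_Y V` through a point over `(x, v)`
  obtain ⟨XV, ρ₁, ρ₂, sqX⟩ : ∃ (XV : Sp S) (ρ₁ : XV ⟶ X) (ρ₂ : XV ⟶ (yon S).obj V),
      IsPullback ρ₁ ρ₂ f b := ⟨_, _, _, IsPullback.of_hasPullback _ _⟩
  have hXV : IsAlgSpace XV :=
    isAlgSpace_of_isPullback hY.diag hX (IsAlgSpace.yon_obj V) f b ρ₁ ρ₂ sqX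
  have hρ₁e : RepWith @Etale ρ₁ := repWith_of_isPullback @Etale sqX.flip hb
  obtain ⟨U, a₀, ha₀e, ha₀s⟩ := hXV.atlas
  obtain ⟨h, hh⟩ := (yon S).map_surjective (a₀ ≫ ρ₂)
  have hae : RepWith @Etale (a₀ ≫ ρ₁) := repWith_comp @Etale ha₀e hρ₁e
  have hc : (a₀ ≫ ρ₁) ≫ f = (yon S).map h ≫ b := by
    rw [Category.assoc, sqX.w, ← Category.assoc, hh]
  have e : Points.map b (Points.ofPt (𝟙 ((yon S).obj V)) v) = Points.map f x := by
    rw [Points.map_ofPt, Category.id_comp, hv]
  obtain ⟨p, hp1, hp2⟩ := points_exists_of_isPullback f b ρ₂ ρ₁ sqX.flip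
    (Points.ofPt (𝟙 ((yon S).obj V)) v) x e
  obtain ⟨u, hu⟩ := surjective_ofPt a₀ ha₀s p
  have h1 : Points.map ρ₂ (Points.ofPt a₀ u) =
      Points.ofPt (𝟙 ((yon S).obj V)) (h.left u) := by
    rw [Points.map_ofPt, ← hh, ← ofPt_yon_map_comp, Category.comp_id]
  rw [hu, hp1] at h1
  have hvu : h.left u = v := ((Points.schemeHomeo V).injective h1).symm
  have hA : LocCoh.IsGorensteinLocalRing (V.left.presheaf.stalk v) := by
    rw [← hvu]
    exact (key (a₀ ≫ ρ₁) b h hae hb hc).2 u
  exact isGorensteinLocalRing_of_isStrictHenselization (V.left.presheaf.stalk v) R hA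

end Groth.Agent.Helper2.GorSp
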