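import Mathlib

/-!
# Translations of a group object (helper2)

For a group object `G` of a cartesian monoidal category and a point `g : K ⟶ G`, left translation
by `g` is an automorphism of `G ⊗ K` over `K` which carries the unit section to the section `g`.
-/

set_option autoImplicit false
open CategoryTheory MonoidalCategory CartesianMonoidalCategory MonObj

namespace Groth.Agent.Helper2.GrpTransl

universe v u
variable {C : Type u} [Category.{v} C] [CartesianMonoidalCategory C] {G K : C} [GrpObj G]

/-- Left translation by `g` on `G ⊗ K`. -/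
noncomputable def transl (g : K ⟶ G) : G ⊗ K ⟶ G ⊗ K :=
  lift ((snd G K ≫ g) * fst G K) (snd G K)

@[simp]
theorem transl_snd (g : K ⟶ G) : transl g ≫ snd G K = snd G K := by
  unfold transl
  rw [lift_snd]

@[simp]
theorem transl_fst (g : K ⟶ G) : transl g ≫ fst G K = (snd G K ≫ g) * fst G K := by
  unfold transl
  rw [lift_fst]

theorem transl_comp (g g' : K ⟶ G) : transl g ≫ transl g' = transl (g' * g) := by
  apply CartesianMonoidalCategory.hom_ext
  · rw [Category.assoc, transl_fst, MonObj.comp_mul, ← Category.assoc, transl_snd, transl_fst,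
      transl_fst, MonObj.comp_mul, _root_.mul_assoc]
  · rw [Category.assoc, transl_snd, transl_snd, transl_snd]

theorem transl_one : transl (1 : K ⟶ G) = 𝟙 (G ⊗ K) := by
  apply CartesianMonoidalCategory.hom_ext
  · rw [transl_fst, MonObj.comp_one, _root_.one_mul, Category.id_comp]
  · rw [transl_snd, Category.id_comp]

theorem transl_inv_comp (g : K ⟶ G) : transl g⁻¹ ≫ transl g = 𝟙 (G ⊗ K) := by
  rw [transl_comp, mul_inv_cancel, transl_one]

theorem transl_comp_inv (g : K ⟶ G) : transl g ≫ transl g⁻¹ = 𝟙 (G ⊗ K) := by
  rw [transl_comp, inv_mul_cancel, transl_one]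

instance isIso_transl (g : K ⟶ G) : IsIso (transl g) :=
  ⟨transl g⁻¹, transl_comp_inv g, transl_inv_comp g⟩

/-- Translation carries the unit section to the section `g`. -/
theorem lift_one_transl (g : K ⟶ G) : lift (1 : K ⟶ G) (𝟙 K) ≫ transl g = lift g (𝟙 K) := by
  apply CartesianMonoidalCategory.hom_ext
  · rw [Category.assoc, transl_fst, MonObj.comp_mul, ← Category.assoc, lift_snd, lift_fst,
      Category.id_comp, _root_.mul_one, lift_fst]
  · rw [Category.assoc, transl_snd, lift_snd, lift_snd]

end Groth.Agent.Helper2.GrpTransl
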