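import Mathlib
import Groth.Prelude.Def_AlgSpGpd
import Groth.Prelude.Def_AlgSp4
import Groth.Agent.Lib.Helper2.AlgSp.GrpTransl
import Groth.Agent.Lib.Helper2.AlgSp.LocP
import Groth.Agent.Lib.Helper2.AlgSp.Mor2
import Groth.Agent.Lib.Helper2.AlgSp.FieldPt
import Groth.Agent.Lib.Helper2.AlgSp.UnivClosedQC

/-!
# The multiplication of a group algebraic space over a field is flat and universally open
(helper2)
-/

set_option autoImplicit false
open CategoryTheory CategoryTheory.Limits AlgebraicGeometry Opposite AlgSp
open MonoidalCategory CartesianMonoidalCategory MonObj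
open Groth.Agent.Helper2.AlgSpBasic Groth.Agent.Helper2.GrpTransl

namespace Groth.Agent.Helper2.GrpMulFlat
universe u v w

section General
variable {C : Type w} [Category.{v} C] [CartesianMonoidalCategory C] (G : C) [GrpObj G]

/-- The shear map `(g, h) ↦ (g h, g)`. -/
noncomputable def shear : G ⊗ G ⟶ G ⊗ G := lift (snd G G) (fst G G) ≫ transl (𝟙 G)

theorem shear_fst : shear G ≫ fst G G = μ[G] := by
  unfold shear
  rw [Category.assoc, transl_fst, MonObj.comp_mul, Category.comp_id, lift_snd, lift_fst]
  show lift (fst G G) (snd G G) ≫ μ[G] = μ[G]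
  rw [lift_fst_snd, Category.id_comp]

instance : IsIso (shear G) := by
  unfold shear
  haveI : IsIso (lift (snd G G) (fst G G)) :=
    ⟨lift (snd G G) (fst G G), by
      constructor <;>
      · apply CartesianMonoidalCategory.hom_ext <;> simp⟩
  haveI : IsIso (transl (𝟙 G) : G ⊗ G ⟶ G ⊗ G) :=
    ⟨transl (𝟙 G)⁻¹, transl_comp_inv _, transl_inv_comp _⟩
  infer_instance

end General

variable {S : Scheme.{u}} {B : Sp S} (G : Over B) [GrpObj G]

omit [GrpObj G] in
theorem isPullback_snd_fst : IsPullback (snd G G).left (fst G G).left G.hom G.hom :=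
  (IsPullback.of_hasPullback G.hom G.hom).flip

theorem mul_left_eq : (μ[G]).left = (shear G).left ≫ (fst G G).left := by
  rw [← Over.comp_left, shear_fst]

instance : IsIso (shear G).left := inferInstanceAs (IsIso ((Over.forget B).map (shear G)))

/-- Precomposing with an isomorphism preserves `LocP`. -/
theorem locP_iso_comp (P : MorphismProperty Scheme.{u}) {X' X Y : Sp S} (e : X' ⟶ X) [IsIso e]
    (f : X ⟶ Y) (hf : LocP P f) : LocP P (e ≫ f) := by
  intro U V a b h ha hb hcomm
  refine hf (a ≫ e) b h (repWith_comp @Etale ha (repWith_of_isIso @Etale e)) hb ?_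
  rw [Category.assoc, hcomm]

/-- Precomposing with an isomorphism preserves `UnivSp`. -/
theorem univSp_iso_comp (Q : MorphismProperty (Sp S)) {X' X Y : Sp S} (e : X' ⟶ X) [IsIso e]
    (f : X ⟶ Y) (hf : UnivSp Q f) : UnivSp Q (e ≫ f) := by
  intro Z Z' hZ g fst snd sq
  refine hf hZ g (fst ≫ e) snd ?_
  exact IsPullback.of_iso sq (Iso.refl _) (asIso e) (Iso.refl _) (Iso.refl _)
    (by simp) (by simp) (by simp) (by simp)

/-- The multiplication of a group algebraic space over a field is flat and universally open. -/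
theorem main {k : Type u} [Field k] (str : Spec (CommRingCat.of k) ⟶ S)
    (G : Over ((yon S).obj (Over.mk str))) [GrpObj G] (hG : IsAlgSpace G.left) :
    LocP @Flat (μ[G]).left ∧ IsUnivOpenMor (μ[G]).left := by
  have hB : IsAlgSpace ((yon S).obj (Over.mk str)) := IsAlgSpace.yon_obj _
  have sq := isPullback_snd_fst G
  have hGG : IsAlgSpace (G ⊗ G).left :=
    isAlgSpace_of_isPullback hB.diag hG hG G.hom G.hom _ _ sq
  rw [mul_left_eq]
  constructor
  · apply locP_iso_comp
    exact locP_of_isPullback @Flat hG hB hG hGG G.hom G.hom _ _ sq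
      (locP_flat_to_field str G.hom)
  · apply univSp_iso_comp
    exact univSp_of_isPullback' _ sq
      (isUnivOpenMor_to_field hG str G.hom)

end Groth.Agent.Helper2.GrpMulFlat
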