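import Mathlib
import Groth.Prelude.Def_AlgSpGpd
import Groth.Prelude.Def_AlgSp4
import Groth.Agent.Lib.Helper2.AlgSp.GpdSp
import Groth.Agent.Lib.Helper2.AlgSp.GrpMulFlat

/-!
# The composition of a groupoid in algebraic spaces over a field is flat and universally open
(helper2)
-/

set_option autoImplicit false
open CategoryTheory CategoryTheory.Limits AlgebraicGeometry Opposite AlgSp
open Groth.Agent.Helper2.AlgSpBasic

namespace Groth.Agent.Helper2.GpdCompFlat
universe u
variable {S : Scheme.{u}}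

theorem isAlgSpace_of_iso {X Y : Sp S} (e : X ≅ Y) (hY : IsAlgSpace Y) : IsAlgSpace X :=
  isAlgSpace_of_isPullback hY.diag hY hY (𝟙 Y) (𝟙 Y) e.hom e.hom
    (IsPullback.of_vert_isIso ⟨by simp⟩)

/-- Postcomposing with an isomorphism reflects `LocP`. -/
theorem locP_of_comp_iso (P : MorphismProperty Scheme.{u}) {X Y Y' : Sp S} (f : X ⟶ Y)
    (e : Y ⟶ Y') [IsIso e] (hf : LocP P (f ≫ e)) : LocP P f := by
  intro U V a b h ha hb hcomm
  refine hf a (b ≫ e) h ha (repWith_comp @Etale hb (repWith_of_isIso @Etale e)) ?_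
  rw [← Category.assoc, hcomm, Category.assoc]

/-- Postcomposing with an isomorphism reflects `UnivSp`. -/
theorem univSp_of_comp_iso (Q : MorphismProperty (Sp S)) {X Y Y' : Sp S} (f : X ⟶ Y)
    (e : Y ⟶ Y') [IsIso e] (hf : UnivSp Q (f ≫ e)) : UnivSp Q f := by
  intro Z Z' hZ g fst snd sq
  refine hf hZ (g ≫ e) fst snd ?_
  exact IsPullback.of_iso sq (Iso.refl _) (Iso.refl _) (Iso.refl _) (asIso e)
    (by simp) (by simp) (by simp) (by simp)

/-- A morphism to a sheaf isomorphic to the spectrum of a field is flat and universally open. -/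
theorem flat_univOpen_to_field {X U : Sp S} (hX : IsAlgSpace X) {k : Type u} [Field k]
    (σ : Spec (CommRingCat.of k) ⟶ S) (eU : U ≅ (yon S).obj (Over.mk σ)) (f : X ⟶ U) :
    LocP @Flat f ∧ IsUnivOpenMor f :=
  ⟨locP_of_comp_iso @Flat f eU.hom (locP_flat_to_field σ (f ≫ eU.hom)),
    univSp_of_comp_iso _ f eU.hom (isUnivOpenMor_to_field hX σ (f ≫ eU.hom))⟩

variable {B : Sp S}

theorem main (G : GroupoidSp B) (hR : IsAlgSpace G.R) {k : Type u} [Field k]
    (σ : Spec (CommRingCat.of k) ⟶ S) (eU : G.U ≅ (yon S).obj (Over.mk σ)) :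
    LocP @Flat G.c ∧ IsUnivOpenMor G.c := by
  have hU : IsAlgSpace G.U := isAlgSpace_of_iso eU (IsAlgSpace.yon_obj _)
  have sq := (Groth.Agent.Helper2.GpdSp.isPullback_c_snd G).flip
  have hP : IsAlgSpace (pullback G.s G.t) :=
    isAlgSpace_of_isPullback hU.diag hR hR G.s G.t _ _ (IsPullback.of_hasPullback _ _)
  obtain ⟨h1, h2⟩ := flat_univOpen_to_field hR σ eU G.s
  exact ⟨locP_of_isPullback @Flat hR hU hR hP G.s G.s _ _ sq h1, univSp_of_isPullback' _ sq h2⟩

end Groth.Agent.Helper2.GpdCompFlat
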