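import Mathlib
import Groth.Prelude.Def_AlgSpGpd
import Groth.Prelude.Def_AlgSp4
import Groth.Agent.Lib.Helper2.AlgSp.Basic
import Groth.Agent.Lib.Helper2.AlgSp.GpdSp
import Groth.Agent.Lib.Helper2.AlgSp.Mor
import Groth.Agent.Lib.Helper2.AlgSp.QC

/-!
# Separation of `j`, of the stabilizer and the unit section (helper2)
-/

set_option autoImplicit false
open CategoryTheory CategoryTheory.Limits AlgebraicGeometry Opposite AlgSp
open Groth.Agent.Helper2.AlgSpBasic

namespace Groth.Agent.Helper2.GpdSep
universe u
variable {S : Scheme.{u}} {B : Sp S} (G : GroupoidSp B)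

open Groth.Agent.Helper2.GpdSp

theorem fst_t_eq : pullback.fst G.j G.j ≫ G.t = pullback.snd G.j G.j ≫ G.t := by
  have := congrArg (· ≫ pullback.fst G.pU G.pU) (pullback.condition (f := G.j) (g := G.j))
  simpa only [Category.assoc, GroupoidSp.j_fst] using this

theorem fst_s_eq : pullback.fst G.j G.j ≫ G.s = pullback.snd G.j G.j ≫ G.s := by
  have := congrArg (· ≫ pullback.snd G.pU G.pU) (pullback.condition (f := G.j) (g := G.j))
  simpa only [Category.assoc, GroupoidSp.j_snd] using this

/-- `(α, β) ↦ α⁻¹ ∘ β` on pairs of arrows with the same source and target. -/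
noncomputable def invComp : pullback G.j G.j ⟶ G.R :=
  comp G (pullback.fst G.j G.j ≫ G.i) (pullback.snd G.j G.j)
    (by rw [Category.assoc, G.i_s]; exact fst_t_eq G)

theorem invComp_t : invComp G ≫ G.t = pullback.fst G.j G.j ≫ G.s := by
  unfold invComp; rw [comp_t, Category.assoc, G.i_t]

theorem invComp_s : invComp G ≫ G.s = pullback.fst G.j G.j ≫ G.s := by
  unfold invComp; rw [comp_s, fst_s_eq]

/-- `(α, β) ↦ α⁻¹ ∘ β` as a map to the stabilizer. -/
noncomputable def psi : pullback G.j G.j ⟶ G.stabilizer :=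
  pullback.lift (invComp G) (pullback.fst G.j G.j ≫ G.s) (by
    apply pullback.hom_ext
    · rw [Category.assoc, GroupoidSp.j_fst, invComp_t, Category.assoc]
      unfold GroupoidSp.diag
      rw [pullback.lift_fst, Category.comp_id]
    · rw [Category.assoc, GroupoidSp.j_snd, invComp_s, Category.assoc]
      unfold GroupoidSp.diag
      rw [pullback.lift_snd, Category.comp_id])

theorem psi_ι : psi G ≫ G.stabilizerι = invComp G := pullback.lift_fst _ _ _

theorem psi_toU : psi G ≫ G.stabilizerToU = pullback.fst G.j G.j ≫ G.s := pullback.lift_snd _ _ _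

instance : Mono G.diag := by
  constructor
  intro A a b h
  have := congrArg (· ≫ pullback.fst G.pU G.pU) h
  unfold GroupoidSp.diag at this
  simpa only [Category.assoc, pullback.lift_fst, Category.comp_id] using this

theorem eG_toU (eG : G.U ⟶ G.stabilizer) (heG : eG ≫ G.stabilizerι = G.e) :
    eG ≫ G.stabilizerToU = 𝟙 G.U := by
  rw [← cancel_mono G.diag]
  have h0 : G.stabilizerι ≫ G.j = G.stabilizerToU ≫ G.diag := pullback.condition
  have h1 : eG ≫ G.stabilizerToU ≫ G.diag = eG ≫ G.stabilizerι ≫ G.j := by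
    rw [h0]
  rw [Category.assoc, h1, ← Category.assoc, heG, Category.id_comp]
  apply pullback.hom_ext
  · rw [Category.assoc, GroupoidSp.j_fst, G.e_t]
    unfold GroupoidSp.diag
    rw [pullback.lift_fst]
  · rw [Category.assoc, GroupoidSp.j_snd, G.e_s]
    unfold GroupoidSp.diag
    rw [pullback.lift_snd]

/-- The diagonal of `j` is the base change of the unit section along `(α, β) ↦ α⁻¹ ∘ β`. -/
theorem isPullback_diagonal_j (eG : G.U ⟶ G.stabilizer) (heG : eG ≫ G.stabilizerι = G.e) :
    IsPullback (pullback.diagonal G.j) G.s (psi G) eG := by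
  have hι : ∀ {A : Sp S} (x y : A ⟶ G.stabilizer), x ≫ G.stabilizerι = y ≫ G.stabilizerι →
      x ≫ G.stabilizerToU = y ≫ G.stabilizerToU → x = y := by
    intro A x y h1 h2
    exact pullback.hom_ext h1 h2
  refine isPullback_of_existsUnique ?_ ?_ ?_
  · apply hι
    · rw [Category.assoc, psi_ι, Category.assoc, heG]
      unfold invComp
      rw [precomp]
      have e1 : pullback.diagonal G.j ≫ pullback.fst G.j G.j ≫ G.i = 𝟙 G.R ≫ G.i := by
        rw [← Category.assoc, pullback.diagonal_fst]
      have e2 : pullback.diagonal G.j ≫ pullback.snd G.j G.j = 𝟙 G.R := pullback.diagonal_snd _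
      rw [comp_congr G _ e1 e2]
      have := i_comp G (𝟙 G.R)
      rw [this, Category.id_comp]
    · rw [Category.assoc, psi_toU, ← Category.assoc, pullback.diagonal_fst, Category.id_comp,
        Category.assoc, eG_toU G eG heG, Category.comp_id]
  · intro A x y hxy
    have h1 : x ≫ invComp G = y ≫ G.e := by
      have := congrArg (· ≫ G.stabilizerι) hxy
      simpa only [Category.assoc, psi_ι, heG] using this
    have h2 : x ≫ pullback.fst G.j G.j ≫ G.s = y := by
      have := congrArg (· ≫ G.stabilizerToU) hxy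
      simpa only [Category.assoc, psi_toU, eG_toU G eG heG, Category.comp_id] using this
    have ht : (x ≫ pullback.fst G.j G.j) ≫ G.t = (x ≫ pullback.snd G.j G.j) ≫ G.t := by
      rw [Category.assoc, Category.assoc, fst_t_eq]
    have hab : x ≫ pullback.snd G.j G.j = x ≫ pullback.fst G.j G.j := by
      have e := comp_inv_comp' G (x ≫ pullback.fst G.j G.j) (x ≫ pullback.snd G.j G.j) ht
      rw [← e]
      have e3 : comp G ((x ≫ pullback.fst G.j G.j) ≫ G.i) (x ≫ pullback.snd G.j G.j)
          (by rw [Category.assoc, G.i_s]; exact ht) =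
          (x ≫ pullback.fst G.j G.j) ≫ G.s ≫ G.e := by
        have e4 : x ≫ invComp G = comp G ((x ≫ pullback.fst G.j G.j) ≫ G.i)
            (x ≫ pullback.snd G.j G.j) (by rw [Category.assoc, G.i_s]; exact ht) := by
          unfold invComp
          rw [precomp]
          exact comp_congr G _ (Category.assoc _ _ _).symm rfl
        rw [← e4, h1, ← h2]
        simp only [Category.assoc]
      rw [comp_congr G _ rfl e3]
      exact comp_e G _
    refine ⟨x ≫ pullback.fst G.j G.j, ?_, ?_⟩
    · apply pullback.hom_ext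
      · rw [Category.assoc, pullback.diagonal_fst, Category.comp_id]
      · rw [Category.assoc, pullback.diagonal_snd, Category.comp_id, hab]
    · rw [Category.assoc, h2]
  · intro A l l' h1 _
    have := congrArg (· ≫ pullback.fst G.j G.j) h1
    simpa only [Category.assoc, pullback.diagonal_fst, Category.comp_id] using this

section Loop
variable (P : MorphismProperty Scheme.{u})
  (eG : G.U ⟶ G.stabilizer) (heG : eG ≫ G.stabilizerι = G.e)

theorem diagonal_toU_of_diagonal_j (h : RepWith P (pullback.diagonal G.j)) :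
    RepWith P (pullback.diagonal G.stabilizerToU) := by
  have h' : (RepWith (S := S) P).diagonal G.j := h
  exact (RepWith (S := S) P).diagonal.of_isPullback (IsPullback.of_hasPullback G.j G.diag) h'

include heG in
theorem eG_of_diagonal_toU (h : RepWith P (pullback.diagonal G.stabilizerToU)) :
    RepWith P eG :=
  repWith_section_of_repWith_diagonal P G.stabilizerToU eG (eG_toU G eG heG) h

include heG in
theorem diagonal_j_of_eG (h : RepWith P eG) : RepWith P (pullback.diagonal G.j) :=
  repWith_of_isPullback P (isPullback_diagonal_j G eG heG).flip h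

include heG in
theorem diagonal_j_iff_toU :
    RepWith P (pullback.diagonal G.j) ↔ RepWith P (pullback.diagonal G.stabilizerToU) :=
  ⟨diagonal_toU_of_diagonal_j G P, fun h =>
    diagonal_j_of_eG G P eG heG (eG_of_diagonal_toU G P eG heG h)⟩

include heG in
theorem diagonal_j_iff_eG :
    RepWith P (pullback.diagonal G.j) ↔ RepWith P eG :=
  ⟨fun h => eG_of_diagonal_toU G P eG heG (diagonal_toU_of_diagonal_j G P h),
    diagonal_j_of_eG G P eG heG⟩

end Loop

theorem isAlgSpace_stabilizer (hB : IsAlgSpace B) (hU : IsAlgSpace G.U) (hR : IsAlgSpace G.R) :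
    IsAlgSpace G.stabilizer := by
  have hUU : IsAlgSpace (pullback G.pU G.pU) :=
    isAlgSpace_of_isPullback hB.diag hU hU G.pU G.pU _ _ (IsPullback.of_hasPullback _ _)
  exact isAlgSpace_of_isPullback hUU.diag hR hU G.j G.diag _ _ (IsPullback.of_hasPullback _ _)

theorem main (hB : IsAlgSpace B) (hU : IsAlgSpace G.U) (hR : IsAlgSpace G.R)
    (eG : G.U ⟶ G.stabilizer) (heG : eG ≫ G.stabilizerι = G.e) :
    ((IsSeparatedMor G.j ↔ IsSeparatedMor G.stabilizerToU) ∧
        (IsSeparatedMor G.j ↔ RepWith @IsClosedImmersion eG)) ∧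
      ((IsQuasiSeparatedMor G.j ↔ IsQuasiSeparatedMor G.stabilizerToU) ∧
        (IsQuasiSeparatedMor G.j ↔ IsQuasiCompactMor eG)) ∧
      ((IsLocallySeparatedMor G.j → RepWith @IsImmersion eG) ∧
        (IsLocallySeparatedMor G.stabilizerToU → RepWith @IsImmersion eG)) := by
  have hSt := isAlgSpace_stabilizer G hB hU hR
  have hrep : Representable eG :=
    representable_section G.stabilizerToU eG (eG_toU G eG heG)
      (representable_diagonal G.stabilizerToU hSt.diag)
  refine ⟨⟨diagonal_j_iff_toU G _ eG heG, diagonal_j_iff_eG G _ eG heG⟩,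
    ⟨diagonal_j_iff_toU G _ eG heG, ?_⟩,
    ⟨(diagonal_j_iff_eG G _ eG heG).mp, eG_of_diagonal_toU G _ eG heG⟩⟩
  refine (diagonal_j_iff_eG G @QuasiCompact eG heG).trans ⟨?_, ?_⟩
  · exact isQuasiCompactMor_of_repWith hU hSt.diag eG
  · exact repWith_quasiCompact_of_isQuasiCompactMor eG hrep

end Groth.Agent.Helper2.GpdSep
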