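import Mathlib
import Groth.Prelude.Def_AlgSpGpd
import Groth.Prelude.Def_AlgSp4
import Groth.Agent.Lib.Helper2.AlgSp.Basic
import Groth.Agent.Lib.Helper2.AlgSp.Mor
import Groth.Agent.Lib.Helper2.AlgSp.QC

/-!
# Separation of a group algebraic space via its unit section (helper2)
-/

set_option autoImplicit false
open CategoryTheory CategoryTheory.Limits AlgebraicGeometry Opposite AlgSp
open MonoidalCategory CartesianMonoidalCategory MonObj
open Groth.Agent.Helper2.AlgSpBasic

namespace Groth.Agent.Helper2.GrpSep
universe u v w

section General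
variable {C : Type w} [Category.{v} C] [CartesianMonoidalCategory C] (G : C) [GrpObj G]

/-- The diagonal of a group object is the base change of the unit along `(g, h) ↦ g⁻¹ h`. -/
theorem isPullback_diag_unit :
    IsPullback (lift (𝟙 G) (𝟙 G)) (toUnit G) ((fst G G)⁻¹ * snd G G) η[G] := by
  refine isPullback_of_existsUnique ?_ ?_ ?_
  · rw [MonObj.comp_mul, GrpObj.comp_inv, lift_fst, lift_snd, inv_mul_cancel]
    rfl
  · intro A x y hxy
    have h1 : (x ≫ fst G G)⁻¹ * (x ≫ snd G G) = 1 := by
      rw [← GrpObj.comp_inv, ← MonObj.comp_mul, hxy]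
      rw [Hom.one_def]
      congr 1
      exact toUnit_unique _ _
    have h2 : x ≫ fst G G = x ≫ snd G G := by
      have := inv_mul_eq_one.mp h1
      exact this
    refine ⟨x ≫ fst G G, ?_, toUnit_unique _ _⟩
    apply CartesianMonoidalCategory.hom_ext
    · rw [Category.assoc, lift_fst, Category.comp_id]
    · rw [Category.assoc, lift_snd, Category.comp_id, h2]
  · intro A l l' h1 _
    have := congrArg (· ≫ fst G G) h1
    simpa only [Category.assoc, lift_fst, Category.comp_id] using this

end General

variable {S : Scheme.{u}} {B : Sp S} (G : Over B) [GrpObj G]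

theorem isPullback_diagonal_unit :
    IsPullback (pullback.diagonal G.hom) G.hom ((fst G G)⁻¹ * snd G G).left (η[G]).left := by
  have h := (isPullback_diag_unit G).map (Over.forget B)
  have e1 : (Over.forget B).map (lift (𝟙 G) (𝟙 G)) = pullback.diagonal G.hom := by
    apply pullback.hom_ext
    · refine Eq.trans ?_ (pullback.diagonal_fst G.hom).symm
      exact congrArg (fun m => m.left) (lift_fst (𝟙 G) (𝟙 G))
    · refine Eq.trans ?_ (pullback.diagonal_snd G.hom).symm
      exact congrArg (fun m => m.left) (lift_snd (𝟙 G) (𝟙 G))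
  have e2 : (Over.forget B).map (toUnit G) = G.hom := by
    have := Over.w (toUnit G)
    exact (Category.comp_id _).symm.trans this
  rw [e1, e2] at h
  exact h

theorem unit_hom : (η[G]).left ≫ G.hom = 𝟙 B := Over.w (η[G])

theorem main (hB : IsAlgSpace B) (hG : IsAlgSpace G.left) :
    (IsSeparatedMor G.hom ↔ RepWith @IsClosedImmersion (η[G]).left) ∧
      (IsQuasiSeparatedMor G.hom ↔ IsQuasiCompactMor (η[G]).left) ∧
      (IsLocallySeparatedMor G.hom → RepWith @IsImmersion (η[G]).left) := by
  have key : ∀ (P : MorphismProperty Scheme.{u}),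
      RepWith P (pullback.diagonal G.hom) ↔ RepWith P (η[G]).left := fun P =>
    ⟨repWith_section_of_repWith_diagonal P G.hom (η[G]).left (unit_hom G),
      fun h => repWith_of_isPullback P (isPullback_diagonal_unit G).flip h⟩
  have hrep : Representable (η[G]).left :=
    representable_section G.hom (η[G]).left (unit_hom G) (representable_diagonal G.hom hG.diag)
  refine ⟨key _, (key @QuasiCompact).trans ⟨?_, ?_⟩, (key _).mp⟩
  · exact isQuasiCompactMor_of_repWith hB hG.diag (η[G]).left
  · exact repWith_quasiCompact_of_isQuasiCompactMor (η[G]).left hrep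

end Groth.Agent.Helper2.GrpSep
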