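import Mathlib
import Groth.Prelude.Def_AlgSp4
import Groth.Prelude.Def_AlgSpDec
import Groth.Prelude.Def_AlgSpGpd
import Groth.Agent.Lib.Helper2.AlgSp.ClosedPt
import Groth.Agent.Lib.Helper2.AlgSp.QcMonoPoint
import Groth.Agent.Lib.Helper2.AlgSp.GrpSep
import Groth.Agent.Lib.Helper2.AlgSp.Coprod
import Groth.Agent.Lib.Helper2.AlgSp.FieldQuot
import Groth.Agent.Lib.Helper2.Sch.ClosedAlgPoint

/-!
# Decent group algebraic spaces over a field are separated (helper2)
-/

set_option autoImplicit false
set_option backward.isDefEq.respectTransparency false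

open CategoryTheory CategoryTheory.Limits AlgebraicGeometry Opposite AlgSp
open MonoidalCategory CartesianMonoidalCategory MonObj

namespace Groth.Agent.Helper2.GrpDecentSep
universe u

/-- Over a field `k`, a quasi-compact monomorphic field-valued point whose field is etale over `k`
is a closed immersion. -/
theorem repWith_isClosedImmersion_of_etale_str {k : Type u} [Field k]
    {X : Sp (Spec (CommRingCat.of k))} (hX : IsAlgSpace X) (p : FieldPt X)
    [Etale p.str] (hm : Mono p.toHom) (hq : RepWith @QuasiCompact p.toHom) :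
    RepWith @IsClosedImmersion p.toHom := by
  obtain ⟨U, a, hae, has⟩ := hX.atlas
  obtain ⟨F, c, snd₀, sq⟩ := AlgSpBasic.exists_isPullback_yon hX.diag p.toHom a
  haveI : QuasiCompact snd₀.left := hq.property a ((yon _).map c) snd₀ sq
  haveI : Etale c.left := hae.property p.toHom ((yon _).map snd₀) c sq.flip
  have hFL : EtaleField.IsFieldLike F.left :=
    EtaleField.isFieldLike_of_etale (K := p.K) c.left
  haveI := hm
  haveI : Mono ((yon _).map snd₀) := sq.mono_snd_of_mono
  haveI : Mono snd₀ := (yon _).mono_of_mono_map inferInstance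
  haveI : Mono snd₀.left := inferInstance
  have hcl : ∀ w : ↥F.left, IsClosed ({snd₀.left w} : Set ↥U.left) := by
    intro w
    haveI : Etale (c.left ≫ p.str) := inferInstance
    refine ClosedAlgPoint.isClosed_singleton_of_etale (c.left ≫ p.str) snd₀.left U.hom ?_ w
    rw [Over.w snd₀]
    exact (Over.w c).symm
  have hci : IsClosedImmersion snd₀.left :=
    EtaleField.isClosedImmersion_of_mono_fieldLike hFL snd₀.left hcl
  exact ImmDescent.repWith_isClosedImmersion_of_etale_cover p.toHom U a hae has
    ((yon _).map c) ((yon _).map snd₀) sq ((repWith_yon_map_iff _ snd₀).2 hci)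

variable {S : Scheme.{u}}

/-- Separatedness over the terminal object, converse direction. -/
theorem isSeparatedSp_of_isSeparatedMor {X : Sp S}
    (f : X ⟶ (yon S).obj (Over.mk (𝟙 S))) (hf : IsSeparatedMor f) : IsSeparatedSp X := by
  have hT := Coprod.isTerminalYonId S
  have sq0 : IsPullback (prod.fst : X ⨯ X ⟶ X) prod.snd (hT.from X) (hT.from X) :=
    IsPullback.of_isLimit_binaryFan_of_isTerminal (limit.isLimit (pair X X)) hT
  have e' : hT.from X = f := hT.hom_ext _ _
  rw [e'] at sq0
  have h : Limits.diag X = pullback.diagonal f ≫ sq0.isoPullback.inv := by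
    rw [Iso.eq_comp_inv]
    apply pullback.hom_ext
    · rw [pullback.diagonal_fst, Category.assoc, IsPullback.isoPullback_hom_fst]
      simp only [Limits.diag, prod.lift_fst]
    · rw [pullback.diagonal_snd, Category.assoc, IsPullback.isoPullback_hom_snd]
      simp only [Limits.diag, prod.lift_snd]
  show RepWith @IsClosedImmersion (Limits.diag X)
  rw [h]
  exact MorphismProperty.RespectsIso.postcomp _ _ _ hf

/-- A decent group algebraic space over a field is separated. -/
theorem main (k : Type u) [Field k]
    (G : Over ((yon (Spec (CommRingCat.of k))).obj (Over.mk (𝟙 _)))) [GrpObj G]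
    (hG : IsAlgSpace G.left) (hd : IsDecent G.left) : IsSeparatedSp G.left := by
  have hu : (η[G]).left ≫ G.hom = 𝟙 _ := GrpSep.unit_hom G
  obtain ⟨e, he⟩ : ∃ e : (yon (Spec (CommRingCat.of k))).obj (Over.mk (𝟙 _)) ⟶ G.left,
      e = (η[G]).left := ⟨_, rfl⟩
  let q : FieldPt G.left := AlgSpBasic.fieldPtOfHom (𝟙 (Spec (CommRingCat.of k))) e
  have hqe : q.toHom = e := FieldQuot.toHom_fieldPtOfHom _ e
  haveI : Etale q.str := inferInstanceAs (Etale (𝟙 (Spec (CommRingCat.of k))))
  have hmono : Mono q.toHom := by
    rw [hqe, he]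
    haveI : Mono ((η[G]).left ≫ G.hom) := by
      rw [hu]
      exact inferInstanceAs (Mono (𝟙 ((yon (Spec (CommRingCat.of k))).obj (Over.mk (𝟙 _)))))
    exact mono_of_mono (η[G]).left G.hom
  obtain ⟨p, hp, hm, hq⟩ := hd (Points.mk q)
  have hqc : RepWith @QuasiCompact q.toHom := QcMonoPoint.main hG p q hm hq hp.symm
  have hci : RepWith @IsClosedImmersion q.toHom :=
    repWith_isClosedImmersion_of_etale_str hG q hmono hqc
  rw [hqe, he] at hci
  have hsep : IsSeparatedMor G.hom :=
    AlgSpBasic.repWith_of_isPullback @IsClosedImmersion (GrpSep.isPullback_diagonal_unit G).flip hci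
  exact isSeparatedSp_of_isSeparatedMor G.hom hsep

end Groth.Agent.Helper2.GrpDecentSep
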