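import Mathlib
import Groth.Prelude.Def_AlgSp4
import Groth.Prelude.Def_AlgSpDec
import Groth.Prelude.Def_AlgSpGpd
import Groth.Agent.Lib.Helper2.AlgSp.GrpDecentSep
import Groth.Agent.Lib.Helper2.AlgSp.GpdSep
import Groth.Agent.Lib.Helper2.AlgSp.OpenSub
import Groth.Agent.Lib.Helper2.AlgSp.Mor2
import Groth.Agent.Lib.Helper2.AlgSp.GpdCompFlat

/-!
# Decent groupoids over a field are separated (helper2)
-/

set_option autoImplicit false
set_option backward.isDefEq.respectTransparency false

open CategoryTheory CategoryTheory.Limits AlgebraicGeometry Opposite AlgSp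
open Groth.Agent.Helper2.AlgSpBasic

namespace Groth.Agent.Helper2.GpdDecentSep
universe u
variable {S : Scheme.{u}}

/-- A monomorphism into a decent algebraic space has decent source. -/
theorem isDecent_of_mono {Z X : Sp S} (hZ : IsAlgSpace Z) (hX : IsAlgSpace X) (hXd : IsDecent X)
    (i : Z ⟶ X) [Mono i] : IsDecent Z := by
  intro z
  obtain ⟨p, hp, hm, hq⟩ := hXd (Points.map i z)
  obtain ⟨fst, hfst⟩ : ∃ fst : pullback p.toHom i ⟶ (yon S).obj p.pt,
      fst = pullback.fst p.toHom i := ⟨_, rfl⟩
  obtain ⟨snd, hsnd⟩ : ∃ snd : pullback p.toHom i ⟶ Z, snd = pullback.snd p.toHom i := ⟨_, rfl⟩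
  have sq : IsPullback fst snd p.toHom i := by
    rw [hfst, hsnd]; exact IsPullback.of_hasPullback _ _
  have hP : IsAlgSpace (pullback p.toHom i) :=
    isAlgSpace_of_isPullback hX.diag (IsAlgSpace.yon_obj _) hZ p.toHom i fst snd sq
  haveI : Mono fst := by rw [hfst]; infer_instance
  have hne : Nonempty (Points (pullback p.toHom i)) := by
    have e : Points.map p.toHom (Points.ofScheme p.pt (IsLocalRing.closedPoint p.K)) =
        Points.map i z := by
      rw [← Points.ofPt_eq_map_ofScheme, Points.ofPt_toHom, hp]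
    obtain ⟨w, -, -⟩ := points_exists_of_isPullback i p.toHom fst snd sq _ _ e
    exact ⟨w⟩
  rcases isEmpty_or_isIso_of_mono_to_field hP p.str fst with hE | hI
  · exact absurd hne (not_nonempty_iff.mpr hE)
  haveI := hI
  obtain ⟨p', hp'⟩ : ∃ p' : (yon S).obj p.pt ⟶ Z, p' = inv fst ≫ snd := ⟨_, rfl⟩
  have hp'i : p' ≫ i = p.toHom := by
    rw [hp', Category.assoc, ← sq.w, IsIso.inv_hom_id_assoc]
  refine ⟨fieldPtOfHom p.str p', ?_, ?_, ?_⟩
  · apply injective_points_map_of_mono i
    rw [FieldQuot.mk_fieldPtOfHom p.str p' (IsLocalRing.closedPoint p.K),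
      Points.map_ofPt, hp'i, Points.ofPt_toHom]
    exact hp
  · rw [FieldQuot.toHom_fieldPtOfHom]
    haveI : Mono (p' ≫ i) := by rw [hp'i]; exact hm
    exact mono_of_mono p' i
  · rw [FieldQuot.toHom_fieldPtOfHom]
    exact repWith_lift_of_mono @QuasiCompact i p.toHom p' hp'i hq

/-- A quasi-compact field-valued point which is a section of a morphism to its field is a closed
immersion. -/
theorem repWith_isClosedImmersion_of_retraction {X : Sp S} (hX : IsAlgSpace X) (p : FieldPt X)
    (r : X ⟶ (yon S).obj p.pt) (hr : p.toHom ≫ r = 𝟙 _) (hq : RepWith @QuasiCompact p.toHom) :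
    RepWith @IsClosedImmersion p.toHom := by
  have hm : Mono p.toHom := by
    haveI : Mono (p.toHom ≫ r) := by rw [hr]; infer_instance
    exact mono_of_mono p.toHom r
  obtain ⟨U, a, hae, has⟩ := hX.atlas
  obtain ⟨F, c, snd₀, sq⟩ := exists_isPullback_yon hX.diag p.toHom a
  haveI : QuasiCompact snd₀.left := hq.property a ((yon S).map c) snd₀ sq
  haveI : Etale c.left := hae.property p.toHom ((yon S).map snd₀) c sq.flip
  have hFL : EtaleField.IsFieldLike F.left :=
    EtaleField.isFieldLike_of_etale (K := p.K) c.left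
  haveI := hm
  haveI : Mono ((yon S).map snd₀) := sq.mono_snd_of_mono
  haveI : Mono snd₀ := (yon S).mono_of_mono_map inferInstance
  haveI : Mono snd₀.left := inferInstance
  obtain ⟨f, hf⟩ := (yon S).map_surjective (a ≫ r)
  have hfc : snd₀ ≫ f = c := by
    apply (yon S).map_injective
    rw [Functor.map_comp, hf, ← Category.assoc, ← sq.w, Category.assoc, hr, Category.comp_id]
  have hcl : ∀ w : ↥F.left, IsClosed ({snd₀.left w} : Set ↥U.left) := by
    intro w
    refine ClosedAlgPoint.isClosed_singleton_of_etale (k := p.K) c.left snd₀.left f.left ?_ w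
    rw [← Over.comp_left, hfc]
  have hci : IsClosedImmersion snd₀.left :=
    EtaleField.isClosedImmersion_of_mono_fieldLike hFL snd₀.left hcl
  exact ImmDescent.repWith_isClosedImmersion_of_etale_cover p.toHom U a hae has
    ((yon S).map c) ((yon S).map snd₀) sq ((repWith_yon_map_iff _ snd₀).2 hci)

/-- Separatedness of the structure morphism of a sheaf which is separated over sheaves with
separated structure morphism. -/
theorem isSeparatedSp_of_comp {X Y : Sp S} (f : X ⟶ Y) (hf : IsSeparatedMor f)
    (g : Y ⟶ (yon S).obj (Over.mk (𝟙 S))) (hg : IsSeparatedMor g) : IsSeparatedSp X := by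
  refine GrpDecentSep.isSeparatedSp_of_isSeparatedMor (f ≫ g) ?_
  exact (RepWith (S := S) @IsClosedImmersion).diagonal.comp_mem f g hf hg

/-- A groupoid in algebraic spaces over the spectrum of a field whose space of arrows is decent
has separated space of arrows. -/
theorem main {B : Sp S} (hB : IsAlgSpace B)
    (G : GroupoidSp B) (hR : IsAlgSpace G.R) (k : Type u) [Field k]
    (σ : Spec (CommRingCat.of k) ⟶ S) (eU : G.U ≅ (yon S).obj (Over.mk σ)) (hd : IsDecent G.R) :
    IsSeparatedSp G.R := by
  have hU : IsAlgSpace G.U := GpdCompFlat.isAlgSpace_of_iso eU (IsAlgSpace.yon_obj _)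
  have hStab : IsAlgSpace G.stabilizer := GpdSep.isAlgSpace_stabilizer G hB hU hR
  -- the unit section of the stabilizer
  have hej : G.e ≫ G.j = 𝟙 G.U ≫ G.diag := by
    apply pullback.hom_ext
    · rw [Category.assoc, G.j_fst, G.e_t, Category.id_comp]
      exact (pullback.lift_fst _ _ _).symm
    · rw [Category.assoc, G.j_snd, G.e_s, Category.id_comp]
      exact (pullback.lift_snd _ _ _).symm
  obtain ⟨eG, heG'⟩ : ∃ eG : G.U ⟶ G.stabilizer, eG = pullback.lift G.e (𝟙 G.U) hej := ⟨_, rfl⟩
  have heG : eG ≫ G.stabilizerι = G.e := by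
    rw [heG']; exact pullback.lift_fst _ _ _
  have hsec : eG ≫ G.stabilizerToU = 𝟙 G.U := GpdSep.eG_toU G eG heG
  -- the stabilizer is decent
  haveI : Mono G.stabilizerι := inferInstanceAs (Mono (pullback.fst G.j G.diag))
  have hdS : IsDecent G.stabilizer := isDecent_of_mono hStab hR hd G.stabilizerι
  -- the field-valued point
  let q : FieldPt G.stabilizer := fieldPtOfHom σ (eU.inv ≫ eG)
  have hqe : q.toHom = eU.inv ≫ eG := FieldQuot.toHom_fieldPtOfHom _ _
  obtain ⟨r, hr'⟩ : ∃ r : G.stabilizer ⟶ (yon S).obj q.pt, r = G.stabilizerToU ≫ eU.hom :=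
    ⟨_, rfl⟩
  have hr : q.toHom ≫ r = 𝟙 _ := by
    rw [hqe, hr', Category.assoc, reassoc_of% hsec, eU.inv_hom_id]
    rfl
  obtain ⟨p, hp, hm, hq⟩ := hdS (Points.mk q)
  have hqc : RepWith @QuasiCompact q.toHom := QcMonoPoint.main hStab p q hm hq hp.symm
  have hci : RepWith @IsClosedImmersion q.toHom :=
    repWith_isClosedImmersion_of_retraction hStab q r hr hqc
  rw [hqe] at hci
  have hci' : RepWith @IsClosedImmersion eG :=
    ((RepWith (S := S) @IsClosedImmersion).cancel_left_of_respectsIso eU.inv eG).1 hci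
  have hj : IsSeparatedMor G.j := (GpdSep.main G hB hU hR eG heG).1.2.2 hci'
  -- the structure morphism of `U ×_B U`
  have hT := Coprod.isTerminalYonId S
  obtain ⟨tU, htU⟩ : ∃ tU : G.U ⟶ (yon S).obj (Over.mk (𝟙 S)),
      tU = eU.hom ≫ (yon S).map (Over.homMk σ : Over.mk σ ⟶ Over.mk (𝟙 S)) := ⟨_, rfl⟩
  have hsU : IsSeparatedMor tU := by
    rw [htU]
    refine ((RepWith (S := S) @IsClosedImmersion).diagonal.cancel_left_of_respectsIso eU.hom _).2 ?_
    exact (isSeparatedMor_yon_map_iff _).2 (inferInstanceAs (IsSeparated σ))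
  have hfst : IsSeparatedMor (pullback.fst tU tU) :=
    (RepWith (S := S) @IsClosedImmersion).diagonal.of_isPullback
      (IsPullback.of_hasPullback tU tU).flip hsU
  obtain ⟨n, hn⟩ : ∃ n : pullback G.pU G.pU ⟶ pullback tU tU,
      n = pullback.lift (pullback.fst _ _) (pullback.snd _ _) (hT.hom_ext _ _) := ⟨_, rfl⟩
  haveI : Mono n := by
    constructor
    intro A x y hxy
    apply pullback.hom_ext
    · have := congrArg (· ≫ pullback.fst tU tU) hxy
      simpa only [hn, Category.assoc, pullback.lift_fst] using this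
    · have := congrArg (· ≫ pullback.snd tU tU) hxy
      simpa only [hn, Category.assoc, pullback.lift_snd] using this
  have hn' : IsSeparatedMor n := isSeparatedMor_of_mono n
  have hV : IsSeparatedMor (n ≫ pullback.fst tU tU ≫ tU) :=
    (RepWith (S := S) @IsClosedImmersion).diagonal.comp_mem _ _ hn'
      ((RepWith (S := S) @IsClosedImmersion).diagonal.comp_mem _ _ hfst hsU)
  exact isSeparatedSp_of_comp G.j hj _ hV

end Groth.Agent.Helper2.GpdDecentSep
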