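import Mathlib
import Groth.Prelude.Def_AlgSpGpd
import Groth.Prelude.Def_AlgSpCov
import Groth.Agent.Lib.Helper2.AlgSp.LargestOpen
import Groth.Agent.Lib.Helper2.AlgSp.GpdInv
import Groth.Agent.Lib.Helper2.AlgSp.GpdSp

/-!
# The largest open over which the source map of a groupoid has a local property is invariant
(helper2)
-/

set_option autoImplicit false
open CategoryTheory CategoryTheory.Limits AlgebraicGeometry Opposite AlgSp
open Groth.Agent.Helper2.AlgSpBasic

namespace Groth.Agent.Helper2.GpdLargestOpen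
universe u
variable {S : Scheme.{u}}

/-- A map whose points land in an open subspace factors through it. -/
theorem exists_lift_of_openImm {F U W : Sp S} (w : W ⟶ U) [Mono w]
    (hw : RepWith @IsOpenImmersion w) (f : F ⟶ U)
    (hf : ∀ x : Points F, Points.map f x ∈ Set.range (Points.map w)) :
    ∃ l : F ⟶ W, l ≫ w = f := by
  have sq := IsPullback.of_hasPullback f w
  have h1 : RepWith @IsOpenImmersion (pullback.fst f w) := repWith_of_isPullback _ sq.flip hw
  have hs : IsSurjectiveMor (pullback.fst f w) := by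
    intro x
    obtain ⟨y, hy⟩ := hf x
    obtain ⟨p, hp, _⟩ := points_exists_of_isPullback w f (pullback.fst f w) (pullback.snd f w)
      sq x y hy.symm
    exact ⟨p, hp⟩
  have h2 : RepWith @Surjective (pullback.fst f w) :=
    repWith_surjective_of_isSurjectiveMor _ h1.rep hs
  haveI : Sheaf.IsLocallySurjective (pullback.fst f w) :=
    isLocallySurjective_of_etale_surjective _ (repWith_isOpenImmersion_le_etale h1) h2
  haveI : Epi (pullback.fst f w) := (Sheaf.isLocallySurjective_iff_epi _).mp inferInstance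
  haveI : Mono (pullback.fst f w) := inferInstance
  haveI : IsIso (pullback.fst f w) := isIso_of_mono_of_epi _
  refine ⟨inv (pullback.fst f w) ≫ pullback.snd f w, ?_⟩
  rw [Category.assoc, ← pullback.condition, IsIso.inv_hom_id_assoc]

theorem range_subset_of_factor {A B U : Sp S} (a : A ⟶ U) (b : B ⟶ U) (k : A ⟶ B)
    (hk : k ≫ b = a) : Set.range (Points.map a) ⊆ Set.range (Points.map b) := by
  rintro _ ⟨x, rfl⟩
  exact ⟨Points.map k x, by rw [← Points.map_comp, hk]⟩


section Main
variable {B : Sp S} (G : GroupoidSp B) {Q P : MorphismProperty (Sp S)}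

open Groth.Agent.Helper2.GpdSp Groth.Agent.Helper2.GpdInv

/-- If `s(t⁻¹ V) ⊆ V` for the set of points `V` of an open subspace `w`, then `w` is invariant. -/
theorem isInvariant_of_sat_subset {W : Sp S} (w : W ⟶ G.U) (hw : RepWith @IsOpenImmersion w)
    (key : Points.map G.s '' (Points.map G.t ⁻¹' Set.range (Points.map w)) ⊆
      Set.range (Points.map w)) : G.IsInvariant w := by
  intro T r
  rw [factors_iff_points_of_openImm w hw, factors_iff_points_of_openImm w hw]
  constructor
  · intro h x
    apply key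
    refine ⟨Points.map r x, ?_, ?_⟩
    · change Points.map G.t (Points.map r x) ∈ Set.range (Points.map w)
      rw [← Points.map_comp]; exact h x
    · rw [← Points.map_comp]
  · intro h x
    apply key
    refine ⟨Points.map G.i (Points.map r x), ?_, ?_⟩
    · change Points.map G.t (Points.map G.i (Points.map r x)) ∈ Set.range (Points.map w)
      rw [← Points.map_comp G.i G.t, G.i_t, ← Points.map_comp]; exact h x
    · rw [← Points.map_comp G.i G.s, G.i_s, ← Points.map_comp]

theorem isInvariant_largest (hQ : CovClass Q)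
    (hP : IsLocalOnBase (fun _ _ Y g => IsCover Q Y g) P)
    (hU : IsAlgSpace G.U) (hR : IsAlgSpace G.R) (hs : Q G.s) (ht : Q G.t)
    {W : Sp S} (hWsp : IsAlgSpace W) (w : W ⟶ G.U) [Mono w] (hw : RepWith @IsOpenImmersion w)
    (hmax : ∀ (W' : Sp S) (w' : W' ⟶ G.U), IsAlgSpace W' → RepWith @IsOpenImmersion w' →
      (P (pullback.snd G.s w') ↔ ∃ k : W' ⟶ W, k ≫ w = w')) :
    G.IsInvariant w := by
  apply isInvariant_of_sat_subset G w hw
  have hVo : IsOpen (Set.range (Points.map w)) := by
    rw [← Set.image_univ]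
    exact hQ.isOpenMap w hWsp hU (hQ.ofOI w hWsp hU hw) _ isOpen_univ
  have hAo : IsOpen (Points.map G.t ⁻¹' Set.range (Points.map w)) :=
    hVo.preimage (Points.continuous_map G.t)
  have hOo : IsOpen (Points.map G.s '' (Points.map G.t ⁻¹' Set.range (Points.map w))) :=
    hQ.isOpenMap G.s hR hU hs _ hAo
  generalize hAdef : Points.map G.t ⁻¹' Set.range (Points.map w) = A at hAo hOo ⊢
  generalize hOdef : Points.map G.s '' A = O at hOo ⊢
  have h𝒱 : IsAlgSpace (openSub G.R A) := isAlgSpace_openSub hR hAo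
  have h𝒪 : IsAlgSpace (openSub G.U O) := isAlgSpace_openSub hU hOo
  -- the restrictions of `t` and `s`
  obtain ⟨tV, htV⟩ := exists_lift_of_openImm w hw (openSubι G.R A ≫ G.t) (fun x => by
    rw [Points.map_comp]
    exact (Set.ext_iff.mp hAdef _).mpr (points_map_openSubι_mem G.R A x))
  have hsVpts : ∀ x : Points (openSub G.R A), Points.map (openSubι G.R A ≫ G.s) x ∈ O := by
    intro x
    rw [Points.map_comp, ← hOdef]
    exact ⟨_, points_map_openSubι_mem G.R A x, rfl⟩
  have hsV : openSubLift O (openSubι G.R A ≫ G.s) hsVpts ≫ openSubι G.U O =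
      openSubι G.R A ≫ G.s := openSubLift_ι _ _ _
  -- `P` holds for `s⁻¹ W ⟶ W`
  have hPf₁ : P (pullback.snd G.s w) := (hmax W w hWsp hw).mpr ⟨𝟙 W, Category.id_comp w⟩
  have hX₁ : IsAlgSpace (pullback G.s w) :=
    isAlgSpace_of_isPullback hU.diag hR hWsp G.s w _ _ (IsPullback.of_hasPullback _ _)
  have hX₂ : IsAlgSpace (pullback G.s (openSubι G.U O)) :=
    isAlgSpace_of_isPullback hU.diag hR h𝒪 G.s _ _ _ (IsPullback.of_hasPullback _ _)
  have hX₀ : IsAlgSpace (pullback G.s (openSubι G.R A ≫ G.t)) :=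
    isAlgSpace_of_isPullback hU.diag hR h𝒱 G.s _ _ _ (IsPullback.of_hasPullback _ _)
  -- `t_V` is a base change of `t`
  have sqt : IsPullback (openSubι G.R A) tV G.t w := by
    refine isPullback_of_existsUnique htV.symm ?_ ?_
    · intro Z a b hab
      have hpts : ∀ x : Points Z, Points.map a x ∈ A := by
        intro x
        rw [← hAdef]
        change Points.map G.t (Points.map a x) ∈ Set.range (Points.map w)
        rw [← Points.map_comp, hab, Points.map_comp]
        exact ⟨_, rfl⟩
      refine ⟨openSubLift A a hpts, openSubLift_ι _ _ _, ?_⟩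
      rw [← cancel_mono w, Category.assoc, htV, ← Category.assoc, openSubLift_ι, hab]
    · intro Z l l' h1 _
      exact (cancel_mono (openSubι G.R A)).mp h1
  have hQtV : Q tV := hQ.baseChange G.t w _ tV hR hU hWsp h𝒱 sqt ht
  -- Square 1
  have cond₀ : pullback.fst G.s (openSubι G.R A ≫ G.t) ≫ G.s =
      pullback.snd G.s (openSubι G.R A ≫ G.t) ≫ openSubι G.R A ≫ G.t := pullback.condition
  have c1 : pullback.fst G.s (openSubι G.R A ≫ G.t) ≫ G.s =
      (pullback.snd G.s (openSubι G.R A ≫ G.t) ≫ tV) ≫ w := by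
    rw [Category.assoc, htV]; exact cond₀
  have sq1 : IsPullback (pullback.lift _ _ c1) (pullback.snd G.s (openSubι G.R A ≫ G.t))
      (pullback.snd G.s w) tV := by
    refine IsPullback.of_right ?_ (pullback.lift_snd _ _ c1) (IsPullback.of_hasPullback G.s w)
    rw [pullback.lift_fst, htV]
    exact IsPullback.of_hasPullback _ _
  have hPp₀ : P (pullback.snd G.s (openSubι G.R A ≫ G.t)) :=
    of_baseChange_cover hQ hP hX₁ hWsp h𝒱 hX₀ sq1 hQtV hPf₁
  -- `s_V` is a covering morphism
  have hA' : IsOpen (Points.map G.s ⁻¹' O) := hOo.preimage (Points.continuous_map G.s)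
  have hA'sp : IsAlgSpace (openSub G.R (Points.map G.s ⁻¹' O)) := isAlgSpace_openSub hR hA'
  have hincl_pts : ∀ x : Points (openSub G.R A),
      Points.map (openSubι G.R A) x ∈ Points.map G.s ⁻¹' O := by
    intro x
    change Points.map G.s (Points.map (openSubι G.R A) x) ∈ O
    rw [← Points.map_comp]
    exact hsVpts x
  have hincl : openSubLift (Points.map G.s ⁻¹' O) (openSubι G.R A) hincl_pts ≫
      openSubι G.R (Points.map G.s ⁻¹' O) = openSubι G.R A := openSubLift_ι _ _ _
  have hQincl : Q (openSubLift (Points.map G.s ⁻¹' O) (openSubι G.R A) hincl_pts) :=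
    hQ.ofOI _ h𝒱 hA'sp (repWith_lift_of_mono @IsOpenImmersion _ _ _ hincl
      (repWith_isOpenImmersion_openSubι G.R hAo))
  have hQs' : Q (openSubMap G.s O) :=
    hQ.baseChange G.s (openSubι G.U O) _ _ hR hU h𝒪 hA'sp (isPullback_openSubMap G.s O) hs
  have hsVfac : openSubLift O (openSubι G.R A ≫ G.s) hsVpts =
      openSubLift (Points.map G.s ⁻¹' O) (openSubι G.R A) hincl_pts ≫ openSubMap G.s O := by
    rw [← cancel_mono (openSubι G.U O), hsV, Category.assoc, openSubMap_ι, ← Category.assoc,
      hincl]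
  have hQsV : Q (openSubLift O (openSubι G.R A ≫ G.s) hsVpts) := by
    rw [hsVfac]
    exact hQ.comp _ _ h𝒱 hA'sp h𝒪 hQincl hQs'
  have hsVsurj : Function.Surjective
      (Points.map (openSubLift O (openSubι G.R A ≫ G.s) hsVpts)) := by
    intro y
    have hy := (Set.ext_iff.mp hOdef _).mpr (points_map_openSubι_mem G.U O y)
    obtain ⟨a, ha, hay⟩ := hy
    have ha' : a ∈ Set.range (Points.map (openSubι G.R A)) := by
      rw [range_points_map_openSubι]; exact ha
    obtain ⟨x, rfl⟩ := ha'
    refine ⟨x, ?_⟩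
    apply injective_points_map_of_mono (openSubι G.U O)
    rw [← Points.map_comp, hsV, Points.map_comp]
    exact hay
  -- Square 2
  have cm : pullback.fst G.s (openSubι G.R A ≫ G.t) ≫ G.s =
      (pullback.snd G.s (openSubι G.R A ≫ G.t) ≫ openSubι G.R A) ≫ G.t := by
    rw [Category.assoc]; exact cond₀
  have sqL : IsPullback (pullback.lift _ _ cm) (pullback.snd G.s (openSubι G.R A ≫ G.t))
      (pullback.snd G.s G.t) (openSubι G.R A) := by
    refine IsPullback.of_right ?_ (pullback.lift_snd _ _ cm) (IsPullback.of_hasPullback G.s G.t)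
    rw [pullback.lift_fst]
    exact IsPullback.of_hasPullback _ _
  have outer2 := sqL.paste_horiz (isPullback_c_snd G)
  have c2 : (pullback.lift _ _ cm ≫ G.c) ≫ G.s =
      (pullback.snd G.s (openSubι G.R A ≫ G.t) ≫
        openSubLift O (openSubι G.R A ≫ G.s) hsVpts) ≫ openSubι G.U O := by
    rw [Category.assoc _ _ (openSubι G.U O), hsV]
    exact outer2.w
  have sq2 : IsPullback (pullback.lift _ _ c2) (pullback.snd G.s (openSubι G.R A ≫ G.t))
      (pullback.snd G.s (openSubι G.U O)) (openSubLift O (openSubι G.R A ≫ G.s) hsVpts) := by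
    refine IsPullback.of_right ?_ (pullback.lift_snd _ _ c2)
      (IsPullback.of_hasPullback G.s (openSubι G.U O))
    rw [pullback.lift_fst, hsV]
    exact outer2
  have hPf₂ : P (pullback.snd G.s (openSubι G.U O)) :=
    (iff_of_singleton_cover hP hX₂ h𝒪 h𝒱 hX₀ sq2 hQsV hsVsurj).mpr hPp₀
  obtain ⟨k, hk⟩ := (hmax _ (openSubι G.U O) h𝒪 (repWith_isOpenImmersion_openSubι G.U hOo)).mp hPf₂
  have := range_subset_of_factor (openSubι G.U O) w k hk
  rwa [range_points_map_openSubι] at this

theorem sat_subset_of_transport {X : Sp S} (f : X ⟶ G.U) (hXsp : IsAlgSpace X) (hQ : CovClass Q)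
    (hP : IsLocalOnBase (fun _ _ Y g => IsCover Q Y g) P)
    (hU : IsAlgSpace G.U) (hR : IsAlgSpace G.R) (hs : Q G.s) (ht : Q G.t)
    {W : Sp S} (hWsp : IsAlgSpace W) (w : W ⟶ G.U) [Mono w] (hw : RepWith @IsOpenImmersion w)
    (hmax : ∀ (W' : Sp S) (w' : W' ⟶ G.U), IsAlgSpace W' → RepWith @IsOpenImmersion w' →
      (P (pullback.snd f w') ↔ ∃ k : W' ⟶ W, k ≫ w = w'))
    (htr : ∀ (𝒱 : Sp S) (v : 𝒱 ⟶ G.R), ∃ κ : pullback f (v ≫ G.t) ⟶ X,
      IsPullback κ (pullback.snd f (v ≫ G.t)) f (v ≫ G.s)) :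
    Points.map G.s '' (Points.map G.t ⁻¹' Set.range (Points.map w)) ⊆
      Set.range (Points.map w) := by
  have hVo : IsOpen (Set.range (Points.map w)) := by
    rw [← Set.image_univ]
    exact hQ.isOpenMap w hWsp hU (hQ.ofOI w hWsp hU hw) _ isOpen_univ
  have hAo : IsOpen (Points.map G.t ⁻¹' Set.range (Points.map w)) :=
    hVo.preimage (Points.continuous_map G.t)
  have hOo : IsOpen (Points.map G.s '' (Points.map G.t ⁻¹' Set.range (Points.map w))) :=
    hQ.isOpenMap G.s hR hU hs _ hAo
  generalize hAdef : Points.map G.t ⁻¹' Set.range (Points.map w) = A at hAo hOo ⊢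
  generalize hOdef : Points.map G.s '' A = O at hOo ⊢
  have h𝒱 : IsAlgSpace (openSub G.R A) := isAlgSpace_openSub hR hAo
  have h𝒪 : IsAlgSpace (openSub G.U O) := isAlgSpace_openSub hU hOo
  -- the restrictions of `t` and `s`
  obtain ⟨tV, htV⟩ := exists_lift_of_openImm w hw (openSubι G.R A ≫ G.t) (fun x => by
    rw [Points.map_comp]
    exact (Set.ext_iff.mp hAdef _).mpr (points_map_openSubι_mem G.R A x))
  have hsVpts : ∀ x : Points (openSub G.R A), Points.map (openSubι G.R A ≫ G.s) x ∈ O := by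
    intro x
    rw [Points.map_comp, ← hOdef]
    exact ⟨_, points_map_openSubι_mem G.R A x, rfl⟩
  have hsV : openSubLift O (openSubι G.R A ≫ G.s) hsVpts ≫ openSubι G.U O =
      openSubι G.R A ≫ G.s := openSubLift_ι _ _ _
  -- `P` holds for `s⁻¹ W ⟶ W`
  have hPf₁ : P (pullback.snd f w) := (hmax W w hWsp hw).mpr ⟨𝟙 W, Category.id_comp w⟩
  have hX₁ : IsAlgSpace (pullback f w) :=
    isAlgSpace_of_isPullback hU.diag hXsp hWsp f w _ _ (IsPullback.of_hasPullback _ _)
  have hX₂ : IsAlgSpace (pullback f (openSubι G.U O)) :=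
    isAlgSpace_of_isPullback hU.diag hXsp h𝒪 f _ _ _ (IsPullback.of_hasPullback _ _)
  have hX₀ : IsAlgSpace (pullback f (openSubι G.R A ≫ G.t)) :=
    isAlgSpace_of_isPullback hU.diag hXsp h𝒱 f _ _ _ (IsPullback.of_hasPullback _ _)
  -- `t_V` is a base change of `t`
  have sqt : IsPullback (openSubι G.R A) tV G.t w := by
    refine isPullback_of_existsUnique htV.symm ?_ ?_
    · intro Z a b hab
      have hpts : ∀ x : Points Z, Points.map a x ∈ A := by
        intro x
        rw [← hAdef]
        change Points.map G.t (Points.map a x) ∈ Set.range (Points.map w)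
        rw [← Points.map_comp, hab, Points.map_comp]
        exact ⟨_, rfl⟩
      refine ⟨openSubLift A a hpts, openSubLift_ι _ _ _, ?_⟩
      rw [← cancel_mono w, Category.assoc, htV, ← Category.assoc, openSubLift_ι, hab]
    · intro Z l l' h1 _
      exact (cancel_mono (openSubι G.R A)).mp h1
  have hQtV : Q tV := hQ.baseChange G.t w _ tV hR hU hWsp h𝒱 sqt ht
  -- Square 1
  have cond₀ : pullback.fst f (openSubι G.R A ≫ G.t) ≫ f =
      pullback.snd f (openSubι G.R A ≫ G.t) ≫ openSubι G.R A ≫ G.t := pullback.condition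
  have c1 : pullback.fst f (openSubι G.R A ≫ G.t) ≫ f =
      (pullback.snd f (openSubι G.R A ≫ G.t) ≫ tV) ≫ w := by
    rw [Category.assoc, htV]; exact cond₀
  have sq1 : IsPullback (pullback.lift _ _ c1) (pullback.snd f (openSubι G.R A ≫ G.t))
      (pullback.snd f w) tV := by
    refine IsPullback.of_right ?_ (pullback.lift_snd _ _ c1) (IsPullback.of_hasPullback f w)
    rw [pullback.lift_fst, htV]
    exact IsPullback.of_hasPullback _ _
  have hPp₀ : P (pullback.snd f (openSubι G.R A ≫ G.t)) :=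
    of_baseChange_cover hQ hP hX₁ hWsp h𝒱 hX₀ sq1 hQtV hPf₁
  -- `s_V` is a covering morphism
  have hA' : IsOpen (Points.map G.s ⁻¹' O) := hOo.preimage (Points.continuous_map G.s)
  have hA'sp : IsAlgSpace (openSub G.R (Points.map G.s ⁻¹' O)) := isAlgSpace_openSub hR hA'
  have hincl_pts : ∀ x : Points (openSub G.R A),
      Points.map (openSubι G.R A) x ∈ Points.map G.s ⁻¹' O := by
    intro x
    change Points.map G.s (Points.map (openSubι G.R A) x) ∈ O
    rw [← Points.map_comp]
    exact hsVpts x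
  have hincl : openSubLift (Points.map G.s ⁻¹' O) (openSubι G.R A) hincl_pts ≫
      openSubι G.R (Points.map G.s ⁻¹' O) = openSubι G.R A := openSubLift_ι _ _ _
  have hQincl : Q (openSubLift (Points.map G.s ⁻¹' O) (openSubι G.R A) hincl_pts) :=
    hQ.ofOI _ h𝒱 hA'sp (repWith_lift_of_mono @IsOpenImmersion _ _ _ hincl
      (repWith_isOpenImmersion_openSubι G.R hAo))
  have hQs' : Q (openSubMap G.s O) :=
    hQ.baseChange G.s (openSubι G.U O) _ _ hR hU h𝒪 hA'sp (isPullback_openSubMap G.s O) hs
  have hsVfac : openSubLift O (openSubι G.R A ≫ G.s) hsVpts =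
      openSubLift (Points.map G.s ⁻¹' O) (openSubι G.R A) hincl_pts ≫ openSubMap G.s O := by
    rw [← cancel_mono (openSubι G.U O), hsV, Category.assoc, openSubMap_ι, ← Category.assoc,
      hincl]
  have hQsV : Q (openSubLift O (openSubι G.R A ≫ G.s) hsVpts) := by
    rw [hsVfac]
    exact hQ.comp _ _ h𝒱 hA'sp h𝒪 hQincl hQs'
  have hsVsurj : Function.Surjective
      (Points.map (openSubLift O (openSubι G.R A ≫ G.s) hsVpts)) := by
    intro y
    have hy := (Set.ext_iff.mp hOdef _).mpr (points_map_openSubι_mem G.U O y)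
    obtain ⟨a, ha, hay⟩ := hy
    have ha' : a ∈ Set.range (Points.map (openSubι G.R A)) := by
      rw [range_points_map_openSubι]; exact ha
    obtain ⟨x, rfl⟩ := ha'
    refine ⟨x, ?_⟩
    apply injective_points_map_of_mono (openSubι G.U O)
    rw [← Points.map_comp, hsV, Points.map_comp]
    exact hay
  -- Square 2
  obtain ⟨κ, outer2⟩ := htr _ (openSubι G.R A)
  have c2 : κ ≫ f =
      (pullback.snd f (openSubι G.R A ≫ G.t) ≫
        openSubLift O (openSubι G.R A ≫ G.s) hsVpts) ≫ openSubι G.U O := by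
    rw [Category.assoc _ _ (openSubι G.U O), hsV]
    exact outer2.w
  have sq2 : IsPullback (pullback.lift _ _ c2) (pullback.snd f (openSubι G.R A ≫ G.t))
      (pullback.snd f (openSubι G.U O)) (openSubLift O (openSubι G.R A ≫ G.s) hsVpts) := by
    refine IsPullback.of_right ?_ (pullback.lift_snd _ _ c2)
      (IsPullback.of_hasPullback f (openSubι G.U O))
    rw [pullback.lift_fst, hsV]
    exact outer2
  have hPf₂ : P (pullback.snd f (openSubι G.U O)) :=
    (iff_of_singleton_cover hP hX₂ h𝒪 h𝒱 hX₀ sq2 hQsV hsVsurj).mpr hPp₀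
  obtain ⟨k, hk⟩ := (hmax _ (openSubι G.U O) h𝒪 (repWith_isOpenImmersion_openSubι G.U hOo)).mp hPf₂
  have := range_subset_of_factor (openSubι G.U O) w k hk
  rwa [range_points_map_openSubι] at this


end Main

end Groth.Agent.Helper2.GpdLargestOpen
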