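import Mathlib
import Groth.Prelude.Def_AlgSpGpd
import Groth.Agent.Lib.Helper2.AlgSp.Basic
import Groth.Agent.Lib.Helper2.AlgSp.LocP

/-!
# Restriction of groupoids in algebraic spaces (helper2)
-/

set_option autoImplicit false
open CategoryTheory CategoryTheory.Limits AlgebraicGeometry Opposite AlgSp
open Groth.Agent.Helper2.AlgSpBasic Groth.Agent.Helper2.EtaleLocal

namespace Groth.Agent.Helper2.GpdRestr
universe u
variable {S : Scheme.{u}}

section Abstract
variable {U R U' R' : Sp S} (s t : R ⟶ U) (s' t' : R' ⟶ U') (g : U' ⟶ U) (fR : R' ⟶ R)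

/-- The universal property of `R' = U' ×_{g,U,t} R ×_{s,U,g} U'` (symmetric in `s, t`). -/
structure IsRestr : Prop where
  hs : fR ≫ s = s' ≫ g
  ht : fR ≫ t = t' ≫ g
  ex : ∀ {A : Sp S} (r : A ⟶ R) (a b : A ⟶ U'), a ≫ g = r ≫ t → b ≫ g = r ≫ s →
    ∃ l : A ⟶ R', l ≫ fR = r ∧ l ≫ t' = a ∧ l ≫ s' = b
  uniq : ∀ {A : Sp S} (l l' : A ⟶ R'), l ≫ fR = l' ≫ fR → l ≫ t' = l' ≫ t' → l ≫ s' = l' ≫ s' →
    l = l'

variable {s t s' t' g fR}

theorem IsRestr.swap (h : IsRestr s t s' t' g fR) : IsRestr t s t' s' g fR where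
  hs := h.ht
  ht := h.hs
  ex r a b ha hb := by
    obtain ⟨l, h1, h2, h3⟩ := h.ex r b a hb ha
    exact ⟨l, h1, h3, h2⟩
  uniq l l' h1 h2 h3 := h.uniq l l' h1 h3 h2

/-- `R' ⟶ R ×_{s,U,g} U'` is the base change of `g` along `t ∘ pr₁`. -/
theorem IsRestr.isPullback (h : IsRestr s t s' t' g fR) :
    IsPullback t' (pullback.lift fR s' h.hs) g (pullback.fst s g ≫ t) := by
  refine isPullback_of_existsUnique ?_ ?_ ?_
  · rw [← Category.assoc, pullback.lift_fst, h.ht]
  · intro A a b hab
    obtain ⟨l, h1, h2, h3⟩ := h.ex (b ≫ pullback.fst s g) a (b ≫ pullback.snd s g)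
      (by rw [hab, Category.assoc])
      (by rw [Category.assoc, Category.assoc, pullback.condition])
    refine ⟨l, h2, ?_⟩
    apply pullback.hom_ext
    · rw [Category.assoc, pullback.lift_fst, h1]
    · rw [Category.assoc, pullback.lift_snd, h3]
  · intro A l l' h1 h2
    refine h.uniq l l' ?_ h1 ?_
    · have := congrArg (· ≫ pullback.fst s g) h2
      simpa only [Category.assoc, pullback.lift_fst] using this
    · have := congrArg (· ≫ pullback.snd s g) h2
      simpa only [Category.assoc, pullback.lift_snd] using this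

theorem IsRestr.locP_s (Q : MorphismProperty Scheme.{u}) [IsEtaleLocalST Q]
    (h : IsRestr s t s' t' g fR) (hU : IsAlgSpace U) (hR : IsAlgSpace R) (hU' : IsAlgSpace U')
    (hR' : IsAlgSpace R') (hQs : LocP Q s) (hQg : LocP Q g) : LocP Q s' := by
  have hP : IsAlgSpace (pullback s g) :=
    isAlgSpace_of_isPullback hU.diag hR hU' s g _ _ (IsPullback.of_hasPullback s g)
  have h1 : LocP Q (pullback.snd s g) :=
    locP_of_isPullback Q hR hU hU' hP s g _ _ (IsPullback.of_hasPullback s g) hQs
  have h2 : LocP Q (pullback.lift fR s' h.hs) :=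
    locP_of_isPullback Q hU' hU hP hR' g (pullback.fst s g ≫ t) t' _ h.isPullback hQg
  have h3 := locP_comp Q hR' hP hU' _ _ h2 h1
  rwa [pullback.lift_snd] at h3

end Abstract

section Gpd
variable {B : Sp S} {G' G : GroupoidSp B} (φ : GroupoidSp.Hom G' G)

theorem isRestr_of_isRestriction (hφ : φ.IsRestriction) :
    IsRestr G.s G.t G'.s G'.t φ.fU φ.fR where
  hs := φ.comm_s
  ht := φ.comm_t
  ex {A} r a b ha hb := by
    have hab : a ≫ G'.pU = b ≫ G'.pU := by
      rw [← φ.fU_over, ← Category.assoc, ← Category.assoc, ha, hb, Category.assoc, Category.assoc,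
        G.t_over, G.s_over]
    have hc : r ≫ G.j = pullback.lift a b hab ≫ φ.prodMap := by
      apply pullback.hom_ext
      · rw [Category.assoc, GroupoidSp.j_fst, Category.assoc]
        unfold GroupoidSp.Hom.prodMap
        rw [pullback.lift_fst, ← Category.assoc, pullback.lift_fst, ha]
      · rw [Category.assoc, GroupoidSp.j_snd, Category.assoc]
        unfold GroupoidSp.Hom.prodMap
        rw [pullback.lift_snd, ← Category.assoc, pullback.lift_snd, hb]
    refine ⟨hφ.lift r (pullback.lift a b hab) hc, hφ.lift_fst _ _ _, ?_, ?_⟩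
    · have := hφ.lift_snd r (pullback.lift a b hab) hc
      have h2 := congrArg (· ≫ pullback.fst G'.pU G'.pU) this
      simpa only [Category.assoc, GroupoidSp.j_fst, pullback.lift_fst] using h2
    · have := hφ.lift_snd r (pullback.lift a b hab) hc
      have h2 := congrArg (· ≫ pullback.snd G'.pU G'.pU) this
      simpa only [Category.assoc, GroupoidSp.j_snd, pullback.lift_snd] using h2
  uniq {A} l l' h1 h2 h3 := by
    apply hφ.hom_ext h1
    apply pullback.hom_ext
    · rw [Category.assoc, Category.assoc, GroupoidSp.j_fst, h2]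
    · rw [Category.assoc, Category.assoc, GroupoidSp.j_snd, h3]

end Gpd

end Groth.Agent.Helper2.GpdRestr
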