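import Mathlib
import Groth.Prelude.Def_AlgSpGpd
import Groth.Prelude.Def_AlgSp4
import Groth.Agent.Lib.Helper2.AlgSp.GpdRestr
import Groth.Agent.Lib.Helper2.AlgSp.GpdCompFlat
import Groth.Agent.Lib.Helper2.AlgSp.SepDescent
import Groth.Agent.Lib.Helper2.AlgSp.ComplAffine

/-!
# Restriction of a groupoid over a field along a field extension (helper2)
-/

set_option autoImplicit false
open CategoryTheory CategoryTheory.Limits AlgebraicGeometry Opposite AlgSp
open Groth.Agent.Helper2.AlgSpBasic Groth.Agent.Helper2.GpdCompFlat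

namespace Groth.Agent.Helper2.GpdRestrField
universe u
variable {S : Scheme.{u}}

/-- Base change of affine morphisms. -/
theorem isAffineMor_of_isPullback {X Y X' Y' : Sp S} {f : X ⟶ Y} {g : Y' ⟶ Y} {fst : X' ⟶ X}
    {f' : X' ⟶ Y'} (sq : IsPullback fst f' f g) (hf : IsAffineMor f) : IsAffineMor f' := by
  intro Z hZ z
  obtain ⟨W, i, fst₀, sq₀, hW⟩ := hf hZ (z ≫ g)
  refine ⟨W, i, sq.lift fst₀ ((yon S).map i ≫ z) (by rw [sq₀.w, Category.assoc]), ?_, hW⟩
  refine IsPullback.of_right ?_ (sq.lift_snd _ _ _) sq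
  rw [sq.lift_fst]
  exact sq₀

/-- Composition of affine morphisms. -/
theorem isAffineMor_comp {X Y Z : Sp S} (f : X ⟶ Y) (g : Y ⟶ Z) (hf : IsAffineMor f)
    (hg : IsAffineMor g) : IsAffineMor (f ≫ g) := by
  intro T hT t
  obtain ⟨W₁, i₁, fst₁, sq₁, hW₁⟩ := hg hT t
  obtain ⟨W₂, i₂, fst₂, sq₂, hW₂⟩ := hf hW₁ fst₁
  refine ⟨W₂, i₂ ≫ i₁, fst₂, ?_, hW₂⟩
  rw [Functor.map_comp]
  exact sq₂.paste_vert sq₁

theorem isAffineMor_of_isIso {X Y : Sp S} (e : X ⟶ Y) [IsIso e] : IsAffineMor e := by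
  intro Z hZ z
  refine ⟨Z, 𝟙 Z, z ≫ inv e, ?_, hZ⟩
  rw [(yon S).map_id]
  exact IsPullback.of_vert_isIso ⟨by simp⟩

/-- Composition of universally-`Q` morphisms of algebraic spaces. -/
theorem univSp_comp (Q : MorphismProperty (Sp S)) [Q.IsStableUnderComposition] {X Y Z : Sp S}
    (hY : IsAlgSpace Y) (hZ : IsAlgSpace Z) (f : X ⟶ Y) (g : Y ⟶ Z) (hf : UnivSp Q f)
    (hg : UnivSp Q g) : UnivSp Q (f ≫ g) := by
  intro T T' hT t fst snd sq
  have sq₁ := IsPullback.of_hasPullback g t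
  have hT₁ : IsAlgSpace (pullback g t) := isAlgSpace_of_isPullback hZ.diag hY hT g t _ _ sq₁
  have hw : (fst ≫ f) ≫ g = snd ≫ t := by rw [Category.assoc]; exact sq.w
  have sq₂ : IsPullback fst (pullback.lift (fst ≫ f) snd hw) f (pullback.fst g t) := by
    refine IsPullback.of_bot ?_ (pullback.lift_fst _ _ _).symm sq₁
    rw [pullback.lift_snd]
    exact sq
  have h1 : Q (pullback.lift (fst ≫ f) snd hw) := hf hT₁ _ _ _ sq₂
  have h2 : Q (pullback.snd g t) := hg hT _ _ _ sq₁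
  have := Q.comp_mem _ _ h1 h2
  rwa [pullback.lift_snd] at this

instance : (IsOpenMor (S := S)).IsStableUnderComposition where
  comp_mem f g hf hg := by
    show IsOpenMap (Points.map (f ≫ g))
    have : Points.map (f ≫ g) = Points.map g ∘ Points.map f := by
      funext x; exact Points.map_comp _ _ _
    rw [this]
    exact IsOpenMap.comp hg hf

/-- The four properties. -/
def Good {X Y : Sp S} (f : X ⟶ Y) : Prop :=
  IsSurjectiveMor f ∧ LocP @Flat f ∧ IsUnivOpenMor f ∧ IsAffineMor f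

theorem Good.of_isPullback {X Y X' Y' : Sp S} (hX : IsAlgSpace X) (hY : IsAlgSpace Y)
    (hY' : IsAlgSpace Y') (hX' : IsAlgSpace X') {f : X ⟶ Y} {g : Y' ⟶ Y} {fst : X' ⟶ X}
    {f' : X' ⟶ Y'} (sq : IsPullback fst f' f g) (hf : Good f) : Good f' :=
  ⟨isSurjectiveMor_of_isPullback f g fst f' sq hf.1,
    locP_of_isPullback @Flat hX hY hY' hX' f g fst f' sq hf.2.1,
    univSp_of_isPullback' _ sq hf.2.2.1, isAffineMor_of_isPullback sq hf.2.2.2⟩

theorem Good.comp {X Y Z : Sp S} (hX : IsAlgSpace X) (hY : IsAlgSpace Y) (hZ : IsAlgSpace Z)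
    {f : X ⟶ Y} {g : Y ⟶ Z} (hf : Good f) (hg : Good g) : Good (f ≫ g) :=
  ⟨Groth.Agent.Helper2.AlgSpBasic.isSurjectiveMor_comp f g hf.1 hg.1,
    locP_comp @Flat hX hY hZ f g hf.2.1 hg.2.1,
    univSp_comp _ hY hZ f g hf.2.2.1 hg.2.2.1, isAffineMor_comp f g hf.2.2.2 hg.2.2.2⟩

theorem isSurjectiveMor_of_isIso {X Y : Sp S} (e : X ⟶ Y) [IsIso e] : IsSurjectiveMor e :=
  fun y => ⟨Points.map (inv e) y, by rw [← Points.map_comp, IsIso.inv_hom_id, Points.map_id]⟩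

theorem isSurjectiveMor_of_section {X Y : Sp S} (f : X ⟶ Y) (e : Y ⟶ X) (h : e ≫ f = 𝟙 Y) :
    IsSurjectiveMor f :=
  fun y => ⟨Points.map e y, by rw [← Points.map_comp, h, Points.map_id]⟩

variable {B : Sp S}

theorem main (G G' : GroupoidSp B) (hR : IsAlgSpace G.R) (hR' : IsAlgSpace G'.R)
    (k k' : Type u) [Field k] [Field k'] [Algebra k k'] (σ : Spec (CommRingCat.of k) ⟶ S)
    (eU : G.U ≅ ((yon S).obj (Over.mk σ)))
    (eU' : G'.U ≅ ((yon S).obj (Over.mk (Spec.map (CommRingCat.ofHom (algebraMap k k')) ≫ σ))))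
    (φ : GroupoidSp.Hom G' G) (hφ : φ.IsRestriction)
    (hfU : φ.fU = eU'.hom ≫ (yon S).map (Over.homMk (Spec.map (CommRingCat.ofHom (algebraMap k k'))) rfl :
      Over.mk (Spec.map (CommRingCat.ofHom (algebraMap k k')) ≫ σ) ⟶ Over.mk σ) ≫ eU.inv) :
    (∀ f ∈ [G.s, G.t], IsSurjectiveMor f ∧ LocP @Flat f ∧ IsUnivOpenMor f) ∧
      (∀ f ∈ [G'.s, G'.t], IsSurjectiveMor f ∧ LocP @Flat f ∧ IsUnivOpenMor f) ∧
      (IsSurjectiveMor φ.fU ∧ LocP @Flat φ.fU ∧ IsUnivOpenMor φ.fU) ∧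
      (IsSurjectiveMor φ.fR ∧ LocP @Flat φ.fR ∧ IsUnivOpenMor φ.fR ∧ IsAffineMor φ.fR) := by
  have hU : IsAlgSpace G.U := isAlgSpace_of_iso eU (IsAlgSpace.yon_obj _)
  have hU' : IsAlgSpace G'.U := isAlgSpace_of_iso eU' (IsAlgSpace.yon_obj _)
  -- the morphism of spectra
  obtain ⟨m, hm⟩ : ∃ m : Over.mk (Spec.map (CommRingCat.ofHom (algebraMap k k')) ≫ σ) ⟶ Over.mk σ,
      m = Over.homMk (Spec.map (CommRingCat.ofHom (algebraMap k k'))) rfl := ⟨_, rfl⟩
  rw [← hm] at hfU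
  have hmsurj : Function.Surjective m.left := by
    rw [hm]
    intro y
    exact ⟨(default : ↥(Spec (CommRingCat.of k'))),
      Subsingleton.elim (α := ↥(Spec (CommRingCat.of k))) _ _⟩
  have hmaff : IsAffineHom m.left := by
    rw [hm]
    exact inferInstanceAs (IsAffineHom (Spec.map (CommRingCat.ofHom (algebraMap k k'))))
  have hfUgood : Good φ.fU := by
    obtain ⟨h1, h2⟩ := flat_univOpen_to_field hU' σ eU φ.fU
    refine ⟨?_, h1, h2, ?_⟩
    · rw [hfU]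
      exact Groth.Agent.Helper2.AlgSpBasic.isSurjectiveMor_comp _ _ (isSurjectiveMor_of_isIso _)
        (Groth.Agent.Helper2.AlgSpBasic.isSurjectiveMor_comp _ _
          ((surjectiveMor_yon_map_iff m).2 hmsurj) (isSurjectiveMor_of_isIso _))
    · rw [hfU]
      exact isAffineMor_comp _ _ (isAffineMor_of_isIso _)
        (isAffineMor_comp _ _ (Groth.Agent.Helper2.ComplAffine.isAffineMor_yon_map m hmaff)
          (isAffineMor_of_isIso _))
  have hs : IsSurjectiveMor G.s ∧ LocP @Flat G.s ∧ IsUnivOpenMor G.s :=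
    ⟨isSurjectiveMor_of_section G.s G.e G.e_s, flat_univOpen_to_field hR σ eU G.s⟩
  have ht : IsSurjectiveMor G.t ∧ LocP @Flat G.t ∧ IsUnivOpenMor G.t :=
    ⟨isSurjectiveMor_of_section G.t G.e G.e_t, flat_univOpen_to_field hR σ eU G.t⟩
  have hs' : IsSurjectiveMor G'.s ∧ LocP @Flat G'.s ∧ IsUnivOpenMor G'.s :=
    ⟨isSurjectiveMor_of_section G'.s G'.e G'.e_s, flat_univOpen_to_field hR' _ eU' G'.s⟩
  have ht' : IsSurjectiveMor G'.t ∧ LocP @Flat G'.t ∧ IsUnivOpenMor G'.t :=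
    ⟨isSurjectiveMor_of_section G'.t G'.e G'.e_t, flat_univOpen_to_field hR' _ eU' G'.t⟩
  -- the arrow map
  have hr := Groth.Agent.Helper2.GpdRestr.isRestr_of_isRestriction φ hφ
  have hP : IsAlgSpace (pullback G.s φ.fU) :=
    isAlgSpace_of_isPullback hU.diag hR hU' G.s φ.fU _ _ (IsPullback.of_hasPullback _ _)
  have g1 : Good (pullback.lift φ.fR G'.s hr.hs) :=
    Good.of_isPullback hU' hU hP hR' hr.isPullback hfUgood
  have g2 : Good (pullback.fst G.s φ.fU) :=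
    Good.of_isPullback hU' hU hR hP (IsPullback.of_hasPullback G.s φ.fU).flip hfUgood
  have g3 := Good.comp hR' hP hR g1 g2
  rw [pullback.lift_fst] at g3
  refine ⟨?_, ?_, ⟨hfUgood.1, hfUgood.2.1, hfUgood.2.2.1⟩, g3⟩
  · intro f hf
    simp only [List.mem_cons, List.mem_nil_iff, or_false] at hf
    rcases hf with rfl | rfl
    · exact hs
    · exact ht
  · intro f hf
    simp only [List.mem_cons, List.mem_nil_iff, or_false] at hf
    rcases hf with rfl | rfl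
    · exact hs'
    · exact ht'

end Groth.Agent.Helper2.GpdRestrField
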