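import Mathlib
import Groth.Prelude.Def_Grpd
import Groth.Agent.Lib.Helper2.AlgSp.QuotOpenSch

/-!
# Groupoid schemes: the induced pre-equivalence relation and saturations (helper2)
-/

set_option autoImplicit false
open CategoryTheory CategoryTheory.Limits AlgebraicGeometry Opposite AlgSp
open Groth.Agent.Helper2.AlgSpBasic

namespace Groth.Agent.Helper2.GpdSchQuot
universe u
variable {S : Scheme.{u}} (G : Grpd.GroupoidScheme S)

abbrev oU : Over S := Over.mk G.pU
abbrev oR : Over S := Over.mk G.pR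
abbrev os : oR G ⟶ oU G := Over.homMk G.s G.s_over
abbrev ot : oR G ⟶ oU G := Over.homMk G.t G.t_over

theorem e_over : G.e ≫ G.pR = G.pU := by
  rw [← G.s_over, ← Category.assoc, G.e_s, Category.id_comp]

theorem i_over : G.i ≫ G.pR = G.pR := by
  rw [← G.s_over, ← Category.assoc, G.i_s, G.t_over, G.s_over]

abbrev oe : oU G ⟶ oR G := Over.homMk G.e (e_over G)
abbrev oi : oR G ⟶ oR G := Over.homMk G.i (i_over G)

theorem c_t : G.c ≫ G.t = pullback.fst G.s G.t ≫ G.t := by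
  have := G.comp_t (pullback.fst G.s G.t) (pullback.snd G.s G.t) pullback.condition
  have h1 : pullback.lift (pullback.fst G.s G.t) (pullback.snd G.s G.t) pullback.condition =
      𝟙 _ := by apply pullback.hom_ext <;> simp
  rwa [h1, Category.id_comp] at this

theorem c_s : G.c ≫ G.s = pullback.snd G.s G.t ≫ G.s := by
  have := G.comp_s (pullback.fst G.s G.t) (pullback.snd G.s G.t) pullback.condition
  have h1 : pullback.lift (pullback.fst G.s G.t) (pullback.snd G.s G.t) pullback.condition =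
      𝟙 _ := by apply pullback.hom_ext <;> simp
  rwa [h1, Category.id_comp] at this

/-- The pre-equivalence relation on `T`-points of `U` induced by a groupoid scheme. -/
theorem isPreEqvRelSp : IsPreEqvRelSp ((yon S).map (os G)) ((yon S).map (ot G)) := by
  intro T
  refine ⟨fun a => ⟨a ≫ (yon S).map (oe G), ?_, ?_⟩, ?_, ?_⟩
  · rw [Category.assoc, ← Functor.map_comp]
    have : oe G ≫ ot G = 𝟙 _ := Over.OverMorphism.ext G.e_t
    rw [this, CategoryTheory.Functor.map_id, Category.comp_id]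
  · rw [Category.assoc, ← Functor.map_comp]
    have : oe G ≫ os G = 𝟙 _ := Over.OverMorphism.ext G.e_s
    rw [this, CategoryTheory.Functor.map_id, Category.comp_id]
  · rintro a b ⟨r, rfl, rfl⟩
    refine ⟨r ≫ (yon S).map (oi G), ?_, ?_⟩
    · rw [Category.assoc, ← Functor.map_comp]
      have : oi G ≫ ot G = os G := Over.OverMorphism.ext G.i_t
      rw [this]
    · rw [Category.assoc, ← Functor.map_comp]
      have : oi G ≫ os G = ot G := Over.OverMorphism.ext G.i_s
      rw [this]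
  · rintro a b c ⟨r₁, rfl, rfl⟩ ⟨r₂, h2, rfl⟩
    obtain ⟨ρ₁, rfl⟩ := (yon S).map_surjective r₁
    obtain ⟨ρ₂, rfl⟩ := (yon S).map_surjective r₂
    have h2' : ρ₂ ≫ ot G = ρ₁ ≫ os G :=
      (yon S).map_injective (by rw [Functor.map_comp, Functor.map_comp]; exact h2)
    have hl : ρ₁.left ≫ G.s = ρ₂.left ≫ G.t := (congrArg (fun m => m.left) h2').symm
    have hover : (pullback.lift ρ₁.left ρ₂.left hl ≫ G.c) ≫ G.pR = T.hom := by
      rw [← G.t_over, ← Category.assoc, G.comp_t ρ₁.left ρ₂.left hl, Category.assoc, G.t_over]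
      exact Over.w ρ₁
    refine ⟨(yon S).map (Over.homMk (pullback.lift ρ₁.left ρ₂.left hl ≫ G.c) hover : T ⟶ oR G),
      ?_, ?_⟩
    · rw [← Functor.map_comp, ← Functor.map_comp]
      congr 1
      exact Over.OverMorphism.ext (G.comp_t ρ₁.left ρ₂.left hl)
    · rw [← Functor.map_comp, ← Functor.map_comp]
      congr 1
      exact Over.OverMorphism.ext (G.comp_s ρ₁.left ρ₂.left hl)

section Sat
variable {U' : Scheme.{u}} (g : U' ⟶ G.U)

/-- The saturation of the image of `g`. -/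
def sat : Set ↥G.U := Set.range ⇑(pullback.snd g G.t ≫ G.s)

theorem mem_sat_iff (u : ↥G.U) : u ∈ sat G g ↔ ∃ (u' : ↥U') (ρ : ↥G.R), G.t ρ = g u' ∧ G.s ρ = u := by
  constructor
  · rintro ⟨z, rfl⟩
    refine ⟨pullback.fst g G.t z, pullback.snd g G.t z, ?_, rfl⟩
    rw [← Scheme.Hom.comp_apply, ← Scheme.Hom.comp_apply, pullback.condition]
  · rintro ⟨u', ρ, h1, rfl⟩
    obtain ⟨z, hz1, hz2⟩ := Scheme.Pullback.exists_preimage_pullback u' ρ h1.symm
    exact ⟨z, by rw [Scheme.Hom.comp_apply, hz2]⟩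

theorem mem_sat_of_t (ρ : ↥G.R) (h : G.t ρ ∈ sat G g) : G.s ρ ∈ sat G g := by
  rw [mem_sat_iff] at h ⊢
  obtain ⟨u', ρ₁, h1, h2⟩ := h
  obtain ⟨y, hy1, hy2⟩ := Scheme.Pullback.exists_preimage_pullback (f := G.s) (g := G.t) ρ₁ ρ h2
  refine ⟨u', G.c y, ?_, ?_⟩
  · rw [← Scheme.Hom.comp_apply, c_t, Scheme.Hom.comp_apply, hy1, h1]
  · rw [← Scheme.Hom.comp_apply, c_s, Scheme.Hom.comp_apply, hy2]

theorem mem_sat_of_s (ρ : ↥G.R) (h : G.s ρ ∈ sat G g) : G.t ρ ∈ sat G g := by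
  have h1 : G.t (G.i ρ) ∈ sat G g := by
    rw [← Scheme.Hom.comp_apply, G.i_t]; exact h
  have := mem_sat_of_t G g (G.i ρ) h1
  rwa [← Scheme.Hom.comp_apply, G.i_s] at this

theorem image_subset_sat (u' : ↥U') : g u' ∈ sat G g := by
  rw [mem_sat_iff]
  refine ⟨u', G.e (g u'), ?_, ?_⟩
  · rw [← Scheme.Hom.comp_apply, G.e_t]; rfl
  · rw [← Scheme.Hom.comp_apply, G.e_s]; rfl

end Sat


section Main
variable {U' : Scheme.{u}} (g : U' ⟶ G.U) (W : G.U.Opens)

open Groth.Agent.Helper2.EpiPullback in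
theorem repWith_isOpenImmersion_quot_restrict
    (hW : (W : Set ↥G.U) = Set.range ⇑(pullback.snd g G.t ≫ G.s))
    (hlift : pullback g G.t ⟶ ↑W) (hh : hlift ≫ W.ι = pullback.snd g G.t ≫ G.s)
    (hsurj : Sheaf.IsLocallySurjective ((AlgSp.yon S).map
      (Over.homMk hlift ((Category.assoc _ _ _).symm.trans (congrArg (· ≫ G.pU) hh)) :
        Over.mk ((pullback.snd g G.t ≫ G.s) ≫ G.pU) ⟶ Over.mk (W.ι ≫ G.pU))))
    (R' : Over S) (s' t' : R' ⟶ Over.mk (g ≫ G.pU)) (r : R' ⟶ Over.mk G.pR)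
    (hsq : IsPullback (prod.lift t' s') r
      (prod.map (Over.homMk g rfl : Over.mk (g ≫ G.pU) ⟶ Over.mk G.pU)
        (Over.homMk g rfl : Over.mk (g ≫ G.pU) ⟶ Over.mk G.pU))
      (prod.lift (Over.homMk G.t G.t_over : Over.mk G.pR ⟶ Over.mk G.pU)
        (Over.homMk G.s G.s_over : Over.mk G.pR ⟶ Over.mk G.pU)))
    (ψ : QuotSh.quot Scheme.fppfPrecoverage s' t' ⟶
      QuotSh.quot Scheme.fppfPrecoverage (Over.homMk G.s G.s_over : Over.mk G.pR ⟶ Over.mk G.pU)
        (Over.homMk G.t G.t_over : Over.mk G.pR ⟶ Over.mk G.pU))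
    (hψ : QuotSh.quotπ Scheme.fppfPrecoverage s' t' ≫ ψ =
      QuotSh.repMap Scheme.fppfPrecoverage
        (Over.homMk g rfl : Over.mk (g ≫ G.pU) ⟶ Over.mk G.pU) ≫
        QuotSh.quotπ Scheme.fppfPrecoverage _ _) :
    AlgSp.RepWith @IsOpenImmersion ψ := by
  have hWs : ∀ u : ↥G.U, u ∈ W ↔ u ∈ sat G g := by
    intro u
    change u ∈ (W : Set ↥G.U) ↔ _
    rw [hW]; rfl
  refine QuotOpenSch.repWith_isOpenImmersion_quot_restrict (os G) (ot G)
    (Over.homMk g rfl : Over.mk (g ≫ G.pU) ⟶ Over.mk G.pU) s' t' r (isPreEqvRelSp G) hsq W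
    ?_ ?_ ?_ ψ hψ
  · intro ρ
    rw [hWs, hWs]
    exact ⟨mem_sat_of_t G g ρ, mem_sat_of_s G g ρ⟩
  · intro u'
    rw [hWs]
    exact image_subset_sat G g u'
  · intro T α hα
    -- factor `α` through `W`
    have hrange : Set.range ⇑α.left ⊆ Set.range ⇑W.ι := by
      rintro _ ⟨x, rfl⟩
      rw [Scheme.Opens.range_ι]
      exact hα x
    let αW : T.left ⟶ ↑W := IsOpenImmersion.lift W.ι α.left hrange
    have hαW : αW ≫ W.ι = α.left := IsOpenImmersion.lift_fac _ _ _
    have hαWo : αW ≫ (W.ι ≫ G.pU) = T.hom := by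
      rw [← Category.assoc, hαW]; exact Over.w α
    let αW' : T ⟶ Over.mk (W.ι ≫ G.pU) := Over.homMk αW hαWo
    haveI := hsurj
    obtain ⟨κ, Wk, p, hp, hs, hl⟩ := exists_family_lift ((AlgSp.yon S).map
      (Over.homMk hlift ((Category.assoc _ _ _).symm.trans (congrArg (· ≫ G.pU) hh)) :
        Over.mk ((pullback.snd g G.t ≫ G.s) ≫ G.pU) ⟶ Over.mk (W.ι ≫ G.pU)))
      ((yon S).map αW')
    refine ⟨κ, Wk, p, hp, hs, fun k => ?_⟩
    obtain ⟨l, hl⟩ := hl k
    obtain ⟨lam, rfl⟩ := (yon S).map_surjective l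
    have hlam : lam ≫ (Over.homMk hlift ((Category.assoc _ _ _).symm.trans
        (congrArg (· ≫ G.pU) hh)) :
        Over.mk ((pullback.snd g G.t ≫ G.s) ≫ G.pU) ⟶ Over.mk (W.ι ≫ G.pU)) = p k ≫ αW' :=
      (yon S).map_injective (by rw [Functor.map_comp, Functor.map_comp]; exact hl)
    have hlam' : lam.left ≫ hlift = (p k).left ≫ αW := congrArg (fun m => m.left) hlam
    have hfst : pullback.fst g G.t ≫ (g ≫ G.pU) = (pullback.snd g G.t ≫ G.s) ≫ G.pU := by
      rw [← Category.assoc, pullback.condition, Category.assoc, Category.assoc, G.t_over,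
        G.s_over]
    have hsnd : pullback.snd g G.t ≫ G.pR = (pullback.snd g G.t ≫ G.s) ≫ G.pU := by
      rw [Category.assoc, G.s_over]
    refine ⟨lam ≫ (Over.homMk (pullback.fst g G.t) hfst :
        Over.mk ((pullback.snd g G.t ≫ G.s) ≫ G.pU) ⟶ Over.mk (g ≫ G.pU)),
      lam ≫ (Over.homMk (pullback.snd g G.t) hsnd :
        Over.mk ((pullback.snd g G.t ≫ G.s) ≫ G.pU) ⟶ Over.mk G.pR), ?_, ?_⟩
    · apply Over.OverMorphism.ext
      have key : ∀ m : (Wk k).left ⟶ pullback g G.t,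
          (m ≫ pullback.snd g G.t) ≫ G.t = (m ≫ pullback.fst g G.t) ≫ g := by
        intro m
        rw [Category.assoc, Category.assoc, pullback.condition]
      exact key lam.left
    · apply Over.OverMorphism.ext
      have key : ∀ m : (Wk k).left ⟶ pullback g G.t, m ≫ hlift = (p k).left ≫ αW →
          (m ≫ pullback.snd g G.t) ≫ G.s = (p k).left ≫ α.left := by
        intro m hm
        rw [Category.assoc, ← hh, ← Category.assoc, hm, Category.assoc, hαW]
      exact key lam.left hlam'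

end Main

end Groth.Agent.Helper2.GpdSchQuot
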