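import Mathlib
import Groth.Prelude.Def_AlgSpGpd
import Groth.Prelude.Def_AlgSpCov
import Groth.Agent.Lib.Helper2.AlgSp.GpdLargestOpen
import Groth.Agent.Lib.Helper2.AlgSp.GpdSep

/-!
# Conjugation on the stabilizer of a groupoid, and invariance of the largest open
over which the stabilizer has a local property (helper2)
-/

set_option autoImplicit false
open CategoryTheory CategoryTheory.Limits AlgebraicGeometry Opposite AlgSp
open Groth.Agent.Helper2.AlgSpBasic

namespace Groth.Agent.Helper2.GpdStab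
universe u
variable {S : Scheme.{u}} {B : Sp S} (G : GroupoidSp B)

open Groth.Agent.Helper2.GpdSp

theorem ι_t : G.stabilizerι ≫ G.t = G.stabilizerToU := by
  have h0 : G.stabilizerι ≫ G.j = G.stabilizerToU ≫ G.diag := pullback.condition
  have := congrArg (· ≫ pullback.fst G.pU G.pU) h0
  simp only [Category.assoc, GroupoidSp.j_fst] at this
  rw [this]
  unfold GroupoidSp.diag
  rw [pullback.lift_fst, Category.comp_id]

theorem ι_s : G.stabilizerι ≫ G.s = G.stabilizerToU := by
  have h0 : G.stabilizerι ≫ G.j = G.stabilizerToU ≫ G.diag := pullback.condition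
  have := congrArg (· ≫ pullback.snd G.pU G.pU) h0
  simp only [Category.assoc, GroupoidSp.j_snd] at this
  rw [this]
  unfold GroupoidSp.diag
  rw [pullback.lift_snd, Category.comp_id]

theorem hom_ext {T : Sp S} (a b : T ⟶ G.stabilizer)
    (h : a ≫ G.stabilizerι = b ≫ G.stabilizerι) : a = b := by
  apply pullback.hom_ext
  · exact h
  · change a ≫ G.stabilizerToU = b ≫ G.stabilizerToU
    rw [← ι_t, ← Category.assoc, h, Category.assoc]

/-- An arrow with equal source and target gives a point of the stabilizer. -/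
noncomputable def stLift {T : Sp S} (ρ : T ⟶ G.R) (h : ρ ≫ G.t = ρ ≫ G.s) : T ⟶ G.stabilizer :=
  pullback.lift ρ (ρ ≫ G.t) (by
    apply pullback.hom_ext
    · rw [Category.assoc, GroupoidSp.j_fst, Category.assoc]
      unfold GroupoidSp.diag
      rw [pullback.lift_fst, Category.comp_id]
    · rw [Category.assoc, GroupoidSp.j_snd, Category.assoc]
      unfold GroupoidSp.diag
      rw [pullback.lift_snd, Category.comp_id, h])

theorem stLift_ι {T : Sp S} (ρ : T ⟶ G.R) (h : ρ ≫ G.t = ρ ≫ G.s) :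
    stLift G ρ h ≫ G.stabilizerι = ρ := pullback.lift_fst _ _ _

theorem stLift_toU {T : Sp S} (ρ : T ⟶ G.R) (h : ρ ≫ G.t = ρ ≫ G.s) :
    stLift G ρ h ≫ G.stabilizerToU = ρ ≫ G.t := pullback.lift_snd _ _ _

section Conj
variable {𝒱 : Sp S} (v : 𝒱 ⟶ G.R)

/-- The arrow `β⁻¹ ∘ g ∘ β` on `G ×_{U, t} 𝒱`. -/
noncomputable def conjR : pullback G.stabilizerToU (v ≫ G.t) ⟶ G.R :=
  comp G ((pullback.snd G.stabilizerToU (v ≫ G.t) ≫ v) ≫ G.i)
    (comp G (pullback.fst G.stabilizerToU (v ≫ G.t) ≫ G.stabilizerι)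
      (pullback.snd G.stabilizerToU (v ≫ G.t) ≫ v)
      (by rw [Category.assoc, ι_s, Category.assoc]; exact pullback.condition))
    (by rw [comp_t, Category.assoc, G.i_s, Category.assoc, Category.assoc, ι_t]
        exact pullback.condition.symm)

theorem conjR_t : conjR G v ≫ G.t = pullback.snd G.stabilizerToU (v ≫ G.t) ≫ v ≫ G.s := by
  unfold conjR
  rw [comp_t, Category.assoc, G.i_t, Category.assoc]

theorem conjR_s : conjR G v ≫ G.s = pullback.snd G.stabilizerToU (v ≫ G.t) ≫ v ≫ G.s := by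
  unfold conjR
  rw [comp_s, comp_s, Category.assoc]

/-- Conjugation `G ×_{U, t} 𝒱 ⟶ G`, `(g, β) ↦ β⁻¹ ∘ g ∘ β`. -/
noncomputable def conj : pullback G.stabilizerToU (v ≫ G.t) ⟶ G.stabilizer :=
  stLift G (conjR G v) (by rw [conjR_t, conjR_s])

theorem conj_ι : conj G v ≫ G.stabilizerι = conjR G v := stLift_ι _ _ _

theorem conj_toU : conj G v ≫ G.stabilizerToU =
    pullback.snd G.stabilizerToU (v ≫ G.t) ≫ v ≫ G.s := by
  unfold conj
  rw [stLift_toU, conjR_t]

/-- The value of `conjR` on a `Z`-point `(g, β)`. -/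
theorem precomp_conjR {Z : Sp S} (l : Z ⟶ pullback G.stabilizerToU (v ≫ G.t))
    (g β : Z ⟶ G.R) (hg : l ≫ pullback.fst G.stabilizerToU (v ≫ G.t) ≫ G.stabilizerι = g)
    (hβ : l ≫ pullback.snd G.stabilizerToU (v ≫ G.t) ≫ v = β)
    (k1 : g ≫ G.s = β ≫ G.t) (k2 : g ≫ G.t = β ≫ G.t) :
    l ≫ conjR G v = comp G (β ≫ G.i) (comp G g β k1)
      (by rw [comp_t, Category.assoc, G.i_s]; exact k2.symm) := by
  unfold conjR
  rw [precomp]
  refine comp_congr G _ ?_ ?_
  · rw [← Category.assoc, ← hβ, Category.assoc]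
  · rw [precomp]
    exact comp_congr G _ hg hβ

theorem isPullback_conj : IsPullback (conj G v) (pullback.snd G.stabilizerToU (v ≫ G.t))
    G.stabilizerToU (v ≫ G.s) := by
  refine isPullback_of_existsUnique (conj_toU G v) ?_ ?_
  · intro Z a b hab
    -- `h = a`, `β = b ≫ v`
    have h1 : (b ≫ v) ≫ G.s = (a ≫ G.stabilizerι) ≫ G.t := by
      rw [Category.assoc, Category.assoc, ι_t, hab]
    have h2 : (a ≫ G.stabilizerι) ≫ G.s = (b ≫ v) ≫ G.s := by
      rw [Category.assoc, Category.assoc, ι_s, hab]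
    have h3 : comp G (b ≫ v) (a ≫ G.stabilizerι) h1 ≫ G.s = ((b ≫ v) ≫ G.i) ≫ G.t := by
      rw [comp_s, Category.assoc _ G.i, G.i_t]; exact h2
    have hg't : comp G (comp G (b ≫ v) (a ≫ G.stabilizerι) h1) ((b ≫ v) ≫ G.i) h3 ≫ G.t =
        (b ≫ v) ≫ G.t := by rw [comp_t, comp_t]
    have hg's : comp G (comp G (b ≫ v) (a ≫ G.stabilizerι) h1) ((b ≫ v) ≫ G.i) h3 ≫ G.s =
        (b ≫ v) ≫ G.t := by rw [comp_s, Category.assoc, G.i_s]
    have hl : stLift G (comp G (comp G (b ≫ v) (a ≫ G.stabilizerι) h1) ((b ≫ v) ≫ G.i) h3)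
        (hg't.trans hg's.symm) ≫ G.stabilizerToU = b ≫ v ≫ G.t := by
      rw [stLift_toU, hg't, Category.assoc]
    refine ⟨pullback.lift _ b hl, ?_, pullback.lift_snd _ _ _⟩
    apply hom_ext
    rw [Category.assoc, conj_ι]
    rw [precomp_conjR G v (pullback.lift _ b hl) _ (b ≫ v)
      (by rw [pullback.lift_fst_assoc, stLift_ι]) (by rw [pullback.lift_snd_assoc])
      hg's hg't]
    exact inv_conj_conj G (a ≫ G.stabilizerι) (b ≫ v) h1 h2
  · intro Z l l' hc hsnd
    apply pullback.hom_ext _ hsnd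
    apply hom_ext
    have hβ : l ≫ pullback.snd G.stabilizerToU (v ≫ G.t) ≫ v =
        l' ≫ pullback.snd G.stabilizerToU (v ≫ G.t) ≫ v := by
      rw [← Category.assoc, hsnd, Category.assoc]
    have k1 : ∀ m : Z ⟶ pullback G.stabilizerToU (v ≫ G.t),
        (m ≫ pullback.fst G.stabilizerToU (v ≫ G.t) ≫ G.stabilizerι) ≫ G.s =
        (m ≫ pullback.snd G.stabilizerToU (v ≫ G.t) ≫ v) ≫ G.t := by
      intro m
      rw [Category.assoc, Category.assoc, ι_s, Category.assoc, Category.assoc, pullback.condition]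
    have k2 : ∀ m : Z ⟶ pullback G.stabilizerToU (v ≫ G.t),
        (m ≫ pullback.fst G.stabilizerToU (v ≫ G.t) ≫ G.stabilizerι) ≫ G.t =
        (m ≫ pullback.snd G.stabilizerToU (v ≫ G.t) ≫ v) ≫ G.t := by
      intro m
      rw [Category.assoc, Category.assoc, ι_t, Category.assoc, Category.assoc, pullback.condition]
    have e1 := precomp_conjR G v l _ _ rfl rfl (k1 l) (k2 l)
    have e2 := precomp_conjR G v l' _ _ rfl rfl (k1 l') (k2 l')
    have hc' : l ≫ conjR G v = l' ≫ conjR G v := by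
      rw [← conj_ι, ← Category.assoc, hc, Category.assoc]
    have c1 := conj_inv_conj G _ _ (k1 l) (k2 l)
    have c2 := conj_inv_conj G _ _ (k1 l') (k2 l')
    rw [Category.assoc, Category.assoc, ← c1, ← c2]
    refine comp_congr G _ ?_ ?_
    · refine comp_congr G _ hβ ?_
      exact e1.symm.trans (hc'.trans e2)
    · rw [hβ]

end Conj

section Main
variable {Q P : MorphismProperty (Sp S)}
open Groth.Agent.Helper2.GpdLargestOpen Groth.Agent.Helper2.GpdSep

theorem isInvariant_largest_stab (hQ : CovClass Q)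
    (hP : IsLocalOnBase (fun _ _ Y g => IsCover Q Y g) P)
    (hB : IsAlgSpace B) (hU : IsAlgSpace G.U) (hR : IsAlgSpace G.R) (hs : Q G.s) (ht : Q G.t)
    {W : Sp S} (hWsp : IsAlgSpace W) (w : W ⟶ G.U) [Mono w] (hw : RepWith @IsOpenImmersion w)
    (hmax : ∀ (W' : Sp S) (w' : W' ⟶ G.U), IsAlgSpace W' → RepWith @IsOpenImmersion w' →
      (P (pullback.snd G.stabilizerToU w') ↔ ∃ k : W' ⟶ W, k ≫ w = w')) :
    G.IsInvariant w := by
  apply isInvariant_of_sat_subset G w hw
  exact sat_subset_of_transport G G.stabilizerToU (isAlgSpace_stabilizer G hB hU hR) hQ hP hU hR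
    hs ht hWsp w hw hmax (fun 𝒱 v => ⟨conj G v, isPullback_conj G v⟩)

end Main

end Groth.Agent.Helper2.GpdStab
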