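import Mathlib
import Groth.Prelude.Def_AlgSpGpd
import Groth.Prelude.Def_AlgSpDec
import Groth.Agent.Lib.Helper2.AlgSp.GrpTransl
import Groth.Agent.Lib.Helper2.AlgSp.LocP
import Groth.Agent.Lib.Helper2.AlgSp.PointsMor

/-!
# Homogeneity of group algebraic spaces for pointwise properties (helper2)
-/

set_option autoImplicit false
universe u
open CategoryTheory CategoryTheory.Limits AlgebraicGeometry Opposite AlgSp
open MonoidalCategory CartesianMonoidalCategory MonObj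
open Groth.Agent.Helper2.AlgSpBasic Groth.Agent.Helper2.EtaleLocal

namespace Groth.Agent.Helper2.GrpHomog

variable {S : Scheme.{u}}

/-- Invariance of a pointwise property under base change of morphisms locally of finite type. -/
def BCIff (S : Scheme.{u}) (Q : ∀ (U V : Scheme.{u}), (U ⟶ V) → ↥U → Prop) : Prop :=
  ∀ {X Y X' Y' : Sp S} (_ : IsAlgSpace X) (_ : IsAlgSpace Y) (_ : IsAlgSpace X')
    (_ : IsAlgSpace Y') (f : X ⟶ Y) (g : Y' ⟶ Y) (b : X' ⟶ X) (f' : X' ⟶ Y')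
    (_ : IsPullback b f' f g) (_ : LocP @LocallyOfFiniteType f) (x' : Points X'),
    HasAtMor Q f' x' ↔ HasAtMor Q f (Points.map b x')

section
variable {B : Sp S} (G : Over B) [GrpObj G]

/-- The unit section of a group object over `B`. -/
noncomputable def unitSec : B ⟶ G.left := (η[G] : 𝟙_ (Over B) ⟶ G).left

theorem unitSec_hom : unitSec G ≫ G.hom = 𝟙 B := Over.w (η[G] : 𝟙_ (Over B) ⟶ G)

variable {G} (hB : IsAlgSpace B) (hG : IsAlgSpace G.left)
  (hlft : LocP @LocallyOfFiniteType G.hom)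
  {Q : ∀ (U V : Scheme.{u}), (U ⟶ V) → ↥U → Prop} (hbc : BCIff S Q)

include hB hG hlft hbc

theorem hasAtMor_ofPt_iff {T : Over S} (ξ : (yon S).obj T ⟶ G.left) (t : ↥T.left) :
    HasAtMor Q G.hom (Points.ofPt ξ t) ↔
      HasAtMor Q G.hom (Points.ofPt (ξ ≫ G.hom ≫ unitSec G) t) := by
  obtain ⟨β, hβ⟩ : ∃ β : (yon S).obj T ⟶ B, β = ξ ≫ G.hom := ⟨_, rfl⟩
  obtain ⟨K, hK⟩ : ∃ K : Over B, K = Over.mk β := ⟨_, rfl⟩
  subst hK
  let g : Over.mk β ⟶ G := Over.homMk ξ hβ.symm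
  have hT : IsAlgSpace ((yon S).obj T) := IsAlgSpace.yon_obj T
  have sq : IsPullback (fst G (Over.mk β)).left (snd G (Over.mk β)).left G.hom β :=
    IsPullback.of_hasPullback G.hom β
  have hP : IsAlgSpace (G ⊗ Over.mk β).left :=
    isAlgSpace_of_isPullback hB.diag hG hT G.hom β _ _ sq
  have hlft' : LocP @LocallyOfFiniteType (snd G (Over.mk β)).left :=
    locP_of_isPullback @LocallyOfFiniteType hG hB hT hP G.hom β _ _ sq hlft
  -- the two sections
  obtain ⟨σg, hσg⟩ : ∃ σ : (yon S).obj T ⟶ (G ⊗ Over.mk β).left,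
      σ = (lift g (𝟙 (Over.mk β))).left := ⟨_, rfl⟩
  obtain ⟨σe, hσe⟩ : ∃ σ : (yon S).obj T ⟶ (G ⊗ Over.mk β).left,
      σ = (lift (1 : Over.mk β ⟶ G) (𝟙 (Over.mk β))).left := ⟨_, rfl⟩
  have e1 : σg ≫ (fst G (Over.mk β)).left = ξ := by
    rw [hσg, ← Over.comp_left, lift_fst]
    rfl
  have e2 : σe ≫ (fst G (Over.mk β)).left = ξ ≫ G.hom ≫ unitSec G := by
    rw [hσe, ← Over.comp_left, lift_fst, Hom.one_def, Over.comp_left, ← Category.assoc, ← hβ]
    rfl
  -- the translation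
  obtain ⟨τ, hτ⟩ : ∃ τ : (G ⊗ Over.mk β).left ⟶ (G ⊗ Over.mk β).left,
      τ = (Groth.Agent.Helper2.GrpTransl.transl g).left := ⟨_, rfl⟩
  have hτiso : IsIso τ := by
    rw [hτ]
    exact Functor.map_isIso (Over.forget B) (Groth.Agent.Helper2.GrpTransl.transl g)
  have hτsnd : τ ≫ (snd G (Over.mk β)).left = (snd G (Over.mk β)).left := by
    rw [hτ, ← Over.comp_left, Groth.Agent.Helper2.GrpTransl.transl_snd]
  have hστ : σe ≫ τ = σg := by
    rw [hσe, hτ, hσg, ← Over.comp_left, Groth.Agent.Helper2.GrpTransl.lift_one_transl]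
  have sqτ : IsPullback τ (snd G (Over.mk β)).left (snd G (Over.mk β)).left (𝟙 _) :=
    IsPullback.of_horiz_isIso ⟨by rw [hτsnd, Category.comp_id]⟩
  have h1 := hbc hG hB hP hT G.hom β _ _ sq hlft (Points.ofPt σg t)
  have h2 := hbc hG hB hP hT G.hom β _ _ sq hlft (Points.ofPt σe t)
  have h3 := hbc hP hT hP hT _ (𝟙 _) τ _ sqτ hlft' (Points.ofPt σe t)
  rw [Points.map_ofPt, e1] at h1
  rw [Points.map_ofPt, e2] at h2
  rw [Points.map_ofPt, hστ] at h3
  exact h1.symm.trans (h3.symm.trans h2)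

theorem hasAtMor_iff_unit (x : Points G.left) :
    HasAtMor Q G.hom x ↔
      HasAtMor Q G.hom (Points.map (unitSec G) (Points.map G.hom x)) := by
  obtain ⟨T, ξ, t, rfl⟩ := exists_ofPt_eq x
  rw [Points.map_ofPt, Points.map_ofPt, Category.assoc]
  exact hasAtMor_ofPt_iff hB hG hlft hbc ξ t

end

end Groth.Agent.Helper2.GrpHomog
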