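import Mathlib
import Groth.Prelude.Def_AlgSpGpd
import Groth.Prelude.Def_AlgSpDec
import Groth.Agent.Lib.Helper2.AlgSp.GrpHomog
import Groth.Agent.Lib.Helper2.AlgSp.OpenSub
import Groth.Agent.Lib.Helper2.AlgSp.Coprod
import Groth.Agent.Lib.Helper2.AlgSp.Thick

/-!
# The largest open of the base over which a group algebraic space has a fibrewise property
(helper2)
-/

set_option autoImplicit false
universe u
open CategoryTheory CategoryTheory.Limits AlgebraicGeometry Opposite AlgSp
open MonoidalCategory CartesianMonoidalCategory MonObj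
open Groth.Agent.Helper2.AlgSpBasic Groth.Agent.Helper2.EtaleLocal

namespace Groth.Agent.Helper2.GrpHomog

variable {S : Scheme.{u}}

/-- A property `P` of morphisms locally of finite type characterised pointwise by `Q`, with `Q`
open and invariant under base change. -/
structure PtChar (S : Scheme.{u}) (P : MorphismProperty Scheme.{u})
    (Q : ∀ (U V : Scheme.{u}), (U ⟶ V) → ↥U → Prop) : Prop where
  bc : BCIff S Q
  isOpen : ∀ {X Y : Sp S} (_ : IsAlgSpace X) (_ : IsAlgSpace Y) (f : X ⟶ Y),
    LocP @LocallyOfFiniteType f → IsOpen {x : Points X | HasAtMor Q f x}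
  char : ∀ {X Y : Sp S} (_ : IsAlgSpace X) (_ : IsAlgSpace Y) (f : X ⟶ Y),
    LocP @LocallyOfFiniteType f → (LocP P f ↔ ∀ x : Points X, HasAtMor Q f x)

section
variable {B : Sp S} {G : Over B} [GrpObj G] (hB : IsAlgSpace B) (hG : IsAlgSpace G.left)
  (hlft : LocP @LocallyOfFiniteType G.hom)
  {P : MorphismProperty Scheme.{u}} {Q : ∀ (U V : Scheme.{u}), (U ⟶ V) → ↥U → Prop}
  (h : PtChar S P Q)

include hB hG hlft h

theorem locP_iff_forall_mem {W' P₀ : Sp S} (hW' : IsAlgSpace W') (c : W' ⟶ B) (p : P₀ ⟶ G.left)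
    (q : P₀ ⟶ W') (sq : IsPullback p q G.hom c) :
    LocP P q ↔ ∀ b' : Points W',
      HasAtMor Q G.hom (Points.map (unitSec G) (Points.map c b')) := by
  have hP₀ : IsAlgSpace P₀ := isAlgSpace_of_isPullback hB.diag hG hW' G.hom c p q sq
  have hlftq : LocP @LocallyOfFiniteType q :=
    locP_of_isPullback @LocallyOfFiniteType hG hB hW' hP₀ G.hom c p q sq hlft
  rw [h.char hP₀ hW' q hlftq]
  constructor
  · intro H b'
    obtain ⟨σ, hσ1, -⟩ : ∃ σ : W' ⟶ P₀, σ ≫ p = c ≫ unitSec G ∧ σ ≫ q = 𝟙 W' :=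
      ⟨sq.lift (c ≫ unitSec G) (𝟙 _) (by
        rw [Category.assoc, unitSec_hom, Category.comp_id, Category.id_comp]),
        sq.lift_fst _ _ _, sq.lift_snd _ _ _⟩
    have h1 := (h.bc hG hB hP₀ hW' G.hom c p q sq hlft (Points.map σ b')).1 (H _)
    rw [← Points.map_comp, hσ1, Points.map_comp] at h1
    exact h1
  · intro H z
    rw [h.bc hG hB hP₀ hW' G.hom c p q sq hlft z, hasAtMor_iff_unit hB hG hlft h.bc]
    have h1 : Points.map G.hom (Points.map p z) = Points.map c (Points.map q z) := by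
      rw [← Points.map_comp, ← Points.map_comp, sq.w]
    rw [h1]
    exact H _

theorem exists_largestOpen :
    ∃ (W : Sp S) (w : W ⟶ B), RepWith @IsOpenImmersion w ∧
      (∀ (W' : Sp S) (w' : W' ⟶ B), RepWith @IsOpenImmersion w' →
        (LocP P (pullback.snd G.hom w') ↔ ∃ k : W' ⟶ W, k ≫ w = w')) ∧
      (∀ (B' : Sp S), IsAlgSpace B' → ∀ (f : B' ⟶ B) (W'' : Sp S) (w'' : W'' ⟶ B'),
        RepWith @IsOpenImmersion w'' →
        (LocP P (pullback.snd (pullback.snd G.hom f) w'') ↔
          ∃ k : W'' ⟶ pullback w f, k ≫ pullback.snd w f = w'')) := by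
  obtain ⟨Wset, hWset⟩ : ∃ Wset : Set (Points B),
      Wset = {b | HasAtMor Q G.hom (Points.map (unitSec G) b)} := ⟨_, rfl⟩
  have hopen : IsOpen Wset := by
    rw [hWset]
    exact (h.isOpen hG hB G.hom hlft).preimage (Points.continuous_map (unitSec G))
  have hmem : ∀ b : Points B, b ∈ Wset ↔ HasAtMor Q G.hom (Points.map (unitSec G) b) := by
    intro b
    rw [hWset]
    rfl
  have keyF : ∀ {W' : Sp S} (c : W' ⟶ B),
      (∀ b' : Points W', HasAtMor Q G.hom (Points.map (unitSec G) (Points.map c b'))) ↔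
        ∃ k : W' ⟶ openSub B Wset, k ≫ openSubι B Wset = c := by
    intro W' c
    constructor
    · intro H
      have H' : ∀ p : Points W', Points.map c p ∈ Wset := by
        intro p
        exact (hmem _).2 (H p)
      exact ⟨openSubLift Wset c H', openSubLift_ι Wset c H'⟩
    · rintro ⟨k, rfl⟩ b'
      have := points_map_openSubι_mem B Wset (Points.map k b')
      rw [Points.map_comp]
      exact (hmem _).1 this
  refine ⟨openSub B Wset, openSubι B Wset, repWith_isOpenImmersion_openSubι B hopen, ?_, ?_⟩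
  · intro W' w' hw'
    have : Mono w' := mono_of_repWith_isOpenImmersion w' hw'
    have hW' : IsAlgSpace W' := Groth.Agent.Helper2.Coprod.isAlgSpace_of_representable_mono w' hw'.rep hB
    rw [locP_iff_forall_mem hB hG hlft h hW' w' _ _ (IsPullback.of_hasPullback G.hom w'), keyF]
  · intro B' hB' f W'' w'' hw''
    have : Mono w'' := mono_of_repWith_isOpenImmersion w'' hw''
    have hW'' : IsAlgSpace W'' := Groth.Agent.Helper2.Coprod.isAlgSpace_of_representable_mono w'' hw''.rep hB'
    have sq := (IsPullback.of_hasPullback (pullback.snd G.hom f) w'').paste_horiz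
      (IsPullback.of_hasPullback G.hom f)
    rw [locP_iff_forall_mem hB hG hlft h hW'' (w'' ≫ f) _ _ sq, keyF]
    constructor
    · rintro ⟨l, hl⟩
      exact ⟨pullback.lift l w'' hl, pullback.lift_snd _ _ _⟩
    · rintro ⟨k, hk⟩
      refine ⟨k ≫ pullback.fst _ _, ?_⟩
      rw [Category.assoc, pullback.condition, ← Category.assoc, hk]

end

end Groth.Agent.Helper2.GrpHomog
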