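import Mathlib
import Groth.Prelude.Def_AlgSpInf
import Groth.Agent.Lib.Helper2.AlgSp.FormalEtaleChar
import Groth.Agent.Lib.Helper2.AlgSp.PointsMor

/-!
# Universal first order thickenings: etale localization
-/

namespace Groth.Agent.Helper2.AlgSpFormal
open CategoryTheory CategoryTheory.Limits AlgebraicGeometry Opposite AlgSp
open Groth.Agent.Helper2.AlgSpBasic Groth.Agent.Helper2.FormalLib
universe u
variable {S : Scheme.{u}}

section Sol

variable {Z' X T T' : Sp S} {h' : Z' ⟶ X} {j : T ⟶ T'} {a₁ : T ⟶ Z'} {b : T' ⟶ X}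

/-- Gluing solutions of a lifting problem along an etale covering family of a chart, given
uniqueness of solutions on etale scheme charts. -/
theorem exists_isSol_of_family_etale {V : Over S} (c : (yon S).obj V ⟶ T') {ι : Type*}
    (W : ι → Over S) (p : ∀ k, W k ⟶ V) (hp : ∀ k, Etale (p k).left)
    (hs : ∀ x : V.left, ∃ k, x ∈ Set.range (p k).left)
    (m : ∀ k, (yon S).obj (W k) ⟶ Z')
    (hm : ∀ k, IsSol h' j a₁ b ((yon S).map (p k) ≫ c) (m k))
    (Hu : ∀ (Q : Over S) (q : Q ⟶ V), Etale q.left → ∀ (n n' : (yon S).obj Q ⟶ Z'),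
      IsSol h' j a₁ b ((yon S).map q ≫ c) n → IsSol h' j a₁ b ((yon S).map q ≫ c) n' → n = n') :
    ∃ l, IsSol h' j a₁ b c l ∧ ∀ k, (yon S).map (p k) ≫ l = m k := by
  have hp' : ∀ k, (@Flat ⊓ @LocallyOfFinitePresentation : MorphismProperty Scheme.{u})
      (p k).left := fun k => by
    have := hp k
    exact ⟨inferInstance, inferInstance⟩
  have compat : ∀ i k (Q : Over S) (qi : Q ⟶ W i) (qk : Q ⟶ W k),
      qi ≫ p i = qk ≫ p k → (yon S).map qi ≫ m i = (yon S).map qk ≫ m k := by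
    intro i k Q qi qk e
    have hfst : Etale (pullback.fst (p i) (p k)).left := by
      have hpb := isPullback_left_of_over (IsPullback.of_hasPullback (p i) (p k))
      exact MorphismProperty.of_isPullback hpb.flip (hp k)
    have hq : Etale (pullback.fst (p i) (p k) ≫ p i).left := by
      have := hp i
      rw [Over.comp_left]
      infer_instance
    have hN : (yon S).map (pullback.fst (p i) (p k)) ≫ m i =
        (yon S).map (pullback.snd (p i) (p k)) ≫ m k := by
      refine Hu _ (pullback.fst (p i) (p k) ≫ p i) hq _ _ ?_ ?_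
      · rw [Functor.map_comp, Category.assoc]
        exact (hm i).restrict _
      · rw [pullback.condition, Functor.map_comp, Category.assoc]
        exact (hm k).restrict _
    have e1 : (yon S).map (pullback.lift qi qk e) ≫
        (yon S).map (pullback.fst (p i) (p k)) = (yon S).map qi := by
      rw [← Functor.map_comp, pullback.lift_fst]
    have e2 : (yon S).map (pullback.lift qi qk e) ≫
        (yon S).map (pullback.snd (p i) (p k)) = (yon S).map qk := by
      rw [← Functor.map_comp, pullback.lift_snd]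
    rw [← e1, ← e2, Category.assoc, Category.assoc, hN]
  obtain ⟨l, hl⟩ := exists_glue_of_family W p hp' hs m compat
  refine ⟨l, ⟨?_, ?_⟩, hl⟩
  · refine hom_ext_of_family W p hp' hs _ _ ?_
    intro k
    rw [← Category.assoc, hl k, (hm k).1, Category.assoc]
  · intro Q u v e
    refine hom_ext_of_family (fun k => pullback v (p k))
      (fun k => pullback.fst v (p k)) ?_ ?_ _ _ ?_
    · intro k
      have hpb := isPullback_left_of_over (IsPullback.of_hasPullback v (p k))
      exact MorphismProperty.of_isPullback hpb.flip (hp' k)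
    · intro x
      obtain ⟨k, y, hy⟩ := hs (v.left x)
      have hpb := isPullback_left_of_over (IsPullback.of_hasPullback v (p k))
      obtain ⟨z, hz1, -⟩ := Scheme.exists_preimage_of_isPullback hpb x y hy.symm
      exact ⟨k, z, hz1⟩
    · intro k
      have hcond : pullback.fst v (p k) ≫ v = pullback.snd v (p k) ≫ p k := pullback.condition
      have h3 := (hm k).2 _ ((yon S).map (pullback.fst v (p k)) ≫ u)
        (pullback.snd v (p k)) (by
          rw [Category.assoc, e, ← Category.assoc, ← Functor.map_comp, hcond, Functor.map_comp,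
            Category.assoc])
      rw [← Category.assoc, ← Functor.map_comp, hcond, Functor.map_comp, Category.assoc, hl k, h3,
        Category.assoc]

end Sol

/-- The standard first order thickening `Spec (A ⧸ I) ⟶ Spec A` over `S`. -/
noncomputable abbrev stdJ {A : Type u} [CommRing A] (I : Ideal A)
    (str : Spec (CommRingCat.of A) ⟶ S) :
    Over.mk (Spec.map (CommRingCat.ofHom (Ideal.Quotient.mk I)) ≫ str) ⟶ Over.mk str :=
  Over.homMk (Spec.map (CommRingCat.ofHom (Ideal.Quotient.mk I))) rfl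

/-- Unique solvability of lifting problems along standard thickenings gives unique solvability
along all first order thickenings of affine schemes over `S`. -/
theorem existsUnique_of_spec_model {Z' X T₀ : Sp S} (h' : Z' ⟶ X) (a₁ : T₀ ⟶ Z')
    (H : ∀ (A : Type u) [CommRing A] (I : Ideal A) (_ : I ^ 2 = ⊥)
      (str : Spec (CommRingCat.of A) ⟶ S), IsFOThickMor ((yon S).map (stdJ I str)) →
      ∀ (u : (yon S).obj (Over.mk (Spec.map (CommRingCat.ofHom (Ideal.Quotient.mk I)) ≫ str)) ⟶ T₀)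
        (bot : (yon S).obj (Over.mk str) ⟶ X),
        (u ≫ a₁) ≫ h' = (yon S).map (stdJ I str) ≫ bot →
        ∃! l : (yon S).obj (Over.mk str) ⟶ Z',
          (yon S).map (stdJ I str) ≫ l = u ≫ a₁ ∧ l ≫ h' = bot)
    (W V : Over S) (t : W ⟶ V) (ht : IsFOT t) (ht' : IsFOThickMor ((yon S).map t))
    (hV : IsAffine V.left) (u : (yon S).obj W ⟶ T₀) (bot : (yon S).obj V ⟶ X)
    (comm : (u ≫ a₁) ≫ h' = (yon S).map t ≫ bot) :
    ∃! l : (yon S).obj V ⟶ Z', (yon S).map t ≫ l = u ≫ a₁ ∧ l ≫ h' = bot := by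
  obtain ⟨A, _, I, hI, str, ε, ε', hε⟩ := exists_spec_model t ht
  have hε' : (yon S).map ε.hom ≫ (yon S).map t =
      (yon S).map (stdJ I str) ≫ (yon S).map ε'.hom := by
    rw [← Functor.map_comp, ← Functor.map_comp, hε]
  have hthick : IsFOThickMor ((yon S).map (stdJ I str)) := by
    have pb : IsPullback ((yon S).map ε.hom) ((yon S).map (stdJ I str)) ((yon S).map t)
        ((yon S).map ε'.hom) := IsPullback.of_horiz_isIso ⟨hε'⟩
    have hét : RepWith @Etale ((yon S).map ε'.hom) :=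
      (repWith_yon_map_iff @Etale ε'.hom).2 (by
        haveI : IsIso ε'.hom.left := (Over.forget S).map_isIso ε'.hom
        infer_instance)
    exact isFOThickMor_yon_map_of_isPullback ht' _ hét _ _ pb
  have comm' : (((yon S).map ε.hom ≫ u) ≫ a₁) ≫ h' =
      (yon S).map (stdJ I str) ≫ (yon S).map ε'.hom ≫ bot := by
    rw [Category.assoc, Category.assoc, ← Category.assoc u, comm, ← Category.assoc, hε',
      Category.assoc]
  obtain ⟨l₀, ⟨h1, h2⟩, hu⟩ := H A I hI str hthick ((yon S).map ε.hom ≫ u)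
    ((yon S).map ε'.hom ≫ bot) comm'
  refine ⟨(yon S).map ε'.inv ≫ l₀, ⟨?_, ?_⟩, ?_⟩
  · rw [← cancel_epi ((yon S).map ε.hom), ← Category.assoc, hε', Category.assoc,
      ← Category.assoc ((yon S).map ε'.hom), ← Functor.map_comp, Iso.hom_inv_id,
      CategoryTheory.Functor.map_id, Category.id_comp, h1, Category.assoc]
  · rw [Category.assoc, h2, ← Category.assoc, ← Functor.map_comp, Iso.inv_hom_id,
      CategoryTheory.Functor.map_id, Category.id_comp]
  · rintro l ⟨hl1, hl2⟩
    have := hu ((yon S).map ε'.hom ≫ l) ⟨?_, ?_⟩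
    · rw [← this, ← Category.assoc, ← Functor.map_comp, Iso.inv_hom_id,
        CategoryTheory.Functor.map_id, Category.id_comp]
    · rw [← Category.assoc, ← hε', Category.assoc, hl1, Category.assoc]
    · rw [Category.assoc, hl2]

/-- A first order thickening over `X` is universal as soon as it has the universal property for
standard thickenings `Spec (A ⧸ I) ⟶ Spec A`. -/
theorem isUnivFOThick_of_spec_test {Z Z' X : Sp S} (h : Z ⟶ X) (i : Z ⟶ Z') (h' : Z' ⟶ X)
    (hi : IsFOThickMor i) (w : i ≫ h' = h)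
    (H : ∀ (A : Type u) [CommRing A] (I : Ideal A) (_ : I ^ 2 = ⊥)
      (str : Spec (CommRingCat.of A) ⟶ S), IsFOThickMor ((yon S).map (stdJ I str)) →
      ∀ (a : (yon S).obj (Over.mk (Spec.map (CommRingCat.ofHom (Ideal.Quotient.mk I)) ≫ str)) ⟶ Z)
        (b : (yon S).obj (Over.mk str) ⟶ X),
        (yon S).map (stdJ I str) ≫ b = a ≫ h →
        ∃! l : (yon S).obj (Over.mk str) ⟶ Z',
          (yon S).map (stdJ I str) ≫ l = a ≫ i ∧ l ≫ h' = b) :
    IsUnivFOThick h i h' := by
  refine ⟨hi, w, ?_⟩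
  intro T T' hT hT' j a b hj e
  refine existsUnique_lift_of_charts hT' ?_ hj.1.rep
  intro V c hV hc
  refine existsUnique_isSol_of_affine_lift hj (by rw [Category.assoc, w, e]) ?_ V c hV hc
  refine existsUnique_of_spec_model h' (a ≫ i) ?_
  intro A _ I hI str hth u bot comm
  have := H A I hI str hth (u ≫ a) bot (by
    rw [← comm, Category.assoc, Category.assoc, Category.assoc, w])
  simpa only [Category.assoc] using this

/-- Local data: for an etale surjective morphism `e : Z ⟶ Y` of sheaves with `Z` an algebraic space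
and a map `a` from `Spec (A ⧸ I)` to `Y`, there is an etale covering family `Spec B_k ⟶ Spec A` such
that `a` lifts to `Z` on each `Spec (B_k ⧸ I B_k)`. -/
theorem exists_local_etale_lifts {Z Y : Sp S} (hZa : IsAlgSpace Z) (e : Z ⟶ Y)
    (he : IsEtaleMor e) (hes : IsSurjectiveMor e) {G₁ G₂ : Sp S} {f : G₁ ⟶ G₂} (sq : InfSq f)
    (a : (yon S).obj sq.ptT ⟶ Y) :
    ∃ (K : Type u) (B : K → CommRingCat.{u}) (φ : ∀ k, sq.A →+* B k)
      (c : ∀ k, (yon S).obj (bT sq (φ k)) ⟶ Z),
      (∀ k, Etale (Spec.map (CommRingCat.ofHom (φ k)))) ∧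
      (∀ k, c k ≫ e = (yon S).map (bg sq (φ k)) ≫ a) ∧
      (∀ x : sq.ptT'.left, ∃ k, x ∈ Set.range (bg' sq (φ k)).left) := by
  obtain ⟨VZ, cZ, hce, hcs⟩ := hZa.atlas
  have hqe : RepWith @Etale (cZ ≫ e) := he cZ hce
  have hqs : RepWith @Surjective (cZ ≫ e) := by
    apply repWith_surjective_of_isSurjectiveMor _ hqe.rep
    intro y
    obtain ⟨z, hz⟩ := hes y
    obtain ⟨v, hv⟩ := isSurjectiveMor_of_repWith_surjective cZ hcs z
    exact ⟨v, by rw [Points.map_comp, hv, hz]⟩
  obtain ⟨U₀, p, α, hpe, hps, hpa⟩ :=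
    exists_chart_lift (IsAlgSpace.yon_obj sq.ptT) a (cZ ≫ e) hqe hqs
  obtain ⟨p₀, rfl⟩ := (yon S).map_surjective p
  have het : Etale p₀.left := (repWith_yon_map_iff @Etale p₀).1 hpe
  have hsj : Surjective p₀.left := (repWith_yon_map_iff @Surjective p₀).1 hps
  have key : ∀ u : U₀.left, ∃ (B : CommRingCat.{u}) (φ : sq.A →+* B)
      (ι : bT sq φ ⟶ U₀), Etale (Spec.map (CommRingCat.ofHom φ)) ∧
      ι ≫ p₀ = bg sq φ ∧ u ∈ Set.range ι.left := by
    intro u
    obtain ⟨B, iB, φ, ι, h1, -, h3, h4⟩ :=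
      exists_etale_lift_nbhd sq.I sq.sq_zero p₀.left u
    refine ⟨CommRingCat.of B, φ, Over.homMk ι ?_, h1, ?_, h4⟩
    · change ι ≫ U₀.hom = Spec.map _ ≫ Spec.map _ ≫ sq.str
      rw [← Over.w p₀, ← Category.assoc, h3]
      change Spec.map _ ≫ Spec.map _ ≫ sq.str = _
      rw [reassoc_of% bT_comm sq φ]
    · apply Over.OverMorphism.ext
      exact h3
  choose B φ ι hφ hι hu using key
  refine ⟨U₀.left, B, φ, fun u => (yon S).map (ι u) ≫ (yon S).map α ≫ cZ, hφ, ?_, ?_⟩
  · intro u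
    rw [Category.assoc, Category.assoc, ← hpa, ← Category.assoc, ← Functor.map_comp, hι u]
  · intro x
    have hjs : Surjective sq.j.left := (isFOT_j sq).surj
    obtain ⟨y, rfl⟩ := sq.j.left.surjective x
    obtain ⟨u, rfl⟩ := p₀.left.surjective y
    obtain ⟨z, hz⟩ := hu u
    refine ⟨u, (bj sq (φ u)).left z, ?_⟩
    have e1 : (bj sq (φ u)).left ≫ (bg' sq (φ u)).left =
        (ι u).left ≫ p₀.left ≫ sq.j.left := by
      rw [← Over.comp_left, ← Over.comp_left, ← Over.comp_left, bsq, ← hι u, Category.assoc]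
    rw [← Scheme.Hom.comp_apply, e1, Scheme.Hom.comp_apply, Scheme.Hom.comp_apply, hz]

section Descend

variable {Z Y Z' Y' X : Sp S} (e : Z ⟶ Y) (hY : Y ⟶ X) (iZ : Z ⟶ Z') (iY : Y ⟶ Y')
  (f' : Z' ⟶ Y') (hY' : Y' ⟶ X)

theorem univThick_descend_unique (hZa : IsAlgSpace Z) (he : IsEtaleMor e)
    (hes : IsSurjectiveMor e) (hfe : IsFormallyEtaleMor f') (w : iZ ≫ f' = e ≫ iY)
    (w' : iY ≫ hY' = hY) (HU : IsUnivFOThick (e ≫ hY) iZ (f' ≫ hY'))
    (sq : InfSq hY') (a : (yon S).obj sq.ptT ⟶ Y) (ha : sq.top = a ≫ iY)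
    (hj : IsFOThickMor ((yon S).map sq.j))
    (n n' : (yon S).obj sq.ptT' ⟶ Y')
    (h1 : (yon S).map sq.j ≫ n = sq.top) (h2 : n ≫ hY' = sq.bot)
    (h1' : (yon S).map sq.j ≫ n' = sq.top) (h2' : n' ≫ hY' = sq.bot) : n = n' := by
  obtain ⟨K, B, φ, c, hφ, hc, hs⟩ := exists_local_etale_lifts hZa e he hes sq a
  have hsqc : sq.top ≫ hY' = (yon S).map sq.j ≫ sq.bot := sq.comm
  refine hom_ext_of_family (fun k => bT' sq (φ k)) (fun k => bg' sq (φ k)) ?_ hs n n' ?_
  · intro k
    have := hφ k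
    change (@Flat ⊓ @LocallyOfFinitePresentation : MorphismProperty Scheme.{u})
      (Spec.map (CommRingCat.ofHom (φ k)))
    exact ⟨inferInstance, inferInstance⟩
  · intro k
    have hth : IsFOThickMor ((yon S).map (bj sq (φ k))) :=
      isFOThickMor_yon_map_of_isPullback hj _
        ((repWith_yon_map_iff @Etale (bg' sq (φ k))).2 (hφ k)) _ _ (isPullback_bj sq (φ k))
    have hbase : (c k ≫ iZ) ≫ f' = (yon S).map (bg sq (φ k)) ≫ sq.top := by
      rw [Category.assoc, w, ← Category.assoc, hc k, Category.assoc, ha]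
    have hcomm : ∀ m : (yon S).obj sq.ptT' ⟶ Y', (yon S).map sq.j ≫ m = sq.top →
        (c k ≫ iZ) ≫ f' = (yon S).map (bj sq (φ k)) ≫ (yon S).map (bg' sq (φ k)) ≫ m := by
      intro m hm
      rw [hbase, ← hm, ← Category.assoc, ← Category.assoc, ← Functor.map_comp,
        ← Functor.map_comp, bsq]
    obtain ⟨d, ⟨hd1, hd2⟩, -⟩ := ul_of_isFormallyEtaleMor_affine f' hfe (bj sq (φ k))
      (isFOT_bj sq (φ k)) (c k ≫ iZ) ((yon S).map (bg' sq (φ k)) ≫ n) (hcomm n h1)
    obtain ⟨d', ⟨hd'1, hd'2⟩, -⟩ := ul_of_isFormallyEtaleMor_affine f' hfe (bj sq (φ k))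
      (isFOT_bj sq (φ k)) (c k ≫ iZ) ((yon S).map (bg' sq (φ k)) ≫ n') (hcomm n' h1')
    have hcompat : (yon S).map (bj sq (φ k)) ≫ (yon S).map (bg' sq (φ k)) ≫ sq.bot =
        c k ≫ e ≫ hY := by
      calc (yon S).map (bj sq (φ k)) ≫ (yon S).map (bg' sq (φ k)) ≫ sq.bot
          = (yon S).map (bg sq (φ k)) ≫ (yon S).map sq.j ≫ sq.bot := by
            rw [← Category.assoc, ← Category.assoc, ← Functor.map_comp, ← Functor.map_comp, bsq]
        _ = (yon S).map (bg sq (φ k)) ≫ a ≫ hY := by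
            rw [← hsqc, ha, Category.assoc, w']
        _ = c k ≫ e ≫ hY := by rw [← Category.assoc, ← hc k, Category.assoc]
    obtain ⟨c', -, hcu⟩ := HU.2.2 (IsAlgSpace.yon_obj _) (IsAlgSpace.yon_obj _)
      ((yon S).map (bj sq (φ k))) (c k) ((yon S).map (bg' sq (φ k)) ≫ sq.bot) hth hcompat
    have e1 : d = c' := hcu d ⟨hd1, by rw [← Category.assoc, hd2, Category.assoc, h2]⟩
    have e2 : d' = c' := hcu d' ⟨hd'1, by rw [← Category.assoc, hd'2, Category.assoc, h2']⟩
    rw [← hd2, ← hd'2, e1, e2]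

theorem univThick_descend_existsUnique (hZa : IsAlgSpace Z) (he : IsEtaleMor e)
    (hes : IsSurjectiveMor e) (hfe : IsFormallyEtaleMor f') (w : iZ ≫ f' = e ≫ iY)
    (w' : iY ≫ hY' = hY) (HU : IsUnivFOThick (e ≫ hY) iZ (f' ≫ hY'))
    (sq : InfSq hY') (a : (yon S).obj sq.ptT ⟶ Y) (ha : sq.top = a ≫ iY)
    (hj : IsFOThickMor ((yon S).map sq.j)) : sq.HasUniqLift := by
  obtain ⟨K, B, φ, c, hφ, hc, hs⟩ := exists_local_etale_lifts hZa e he hes sq a
  have hsqc : sq.top ≫ hY' = (yon S).map sq.j ≫ sq.bot := sq.comm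
  have hsol : ∀ k, ∃ m : (yon S).obj (bT' sq (φ k)) ⟶ Y',
      IsSol hY' ((yon S).map sq.j) sq.top sq.bot ((yon S).map (bg' sq (φ k)) ≫ 𝟙 _) m := by
    intro k
    have hth : IsFOThickMor ((yon S).map (bj sq (φ k))) :=
      isFOThickMor_yon_map_of_isPullback hj _
        ((repWith_yon_map_iff @Etale (bg' sq (φ k))).2 (hφ k)) _ _ (isPullback_bj sq (φ k))
    have hcompat : (yon S).map (bj sq (φ k)) ≫ (yon S).map (bg' sq (φ k)) ≫ sq.bot =
        c k ≫ e ≫ hY := by
      calc (yon S).map (bj sq (φ k)) ≫ (yon S).map (bg' sq (φ k)) ≫ sq.bot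
          = (yon S).map (bg sq (φ k)) ≫ (yon S).map sq.j ≫ sq.bot := by
            rw [← Category.assoc, ← Category.assoc, ← Functor.map_comp, ← Functor.map_comp, bsq]
        _ = (yon S).map (bg sq (φ k)) ≫ a ≫ hY := by
            rw [← hsqc, ha, Category.assoc, w']
        _ = c k ≫ e ≫ hY := by rw [← Category.assoc, ← hc k, Category.assoc]
    obtain ⟨c', ⟨hc1, hc2⟩, -⟩ := HU.2.2 (IsAlgSpace.yon_obj _) (IsAlgSpace.yon_obj _)
      ((yon S).map (bj sq (φ k))) (c k) ((yon S).map (bg' sq (φ k)) ≫ sq.bot) hth hcompat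
    refine ⟨c' ≫ f', ?_⟩
    rw [Category.comp_id]
    refine (isSol_iff_of_isPullback _ _ _ (isPullback_bj sq (φ k))).2 ⟨?_, ?_⟩
    · rw [Category.assoc]
      exact hc2
    · rw [← Category.assoc, hc1, Category.assoc, w, ← Category.assoc, hc k, Category.assoc, ha]
  choose m hm using hsol
  have Hu : ∀ (Q : Over S) (q : Q ⟶ sq.ptT'), Etale q.left →
      ∀ (n n' : (yon S).obj Q ⟶ Y'),
      IsSol hY' ((yon S).map sq.j) sq.top sq.bot ((yon S).map q ≫ 𝟙 _) n →
      IsSol hY' ((yon S).map sq.j) sq.top sq.bot ((yon S).map q ≫ 𝟙 _) n' → n = n' := by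
    intro Q q hq n n' hn hn'
    rw [Category.comp_id] at hn hn'
    let 𝒬 := Q.left.affineOpenCover
    let ψ : ∀ k : 𝒬.I₀, sq.A →+* (𝒬.X k : Type u) := fun k =>
      (Spec.preimage (𝒬.f k ≫ q.left)).hom
    have hψ : ∀ k, Spec.map (CommRingCat.ofHom (ψ k)) = 𝒬.f k ≫ q.left := fun k => by
      rw [CommRingCat.ofHom_hom, Spec.map_preimage]
    let γ : ∀ k, bT' sq (ψ k) ⟶ Q := fun k => Over.homMk (𝒬.f k) (by
      change _ = Spec.map (CommRingCat.ofHom (ψ k)) ≫ sq.str
      rw [hψ k, Category.assoc]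
      congr 1
      exact (Over.w q).symm)
    have hγ : ∀ k, γ k ≫ q = bg' sq (ψ k) := fun k => Over.OverMorphism.ext (hψ k).symm
    refine hom_ext_of_family (fun k => bT' sq (ψ k)) γ ?_ ?_ n n' ?_
    · intro k
      exact ⟨(inferInstance : Flat (𝒬.f k)), (inferInstance : LocallyOfFinitePresentation (𝒬.f k))⟩
    · intro x
      exact ⟨𝒬.idx x, 𝒬.covers x⟩
    · intro k
      have hψe : Etale (Spec.map (CommRingCat.ofHom (ψ k))) := by
        rw [hψ k]
        infer_instance
      have s1 := hn.restrict (γ k)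
      have s2 := hn'.restrict (γ k)
      rw [← Functor.map_comp, hγ] at s1 s2
      have hth : IsFOThickMor ((yon S).map (bj sq (ψ k))) :=
        isFOThickMor_yon_map_of_isPullback hj _
          ((repWith_yon_map_iff @Etale (bg' sq (ψ k))).2 hψe) _ _ (isPullback_bj sq (ψ k))
      have e0 : (yon S).map (bg sq (ψ k)) ≫ (yon S).map sq.j =
          (yon S).map (bj sq (ψ k)) ≫ (yon S).map (bg' sq (ψ k)) := by
        rw [← Functor.map_comp, ← Functor.map_comp, bsq]
      have comm' : ((yon S).map (bg sq (ψ k)) ≫ sq.top) ≫ hY' =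
          (yon S).map (bj sq (ψ k)) ≫ (yon S).map (bg' sq (ψ k)) ≫ sq.bot := by
        rw [Category.assoc, hsqc, ← Category.assoc, e0, Category.assoc]
      let sqψ : InfSq hY' :=
        { A := 𝒬.X k
          I := sq.I.map (ψ k)
          sq_zero := by rw [← Ideal.map_pow, sq.sq_zero, Ideal.map_bot]
          str := Spec.map (CommRingCat.ofHom (ψ k)) ≫ sq.str
          top := (yon S).map (bg sq (ψ k)) ≫ sq.top
          bot := (yon S).map (bg' sq (ψ k)) ≫ sq.bot
          comm := comm' }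
      exact univThick_descend_unique e hY iZ iY f' hY' hZa he hes hfe w w' HU sqψ
        ((yon S).map (bg sq (ψ k)) ≫ a) (by
          change (yon S).map (bg sq (ψ k)) ≫ sq.top = _
          rw [Category.assoc, ha]) hth _ _
        (s1.2 _ _ _ e0) s1.1 (s2.2 _ _ _ e0) s2.1
  obtain ⟨l, hl, -⟩ := exists_isSol_of_family_etale (𝟙 _) (fun k => bT' sq (φ k))
    (fun k => bg' sq (φ k)) (fun k => hφ k) hs m hm Hu
  have hl1 : (yon S).map sq.j ≫ l = sq.top := by
    have := hl.2 sq.ptT (𝟙 _) sq.j (by rw [Category.id_comp, Category.comp_id])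
    rw [this, Category.id_comp]
  have hl2 : l ≫ hY' = sq.bot := by rw [hl.1, Category.id_comp]
  refine ⟨l, ⟨hl1, hl2⟩, ?_⟩
  rintro l' ⟨h1, h2⟩
  exact univThick_descend_unique e hY iZ iY f' hY' hZa he hes hfe w w' HU sq a ha hj l' l
    h1 h2 hl1 hl2

/-- Descent of universal first order thickenings along surjective etale morphisms. -/
theorem isUnivFOThick_descend (hZa : IsAlgSpace Z) (hZ'a : IsAlgSpace Z') (hY'a : IsAlgSpace Y')
    (he : IsEtaleMor e) (hes : IsSurjectiveMor e) (hiY : IsFOThickMor iY)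
    (hf' : IsEtaleMor f') (w : iZ ≫ f' = e ≫ iY) (w' : iY ≫ hY' = hY)
    (HU : IsUnivFOThick (e ≫ hY) iZ (f' ≫ hY')) : IsUnivFOThick hY iY hY' := by
  have hfe := isFormallyEtaleMor_of_isEtaleMor hZ'a hY'a f' hf'
  refine isUnivFOThick_of_spec_test hY iY hY' hiY w' ?_
  intro A _ I hI str hth a b comm
  have comm' : (a ≫ iY) ≫ hY' = (yon S).map (stdJ I str) ≫ b := by
    rw [Category.assoc, w', comm]
  let sq : InfSq hY' :=
    { A := A
      I := I
      sq_zero := hI
      str := str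
      top := a ≫ iY
      bot := b
      comm := comm' }
  exact univThick_descend_existsUnique e hY iZ iY f' hY' hZa he hes hfe w w' HU sq a rfl hth

end Descend

end Groth.Agent.Helper2.AlgSpFormal
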