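import Mathlib
import Groth.Prelude.Def_AlgSpInf
import Groth.Agent.Lib.Helper2.AlgSp.UnivThick
import Groth.Agent.Lib.Helper2.AlgSp.ThickBC

/-!
# Universal first order thickenings, part 2 (helper2)

* `isFOThickMor_yon_map_of_isFOT`: a first order thickening of schemes with affine target is a first
  order thickening of sheaves.
* `isFormallyUnramifiedMor_of_isUnivFOThick`: the structure morphism of a universal first order
  thickening is formally unramified.
-/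

set_option autoImplicit false
set_option linter.style.haveILetI false
universe u
open CategoryTheory CategoryTheory.Limits AlgebraicGeometry Opposite AlgSp
open Groth.Agent.Helper2.AlgSpBasic Groth.Agent.Helper2.FormalLib Groth.Agent.Helper2.AlgSpFormal

namespace Groth.Agent.Helper2.UnivThick2
variable {S : Scheme.{u}}

/-- A first order thickening of schemes over `S` with affine target gives a first order thickening
of the represented sheaves. -/
theorem isFOThickMor_yon_map_of_isFOT {W V : Over S} (t : W ⟶ V) (hV : IsAffine V.left)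
    (ht : IsFOT t) : IsFOThickMor ((yon S).map t) := by
  haveI := hV
  haveI := ht.ci
  refine ⟨(isThickMor_yon_map_iff t).2 ⟨ht.ci, ht.surj⟩, ?_⟩
  intro V₁ W₁ b₁ fst₁ snd₁ hV₁ hb₁ pb₁
  haveI := hV₁
  obtain ⟨β, rfl⟩ := (yon S).map_surjective b₁
  obtain ⟨φ, rfl⟩ := (yon S).map_surjective fst₁
  have sq' : IsPullback φ snd₁ t β :=
    IsPullback.of_map (yon S) ((yon S).map_injective (by
      rw [Functor.map_comp, Functor.map_comp]; exact pb₁.w)) pb₁
  have sqS := sq'.map (Over.forget S)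
  have h1 : t.left.ker ^ (1 + 1) = ⊥ := by
    rw [pow_two]; exact ht.sq
  have := Groth.Agent.Helper2.PowZeroBC.powZero_of_isPullback_affine t.left β.left snd₁.left
    φ.left sqS 1 h1
  show snd₁.left.ker * snd₁.left.ker = ⊥
  rw [← pow_two]
  exact this

/-- The structure morphism `Z' ⟶ X` of a universal first order thickening is formally
unramified. -/
theorem isFormallyUnramifiedMor_of_isUnivFOThick {Z Z' X : Sp S} (hZ : IsAlgSpace Z)
    (hZ' : IsAlgSpace Z') (h : Z ⟶ X) (i : Z ⟶ Z') (h' : Z' ⟶ X)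
    (HU : IsUnivFOThick h i h') : IsFormallyUnramifiedMor h' := by
  obtain ⟨hi, hw, huniv⟩ := HU
  intro sq l₁ l₂ h1 hb1 h2 hb2
  have hT' : IsAlgSpace ((yon S).obj sq.ptT') := IsAlgSpace.yon_obj _
  have hT : IsAlgSpace ((yon S).obj sq.ptT) := IsAlgSpace.yon_obj _
  have hjT : IsFOThickMor ((yon S).map sq.j) :=
    isFOThickMor_yon_map_of_isFOT sq.j
      (inferInstanceAs (IsAffine (Spec (CommRingCat.of sq.A)))) (isFOT_j sq)
  -- the pullback of `Z ⟶ Z'` along `l₁`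
  have sqP := IsPullback.of_hasPullback l₁ i
  have hP : IsAlgSpace (pullback l₁ i) :=
    isAlgSpace_of_isPullback hZ'.diag hT' hZ l₁ i _ _ sqP
  have hπ : IsFOThickMor (pullback.fst l₁ i) :=
    (isNThickMor_one_iff _).1 (Groth.Agent.Helper2.ThickBC.isNThickMor_of_isPullback hZ' i 1
      ((isNThickMor_one_iff _).2 hi) _ _ _ sqP)
  -- the pullback of `T ⟶ T'` along `P ⟶ T'`
  have sqP₀ := IsPullback.of_hasPullback (pullback.fst l₁ i) ((yon S).map sq.j)
  have hP₀ : IsAlgSpace (pullback (pullback.fst l₁ i) ((yon S).map sq.j)) :=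
    isAlgSpace_of_isPullback hT'.diag hP hT _ _ _ _ sqP₀
  have hρ : IsFOThickMor (pullback.fst (pullback.fst l₁ i) ((yon S).map sq.j)) :=
    (isNThickMor_one_iff _).1 (Groth.Agent.Helper2.ThickBC.isNThickMor_of_isPullback hT'
      ((yon S).map sq.j) 1 ((isNThickMor_one_iff _).2 hjT) _ _ _ sqP₀)
  set π₁ := pullback.fst l₁ i with hπ₁
  set π₂ := pullback.snd l₁ i with hπ₂
  set ρ₁ := pullback.fst π₁ ((yon S).map sq.j) with hρ₁
  set ρ₂ := pullback.snd π₁ ((yon S).map sq.j) with hρ₂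
  have c1 : π₁ ≫ l₁ = π₂ ≫ i := sqP.w
  have c2 : ρ₁ ≫ π₁ = ρ₂ ≫ (yon S).map sq.j := sqP₀.w
  -- step 1: `π₁ ≫ l₁ = π₁ ≫ l₂`
  have e0 : ρ₁ ≫ (π₁ ≫ sq.bot) = (ρ₁ ≫ π₂) ≫ h := by
    rw [← hw, ← hb1, Category.assoc, ← Category.assoc π₂, ← c1, Category.assoc]
  obtain ⟨m, -, hm⟩ := huniv hP₀ hP ρ₁ (ρ₁ ≫ π₂) (π₁ ≫ sq.bot) hρ e0
  have top1 : ρ₁ ≫ π₁ ≫ l₁ = ρ₂ ≫ sq.top := by
    rw [← Category.assoc, c2, Category.assoc, h1]
  have top2 : ρ₁ ≫ π₁ ≫ l₂ = ρ₂ ≫ sq.top := by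
    rw [← Category.assoc, c2, Category.assoc, h2]
  have ai : (ρ₁ ≫ π₂) ≫ i = ρ₂ ≫ sq.top := by
    rw [Category.assoc, ← c1, top1]
  have s1 : π₁ ≫ l₁ = π₁ ≫ l₂ := by
    rw [hm (π₁ ≫ l₁) ⟨by rw [top1, ai], by rw [Category.assoc, hb1]⟩,
      hm (π₁ ≫ l₂) ⟨by rw [top2, ai], by rw [Category.assoc, hb2]⟩]
  -- step 2
  have e1 : π₁ ≫ sq.bot = π₂ ≫ h := by
    rw [← hw, ← Category.assoc, ← c1, Category.assoc, hb1]
  obtain ⟨m', -, hm'⟩ := huniv hP hT' π₁ π₂ sq.bot hπ e1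
  rw [hm' l₁ ⟨c1, hb1⟩, hm' l₂ ⟨by rw [← s1, c1], hb2⟩]

end Groth.Agent.Helper2.UnivThick2
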