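import Mathlib
import Groth.Prelude.Def_AlgSpInf
import Groth.Agent.Lib.Helper2.AlgSp.UnivThick2
import Groth.Agent.Lib.Helper2.AlgSp.Mor2

/-!
# Infinitesimal neighbourhoods of closed subspaces (helper2)

* `exists_affine_family`: refine a prescribed étale chart family of an algebraic space along a map
  from a scheme.
* `chart_transfer`: transfer of pullback squares between charts.
* `affLocT_powZero_of_family`: the nilpotency condition on all affine étale charts follows from the
  one on a covering family of charts.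
* `isNThickMor_of_isInfNbhd`: `Z ⟶ Z_n` is an `n`-th order thickening.
* `exists_lift_of_isInfNbhd`: morphisms from `n`-th order thickenings factor through `Z_n`.
* `isUnivFOThick_of_isInfNbhd`: the first order neighbourhood of an immersion is the universal
  first order thickening.
-/

set_option autoImplicit false
set_option linter.style.haveILetI false
universe u
open CategoryTheory CategoryTheory.Limits AlgebraicGeometry Opposite AlgSp
open Groth.Agent.Helper2.AlgSpBasic Groth.Agent.Helper2.FormalLib Groth.Agent.Helper2.AlgSpFormal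

namespace Groth.Agent.Helper2.InfNbhd
variable {S : Scheme.{u}}

/-- Refinement of a prescribed jointly surjective étale chart family along a morphism from a
scheme, by affine schemes. -/
theorem exists_affine_family {B' : Sp S} {κ : Type u} (Uk : κ → Over S)
    (pk : ∀ i, (yon S).obj (Uk i) ⟶ B') (hpe : ∀ i, RepWith @Etale (pk i))
    (hps : ∀ z : Points B', ∃ i u, Points.ofPt (pk i) u = z) {V : Over S}
    (c : (yon S).obj V ⟶ B') :
    ∃ (ι : Type u) (T : ι → Over S) (σ : ι → κ) (τ : ∀ k, T k ⟶ V) (μ : ∀ k, T k ⟶ Uk (σ k)),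
      (∀ k, IsAffine (T k).left) ∧ (∀ k, Etale (τ k).left) ∧
      (∀ v : V.left, ∃ k, v ∈ Set.range (τ k).left) ∧
      ∀ k, (yon S).map (τ k) ≫ c = (yon S).map (μ k) ≫ pk (σ k) := by
  have hrep : ∀ i, Representable (pk i) := fun i => (hpe i).rep
  have key : ∀ i, ∃ (P : Over S) (β : P ⟶ Uk i) (α : P ⟶ V),
      IsPullback ((yon S).map β) ((yon S).map α) (pk i) c := fun i => by
    obtain ⟨β, hβ⟩ := (yon S).map_surjective ((hrep i).fst c)
    refine ⟨(hrep i).pullback c, β, (hrep i).snd c, ?_⟩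
    rw [hβ]
    exact (hrep i).isPullback c
  choose P β α sq using key
  have hαe : ∀ i, Etale (α i).left := fun i => (hpe i).property c _ _ (sq i)
  let 𝒱 := fun i => (P i).left.affineCover
  let ι := Σ i : κ, (𝒱 i).I₀
  let T : ι → Over S := fun k => Over.mk ((𝒱 k.1).f k.2 ≫ (P k.1).hom)
  let φ : ∀ k : ι, T k ⟶ P k.1 := fun k => Over.homMk ((𝒱 k.1).f k.2) rfl
  refine ⟨ι, T, fun k => k.1, fun k => φ k ≫ α k.1, fun k => φ k ≫ β k.1, fun k => ?_,
    fun k => ?_, fun v => ?_, fun k => ?_⟩
  · show IsAffine ((𝒱 k.1).X k.2)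
    infer_instance
  · show Etale ((𝒱 k.1).f k.2 ≫ (α k.1).left)
    haveI := hαe k.1
    infer_instance
  · obtain ⟨i, u, hu⟩ := hps (Points.ofPt c v)
    obtain ⟨w, -, hw⟩ := exists_point_of_isPullback_yon (pk i) c (β i) (α i) (sq i) u v hu
    obtain ⟨m, y, hy⟩ := (𝒱 i).exists_eq w
    refine ⟨⟨i, m⟩, y, ?_⟩
    show ((𝒱 i).f m ≫ (α i).left) y = v
    rw [Scheme.Hom.comp_apply, hy, hw]
  · rw [Functor.map_comp, Functor.map_comp, Category.assoc, Category.assoc, (sq k.1).w]

/-- Transfer of a pullback square from one chart to another. -/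
theorem chart_transfer {B B' : Sp S} (iB : B ⟶ B') {V W : Over S} (c : (yon S).obj V ⟶ B')
    (a : (yon S).obj W ⟶ B) (snd : W ⟶ V) (big : IsPullback a ((yon S).map snd) iB c)
    {T Ui Wi : Over S} (pi : (yon S).obj Ui ⟶ B') (ai : (yon S).obj Wi ⟶ B) (sndi : Wi ⟶ Ui)
    (sqB : IsPullback ai ((yon S).map sndi) iB pi) (t : T ⟶ V) (μ : T ⟶ Ui)
    (hcomm : (yon S).map t ≫ c = (yon S).map μ ≫ pi) :
    ∃ l₀ : pullback t snd ⟶ Wi, IsPullback l₀ (pullback.fst t snd) sndi μ ∧
      (yon S).map l₀ ≫ ai = (yon S).map (pullback.snd t snd) ≫ a := by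
  have sqT := (IsPullback.of_hasPullback t snd).map (yon S)
  have bigT := sqT.flip.paste_horiz big
  rw [hcomm] at bigT
  have hw : ((yon S).map (pullback.snd t snd) ≫ a) ≫ iB =
      ((yon S).map (pullback.fst t snd) ≫ (yon S).map μ) ≫ pi := by
    rw [Category.assoc _ _ pi]; exact bigT.w
  obtain ⟨l₀, hl₀⟩ := (yon S).map_surjective (sqB.lift _ _ hw)
  have hl1 : (yon S).map l₀ ≫ ai = (yon S).map (pullback.snd t snd) ≫ a := by
    rw [hl₀, sqB.lift_fst]
  have hl2 : (yon S).map l₀ ≫ (yon S).map sndi =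
      (yon S).map (pullback.fst t snd) ≫ (yon S).map μ := by
    rw [hl₀, sqB.lift_snd]
  have sql : IsPullback ((yon S).map l₀) ((yon S).map (pullback.fst t snd))
      ((yon S).map sndi) ((yon S).map μ) := by
    refine IsPullback.of_right ?_ hl2 sqB
    rw [hl1]
    exact bigT
  exact ⟨l₀, IsPullback.of_map (yon S) ((yon S).map_injective (by
      rw [Functor.map_comp, Functor.map_comp]; exact hl2)) sql, hl1⟩

/-- The nilpotency condition on all affine étale charts of the target follows from the condition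
on a jointly surjective family of affine étale charts. -/
theorem affLocT_powZero_of_family {B B' : Sp S} (iB : B ⟶ B')
    (hcl : RepWith @IsClosedImmersion iB) (n : ℕ) {κ : Type u} (Uk Wk : κ → Over S)
    (pk : ∀ i, (yon S).obj (Uk i) ⟶ B') (hpe : ∀ i, RepWith @Etale (pk i))
    (hps : ∀ z : Points B', ∃ i u, Points.ofPt (pk i) u = z) (hUk : ∀ i, IsAffine (Uk i).left)
    (ak : ∀ i, (yon S).obj (Wk i) ⟶ B) (sk : ∀ i, Wk i ⟶ Uk i)
    (sqk : ∀ i, IsPullback (ak i) ((yon S).map (sk i)) iB (pk i))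
    (hpow : ∀ i, powZero n (sk i).left) : AffLocT (powZero n) iB := by
  intro V W b fst snd hV hbe sqW
  haveI := hV
  haveI : IsClosedImmersion snd.left := hcl.property b fst snd sqW
  obtain ⟨ι, T, σ, τ, μ, hT, hτe, hτs, hcomm⟩ := exists_affine_family Uk pk hpe hps b
  have hchart : ∀ k : ι, powZero n (pullback.fst (τ k) snd).left := fun k => by
    obtain ⟨l₀, sql, -⟩ := chart_transfer iB b fst snd sqW (pk (σ k)) (ak (σ k)) (sk (σ k))
      (sqk (σ k)) (τ k) (μ k) (hcomm k)
    haveI := hUk (σ k)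
    haveI := hT k
    haveI : IsClosedImmersion (sk (σ k)).left := hcl.property _ _ _ (sqk (σ k))
    exact Groth.Agent.Helper2.PowZeroBC.powZero_of_isPullback_affine (sk (σ k)).left (μ k).left
      (pullback.fst (τ k) snd).left l₀.left (sql.map (Over.forget S)) n (hpow (σ k))
  refine Groth.Agent.Helper2.PowZeroBC.powZero_of_flat_family snd.left
    (fun k : ι => (T k).left) (fun k => (τ k).left) hT (fun k => ?_) hτs
    (fun k => (pullback (τ k) snd).left) (fun k => (pullback.fst (τ k) snd).left)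
    (fun k => (pullback.snd (τ k) snd).left)
    (fun k => ((IsPullback.of_hasPullback (τ k) snd).flip).map (Over.forget S)) n hchart
  haveI := hτe k
  infer_instance

/-- A closed immersion whose ideal sheaf is nilpotent is surjective. -/
theorem surjective_of_ker_pow_eq_bot {W V : Scheme.{u}} (f : W ⟶ V) [IsClosedImmersion f] (n : ℕ)
    (h : f.ker ^ (n + 1) = ⊥) : Surjective f := by
  constructor
  have h1 : (f.ker.support : Set V) = closure (Set.range f) := Scheme.Hom.support_ker f
  have h2 : (f.ker ^ (n + 1)).support = f.ker.support := Scheme.IdealSheafData.support_pow_succ _ n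
  rw [h, Scheme.IdealSheafData.support_bot] at h2
  rw [← h2, f.isClosedEmbedding.isClosed_range.closure_eq] at h1
  intro v
  have : v ∈ Set.range f := by rw [← h1]; trivial
  exact this

/-- If `W₁ ⟶ V` has ideal the `(n+1)`-st power of the ideal of `W ⟶ V`, then `W ⟶ W₁` is a closed
immersion with nilpotent ideal. -/
theorem powZero_of_comp {W W₁ V : Scheme.{u}} [IsAffine V] (t : W ⟶ W₁) (s₁ : W₁ ⟶ V) (s : W ⟶ V)
    (h : t ≫ s₁ = s) [IsClosedImmersion s₁] [IsClosedImmersion s] (n : ℕ)
    (hk : s₁.ker = s.ker ^ (n + 1)) : IsClosedImmersion t ∧ t.ker ^ (n + 1) = ⊥ := by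
  subst h
  haveI : IsClosedImmersion t := IsClosedImmersion.of_comp_isClosedImmersion t s₁
  refine ⟨inferInstance, ?_⟩
  haveI : IsAffine W₁ := isAffine_of_isAffineHom s₁
  rw [Groth.Agent.Helper2.PowZeroBC.ker_pow_eq_bot_iff]
  have hφ : Function.Surjective s₁.appTop.hom :=
    (IsClosedImmersion.isAffine_surjective_of_isAffine (f := s₁)).2
  have h1 := congrArg (fun I => I.ideal ⟨⊤, isAffineOpen_top V⟩) hk
  simp only [Scheme.IdealSheafData.ideal_pow, Pi.pow_apply, Scheme.Hom.ker_apply] at h1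
  have h2 : (t ≫ s₁).appTop.hom = t.appTop.hom.comp s₁.appTop.hom := by
    rw [Scheme.Hom.comp_appTop]; rfl
  have h3 : RingHom.ker t.appTop.hom =
      (RingHom.ker (t ≫ s₁).appTop.hom).map s₁.appTop.hom := by
    rw [h2, ← RingHom.comap_ker, Ideal.map_comap_of_surjective _ hφ]
  rw [h3, ← Ideal.map_pow]
  have h4 : RingHom.ker (t ≫ s₁).appTop.hom ^ (n + 1) = RingHom.ker s₁.appTop.hom := h1.symm
  rw [h4]
  exact (Ideal.map_eq_bot_iff_le_ker _).mpr le_rfl


/-- Combining representable properties. -/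
theorem repWith_inf {P Q : MorphismProperty Scheme.{u}} {F G : Sp S} {f : F ⟶ G}
    (hP : RepWith P f) (hQ : RepWith Q f) : RepWith (P ⊓ Q) f :=
  ⟨hP.rep, fun {_ _} g fst snd sq => ⟨hP.property g fst snd sq, hQ.property g fst snd sq⟩⟩

/-- The chart data attached to an infinitesimal neighbourhood and an affine étale chart of the
ambient space. -/
theorem exists_chart_data {Z U Z₁ : Sp S} (n : ℕ) (c : Z ⟶ U) (j : Z ⟶ Z₁) (k : Z₁ ⟶ U)
    (hN : IsInfNbhd n c j k) {V : Over S} (hV : IsAffine V.left) (b : (yon S).obj V ⟶ U)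
    (hb : RepWith @Etale b) :
    ∃ (W W₁ : Over S) (fstW : (yon S).obj W ⟶ Z) (sndW : W ⟶ V) (fstW₁ : (yon S).obj W₁ ⟶ Z₁)
      (sndW₁ : W₁ ⟶ V) (t : W ⟶ W₁),
      IsPullback fstW ((yon S).map sndW) c b ∧ IsPullback fstW₁ ((yon S).map sndW₁) k b ∧
      IsPullback fstW ((yon S).map t) j fstW₁ ∧ t ≫ sndW₁ = sndW ∧
      IsClosedImmersion sndW.left ∧ IsClosedImmersion sndW₁.left ∧
      sndW₁.left.ker = sndW.left.ker ^ (n + 1) ∧
      IsClosedImmersion t.left ∧ t.left.ker ^ (n + 1) = ⊥ ∧ Surjective t.left ∧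
      IsAffine W₁.left ∧ RepWith @Etale fstW₁ := by
  obtain ⟨hjk, hc, hk, hker⟩ := hN
  haveI := hV
  have sqW := hc.rep.isPullback b
  have sqW₁ := hk.rep.isPullback b
  have hcW : IsClosedImmersion (hc.rep.snd b).left := hc.property b _ _ sqW
  have hcW₁ : IsClosedImmersion (hk.rep.snd b).left := hk.property b _ _ sqW₁
  have hkerV := hker b _ _ _ _ hV hb sqW sqW₁
  have hw : (hc.rep.fst b ≫ j) ≫ k = (yon S).map (hc.rep.snd b) ≫ b := by
    rw [Category.assoc, hjk]; exact sqW.w
  obtain ⟨t, ht⟩ := (yon S).map_surjective (sqW₁.lift _ _ hw)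
  have ht1 : (yon S).map t ≫ hk.rep.fst b = hc.rep.fst b ≫ j := by rw [ht, sqW₁.lift_fst]
  have ht2 : (yon S).map t ≫ (yon S).map (hk.rep.snd b) = (yon S).map (hc.rep.snd b) := by
    rw [ht, sqW₁.lift_snd]
  have ht2' : t ≫ hk.rep.snd b = hc.rep.snd b :=
    (yon S).map_injective (by rw [Functor.map_comp]; exact ht2)
  have sqT : IsPullback (hc.rep.fst b) ((yon S).map t) j (hk.rep.fst b) := by
    refine (IsPullback.of_right ?_ ht1 sqW₁.flip).flip
    rw [ht2, hjk]
    exact sqW.flip
  have ht3 : t.left ≫ (hk.rep.snd b).left = (hc.rep.snd b).left := by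
    rw [← Over.comp_left, ht2']
  obtain ⟨hcl, hpow⟩ := powZero_of_comp t.left (hk.rep.snd b).left (hc.rep.snd b).left ht3 n hkerV
  haveI := hcl
  refine ⟨_, _, hc.rep.fst b, hc.rep.snd b, hk.rep.fst b, hk.rep.snd b, t, sqW, sqW₁, sqT, ht2',
    hcW, hcW₁, hkerV, hcl, hpow, surjective_of_ker_pow_eq_bot t.left n hpow,
    isAffine_of_isAffineHom (hk.rep.snd b).left, repWith_of_isPullback @Etale sqW₁.flip hb⟩

/-- `Z ⟶ Z_n` is an `n`-th order thickening. -/
theorem isNThickMor_of_isInfNbhd {Z U Z₁ : Sp S} (hU : IsAlgSpace U) (n : ℕ) (c : Z ⟶ U)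
    (j : Z ⟶ Z₁) (k : Z₁ ⟶ U) (hN : IsInfNbhd n c j k) : IsNThickMor n j := by
  have hjk := hN.1
  have hc := hN.2.1
  have hk := hN.2.2.1
  haveI : Mono k := mono_of_repWith_isImmersion k
    (repWith_mono (fun _ _ g (hg : IsClosedImmersion g) => (inferInstance : IsImmersion g)) hk)
  have hjcl : RepWith @IsClosedImmersion j :=
    repWith_lift_of_mono @IsClosedImmersion k c j hjk hc
  obtain ⟨κ, Vk, bk, hVaff, hbe, hbs⟩ := exists_affine_chartFamily hU
  choose W W₁ fstW sndW fstW₁ sndW₁ t sqW sqW₁ sqT htc hcW hcW₁ hker htcl htpow htsurj hW₁aff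
    hfstW₁e using fun i => exists_chart_data n c j k hN (hVaff i) (bk i) (hbe i)
  have hcover : ∀ z : Points Z₁, ∃ i w, Points.ofPt (fstW₁ i) w = z := by
    intro z
    obtain ⟨i, v, hv⟩ := hbs (Points.map k z)
    obtain ⟨w, hw, -⟩ := exists_point_of_isPullback_right k (bk i) (fstW₁ i) (sndW₁ i) (sqW₁ i)
      z v hv.symm
    exact ⟨i, w, hw⟩
  have hsurj : IsSurjectiveMor j := by
    intro z
    obtain ⟨i, w, hw⟩ := hcover z
    obtain ⟨w', hw'⟩ := (htsurj i).surj w
    refine ⟨Points.ofPt (fstW i) w', ?_⟩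
    rw [Points.map_ofPt, (sqT i).w, ofPt_yon_map_comp, hw', hw]
  refine ⟨repWith_inf hjcl (repWith_surjective_of_isSurjectiveMor j hjcl.rep hsurj), ?_⟩
  exact affLocT_powZero_of_family j hjcl n W₁ W fstW₁ hfstW₁e hcover hW₁aff fstW t sqT htpow


set_option maxHeartbeats 800000 in
/-- A morphism from an affine `n`-th order thickening `T ⊂ T'` to the ambient space whose
restriction to `T` factors through `Z` factors through the `n`-th order infinitesimal
neighbourhood `Z_n`. -/
theorem exists_lift_of_isInfNbhd {Z U Z₁ : Sp S} (hU : IsAlgSpace U) (n : ℕ) (c : Z ⟶ U)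
    (j : Z ⟶ Z₁) (k : Z₁ ⟶ U) (hN : IsInfNbhd n c j k) {T T' : Over S} (hT' : IsAffine T'.left)
    (t : T ⟶ T') (htcl : IsClosedImmersion t.left) (htpow : t.left.ker ^ (n + 1) = ⊥)
    (a : (yon S).obj T ⟶ Z) (b' : (yon S).obj T' ⟶ U) (comm : (yon S).map t ≫ b' = a ≫ c) :
    ∃ l : (yon S).obj T' ⟶ Z₁, l ≫ k = b' := by
  have hk := hN.2.2.1
  haveI := hT'
  haveI := htcl
  have sqQ := hk.rep.isPullback b'
  haveI hcl : IsClosedImmersion (hk.rep.snd b').left := hk.property b' _ _ sqQ
  obtain ⟨κ, Vk, bk, hVaff, hbe, hbs⟩ := exists_affine_chartFamily hU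
  obtain ⟨ι, T₀, σ, τ, ν, hT₀, hτe, hτs, hcomm⟩ := exists_affine_family Vk bk hbe hbs b'
  have hinj : Function.Injective (hk.rep.snd b').left.appTop.hom := by
    rw [injective_iff_map_eq_zero]
    intro x hx
    refine Groth.Agent.Helper2.PowZeroBC.eq_zero_of_flat_family (fun m => (T₀ m).left)
      (fun m => (τ m).left) (fun m => by haveI := hτe m; infer_instance) hτs x (fun m => ?_)
    haveI := hT₀ m
    haveI := hVaff (σ m)
    obtain ⟨W, W₁, fstW, sndW, fstW₁, sndW₁, tW, sqW, sqW₁, sqT, htc, hcW, hcW₁, hker, -⟩ :=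
      exists_chart_data n c j k hN (hVaff (σ m)) (bk (σ m)) (hbe (σ m))
    haveI := hcW
    haveI := hcW₁
    obtain ⟨l₀, sql, -⟩ := chart_transfer k b' (hk.rep.fst b') (hk.rep.snd b') sqQ (bk (σ m))
      fstW₁ sndW₁ sqW₁ (τ m) (ν m) (hcomm m)
    -- the lift of `T₀ ×_{T'} T` to `W`
    have hw : ((yon S).map (pullback.snd (τ m) t) ≫ a) ≫ c =
        (yon S).map (pullback.fst (τ m) t ≫ ν m) ≫ bk (σ m) := by
      rw [Category.assoc, ← comm, ← Category.assoc, ← Functor.map_comp, ← pullback.condition,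
        Functor.map_comp, Category.assoc, hcomm m, Functor.map_comp, Category.assoc]
    obtain ⟨m₀, hm₀⟩ := (yon S).map_surjective (sqW.lift _ _ hw)
    have hm₀' : m₀ ≫ sndW = pullback.fst (τ m) t ≫ ν m :=
      (yon S).map_injective (by rw [Functor.map_comp, hm₀, sqW.lift_snd])
    -- kernels
    haveI : IsAffine W₁.left := isAffine_of_isAffineHom sndW₁.left
    have sqS : IsPullback l₀.left (pullback.fst (τ m) (hk.rep.snd b')).left sndW₁.left
        (ν m).left := sql.map (Over.forget S)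
    have po := isPushout_appTop_of_isPullback sqS
    have hsurj₁ : Function.Surjective sndW₁.left.appTop.hom :=
      (IsClosedImmersion.isAffine_surjective_of_isAffine (f := sndW₁.left)).2
    have hker₁ := Groth.Agent.Helper2.PowZeroBC.ker_of_isPushout _ _ _ _ po hsurj₁
    have h1 := congrArg (fun I => I.ideal ⟨⊤, isAffineOpen_top (Vk (σ m)).left⟩) hker
    simp only [Scheme.IdealSheafData.ideal_pow, Pi.pow_apply, Scheme.Hom.ker_apply] at h1
    have h1' : RingHom.ker sndW₁.left.appTop.hom =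
        RingHom.ker sndW.left.appTop.hom ^ (n + 1) := h1
    have hx' : (τ m).left.appTop.hom x ∈
        RingHom.ker (pullback.fst (τ m) (hk.rep.snd b')).left.appTop.hom := by
      rw [RingHom.mem_ker]
      have e1 : (pullback.fst (τ m) (hk.rep.snd b')).left ≫ (τ m).left =
          (pullback.snd (τ m) (hk.rep.snd b')).left ≫ (hk.rep.snd b').left := by
        rw [← Over.comp_left, ← Over.comp_left, pullback.condition]
      have e2 := congrArg (fun f => f.appTop.hom x) e1
      simp only [Scheme.Hom.comp_appTop, CommRingCat.hom_comp, RingHom.comp_apply] at e2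
      rw [e2, hx, map_zero]
    have hK : RingHom.ker (pullback.fst (τ m) t).left.appTop.hom ^ (n + 1) = ⊥ := by
      have sqR : IsPullback (pullback.snd (τ m) t).left (pullback.fst (τ m) t).left t.left
          (τ m).left := ((IsPullback.of_hasPullback (τ m) t).flip).map (Over.forget S)
      have hp := Groth.Agent.Helper2.PowZeroBC.powZero_of_isPullback_affine t.left (τ m).left
        (pullback.fst (τ m) t).left (pullback.snd (τ m) t).left sqR n htpow
      haveI : IsClosedImmersion (pullback.fst (τ m) t).left :=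
        MorphismProperty.of_isPullback sqR htcl
      exact (Groth.Agent.Helper2.PowZeroBC.ker_pow_eq_bot_iff _ n).mp hp
    have hle : (RingHom.ker sndW.left.appTop.hom).map (ν m).left.appTop.hom ≤
        RingHom.ker (pullback.fst (τ m) t).left.appTop.hom := by
      rw [Ideal.map_le_iff_le_comap]
      intro g hg
      rw [Ideal.mem_comap, RingHom.mem_ker]
      have e1 : m₀.left ≫ sndW.left = (pullback.fst (τ m) t).left ≫ (ν m).left := by
        rw [← Over.comp_left, ← Over.comp_left, hm₀']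
      have e2 := congrArg (fun f => f.appTop.hom g) e1
      simp only [Scheme.Hom.comp_appTop, CommRingCat.hom_comp, RingHom.comp_apply] at e2
      rw [← e2, (RingHom.mem_ker).mp hg, map_zero]
    rw [hker₁, h1', Ideal.map_pow] at hx'
    have hfin := Ideal.pow_right_mono hle (n + 1) hx'
    rw [hK] at hfin
    exact hfin
  haveI : IsIso (hk.rep.snd b').left :=
    IsClosedImmersion.isIso_of_injective_of_isAffine hinj
  haveI : IsIso ((Over.forget S).map (hk.rep.snd b')) := ‹IsIso (hk.rep.snd b').left›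
  haveI : IsIso (hk.rep.snd b') := isIso_of_reflects_iso _ (Over.forget S)
  refine ⟨inv ((yon S).map (hk.rep.snd b')) ≫ hk.rep.fst b', ?_⟩
  rw [Category.assoc, sqQ.w, IsIso.inv_hom_id_assoc]

/-- The first order infinitesimal neighbourhood of an immersion `Z ⟶ U ⟶ X` (closed followed by
open) is the universal first order thickening of `Z` over `X`. -/
theorem isUnivFOThick_of_isInfNbhd {Z U X Z₁ : Sp S} (hU : IsAlgSpace U) (hX : IsAlgSpace X)
    (c : Z ⟶ U) (u : U ⟶ X) (hu : RepWith @IsOpenImmersion u) (j : Z ⟶ Z₁) (k : Z₁ ⟶ U)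
    (hN : IsInfNbhd 1 c j k) : IsUnivFOThick (c ≫ u) j (k ≫ u) := by
  have hjk := hN.1
  have hk := hN.2.2.1
  haveI : Mono k := mono_of_repWith_isImmersion k
    (repWith_mono (fun _ _ g (hg : IsClosedImmersion g) => (inferInstance : IsImmersion g)) hk)
  haveI : Mono u := mono_of_repWith_isOpenImmersion u hu
  refine isUnivFOThick_of_spec_test (c ≫ u) j (k ≫ u)
    ((isNThickMor_one_iff j).1 (isNThickMor_of_isInfNbhd hU 1 c j k hN))
    (by rw [← Category.assoc, hjk]) ?_
  intro A _ I hI str hth a b comm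
  have hfot := isFOT_spec_quot I hI str
  have hrange : Set.range (Points.map b) ⊆ Set.range (Points.map u) := by
    rintro _ ⟨p, rfl⟩
    obtain ⟨q, rfl⟩ := isSurjectiveMor_of_repWith_surjective ((yon S).map (stdJ I str))
      ((repWith_yon_map_iff @Surjective _).2 hfot.surj) p
    refine ⟨Points.map (a ≫ c) q, ?_⟩
    rw [← Points.map_comp, ← Points.map_comp, comm, Category.assoc]
  obtain ⟨b', hb'⟩ := exists_lift_of_range_subset hU hX u hu b hrange
  have comm' : (yon S).map (stdJ I str) ≫ b' = a ≫ c := by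
    rw [← cancel_mono u, Category.assoc, hb', comm, Category.assoc]
  obtain ⟨l, hl⟩ := exists_lift_of_isInfNbhd hU 1 c j k hN
    (inferInstanceAs (IsAffine (Spec (CommRingCat.of A)))) (stdJ I str) hfot.ci
    (by rw [pow_two]; exact hfot.sq) a b' comm'
  refine ⟨l, ⟨?_, ?_⟩, ?_⟩
  · rw [← cancel_mono k, Category.assoc, hl, comm', Category.assoc, hjk]
  · rw [← Category.assoc, hl, hb']
  · rintro l' ⟨-, h2⟩
    rw [← cancel_mono (k ≫ u), h2, ← Category.assoc, hl, hb']

end Groth.Agent.Helper2.InfNbhd
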