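import Mathlib
import Groth.Agent.Lib.Helper2.AlgSp.FTPoint
namespace Groth.Agent.Helper2.AlgSpBasic
open CategoryTheory CategoryTheory.Limits AlgebraicGeometry Opposite AlgSp Topology
open Groth.Agent.Helper2.EtaleLocal
universe u
variable {S : Scheme.{u}}

/-- A locally closed point of a scheme with a Jacobson étale cover is closed. -/
theorem isClosed_singleton_of_etale_surjective_jacobson {W₀ W : Scheme.{u}} (π : W₀ ⟶ W)
    [Etale π] [Surjective π] [JacobsonSpace W₀] (w : W) (V : W.Opens)
    (hV : closure {w} ∩ (V : Set W) ⊆ {w}) (hwV : w ∈ V) : IsClosed ({w} : Set W) := by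
  rw [← closure_subset_iff_isClosed]
  intro w' hw'
  have hsp : w ⤳ w' := specializes_iff_mem_closure.2 hw'
  obtain ⟨w₀', rfl⟩ := π.surjective w'
  obtain ⟨w₀, hw₀sp, hw₀⟩ := (Flat.generalizingMap π) hsp
  have hq : LocallyQuasiFinite π := locallyQuasiFinite_of_etale_mor π
  have hdisc : _root_.IsDiscrete (π ⁻¹' {w}) := π.isDiscrete_preimage_singleton w
  obtain ⟨O, hO, hOeq⟩ := isDiscrete_iff_forall_mem_exists_isOpen.1 hdisc w₀ hw₀
  have hfib : π ⁻¹' {w} = π ⁻¹' (closure {w}) ∩ π ⁻¹' (V : Set W) := by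
    ext t
    constructor
    · intro ht
      rw [Set.mem_preimage, Set.mem_singleton_iff] at ht
      exact ⟨by rw [Set.mem_preimage, ht]; exact subset_closure rfl,
        by rw [Set.mem_preimage, ht]; exact hwV⟩
    · rintro ⟨h1, h2⟩
      exact hV ⟨h1, h2⟩
  have hlc : IsLocallyClosed ({w₀} : Set W₀) := by
    refine ⟨O ∩ π ⁻¹' (V : Set W), π ⁻¹' (closure {w}), hO.inter (V.2.preimage π.continuous),
      isClosed_closure.preimage π.continuous, ?_⟩
    rw [← hOeq, hfib]
    ext t
    simp only [Set.mem_inter_iff]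
    tauto
  have hcl : IsClosed ({w₀} : Set W₀) := isClosed_singleton_of_isLocallyClosed_singleton hlc
  have hmem : w₀' ∈ ({w₀} : Set W₀) := hw₀sp.mem_closed hcl rfl
  rw [Set.mem_singleton_iff] at hmem
  rw [hmem, hw₀]
  exact rfl

/-- Over a Jacobson algebraic space, a finite type point in the image of a scheme locally of
finite type is the image of a closed point. -/
theorem exists_closed_point_over_ftPt_of_jacobson {X : Sp S} (hX : IsAlgSpace X)
    (hJ : EtaleLocally (fun U => JacobsonSpace ↥U) X) (x : Points X) (hx : IsFTPt X x) {W : Over S}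
    (g : (yon S).obj W ⟶ X) (hg : LocP @LocallyOfFiniteType g)
    (hxW : x ∈ Set.range (Points.ofPt g)) :
    ∃ w : ↥W.left, IsClosed ({w} : Set ↥W.left) ∧ Points.ofPt g w = x := by
  obtain ⟨k, _, str, ξ, hξ, rfl⟩ := hx
  obtain ⟨w₁, hw₁⟩ := hxW
  have hrepξ : Representable ξ := hX.representable_from_yon ξ
  have hξr : RepWith @LocallyOfFiniteType ξ :=
    repWith_of_locP _ (IsAlgSpace.yon_obj _) hX ξ hrepξ hξ
  have hrepg : Representable g := hX.representable_from_yon g
  have hgr : RepWith @LocallyOfFiniteType g :=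
    repWith_of_locP _ (IsAlgSpace.yon_obj _) hX g hrepg hg
  have sq := hrepξ.isPullback g
  obtain ⟨fstP, hfstP⟩ := (yon S).map_surjective (hrepξ.fst g)
  rw [← hfstP] at sq
  haveI hsndlft : LocallyOfFiniteType (hrepξ.snd g).left := hξr.property g _ _ (hrepξ.isPullback g)
  haveI hfstlft : LocallyOfFiniteType fstP.left := hgr.property ξ _ _ sq.flip
  obtain ⟨p₀, -, -⟩ := exists_point_of_isPullback_yon ξ g fstP (hrepξ.snd g) sq
    (IsLocalRing.closedPoint k) w₁ hw₁.symm
  -- a closed point of the fibre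
  have : JacobsonSpace ↥(Over.mk str).left := by
    change JacobsonSpace ↥(Spec (CommRingCat.of k))
    infer_instance
  have : JacobsonSpace ↥(hrepξ.pullback g).left := LocallyOfFiniteType.jacobsonSpace fstP.left
  have hne : (closedPoints ↥(hrepξ.pullback g).left).Nonempty := by
    by_contra hcon
    rw [Set.not_nonempty_iff_eq_empty] at hcon
    have hcl := closure_closedPoints (X := ↥(hrepξ.pullback g).left)
    rw [hcon, closure_empty] at hcl
    haveI : Nonempty ↥(hrepξ.pullback g).left := ⟨p₀⟩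
    exact Set.empty_ne_univ hcl
  obtain ⟨f', hf'⟩ := hne
  have hf'c : IsClosed ({f'} : Set ↥(hrepξ.pullback g).left) := hf'
  rw [isClosed_singleton_iff_isClosedImmersion] at hf'c
  let gg : Spec (CommRingCat.of ↑((hrepξ.pullback g).left.residueField f')) ⟶ W.left :=
    (hrepξ.pullback g).left.fromSpecResidueField f' ≫ (hrepξ.snd g).left
  haveI : LocallyOfFiniteType gg := by
    change LocallyOfFiniteType ((hrepξ.pullback g).left.fromSpecResidueField f' ≫ (hrepξ.snd g).left)
    infer_instance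
  obtain ⟨V, huV, hVcl⟩ := exists_open_closure_inter_subset_of_lft gg
  have hgw : gg (IsLocalRing.closedPoint _) = (hrepξ.snd g).left f' := by
    change ((hrepξ.pullback g).left.fromSpecResidueField f' ≫ (hrepξ.snd g).left) _ = _
    rw [Scheme.Hom.comp_apply, Scheme.fromSpecResidueField_apply]
  rw [hgw] at huV hVcl
  -- the Jacobson étale cover of `W`
  obtain ⟨U₀, a₀, ha₀E, ha₀S, hJ₀⟩ := hJ
  have hrep₀ := ha₀E.rep
  have sq₀ := hrep₀.isPullback g
  obtain ⟨k₀, hk₀⟩ := (yon S).map_surjective (hrep₀.fst g)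
  rw [← hk₀] at sq₀
  haveI hπE : Etale (hrep₀.snd g).left := ha₀E.property g _ _ (hrep₀.isPullback g)
  haveI hπS : Surjective (hrep₀.snd g).left := ha₀S.property g _ _ (hrep₀.isPullback g)
  haveI : LocallyOfFiniteType k₀.left :=
    hg ((yon S).map (hrep₀.snd g)) a₀ k₀ ((repWith_yon_map_iff @Etale _).mpr hπE) ha₀E sq₀.w.symm
  haveI : JacobsonSpace ↥U₀.left := hJ₀
  haveI : JacobsonSpace ↥(hrep₀.pullback g).left := LocallyOfFiniteType.jacobsonSpace k₀.left
  refine ⟨(hrepξ.snd g).left f',
    isClosed_singleton_of_etale_surjective_jacobson (hrep₀.snd g).left _ V hVcl huV, ?_⟩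
  rw [← ofPt_yon_map_comp, ← sq.w, ofPt_yon_map_comp]
  congr 1
  exact Subsingleton.elim (α := PrimeSpectrum k) _ _

end Groth.Agent.Helper2.AlgSpBasic
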