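import Mathlib
import Groth.Prelude.Def_AlgSp4
import Groth.Prelude.Def_AlgSpDec
import Groth.Agent.Lib.Helper2.AlgSp.Diag
import Groth.Agent.Lib.Helper2.AlgSp.PointsMor
import Groth.Agent.Lib.Helper2.AlgSp.EtNbhd
import Groth.Agent.Lib.Helper2.Sch.QfAt

/-!
# Points with values in a large algebraically closed field (helper2)
-/

set_option autoImplicit false
set_option backward.isDefEq.respectTransparency false
set_option linter.style.haveILetI false

open CategoryTheory CategoryTheory.Limits AlgebraicGeometry Opposite AlgSp Cardinal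

namespace Groth.Agent.Helper2.LargeField
universe u

/-- A field extension of small cardinality embeds into a large algebraically closed field. -/
theorem exists_algHom_of_card_lt (F L k : Type u) [Field F] [Field L] [Field k] [Algebra F L]
    [Algebra F k] [IsAlgClosed k] (h : #L < #k) : Nonempty (L →ₐ[F] k) := by
  obtain ⟨B, hB⟩ := exists_isTranscendenceBasis F L
  obtain ⟨B', hB'⟩ := exists_isTranscendenceBasis F k
  have hcard : #B ≤ #B' := by
    by_contra hlt
    rw [not_le] at hlt
    have hBL : #B ≤ #L := Cardinal.mk_set_le B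
    have hFL : #F ≤ #L := Cardinal.mk_le_of_injective (algebraMap F L).injective
    have hk := IsAlgClosed.cardinal_le_max_transcendence_basis' (R := F) (K' := k) _ hB'
    have hBne : B.Nonempty := by
      by_contra hne
      rw [Set.not_nonempty_iff_eq_empty] at hne
      subst hne
      simp at hlt
    obtain ⟨b, hb⟩ := hBne
    have htr : Transcendental F b := by
      have := hB.1.transcendental ⟨b, hb⟩
      exact this
    haveI : Infinite L := htr.infinite
    have hL : ℵ₀ ≤ #L := Cardinal.aleph0_le_mk L
    have : #k ≤ #L := hk.trans (max_le (max_le hFL (hlt.le.trans hBL)) hL)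
    exact absurd h (not_lt.mpr this)
  obtain ⟨e⟩ := (Cardinal.le_def _ _).mp hcard
  let R := MvPolynomial B F
  let φL : R →ₐ[F] L := MvPolynomial.aeval (Subtype.val : B → L)
  let φk : R →ₐ[F] k := MvPolynomial.aeval (fun b : B => ((e b : B') : k))
  have hφL : Function.Injective φL := hB.1
  have hφk : Function.Injective φk := hB'.1.comp e e.injective
  letI aL : Algebra R L := φL.toRingHom.toAlgebra
  letI ak : Algebra R k := φk.toRingHom.toAlgebra
  haveI : IsScalarTower F R L := IsScalarTower.of_algebraMap_eq' φL.comp_algebraMap.symm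
  haveI : IsScalarTower F R k := IsScalarTower.of_algebraMap_eq' φk.comp_algebraMap.symm
  haveI : Module.IsTorsionFree R L := Module.isTorsionFree_iff_algebraMap_injective.mpr hφL
  haveI : Module.IsTorsionFree R k := Module.isTorsionFree_iff_algebraMap_injective.mpr hφk
  haveI : Algebra.IsAlgebraic R L := by
    haveI h2 := hB.isAlgebraic
    refine Algebra.IsAlgebraic.of_ringHom_of_comp_eq
      (R := R) (S := Algebra.adjoin F (Set.range (Subtype.val : B → L))) (A := L) (B := L)
      (hB.1.aevalEquiv : R →+* _) (RingHom.id L) hB.1.aevalEquiv.surjective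
      Function.injective_id ?_
    refine RingHom.ext fun p => ?_
    exact hB.1.algebraMap_aevalEquiv p
  exact ⟨(IsAlgClosed.lift (R := R) (S := L) (M := k)).restrictScalars F⟩

set_option backward.isDefEq.respectTransparency.types false in
/-- A morphism from the spectrum of a large algebraically closed field lifts along any morphism of
schemes through a point with small residue field. -/
theorem exists_fac_of_card_lt {X S : Scheme.{u}} (f : X ⟶ S)
    {Ω : Type u} [Field Ω] [IsAlgClosed Ω] (s : Spec (.of Ω) ⟶ S)
    (x : X) (hx : f x = s default) (hc : #(X.residueField x) < #Ω) :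
    ∃ (l : Spec (.of Ω) ⟶ X), l ≫ f = s ∧ l default = x := by
  obtain ⟨⟨s, a⟩, rfl⟩ := (Scheme.SpecToEquivOfField Ω S).symm.surjective s
  obtain rfl : f x = s := by simp [hx, Scheme.SpecToEquivOfField]
  let m := (f.residueFieldMap x).hom
  dsimp at m
  algebraize [m, a.hom]
  obtain ⟨b⟩ : Nonempty (X.residueField x →ₐ[S.residueField (f x)] Ω) :=
    exists_algHom_of_card_lt _ _ _ hc
  have : f.residueFieldMap x ≫ CommRingCat.ofHom b.toRingHom = a := by
    ext1; exact b.comp_algebraMap
  refine ⟨Spec.map (CommRingCat.ofHom b.toRingHom) ≫ X.fromSpecResidueField x, ?_, ?_⟩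
  · simp [Scheme.SpecToEquivOfField, ← this] <;> rfl
  · dsimp
    apply Scheme.fromSpecResidueField_apply

/-- Residue fields stay small along etale morphisms. -/
theorem card_residueField_lt_of_etale {W U : Scheme.{u}} (p : W ⟶ U) [Etale p] (w : ↥W)
    {k : Type u} [Field k] [Infinite k] (h : #(U.residueField (p w)) < #k) :
    #(W.residueField w) < #k := by
  haveI : LocallyQuasiFinite p := Groth.Agent.Helper2.QfAt.locallyQuasiFinite_of_etale p
  letI a1 : Algebra (U.residueField (p w)) (W.residueField w) :=
    (p.residueFieldMap w).hom.toAlgebra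
  have h1 : LocallyQuasiFinite (Spec.map (p.residueFieldMap w) ≫ U.fromSpecResidueField _) := by
    rw [Scheme.Hom.SpecMap_residueFieldMap_fromSpecResidueField]
    infer_instance
  have h2 : LocallyQuasiFinite (Spec.map (p.residueFieldMap w)) :=
    LocallyQuasiFinite.of_comp _ (U.fromSpecResidueField _)
  rw [HasRingHomProperty.Spec_iff (P := @LocallyQuasiFinite)] at h2
  haveI : Algebra.QuasiFinite (U.residueField (p w)) (W.residueField w) := h2
  haveI : Module.Finite (U.residueField (p w)) (W.residueField w) := Module.Finite.of_quasiFinite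
  haveI : Algebra.IsAlgebraic (U.residueField (p w)) (W.residueField w) :=
    Algebra.IsAlgebraic.of_finite _ _
  rcases finite_or_infinite (U.residueField (p w)) with hfin | hinf
  · haveI : Finite (W.residueField w) := Module.finite_of_finite (U.residueField (p w))
    exact (Cardinal.lt_aleph0_of_finite _).trans_le (Cardinal.aleph0_le_mk k)
  · have h3 := Algebra.IsAlgebraic.cardinalMk_le_max (U.residueField (p w)) (W.residueField w)
    rw [max_eq_left (Cardinal.aleph0_le_mk _)] at h3
    exact h3.trans_lt h

variable {S : Scheme.{u}}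

/-- A geometric point lifts to an etale chart through any prescribed point over it. -/
theorem exists_lift_through {Y : Sp S} {V : Over S} (b : (yon S).obj V ⟶ Y)
    (hbe : RepWith @Etale b) (p : FieldPt Y) (hp : p.IsGeometric) (v : ↥V.left)
    (hv : Points.ofPt b v = Points.mk p) :
    ∃ l : p.pt ⟶ V, (yon S).map l ≫ b = p.toHom ∧
      l.left (default : ↥(Spec (CommRingCat.of p.K))) = v := by
  haveI : IsAlgClosed p.K := hp
  have hrep := hbe.rep
  have he : Etale (hrep.snd p.toHom).left := hbe.property_snd p.toHom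
  obtain ⟨t, ht1, -⟩ := AlgSpBasic.exists_point_of_isPullback_yon b
    p.toHom (hrep.fst' p.toHom) (hrep.snd p.toHom) (hrep.isPullback' p.toHom) v
    (default : ↥(Spec (CommRingCat.of p.K))) (by rw [hv, Points.ofPt_toHom])
  haveI := he
  obtain ⟨l, hl, hlt⟩ := Scheme.exists_fac_of_etale_of_isSepClosed (hrep.snd p.toHom).left
    (Ω := p.K) (𝟙 (Spec (CommRingCat.of p.K))) t
    (Subsingleton.elim (α := ↥(Spec (CommRingCat.of p.K))) _ _)
  have hw : l ≫ (hrep.pullback p.toHom).hom = p.str := by
    have h1 : (hrep.snd p.toHom).left ≫ p.str = (hrep.pullback p.toHom).hom :=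
      Over.w (hrep.snd p.toHom)
    rw [← h1, ← Category.assoc, hl]
    exact Category.id_comp _
  let s : p.pt ⟶ hrep.pullback p.toHom := Over.homMk l hw
  have hs : s ≫ hrep.snd p.toHom = 𝟙 _ := Over.OverMorphism.ext hl
  refine ⟨s ≫ hrep.fst' p.toHom, ?_, ?_⟩
  · rw [Functor.map_comp, Category.assoc, hrep.map_fst', hrep.w, ← Category.assoc,
      ← Functor.map_comp, hs, CategoryTheory.Functor.map_id, Category.id_comp]
  · show (l ≫ (hrep.fst' p.toHom).left) _ = v
    rw [Scheme.Hom.comp_apply, hlt, ht1]

/-- S10000. -/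
theorem main {X Y : Sp S} (hY : IsAlgSpace Y) (f : X ⟶ Y)
    {U : Over S} (a : (yon S).obj U ⟶ X) (has : RepWith @Surjective a)
    (ybar : FieldPt Y) (hy : ybar.IsGeometric)
    (hk : ∀ u : ↥U.left, #(U.left.residueField u) < #ybar.K)
    (x : Points X) (hx : Points.map f x = Points.mk ybar) :
    ∃ xbar : (yon S).obj ybar.pt ⟶ X, xbar ≫ f = ybar.toHom ∧
      Points.ofPt xbar (IsLocalRing.closedPoint ybar.K) = x := by
  haveI : IsAlgClosed ybar.K := hy
  obtain ⟨t, rfl⟩ := AlgSpBasic.isSurjectiveMor_of_repWith_surjective a has x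
  obtain ⟨u, rfl⟩ := (Points.schemeHomeo U).surjective t
  obtain ⟨V, b, hbe, hbs⟩ := hY.atlas
  obtain ⟨W, p, h, sq⟩ := AlgSpBasic.exists_isPullback_yon hY.diag (a ≫ f) b
  have hp : Etale p.left := hbe.property (a ≫ f) ((yon S).map h) p sq.flip
  have hps : Surjective p.left := hbs.property (a ≫ f) ((yon S).map h) p sq.flip
  obtain ⟨w, rfl⟩ := hps.surj u
  have hv : Points.ofPt b (h.left w) = Points.mk ybar := by
    rw [← AlgSpBasic.ofPt_yon_map_comp, ← sq.w, AlgSpBasic.ofPt_yon_map_comp, ← Points.map_ofPt,
      Points.ofPt_eq_map_ofScheme]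
    exact hx
  obtain ⟨vbar, hvb, hvbpt⟩ := exists_lift_through b hbe ybar hy (h.left w) hv
  haveI := hp
  have hc : #(W.left.residueField w) < #ybar.K :=
    card_residueField_lt_of_etale p.left w (hk (p.left w))
  obtain ⟨l, hl, hlw⟩ := exists_fac_of_card_lt h.left vbar.left w hvbpt.symm hc
  have hw : l ≫ W.hom = ybar.str := by
    have h1 : h.left ≫ V.hom = W.hom := Over.w h
    have h2 : vbar.left ≫ V.hom = ybar.str := Over.w vbar
    rw [← h1, ← Category.assoc, hl, h2]
  let wbar : ybar.pt ⟶ W := Over.homMk l hw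
  have hwb : wbar ≫ h = vbar := Over.OverMorphism.ext hl
  refine ⟨(yon S).map (wbar ≫ p) ≫ a, ?_, ?_⟩
  · rw [Category.assoc, Functor.map_comp, Category.assoc, sq.w, ← Category.assoc,
      ← Functor.map_comp, hwb, hvb]
  · rw [AlgSpBasic.ofPt_yon_map_comp, Points.ofPt_eq_map_ofScheme]
    congr 2
    show p.left (l _) = p.left w
    rw [← hlw]
    congr 2
    exact Subsingleton.elim _ _

end Groth.Agent.Helper2.LargeField
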