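import Mathlib
import Groth.Prelude.Def_AlgSpMor6
import Groth.Agent.Lib.Helper2.AlgSp.LocP
import Groth.Agent.Lib.Helper2.Synt.LciSrcSch
import Groth.Agent.Lib.Lead.LciCancel2
import Groth.Agent.Lib.Lead.LciSmooth2

/-!
# Local complete intersection morphisms of algebraic spaces: chart calculus (helper2)

`AlgSp.lci` (Koszul at every point) agrees with the affine-local `LciMor` of the lead's library.  It
is stable under composition, contains smooth morphisms, cancels smooth morphisms on the right and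
descends along étale surjective maps on the source.  This is enough to run the chart calculus of
`AlgSp.LocP` without stability under arbitrary base change.
-/

set_option autoImplicit false
set_option linter.style.haveILetI false
universe u
open CategoryTheory CategoryTheory.Limits AlgebraicGeometry Opposite AlgSp
open Groth.Agent.Helper2.AlgSpBasic Groth.Agent.Helper2.EtaleLocal
open Groth.Agent.Lead.LciLocal Groth.Agent.Lead.SyntLci

namespace Groth.Agent.Helper2.LciSp

/-- Weak form of "étale local on source and target": no base change required. -/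
class IsEtaleLocalW (P : MorphismProperty Scheme.{u}) : Prop extends
    P.IsStableUnderComposition where
  of_etale : ∀ {X Y : Scheme.{u}} (f : X ⟶ Y), Etale f → P f
  of_comp_etale_surjective : ∀ {U X Y : Scheme.{u}} (a : U ⟶ X) (f : X ⟶ Y), Etale a →
    Surjective a → P (a ≫ f) → P f
  of_postcomp_etale : ∀ {X Y Z : Scheme.{u}} (f : X ⟶ Y) (g : Y ⟶ Z), Etale g → P (f ≫ g) → P f

section Sch

variable {X Y Z : Scheme.{u}}

theorem lci_iff_lciMor (f : X ⟶ Y) : AlgSp.lci f ↔ LciMor f :=
  forall_isKoszulAt_iff_lciMor f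

theorem lci_of_smooth (f : X ⟶ Y) [Smooth f] : AlgSp.lci f :=
  (lci_iff_lciMor f).2 (lciMor_of_smooth f)

theorem lci_comp (f : X ⟶ Y) (g : Y ⟶ Z) (hf : AlgSp.lci f) (hg : AlgSp.lci g) :
    AlgSp.lci (f ≫ g) :=
  (lci_iff_lciMor _).2
    (MorphismProperty.comp_mem _ _ _ ((lci_iff_lciMor f).1 hf) ((lci_iff_lciMor g).1 hg))

theorem lci_of_comp_smooth (f : X ⟶ Y) (g : Y ⟶ Z) [Smooth g] (h : AlgSp.lci (f ≫ g)) :
    AlgSp.lci f :=
  (lci_iff_lciMor _).2 (lciMor_of_comp_smooth f g ((lci_iff_lciMor _).1 h))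

theorem isSyntomicMor_of_smooth (f : X ⟶ Y) [Smooth f] : _root_.Synt.IsSyntomicMor f := by
  haveI : Flat f := inferInstance
  exact isSyntomicMor_of_flat_of_lciMor Groth.Agent.Helper2.Synt.bridge f (lciMor_of_smooth f)

theorem lci_of_etale_cover (a : X ⟶ Y) (f : Y ⟶ Z) [Etale a] [Surjective a]
    (h : AlgSp.lci (a ≫ f)) : AlgSp.lci f :=
  (lci_iff_lciMor _).2 (Groth.Agent.Helper2.Synt.lciMor_of_syntomic_cover a
    (isSyntomicMor_of_smooth a) f ((lci_iff_lciMor _).1 h))

instance : MorphismProperty.IsStableUnderComposition (AlgSp.lci.{u}) where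
  comp_mem f g hf hg := lci_comp f g hf hg

instance : IsEtaleLocalW (AlgSp.lci.{u}) where
  of_etale f hf := by haveI := hf; exact lci_of_smooth f
  of_comp_etale_surjective a f ha has h := by
    haveI := ha; haveI := has; exact lci_of_etale_cover a f h
  of_postcomp_etale f g hg h := by haveI := hg; exact lci_of_comp_smooth f g h

/-- Koszul-regular immersions are exactly the lci immersions. -/
theorem koszul_iff_lci (i : X ⟶ Y) [IsImmersion i] :
    RegImm.IsRegularImmersion .koszul i ↔ AlgSp.lci i := by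
  rw [lci_iff_lciMor]
  exact isRegularImmersion_koszul_iff_lciMor i

end Sch

variable {S : Scheme.{u}}

/-- One chart with surjective étale source chart suffices (weak form). -/
theorem locP_of_one_chart_w (P : MorphismProperty Scheme.{u}) [IsEtaleLocalW P]
    {X Y : Sp S} (hX : Representable (Limits.diag X)) (hY : Representable (Limits.diag Y))
    (f : X ⟶ Y) {U V : Over S} (a : (yon S).obj U ⟶ X)
    (b : (yon S).obj V ⟶ Y) (h : U ⟶ V) (ha : RepWith @Etale a) (has : RepWith @Surjective a)
    (hb : RepWith @Etale b) (comm : a ≫ f = (yon S).map h ≫ b) (hh : P h.left) :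
    LocP P f := by
  intro U' V' a' b' h' ha' hb' comm'
  obtain ⟨W, w₁, w₂, sqW⟩ := exists_isPullback_yon hX a a'
  obtain ⟨T, t₁, t₂, sqT⟩ := exists_isPullback_yon hY b b'
  have hw₁ : Etale w₁.left := ha'.property a _ _ sqW.flip
  have hw₂ : Etale w₂.left := ha.property a' _ _ sqW
  have hw₂s : Surjective w₂.left := has.property a' _ _ sqW
  have ht₁ : Etale t₁.left := hb'.property b _ _ sqT.flip
  have ht₂ : Etale t₂.left := hb.property b' _ _ sqT
  have e : (yon S).map (w₁ ≫ h) ≫ b = (yon S).map (w₂ ≫ h') ≫ b' := by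
    rw [Functor.map_comp, Functor.map_comp, Category.assoc, Category.assoc, ← comm, ← comm',
      ← Category.assoc, ← Category.assoc, sqW.w]
  obtain ⟨k, hk⟩ := (yon S).map_surjective (sqT.lift _ _ e)
  have hk1 : k ≫ t₁ = w₁ ≫ h :=
    (yon S).map_injective (by rw [Functor.map_comp, hk, sqT.lift_fst])
  have hk2 : k ≫ t₂ = w₂ ≫ h' :=
    (yon S).map_injective (by rw [Functor.map_comp, hk, sqT.lift_snd])
  have h1 : P (w₁.left ≫ h.left) :=
    P.comp_mem _ _ (IsEtaleLocalW.of_etale _ hw₁) hh
  have h2 : P (k.left ≫ t₁.left) := by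
    rw [← Over.comp_left, hk1, Over.comp_left]; exact h1
  have h3 : P k.left := IsEtaleLocalW.of_postcomp_etale _ _ ht₁ h2
  have h4 : P (k.left ≫ t₂.left) := P.comp_mem _ _ h3 (IsEtaleLocalW.of_etale _ ht₂)
  have h5 : P (w₂.left ≫ h'.left) := by
    rw [← Over.comp_left, ← hk2, Over.comp_left]; exact h4
  exact IsEtaleLocalW.of_comp_etale_surjective _ _ hw₂ hw₂s h5

/-- Composition (weak form). -/
theorem locP_comp_w (P : MorphismProperty Scheme.{u}) [IsEtaleLocalW P]
    {X Y Z : Sp S} (hX : IsAlgSpace X) (hY : IsAlgSpace Y) (hZ : IsAlgSpace Z)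
    (f : X ⟶ Y) (g : Y ⟶ Z) (hf : LocP P f) (hg : LocP P g) : LocP P (f ≫ g) := by
  obtain ⟨W, c, hce, hcs⟩ := hZ.atlas
  obtain ⟨V, b, k, hbe, hbs, hbk⟩ := exists_chart_lift hY g c hce hcs
  obtain ⟨U, a, h, hae, has, hah⟩ := exists_chart_lift hX f b hbe hbs
  have hPk : P k.left := hg b c k hbe hce hbk
  have hPh : P h.left := hf a b h hae hbe hah
  refine locP_of_one_chart_w P hX.diag hZ.diag (f ≫ g) a c (h ≫ k) hae has hce ?_ ?_
  · rw [← Category.assoc, hah, Category.assoc, hbk, Functor.map_comp, Category.assoc]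
  · rw [Over.comp_left]
    exact P.comp_mem _ _ hPh hPk

/-- **S10666** core: cancel a smooth morphism on the right. -/
theorem isLCIMor_of_comp_smooth {X Y Z : Sp S} (hX : IsAlgSpace X) (hY : IsAlgSpace Y)
    (hZ : IsAlgSpace Z) (f : X ⟶ Y) (q : Y ⟶ Z) (hq : LocP @Smooth q)
    (hp : IsLCIMor (f ≫ q)) : IsLCIMor f := by
  obtain ⟨W, c, hce, hcs⟩ := hZ.atlas
  obtain ⟨V, b, k, hbe, hbs, hbk⟩ := exists_chart_lift hY q c hce hcs
  obtain ⟨U, a, h, hae, has, hah⟩ := exists_chart_lift hX f b hbe hbs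
  haveI hk : Smooth k.left := hq b c k hbe hce hbk
  have hhk : AlgSp.lci (h ≫ k).left := by
    refine hp a c (h ≫ k) hae hce ?_
    rw [← Category.assoc, hah, Category.assoc, hbk, Functor.map_comp, Category.assoc]
  rw [Over.comp_left] at hhk
  have hh : AlgSp.lci h.left := lci_of_comp_smooth h.left k.left hhk
  exact locP_of_one_chart_w AlgSp.lci hX.diag hY.diag f a b h hae has hbe hah hh

end Groth.Agent.Helper2.LciSp
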