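import Mathlib
import Groth.Prelude.Def_AlgSpMor6
import Groth.Prelude.Def_AlgSpCov
import Groth.Agent.Lib.Helper2.AlgSp.LciSp
import Groth.Agent.Lib.Helper2.AlgSp.Fpqc
import Groth.Agent.Lib.Helper2.AlgSp.OpenSub
import Groth.Agent.Lib.Lead.LciLocal3
import Groth.Agent.S8658

/-!
# lci morphisms of algebraic spaces are fpqc local on the base (helper2)

`AlgSp.lci` is only stable under flat base change, so the generic criterion
`isLocalOnBase_fpqc_of_desc` does not apply.  We redo the chart calculus with the weak class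
`IsEtaleLocalW` and a side condition on the base change maps, and handle the non-flat lifts
`h_{W_j} ⟶ Y_i` of an fpqc covering by a section trick: `W_j ×_Y Y_i ⟶ W_j` is flat with a section,
hence refined by a finite flat affine jointly surjective family that is flat over `Y_i`.
-/

set_option autoImplicit false
set_option linter.style.haveILetI false
universe u
open CategoryTheory CategoryTheory.Limits AlgebraicGeometry Opposite AlgSp
open Groth.Agent.Helper2.AlgSpBasic Groth.Agent.Helper2.EtaleLocal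
open Groth.Agent.Lead.LciLocal Groth.Agent.Lead.SyntLci

namespace Groth.Agent.Helper2.LciSp

variable {S : Scheme.{u}}

/-! ### Weak chart calculus with a side condition on base change -/

/-- Base change along morphisms satisfying `Q` (weak form). -/
theorem locP_of_isPullback_w (P Q : MorphismProperty Scheme.{u}) [IsEtaleLocalW P]
    (hbc : ∀ ⦃A B A' B' : Scheme.{u}⦄ (f : A ⟶ B) (g : B' ⟶ B) (f' : A' ⟶ B') (g' : A' ⟶ A),
      IsPullback g' f' f g → Q g → P f → P f')
    {X Y Y' X' : Sp S} (hX : IsAlgSpace X) (hY : IsAlgSpace Y) (hY' : IsAlgSpace Y')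
    (hX' : IsAlgSpace X')
    (f : X ⟶ Y) (g : Y' ⟶ Y) (fst : X' ⟶ X) (f' : X' ⟶ Y')
    (sq : IsPullback fst f' f g) (hg : LocP Q g) (hf : LocP P f) : LocP P f' := by
  obtain ⟨V, b, hbe, hbs⟩ := hY.atlas
  -- step 2
  have hXV : IsAlgSpace (pullback f b) :=
    isAlgSpace_of_isPullback hY.diag hX (IsAlgSpace.yon_obj V) f b _ _ (IsPullback.of_hasPullback f b)
  obtain ⟨U, a₀, ha₀e, ha₀s⟩ := hXV.atlas
  have hpXe : RepWith @Etale (pullback.fst f b) :=
    repWith_of_isPullback @Etale (IsPullback.of_hasPullback f b).flip hbe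
  have hpXs : RepWith @Surjective (pullback.fst f b) :=
    repWith_of_isPullback @Surjective (IsPullback.of_hasPullback f b).flip hbs
  obtain ⟨h, hh⟩ := (yon S).map_surjective (a₀ ≫ pullback.snd f b)
  have hcomm : (a₀ ≫ pullback.fst f b) ≫ f = (yon S).map h ≫ b := by
    rw [hh, Category.assoc, Category.assoc, pullback.condition]
  have hPh : P h.left := hf (a₀ ≫ pullback.fst f b) b h (repWith_comp @Etale ha₀e hpXe) hbe hcomm
  -- step 3
  have hYV : IsAlgSpace (pullback g b) :=
    isAlgSpace_of_isPullback hY.diag hY' (IsAlgSpace.yon_obj V) g b _ _ (IsPullback.of_hasPullback g b)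
  obtain ⟨V₁, c₀, hc₀e, hc₀s⟩ := hYV.atlas
  have hpYe : RepWith @Etale (pullback.fst g b) :=
    repWith_of_isPullback @Etale (IsPullback.of_hasPullback g b).flip hbe
  have hpYs : RepWith @Surjective (pullback.fst g b) :=
    repWith_of_isPullback @Surjective (IsPullback.of_hasPullback g b).flip hbs
  let b₁ : (yon S).obj V₁ ⟶ Y' := c₀ ≫ pullback.fst g b
  have hb₁e : RepWith @Etale b₁ := repWith_comp @Etale hc₀e hpYe
  have hb₁s : RepWith @Surjective b₁ := repWith_comp @Surjective hc₀s hpYs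
  obtain ⟨c, hc⟩ := (yon S).map_surjective (c₀ ≫ pullback.snd g b)
  have hb₁g : b₁ ≫ g = (yon S).map c ≫ b := by
    rw [hc, Category.assoc, Category.assoc, pullback.condition]
  have hQc : Q c.left := hg b₁ b c hb₁e hbe hb₁g
  -- step 4
  have sq₄ : IsPullback ((yon S).map (pullback.fst h c)) ((yon S).map (pullback.snd h c))
      ((yon S).map h) ((yon S).map c) := (IsPullback.of_hasPullback h c).map (yon S)
  have sq₄S : IsPullback (pullback.fst h c).left (pullback.snd h c).left h.left c.left :=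
    (IsPullback.of_hasPullback h c).map (Over.forget S)
  have hPh₁ : P (pullback.snd h c).left := hbc _ _ _ _ sq₄S hQc hPh
  -- step 5
  let e₁ := pullback.fst f' b₁
  let e₂ := pullback.snd f' b₁
  have sqE : IsPullback e₁ e₂ f' b₁ := IsPullback.of_hasPullback f' b₁
  have he₁e : RepWith @Etale e₁ := repWith_of_isPullback @Etale sqE.flip hb₁e
  have he₁s : RepWith @Surjective e₁ := repWith_of_isPullback @Surjective sqE.flip hb₁s
  have sqE2 : IsPullback e₂ (e₁ ≫ fst) (b₁ ≫ g) f := sqE.flip.paste_vert sq.flip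
  have hm : (e₁ ≫ fst) ≫ f = (e₂ ≫ (yon S).map c) ≫ b := by
    rw [Category.assoc e₂, ← hb₁g, ← sqE2.w]
  let m : pullback f' b₁ ⟶ pullback f b := pullback.lift (e₁ ≫ fst) (e₂ ≫ (yon S).map c) hm
  have hm1 : m ≫ pullback.fst f b = e₁ ≫ fst := pullback.lift_fst _ _ _
  have hm2 : m ≫ pullback.snd f b = e₂ ≫ (yon S).map c := pullback.lift_snd _ _ _
  have sq5 : IsPullback m e₂ (pullback.snd f b) ((yon S).map c) := by
    refine IsPullback.of_right ?_ hm2 (IsPullback.of_hasPullback f b)
    rw [hm1, ← hb₁g]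
    exact sqE2.flip
  -- step 6
  have hl : ((yon S).map (pullback.fst h c) ≫ a₀) ≫ pullback.snd f b =
      (yon S).map (pullback.snd h c) ≫ (yon S).map c := by
    rw [Category.assoc, ← hh, sq₄.w]
  let l := sq5.lift _ _ hl
  have hl1 : l ≫ m = (yon S).map (pullback.fst h c) ≫ a₀ := sq5.lift_fst _ _ _
  have hl2 : l ≫ e₂ = (yon S).map (pullback.snd h c) := sq5.lift_snd _ _ _
  have sq6 : IsPullback l ((yon S).map (pullback.fst h c)) m a₀ := by
    refine IsPullback.of_right ?_ hl1 sq5.flip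
    rw [hl2, ← hh]
    exact sq₄.flip
  have hle : RepWith @Etale l := repWith_of_isPullback @Etale sq6.flip ha₀e
  have hls : RepWith @Surjective l := repWith_of_isPullback @Surjective sq6.flip ha₀s
  -- step 7, 8
  refine locP_of_one_chart_w P hX'.diag hY'.diag f' (l ≫ e₁) b₁ (pullback.snd h c)
    (repWith_comp @Etale hle he₁e) (repWith_comp @Surjective hls he₁s) hb₁e ?_ hPh₁
  rw [Category.assoc, sqE.w, ← Category.assoc, hl2]

/-- Target cover (weak form). -/
theorem locP_of_target_cover_w (P : MorphismProperty Scheme.{u}) [IsEtaleLocalW P]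
    {X Y : Sp S} (hX : IsAlgSpace X) (hY : IsAlgSpace Y) (f : X ⟶ Y) (V : Over S)
    (p : (yon S).obj V ⟶ Y) (hp : RepWith @Etale p) (hps : RepWith @Surjective p)
    {Q : Sp S} (fst : Q ⟶ X) (snd : Q ⟶ (yon S).obj V) (sq : IsPullback fst snd f p)
    (h : LocP P snd) : LocP P f := by
  have hQ : IsAlgSpace Q :=
    isAlgSpace_of_isPullback hY.diag hX (IsAlgSpace.yon_obj V) f p _ _ sq
  obtain ⟨U, a₀, ha₀e, ha₀s⟩ := hQ.atlas
  have hfe : RepWith @Etale fst := repWith_of_isPullback @Etale sq.flip hp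
  have hfs : RepWith @Surjective fst := repWith_of_isPullback @Surjective sq.flip hps
  obtain ⟨k, hk⟩ := (yon S).map_surjective (a₀ ≫ snd)
  have hPk : P k.left := h a₀ (𝟙 _) k ha₀e (repWith_id _ V) (by rw [hk, Category.comp_id])
  refine locP_of_one_chart_w P hX.diag hY.diag f (a₀ ≫ fst) p k
    (repWith_comp @Etale ha₀e hfe) (repWith_comp @Surjective ha₀s hfs) hp ?_ hPk
  rw [Category.assoc, sq.w, ← Category.assoc, hk]

/-- Affine-locality on the base, testing only étale maps from affine schemes (weak form). -/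
theorem locP_of_forall_affine_etale_w (Q : MorphismProperty Scheme.{u}) [IsEtaleLocalW Q]
    [IsZariskiLocalAtTarget Q]
    {X Y : Sp S} (hX : IsAlgSpace X) (hY : IsAlgSpace Y) (f : X ⟶ Y)
    (h : ∀ (Z : Over S), IsAffine Z.left → ∀ (g : (yon S).obj Z ⟶ Y), RepWith @Etale g →
        ∀ (W : Sp S) (fst : W ⟶ X) (snd : W ⟶ (yon S).obj Z), IsAlgSpace W →
        IsPullback fst snd f g → LocP Q snd) : LocP Q f := by
  obtain ⟨V, b, hbe, hbs⟩ := hY.atlas
  have hXV : IsAlgSpace (pullback f b) :=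
    isAlgSpace_of_isPullback hY.diag hX (IsAlgSpace.yon_obj V) f b _ _
      (IsPullback.of_hasPullback f b)
  refine locP_of_target_cover_w Q hX hY f V b hbe hbs (pullback.fst f b) (pullback.snd f b)
    (IsPullback.of_hasPullback f b) ?_
  obtain ⟨U, a₀, ha₀e, ha₀s⟩ := hXV.atlas
  obtain ⟨k, hk⟩ := (yon S).map_surjective (a₀ ≫ pullback.snd f b)
  refine locP_of_one_chart_w Q hXV.diag (IsAlgSpace.yon_obj V).diag _ a₀ (𝟙 _) k ha₀e ha₀s
    (repWith_etale_id V) (by rw [hk, Category.comp_id]) ?_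
  rw [IsZariskiLocalAtTarget.iff_of_openCover (P := Q) V.left.affineCover]
  intro i
  let D := overBC k (V.left.affineCover.f i)
  have sqW := IsPullback.of_hasPullback (pullback.snd f b) ((yon S).map D.c')
  have hW : IsAlgSpace (pullback (pullback.snd f b) ((yon S).map D.c')) :=
    isAlgSpace_of_isPullback (IsAlgSpace.yon_obj V).diag hXV (IsAlgSpace.yon_obj D.T') _ _ _ _ sqW
  have big := sqW.paste_horiz (IsPullback.of_hasPullback f b)
  have hce : RepWith @Etale ((yon S).map D.c') :=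
    (repWith_yon_map_iff @Etale D.c').mpr
      (inferInstanceAs (Etale (V.left.affineCover.f i)))
  have hL : LocP Q (pullback.snd (pullback.snd f b) ((yon S).map D.c')) :=
    h D.T' (by rw [D.hT']; infer_instance) _ (repWith_comp @Etale hce hbe) _ _ _ hW big
  have hw : ((yon S).map D.fst' ≫ a₀) ≫ pullback.snd f b =
      (yon S).map D.snd' ≫ (yon S).map D.c' := by
    rw [Category.assoc, ← hk, ← Functor.map_comp, ← Functor.map_comp, D.sq.w]
  have sql : IsPullback ((yon S).map D.fst') (sqW.lift _ _ hw) a₀ (pullback.fst _ _) := by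
    refine IsPullback.of_bot ?_ (sqW.lift_fst _ _ hw).symm sqW
    rw [sqW.lift_snd, ← hk]
    exact D.sq.map (yon S)
  exact hL (sqW.lift _ _ hw) (𝟙 _) D.snd' (repWith_of_isPullback @Etale sql ha₀e)
    (repWith_etale_id _) (by rw [Category.comp_id]; exact sqW.lift_snd _ _ hw)

/-- fpqc descent on an affine base (weak form). -/
theorem locP_fpqc_desc_w (Q : MorphismProperty Scheme.{u}) [IsEtaleLocalW Q]
    [IsZariskiLocalAtTarget Q] [Q.DescendsAlong (@Surjective ⊓ @Flat ⊓ @QuasiCompact)]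
    ⦃Z : Over S⦄ ⦃X : Sp S⦄ (f : X ⟶ (yon S).obj Z) (hZ : IsAffine Z.left) (hX : IsAlgSpace X)
    (m : ℕ) (W : Fin m → Over S) (c : ∀ j, W j ⟶ Z) (hW : ∀ j, IsAffine (W j).left)
    (hc : ∀ j, Flat (c j).left) (hsurj : ∀ z : ↥Z.left, ∃ j, z ∈ Set.range (c j).left)
    (Xj : Fin m → Sp S) (fst : ∀ j, Xj j ⟶ X) (snd : ∀ j, Xj j ⟶ (yon S).obj (W j))
    (sq : ∀ j, IsPullback (fst j) (snd j) f ((yon S).map (c j)))
    (h : ∀ j, LocP Q (snd j)) : LocP Q f := by
  obtain ⟨U, a, hae, has⟩ := hX.atlas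
  obtain ⟨φ, hφ⟩ := (yon S).map_surjective (a ≫ f)
  refine locP_of_one_chart_w Q hX.diag (IsAlgSpace.yon_obj Z).diag f a (𝟙 _) φ hae has
    (repWith_etale_id Z) (by rw [hφ, Category.comp_id]) ?_
  refine of_finite_flat_affine_family Q φ.left (fun j => (W j).left) (fun j => (c j).left) hW hc
    hsurj (fun j => (pullback φ (c j)).left) (fun j => (pullback.fst φ (c j)).left)
    (fun j => (pullback.snd φ (c j)).left)
    (fun j => (IsPullback.of_hasPullback φ (c j)).map (Over.forget S)) fun j => ?_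
  have sqU := (IsPullback.of_hasPullback φ (c j)).map (yon S)
  have hw : ((yon S).map (pullback.fst φ (c j)) ≫ a) ≫ f =
      (yon S).map (pullback.snd φ (c j)) ≫ (yon S).map (c j) := by
    rw [Category.assoc, ← hφ]; exact sqU.w
  have sql : IsPullback ((yon S).map (pullback.fst φ (c j))) ((sq j).lift _ _ hw) a (fst j) := by
    refine IsPullback.of_bot ?_ ((sq j).lift_fst _ _ hw).symm (sq j)
    rw [(sq j).lift_snd, ← hφ]; exact sqU
  exact h j ((sq j).lift _ _ hw) (𝟙 _) (pullback.snd φ (c j))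
    (repWith_of_isPullback @Etale sql hae) (repWith_etale_id _)
    (by rw [Category.comp_id, (sq j).lift_snd])

/-! ### Instances for `AlgSp.lci` -/

theorem lci_eq_lciMor : (AlgSp.lci : MorphismProperty Scheme.{u}) = LciMor := by
  ext X Y f
  exact lci_iff_lciMor f

instance : IsZariskiLocalAtTarget (AlgSp.lci.{u}) := by
  rw [lci_eq_lciMor]; infer_instance

instance : (AlgSp.lci.{u}).DescendsAlong (@Surjective ⊓ @Flat ⊓ @QuasiCompact) := by
  rw [lci_eq_lciMor]; infer_instance

theorem lci_flat_baseChange ⦃A B A' B' : Scheme.{u}⦄ (f : A ⟶ B) (g : B' ⟶ B) (f' : A' ⟶ B')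
    (g' : A' ⟶ A) (sq : IsPullback g' f' f g) (hg : Flat g) (hf : AlgSp.lci f) : AlgSp.lci f' := by
  haveI := hg
  exact Groth.Agent.S8658.result f g f' g' sq hf

/-- Flat base change of lci morphisms of algebraic spaces. -/
theorem isLCIMor_flat_baseChange {X Y Y' X' : Sp S} (hX : IsAlgSpace X) (hY : IsAlgSpace Y)
    (hY' : IsAlgSpace Y') (hX' : IsAlgSpace X')
    (f : X ⟶ Y) (g : Y' ⟶ Y) (fst : X' ⟶ X) (f' : X' ⟶ Y')
    (sq : IsPullback fst f' f g) (hg : LocP @Flat g) (hf : IsLCIMor f) : IsLCIMor f' :=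
  locP_of_isPullback_w AlgSp.lci @Flat lci_flat_baseChange hX hY hY' hX' f g fst f' sq hg hf

end Groth.Agent.Helper2.LciSp
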