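import Mathlib
import Groth.Agent.Lib.Helper2.AlgSp.LciFpqc

/-!
# lci morphisms of algebraic spaces are fpqc local on the base, part 2 (helper2)
-/

set_option autoImplicit false
set_option linter.style.haveILetI false
universe u
open CategoryTheory CategoryTheory.Limits AlgebraicGeometry Opposite AlgSp
open Groth.Agent.Helper2.AlgSpBasic Groth.Agent.Helper2.EtaleLocal
open Groth.Agent.Lead.LciLocal Groth.Agent.Lead.SyntLci

namespace Groth.Agent.Helper2.LciSp

/-- A morphism `t : T ⟶ W` to a quasi-compact scheme through which an open surjective map factors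
admits finitely many affine opens of `T` whose images cover `W`. -/
theorem exists_finite_affine_family {T W W' : Scheme.{u}} [CompactSpace W] (t : T ⟶ W)
    (s : W' ⟶ T) (hopen : IsOpenMap (s ≫ t)) (hsurj : Function.Surjective (s ≫ t)) :
    ∃ (m : ℕ) (N : Fin m → T.Opens), (∀ r, IsAffineOpen (N r)) ∧
      ∀ w : W, ∃ r, ∃ x ∈ N r, t x = w := by
  choose w' hw' using hsurj
  have hN : ∀ w : W, ∃ N : T.Opens, IsAffineOpen N ∧ s (w' w) ∈ N := by
    intro w
    obtain ⟨_, ⟨N, hN, rfl⟩, hmem, -⟩ :=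
      T.isBasis_affineOpens.exists_subset_of_mem_open (Set.mem_univ (s (w' w))) isOpen_univ
    exact ⟨N, hN, hmem⟩
  choose N hNa hNm using hN
  let Uw : W → Set W := fun w => (s ≫ t) '' (s ⁻¹ᵁ N w : Set W')
  have hUw : ∀ w, Uw w ∈ nhds w := by
    intro w
    refine IsOpen.mem_nhds (hopen _ (s ⁻¹ᵁ N w).2) ?_
    exact ⟨w' w, hNm w, hw' w⟩
  obtain ⟨F, hF⟩ := CompactSpace.elim_nhds_subcover Uw hUw
  refine ⟨F.card, fun r => N (F.equivFin.symm r).1, fun r => hNa _, fun w => ?_⟩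
  have hw : w ∈ ⋃ x ∈ F, Uw x := by rw [hF]; trivial
  simp only [Set.mem_iUnion] at hw
  obtain ⟨w0, hw0, x', hx', hx'w⟩ := hw
  refine ⟨F.equivFin ⟨w0, hw0⟩, s x', ?_, ?_⟩
  · show s x' ∈ N (F.equivFin.symm (F.equivFin ⟨w0, hw0⟩)).1
    rw [Equiv.symm_apply_apply]; exact hx'
  · rw [← hx'w]; rfl

variable {S : Scheme.{u}}

theorem locP_flat_yon_map {U V : Over S} (k : U ⟶ V) (hk : Flat k.left) :
    LocP @Flat ((yon S).map k) :=
  locP_of_repWith @Flat (IsAlgSpace.yon_obj U).diag _ ((repWith_yon_map_iff @Flat k).2 hk)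

theorem locP_flat_of_repWith_etale {X Y : Sp S} (hX : IsAlgSpace X) (f : X ⟶ Y)
    (hf : RepWith @Etale f) : LocP @Flat f :=
  locP_of_repWith @Flat hX.diag f (repWith_flat_of_etale hf)

/-- The base change of `f` along a flat map that lifts to a member `Yi` of a family over which the
base change of `f` is lci, is lci. -/
theorem isLCIMor_of_flat_lift {Y Yi X Xi : Sp S} (hYi : IsAlgSpace Yi)
    (hXi : IsAlgSpace Xi) (g : Yi ⟶ Y) (f : X ⟶ Y) (p : Xi ⟶ Yi)
    (q : Xi ⟶ X) (sq : IsPullback q p f g) (hp : IsLCIMor p)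
    {T : Over S} (k : (yon S).obj T ⟶ Y) (l : (yon S).obj T ⟶ Yi) (hl : l ≫ g = k)
    (hlf : LocP @Flat l) {XT : Sp S} (hXT : IsAlgSpace XT) (fst : XT ⟶ X)
    (snd : XT ⟶ (yon S).obj T) (sqT : IsPullback fst snd f k) : IsLCIMor snd := by
  subst hl
  have hw : fst ≫ f = (snd ≫ l) ≫ g := by rw [Category.assoc]; exact sqT.w
  have sqj : IsPullback (sq.lift _ _ hw) snd p l := by
    refine IsPullback.of_right ?_ (sq.lift_snd _ _ hw) sq
    rw [sq.lift_fst]; exact sqT
  exact isLCIMor_flat_baseChange hXi hYi (IsAlgSpace.yon_obj T) hXT p l _ snd sqj hlf hp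

/-- The key step: descent of lci along one member of the standard fpqc covering whose lift to `Yi`
need not be flat. -/
theorem isLCIMor_of_lift {Y Yi X Xi : Sp S} (hY : IsAlgSpace Y) (hYi : IsAlgSpace Yi)
    (hXi : IsAlgSpace Xi) (g : Yi ⟶ Y) (hg : LocP @Flat g) (f : X ⟶ Y) (p : Xi ⟶ Yi)
    (q : Xi ⟶ X) (sq : IsPullback q p f g) (hp : IsLCIMor p)
    {W : Over S} (hW : IsAffine W.left) (k : (yon S).obj W ⟶ Y) (hk : LocP @Flat k)
    (l : (yon S).obj W ⟶ Yi) (hl : l ≫ g = k)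
    {XW : Sp S} (hXW : IsAlgSpace XW) (fst : XW ⟶ X) (snd : XW ⟶ (yon S).obj W)
    (sqW : IsPullback fst snd f k) : IsLCIMor snd := by
  haveI := hW
  -- atlas of `Yi`
  obtain ⟨Y', y, hye, hys⟩ := hYi.atlas
  have hyf : LocP @Flat y := locP_flat_of_repWith_etale (IsAlgSpace.yon_obj Y') y hye
  have hygf : LocP @Flat (y ≫ g) :=
    locP_comp @Flat (IsAlgSpace.yon_obj Y') hYi hY y g hyf hg
  -- `T' = W ×_Y Y'`
  obtain ⟨T', t₁, t₂, sqT'⟩ := exists_isPullback_yon hY.diag k (y ≫ g)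
  haveI ht₁ : Flat t₁.left := locP_yon_map
    (locP_of_isPullback @Flat (IsAlgSpace.yon_obj Y') hY (IsAlgSpace.yon_obj W)
      (IsAlgSpace.yon_obj T') (y ≫ g) k _ _ sqT'.flip hygf)
  haveI ht₂ : Flat t₂.left := locP_yon_map
    (locP_of_isPullback @Flat (IsAlgSpace.yon_obj W) hY (IsAlgSpace.yon_obj Y')
      (IsAlgSpace.yon_obj T') k (y ≫ g) _ _ sqT' hk)
  -- `W' = W ×_{Yi} Y'` and the section
  obtain ⟨W', w₁, w₂, sqW'⟩ := exists_isPullback_yon hYi.diag l y
  haveI hw₁e : Etale w₁.left := hye.property l _ _ sqW'.flip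
  haveI hw₁s : Surjective w₁.left := hys.property l _ _ sqW'.flip
  have hcomm : (yon S).map w₁ ≫ k = (yon S).map w₂ ≫ y ≫ g := by
    rw [← hl, ← Category.assoc, sqW'.w, Category.assoc]
  obtain ⟨s, hs⟩ := (yon S).map_surjective (sqT'.lift _ _ hcomm)
  have hs1 : s ≫ t₁ = w₁ :=
    (yon S).map_injective (by rw [Functor.map_comp, hs, sqT'.lift_fst])
  have hs1' : s.left ≫ t₁.left = w₁.left := by rw [← Over.comp_left, hs1]
  -- the finite family
  obtain ⟨m, N, hNa, hNs⟩ := exists_finite_affine_family t₁.left s.left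
    (by rw [hs1']; exact w₁.left.isOpenMap) (by rw [hs1']; exact w₁.left.surjective)
  -- descent along the family
  have hA : ∀ r, IsAlgSpace (pullback snd ((yon S).map (opensOverι (N r) ≫ t₁))) := fun r =>
    isAlgSpace_of_isPullback (IsAlgSpace.yon_obj W).diag hXW (IsAlgSpace.yon_obj _) _ _ _ _
      (IsPullback.of_hasPullback _ _)
  refine locP_fpqc_desc_w AlgSp.lci snd hW hXW m (fun r => opensOver (N r))
    (fun r => opensOverι (N r) ≫ t₁) (fun r => hNa r) (fun r => ?_) (fun w => ?_)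
    (fun r => pullback snd ((yon S).map (opensOverι (N r) ≫ t₁)))
    (fun r => pullback.fst _ _) (fun r => pullback.snd _ _)
    (fun r => IsPullback.of_hasPullback _ _) fun r => ?_
  · show Flat ((N r).ι ≫ t₁.left)
    infer_instance
  · obtain ⟨r, x, hx, hxw⟩ := hNs w
    refine ⟨r, ⟨x, hx⟩, ?_⟩
    show ((N r).ι ≫ t₁.left) ⟨x, hx⟩ = w
    rw [Scheme.Hom.comp_apply]
    exact hxw
  · have big : IsPullback (pullback.fst snd ((yon S).map (opensOverι (N r) ≫ t₁)) ≫ fst)
        (pullback.snd snd ((yon S).map (opensOverι (N r) ≫ t₁))) f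
        ((yon S).map (opensOverι (N r) ≫ t₁) ≫ k) :=
      (IsPullback.of_hasPullback snd ((yon S).map (opensOverι (N r) ≫ t₁))).paste_horiz sqW
    have hlift : ((yon S).map (opensOverι (N r) ≫ t₂) ≫ y) ≫ g =
        (yon S).map (opensOverι (N r) ≫ t₁) ≫ k := by
      rw [Functor.map_comp, Functor.map_comp, Category.assoc, Category.assoc, Category.assoc,
        sqT'.w]
    have hflat : LocP @Flat ((yon S).map (opensOverι (N r) ≫ t₂) ≫ y) := by
      refine locP_comp @Flat (IsAlgSpace.yon_obj _) (IsAlgSpace.yon_obj Y') hYi _ y ?_ hyf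
      refine locP_flat_yon_map _ ?_
      show Flat ((N r).ι ≫ t₂.left)
      infer_instance
    exact isLCIMor_of_flat_lift hYi hXi g f p q sq hp _ _ hlift hflat (hA r) _ _ big

/-- **S10667**: lci morphisms of algebraic spaces are fpqc local on the base. -/
theorem isLocalOnBase_fpqc_isLCIMor :
    IsLocalOnBase (IsFpqcCover (S := S)) (IsLCIMor (S := S)) := by
  intro ι Y Yi g hY hYi hcov X f hX Xi p q hXi sq
  constructor
  · intro hf i
    exact isLCIMor_flat_baseChange hX hY (hYi i) (hXi i) f (g i) (q i) (p i) (sq i) (hcov.1 i) hf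
  · intro hp
    refine locP_of_forall_affine_etale_w AlgSp.lci hX hY f fun Z hZ h hhe W fst snd hW sqW => ?_
    obtain ⟨m, Wj, c, hWj, hc, hsurj, hl⟩ := hcov.2 Z hZ h
    have hA : ∀ j, IsAlgSpace (pullback snd ((yon S).map (c j))) := fun j =>
      isAlgSpace_of_isPullback (IsAlgSpace.yon_obj Z).diag hW (IsAlgSpace.yon_obj (Wj j)) _ _ _ _
        (IsPullback.of_hasPullback _ _)
    refine locP_fpqc_desc_w AlgSp.lci snd hZ hW m Wj c hWj hc hsurj
      (fun j => pullback snd ((yon S).map (c j)))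
      (fun j => pullback.fst _ _) (fun j => pullback.snd _ _)
      (fun j => IsPullback.of_hasPullback _ _) fun j => ?_
    obtain ⟨i, l, hl⟩ := hl j
    have big : IsPullback (pullback.fst snd ((yon S).map (c j)) ≫ fst)
        (pullback.snd snd ((yon S).map (c j))) f ((yon S).map (c j) ≫ h) :=
      (IsPullback.of_hasPullback snd ((yon S).map (c j))).paste_horiz sqW
    have hkf : LocP @Flat ((yon S).map (c j) ≫ h) :=
      locP_comp @Flat (IsAlgSpace.yon_obj _) (IsAlgSpace.yon_obj Z) hY _ h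
        (locP_flat_yon_map _ (hc j)) (locP_flat_of_repWith_etale (IsAlgSpace.yon_obj Z) h hhe)
    exact isLCIMor_of_lift hY (hYi i) (hXi i) (g i) (hcov.1 i) f (p i) (q i) (sq i) (hp i)
      (hWj j) _ hkf l hl (hA j) _ _ big

end Groth.Agent.Helper2.LciSp
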