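import Mathlib
import Groth.Prelude.Def_AlgSpMor6
import Groth.Agent.Lib.Helper2.AlgSp.LciSp

/-!
# Koszul-regular immersions and lci morphisms of algebraic spaces (helper2)
-/

set_option autoImplicit false
set_option linter.style.haveILetI false
universe u
open CategoryTheory CategoryTheory.Limits AlgebraicGeometry Opposite AlgSp
open Groth.Agent.Helper2.AlgSpBasic Groth.Agent.Helper2.EtaleLocal
open Groth.Agent.Lead.LciLocal Groth.Agent.Lead.SyntLci

namespace Groth.Agent.Helper2.LciSp

variable {S : Scheme.{u}}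

theorem lci_of_koszul {X Y : Scheme.{u}} (i : X ⟶ Y)
    (hi : RegImm.IsRegularImmersion .koszul i) : AlgSp.lci i :=
  (lci_iff_lciMor i).2 (lciMor_of_koszulRegularImmersion i hi)

/-- **S10665** core: a Koszul-regular immersion of algebraic spaces is an lci morphism. -/
theorem isLCIMor_of_koszul {X Y : Sp S} (hX : Representable (Limits.diag X)) (i : X ⟶ Y)
    (hi : IsRegImmMor RegImm.Kind.koszul i) : IsLCIMor i := by
  intro U V a b h hae hbe comm
  have hrep : Representable i := hi.1
  have sq := hrep.isPullback b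
  have hK : RegImm.IsRegularImmersion .koszul (hrep.snd b).left := hi.2 b _ _ hbe sq
  have hce : RepWith @Etale (hrep.fst b) := repWith_of_isPullback @Etale sq.flip hbe
  obtain ⟨s, hs⟩ := (yon S).map_surjective (sq.lift a ((yon S).map h) comm)
  have hs1 : (yon S).map s ≫ hrep.fst b = a := by rw [hs, sq.lift_fst]
  have hs2 : s ≫ hrep.snd b = h :=
    (yon S).map_injective (by rw [Functor.map_comp, hs, sq.lift_snd])
  haveI hse : Etale s.left := etale_of_comp_repWith_etale hX a (hrep.fst b) s hae hce hs1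
  show AlgSp.lci h.left
  rw [← hs2, Over.comp_left]
  exact lci_comp _ _ (lci_of_smooth s.left) (lci_of_koszul _ hK)

/-- **S10664** core. -/
theorem isRegImmMor_koszul_of_lci {X Y P U : Sp S} (hY : IsAlgSpace Y)
    (f : X ⟶ Y) (g : P ⟶ Y) (e : U ⟶ X) (i : U ⟶ P)
    (hc : i ≫ g = e ≫ f) (hf : IsLCIMor f) (hg : LocP @Smooth g)
    (he : IsEtaleMor e) (hi : RepWith @IsImmersion i) :
    IsRegImmMor RegImm.Kind.koszul i := by
  refine ⟨hi.rep, ?_⟩
  intro V W b fst snd hbe sq
  haveI himm : IsImmersion snd.left := hi.property b fst snd sq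
  show RegImm.IsRegularImmersion .koszul snd.left
  rw [koszul_iff_lci]
  -- atlas of Y and the chart V' = V ×_Y T
  obtain ⟨T, c, hce, hcs⟩ := hY.atlas
  obtain ⟨V', v₁, v₂, sqV'⟩ := exists_isPullback_yon hY.diag (b ≫ g) c
  haveI hv₁e : Etale v₁.left := hce.property (b ≫ g) _ _ sqV'.flip
  haveI hv₁s : Surjective v₁.left := hcs.property (b ≫ g) _ _ sqV'.flip
  have hb' : RepWith @Etale ((yon S).map v₁ ≫ b) :=
    repWith_comp @Etale ((repWith_yon_map_iff @Etale _).mpr hv₁e) hbe
  haveI hv₂ : Smooth v₂.left := by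
    refine hg ((yon S).map v₁ ≫ b) c v₂ hb' hce ?_
    rw [Category.assoc]; exact sqV'.w
  -- W' = W ×_V V'
  have sqW' : IsPullback (pullback.fst snd v₁) (pullback.snd snd v₁) snd v₁ :=
    IsPullback.of_hasPullback snd v₁
  have sqW'S : IsPullback (pullback.fst snd v₁).left (pullback.snd snd v₁).left snd.left v₁.left :=
    sqW'.map (Over.forget S)
  haveI hw₁e : Etale (pullback.fst snd v₁).left :=
    MorphismProperty.of_isPullback (P := @Etale) sqW'S.flip hv₁e
  haveI hw₁s : Surjective (pullback.fst snd v₁).left :=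
    MorphismProperty.of_isPullback (P := @Surjective) sqW'S.flip hv₁s
  -- chart of X
  have hfst : RepWith @Etale fst := repWith_of_isPullback @Etale sq.flip hbe
  have ha' : RepWith @Etale (((yon S).map (pullback.fst snd v₁) ≫ fst) ≫ e) :=
    he _ (repWith_comp @Etale ((repWith_yon_map_iff @Etale _).mpr hw₁e) hfst)
  have hlci : AlgSp.lci (pullback.snd snd v₁ ≫ v₂).left := by
    refine hf _ c (pullback.snd snd v₁ ≫ v₂) ha' hce ?_
    rw [Category.assoc, Category.assoc, ← hc, ← Category.assoc fst, sq.w, Category.assoc,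
      ← Category.assoc, ← Functor.map_comp, sqW'.w, Functor.map_comp, Functor.map_comp,
      Category.assoc, Category.assoc, sqV'.w]
  rw [Over.comp_left] at hlci
  have h1 : AlgSp.lci (pullback.snd snd v₁).left := lci_of_comp_smooth _ v₂.left hlci
  have h2 : AlgSp.lci ((pullback.snd snd v₁).left ≫ v₁.left) :=
    lci_comp _ _ h1 (lci_of_smooth v₁.left)
  rw [← sqW'S.w] at h2
  exact lci_of_etale_cover _ _ h2

end Groth.Agent.Helper2.LciSp
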