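import Mathlib
import Groth.Prelude.Def_AlgSp4
import Groth.Prelude.Def_AlgSpDec
import Groth.Agent.Lib.Helper2.AlgSp.ChartIndep
import Groth.Agent.Lib.Helper2.AlgSp.QfCodimZero
import Groth.Agent.Lib.Helper2.AlgSp.QfLocusSp
import Groth.Agent.Lib.Helper2.AlgSp.FibreSpec
import Groth.Agent.Lib.Helper2.AlgSp.DimSp
import Groth.Agent.Lib.Helper2.AlgSp.CodimZero
import Groth.Agent.Lib.Helper2.AlgSp.FieldFibre3
import Groth.Agent.Lib.Helper2.Sch.FibreDimZero
import Groth.Agent.Lib.Helper2.Sch.LocalDimEtale
import Groth.Agent.Lib.Helper2.Sch.DimFormula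

/-!
# Algebraic spaces locally of finite type over a field: isolated points (helper2)
-/

set_option autoImplicit false
set_option backward.isDefEq.respectTransparency false

open CategoryTheory CategoryTheory.Limits AlgebraicGeometry Opposite AlgSp Topology TopologicalSpace

namespace Groth.Agent.Helper2.LftField
open Groth.Agent.Helper2.AlgSpBasic Groth.Agent.Helper2.ChartIndep
universe u

section Top

/-- In a Noetherian quasi-sober space a closed subset stable under generization is open. -/
theorem isOpen_of_isClosed_of_stableUnderGeneralization {N : Type*} [TopologicalSpace N]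
    [NoetherianSpace N] [QuasiSober N] {W : Set N} (hW : IsClosed W)
    (hg : StableUnderGeneralization W) : IsOpen W := by
  have hfin : (irreducibleComponents N).Finite := NoetherianSpace.finite_irreducibleComponents
  have key : Wᶜ = ⋃ Z ∈ {Z ∈ irreducibleComponents N | Disjoint Z W}, Z := by
    ext n
    simp only [Set.mem_compl_iff, Set.mem_iUnion, Set.mem_setOf_eq, exists_prop]
    constructor
    · intro hn
      refine ⟨irreducibleComponent n, ⟨irreducibleComponent_mem_irreducibleComponents n, ?_⟩,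
        mem_irreducibleComponent⟩
      rw [Set.disjoint_left]
      intro w hw hwW
      obtain ⟨η, hη⟩ := QuasiSober.sober (isIrreducible_irreducibleComponent (x := n))
        isClosed_irreducibleComponent
      have h1 : η ⤳ w := hη.specializes hw
      have h2 : η ∈ W := hg h1 hwW
      have h3 : irreducibleComponent n ⊆ W := by
        rw [← hη.def]
        exact hW.closure_subset_iff.mpr (Set.singleton_subset_iff.mpr h2)
      exact hn (h3 mem_irreducibleComponent)
    · rintro ⟨Z, ⟨-, hZ⟩, hnZ⟩ hnW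
      exact Set.disjoint_left.mp hZ hnZ hnW
  rw [← isClosed_compl_iff, key]
  refine Set.Finite.isClosed_biUnion (hfin.subset fun Z hZ => hZ.1) fun Z hZ => ?_
  exact isClosed_of_mem_irreducibleComponents Z hZ.1

/-- A family of clopen points of a locally Noetherian space forming an open set is closed. -/
theorem isClosed_of_forall_isClopen_singleton {N : Type*} [TopologicalSpace N]
    (hN : ∀ n : N, ∃ V : Set N, IsOpen V ∧ n ∈ V ∧ NoetherianSpace ↥V) {W : Set N}
    (hW : ∀ w ∈ W, IsClopen ({w} : Set N)) : IsClosed W := by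
  rw [← isOpen_compl_iff, isOpen_iff_forall_mem_open]
  intro n hn
  obtain ⟨V, hVo, hnV, hVN⟩ := hN n
  -- the points of `W` in `V` are finitely many
  have hfin : (W ∩ V).Finite := by
    have hc : IsCompact (Subtype.val ⁻¹' W : Set ↥V) := NoetherianSpace.isCompact _
    have hd : ∀ w ∈ (Subtype.val ⁻¹' W : Set ↥V), IsOpen ({w} : Set ↥V) := by
      intro w hw
      have := (hW w.1 hw).isOpen.preimage (continuous_subtype_val (p := fun x => x ∈ V))
      convert this using 1
      ext v
      simp only [Set.mem_singleton_iff, Set.mem_preimage]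
      exact Subtype.ext_iff
    have hfin' : (Subtype.val ⁻¹' W : Set ↥V).Finite := by
      obtain ⟨t, ht⟩ := hc.elim_finite_subcover_image (b := (Subtype.val ⁻¹' W : Set ↥V))
        (c := fun w => ({w} : Set ↥V)) hd (fun w hw => Set.mem_biUnion hw rfl)
      refine ht.1 |> fun _ => (ht.2.1.subset ?_)
      intro w hw
      obtain ⟨w', hw't, hw'⟩ := Set.mem_iUnion₂.mp (ht.2.2 hw)
      rw [Set.mem_singleton_iff] at hw'
      rw [hw']
      exact hw't
    have : W ∩ V = Subtype.val '' (Subtype.val ⁻¹' W : Set ↥V) := by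
      rw [Subtype.image_preimage_coe, Set.inter_comm]
    rw [this]
    exact hfin'.image _
  have hcl : IsClosed (W ∩ V) := by
    have : W ∩ V = ⋃ w ∈ W ∩ V, ({w} : Set N) := (Set.biUnion_of_singleton _).symm
    rw [this]
    exact hfin.isClosed_biUnion fun w hw => (hW w hw.1).isClosed
  refine ⟨V ∩ (W ∩ V)ᶜ, ?_, hVo.inter hcl.isOpen_compl, hnV, fun h => hn h.1⟩
  rintro m ⟨hmV, hm⟩ hmW
  exact hm ⟨hmW, hmV⟩

end Top

section Sch

variable {K : Type u} [Field K] {U : Scheme.{u}} (g : U ⟶ Spec (CommRingCat.of K))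
  [LocallyOfFiniteType g]

include g

/-- An open all of whose points have zero-dimensional local rings consists of isolated points. -/
theorem isOpen_singleton_of_forall_dimZ (W : U.Opens)
    (hW : ∀ w ∈ W, ringKrullDim ↥(U.presheaf.stalk w) = 0) (u : ↥U) (hu : u ∈ W) :
    IsOpen ({u} : Set ↥U) := by
  apply FibreDimZero.isOpen_singleton_of_localDim_eq_zero g u
  apply le_antisymm
  · unfold FlatMor.localDim
    refine iInf_le_of_le ⟨W, hu⟩ ?_
    rw [LocalDimEtale.topologicalKrullDim_opens]
    exact iSup_le fun v => (hW v.1 v.2).le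
  · exact QfLocusSp.localDim_nonneg u

theorem isClosed_singleton_of_isOpen_singleton (u : ↥U) (h : IsOpen ({u} : Set ↥U)) :
    IsClosed ({u} : Set ↥U) := by
  have : JacobsonSpace ↥U := LocallyOfFiniteType.jacobsonSpace g
  exact isClosed_singleton_of_isLocallyClosed_singleton h.isLocallyClosed

theorem isLocallyNoetherian_of_lft_field : IsLocallyNoetherian U :=
  LocallyOfFiniteType.isLocallyNoetherian g

theorem exists_noetherianSpace_nhd (n : ↥U) :
    ∃ V : U.Opens, n ∈ V ∧ IsAffineOpen V ∧ NoetherianSpace ↥V := by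
  have := isLocallyNoetherian_of_lft_field g
  obtain ⟨_, ⟨V, hV, rfl⟩, hnV, -⟩ := U.isBasis_affineOpens.exists_subset_of_mem_open
    (Set.mem_univ n) isOpen_univ
  have : IsNoetherianRing Γ(U, V) := IsLocallyNoetherian.component_noetherian ⟨V, hV⟩
  exact ⟨V, hnV, hV, noetherianSpace_of_isAffineOpen V hV⟩

/-- A point of a scheme whose local ring has dimension zero has no proper generization. -/
theorem eq_of_specializes_of_dimZ (u u' : ↥U) (hu : ringKrullDim ↥(U.presheaf.stalk u) = 0)
    (h : u' ⤳ u) : u' = u := by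
  rw [DimFormula.ringKrullDim_stalk_eq_coheight] at hu
  have h0 : Order.coheight u = 0 := by exact_mod_cast hu
  rw [Order.coheight_eq_zero] at h0
  have h1 : u ≤ u' := (AlgebraicGeometry.Scheme.le_iff_specializes).mpr h
  have h2 : u ⤳ u' := (AlgebraicGeometry.Scheme.le_iff_specializes).mp (h0 h1)
  exact (h.antisymm h2).eq

omit g [LocallyOfFiniteType g] in
/-- A point of a scheme without proper generization has a zero-dimensional local ring. -/
theorem dimZ_of_forall_specializes (u : ↥U) (h : ∀ u' : ↥U, u' ⤳ u → u' = u) :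
    ringKrullDim ↥(U.presheaf.stalk u) = 0 := by
  rw [DimFormula.ringKrullDim_stalk_eq_coheight]
  have h0 : Order.coheight u = 0 := by
    rw [Order.coheight_eq_zero]
    intro u' hu'
    have := h u' ((AlgebraicGeometry.Scheme.le_iff_specializes).mp hu')
    exact this.le
  rw [h0]
  rfl

end Sch

section Top2

theorem eq_of_specializes_of_dim_le_zero {T : Type*} [TopologicalSpace T] [T0Space T]
    (h : topologicalKrullDim T ≤ 0) {y y' : T} (hs : y' ⤳ y) : y' = y := by
  unfold topologicalKrullDim at h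
  rw [Order.krullDim_nonpos_iff_forall_isMax] at h
  let c : IrreducibleCloseds T := ⟨closure {y}, isIrreducible_singleton.closure, isClosed_closure⟩
  let c' : IrreducibleCloseds T :=
    ⟨closure {y'}, isIrreducible_singleton.closure, isClosed_closure⟩
  have hle : c ≤ c' := specializes_iff_closure_subset.mp hs
  have hge : c' ≤ c := h c hle
  have h2 : y ⤳ y' := specializes_iff_closure_subset.mpr hge
  exact (hs.antisymm h2).eq

theorem topologicalKrullDim_eq_zero_of_discrete {T : Type*} [TopologicalSpace T]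
    [DiscreteTopology T] [Nonempty T] : topologicalKrullDim T = 0 := by
  apply le_antisymm
  · unfold topologicalKrullDim
    rw [Order.krullDim_nonpos_iff_forall_isMax]
    intro c c' hcc'
    have h1 : (c' : Set T).Subsingleton :=
      isPreirreducible_iff_subsingleton.mp c'.isIrreducible.isPreirreducible
    obtain ⟨t, ht⟩ := c.isIrreducible.nonempty
    intro t' ht'
    have : t' = t := h1 ht' (hcc' ht)
    rw [this]
    exact ht
  · obtain ⟨t⟩ := ‹Nonempty T›
    haveI : Nonempty (IrreducibleCloseds T) :=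
      ⟨⟨closure {t}, isIrreducible_singleton.closure, isClosed_closure⟩⟩
    exact Order.krullDim_nonneg

end Top2

section Sp

variable {S : Scheme.{u}} {K : Type u} [Field K] {str : Spec (CommRingCat.of K) ⟶ S}
  {Z : Sp S} (q : Z ⟶ (yon S).obj (Over.mk str)) (hq : LocP @LocallyOfFiniteType q)

include hq

theorem exists_lft_chart {U : Over S} (a : (yon S).obj U ⟶ Z) (ha : RepWith @Etale a) :
    ∃ g : U.left ⟶ Spec (CommRingCat.of K), LocallyOfFiniteType g := by
  obtain ⟨h, hh⟩ := (yon S).map_surjective (a ≫ q)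
  exact ⟨h.left, hq a (𝟙 _) h ha (repWith_id _ _) (by rw [hh, Category.comp_id])⟩

omit hq in
/-- All points of a chart over an isolated point have zero-dimensional local rings. -/
theorem dimZ_of_isOpen_singleton {U : Over S} (a : (yon S).obj U ⟶ Z) (ha : RepWith @Etale a)
    (x : Points Z) (hx : IsOpen ({x} : Set (Points Z))) (u : ↥U.left)
    (hu : Points.ofPt a u = x) : ringKrullDim ↥(U.left.presheaf.stalk u) = 0 := by
  let W : U.left.Opens := ⟨Points.ofPt a ⁻¹' {x}, hx.preimage (Points.continuous_ofPt a)⟩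
  obtain ⟨v, hvW, hv⟩ := exists_codimZero_mem W u hu
  have hvW' : Points.ofPt a v = x := hvW
  exact (chart_indep (etaleInvariant_ringKrullDim 0) a a ha ha v u (hvW'.trans hu.symm)).mp hv

theorem isOpen_singleton_chart_iff {U : Over S} (a : (yon S).obj U ⟶ Z) (ha : RepWith @Etale a)
    (u : ↥U.left) :
    IsOpen ({Points.ofPt a u} : Set (Points Z)) ↔ IsOpen ({u} : Set ↥U.left) := by
  constructor
  · intro hx
    obtain ⟨g, hg⟩ := exists_lft_chart q hq a ha
    let W : U.left.Opens :=
      ⟨Points.ofPt a ⁻¹' {Points.ofPt a u}, hx.preimage (Points.continuous_ofPt a)⟩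
    exact isOpen_singleton_of_forall_dimZ g W
      (fun w hw => dimZ_of_isOpen_singleton a ha _ hx w hw) u rfl
  · intro hu
    have := isOpenMap_ofPt a ha _ hu
    rwa [Set.image_singleton] at this

theorem isOpen_singleton_iff_hasAt_localDim (hZ : IsAlgSpace Z) (x : Points Z) :
    IsOpen ({x} : Set (Points Z)) ↔ HasAt (fun U u => FlatMor.localDim ↥U u = 0) Z x := by
  constructor
  · intro hx
    obtain ⟨U, a, hae, has⟩ := hZ.atlas
    obtain ⟨u, rfl⟩ := surjective_ofPt a has x
    exact ⟨U, a, u, hae, rfl, FibreDimZero.localDim_eq_zero_of_isOpen_singleton u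
      ((isOpen_singleton_chart_iff q hq a hae u).mp hx)⟩
  · rintro ⟨U, a, u, ha, rfl, h0⟩
    obtain ⟨g, hg⟩ := exists_lft_chart q hq a ha
    exact (isOpen_singleton_chart_iff q hq a ha u).mpr
      (FibreDimZero.isOpen_singleton_of_localDim_eq_zero g u h0)

theorem isOpen_singleton_iff_isClosed_and (hZ : IsAlgSpace Z) (x : Points Z) :
    IsOpen ({x} : Set (Points Z)) ↔
      IsClosed ({x} : Set (Points Z)) ∧ ∀ x' : Points Z, x' ⤳ x → x' = x := by
  obtain ⟨U, a, hae, has⟩ := hZ.atlas
  obtain ⟨g, hg⟩ := exists_lft_chart q hq a hae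
  constructor
  · intro hx
    refine ⟨?_, fun x' h => h.mem_open hx rfl⟩
    rw [← (isQuotientMap_ofPt a hae has).isClosed_preimage]
    apply isClosed_of_forall_isClopen_singleton
    · intro n
      obtain ⟨V, hnV, -, hVN⟩ := exists_noetherianSpace_nhd g n
      exact ⟨V, V.isOpen, hnV, hVN⟩
    · intro w hw
      have hw' : Points.ofPt a w = x := hw
      have ho : IsOpen ({w} : Set ↥U.left) :=
        (isOpen_singleton_chart_iff q hq a hae w).mp (by rw [hw']; exact hx)
      exact ⟨isClosed_singleton_of_isOpen_singleton g w ho, ho⟩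
  · rintro ⟨hc, hgen⟩
    obtain ⟨u, hu⟩ := surjective_ofPt a has x
    obtain ⟨V, huV, hVa, hVN⟩ := exists_noetherianSpace_nhd g u
    let W : Set ↥V := {v | Points.ofPt a v.1 = x}
    have hWc : IsClosed W :=
      (hc.preimage (Points.continuous_ofPt a)).preimage continuous_subtype_val
    have hWg : StableUnderGeneralization W := by
      intro v v' hvv' hv
      have h1 : v'.1 ⤳ v.1 := (subtype_specializes_iff _ _).1 hvv'
      have h2 : Points.ofPt a v'.1 ⤳ Points.ofPt a v.1 := h1.map (Points.continuous_ofPt a)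
      have hv' : Points.ofPt a v.1 = x := hv
      rw [hv'] at h2
      exact hgen _ h2
    have : QuasiSober ↥V := V.isOpen.isOpenEmbedding_subtypeVal.quasiSober
    have hWo : IsOpen W := isOpen_of_isClosed_of_stableUnderGeneralization hWc hWg
    have hWo' : IsOpen (Subtype.val '' W : Set ↥U.left) := V.isOpen.isOpenMap_subtype_val _ hWo
    have := isOpenMap_ofPt a hae _ hWo'
    convert this using 1
    ext y
    constructor
    · rintro rfl
      exact ⟨u, ⟨⟨u, huV⟩, hu, rfl⟩, hu⟩
    · rintro ⟨_, ⟨v, hv, rfl⟩, rfl⟩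
      exact hv

omit hq in
theorem finite_fibre_of_isDecent (hZ : IsAlgSpace Z) (hd : IsDecent Z) (x : Points Z)
    (V : Over S) (b : (yon S).obj V ⟶ Z) (hV : IsAffine V.left) (hb : RepWith @Etale b) :
    (Points.ofPt b ⁻¹' {x}).Finite := by
  haveI := hV
  obtain ⟨p, hp, hm, hqc⟩ := hd x
  rw [← hp]
  exact (FieldFibre.finite_fibre_of_quasiCompact hZ p hm hqc b hb).1

/-- For a decent space: a point with an open neighbourhood without nontrivial specializations is
isolated. -/
theorem isOpen_singleton_of_nhd (hZ : IsAlgSpace Z) (hd : IsDecent Z) (x : Points Z)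
    (N : Set (Points Z)) (hN : IsOpen N) (hxN : x ∈ N)
    (hsp : ∀ y ∈ N, ∀ y' ∈ N, y' ⤳ y → y' = y) : IsOpen ({x} : Set (Points Z)) := by
  obtain ⟨U, a, hae, has⟩ := hZ.atlas
  obtain ⟨g, hg⟩ := exists_lft_chart q hq a hae
  obtain ⟨u, rfl⟩ := surjective_ofPt a has x
  let W : U.left.Opens := ⟨Points.ofPt a ⁻¹' N, hN.preimage (Points.continuous_ofPt a)⟩
  refine (isOpen_singleton_chart_iff q hq a hae u).mpr
    (isOpen_singleton_of_forall_dimZ g W (fun w hw => ?_) u hxN)
  refine dimZ_of_forall_specializes w fun u' hu' => ?_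
  have hu'W : u' ∈ W := hu'.mem_open W.isOpen hw
  have h1 : Points.ofPt a u' = Points.ofPt a w :=
    hsp _ hw _ hu'W (hu'.map (Points.continuous_ofPt a))
  exact (FibreSpec.eq_of_specializes hZ (Points.ofPt a w)
    (fun V b hV hb => finite_fibre_of_isDecent hZ hd _ V b hV hb) a hae w u' rfl h1 hu').symm

theorem localDim_points_eq_zero_iff (hZ : IsAlgSpace Z) (hd : IsDecent Z) (x : Points Z) :
    FlatMor.localDim (Points Z) x = 0 ↔ IsOpen ({x} : Set (Points Z)) := by
  constructor
  · intro h0
    obtain ⟨N, hxN, hN⟩ := FibreDimZero.exists_open_dim_le_zero_of_localDim_eq_zero x h0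
    have : T0Space (Points Z) := FibreSpec.t0Space_of_isDecent hZ hd
    refine isOpen_singleton_of_nhd q hq hZ hd x N N.isOpen hxN fun y hy y' hy' h => ?_
    have h1 : (⟨y', hy'⟩ : ↥(N : Set (Points Z))) ⤳ ⟨y, hy⟩ := (subtype_specializes_iff _ _).2 h
    exact congrArg Subtype.val (eq_of_specializes_of_dim_le_zero hN h1)
  · exact FibreDimZero.localDim_eq_zero_of_isOpen_singleton x

theorem discreteTopology_iff_dim_eq_zero (hZ : IsAlgSpace Z) [Nonempty (Points Z)] :
    DiscreteTopology (Points Z) ↔ AlgSp.dim Z = 0 := by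
  have hnn : 0 ≤ AlgSp.dim Z := by
    obtain ⟨x⟩ := ‹Nonempty (Points Z)›
    obtain ⟨U, a, hae, has⟩ := hZ.atlas
    obtain ⟨u, -⟩ := surjective_ofPt a has x
    exact le_trans ringKrullDim_nonneg_of_nontrivial (DimSp.stalk_le_dim a hae u)
  constructor
  · intro hdisc
    refine le_antisymm (DimSp.dim_le_of_forall 0 fun U a ha u => ?_) hnn
    have ho : IsOpen ({u} : Set ↥U.left) :=
      (isOpen_singleton_chart_iff q hq a ha u).mp (isOpen_discrete _)
    exact (dimZ_of_forall_specializes u fun u' h => h.mem_open ho rfl).le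
  · intro h0
    rw [discreteTopology_iff_isOpen_singleton]
    intro x
    obtain ⟨U, a, hae, has⟩ := hZ.atlas
    obtain ⟨g, hg⟩ := exists_lft_chart q hq a hae
    obtain ⟨u, rfl⟩ := surjective_ofPt a has x
    refine (isOpen_singleton_chart_iff q hq a hae u).mpr
      (isOpen_singleton_of_forall_dimZ g ⊤ (fun w _ => ?_) u trivial)
    exact le_antisymm (h0 ▸ DimSp.stalk_le_dim a hae w) ringKrullDim_nonneg_of_nontrivial

theorem discreteTopology_of_dim_points_eq_zero (hZ : IsAlgSpace Z) (hd : IsDecent Z)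
    (h0 : topologicalKrullDim (Points Z) = 0) : DiscreteTopology (Points Z) := by
  have : T0Space (Points Z) := FibreSpec.t0Space_of_isDecent hZ hd
  rw [discreteTopology_iff_isOpen_singleton]
  intro x
  exact isOpen_singleton_of_nhd q hq hZ hd x Set.univ isOpen_univ trivial
    fun y _ y' _ h => eq_of_specializes_of_dim_le_zero h0.le h

theorem dim_eq_zero_of_finite (hZ : IsAlgSpace Z) (hd : IsDecent Z) [Nonempty (Points Z)]
    [Finite (Points Z)] : AlgSp.dim Z = 0 := by
  have hnn : 0 ≤ AlgSp.dim Z := by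
    obtain ⟨x⟩ := ‹Nonempty (Points Z)›
    obtain ⟨U, a, hae, has⟩ := hZ.atlas
    obtain ⟨u, -⟩ := surjective_ofPt a has x
    exact le_trans ringKrullDim_nonneg_of_nontrivial (DimSp.stalk_le_dim a hae u)
  refine le_antisymm (DimSp.dim_le_of_forall 0 fun U a ha u => ?_) hnn
  obtain ⟨_, ⟨V, hV, rfl⟩, huV, -⟩ := U.left.isBasis_affineOpens.exists_subset_of_mem_open
    (Set.mem_univ u) isOpen_univ
  have hb := FieldFibre.repWith_etale_opensι_comp a ha V
  have e : Points.ofPt ((yon S).map (FieldFibre.opensι U V) ≫ a)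
      (⟨u, huV⟩ : ↥(FieldFibre.opensOver U V).left) = Points.ofPt a u := by
    rw [ofPt_yon_map_comp]; rfl
  refine ((chart_indep (etaleInvariant_ringKrullDim 0) _ a hb ha
    (⟨u, huV⟩ : ↥(FieldFibre.opensOver U V).left) u e).mp ?_).le
  have hfinV : Finite ↥(FieldFibre.opensOver U V).left := by
    have h1 : (Set.univ : Set ↥(FieldFibre.opensOver U V).left) =
        ⋃ x : Points Z, Points.ofPt ((yon S).map (FieldFibre.opensι U V) ≫ a) ⁻¹' {x} := by
      ext v
      simp
    rw [← Set.finite_univ_iff, h1]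
    exact Set.finite_iUnion fun x => finite_fibre_of_isDecent hZ hd x _ _ hV hb
  obtain ⟨g, hg⟩ := exists_lft_chart q hq _ hb
  have : JacobsonSpace ↥(FieldFibre.opensOver U V).left := LocallyOfFiniteType.jacobsonSpace g
  have : DiscreteTopology ↥(FieldFibre.opensOver U V).left :=
    JacobsonSpace.discreteTopology (Set.toFinite _)
  exact dimZ_of_forall_specializes _ fun u' h => h.mem_open (isOpen_discrete {_}) rfl

end Sp

section Qf

open Groth.Agent.Helper2.QfAt Groth.Agent.Helper2.QfAtSp

variable {S : Scheme.{u}} {K : Type u} [Field K] {str : Spec (CommRingCat.of K) ⟶ S}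
  {Z : Sp S} (q : Z ⟶ (yon S).obj (Over.mk str)) (hq : LocP @LocallyOfFiniteType q)

include hq

/-- Over a field, quasi-finite at a point means the point is isolated. -/
theorem hasAtMor_qf_iff_isOpen_singleton (hZ : IsAlgSpace Z) (z : Points Z) :
    HasAtMor QfQ q z ↔ IsOpen ({z} : Set (Points Z)) := by
  obtain ⟨U, a, hae, has⟩ := hZ.atlas
  obtain ⟨u, rfl⟩ := surjective_ofPt a has z
  obtain ⟨h, hh⟩ := (yon S).map_surjective (a ≫ q)
  have c : a ≫ q = (yon S).map h ≫ 𝟙 _ := by rw [hh, Category.comp_id]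
  have hid : RepWith @Etale (𝟙 ((yon S).obj (Over.mk str))) := repWith_id _ _
  have hlft : LocallyOfFiniteType h.left := hq a (𝟙 _) h hae hid c
  rw [isOpen_singleton_chart_iff q hq a hae u]
  constructor
  · intro hqf
    have h1 : h.left.QuasiFiniteAt u :=
      quasiFiniteAt_of_hasAtMor hZ.diag (IsAlgSpace.yon_obj _).diag q hq _ hqf a (𝟙 _) h hae hid c
        u rfl
    rw [quasiFiniteAt_iff_isolated] at h1
    obtain ⟨O, hO, huO, hOu⟩ := h1
    have : ({u} : Set ↥U.left) = O := by
      ext v
      constructor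
      · rintro rfl; exact huO
      · intro hv
        exact hOu v hv (Subsingleton.elim (α := ↥(Spec (CommRingCat.of K))) _ _)
    rw [this]
    exact hO
  · intro ho
    have h0 : FlatMor.localDim ↥U.left u = 0 :=
      FibreDimZero.localDim_eq_zero_of_isOpen_singleton u ho
    exact hasAtMor_of_quasiFiniteAt q hq a (𝟙 _) h hae hid c u
      (FibreDimZero.quasiFiniteAt_of_localDim_eq_zero (k := K) h.left u h0)

end Qf

end Groth.Agent.Helper2.LftField
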