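import Mathlib
import Groth.Prelude.Def_AlgSp4
import Groth.Prelude.Def_AlgSpDec
import Groth.Agent.Lib.Helper2.AlgSp.LftField
import Groth.Agent.Lib.Helper2.AlgSp.QfAtBCSp
import Groth.Agent.Lib.Helper2.AlgSp.FibreEmbed
import Groth.Agent.Lib.Helper2.AlgSp.QcMonoPoint
import Groth.Agent.Lib.Helper2.AlgSp.MonoField

/-!
# Fibres of morphisms locally of finite type over field-valued points (helper2)
-/

set_option autoImplicit false
set_option backward.isDefEq.respectTransparency false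

open CategoryTheory CategoryTheory.Limits AlgebraicGeometry Opposite AlgSp Topology TopologicalSpace

namespace Groth.Agent.Helper2.LftFibre
open Groth.Agent.Helper2.AlgSpBasic Groth.Agent.Helper2.QfAtSp Groth.Agent.Helper2.LftField
universe u
variable {S : Scheme.{u}} {X Y : Sp S}

section OneFibre

variable (f : X ⟶ Y) (r : FieldPt Y) {Xk : Sp S} (fst : Xk ⟶ X)
  (snd : Xk ⟶ (yon S).obj r.pt) (hsq : IsPullback fst snd f r.toHom)

theorem map_toHom (z : Points ((yon S).obj r.pt)) : Points.map r.toHom z = Points.mk r := by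
  obtain ⟨t, rfl⟩ := (Points.schemeHomeo r.pt).surjective z
  change Points.map r.toHom (Points.ofScheme r.pt t) = _
  rw [← Points.ofPt_eq_map_ofScheme]
  exact Points.ofPt_toHom r t

include hsq

theorem map_f_fst (w : Points Xk) : Points.map f (Points.map fst w) = Points.mk r := by
  rw [← Points.map_comp, hsq.w, Points.map_comp]
  exact map_toHom r _

theorem exists_lift (x : Points X) (hx : Points.map f x = Points.mk r) :
    ∃ xt : Points Xk, Points.map fst xt = x := by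
  let c : ↥r.pt.left := (IsLocalRing.closedPoint r.K : ↥(Spec (CommRingCat.of r.K)))
  have e : Points.map r.toHom (Points.ofScheme r.pt c) = Points.map f x := by
    rw [map_toHom, hx]
  obtain ⟨xt, -, h⟩ := points_exists_of_isPullback f r.toHom snd fst hsq.flip
    (Points.ofScheme r.pt c) x e
  exact ⟨xt, h⟩

theorem range_fst : Set.range (Points.map fst) = Points.map f ⁻¹' {Points.mk r} := by
  ext x
  constructor
  · rintro ⟨w, rfl⟩
    exact map_f_fst f r fst snd hsq w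
  · intro hx
    exact exists_lift f r fst snd hsq x hx

variable (hX : IsAlgSpace X) (hY : IsAlgSpace Y) (hXk : IsAlgSpace Xk)
  (hf : LocP @LocallyOfFiniteType f)

include hX hY hXk hf

theorem locP_snd : LocP @LocallyOfFiniteType snd :=
  locP_of_isPullback @LocallyOfFiniteType hX hY (IsAlgSpace.yon_obj _) hXk f r.toHom fst snd hsq hf

theorem isOpen_singleton_iff_qf (xt : Points Xk) :
    IsOpen ({xt} : Set (Points Xk)) ↔ HasAtMor QfQ f (Points.map fst xt) :=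
  (hasAtMor_qf_iff_isOpen_singleton snd (locP_snd f r fst snd hsq hX hY hXk hf) hXk xt).symm.trans
    (QfAtBCSp.hasAtMor_qf_bc_scheme_iff hX hY hXk f hf r.toHom fst snd hsq xt)

theorem discreteTopology_iff_forall_qf :
    DiscreteTopology (Points Xk) ↔
      ∀ x : Points X, Points.map f x = Points.mk r → HasAtMor QfQ f x := by
  rw [discreteTopology_iff_isOpen_singleton]
  constructor
  · intro h x hx
    obtain ⟨xt, rfl⟩ := exists_lift f r fst snd hsq x hx
    exact (isOpen_singleton_iff_qf f r fst snd hsq hX hY hXk hf xt).mp (h xt)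
  · intro h xt
    exact (isOpen_singleton_iff_qf f r fst snd hsq hX hY hXk hf xt).mpr
      (h _ (map_f_fst f r fst snd hsq xt))

end OneFibre

section MonoFibre

variable (hX : IsAlgSpace X) (hY : IsAlgSpace Y) (f : X ⟶ Y)
  (r₀ : FieldPt Y) (hm : Mono r₀.toHom) (hqc : RepWith @QuasiCompact r₀.toHom) {X₀ : Sp S}
  (fst₀ : X₀ ⟶ X) (snd₀ : X₀ ⟶ (yon S).obj r₀.pt) (hsq₀ : IsPullback fst₀ snd₀ f r₀.toHom)

include hX hY hm hqc hsq₀

/-- The points of the fibre over a quasi-compact monomorphic point are the fibre of the map on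
points. -/
noncomputable def fibreHomeo : Points X₀ ≃ₜ ↥(Points.map f ⁻¹' {Points.mk r₀}) :=
  ((FibreEmbed.main hX hY f r₀ hm hqc fst₀ snd₀ hsq₀).1.toHomeomorph).trans
    (Homeomorph.setCongr (FibreEmbed.main hX hY f r₀ hm hqc fst₀ snd₀ hsq₀).2)

theorem fibreHomeo_apply (z : Points X₀) :
    ((fibreHomeo hX hY f r₀ hm hqc fst₀ snd₀ hsq₀ z : ↥(Points.map f ⁻¹' {Points.mk r₀})) :
      Points X) = Points.map fst₀ z := rfl

/-- The fibre of a decent space over a quasi-compact monomorphic point is decent. -/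
theorem isDecent_fibre (hXd : IsDecent X) : IsDecent X₀ := by
  intro z
  obtain ⟨p, hp, hpm, hpq⟩ := hXd (Points.map fst₀ z)
  have hy : Points.mk (p.map f) = Points.mk r₀ := by
    rw [← Points.map_mk, hp]
    exact map_f_fst f r₀ fst₀ snd₀ hsq₀ z
  obtain ⟨g, hg⟩ := QcMonoPoint.exists_factor_of_mono hY r₀ (p.map f) hm hy
  rw [FieldPt.toHom_map] at hg
  let l : (yon S).obj p.pt ⟶ X₀ := hsq₀.lift p.toHom g hg.symm
  have hl : l ≫ fst₀ = p.toHom := hsq₀.lift_fst _ _ _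
  let p' : FieldPt X₀ := ⟨p.K, p.str, (J S).uliftYonedaEquiv l⟩
  have hp'l : p'.toHom = l := (J S).uliftYonedaEquiv.symm_apply_apply l
  have hp'map : p'.map fst₀ = p := by
    have h1 : fst₀.hom.app _ ((J S).uliftYonedaEquiv l) = p.val := by
      rw [← GrothendieckTopology.uliftYonedaEquiv_comp, hl]
      exact FieldPt.uliftYonedaEquiv_toHom p
    show (⟨p.K, p.str, fst₀.hom.app _ ((J S).uliftYonedaEquiv l)⟩ : FieldPt X) = p
    rw [h1]
    rfl
  have hinj : Function.Injective (Points.map fst₀) :=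
    (FibreEmbed.main hX hY f r₀ hm hqc fst₀ snd₀ hsq₀).1.injective
  haveI : Mono fst₀ := by
    haveI := hm
    exact hsq₀.mono_fst_of_mono
  refine ⟨p', ?_, ?_, ?_⟩
  · apply hinj
    rw [Points.map_mk, hp'map, hp]
  · rw [hp'l]
    haveI : Mono (l ≫ fst₀) := by rw [hl]; exact hpm
    exact mono_of_mono l fst₀
  · rw [hp'l]
    have sq1 : IsPullback (𝟙 ((yon S).obj p.pt)) l l (𝟙 X₀) := IsPullback.of_horiz_isIso ⟨by simp⟩
    have sq2 := isPullback_comp_mono sq1 fst₀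
    rw [hl, Category.id_comp] at sq2
    exact repWith_of_isPullback @QuasiCompact sq2 hpq

end MonoFibre

section Transfer

variable (hX : IsAlgSpace X) (hY : IsAlgSpace Y) (f : X ⟶ Y) (hf : LocP @LocallyOfFiniteType f)
  (y : Points Y) (r₀ : FieldPt Y) (hr₀ : Points.mk r₀ = y) (hm : Mono r₀.toHom)
  (hqc : RepWith @QuasiCompact r₀.toHom) {X₀ : Sp S} (hX₀ : IsAlgSpace X₀)
  (fst₀ : X₀ ⟶ X) (snd₀ : X₀ ⟶ (yon S).obj r₀.pt) (hsq₀ : IsPullback fst₀ snd₀ f r₀.toHom)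

include hX hY hf hr₀ hm hqc hX₀ hsq₀

theorem isOpen_singleton_fibre_iff_qf (x : Points X) (hx : x ∈ Points.map f ⁻¹' {y}) :
    IsOpen ({⟨x, hx⟩} : Set ↥(Points.map f ⁻¹' {y})) ↔ HasAtMor QfQ f x := by
  subst hr₀
  let e := fibreHomeo hX hY f r₀ hm hqc fst₀ snd₀ hsq₀
  have h1 : Points.map fst₀ (e.symm ⟨x, hx⟩) = x := by
    have := fibreHomeo_apply hX hY f r₀ hm hqc fst₀ snd₀ hsq₀ (e.symm ⟨x, hx⟩)
    rw [← this]
    exact congrArg Subtype.val (e.apply_symm_apply ⟨x, hx⟩)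
  have h2 : IsOpen ({⟨x, hx⟩} : Set ↥(Points.map f ⁻¹' {Points.mk r₀})) ↔
      IsOpen ({e.symm ⟨x, hx⟩} : Set (Points X₀)) := by
    rw [← e.isOpen_image, Set.image_singleton, e.apply_symm_apply]
  rw [h2, isOpen_singleton_iff_qf f r₀ fst₀ snd₀ hsq₀ hX hY hX₀ hf, h1]

theorem closed_nogen_fibre_iff_isOpen (x : Points X) (hx : x ∈ Points.map f ⁻¹' {y}) :
    (IsClosed ({⟨x, hx⟩} : Set ↥(Points.map f ⁻¹' {y})) ∧
      ∀ x' : ↥(Points.map f ⁻¹' {y}), x' ⤳ (⟨x, hx⟩ : ↥(Points.map f ⁻¹' {y})) →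
        x' = (⟨x, hx⟩ : ↥(Points.map f ⁻¹' {y}))) ↔
      IsOpen ({⟨x, hx⟩} : Set ↥(Points.map f ⁻¹' {y})) := by
  subst hr₀
  let e := fibreHomeo hX hY f r₀ hm hqc fst₀ snd₀ hsq₀
  have hq₀ := locP_snd f r₀ fst₀ snd₀ hsq₀ hX hY hX₀ hf
  have h2 : IsOpen ({⟨x, hx⟩} : Set ↥(Points.map f ⁻¹' {Points.mk r₀})) ↔
      IsOpen ({e.symm ⟨x, hx⟩} : Set (Points X₀)) := by
    rw [← e.isOpen_image, Set.image_singleton, e.apply_symm_apply]
  have h3 : IsClosed ({⟨x, hx⟩} : Set ↥(Points.map f ⁻¹' {Points.mk r₀})) ↔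
      IsClosed ({e.symm ⟨x, hx⟩} : Set (Points X₀)) := by
    rw [← e.isClosed_image, Set.image_singleton, e.apply_symm_apply]
  have h4 : (∀ x' : ↥(Points.map f ⁻¹' {Points.mk r₀}),
      x' ⤳ (⟨x, hx⟩ : ↥(Points.map f ⁻¹' {Points.mk r₀})) → x' = ⟨x, hx⟩) ↔
      ∀ z : Points X₀, z ⤳ e.symm ⟨x, hx⟩ → z = e.symm ⟨x, hx⟩ := by
    constructor
    · intro H z hz
      have h5 : e z ⤳ e (e.symm ⟨x, hx⟩) := hz.map e.continuous
      rw [e.apply_symm_apply] at h5
      have := H _ h5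
      rw [← this, e.symm_apply_apply]
    · intro H x' hx'
      have h5 : e.symm x' ⤳ e.symm ⟨x, hx⟩ := hx'.map e.symm.continuous
      have := H _ h5
      exact e.symm.injective this
  rw [h2, h3, h4]
  exact (isOpen_singleton_iff_isClosed_and snd₀ hq₀ hX₀ _).symm

/-- A point of the fibre with a neighbourhood in the fibre without nontrivial specializations
is isolated in the fibre. -/
theorem isOpen_singleton_fibre_of_nhd (hXd : IsDecent X) (x : Points X)
    (hx : x ∈ Points.map f ⁻¹' {y}) (N : Set ↥(Points.map f ⁻¹' {y})) (hN : IsOpen N)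
    (hxN : (⟨x, hx⟩ : ↥(Points.map f ⁻¹' {y})) ∈ N)
    (hsp : ∀ a ∈ N, ∀ b ∈ N, b ⤳ a → b = a) :
    IsOpen ({⟨x, hx⟩} : Set ↥(Points.map f ⁻¹' {y})) := by
  subst hr₀
  let e := fibreHomeo hX hY f r₀ hm hqc fst₀ snd₀ hsq₀
  have hq₀ := locP_snd f r₀ fst₀ snd₀ hsq₀ hX hY hX₀ hf
  have hd₀ : IsDecent X₀ := isDecent_fibre hX hY f r₀ hm hqc fst₀ snd₀ hsq₀ hXd
  have h2 : IsOpen ({⟨x, hx⟩} : Set ↥(Points.map f ⁻¹' {Points.mk r₀})) ↔
      IsOpen ({e.symm ⟨x, hx⟩} : Set (Points X₀)) := by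
    rw [← e.isOpen_image, Set.image_singleton, e.apply_symm_apply]
  rw [h2]
  refine isOpen_singleton_of_nhd snd₀ hq₀ hX₀ hd₀ _ (e ⁻¹' N) (hN.preimage e.continuous) ?_ ?_
  · show e (e.symm ⟨x, hx⟩) ∈ N
    rw [e.apply_symm_apply]
    exact hxN
  · intro a ha b hb hba
    exact e.injective (hsp _ ha _ hb (hba.map e.continuous))

theorem localDim_fibre_eq_zero_iff (hXd : IsDecent X) (x : Points X)
    (hx : x ∈ Points.map f ⁻¹' {y}) :
    FlatMor.localDim ↥(Points.map f ⁻¹' {y}) (⟨x, hx⟩ : ↥(Points.map f ⁻¹' {y})) = 0 ↔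
      IsOpen ({⟨x, hx⟩} : Set ↥(Points.map f ⁻¹' {y})) := by
  constructor
  · intro h0
    obtain ⟨N, hxN, hN⟩ := FibreDimZero.exists_open_dim_le_zero_of_localDim_eq_zero _ h0
    have : T0Space (Points X) := FibreSpec.t0Space_of_isDecent hX hXd
    refine isOpen_singleton_fibre_of_nhd hX hY f hf y r₀ hr₀ hm hqc hX₀ fst₀ snd₀ hsq₀ hXd x hx
      N N.isOpen hxN fun a ha b hb h => ?_
    have h1 : (⟨b, hb⟩ : ↥(N : Set ↥(Points.map f ⁻¹' {y}))) ⤳ ⟨a, ha⟩ :=
      (subtype_specializes_iff _ _).2 h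
    exact congrArg Subtype.val (eq_of_specializes_of_dim_le_zero hN h1)
  · exact FibreDimZero.localDim_eq_zero_of_isOpen_singleton _

theorem discreteTopology_fibre_iff :
    DiscreteTopology ↥(Points.map f ⁻¹' {y}) ↔
      ∀ x : Points X, Points.map f x = y → HasAtMor QfQ f x := by
  rw [discreteTopology_iff_isOpen_singleton]
  constructor
  · intro h x hx
    exact (isOpen_singleton_fibre_iff_qf hX hY f hf y r₀ hr₀ hm hqc hX₀ fst₀ snd₀ hsq₀ x hx).mp
      (h ⟨x, hx⟩)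
  · rintro h ⟨x, hx⟩
    exact (isOpen_singleton_fibre_iff_qf hX hY f hf y r₀ hr₀ hm hqc hX₀ fst₀ snd₀ hsq₀ x hx).mpr
      (h x hx)

theorem discreteTopology_fibre_of_dim (hXd : IsDecent X)
    (h0 : topologicalKrullDim ↥(Points.map f ⁻¹' {y}) = 0) :
    DiscreteTopology ↥(Points.map f ⁻¹' {y}) := by
  have : T0Space (Points X) := FibreSpec.t0Space_of_isDecent hX hXd
  rw [discreteTopology_iff_isOpen_singleton]
  rintro ⟨x, hx⟩
  exact isOpen_singleton_fibre_of_nhd hX hY f hf y r₀ hr₀ hm hqc hX₀ fst₀ snd₀ hsq₀ hXd x hx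
    Set.univ isOpen_univ trivial fun a _ b _ h => eq_of_specializes_of_dim_le_zero h0.le h

theorem discreteTopology_fibre_of_finite (hXd : IsDecent X)
    (hfin : (Points.map f ⁻¹' {y}).Finite) :
    DiscreteTopology ↥(Points.map f ⁻¹' {y}) := by
  subst hr₀
  let e := fibreHomeo hX hY f r₀ hm hqc fst₀ snd₀ hsq₀
  have hq₀ := locP_snd f r₀ fst₀ snd₀ hsq₀ hX hY hX₀ hf
  have hd₀ : IsDecent X₀ := isDecent_fibre hX hY f r₀ hm hqc fst₀ snd₀ hsq₀ hXd
  rw [discreteTopology_iff_isOpen_singleton]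
  intro pt
  haveI : Finite ↥(Points.map f ⁻¹' {Points.mk r₀}) := hfin
  haveI : Finite (Points X₀) := Finite.of_equiv _ e.symm.toEquiv
  haveI : Nonempty (Points X₀) := ⟨e.symm pt⟩
  have hdim := dim_eq_zero_of_finite snd₀ hq₀ hX₀ hd₀
  have hdisc : DiscreteTopology (Points X₀) :=
    (discreteTopology_iff_dim_eq_zero snd₀ hq₀ hX₀).mpr hdim
  have h2 : IsOpen ({pt} : Set ↥(Points.map f ⁻¹' {Points.mk r₀})) ↔
      IsOpen ({e.symm pt} : Set (Points X₀)) := by
    rw [← e.isOpen_image, Set.image_singleton, e.apply_symm_apply]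
  rw [h2]
  exact isOpen_discrete _

end Transfer

section Main

variable (hX : IsAlgSpace X) (hY : IsAlgSpace Y) (f : X ⟶ Y) (hf : LocP @LocallyOfFiniteType f)
  (r : FieldPt Y) {Xk : Sp S} (hXk : IsAlgSpace Xk) (fst : Xk ⟶ X)
  (snd : Xk ⟶ (yon S).obj r.pt) (hsq : IsPullback fst snd f r.toHom)

include hX hY hf hXk hsq

/-- S10445. -/
theorem main45 (x : Points X) (hx : x ∈ (Points.map f ⁻¹' {Points.mk r})) (xt : Points Xk)
    (hxt : Points.map fst xt = x) :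
    ((IsOpen ({xt} : Set (Points Xk)) ↔
      IsClosed ({xt} : Set (Points Xk)) ∧ ∀ x' : Points Xk, x' ⤳ xt → x' = xt) ∧
    (IsOpen ({xt} : Set (Points Xk)) ↔ HasAt (fun U u => FlatMor.localDim ↥U u = 0) Xk xt) ∧
    (HasAt (fun U u => FlatMor.localDim ↥U u = 0) Xk xt ↔ HasAtMor QfQ f x) ∧
    (IsDecent Xk →
      (FlatMor.localDim (Points Xk) xt = 0 ↔ IsOpen ({xt} : Set (Points Xk)))) ∧
    (IsDecent Y →
      (IsOpen ({(⟨x, hx⟩ : ↥(Points.map f ⁻¹' {Points.mk r}))} :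
        Set ↥(Points.map f ⁻¹' {Points.mk r})) ↔ IsOpen ({xt} : Set (Points Xk))) ∧
      ((IsClosed ({(⟨x, hx⟩ : ↥(Points.map f ⁻¹' {Points.mk r}))} :
          Set ↥(Points.map f ⁻¹' {Points.mk r})) ∧
        ∀ x' : ↥(Points.map f ⁻¹' {Points.mk r}),
          x' ⤳ (⟨x, hx⟩ : ↥(Points.map f ⁻¹' {Points.mk r})) →
            x' = (⟨x, hx⟩ : ↥(Points.map f ⁻¹' {Points.mk r}))) ↔
        IsClosed ({xt} : Set (Points Xk)) ∧ ∀ x' : Points Xk, x' ⤳ xt → x' = xt)) ∧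
    (IsDecent Y → IsDecent X →
      (FlatMor.localDim ↥(Points.map f ⁻¹' {Points.mk r})
          (⟨x, hx⟩ : ↥(Points.map f ⁻¹' {Points.mk r})) = 0 ↔
        IsOpen ({(⟨x, hx⟩ : ↥(Points.map f ⁻¹' {Points.mk r}))} :
          Set ↥(Points.map f ⁻¹' {Points.mk r}))))) := by
  have hq := locP_snd f r fst snd hsq hX hY hXk hf
  have P1 := isOpen_singleton_iff_isClosed_and snd hq hXk xt
  have P2 := isOpen_singleton_iff_hasAt_localDim snd hq hXk xt
  have P23 : IsOpen ({xt} : Set (Points Xk)) ↔ HasAtMor QfQ f x := by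
    rw [← hxt]
    exact isOpen_singleton_iff_qf f r fst snd hsq hX hY hXk hf xt
  refine ⟨P1, P2, P2.symm.trans P23, fun hd => localDim_points_eq_zero_iff snd hq hXk hd xt,
    fun hYd => ?_, fun hYd hXd => ?_⟩
  · obtain ⟨r₀, hr₀, hm, hqc⟩ := hYd (Points.mk r)
    have sq₀ := IsPullback.of_hasPullback f r₀.toHom
    have hX₀ : IsAlgSpace (pullback f r₀.toHom) :=
      isAlgSpace_of_isPullback hY.diag hX (IsAlgSpace.yon_obj _) f r₀.toHom _ _ sq₀
    have Q1 := isOpen_singleton_fibre_iff_qf hX hY f hf _ r₀ hr₀ hm hqc hX₀ _ _ sq₀ x hx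
    have Q2 := closed_nogen_fibre_iff_isOpen hX hY f hf _ r₀ hr₀ hm hqc hX₀ _ _ sq₀ x hx
    exact ⟨Q1.trans P23.symm, Q2.trans ((Q1.trans P23.symm).trans P1)⟩
  · obtain ⟨r₀, hr₀, hm, hqc⟩ := hYd (Points.mk r)
    have sq₀ := IsPullback.of_hasPullback f r₀.toHom
    have hX₀ : IsAlgSpace (pullback f r₀.toHom) :=
      isAlgSpace_of_isPullback hY.diag hX (IsAlgSpace.yon_obj _) f r₀.toHom _ _ sq₀
    exact localDim_fibre_eq_zero_iff hX hY f hf _ r₀ hr₀ hm hqc hX₀ _ _ sq₀ hXd x hx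

/-- S10444. -/
theorem main44 (hy : Points.mk r ∈ Set.range (Points.map f)) :
    (DiscreteTopology (Points Xk) ↔ AlgSp.dim Xk = 0) ∧
    (AlgSp.dim Xk = 0 ↔
      ∀ x : Points X, Points.map f x = Points.mk r → HasAtMor QfQ f x) ∧
    (DiscreteTopology (Points Xk) → topologicalKrullDim (Points Xk) = 0) ∧
    (IsDecent Xk → topologicalKrullDim (Points Xk) = 0 →
      DiscreteTopology (Points Xk)) ∧
    (IsDecent Xk → Finite (Points Xk) → DiscreteTopology (Points Xk)) ∧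
    (Finite (Points Xk) → (Points.map f ⁻¹' {Points.mk r}).Finite) ∧
    (DiscreteTopology ↥(Points.map f ⁻¹' {Points.mk r}) →
      topologicalKrullDim ↥(Points.map f ⁻¹' {Points.mk r}) = 0) ∧
    (IsDecent Y → (DiscreteTopology ↥(Points.map f ⁻¹' {Points.mk r}) ↔
      DiscreteTopology (Points Xk))) ∧
    (IsDecent Y → IsDecent X →
      (topologicalKrullDim ↥(Points.map f ⁻¹' {Points.mk r}) = 0 →
        DiscreteTopology ↥(Points.map f ⁻¹' {Points.mk r})) ∧
        ((Points.map f ⁻¹' {Points.mk r}).Finite →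
          DiscreteTopology ↥(Points.map f ⁻¹' {Points.mk r}))) := by
  have hq := locP_snd f r fst snd hsq hX hY hXk hf
  obtain ⟨x₁, hx₁⟩ := hy
  obtain ⟨xt₁, hxt₁⟩ := exists_lift f r fst snd hsq x₁ hx₁
  haveI : Nonempty (Points Xk) := ⟨xt₁⟩
  have D1 := discreteTopology_iff_dim_eq_zero snd hq hXk
  have D2 := discreteTopology_iff_forall_qf f r fst snd hsq hX hY hXk hf
  refine ⟨D1, D1.symm.trans D2, fun h => topologicalKrullDim_eq_zero_of_discrete,
    fun hd h0 => discreteTopology_of_dim_points_eq_zero snd hq hXk hd h0,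
    fun hd hfin => D1.mpr (dim_eq_zero_of_finite snd hq hXk hd), fun hfin => ?_, fun h => ?_,
    fun hYd => ?_, fun hYd hXd => ?_⟩
  · rw [← range_fst f r fst snd hsq]
    exact Set.finite_range _
  · haveI : Nonempty ↥(Points.map f ⁻¹' {Points.mk r}) := ⟨⟨x₁, hx₁⟩⟩
    exact topologicalKrullDim_eq_zero_of_discrete
  · obtain ⟨r₀, hr₀, hm, hqc⟩ := hYd (Points.mk r)
    have sq₀ := IsPullback.of_hasPullback f r₀.toHom
    have hX₀ : IsAlgSpace (pullback f r₀.toHom) :=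
      isAlgSpace_of_isPullback hY.diag hX (IsAlgSpace.yon_obj _) f r₀.toHom _ _ sq₀
    exact (discreteTopology_fibre_iff hX hY f hf _ r₀ hr₀ hm hqc hX₀ _ _ sq₀).trans D2.symm
  · obtain ⟨r₀, hr₀, hm, hqc⟩ := hYd (Points.mk r)
    have sq₀ := IsPullback.of_hasPullback f r₀.toHom
    have hX₀ : IsAlgSpace (pullback f r₀.toHom) :=
      isAlgSpace_of_isPullback hY.diag hX (IsAlgSpace.yon_obj _) f r₀.toHom _ _ sq₀
    exact ⟨discreteTopology_fibre_of_dim hX hY f hf _ r₀ hr₀ hm hqc hX₀ _ _ sq₀ hXd,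
      discreteTopology_fibre_of_finite hX hY f hf _ r₀ hr₀ hm hqc hX₀ _ _ sq₀ hXd⟩

end Main

end Groth.Agent.Helper2.LftFibre
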