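import Mathlib
import Groth.Prelude.Def_AlgSp4
import Groth.Agent.Lib.Helper2.AlgSp.Basic
import Groth.Agent.Lib.Helper2.AlgSp.Mor2
import Groth.Agent.Lib.Helper2.AlgSp.ZarGlue

/-!
# A limit of closed immersions is a closed immersion (helper2)
-/

set_option autoImplicit false
set_option linter.style.haveILetI false
universe u

namespace Groth.Agent.Helper2.LimClosedImm
open CategoryTheory CategoryTheory.Limits AlgebraicGeometry Opposite AlgSp
open Groth.Agent.Helper2.AlgSpBasic Groth.Agent.Helper2.ZarGlue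

variable {S : Scheme.{u}}

/-- `S10055`, generic form (no hypothesis on the transition maps is needed). -/
theorem repWith_isClosedImmersion_limMap {I : Type u} [SmallCategory I]
    (DX DY : I ⥤ Sp S) (τ : DX ⟶ DY) (hτ : ∀ i, RepWith @IsClosedImmersion (τ.app i))
    (cX : Cone DX) (hcX : IsLimit cX) (cY : Cone DY) (hcY : IsLimit cY)
    (g : cX.pt ⟶ cY.pt) (hg : ∀ i, g ≫ cY.π.app i = cX.π.app i ≫ τ.app i) :
    RepWith @IsClosedImmersion g := by
  have hτm : ∀ i, Mono (τ.app i) := fun i =>
    mono_of_repWith_isImmersion _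
      (repWith_mono (fun _ _ k (hk : IsClosedImmersion k) => (inferInstance : IsImmersion k))
        (hτ i))
  apply MorphismProperty.relative.of_exists
  intro T y
  -- the closed subschemes `Z_i` of `T`
  choose Z z x sq using fun i => (hτ i).rep (y ≫ cY.π.app i)
  have hz : ∀ i, IsClosedImmersion (z i).left := fun i =>
    (hτ i).property (y ≫ cY.π.app i) (x i) (z i) (sq i)
  have hzm : ∀ i, Mono ((yon S).map (z i)) := fun i => by
    haveI := hτm i
    exact (sq i).mono_snd_of_mono
  -- the intersection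
  obtain ⟨J, hJ⟩ : ∃ J : T.left.IdealSheafData, J = ⨆ i, (z i).left.ker := ⟨_, rfl⟩
  obtain ⟨Z', hZ'⟩ : ∃ Z' : Over S, Z' = Over.mk (J.subschemeι ≫ T.hom) := ⟨_, rfl⟩
  obtain ⟨zz, hzz⟩ : ∃ zz : Over.mk (J.subschemeι ≫ T.hom) ⟶ T, zz.left = J.subschemeι :=
    ⟨Over.homMk J.subschemeι rfl, rfl⟩
  haveI hzzc : IsClosedImmersion zz.left := by rw [hzz]; infer_instance
  haveI : Mono zz.left := inferInstance
  haveI : Mono zz := (Over.forget S).mono_of_mono_map (by exact ‹Mono zz.left›)
  haveI hzzm : Mono ((yon S).map zz) := inferInstance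
  -- a morphism to `T` factoring through every `Z_i` factors through the intersection
  have hfac : ∀ (Q : Over S) (β : Q ⟶ T), (∀ i, ∃ m : Q ⟶ Z i, m ≫ z i = β) →
      ∃ l : Q ⟶ Over.mk (J.subschemeι ≫ T.hom), l ≫ zz = β := by
    intro Q β h
    have hle : J.subschemeι.ker ≤ β.left.ker := by
      rw [Scheme.IdealSheafData.ker_subschemeι, hJ]
      refine iSup_le fun i => ?_
      obtain ⟨m, hm⟩ := h i
      rw [← hm, Over.comp_left]
      exact Scheme.Hom.le_ker_comp _ _
    refine ⟨Over.homMk (IsClosedImmersion.lift J.subschemeι β.left hle) ?_, ?_⟩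
    · show IsClosedImmersion.lift J.subschemeι β.left hle ≫ J.subschemeι ≫ T.hom = Q.hom
      rw [IsClosedImmersion.lift_fac_assoc]
      exact Over.w β
    · ext
      show IsClosedImmersion.lift J.subschemeι β.left hle ≫ zz.left = β.left
      rw [hzz, IsClosedImmersion.lift_fac]
  -- the maps `Z' ⟶ Z_i`
  have hl : ∀ i, ∃ l : Over.mk (J.subschemeι ≫ T.hom) ⟶ Z i, l ≫ z i = zz := by
    intro i
    haveI := hz i
    have hle : (z i).left.ker ≤ zz.left.ker := by
      rw [hzz, Scheme.IdealSheafData.ker_subschemeι, hJ]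
      exact le_iSup (fun i => (z i).left.ker) i
    refine ⟨Over.homMk (IsClosedImmersion.lift (z i).left zz.left hle) ?_, ?_⟩
    · show IsClosedImmersion.lift (z i).left zz.left hle ≫ (Z i).hom = J.subschemeι ≫ T.hom
      rw [← Over.w (z i), IsClosedImmersion.lift_fac_assoc, hzz]
    · ext
      show IsClosedImmersion.lift (z i).left zz.left hle ≫ (z i).left = zz.left
      rw [IsClosedImmersion.lift_fac]
  choose l hl using hl
  -- the cone
  have hξτ : ∀ i, ((yon S).map (l i) ≫ x i) ≫ τ.app i = (yon S).map zz ≫ y ≫ cY.π.app i := by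
    intro i
    rw [Category.assoc, (sq i).w, ← Category.assoc, ← Functor.map_comp, hl]
  have hnat : ∀ (i j : I) (φ : i ⟶ j),
      ((yon S).map (l i) ≫ x i) ≫ DX.map φ = (yon S).map (l j) ≫ x j := by
    intro i j φ
    haveI := hτm j
    rw [← cancel_mono (τ.app j), hξτ j, Category.assoc, τ.naturality, ← Category.assoc, hξτ i,
      Category.assoc, Category.assoc, cY.w]
  obtain ⟨ξ, hξ⟩ : ∃ ξ : (yon S).obj (Over.mk (J.subschemeι ≫ T.hom)) ⟶ cX.pt,
      ∀ i, ξ ≫ cX.π.app i = (yon S).map (l i) ≫ x i := by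
    let s : Cone DX :=
      { pt := (yon S).obj (Over.mk (J.subschemeι ≫ T.hom))
        π := { app := fun i => (yon S).map (l i) ≫ x i
               naturality := fun i j φ =>
                 (Category.id_comp _).trans (hnat i j φ).symm } }
    exact ⟨hcX.lift s, fun i => hcX.fac s i⟩
  have hw : ξ ≫ g = (yon S).map zz ≫ y := by
    apply hcY.hom_ext
    intro i
    rw [Category.assoc, hg, ← Category.assoc, hξ, hξτ, Category.assoc]
  refine ⟨Over.mk (J.subschemeι ≫ T.hom), ξ, zz, ?_, hzzc⟩
  apply isPullback_of_yon hw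
  · intro Q α β hαβ
    obtain ⟨β', rfl⟩ := (yon S).map_surjective β
    have hm : ∀ i, ∃ m : Q ⟶ Z i, m ≫ z i = β' ∧ (yon S).map m ≫ x i = α ≫ cX.π.app i := by
      intro i
      have e : (α ≫ cX.π.app i) ≫ τ.app i = (yon S).map β' ≫ y ≫ cY.π.app i := by
        rw [Category.assoc, ← hg, ← Category.assoc, hαβ, Category.assoc]
      obtain ⟨m, hm⟩ := (yon S).map_surjective ((sq i).lift _ _ e)
      refine ⟨m, (yon S).map_injective ?_, ?_⟩
      · rw [Functor.map_comp, hm, (sq i).lift_snd]
      · rw [hm, (sq i).lift_fst]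
    choose m hm1 hm2 using hm
    obtain ⟨k, hk⟩ := hfac Q β' (fun i => ⟨m i, hm1 i⟩)
    refine ⟨(yon S).map k, ?_, ?_⟩
    · apply hcX.hom_ext
      intro i
      rw [Category.assoc, hξ, ← hm2, ← Category.assoc, ← Functor.map_comp]
      congr 1
      haveI := hzm i
      rw [← cancel_mono ((yon S).map (z i)), ← Functor.map_comp, ← Functor.map_comp,
        Category.assoc, hl, hk, hm1]
    · rw [← Functor.map_comp, hk]
  · intro Q k k' _ h2
    exact (cancel_mono ((yon S).map zz)).1 h2

end Groth.Agent.Helper2.LimClosedImm
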