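import Mathlib
import Groth.Prelude.Def_AlgSp4
import Groth.Agent.Lib.Helper2.AlgSp.Basic
import Groth.Agent.Lib.Helper2.AlgSp.FinLocFree
import Groth.Agent.Lib.Helper2.AlgSp.FpqcAffine
import Groth.Agent.Lib.Helper2.AlgSp.Boot
import Groth.Agent.S2151

/-!
# Cofiltered limits of algebraic spaces with affine transition maps: chart systems (helper2)

For a cofiltered diagram `D : I ⥤ Sp S` with affine transition maps, an index `i₀`, a scheme `T`
over `S` and `g : h_T ⟶ D i₀`, we build the diagram of schemes `j ↦ T ×_{D i₀} D j` indexed by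
`Over i₀`, its limit (a scheme affine over `T`) and show that it represents `T ×_{D i₀} lim D`.
-/

set_option autoImplicit false
set_option linter.style.haveILetI false
universe u

namespace Groth.Agent.Helper2.LimSys
open CategoryTheory CategoryTheory.Limits AlgebraicGeometry Opposite AlgSp
open Groth.Agent.Helper2.AlgSpBasic

variable {S : Scheme.{u}}

/-- Affine morphisms are representable with affine base changes. -/
theorem repWith_isAffineHom_of_isAffineMor {X Y : Sp S} {f : X ⟶ Y} (hf : IsAffineMor f) :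
    RepWith @IsAffineHom f :=
  Groth.Agent.Helper2.FinLocFree.repWith_of_isAffQMor @IsAffineHom
    ((Groth.Agent.Helper2.FpqcAffine.isAffineMor_iff_isAffQMor_isAffineHom f).1 hf)

/-! ### The key pullback lemma -/

/-- Key lemma: a limit of schemes `E j = T ×_{X₀} D' j` represents `T ×_{X₀} lim D'`. -/
theorem isPullback_limit {J : Type*} [Category J] (D' : J ⥤ Sp S) (c' : Cone D')
    (hc' : IsLimit c') (E : J ⥤ Over S) (ε : E ⋙ yon S ⟶ D') (t : Cone E)
    (ht : IsLimit ((yon S).mapCone t))
    {X₀ : Sp S} (d : ∀ j, D'.obj j ⟶ X₀) (p : c'.pt ⟶ X₀) (hp : ∀ j, c'.π.app j ≫ d j = p)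
    {T : Over S} (s : ∀ j, E.obj j ⟶ T) (hs : ∀ {j j' : J} (u : j' ⟶ j), E.map u ≫ s j = s j')
    (q : t.pt ⟶ T) (hq : ∀ j, t.π.app j ≫ s j = q)
    (g : (yon S).obj T ⟶ X₀)
    (sq : ∀ j, IsPullback (ε.app j) ((yon S).map (s j)) (d j) g) [Nonempty J]
    (top : (yon S).obj t.pt ⟶ c'.pt)
    (htop : ∀ j, top ≫ c'.π.app j = (yon S).map (t.π.app j) ≫ ε.app j) :
    IsPullback top ((yon S).map q) p g := by
  obtain ⟨j₀⟩ := ‹Nonempty J›
  apply isPullback_of_existsUnique
  · rw [← hp j₀, ← Category.assoc, htop, Category.assoc, (sq j₀).w, ← Category.assoc,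
      ← Functor.map_comp, hq]
  · intro A α β hαβ
    have hl : ∀ j, (α ≫ c'.π.app j) ≫ d j = β ≫ g := by
      intro j
      rw [Category.assoc, hp]
      exact hαβ
    let l : ∀ j, A ⟶ (yon S).obj (E.obj j) := fun j => (sq j).lift (α ≫ c'.π.app j) β (hl j)
    have hl1 : ∀ j, l j ≫ ε.app j = α ≫ c'.π.app j := fun j => (sq j).lift_fst _ _ _
    have hl2 : ∀ j, l j ≫ (yon S).map (s j) = β := fun j => (sq j).lift_snd _ _ _
    have hnat : ∀ {j j' : J} (u : j' ⟶ j), l j' ≫ (yon S).map (E.map u) = l j := by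
      intro j j' u
      apply (sq j).hom_ext
      · rw [Category.assoc, hl1]
        have := ε.naturality u
        simp only [Functor.comp_map] at this
        rw [this, ← Category.assoc, hl1, Category.assoc, c'.w]
      · rw [Category.assoc, ← Functor.map_comp, hs, hl2, hl2]
    let cA : Cone (E ⋙ yon S) :=
      { pt := A
        π := { app := l
               naturality := by
                intro j' j u
                simp only [Functor.const_obj_obj, Functor.const_obj_map, Category.id_comp,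
                  Functor.comp_map]
                exact (hnat u).symm } }
    have hfac : ∀ j, ht.lift cA ≫ (yon S).map (t.π.app j) = l j := fun j => ht.fac cA j
    refine ⟨ht.lift cA, ?_, ?_⟩
    · apply hc'.hom_ext
      intro j
      rw [Category.assoc, htop, ← Category.assoc, hfac, hl1]
    · rw [← hq j₀, Functor.map_comp, ← Category.assoc, hfac, hl2]
  · intro A l l' h1 h2
    apply ht.hom_ext
    intro j
    show l ≫ (yon S).map (t.π.app j) = l' ≫ (yon S).map (t.π.app j)
    apply (sq j).hom_ext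
    · rw [Category.assoc, Category.assoc, ← htop, ← Category.assoc, ← Category.assoc, h1]
    · rw [Category.assoc, Category.assoc, ← Functor.map_comp, hq]
      exact h2

/-! ### The chart system -/

section ChartSys

variable {I : Type u} [SmallCategory I] (D : I ⥤ Sp S)
  (hDa : ∀ (i j : I) (φ : i ⟶ j), IsAffineMor (D.map φ))
  (i₀ : I) {T : Over S} (g : (yon S).obj T ⟶ D.obj i₀)

include hDa in
theorem rep_map {i j : I} (φ : i ⟶ j) : Representable (D.map φ) :=
  (repWith_isAffineHom_of_isAffineMor (hDa i j φ)).rep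

/-- The object `T ×_{D i₀} D j` of the chart system. -/
noncomputable def csObj (j : Over i₀) : Over S := (rep_map D hDa j.hom).pullback g

/-- The projection `h_{T ×_{D i₀} D j} ⟶ D j`. -/
noncomputable def csFst (j : Over i₀) : (yon S).obj (csObj D hDa i₀ g j) ⟶ D.obj j.left :=
  (rep_map D hDa j.hom).fst g

/-- The projection `T ×_{D i₀} D j ⟶ T`. -/
noncomputable def csSnd (j : Over i₀) : csObj D hDa i₀ g j ⟶ T :=
  (rep_map D hDa j.hom).snd g

theorem csSq (j : Over i₀) :
    IsPullback (csFst D hDa i₀ g j) ((yon S).map (csSnd D hDa i₀ g j)) (D.map j.hom) g :=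
  (rep_map D hDa j.hom).isPullback g

theorem csMap_aux {j' j : Over i₀} (u : j' ⟶ j) :
    (csFst D hDa i₀ g j' ≫ D.map u.left) ≫ D.map j.hom =
      (yon S).map (csSnd D hDa i₀ g j') ≫ g := by
  rw [Category.assoc, ← D.map_comp, Over.w u]
  exact (csSq D hDa i₀ g j').w

/-- The transition maps of the chart system. -/
noncomputable def csMap {j' j : Over i₀} (u : j' ⟶ j) :
    csObj D hDa i₀ g j' ⟶ csObj D hDa i₀ g j :=
  (yon S).preimage ((csSq D hDa i₀ g j).lift (csFst D hDa i₀ g j' ≫ D.map u.left)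
    ((yon S).map (csSnd D hDa i₀ g j')) (csMap_aux D hDa i₀ g u))

theorem csMap_fst {j' j : Over i₀} (u : j' ⟶ j) :
    (yon S).map (csMap D hDa i₀ g u) ≫ csFst D hDa i₀ g j =
      csFst D hDa i₀ g j' ≫ D.map u.left := by
  unfold csMap
  rw [Functor.map_preimage]
  exact (csSq D hDa i₀ g j).lift_fst _ _ _

theorem csMap_snd {j' j : Over i₀} (u : j' ⟶ j) :
    csMap D hDa i₀ g u ≫ csSnd D hDa i₀ g j = csSnd D hDa i₀ g j' := by
  apply (yon S).map_injective
  rw [Functor.map_comp]
  unfold csMap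
  rw [Functor.map_preimage]
  exact (csSq D hDa i₀ g j).lift_snd _ _ _

theorem cs_hom_ext (j : Over i₀) {A : Over S} (a b : A ⟶ csObj D hDa i₀ g j)
    (h1 : (yon S).map a ≫ csFst D hDa i₀ g j = (yon S).map b ≫ csFst D hDa i₀ g j)
    (h2 : a ≫ csSnd D hDa i₀ g j = b ≫ csSnd D hDa i₀ g j) : a = b := by
  apply (yon S).map_injective
  apply (csSq D hDa i₀ g j).hom_ext h1
  rw [← Functor.map_comp, ← Functor.map_comp, h2]

/-- The chart system `j ↦ T ×_{D i₀} D j`, a diagram of schemes indexed by `Over i₀`. -/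
@[reducible] noncomputable def chartSys : Over i₀ ⥤ Over S where
  obj := csObj D hDa i₀ g
  map u := csMap D hDa i₀ g u
  map_id j := by
    apply cs_hom_ext D hDa i₀ g j
    · rw [csMap_fst, (yon S).map_id, Category.id_comp]
      show csFst D hDa i₀ g j ≫ D.map (𝟙 j.left) = _
      rw [D.map_id, Category.comp_id]
    · rw [csMap_snd, Category.id_comp]
  map_comp {j₁ j₂ j₃} u v := by
    apply cs_hom_ext D hDa i₀ g j₃
    · rw [csMap_fst, Functor.map_comp, Category.assoc, csMap_fst, ← Category.assoc, csMap_fst,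
        Category.assoc, ← D.map_comp]
      rfl
    · rw [csMap_snd, Category.assoc, csMap_snd, csMap_snd]

@[simp] theorem chartSys_obj (j : Over i₀) : (chartSys D hDa i₀ g).obj j = csObj D hDa i₀ g j := rfl
@[simp] theorem chartSys_map {j' j : Over i₀} (u : j' ⟶ j) :
    (chartSys D hDa i₀ g).map u = csMap D hDa i₀ g u := rfl

/-- The natural transformation from the chart system to the original system. -/
noncomputable def csε : chartSys D hDa i₀ g ⋙ yon S ⟶ Over.forget i₀ ⋙ D where
  app j := csFst D hDa i₀ g j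
  naturality _ _ u := csMap_fst D hDa i₀ g u

/-- The transition squares are cartesian. -/
theorem isPullback_csMap {j' j : Over i₀} (u : j' ⟶ j) :
    IsPullback ((yon S).map (csMap D hDa i₀ g u)) (csFst D hDa i₀ g j')
      (csFst D hDa i₀ g j) (D.map u.left) := by
  have h1 : IsPullback (csFst D hDa i₀ g j') ((yon S).map (csSnd D hDa i₀ g j'))
      (D.map u.left ≫ D.map j.hom) g := by
    rw [← D.map_comp, Over.w u]
    exact csSq D hDa i₀ g j'
  have h2 := csSq D hDa i₀ g j
  refine IsPullback.of_right ?_ (csMap_fst D hDa i₀ g u) h2.flip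
  rw [← Functor.map_comp, csMap_snd]
  exact h1.flip

theorem isAffineHom_csMap {j' j : Over i₀} (u : j' ⟶ j) :
    IsAffineHom (csMap D hDa i₀ g u).left :=
  (repWith_isAffineHom_of_isAffineMor (hDa _ _ u.left)).property _ _ _
    (isPullback_csMap D hDa i₀ g u).flip

theorem isAffineHom_csSnd (j : Over i₀) : IsAffineHom (csSnd D hDa i₀ g j).left :=
  (repWith_isAffineHom_of_isAffineMor (hDa _ _ j.hom)).property _ _ _ (csSq D hDa i₀ g j)

end ChartSys

/-! ### The limit of the chart system -/

section Limit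

variable {I : Type u} [SmallCategory I] [IsCofiltered I] (D : I ⥤ Sp S)
  (hDa : ∀ (i j : I) (φ : i ⟶ j), IsAffineMor (D.map φ))
  (i₀ : I) {T : Over S} (g : (yon S).obj T ⟶ D.obj i₀)
include hDa

/-- The terminal object of `Over i₀`. -/
abbrev topIdx : Over i₀ := Over.mk (𝟙 i₀)

/-- The morphism to the terminal object of `Over i₀`. -/
abbrev toTop (j : Over i₀) : j ⟶ topIdx i₀ := Over.homMk j.hom (by simp)

/-- The chart system has a limit in `Over S`, with affine projections. -/
theorem exists_limit_chartSys :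
    ∃ (t : Cone (chartSys D hDa i₀ g)) (_ : IsLimit t), ∀ j, IsAffineHom (t.π.app j).left := by
  haveI : ∀ (j j' : Over i₀) (f : j ⟶ j'),
      IsAffineHom ((chartSys D hDa i₀ g ⋙ Over.forget S).map f) :=
    fun j j' f => isAffineHom_csMap D hDa i₀ g f
  obtain ⟨c₀, hc₀, haff⟩ := Groth.Agent.S2151.result (chartSys D hDa i₀ g ⋙ Over.forget S)
  haveI : IsConnected (Over i₀) := IsCofiltered.isConnected _
  refine ⟨liftLimit hc₀, liftedLimitIsLimit hc₀, fun j => ?_⟩
  have e := liftedLimitMapsToOriginal hc₀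
  have h1 : (((liftLimit hc₀).π.app j).left) = e.hom.hom ≫ c₀.π.app j := (e.hom.w j).symm
  rw [h1]
  haveI : IsIso e.hom.hom := inferInstanceAs (IsIso ((Cone.forget _).map e.hom))
  have h2 : IsAffineHom e.hom.hom := inferInstance
  exact MorphismProperty.comp_mem @IsAffineHom _ _ h2 (haff j)

/-- The limit of the chart system represents `T ×_{D i₀} lim D`. -/
theorem exists_isPullback_limit (c : Cone D) (hc : IsLimit c) :
    ∃ (t : Cone (chartSys D hDa i₀ g)) (_ : IsLimit t) (top : (yon S).obj t.pt ⟶ c.pt)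
      (q : t.pt ⟶ T), (∀ j, IsAffineHom (t.π.app j).left) ∧ IsAffineHom q.left ∧
      (∀ j : Over i₀, t.π.app j ≫ csSnd D hDa i₀ g j = q) ∧
      (∀ j : Over i₀, top ≫ c.π.app j.left =
        (yon S).map (t.π.app j) ≫ csFst D hDa i₀ g j) ∧
      IsPullback top ((yon S).map q) (c.π.app i₀) g := by
  obtain ⟨t, ht, haff⟩ := exists_limit_chartSys D hDa i₀ g
  have hq : ∀ j : Over i₀, t.π.app j ≫ csSnd D hDa i₀ g j =
      t.π.app (topIdx i₀) ≫ csSnd D hDa i₀ g (topIdx i₀) := by
    intro j
    have h1 : t.π.app j ≫ csMap D hDa i₀ g (toTop i₀ j) = t.π.app (topIdx i₀) :=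
      t.w (toTop i₀ j)
    rw [← h1, Category.assoc, csMap_snd]
  have hc' : IsLimit (c.whisker (Over.forget i₀)) :=
    (Functor.Initial.isLimitWhiskerEquiv (Over.forget i₀) c).symm hc
  let cone : Cone (Over.forget i₀ ⋙ D) :=
    { pt := (yon S).obj t.pt
      π := ((yon S).mapCone t).π ≫ csε D hDa i₀ g }
  have htop : ∀ j : Over i₀, hc'.lift cone ≫ c.π.app j.left =
      (yon S).map (t.π.app j) ≫ csFst D hDa i₀ g j := fun j => hc'.fac cone j
  have ht' : IsLimit ((yon S).mapCone t) := isLimitOfPreserves (yon S) ht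
  haveI : Nonempty (Over i₀) := ⟨topIdx i₀⟩
  have hqa : IsAffineHom (t.π.app (topIdx i₀) ≫ csSnd D hDa i₀ g (topIdx i₀)).left := by
    rw [Over.comp_left]
    haveI := haff (topIdx i₀)
    haveI := isAffineHom_csSnd D hDa i₀ g (topIdx i₀)
    infer_instance
  refine ⟨t, ht, hc'.lift cone, t.π.app (topIdx i₀) ≫ csSnd D hDa i₀ g (topIdx i₀), haff, hqa,
    hq, htop, ?_⟩
  exact isPullback_limit (Over.forget i₀ ⋙ D) (c.whisker (Over.forget i₀)) hc'
    (chartSys D hDa i₀ g) (csε D hDa i₀ g) t ht' (fun j => D.map j.hom) (c.π.app i₀)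
    (fun j => c.w j.hom) (csSnd D hDa i₀ g) (fun u => csMap_snd D hDa i₀ g u) _ hq g
    (csSq D hDa i₀ g) (hc'.lift cone) htop

/-- The projections from the limit are affine. -/
theorem isAffineMor_π (c : Cone D) (hc : IsLimit c) (i₀ : I) : IsAffineMor (c.π.app i₀) := by
  intro Z hZ g
  obtain ⟨t, ht, top, q, haff, hq, -, -, sq⟩ := exists_isPullback_limit D hDa i₀ g c hc
  haveI := hZ
  haveI := hq
  exact ⟨t.pt, q, top, sq, isAffine_of_isAffineHom q.left⟩

/-- `S10004`: the limit is an algebraic space. -/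
theorem isAlgSpace_limit (hD : ∀ i, IsAlgSpace (D.obj i)) (c : Cone D) (hc : IsLimit c) :
    IsAlgSpace c.pt := by
  obtain ⟨i₀⟩ := IsCofiltered.nonempty (C := I)
  exact isAlgSpace_of_repBySh (c.π.app i₀)
    (RepBySh.of_representable
      (repWith_isAffineHom_of_isAffineMor (isAffineMor_π D hDa c hc i₀)).rep) (hD i₀)

end Limit

end Groth.Agent.Helper2.LimSys
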