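import Mathlib
import Groth.Prelude.Def_AlgSp4
import Groth.Agent.Lib.Helper2.AlgSp.LimSys
import Groth.Agent.Lib.Helper2.AlgSp.LocP
import Groth.Agent.Lib.Helper2.AlgSp.QC
import Groth.Agent.Lib.Helper2.AlgSp.Points
import Groth.Agent.Lib.Helper2.AlgSp.Diag

/-!
# Descending properties of morphisms through cofiltered limits of algebraic spaces (helper2)
-/

set_option autoImplicit false
set_option linter.style.haveILetI false
universe u

namespace Groth.Agent.Helper2.LimDescend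
open CategoryTheory CategoryTheory.Limits AlgebraicGeometry Opposite AlgSp
open Groth.Agent.Helper2.AlgSpBasic Groth.Agent.Helper2.LimSys Groth.Agent.Helper2.EtaleLocal

variable {S : Scheme.{u}}

/-! ### Charts over a base change -/

section Charts

variable {X₀ Y₀ B₀ : Sp S} {f₀ : X₀ ⟶ Y₀} {b₀ : Y₀ ⟶ B₀}
  {V₀ U₀ : Over S} {v₀ : (yon S).obj V₀ ⟶ Y₀} {a₀ : (yon S).obj U₀ ⟶ X₀} {h₀ : U₀ ⟶ V₀}
  {Z : Sp S} {z : Z ⟶ B₀} {EV EU : Over S}
  {fV : (yon S).obj EV ⟶ Z} {sV : EV ⟶ V₀} {fU : (yon S).obj EU ⟶ Z} {sU : EU ⟶ U₀}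

/-- The cartesian square of a morphism between the two chart schemes over a base change. -/
theorem isPullback_chartHom {gV : (yon S).obj V₀ ⟶ B₀}
    (sqV : IsPullback fV ((yon S).map sV) z gV)
    (sqU : IsPullback fU ((yon S).map sU) z ((yon S).map h₀ ≫ gV))
    (η : EU ⟶ EV) (h2 : η ≫ sV = sU ≫ h₀) (h1 : (yon S).map η ≫ fV = fU) :
    IsPullback ((yon S).map η) ((yon S).map sU) ((yon S).map sV) ((yon S).map h₀) := by
  have hbig : IsPullback ((yon S).map sU) ((yon S).map η ≫ fV)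
      ((yon S).map h₀ ≫ gV) z := by
    rw [h1]
    exact sqU.flip
  have h3 : (yon S).map sU ≫ (yon S).map h₀ = (yon S).map η ≫ (yon S).map sV := by
    rw [← Functor.map_comp, ← Functor.map_comp, h2]
  exact (IsPullback.of_bot hbig h3 sqV.flip).flip

/-- The morphism between the two chart schemes over a base change, and its cartesian square. -/
theorem exists_chartHom {gV : (yon S).obj V₀ ⟶ B₀}
    (sqV : IsPullback fV ((yon S).map sV) z gV)
    (sqU : IsPullback fU ((yon S).map sU) z ((yon S).map h₀ ≫ gV)) :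
    ∃ η : EU ⟶ EV, η ≫ sV = sU ≫ h₀ ∧ (yon S).map η ≫ fV = fU ∧
      IsPullback ((yon S).map η) ((yon S).map sU) ((yon S).map sV) ((yon S).map h₀) := by
  have hcomm : fU ≫ z = (yon S).map (sU ≫ h₀) ≫ gV := by
    rw [Functor.map_comp, Category.assoc]
    exact sqU.w
  obtain ⟨η, hη⟩ := (yon S).map_surjective (sqV.lift fU ((yon S).map (sU ≫ h₀)) hcomm)
  have h1 : (yon S).map η ≫ fV = fU := by rw [hη]; exact sqV.lift_fst _ _ _
  have h2 : η ≫ sV = sU ≫ h₀ := by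
    apply (yon S).map_injective
    rw [Functor.map_comp, hη]
    exact sqV.lift_snd _ _ _
  exact ⟨η, h2, h1, isPullback_chartHom sqV sqU η h2 h1⟩

/-- Charts of a base change of `f₀`. -/
theorem exists_charts (comm : a₀ ≫ f₀ = (yon S).map h₀ ≫ v₀)
    (sqV : IsPullback fV ((yon S).map sV) z (v₀ ≫ b₀))
    {Xz Yz : Sp S} {fz : Xz ⟶ Yz} {pYz : Yz ⟶ Y₀} {qYz : Yz ⟶ Z} (sqY : IsPullback pYz qYz b₀ z)
    {pXz : Xz ⟶ X₀} (sqX : IsPullback pXz fz f₀ pYz)
    (η : EU ⟶ EV) (hη1 : η ≫ sV = sU ≫ h₀)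
    (hη : IsPullback ((yon S).map η) ((yon S).map sU) ((yon S).map sV) ((yon S).map h₀)) :
    ∃ (a : (yon S).obj EU ⟶ Xz) (b : (yon S).obj EV ⟶ Yz),
      IsPullback b ((yon S).map sV) pYz v₀ ∧ IsPullback a ((yon S).map sU) pXz a₀ ∧
      a ≫ fz = (yon S).map η ≫ b ∧ b ≫ qYz = fV := by
  have hb0 : ((yon S).map sV ≫ v₀) ≫ b₀ = fV ≫ z := by
    rw [Category.assoc]
    exact sqV.w.symm
  obtain ⟨b, hb1, hb2⟩ : ∃ b : (yon S).obj EV ⟶ Yz, b ≫ pYz = (yon S).map sV ≫ v₀ ∧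
      b ≫ qYz = fV := ⟨sqY.lift _ _ hb0, sqY.lift_fst _ _ _, sqY.lift_snd _ _ _⟩
  have sqb : IsPullback b ((yon S).map sV) pYz v₀ := by
    refine IsPullback.of_right ?_ hb1 sqY.flip
    rw [hb2]
    exact sqV
  have ha0 : ((yon S).map sU ≫ a₀) ≫ f₀ = ((yon S).map η ≫ b) ≫ pYz := by
    rw [Category.assoc, comm, Category.assoc, hb1, ← Category.assoc, ← Category.assoc,
      ← Functor.map_comp, ← Functor.map_comp, hη1]
  obtain ⟨a, ha1, ha2⟩ : ∃ a : (yon S).obj EU ⟶ Xz, a ≫ pXz = (yon S).map sU ≫ a₀ ∧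
      a ≫ fz = (yon S).map η ≫ b := ⟨sqX.lift _ _ ha0, sqX.lift_fst _ _ _, sqX.lift_snd _ _ _⟩
  have sqa : IsPullback a ((yon S).map sU) pXz a₀ := by
    refine IsPullback.of_right ?_ ha1 sqX.flip
    rw [ha2, comm]
    exact hη.paste_horiz sqb
  exact ⟨a, b, sqb, sqa, ha2, hb2⟩

end Charts

/-! ### Base charts -/

/-- Affine charts of a morphism between quasi-compact algebraic spaces with quasi-separated
target. -/
theorem exists_base_charts [QuasiSeparatedSpace ↥S] {X₀ Y₀ : Sp S} (hX₀ : IsAlgSpace X₀)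
    (hY₀ : IsAlgSpace Y₀) (f₀ : X₀ ⟶ Y₀) (hXqc : IsQuasiCompactSp X₀)
    (hYqc : IsQuasiCompactSp Y₀) (hYqs : IsQuasiSeparatedSp Y₀) :
    ∃ (V₀ U₀ : Over S) (v₀ : (yon S).obj V₀ ⟶ Y₀) (a₀ : (yon S).obj U₀ ⟶ X₀) (h₀ : U₀ ⟶ V₀),
      IsAffine V₀.left ∧ IsAffine U₀.left ∧ RepWith @Etale v₀ ∧ RepWith @Surjective v₀ ∧
      RepWith @Etale a₀ ∧ RepWith @Surjective a₀ ∧ a₀ ≫ f₀ = (yon S).map h₀ ≫ v₀ ∧
      ∀ (P : Sp S) (p₁ : P ⟶ X₀) (p₂ : P ⟶ (yon S).obj V₀), IsPullback p₁ p₂ f₀ v₀ →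
        ∀ l : (yon S).obj U₀ ⟶ P, l ≫ p₁ = a₀ → l ≫ p₂ = (yon S).map h₀ →
          RepWith @Etale l ∧ RepWith @Surjective l := by
  obtain ⟨V₀, v₀, hV₀, hv₀e, hv₀s⟩ := (isQuasiCompactSp_iff_exists_affine_chart hY₀).1 hYqc
  obtain ⟨W₀, w₀, hW₀, hw₀e, hw₀s⟩ := (isQuasiCompactSp_iff_exists_affine_chart hX₀).1 hXqc
  obtain ⟨P, fst, snd, sqP⟩ := exists_isPullback_yon hY₀.diag (w₀ ≫ f₀) v₀
  haveI := hV₀
  haveI := hW₀
  haveI : CompactSpace ↥P.left :=
    compactSpace_of_isPullback_of_isQuasiSeparatedSp hYqs W₀ V₀ P (w₀ ≫ f₀) v₀ fst snd sqP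
  obtain ⟨U₀, p, hU₀, hpe, hps⟩ :=
    (isQuasiCompactSp_iff_exists_affine_chart (IsAlgSpace.yon_obj P)).1
      ((isQuasiCompactSp_yon_iff P).mpr inferInstance)
  obtain ⟨p', hp'⟩ := (yon S).map_surjective p
  have hfe : RepWith @Etale ((yon S).map fst) := repWith_of_isPullback @Etale sqP.flip hv₀e
  have hfs : RepWith @Surjective ((yon S).map fst) :=
    repWith_of_isPullback @Surjective sqP.flip hv₀s
  refine ⟨V₀, U₀, v₀, p ≫ (yon S).map fst ≫ w₀, p' ≫ snd, hV₀, hU₀, hv₀e, hv₀s,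
    repWith_comp @Etale hpe (repWith_comp @Etale hfe hw₀e),
    repWith_comp @Surjective hps (repWith_comp @Surjective hfs hw₀s), ?_, ?_⟩
  · rw [Functor.map_comp, hp', Category.assoc, Category.assoc, Category.assoc, sqP.w]
  · intro Pz p₁ p₂ sq l hl1 hl2
    obtain ⟨m, hm1, hm2⟩ : ∃ m : (yon S).obj P ⟶ Pz, m ≫ p₁ = (yon S).map fst ≫ w₀ ∧
        m ≫ p₂ = (yon S).map snd :=
      ⟨sq.lift _ _ (by rw [Category.assoc]; exact sqP.w), sq.lift_fst _ _ _, sq.lift_snd _ _ _⟩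
    have sqm : IsPullback m ((yon S).map fst) p₁ w₀ := by
      refine IsPullback.of_right ?_ hm1 sq.flip
      rw [hm2]
      exact sqP.flip
    have hme : RepWith @Etale m := repWith_of_isPullback @Etale sqm.flip hw₀e
    have hms : RepWith @Surjective m := repWith_of_isPullback @Surjective sqm.flip hw₀s
    have hl : l = p ≫ m := by
      apply sq.hom_ext
      · rw [hl1, Category.assoc, hm1]
      · rw [hl2, Category.assoc, hm2, Functor.map_comp, hp']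
    rw [hl]
    exact ⟨repWith_comp @Etale hpe hme, repWith_comp @Surjective hps hms⟩

/-! ### Scheme-level descent interface -/

/-- `P` descends through cofiltered limits of affine schemes for morphisms satisfying `Q`. -/
def DescendsLim (P Q : MorphismProperty Scheme.{u}) : Prop :=
  ∀ {J : Type u} [SmallCategory J] [IsCofiltered J] (D : J ⥤ Scheme.{u}) (c : Cone D)
    (_ : IsLimit c) (_ : ∀ (i j : J) (f : i ⟶ j), IsAffineHom (D.map f)) (j₀ : J)
    (_ : IsAffine (D.obj j₀)) {X₀ : Scheme.{u}} (_ : IsAffine X₀) (f₀ : X₀ ⟶ D.obj j₀) (_ : Q f₀)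
    {X : Scheme.{u}} (f : X ⟶ c.pt) (qX : X ⟶ X₀) (_ : IsPullback qX f f₀ (c.π.app j₀)) (_ : P f),
    ∃ (j : J) (φ : j ⟶ j₀) (Xj : Scheme.{u}) (fj : Xj ⟶ D.obj j) (pX : Xj ⟶ X₀),
      IsPullback pX fj f₀ (D.map φ) ∧ P fj

/-! ### The two chart systems and the morphism between them -/

section Core

variable {I : Type u} [SmallCategory I] (D : I ⥤ Sp S)
  (hDa : ∀ (i j : I) (φ : i ⟶ j), IsAffineMor (D.map φ)) (i₀ : I)
  {V₀ U₀ : Over S} (gV : (yon S).obj V₀ ⟶ D.obj i₀) (h₀ : U₀ ⟶ V₀)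

/-- The morphism between the chart systems induced by `h₀ : U₀ ⟶ V₀`. -/
noncomputable def csη (j : Over i₀) :
    csObj D hDa i₀ ((yon S).map h₀ ≫ gV) j ⟶ csObj D hDa i₀ gV j :=
  (exists_chartHom (csSq D hDa i₀ gV j) (csSq D hDa i₀ ((yon S).map h₀ ≫ gV) j)).choose

theorem csη_snd (j : Over i₀) :
    csη D hDa i₀ gV h₀ j ≫ csSnd D hDa i₀ gV j =
      csSnd D hDa i₀ ((yon S).map h₀ ≫ gV) j ≫ h₀ :=
  (exists_chartHom (csSq D hDa i₀ gV j)
    (csSq D hDa i₀ ((yon S).map h₀ ≫ gV) j)).choose_spec.1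

theorem csη_fst (j : Over i₀) :
    (yon S).map (csη D hDa i₀ gV h₀ j) ≫ csFst D hDa i₀ gV j =
      csFst D hDa i₀ ((yon S).map h₀ ≫ gV) j :=
  (exists_chartHom (csSq D hDa i₀ gV j)
    (csSq D hDa i₀ ((yon S).map h₀ ≫ gV) j)).choose_spec.2.1

theorem isPullback_csη (j : Over i₀) :
    IsPullback ((yon S).map (csη D hDa i₀ gV h₀ j))
      ((yon S).map (csSnd D hDa i₀ ((yon S).map h₀ ≫ gV) j))
      ((yon S).map (csSnd D hDa i₀ gV j)) ((yon S).map h₀) :=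
  (exists_chartHom (csSq D hDa i₀ gV j)
    (csSq D hDa i₀ ((yon S).map h₀ ≫ gV) j)).choose_spec.2.2

theorem csη_naturality {j' j : Over i₀} (u : j' ⟶ j) :
    csMap D hDa i₀ ((yon S).map h₀ ≫ gV) u ≫ csη D hDa i₀ gV h₀ j =
      csη D hDa i₀ gV h₀ j' ≫ csMap D hDa i₀ gV u := by
  apply cs_hom_ext D hDa i₀ gV j
  · rw [Functor.map_comp, Category.assoc, csη_fst, csMap_fst, Functor.map_comp, Category.assoc,
      csMap_fst, ← Category.assoc, csη_fst]
  · rw [Category.assoc, csη_snd, ← Category.assoc, csMap_snd, Category.assoc, csMap_snd, csη_snd]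

/-- The naturality squares of `csη` are cartesian. -/
theorem isPullback_csη_map {j' j : Over i₀} (u : j' ⟶ j) :
    IsPullback (csMap D hDa i₀ ((yon S).map h₀ ≫ gV) u) (csη D hDa i₀ gV h₀ j')
      (csη D hDa i₀ gV h₀ j) (csMap D hDa i₀ gV u) := by
  apply IsPullback.of_map (yon S) (csη_naturality D hDa i₀ gV h₀ u)
  refine IsPullback.of_right ?_ ?_ (isPullback_csη D hDa i₀ gV h₀ j).flip
  · rw [← Functor.map_comp, ← Functor.map_comp, csMap_snd, csMap_snd]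
    exact (isPullback_csη D hDa i₀ gV h₀ j').flip
  · rw [← Functor.map_comp, ← Functor.map_comp, csη_naturality]

variable [IsCofiltered I]

/-- Core step: descending a property of the chart morphism from the limit to a finite stage. -/
theorem exists_stage (P Q : MorphismProperty Scheme.{u}) [P.RespectsIso]
    [Q.IsStableUnderBaseChange] (hPQ : DescendsLim P Q)
    (hV₀ : IsAffine V₀.left) (hU₀ : IsAffine U₀.left) (hQ : Q h₀.left)
    (c : Cone D) (hc : IsLimit c)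
    (hP : ∀ (tV tU : Over S) (topV : (yon S).obj tV ⟶ c.pt) (qV : tV ⟶ V₀)
      (topU : (yon S).obj tU ⟶ c.pt) (qU : tU ⟶ U₀),
      IsPullback topV ((yon S).map qV) (c.π.app i₀) gV →
      IsPullback topU ((yon S).map qU) (c.π.app i₀) ((yon S).map h₀ ≫ gV) →
      ∀ η : tU ⟶ tV, η ≫ qV = qU ≫ h₀ → (yon S).map η ≫ topV = topU → P η.left) :
    ∃ j : Over i₀, P (csη D hDa i₀ gV h₀ j).left := by
  obtain ⟨tV, htV, topV, qV, haffV, hqVa, hqV, htopV, sqV⟩ :=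
    exists_isPullback_limit D hDa i₀ gV c hc
  obtain ⟨tU, htU, topU, qU, haffU, hqUa, hqU, htopU, sqU⟩ :=
    exists_isPullback_limit D hDa i₀ ((yon S).map h₀ ≫ gV) c hc
  obtain ⟨η, hη1, hη2, hη⟩ := exists_chartHom sqV sqU
  have hPη : P η.left := hP tV.pt tU.pt topV qV topU qU sqV sqU η hη1 hη2
  -- compatibility of `η` with the projections to the top stage
  have hcompat : η ≫ tV.π.app (topIdx i₀) =
      tU.π.app (topIdx i₀) ≫ csη D hDa i₀ gV h₀ (topIdx i₀) := by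
    apply cs_hom_ext D hDa i₀ gV (topIdx i₀)
    · rw [Functor.map_comp, Category.assoc, ← htopV, ← Category.assoc, hη2, htopU,
        Functor.map_comp, Category.assoc, csη_fst]
    · rw [Category.assoc, hqV, hη1, Category.assoc, csη_snd, ← Category.assoc, hqU]
  have sqTop : IsPullback (tU.π.app (topIdx i₀)) η (csη D hDa i₀ gV h₀ (topIdx i₀))
      (tV.π.app (topIdx i₀)) := by
    apply IsPullback.of_map (yon S) hcompat.symm
    refine IsPullback.of_right ?_ ?_ (isPullback_csη D hDa i₀ gV h₀ (topIdx i₀)).flip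
    · rw [← Functor.map_comp, ← Functor.map_comp, hqU, hqV]
      exact hη.flip
    · rw [← Functor.map_comp, ← Functor.map_comp, hcompat]
  haveI : IsConnected (Over i₀) := IsCofiltered.isConnected _
  have hlim : IsLimit ((Over.forget S).mapCone tV) := isLimitOfPreserves (Over.forget S) htV
  haveI := hV₀
  haveI := hU₀
  have hVtop : IsAffine (csObj D hDa i₀ gV (topIdx i₀)).left := by
    haveI := isAffineHom_csSnd D hDa i₀ gV (topIdx i₀)
    exact isAffine_of_isAffineHom (csSnd D hDa i₀ gV (topIdx i₀)).left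
  have hUtop : IsAffine (csObj D hDa i₀ ((yon S).map h₀ ≫ gV) (topIdx i₀)).left := by
    haveI := isAffineHom_csSnd D hDa i₀ ((yon S).map h₀ ≫ gV) (topIdx i₀)
    exact isAffine_of_isAffineHom (csSnd D hDa i₀ ((yon S).map h₀ ≫ gV) (topIdx i₀)).left
  have hQtop : Q (csη D hDa i₀ gV h₀ (topIdx i₀)).left := by
    have sq := (IsPullback.of_map (yon S) (csη_snd D hDa i₀ gV h₀ (topIdx i₀))
      (isPullback_csη D hDa i₀ gV h₀ (topIdx i₀))).map (Over.forget S)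
    exact Q.of_isPullback sq.flip hQ
  obtain ⟨j, φ, Xj, fj, pX, sqj, hPfj⟩ := hPQ (chartSys D hDa i₀ gV ⋙ Over.forget S)
    ((Over.forget S).mapCone tV) hlim (fun j j' f => isAffineHom_csMap D hDa i₀ gV f)
    (topIdx i₀) hVtop hUtop (csη D hDa i₀ gV h₀ (topIdx i₀)).left hQtop η.left
    (tU.π.app (topIdx i₀)).left (sqTop.map (Over.forget S)) hPη
  refine ⟨j, ?_⟩
  have sq' := (isPullback_csη_map D hDa i₀ gV h₀ φ).map (Over.forget S)
  obtain ⟨e, he⟩ : ∃ e : (csObj D hDa i₀ ((yon S).map h₀ ≫ gV) j).left ≅ Xj,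
      (csη D hDa i₀ gV h₀ j).left = e.hom ≫ fj :=
    ⟨sq'.isoIsPullback _ _ sqj, (IsPullback.isoIsPullback_hom_snd _ _ sq' sqj).symm⟩
  rw [he]
  exact (P.cancel_left_of_respectsIso e.hom fj).mpr hPfj

end Core

/-! ### Descent of properties local on the source and target -/

/-- Generic form of `S10013`, `S10014`, `S10082`: a property `P` étale local on the source and
target which descends through limits of affine schemes descends through limits of algebraic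
spaces. -/
theorem descend_locP (P Q : MorphismProperty Scheme.{u}) [IsEtaleLocalST P] [IsEtaleLocalST Q]
    (hPQ : DescendsLim P Q) [QuasiSeparatedSpace ↥S]
    {I : Type u} [SmallCategory I] [IsCofiltered I] (D : I ⥤ Sp S)
    (hD : ∀ i, IsAlgSpace (D.obj i))
    (hDa : ∀ (i j : I) (φ : i ⟶ j), IsAffineMor (D.map φ)) (c : Cone D) (hc : IsLimit c) (i₀ : I)
    (X₀ Y₀ : Space S) (f₀ : X₀.obj ⟶ Y₀.obj) (b₀ : Y₀.obj ⟶ D.obj i₀)
    (hXqc : IsQuasiCompactSp X₀.obj) (hYqc : IsQuasiCompactSp Y₀.obj)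
    (hYqs : IsQuasiSeparatedSp Y₀.obj)
    (X Y : Sp S) (f : X ⟶ Y) (pY : Y ⟶ Y₀.obj) (qY : Y ⟶ c.pt)
    (hY : IsPullback pY qY b₀ (c.π.app i₀)) (pX : X ⟶ X₀.obj) (hX : IsPullback pX f f₀ pY)
    (hf : LocP P f) (hf₀ : LocP Q f₀) :
    ∃ (i : I) (φ : i ⟶ i₀), ∀ (Xi Yi : Sp S) (fi : Xi ⟶ Yi) (pYi : Yi ⟶ Y₀.obj)
      (qYi : Yi ⟶ D.obj i) (_ : IsPullback pYi qYi b₀ (D.map φ)) (pXi : Xi ⟶ X₀.obj)
      (_ : IsPullback pXi fi f₀ pYi), LocP P fi := by
  obtain ⟨V₀, U₀, v₀, a₀, h₀, hV₀, hU₀, hv₀e, hv₀s, ha₀e, ha₀s, comm, -⟩ :=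
    exists_base_charts X₀.property Y₀.property f₀ hXqc hYqc hYqs
  have hQ : Q h₀.left := hf₀ a₀ v₀ h₀ ha₀e hv₀e comm
  haveI : P.RespectsIso := MorphismProperty.IsStableUnderBaseChange.respectsIso
  have hP : ∀ (tV tU : Over S) (topV : (yon S).obj tV ⟶ c.pt) (qV : tV ⟶ V₀)
      (topU : (yon S).obj tU ⟶ c.pt) (qU : tU ⟶ U₀),
      IsPullback topV ((yon S).map qV) (c.π.app i₀) (v₀ ≫ b₀) →
      IsPullback topU ((yon S).map qU) (c.π.app i₀) ((yon S).map h₀ ≫ v₀ ≫ b₀) →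
      ∀ η : tU ⟶ tV, η ≫ qV = qU ≫ h₀ → (yon S).map η ≫ topV = topU → P η.left := by
    intro tV tU topV qV topU qU sqV sqU η hη1 hη2
    have hη := isPullback_chartHom sqV sqU η hη1 hη2
    obtain ⟨a, b, sqb, sqa, hab, -⟩ := exists_charts comm sqV hY hX η hη1 hη
    exact hf a b η (repWith_of_isPullback @Etale sqa.flip ha₀e)
      (repWith_of_isPullback @Etale sqb.flip hv₀e) hab
  obtain ⟨j, hj⟩ := exists_stage D hDa i₀ (v₀ ≫ b₀) h₀ P Q hPQ hV₀ hU₀ hQ c hc hP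
  refine ⟨j.left, j.hom, fun Xi Yi fi pYi qYi sqYi pXi sqXi => ?_⟩
  have hYi : IsAlgSpace Yi :=
    isAlgSpace_of_isPullback (hD i₀).diag Y₀.property (hD j.left) _ _ _ _ sqYi
  have hXi : IsAlgSpace Xi :=
    isAlgSpace_of_isPullback Y₀.property.diag X₀.property hYi _ _ _ _ sqXi
  obtain ⟨a, b, sqb, sqa, hab, -⟩ := exists_charts comm (csSq D hDa i₀ (v₀ ≫ b₀) j) sqYi sqXi
    (csη D hDa i₀ (v₀ ≫ b₀) h₀ j) (csη_snd D hDa i₀ (v₀ ≫ b₀) h₀ j)
    (isPullback_csη D hDa i₀ (v₀ ≫ b₀) h₀ j)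
  exact locP_of_one_chart P hXi.diag hYi.diag fi a b (csη D hDa i₀ (v₀ ≫ b₀) h₀ j)
    (repWith_of_isPullback @Etale sqa.flip ha₀e) (repWith_of_isPullback @Surjective sqa.flip ha₀s)
    (repWith_of_isPullback @Etale sqb.flip hv₀e) hab hj

end Groth.Agent.Helper2.LimDescend
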