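import Mathlib
import Groth.Prelude.Def_AlgSp4
import Groth.Prelude.Def_AlgSpSub
import Groth.Agent.Lib.Helper2.AlgSp.LimSys
import Groth.Agent.Lib.Helper2.AlgSp.Points
import Groth.Agent.Lib.Helper2.AlgSp.Reduced
import Groth.Agent.S4774

/-!
# Cofiltered limits of algebraic spaces: reducedness and nonemptiness (helper2)
-/

set_option autoImplicit false
set_option linter.style.haveILetI false
universe u

namespace Groth.Agent.Helper2.LimSys
open CategoryTheory CategoryTheory.Limits AlgebraicGeometry Opposite AlgSp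
open Groth.Agent.Helper2.AlgSpBasic

variable {S : Scheme.{u}}

section

variable {I : Type u} [SmallCategory I] (D : I ⥤ Sp S)
  (hDa : ∀ (i j : I) (φ : i ⟶ j), IsAffineMor (D.map φ))
  (i₀ : I) {T : Over S} (g : (yon S).obj T ⟶ D.obj i₀)

theorem repWith_csFst (P : MorphismProperty Scheme.{u}) (hg : RepWith P g) (j : Over i₀) :
    RepWith P (csFst D hDa i₀ g j) :=
  repWith_of_isPullback P (csSq D hDa i₀ g j).flip hg

end

section

variable {I : Type u} [SmallCategory I] [IsCofiltered I] (D : I ⥤ Sp S)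
  (hD : ∀ i, IsAlgSpace (D.obj i))
  (hDa : ∀ (i j : I) (φ : i ⟶ j), IsAffineMor (D.map φ)) (c : Cone D) (hc : IsLimit c)
include hDa hc

/-- `S10056`: a limit of reduced algebraic spaces is reduced. -/
theorem isReducedSp_limit (hD : ∀ i, IsAlgSpace (D.obj i)) (hred : ∀ i, IsReducedSp (D.obj i)) :
    IsReducedSp c.pt := by
  obtain ⟨i₀⟩ := IsCofiltered.nonempty (C := I)
  obtain ⟨U₀, g, hge, hgs⟩ := (hD i₀).atlas
  obtain ⟨t, ht, top, q, haff, hqa, hq, htop, sq⟩ := exists_isPullback_limit D hDa i₀ g c hc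
  have hred' : ∀ j : Over i₀, IsReduced (csObj D hDa i₀ g j).left := fun j =>
    isReduced_of_etale_of_isReducedSp (hred j.left) (csFst D hDa i₀ g j)
      (repWith_csFst D hDa i₀ g @Etale hge j)
  refine ⟨t.pt, top, repWith_of_isPullback @Etale sq.flip hge,
    repWith_of_isPullback @Surjective sq.flip hgs, ?_⟩
  by_contra hnr
  haveI : IsConnected (Over i₀) := IsCofiltered.isConnected _
  have hlim : IsLimit ((Over.forget S).mapCone t) := isLimitOfPreserves (Over.forget S) ht
  haveI : ∀ (j j' : Over i₀) (f : j ⟶ j'),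
      IsAffineHom ((chartSys D hDa i₀ g ⋙ Over.forget S).map f) :=
    fun j j' f => isAffineHom_csMap D hDa i₀ g f
  obtain ⟨j, hj⟩ := Groth.Agent.S4774.result (chartSys D hDa i₀ g ⋙ Over.forget S)
    ((Over.forget S).mapCone t) hlim hnr
  exact hj j (𝟙 j) (hred' j)

/-- `S10008`: a limit of nonempty quasi-compact algebraic spaces is nonempty. -/
theorem nonempty_points_limit (hD : ∀ i, IsAlgSpace (D.obj i))
    (hqc : ∀ i, IsQuasiCompactSp (D.obj i)) (hne : ∀ i, Nonempty (Points (D.obj i))) :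
    Nonempty (Points c.pt) := by
  obtain ⟨i₀⟩ := IsCofiltered.nonempty (C := I)
  obtain ⟨U₀, g, hU₀, hge, hgs⟩ := (isQuasiCompactSp_iff_exists_affine_chart (hD i₀)).1 (hqc i₀)
  obtain ⟨t, ht, top, q, haff, hqa, hq, htop, sq⟩ := exists_isPullback_limit D hDa i₀ g c hc
  haveI := hU₀
  have hne' : ∀ j : Over i₀, Nonempty ↥(csObj D hDa i₀ g j).left := by
    intro j
    obtain ⟨x⟩ := hne j.left
    obtain ⟨u, -⟩ := surjective_ofPt (csFst D hDa i₀ g j)
      (repWith_csFst D hDa i₀ g @Surjective hgs j) x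
    exact ⟨u⟩
  have haffj : ∀ j : Over i₀, IsAffine (csObj D hDa i₀ g j).left := by
    intro j
    haveI := isAffineHom_csSnd D hDa i₀ g j
    exact isAffine_of_isAffineHom (csSnd D hDa i₀ g j).left
  haveI : IsConnected (Over i₀) := IsCofiltered.isConnected _
  have hlim : IsLimit ((Over.forget S).mapCone t) := isLimitOfPreserves (Over.forget S) ht
  haveI : ∀ {j j' : Over i₀} (f : j ⟶ j'),
      IsAffineHom ((chartSys D hDa i₀ g ⋙ Over.forget S).map f) :=
    fun f => isAffineHom_csMap D hDa i₀ g f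
  haveI : ∀ j : Over i₀, Nonempty ↥((chartSys D hDa i₀ g ⋙ Over.forget S).obj j) := hne'
  haveI : ∀ j : Over i₀, CompactSpace ↥((chartSys D hDa i₀ g ⋙ Over.forget S).obj j) := by
    intro j
    haveI := haffj j
    exact inferInstanceAs (CompactSpace ↥(csObj D hDa i₀ g j).left)
  obtain ⟨u⟩ := Scheme.nonempty_of_isLimit (chartSys D hDa i₀ g ⋙ Over.forget S)
    ((Over.forget S).mapCone t) hlim
  exact ⟨Points.ofPt top u⟩

end

end Groth.Agent.Helper2.LimSys
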