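import Mathlib
import Groth.Agent.Lib.Helper2.AlgSp.LimDescend
import Groth.Agent.Lib.Helper2.AlgSp.LimSys2
import Groth.Agent.Lib.Helper2.AlgSp.OpenSub
import Groth.Agent.Lib.Helper2.AlgSp.GpdInv
import Groth.Agent.Lib.Helper2.AlgSp.Thick

/-!
# Quasi-compact opens of a limit of algebraic spaces descend to a finite stage (helper2)
-/

set_option autoImplicit false
set_option linter.style.haveILetI false
universe u

namespace Groth.Agent.Helper2.LimOpen
open CategoryTheory CategoryTheory.Limits AlgebraicGeometry Opposite AlgSp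
open Groth.Agent.Helper2.AlgSpBasic Groth.Agent.Helper2.LimSys Groth.Agent.Helper2.LimDescend

variable {S : Scheme.{u}}

/-- Base change of the fibre square `R₀ = V₀ ×_{B₀} V₀` along `z : Z ⟶ B₀`, on charts. -/
theorem isPullback_chartHoms {B₀ Z : Sp S} {z : Z ⟶ B₀} {V₀ R₀ : Over S}
    {g₀ : (yon S).obj V₀ ⟶ B₀} {s₀ t₀ : R₀ ⟶ V₀}
    (sq₀ : IsPullback ((yon S).map s₀) ((yon S).map t₀) g₀ g₀) {EV ER : Over S}
    {fV : (yon S).obj EV ⟶ Z} {sV : EV ⟶ V₀} (sqV : IsPullback fV ((yon S).map sV) z g₀)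
    {sR : ER ⟶ R₀} (σ τ : ER ⟶ EV)
    (hσ : IsPullback ((yon S).map σ) ((yon S).map sR) ((yon S).map sV) ((yon S).map s₀))
    (hτ : IsPullback ((yon S).map τ) ((yon S).map sR) ((yon S).map sV) ((yon S).map t₀))
    (hστ : (yon S).map σ ≫ fV = (yon S).map τ ≫ fV) :
    IsPullback ((yon S).map σ) ((yon S).map τ) fV fV := by
  have outer := hτ.flip.paste_horiz sq₀
  -- outer : IsPullback (yon sR ≫ yon s₀) (yon τ) g₀ (yon sV ≫ g₀)
  refine IsPullback.of_right ?_ hστ sqV.flip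
  rw [hσ.w, sqV.w]
  exact outer


/-- Naturality of a family of chart morphisms. -/
theorem chartHom_naturality {I : Type u} [SmallCategory I] (D : I ⥤ Sp S)
    (hDa : ∀ (i j : I) (φ : i ⟶ j), IsAffineMor (D.map φ)) (i₀ : I) {V₀ R₀ : Over S}
    (gV : (yon S).obj V₀ ⟶ D.obj i₀) (gR : (yon S).obj R₀ ⟶ D.obj i₀) (h₀ : R₀ ⟶ V₀)
    (η : ∀ j : Over i₀, csObj D hDa i₀ gR j ⟶ csObj D hDa i₀ gV j)
    (hη1 : ∀ j, η j ≫ csSnd D hDa i₀ gV j = csSnd D hDa i₀ gR j ≫ h₀)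
    (hη2 : ∀ j, (yon S).map (η j) ≫ csFst D hDa i₀ gV j = csFst D hDa i₀ gR j)
    {j' j : Over i₀} (u : j' ⟶ j) :
    csMap D hDa i₀ gR u ≫ η j = η j' ≫ csMap D hDa i₀ gV u := by
  apply cs_hom_ext D hDa i₀ gV j
  · rw [Functor.map_comp, Category.assoc, hη2, csMap_fst, Functor.map_comp, Category.assoc,
      csMap_fst, ← Category.assoc, hη2]
  · rw [Category.assoc, hη1, ← Category.assoc, csMap_snd, Category.assoc, csMap_snd, hη1]

/-- Compatibility of the chart morphism at the limit with the chart morphisms at the stages. -/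
theorem chartHom_limit_compat {I : Type u} [SmallCategory I] (D : I ⥤ Sp S)
    (hDa : ∀ (i j : I) (φ : i ⟶ j), IsAffineMor (D.map φ)) (i₀ : I) {V₀ R₀ : Over S}
    (gV : (yon S).obj V₀ ⟶ D.obj i₀) (gR : (yon S).obj R₀ ⟶ D.obj i₀) (h₀ : R₀ ⟶ V₀)
    (c : Cone D)
    (tV : Cone (chartSys D hDa i₀ gV)) (topV : (yon S).obj tV.pt ⟶ c.pt) (qV : tV.pt ⟶ V₀)
    (hqV : ∀ j : Over i₀, tV.π.app j ≫ csSnd D hDa i₀ gV j = qV)
    (htopV : ∀ j : Over i₀, topV ≫ c.π.app j.left =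
      (yon S).map (tV.π.app j) ≫ csFst D hDa i₀ gV j)
    (tR : Cone (chartSys D hDa i₀ gR)) (topR : (yon S).obj tR.pt ⟶ c.pt) (qR : tR.pt ⟶ R₀)
    (hqR : ∀ j : Over i₀, tR.π.app j ≫ csSnd D hDa i₀ gR j = qR)
    (htopR : ∀ j : Over i₀, topR ≫ c.π.app j.left =
      (yon S).map (tR.π.app j) ≫ csFst D hDa i₀ gR j)
    (η : ∀ j : Over i₀, csObj D hDa i₀ gR j ⟶ csObj D hDa i₀ gV j)
    (hη1 : ∀ j, η j ≫ csSnd D hDa i₀ gV j = csSnd D hDa i₀ gR j ≫ h₀)
    (hη2 : ∀ j, (yon S).map (η j) ≫ csFst D hDa i₀ gV j = csFst D hDa i₀ gR j)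
    (σ : tR.pt ⟶ tV.pt) (hσ1 : σ ≫ qV = qR ≫ h₀) (hσ2 : (yon S).map σ ≫ topV = topR)
    (j : Over i₀) : σ ≫ tV.π.app j = tR.π.app j ≫ η j := by
  apply cs_hom_ext D hDa i₀ gV j
  · rw [Functor.map_comp, Category.assoc, ← htopV, ← Category.assoc, hσ2, htopR,
      Functor.map_comp, Category.assoc, hη2]
  · rw [Category.assoc, hqV, hσ1, Category.assoc, hη1, ← Category.assoc, hqR]


/-- Scheme level: an open of the limit, invariant for a "relation" given as a limit, descends to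
an invariant open at a finite stage. -/
theorem exists_invariant_open_stage {J : Type u} [SmallCategory J] [IsCofiltered J]
    (DV DR : J ⥤ Scheme.{u}) [∀ {i j : J} (f : i ⟶ j), IsAffineHom (DV.map f)]
    [∀ {i j : J} (f : i ⟶ j), IsAffineHom (DR.map f)]
    (cV : Cone DV) (hcV : IsLimit cV) (cR : Cone DR) (hcR : IsLimit cR)
    (σs τs : ∀ j, DR.obj j ⟶ DV.obj j)
    (hσn : ∀ {j' j : J} (u : j' ⟶ j), DR.map u ≫ σs j = σs j' ≫ DV.map u)
    (hτn : ∀ {j' j : J} (u : j' ⟶ j), DR.map u ≫ τs j = τs j' ≫ DV.map u)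
    (hσq : ∀ j, QuasiCompact (σs j)) (hτq : ∀ j, QuasiCompact (τs j))
    (σ τ : cR.pt ⟶ cV.pt) (hσ : ∀ j, σ ≫ cV.π.app j = cR.π.app j ≫ σs j)
    (hτ : ∀ j, τ ≫ cV.π.app j = cR.π.app j ≫ τs j)
    (W : cV.pt.Opens) (hW : IsCompact (W : Set cV.pt)) (hinv : σ ⁻¹ᵁ W = τ ⁻¹ᵁ W) :
    ∃ (j : J) (Wj : (DV.obj j).Opens), IsCompact (Wj : Set (DV.obj j)) ∧
      cV.π.app j ⁻¹ᵁ Wj = W ∧ σs j ⁻¹ᵁ Wj = τs j ⁻¹ᵁ Wj := by
  obtain ⟨j, Wj, hWjc, hWj⟩ := exists_preimage_eq DV cV hcV W hW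
  haveI := hσq j
  haveI := hτq j
  have hA : IsCompact ((σs j ⁻¹ᵁ Wj : (DR.obj j).Opens) : Set (DR.obj j)) :=
    QuasiCompact.isCompact_preimage (f := σs j) _ Wj.2 hWjc
  have hB : IsCompact ((τs j ⁻¹ᵁ Wj : (DR.obj j).Opens) : Set (DR.obj j)) :=
    QuasiCompact.isCompact_preimage (f := τs j) _ Wj.2 hWjc
  have hAB : cR.π.app j ⁻¹ᵁ (σs j ⁻¹ᵁ Wj) = cR.π.app j ⁻¹ᵁ (τs j ⁻¹ᵁ Wj) := by
    rw [← Scheme.Hom.comp_preimage, ← Scheme.Hom.comp_preimage, ← hσ, ← hτ,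
      Scheme.Hom.comp_preimage, Scheme.Hom.comp_preimage, hWj, hinv]
  obtain ⟨j', u, hu⟩ := exists_map_preimage_eq_map_preimage DR cR hcR hA hB hAB
  refine ⟨j', DV.map u ⁻¹ᵁ Wj, ?_, ?_, ?_⟩
  · exact QuasiCompact.isCompact_preimage (f := DV.map u) _ Wj.2 hWjc
  · rw [← Scheme.Hom.comp_preimage, cV.w, hWj]
  · rw [← Scheme.Hom.comp_preimage, ← Scheme.Hom.comp_preimage, ← hσn, ← hτn,
      Scheme.Hom.comp_preimage, Scheme.Hom.comp_preimage, hu]


/-- Membership in the pullback of an open subspace, on a chart. -/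
theorem mem_range_iff_of_isPullback {X U : Sp S} {j : U ⟶ X} {V W' : Over S}
    {topV : (yon S).obj V ⟶ X} {w : W' ⟶ V} {aW : (yon S).obj W' ⟶ U}
    (sqW : IsPullback aW ((yon S).map w) j topV) (v : ↥V.left) :
    v ∈ Set.range w.left ↔ Points.ofPt topV v ∈ Set.range (Points.map j) := by
  constructor
  · rintro ⟨p, rfl⟩
    refine ⟨Points.ofPt aW p, ?_⟩
    rw [Points.map_ofPt, sqW.w, ofPt_yon_map_comp]
  · rintro ⟨u, hu⟩
    have e : Points.map j u = Points.map topV (Points.ofScheme V v) := by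
      rw [hu, Points.ofPt_eq_map_ofScheme]
    obtain ⟨p, -, hp2⟩ := points_exists_of_isPullback topV j aW ((yon S).map w) sqW u
      (Points.ofScheme V v) e
    obtain ⟨p', rfl⟩ := (Points.schemeHomeo W').surjective p
    have := Points.map_yon_map_apply w p'
    refine ⟨p', ?_⟩
    have h2 : Points.ofScheme V (w.left p') = Points.ofScheme V v := this.symm.trans hp2
    exact (Points.schemeHomeo V).injective h2


/-- `S10086`. -/
theorem main [QuasiSeparatedSpace ↥S] {I : Type u} [SmallCategory I] [IsCofiltered I]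
    (D : I ⥤ Sp S) (hD : ∀ i, IsAlgSpace (D.obj i))
    (hDa : ∀ (i j : I) (φ : i ⟶ j), IsAffineMor (D.map φ))
    (hqc : ∀ i, IsQuasiCompactSp (D.obj i)) (hqs : ∀ i, IsQuasiSeparatedSp (D.obj i))
    (c : Cone D) (hc : IsLimit c)
    (U : Sp S) (j : U ⟶ c.pt) (hj : RepWith @IsOpenImmersion j) (hU : IsQuasiCompactSp U) :
    ∃ (i : I) (Ui : Sp S) (ji : Ui ⟶ D.obj i) (q : U ⟶ Ui),
      RepWith @IsOpenImmersion ji ∧ IsQuasiCompactSp Ui ∧ IsPullback j q (c.π.app i) ji := by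
  obtain ⟨i₀⟩ := IsCofiltered.nonempty (C := I)
  obtain ⟨V₀, g₀, hV₀, hg₀e, hg₀s⟩ :=
    (isQuasiCompactSp_iff_exists_affine_chart (hD i₀)).1 (hqc i₀)
  haveI := hV₀
  obtain ⟨R₀, s₀, t₀, sq₀⟩ := exists_isPullback_yon (hD i₀).diag g₀ g₀
  have hg₀q : RepWith @QuasiCompact g₀ :=
    repWith_quasiCompact_of_isQuasiCompactMor g₀ hg₀e.rep
      (isQuasiCompactMor_from_compact_scheme (hqs i₀) g₀)
  have hs₀q : QuasiCompact s₀.left := hg₀q.property g₀ _ _ sq₀.flip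
  have ht₀q : QuasiCompact t₀.left := hg₀q.property g₀ _ _ sq₀
  obtain ⟨gR, hgRs, hgRt⟩ : ∃ gR : (yon S).obj R₀ ⟶ D.obj i₀,
      gR = (yon S).map s₀ ≫ g₀ ∧ gR = (yon S).map t₀ ≫ g₀ := ⟨_, rfl, sq₀.w⟩
  -- stage-level chart morphisms
  have hσs : ∀ k : Over i₀, ∃ η : csObj D hDa i₀ gR k ⟶ csObj D hDa i₀ g₀ k,
      η ≫ csSnd D hDa i₀ g₀ k = csSnd D hDa i₀ gR k ≫ s₀ ∧
      (yon S).map η ≫ csFst D hDa i₀ g₀ k = csFst D hDa i₀ gR k ∧
      IsPullback ((yon S).map η) ((yon S).map (csSnd D hDa i₀ gR k))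
        ((yon S).map (csSnd D hDa i₀ g₀ k)) ((yon S).map s₀) := fun k =>
    exists_chartHom (csSq D hDa i₀ g₀ k) (by rw [← hgRs]; exact csSq D hDa i₀ gR k)
  choose σs hσs1 hσs2 hσs3 using hσs
  have hτs : ∀ k : Over i₀, ∃ η : csObj D hDa i₀ gR k ⟶ csObj D hDa i₀ g₀ k,
      η ≫ csSnd D hDa i₀ g₀ k = csSnd D hDa i₀ gR k ≫ t₀ ∧
      (yon S).map η ≫ csFst D hDa i₀ g₀ k = csFst D hDa i₀ gR k ∧
      IsPullback ((yon S).map η) ((yon S).map (csSnd D hDa i₀ gR k))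
        ((yon S).map (csSnd D hDa i₀ g₀ k)) ((yon S).map t₀) := fun k =>
    exists_chartHom (csSq D hDa i₀ g₀ k) (by rw [← hgRt]; exact csSq D hDa i₀ gR k)
  choose τs hτs1 hτs2 hτs3 using hτs
  -- the limits
  obtain ⟨tV, htV, topV, qV, haffV, hqVa, hqV, htopV, sqV⟩ :=
    exists_isPullback_limit D hDa i₀ g₀ c hc
  obtain ⟨tR, htR, topR, qR, haffR, hqRa, hqR, htopR, sqR⟩ :=
    exists_isPullback_limit D hDa i₀ gR c hc
  obtain ⟨σ, hσ1, hσ2, hσ3⟩ := exists_chartHom sqV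
    (show IsPullback topR ((yon S).map qR) (c.π.app i₀) ((yon S).map s₀ ≫ g₀) by
      rw [← hgRs]; exact sqR)
  obtain ⟨τ, hτ1, hτ2, hτ3⟩ := exists_chartHom sqV
    (show IsPullback topR ((yon S).map qR) (c.π.app i₀) ((yon S).map t₀ ≫ g₀) by
      rw [← hgRt]; exact sqR)
  have hσc := chartHom_limit_compat D hDa i₀ g₀ gR s₀ c tV topV qV hqV htopV tR topR qR hqR
    htopR σs hσs1 hσs2 σ hσ1 hσ2
  have hτc := chartHom_limit_compat D hDa i₀ g₀ gR t₀ c tV topV qV hqV htopV tR topR qR hqR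
    htopR τs hτs1 hτs2 τ hτ1 hτ2
  have sqRVs : ∀ k, IsPullback ((yon S).map (σs k)) ((yon S).map (τs k))
      (csFst D hDa i₀ g₀ k) (csFst D hDa i₀ g₀ k) := fun k =>
    isPullback_chartHoms sq₀ (csSq D hDa i₀ g₀ k) (σs k) (τs k) (hσs3 k) (hτs3 k)
      (by rw [hσs2, hτs2])
  -- the open `W` of `V`
  have hX : IsAlgSpace c.pt := isAlgSpace_limit D hDa hD c hc
  have hUa : IsAlgSpace U := isAlgSpace_of_repBySh j (RepBySh.of_representable hj.rep) hX
  obtain ⟨W', w, aW, sqW⟩ := hj.rep topV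
  haveI hw : IsOpenImmersion w.left := hj.property topV aW w sqW
  have htopVq : RepWith @QuasiCompact topV := repWith_of_isPullback @QuasiCompact sqV.flip hg₀q
  have htopVs : RepWith @Surjective topV := repWith_of_isPullback @Surjective sqV.flip hg₀s
  have haWq : RepWith @QuasiCompact aW := repWith_of_isPullback @QuasiCompact sqW.flip htopVq
  have haWqm : IsQuasiCompactMor aW :=
    isQuasiCompactMor_of_repWith (IsAlgSpace.yon_obj W') hUa.diag aW haWq
  have hW'q : IsQuasiCompactSp ((yon S).obj W') :=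
    haWqm hUa hU (𝟙 U) (𝟙 _) aW (IsPullback.id_horiz aW)
  haveI : CompactSpace ↥W'.left := (isQuasiCompactSp_yon_iff W').mp hW'q
  have hmem : ∀ v : ↥tV.pt.left, v ∈ w.left.opensRange ↔
      Points.ofPt topV v ∈ Set.range (Points.map j) := fun v =>
    mem_range_iff_of_isPullback sqW v
  have hWoc : IsCompact ((w.left.opensRange : tV.pt.left.Opens) : Set ↥tV.pt.left) := by
    rw [Scheme.Hom.coe_opensRange]
    exact isCompact_range w.left.continuous
  have hinv : σ.left ⁻¹ᵁ w.left.opensRange = τ.left ⁻¹ᵁ w.left.opensRange := by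
    ext r
    show σ.left r ∈ w.left.opensRange ↔ τ.left r ∈ w.left.opensRange
    rw [hmem, hmem, ← ofPt_yon_map_comp, ← ofPt_yon_map_comp, hσ2, hτ2]
  -- the scheme-level argument
  haveI : IsConnected (Over i₀) := IsCofiltered.isConnected _
  haveI : ∀ {a b : Over i₀} (f : a ⟶ b),
      IsAffineHom ((chartSys D hDa i₀ g₀ ⋙ Over.forget S).map f) :=
    fun f => isAffineHom_csMap D hDa i₀ g₀ f
  haveI : ∀ {a b : Over i₀} (f : a ⟶ b),
      IsAffineHom ((chartSys D hDa i₀ gR ⋙ Over.forget S).map f) :=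
    fun f => isAffineHom_csMap D hDa i₀ gR f
  have hσq : ∀ k, QuasiCompact (σs k).left := fun k => by
    have sq := (IsPullback.of_map (yon S) (hσs1 k) (hσs3 k)).map (Over.forget S)
    exact MorphismProperty.of_isPullback (P := @QuasiCompact) sq.flip hs₀q
  have hτq : ∀ k, QuasiCompact (τs k).left := fun k => by
    have sq := (IsPullback.of_map (yon S) (hτs1 k) (hτs3 k)).map (Over.forget S)
    exact MorphismProperty.of_isPullback (P := @QuasiCompact) sq.flip ht₀q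
  obtain ⟨k, Wk, hWkc, hWk, hWkinv⟩ : ∃ (k : Over i₀) (Wk : (csObj D hDa i₀ g₀ k).left.Opens),
      IsCompact (Wk : Set ↥(csObj D hDa i₀ g₀ k).left) ∧
      (tV.π.app k).left ⁻¹ᵁ Wk = w.left.opensRange ∧
      (σs k).left ⁻¹ᵁ Wk = (τs k).left ⁻¹ᵁ Wk := exists_invariant_open_stage
    (chartSys D hDa i₀ g₀ ⋙ Over.forget S) (chartSys D hDa i₀ gR ⋙ Over.forget S)
    ((Over.forget S).mapCone tV) (isLimitOfPreserves (Over.forget S) htV)
    ((Over.forget S).mapCone tR) (isLimitOfPreserves (Over.forget S) htR)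
    (fun k => (σs k).left) (fun k => (τs k).left)
    (fun {k' k} u => by
      have := chartHom_naturality D hDa i₀ g₀ gR s₀ σs hσs1 hσs2 u
      exact congrArg (fun f => f.left) this)
    (fun {k' k} u => by
      have := chartHom_naturality D hDa i₀ g₀ gR t₀ τs hτs1 hτs2 u
      exact congrArg (fun f => f.left) this)
    hσq hτq σ.left τ.left
    (fun k => congrArg (fun f => f.left) (hσc k))
    (fun k => congrArg (fun f => f.left) (hτc k))
    w.left.opensRange hWoc hinv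
  -- membership in `Wk` versus `W`
  have hWk' : ∀ v : ↥tV.pt.left, (tV.π.app k).left v ∈ Wk ↔ v ∈ w.left.opensRange := by
    intro v
    constructor
    · intro h
      rw [← hWk]
      exact h
    · intro h
      rw [← hWk] at h
      exact h
  have hcsFe : RepWith @Etale (csFst D hDa i₀ g₀ k) := repWith_csFst D hDa i₀ g₀ @Etale hg₀e k
  -- the open subset of `|D k|`
  obtain ⟨O, hOdef⟩ : ∃ O : Set (Points (D.obj k.left)),
      O = Points.ofPt (csFst D hDa i₀ g₀ k) '' (Wk : Set ↥(csObj D hDa i₀ g₀ k).left) :=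
    ⟨_, rfl⟩
  have hOo : IsOpen O := by
    rw [hOdef]
    exact isOpenMap_ofPt _ hcsFe _ Wk.2
  have hOc : IsCompact O := by
    rw [hOdef]
    exact hWkc.image (Points.continuous_ofPt _)
  have hpre : ∀ v : ↥(csObj D hDa i₀ g₀ k).left,
      Points.ofPt (csFst D hDa i₀ g₀ k) v ∈ O ↔ v ∈ Wk := by
    intro v
    constructor
    · intro hv
      have h1 : v ∈ Points.ofPt (csFst D hDa i₀ g₀ k) ⁻¹'
          (Points.ofPt (csFst D hDa i₀ g₀ k) '' (Wk : Set ↥(csObj D hDa i₀ g₀ k).left)) := by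
        rw [← hOdef]
        exact hv
      rw [preimage_image_ofPt _ _ (σs k) (τs k) (sqRVs k)] at h1
      obtain ⟨r, hr, rfl⟩ := h1
      have h2 : r ∈ (σs k).left ⁻¹ᵁ Wk := hr
      rw [hWkinv] at h2
      exact h2
    · intro hv
      rw [hOdef]
      exact ⟨v, hv, rfl⟩
  -- the range of `j` is the preimage of `O`
  have hrange : Set.range (Points.map j) = Points.map (c.π.app k.left) ⁻¹' O := by
    have hkey : ∀ v : ↥tV.pt.left, Points.map (c.π.app k.left) (Points.ofPt topV v) =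
        Points.ofPt (csFst D hDa i₀ g₀ k) ((tV.π.app k).left v) := by
      intro v
      rw [Points.map_ofPt, htopV, ofPt_yon_map_comp]
    ext x
    obtain ⟨v, rfl⟩ := surjective_ofPt topV htopVs x
    rw [Set.mem_preimage, hkey, hpre, hWk', hmem]
  have hmemU : ∀ p : Points U, Points.map j p ∈ Points.map (c.π.app k.left) ⁻¹' O := by
    intro p
    rw [← hrange]
    exact ⟨p, rfl⟩
  haveI : IsIso (openSubLift (Points.map (c.π.app k.left) ⁻¹' O) j hmemU) :=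
    isIso_openSubLift_of_range_eq hUa hX j hj _ hrange hmemU
  obtain ⟨q₀, sqO⟩ : ∃ q₀ : openSub c.pt (Points.map (c.π.app k.left) ⁻¹' O) ⟶
      openSub (D.obj k.left) O,
      IsPullback (openSubι c.pt (Points.map (c.π.app k.left) ⁻¹' O)) q₀ (c.π.app k.left)
        (openSubι (D.obj k.left) O) := ⟨_, isPullback_openSub (c.π.app k.left) O⟩
  refine ⟨k.left, openSub (D.obj k.left) O, openSubι (D.obj k.left) O,
    openSubLift (Points.map (c.π.app k.left) ⁻¹' O) j hmemU ≫ q₀,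
    repWith_isOpenImmersion_openSubι _ hOo,
    (Groth.Agent.Helper2.GpdInv.isQuasiCompactSp_openSub_iff (hD k.left) hOo).mpr hOc, ?_⟩
  refine sqO.of_iso (asIso (openSubLift (Points.map (c.π.app k.left) ⁻¹' O) j hmemU)).symm
    (Iso.refl _) (Iso.refl _) (Iso.refl _) ?_ ?_ ?_ ?_
  · rw [Iso.refl_hom, Category.comp_id, Iso.symm_hom, asIso_inv, IsIso.eq_inv_comp,
      openSubLift_ι]
  · rw [Iso.refl_hom, Category.comp_id, Iso.symm_hom, asIso_inv, IsIso.eq_inv_comp]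
  · rw [Iso.refl_hom, Iso.refl_hom, Category.comp_id, Category.id_comp]
  · rw [Iso.refl_hom, Iso.refl_hom, Category.comp_id, Category.id_comp]

end Groth.Agent.Helper2.LimOpen
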