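import Mathlib
import Groth.Agent.Lib.Helper2.AlgSp.LimOpen
import Groth.Agent.Lib.Helper2.AlgSp.ImmDescent
import Groth.Agent.S2076

/-!
# A closed immersion into a limit of algebraic spaces is a closed immersion into a stage (helper2)
-/

set_option autoImplicit false
set_option linter.style.haveILetI false
universe u

namespace Groth.Agent.Helper2.LimClosedStage
open CategoryTheory CategoryTheory.Limits AlgebraicGeometry Opposite AlgSp
open Groth.Agent.Helper2.AlgSpBasic Groth.Agent.Helper2.LimSys Groth.Agent.Helper2.LimDescend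

variable {S : Scheme.{u}}

/-- An étale surjective chart of a quasi-compact algebraic space can be refined to an affine
one. -/
theorem exists_affine_refinement {X : Sp S} (hX : IsAlgSpace X) (hXq : IsQuasiCompactSp X)
    {U : Over S} (p : (yon S).obj U ⟶ X) (hpe : RepWith @Etale p) (hps : RepWith @Surjective p) :
    ∃ (U' : Over S) (e : U' ⟶ U), IsAffine U'.left ∧ RepWith @Etale ((yon S).map e ≫ p) ∧
      RepWith @Surjective ((yon S).map e ≫ p) := by
  classical
  haveI := (isQuasiCompactSp_iff_compactSpace_points hX).mp hXq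
  let 𝒰 := U.left.affineCover
  let O : 𝒰.I₀ → Set (Points X) := fun i => Points.ofPt p '' Set.range (𝒰.f i).base
  have hO : ∀ i, IsOpen (O i) := fun i =>
    isOpenMap_ofPt p hpe _ (𝒰.f i).isOpenEmbedding.isOpen_range
  have hcov : (Set.univ : Set (Points X)) ⊆ ⋃ i, O i := by
    intro x _
    obtain ⟨u, rfl⟩ := surjective_ofPt p hps x
    obtain ⟨i, y, hy⟩ := 𝒰.exists_eq u
    exact Set.mem_iUnion.mpr ⟨i, u, ⟨y, hy⟩, rfl⟩
  obtain ⟨t, ht⟩ := isCompact_univ.elim_finite_subcover O hO hcov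
  let g : ↥t → Scheme.{u} := fun i => 𝒰.X i.1
  have hg : ∀ i, IsAffine (g i) := fun i => inferInstance
  let h : ∀ i : ↥t, g i ⟶ U.left := fun i => 𝒰.f i.1
  have hh : ∀ i, Etale (h i) := fun i => inferInstance
  let j : (∐ g) ⟶ U.left := Sigma.desc h
  have hj : Etale j := etale_sigma_desc g h
  let U' : Over S := Over.mk (j ≫ U.hom)
  let jO : U' ⟶ U := Over.homMk j rfl
  refine ⟨U', jO, (inferInstance : IsAffine (∐ g)), ?_, ?_⟩
  · exact repWith_comp @Etale ((repWith_yon_map_iff @Etale jO).mpr hj) hpe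
  · refine repWith_surjective_of_surjective_ofPt _ (hX.representable_from_yon _) ?_
    intro x
    have hx := ht (Set.mem_univ x)
    simp only [Set.mem_iUnion] at hx
    obtain ⟨i, hi, u, ⟨y, rfl⟩, rfl⟩ := hx
    refine ⟨Sigma.ι g ⟨i, hi⟩ y, ?_⟩
    rw [ofPt_yon_map_comp]
    congr 1
    show (Sigma.ι g ⟨i, hi⟩ ≫ Limits.Sigma.desc h) y = _
    rw [Sigma.ι_desc]

/-- The limit of the chart system is the base change of each stage of the chart system. -/
theorem isPullback_limit_stage {I : Type u} [SmallCategory I] (D : I ⥤ Sp S)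
    (hDa : ∀ (i j : I) (φ : i ⟶ j), IsAffineMor (D.map φ)) (i₀ : I) {V₀ : Over S}
    (g₀ : (yon S).obj V₀ ⟶ D.obj i₀) (c : Cone D)
    (tV : Cone (chartSys D hDa i₀ g₀)) (topV : (yon S).obj tV.pt ⟶ c.pt) (qV : tV.pt ⟶ V₀)
    (hqV : ∀ j : Over i₀, tV.π.app j ≫ csSnd D hDa i₀ g₀ j = qV)
    (htopV : ∀ j : Over i₀, topV ≫ c.π.app j.left =
      (yon S).map (tV.π.app j) ≫ csFst D hDa i₀ g₀ j)
    (sqV : IsPullback topV ((yon S).map qV) (c.π.app i₀) g₀) (k : Over i₀) :
    IsPullback ((yon S).map (tV.π.app k)) topV (csFst D hDa i₀ g₀ k) (c.π.app k.left) := by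
  refine IsPullback.of_right ?_ (htopV k).symm (csSq D hDa i₀ g₀ k).flip
  rw [← Functor.map_comp, hqV, c.w]
  exact sqV.flip


/-- Scheme-level wrapper of `S2076`. -/
theorem exists_isClosedImmersion_stage {J : Type u} [SmallCategory J] [IsCofiltered J]
    (F : J ⥤ Over S) (tV : Cone F) (htV : IsLimit tV)
    (haff : ∀ {a b : J} (f : a ⟶ b), IsAffineHom (F.map f).left)
    (hcpt : ∀ k, CompactSpace ↥(F.obj k).left)
    (W : Scheme.{u}) (s : ∀ k, (F.obj k).left ⟶ W)
    (hs : ∀ {k' k : J} (u : k' ⟶ k), (F.map u).left ≫ s k = s k')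
    (p : tV.pt.left ⟶ W) (hp : ∀ k, (tV.π.app k).left ≫ s k = p)
    {Y : Scheme.{u}} (w : Y ⟶ tV.pt.left) [IsClosedImmersion w]
    (hlft : LocallyOfFiniteType (w ≫ p)) :
    ∃ k, IsClosedImmersion (w ≫ (tV.π.app k).left) := by
  haveI : IsConnected J := IsCofiltered.isConnected J
  let sN : (F ⋙ Over.forget S) ⟶ (Functor.const J).obj W :=
    { app := s
      naturality := fun k' k u => by
        rw [Functor.const_obj_map]
        exact (hs u).trans (Category.comp_id _).symm }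
  have hlim := Over.isLimitLiftCone (F ⋙ Over.forget S) sN ((Over.forget S).mapCone tV) p hp
    (isLimitOfPreserves (Over.forget S) htV)
  exact @Groth.Agent.S2076.result J _ _ W (Over.lift (F ⋙ Over.forget S) sN)
    (Over.liftCone (F ⋙ Over.forget S) sN ((Over.forget S).mapCone tV) p hp) hlim
    (fun i j f => haff f) hcpt Y w ‹IsClosedImmersion w› hlft


/-- `S10009`. -/
theorem main {I : Type u} [SmallCategory I] [IsCofiltered I]
    (B : Space S) (D : I ⥤ Sp S) (hD : ∀ i, IsAlgSpace (D.obj i))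
    (t : D ⟶ (Functor.const I).obj B.obj)
    (hDa : ∀ (i j : I) (φ : i ⟶ j), IsAffineMor (D.map φ))
    (c : Cone D) (hc : IsLimit c)
    (hqc : ∀ i, IsQuasiCompactSp (D.obj i))
    (Y : Space S) (y : Y.obj ⟶ c.pt) (hy : RepWith @IsClosedImmersion y) (i₁ : I)
    (hYB : LocP @LocallyOfFiniteType (y ≫ c.π.app i₁ ≫ t.app i₁)) :
    ∃ i₀ : I, ∀ (i : I) (_ : i ⟶ i₀), RepWith @IsClosedImmersion (y ≫ c.π.app i) := by
  obtain ⟨W, b, hbe, hbs⟩ := B.property.atlas
  obtain ⟨U, a, h, hae, has, hah⟩ := exists_chart_lift (hD i₁) (t.app i₁) b hbe hbs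
  obtain ⟨V₀, e, hV₀, hg₀e, hg₀s⟩ := exists_affine_refinement (hD i₁) (hqc i₁) a hae has
  obtain ⟨g₀, hg₀⟩ : ∃ g₀ : (yon S).obj V₀ ⟶ D.obj i₁, g₀ = (yon S).map e ≫ a := ⟨_, rfl⟩
  rw [← hg₀] at hg₀e hg₀s
  obtain ⟨h₀, hh₀⟩ : ∃ h₀ : V₀ ⟶ W, h₀ = e ≫ h := ⟨_, rfl⟩
  have hg₀h : g₀ ≫ t.app i₁ = (yon S).map h₀ ≫ b := by
    rw [hg₀, hh₀, Category.assoc, hah, Functor.map_comp, Category.assoc]
  haveI := hV₀
  obtain ⟨tV, htV, topV, qV, haffV, hqVa, hqV, htopV, sqV⟩ :=
    exists_isPullback_limit D hDa i₁ g₀ c hc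
  have htopVe : RepWith @Etale topV := repWith_of_isPullback @Etale sqV.flip hg₀e
  obtain ⟨Y', w, aY, sqY⟩ := hy.rep topV
  haveI hw : IsClosedImmersion w.left := hy.property topV aY w sqY
  have haYe : RepWith @Etale aY := repWith_of_isPullback @Etale sqY.flip htopVe
  -- finite type over `W`
  have hcomm : aY ≫ (y ≫ c.π.app i₁ ≫ t.app i₁) = (yon S).map (w ≫ qV ≫ h₀) ≫ b := by
    rw [← Category.assoc, sqY.w, Category.assoc, ← Category.assoc topV, sqV.w, Category.assoc,
      hg₀h, Functor.map_comp, Functor.map_comp, Category.assoc, Category.assoc]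
  have hlft : LocallyOfFiniteType (w ≫ qV ≫ h₀).left := hYB aY b _ haYe hbe hcomm
  -- the scheme-level statement
  have hcpt : ∀ k : Over i₁, CompactSpace ↥((chartSys D hDa i₁ g₀).obj k).left := by
    intro k
    haveI := isAffineHom_csSnd D hDa i₁ g₀ k
    haveI : IsAffine (csObj D hDa i₁ g₀ k).left :=
      isAffine_of_isAffineHom (csSnd D hDa i₁ g₀ k).left
    show CompactSpace ↥(csObj D hDa i₁ g₀ k).left
    infer_instance
  obtain ⟨k, hk⟩ := exists_isClosedImmersion_stage (chartSys D hDa i₁ g₀) tV htV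
    (fun f => isAffineHom_csMap D hDa i₁ g₀ f) hcpt W.left
    (fun k => (csSnd D hDa i₁ g₀ k).left ≫ h₀.left)
    (fun {k' k} u => by
      show (csMap D hDa i₁ g₀ u).left ≫ (csSnd D hDa i₁ g₀ k).left ≫ h₀.left = _
      rw [← Category.assoc, ← Over.comp_left, csMap_snd])
    (qV.left ≫ h₀.left)
    (fun k => by
      rw [← Category.assoc, ← Over.comp_left, hqV])
    w.left (by
      have : (w ≫ qV ≫ h₀).left = w.left ≫ qV.left ≫ h₀.left := by
        rw [Over.comp_left, Over.comp_left]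
      rw [← this]
      exact hlft)
  refine ⟨k.left, fun i ψ => ?_⟩
  -- the stage `k' = (i, ψ ≫ k.hom)`
  obtain ⟨k', u, hki⟩ : ∃ (k' : Over i₁) (_ : k' ⟶ k), k'.left = i :=
    ⟨Over.mk (ψ ≫ k.hom), Over.homMk ψ rfl, rfl⟩
  subst hki
  have hcl : IsClosedImmersion (w ≫ tV.π.app k').left := by
    have e1 : (w ≫ tV.π.app k').left ≫ (csMap D hDa i₁ g₀ u).left = w.left ≫ (tV.π.app k).left := by
      rw [← Over.comp_left, Category.assoc]
      have := tV.w u
      rw [show (chartSys D hDa i₁ g₀).map u = csMap D hDa i₁ g₀ u from rfl] at this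
      rw [this, Over.comp_left]
    haveI : IsClosedImmersion ((w ≫ tV.π.app k').left ≫ (csMap D hDa i₁ g₀ u).left) := by
      rw [e1]; exact hk
    haveI := isAffineHom_csMap D hDa i₁ g₀ u
    exact IsClosedImmersion.of_comp _ (csMap D hDa i₁ g₀ u).left
  have sqk := isPullback_limit_stage D hDa i₁ g₀ c tV topV qV hqV htopV sqV k'
  have sq := (sqY.flip.paste_horiz sqk).flip
  rw [← Functor.map_comp] at sq
  exact Groth.Agent.Helper2.ImmDescent.repWith_isClosedImmersion_of_etale_cover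
    (y ≫ c.π.app k'.left) (csObj D hDa i₁ g₀ k') (csFst D hDa i₁ g₀ k')
    (repWith_csFst D hDa i₁ g₀ @Etale hg₀e k') (repWith_csFst D hDa i₁ g₀ @Surjective hg₀s k')
    aY _ sq ((repWith_yon_map_iff @IsClosedImmersion _).mpr hcl)

end Groth.Agent.Helper2.LimClosedStage
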