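import Mathlib
import Groth.Agent.Lib.Helper2.AlgSp.LimDescend
import Groth.Agent.S9192
import Groth.Agent.S9191
import Groth.Agent.S2075

/-!
# Scheme-level descent through limits: instances of `DescendsLim` (helper2)
-/

set_option autoImplicit false
set_option linter.style.haveILetI false
universe u

namespace Groth.Agent.Helper2.LimDescend
open CategoryTheory CategoryTheory.Limits AlgebraicGeometry

/-- Repackaging of the conclusion of the scheme-level descent statements. -/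
theorem descendsLim_aux (P : MorphismProperty Scheme.{u}) [P.RespectsIso]
    {A B X₀ : Scheme.{u}} {f₀ : X₀ ⟶ B} {t : A ⟶ B}
    (h : ∃ (Xi Yi : Scheme.{u}) (fi : Xi ⟶ Yi) (gi : Yi ⟶ A) (pY : Yi ⟶ B) (pX : Xi ⟶ X₀),
      IsPullback pY gi (𝟙 B) t ∧ IsPullback pX fi f₀ pY ∧ P fi) :
    ∃ (Xj : Scheme.{u}) (fj : Xj ⟶ A) (pX : Xj ⟶ X₀), IsPullback pX fj f₀ t ∧ P fj := by
  obtain ⟨Xi, Yi, fi, gi, pY, pX, sqY, sqX, hfi⟩ := h
  haveI : IsIso gi := sqY.isIso_snd_of_isIso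
  refine ⟨Xi, fi ≫ gi, pX, ?_, (P.cancel_right_of_respectsIso fi gi).mpr hfi⟩
  have := sqX.paste_vert sqY
  rwa [Category.comp_id] at this

theorem descendsLim_etale :
    DescendsLim (@Etale : MorphismProperty Scheme.{u}) @LocallyOfFinitePresentation := by
  intro J _ _ D c hc hD j₀ hj₀ X₀ hX₀ f₀ hf₀ X f qX hX hf
  haveI := hD
  haveI := hj₀
  haveI := hX₀
  haveI : LocallyOfFinitePresentation f₀ := hf₀
  haveI : Etale f := hf
  have hY : IsPullback (c.π.app j₀) (𝟙 c.pt) (𝟙 (D.obj j₀)) (c.π.app j₀) :=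
    IsPullback.id_vert (c.π.app j₀)
  obtain ⟨i, φ, h⟩ := Groth.Agent.S9192.result D c hc j₀ f₀ (𝟙 _) f (𝟙 _) (c.π.app j₀) qX hY hX
  obtain ⟨Xj, fj, pX, sq, hfj⟩ := descendsLim_aux @Etale h
  exact ⟨i, φ, Xj, fj, pX, sq, hfj⟩

theorem descendsLim_smooth :
    DescendsLim (@Smooth : MorphismProperty Scheme.{u}) @LocallyOfFinitePresentation := by
  intro J _ _ D c hc hD j₀ hj₀ X₀ hX₀ f₀ hf₀ X f qX hX hf
  haveI := hD
  haveI := hj₀
  haveI := hX₀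
  haveI : LocallyOfFinitePresentation f₀ := hf₀
  haveI : Smooth f := hf
  have hY : IsPullback (c.π.app j₀) (𝟙 c.pt) (𝟙 (D.obj j₀)) (c.π.app j₀) :=
    IsPullback.id_vert (c.π.app j₀)
  obtain ⟨i, φ, h⟩ := Groth.Agent.S9191.result D c hc j₀ f₀ (𝟙 _) f (𝟙 _) (c.π.app j₀) qX hY hX
  obtain ⟨Xj, fj, pX, sq, hfj⟩ := descendsLim_aux @Smooth h
  exact ⟨i, φ, Xj, fj, pX, sq, hfj⟩

theorem descendsLim_flat :
    DescendsLim (@Flat : MorphismProperty Scheme.{u}) @LocallyOfFinitePresentation := by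
  intro J _ _ D c hc hD j₀ hj₀ X₀ hX₀ f₀ hf₀ X f qX hX hf
  haveI := hD
  haveI := hj₀
  haveI := hX₀
  haveI : LocallyOfFinitePresentation f₀ := hf₀
  haveI : Flat f := hf
  have hY : IsPullback (c.π.app j₀) (𝟙 c.pt) (𝟙 (D.obj j₀)) (c.π.app j₀) :=
    IsPullback.id_vert (c.π.app j₀)
  obtain ⟨i, φ, h⟩ := Groth.Agent.S2075.result D c hc j₀ f₀ (𝟙 _) f (𝟙 _) (c.π.app j₀) qX hY hX
  obtain ⟨Xj, fj, pX, sq, hfj⟩ := descendsLim_aux @Flat h
  exact ⟨i, φ, Xj, fj, pX, sq, hfj⟩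

end Groth.Agent.Helper2.LimDescend
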