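import Mathlib
import Groth.Agent.Lib.Helper2.AlgSp.LimDescendInst
import Groth.Agent.Lib.Helper2.AlgSp.PointsMor
import Groth.Agent.S2581

/-!
# Descending surjectivity through cofiltered limits of algebraic spaces (helper2)
-/

set_option autoImplicit false
set_option linter.style.haveILetI false
universe u

namespace Groth.Agent.Helper2.LimDescend
open CategoryTheory CategoryTheory.Limits AlgebraicGeometry Opposite AlgSp
open Groth.Agent.Helper2.AlgSpBasic Groth.Agent.Helper2.LimSys Groth.Agent.Helper2.EtaleLocal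

variable {S : Scheme.{u}}

theorem descendsLim_surjective :
    DescendsLim (@Surjective : MorphismProperty Scheme.{u}) @LocallyOfFinitePresentation := by
  intro J _ _ D c hc hD j₀ hj₀ X₀ hX₀ f₀ hf₀ X f qX hX hf
  haveI := hD
  haveI := hj₀
  haveI := hX₀
  haveI : LocallyOfFinitePresentation (f₀ ≫ 𝟙 (D.obj j₀)) := by
    rw [Category.comp_id]; exact hf₀
  haveI : QuasiCompact (f₀ ≫ 𝟙 (D.obj j₀)) := by
    rw [Category.comp_id]; infer_instance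
  haveI : QuasiSeparated (f₀ ≫ 𝟙 (D.obj j₀)) := by
    rw [Category.comp_id]; infer_instance
  haveI : Surjective f := hf
  have hY : IsPullback (c.π.app j₀) (𝟙 c.pt) (𝟙 (D.obj j₀)) (c.π.app j₀) :=
    IsPullback.id_vert (c.π.app j₀)
  obtain ⟨i, φ, h⟩ := Groth.Agent.S2581.result D c hc j₀ f₀ (𝟙 _) f (𝟙 _) (c.π.app j₀) qX hY hX
  obtain ⟨Xj, fj, pX, sq, hfj⟩ := descendsLim_aux @Surjective h
  exact ⟨i, φ, Xj, fj, pX, sq, hfj⟩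

/-- A three-dimensional pasting lemma for fibre-product charts. -/
theorem isPullback_fibre_charts {X₀ Y₀ X Y : Sp S} {f₀ : X₀ ⟶ Y₀} {f : X ⟶ Y} {pX : X ⟶ X₀}
    {pY : Y ⟶ Y₀} (hX : IsPullback pX f f₀ pY) {V₀ tV : Over S} {v₀ : (yon S).obj V₀ ⟶ Y₀}
    {b : (yon S).obj tV ⟶ Y} {qV : tV ⟶ V₀} (sqb : IsPullback b ((yon S).map qV) pY v₀)
    {P₀ Pz : Sp S} {p₁' : P₀ ⟶ X₀} {p₂' : P₀ ⟶ (yon S).obj V₀} (sq₀ : IsPullback p₁' p₂' f₀ v₀)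
    {p₁ : Pz ⟶ X} {p₂ : Pz ⟶ (yon S).obj tV} (sqz : IsPullback p₁ p₂ f b)
    (m : Pz ⟶ P₀) (hm1 : m ≫ p₁' = p₁ ≫ pX) (hm2 : m ≫ p₂' = p₂ ≫ (yon S).map qV) :
    IsPullback m p₁ p₁' pX := by
  have outer := sqz.flip.paste_horiz sqb.flip
  refine IsPullback.of_right ?_ hm1 sq₀.flip
  rw [hm2, hX.w]
  exact outer

/-- Surjectivity of a morphism of algebraic spaces implies surjectivity of the chart morphism,
for fibre-product charts. -/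
theorem surjective_chartHom {X₀ Y₀ X Y : Sp S} {f₀ : X₀ ⟶ Y₀} {f : X ⟶ Y} {pX : X ⟶ X₀}
    {pY : Y ⟶ Y₀} (hX : IsPullback pX f f₀ pY) {V₀ U₀ tV tU : Over S}
    {v₀ : (yon S).obj V₀ ⟶ Y₀} {a₀ : (yon S).obj U₀ ⟶ X₀} {h₀ : U₀ ⟶ V₀}
    (comm : a₀ ≫ f₀ = (yon S).map h₀ ≫ v₀)
    (hfp : ∀ (P : Sp S) (p₁ : P ⟶ X₀) (p₂ : P ⟶ (yon S).obj V₀), IsPullback p₁ p₂ f₀ v₀ →
        ∀ l : (yon S).obj U₀ ⟶ P, l ≫ p₁ = a₀ → l ≫ p₂ = (yon S).map h₀ →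
          RepWith @Etale l ∧ RepWith @Surjective l)
    {a : (yon S).obj tU ⟶ X} {b : (yon S).obj tV ⟶ Y} {qV : tV ⟶ V₀} {qU : tU ⟶ U₀}
    (sqb : IsPullback b ((yon S).map qV) pY v₀) (sqa : IsPullback a ((yon S).map qU) pX a₀)
    (η : tU ⟶ tV) (hab : a ≫ f = (yon S).map η ≫ b) (hη1 : η ≫ qV = qU ≫ h₀)
    (hf : IsSurjectiveMor f) : Surjective η.left := by
  -- the fibre products
  obtain ⟨P₀, p₁', p₂', sq₀⟩ : ∃ (P₀ : Sp S) (p₁' : P₀ ⟶ X₀) (p₂' : P₀ ⟶ (yon S).obj V₀),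
      IsPullback p₁' p₂' f₀ v₀ := ⟨_, _, _, IsPullback.of_hasPullback f₀ v₀⟩
  obtain ⟨Pz, p₁, p₂, sqz⟩ : ∃ (Pz : Sp S) (p₁ : Pz ⟶ X) (p₂ : Pz ⟶ (yon S).obj tV),
      IsPullback p₁ p₂ f b := ⟨_, _, _, IsPullback.of_hasPullback f b⟩
  obtain ⟨l₀, hl₀1, hl₀2⟩ : ∃ l₀ : (yon S).obj U₀ ⟶ P₀, l₀ ≫ p₁' = a₀ ∧
      l₀ ≫ p₂' = (yon S).map h₀ := ⟨sq₀.lift _ _ comm, sq₀.lift_fst _ _ _, sq₀.lift_snd _ _ _⟩
  obtain ⟨-, hl₀s⟩ := hfp P₀ p₁' p₂' sq₀ l₀ hl₀1 hl₀2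
  obtain ⟨l, hl1, hl2⟩ : ∃ l : (yon S).obj tU ⟶ Pz, l ≫ p₁ = a ∧ l ≫ p₂ = (yon S).map η :=
    ⟨sqz.lift _ _ hab, sqz.lift_fst _ _ _, sqz.lift_snd _ _ _⟩
  have hm0 : (p₁ ≫ pX) ≫ f₀ = (p₂ ≫ (yon S).map qV) ≫ v₀ := by
    rw [Category.assoc, hX.w, ← Category.assoc, sqz.w, Category.assoc, sqb.w, Category.assoc]
  obtain ⟨m, hm1, hm2⟩ : ∃ m : Pz ⟶ P₀, m ≫ p₁' = p₁ ≫ pX ∧ m ≫ p₂' = p₂ ≫ (yon S).map qV :=
    ⟨sq₀.lift _ _ hm0, sq₀.lift_fst _ _ _, sq₀.lift_snd _ _ _⟩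
  have sqm := isPullback_fibre_charts hX sqb sq₀ sqz m hm1 hm2
  have hlm : l ≫ m = (yon S).map qU ≫ l₀ := by
    apply sq₀.hom_ext
    · rw [Category.assoc, hm1, ← Category.assoc, hl1, Category.assoc, hl₀1]
      exact sqa.w
    · rw [Category.assoc, hm2, ← Category.assoc, hl2, Category.assoc, hl₀2, ← Functor.map_comp,
        ← Functor.map_comp, hη1]
  have sql : IsPullback l ((yon S).map qU) m l₀ := by
    refine IsPullback.of_right ?_ hlm sqm.flip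
    rw [hl1, hl₀1]
    exact sqa
  have hls : RepWith @Surjective l := repWith_of_isPullback @Surjective sql.flip hl₀s
  refine ⟨fun v => ?_⟩
  obtain ⟨x, hx⟩ := hf (Points.ofPt b v)
  have e : Points.map b (Points.ofScheme tV v) = Points.map f x := by
    rw [← Points.ofPt_eq_map_ofScheme, hx]
  obtain ⟨p, hp1, -⟩ := points_exists_of_isPullback f b p₂ p₁ sqz.flip _ x e
  obtain ⟨u, hu⟩ := surjective_ofPt l hls p
  refine ⟨u, ?_⟩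
  have h1 : Points.map p₂ (Points.ofPt l u) = Points.ofPt ((yon S).map η) u := by
    rw [Points.map_ofPt, hl2]
  have h2 := ofPt_yon_map_comp η (𝟙 _) u
  rw [Category.comp_id] at h2
  rw [hu, hp1, h2] at h1
  exact ((Points.schemeHomeo tV).injective h1).symm

/-- Conversely, surjectivity of the chart morphism implies surjectivity of the morphism. -/
theorem isSurjectiveMor_of_surjective_chartHom {Xi Yi : Sp S} {fi : Xi ⟶ Yi} {EU EV : Over S}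
    {a : (yon S).obj EU ⟶ Xi} {b : (yon S).obj EV ⟶ Yi} (hbs : RepWith @Surjective b)
    (η : EU ⟶ EV) (hab : a ≫ fi = (yon S).map η ≫ b) (hη : Surjective η.left) :
    IsSurjectiveMor fi := by
  intro y
  obtain ⟨v, rfl⟩ := surjective_ofPt b hbs y
  obtain ⟨u, rfl⟩ := hη.surj v
  refine ⟨Points.ofPt a u, ?_⟩
  rw [Points.map_ofPt, hab, ofPt_yon_map_comp]

/-- Generic form of `S10015`. -/
theorem descend_surjective [QuasiSeparatedSpace ↥S]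
    {I : Type u} [SmallCategory I] [IsCofiltered I] (D : I ⥤ Sp S)
    (hDa : ∀ (i j : I) (φ : i ⟶ j), IsAffineMor (D.map φ)) (c : Cone D) (hc : IsLimit c) (i₀ : I)
    (X₀ Y₀ : Space S) (f₀ : X₀.obj ⟶ Y₀.obj) (b₀ : Y₀.obj ⟶ D.obj i₀)
    (hXqc : IsQuasiCompactSp X₀.obj) (hYqc : IsQuasiCompactSp Y₀.obj)
    (hYqs : IsQuasiSeparatedSp Y₀.obj)
    (X Y : Sp S) (f : X ⟶ Y) (pY : Y ⟶ Y₀.obj) (qY : Y ⟶ c.pt)
    (hY : IsPullback pY qY b₀ (c.π.app i₀)) (pX : X ⟶ X₀.obj) (hX : IsPullback pX f f₀ pY)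
    (hf : IsSurjectiveMor f) (hf₀ : LocP @LocallyOfFinitePresentation f₀) :
    ∃ (i : I) (φ : i ⟶ i₀), ∀ (Xi Yi : Sp S) (fi : Xi ⟶ Yi) (pYi : Yi ⟶ Y₀.obj)
      (qYi : Yi ⟶ D.obj i) (_ : IsPullback pYi qYi b₀ (D.map φ)) (pXi : Xi ⟶ X₀.obj)
      (_ : IsPullback pXi fi f₀ pYi), IsSurjectiveMor fi := by
  obtain ⟨V₀, U₀, v₀, a₀, h₀, hV₀, hU₀, hv₀e, hv₀s, ha₀e, ha₀s, comm, hfp⟩ :=
    exists_base_charts X₀.property Y₀.property f₀ hXqc hYqc hYqs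
  have hQ : LocallyOfFinitePresentation h₀.left := hf₀ a₀ v₀ h₀ ha₀e hv₀e comm
  have hP : ∀ (tV tU : Over S) (topV : (yon S).obj tV ⟶ c.pt) (qV : tV ⟶ V₀)
      (topU : (yon S).obj tU ⟶ c.pt) (qU : tU ⟶ U₀),
      IsPullback topV ((yon S).map qV) (c.π.app i₀) (v₀ ≫ b₀) →
      IsPullback topU ((yon S).map qU) (c.π.app i₀) ((yon S).map h₀ ≫ v₀ ≫ b₀) →
      ∀ η : tU ⟶ tV, η ≫ qV = qU ≫ h₀ → (yon S).map η ≫ topV = topU → Surjective η.left := by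
    intro tV tU topV qV topU qU sqV sqU η hη1 hη2
    have hη := isPullback_chartHom sqV sqU η hη1 hη2
    obtain ⟨a, b, sqb, sqa, hab, -⟩ := exists_charts comm sqV hY hX η hη1 hη
    exact surjective_chartHom hX comm hfp sqb sqa η hab hη1 hf
  obtain ⟨j, hj⟩ := exists_stage D hDa i₀ (v₀ ≫ b₀) h₀ @Surjective @LocallyOfFinitePresentation
    descendsLim_surjective hV₀ hU₀ hQ c hc hP
  refine ⟨j.left, j.hom, fun Xi Yi fi pYi qYi sqYi pXi sqXi => ?_⟩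
  obtain ⟨a, b, sqb, sqa, hab, -⟩ := exists_charts comm (csSq D hDa i₀ (v₀ ≫ b₀) j) sqYi sqXi
    (csη D hDa i₀ (v₀ ≫ b₀) h₀ j) (csη_snd D hDa i₀ (v₀ ≫ b₀) h₀ j)
    (isPullback_csη D hDa i₀ (v₀ ≫ b₀) h₀ j)
  exact isSurjectiveMor_of_surjective_chartHom
    (repWith_of_isPullback @Surjective sqb.flip hv₀s) _ hab hj

end Groth.Agent.Helper2.LimDescend
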