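import Mathlib
import Groth.Agent.Lib.Helper2.AlgSp.LimDescend2
import Groth.Agent.Lib.Helper2.AlgSp.UnrInjW
import Groth.Agent.Lib.Helper2.LfpOfComp

/-!
# Descent through limits of algebraic spaces via the diagonal (helper2)

Universally injective morphisms, isomorphisms and monomorphisms.
-/

set_option autoImplicit false
set_option linter.style.haveILetI false
universe u

namespace Groth.Agent.Helper2.LimDescend
open CategoryTheory CategoryTheory.Limits AlgebraicGeometry Opposite AlgSp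
open Groth.Agent.Helper2.AlgSpBasic Groth.Agent.Helper2.LimSys Groth.Agent.Helper2.EtaleLocal

variable {S : Scheme.{u}}

/-! ### The diagonal -/

/-- The diagonal of a morphism locally of finite type is locally of finite presentation. -/
theorem locP_lfp_diagonal {X Y : Sp S} (hX : IsAlgSpace X) (hY : IsAlgSpace Y) (f : X ⟶ Y)
    (hf : LocP @LocallyOfFiniteType f) :
    LocP @LocallyOfFinitePresentation (pullback.diagonal f) := by
  have sq := IsPullback.of_hasPullback f f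
  have hPP : IsAlgSpace (pullback f f) := isAlgSpace_of_isPullback hY.diag hX hX f f _ _ sq
  have hsnd : LocP @LocallyOfFiniteType (pullback.snd f f) :=
    locP_of_isPullback _ hX hY hX hPP f f _ _ sq hf
  have hid : LocP @LocallyOfFinitePresentation (pullback.diagonal f ≫ pullback.snd f f) := by
    rw [pullback.diagonal_snd]
    exact locP_id _ hX.diag
  exact locP_of_comp' @LocallyOfFinitePresentation @LocallyOfFiniteType
    (fun A B C x y hxy hy => Groth.Agent.Helper2.locallyOfFinitePresentation_of_comp x y hy hxy)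
    hX hPP hX _ _ hid hsnd

/-- A morphism with quasi-separated source is quasi-separated. -/
theorem isQuasiSeparatedMor_of_isQuasiSeparatedSp {X Y : Sp S} (f : X ⟶ Y)
    (hX : IsQuasiSeparatedSp X) : IsQuasiSeparatedMor f := by
  have h2 : pullback.diagonal f ≫ prod.lift (pullback.fst f f) (pullback.snd f f) =
      Limits.diag X := by
    apply Limits.prod.hom_ext
    · rw [Category.assoc, prod.lift_fst, pullback.diagonal_fst]
      exact (prod.lift_fst _ _).symm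
    · rw [Category.assoc, prod.lift_snd, pullback.diagonal_snd]
      exact (prod.lift_snd _ _).symm
  haveI : Mono (prod.lift (pullback.fst f f) (pullback.snd f f)) := by
    refine ⟨fun a b hab => ?_⟩
    apply pullback.hom_ext
    · have := congrArg (· ≫ prod.fst) hab
      simpa only [Category.assoc, prod.lift_fst] using this
    · have := congrArg (· ≫ prod.snd) hab
      simpa only [Category.assoc, prod.lift_snd] using this
  have sqR : IsPullback (𝟙 _) (𝟙 _) (prod.lift (pullback.fst f f) (pullback.snd f f))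
      (prod.lift (pullback.fst f f) (pullback.snd f f)) := IsKernelPair.id_of_mono _
  have sq := (IsPullback.id_vert (pullback.diagonal f)).paste_horiz sqR
  rw [h2] at sq
  have h3 : RepWith @QuasiCompact (pullback.diagonal f ≫ 𝟙 _) :=
    repWith_of_isPullback @QuasiCompact sq.flip hX
  rw [Category.comp_id] at h3
  exact h3

/-- The source of a quasi-separated morphism to a quasi-separated space is quasi-separated. -/
theorem isQuasiSeparatedSp_of_isQuasiSeparatedMor' {X Y : Sp S} (f : X ⟶ Y)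
    (hf : IsQuasiSeparatedMor f) (hY : IsQuasiSeparatedSp Y) : IsQuasiSeparatedSp X := by
  have h1 : RepWith @QuasiCompact (prod.lift (pullback.fst f f) (pullback.snd f f)) :=
    repWith_of_isPullback @QuasiCompact (isPullback_prod_lift_diag f f).flip hY
  have h2 : pullback.diagonal f ≫ prod.lift (pullback.fst f f) (pullback.snd f f) =
      Limits.diag X := by
    apply Limits.prod.hom_ext
    · rw [Category.assoc, prod.lift_fst, pullback.diagonal_fst]
      exact (prod.lift_fst _ _).symm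
    · rw [Category.assoc, prod.lift_snd, pullback.diagonal_snd]
      exact (prod.lift_snd _ _).symm
  have h3 := repWith_comp @QuasiCompact hf h1
  rw [h2] at h3
  exact h3

/-- `X ×_Y X` is quasi-separated when `X` is. -/
theorem isQuasiSeparatedSp_pullback_self {X Y : Sp S} (f : X ⟶ Y) (hX : IsQuasiSeparatedSp X) :
    IsQuasiSeparatedSp (pullback f f) := by
  have hf := isQuasiSeparatedMor_of_isQuasiSeparatedSp f hX
  have h1 : IsQuasiSeparatedMor (pullback.snd f f) :=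
    repWith_diagonal_of_isPullback @QuasiCompact (IsPullback.of_hasPullback f f) hf
  exact isQuasiSeparatedSp_of_isQuasiSeparatedMor' _ h1 hX

/-- `X ×_Y X` is quasi-compact when `X` is quasi-compact and `Y` quasi-separated. -/
theorem isQuasiCompactSp_pullback_self [QuasiSeparatedSpace ↥S] {X Y : Sp S} (hX : IsAlgSpace X)
    (hY : IsAlgSpace Y) (f : X ⟶ Y) (hXqc : IsQuasiCompactSp X) (hYqs : IsQuasiSeparatedSp Y) :
    IsQuasiCompactSp (pullback f f) := by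
  obtain ⟨W₀, w₀, hW₀, hw₀e, hw₀s⟩ := (isQuasiCompactSp_iff_exists_affine_chart hX).1 hXqc
  obtain ⟨P, fst, snd, sqP⟩ := exists_isPullback_yon hY.diag (w₀ ≫ f) (w₀ ≫ f)
  haveI := hW₀
  haveI : CompactSpace ↥P.left :=
    compactSpace_of_isPullback_of_isQuasiSeparatedSp hYqs W₀ W₀ P (w₀ ≫ f) (w₀ ≫ f) fst snd sqP
  have sqZ := IsPullback.of_hasPullback f f
  have hZ : IsAlgSpace (pullback f f) := isAlgSpace_of_isPullback hY.diag hX hX f f _ _ sqZ
  have sqA := IsPullback.of_hasPullback (pullback.fst f f) w₀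
  have hA : IsAlgSpace (pullback (pullback.fst f f) w₀) :=
    isAlgSpace_of_isPullback hX.diag hZ (IsAlgSpace.yon_obj W₀) _ _ _ _ sqA
  have sqA' := sqA.flip.paste_vert sqZ
  have sqB := IsPullback.of_hasPullback
    (pullback.fst (pullback.fst f f) w₀ ≫ pullback.snd f f) w₀
  have hB : IsAlgSpace (pullback (pullback.fst (pullback.fst f f) w₀ ≫ pullback.snd f f) w₀) :=
    isAlgSpace_of_isPullback hX.diag hA (IsAlgSpace.yon_obj W₀) _ _ _ _ sqB
  have sqB' := sqB.flip.paste_vert sqA'.flip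
  have hBqc : IsQuasiCompactSp
      (pullback (pullback.fst (pullback.fst f f) w₀ ≫ pullback.snd f f) w₀) :=
    isQuasiCompactSp_of_iso (IsAlgSpace.yon_obj P) hB (sqP.isoIsPullback _ _ sqB')
      ((isQuasiCompactSp_yon_iff P).mpr inferInstance)
  have hsA : IsSurjectiveMor (pullback.fst (pullback.fst f f) w₀) :=
    isSurjectiveMor_fst_of_isPullback sqA hw₀s
  have hsB : IsSurjectiveMor
      (pullback.fst (pullback.fst (pullback.fst f f) w₀ ≫ pullback.snd f f) w₀) :=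
    isSurjectiveMor_fst_of_isPullback sqB hw₀s
  have hs : IsSurjectiveMor
      (pullback.fst (pullback.fst (pullback.fst f f) w₀ ≫ pullback.snd f f) w₀ ≫
        pullback.fst (pullback.fst f f) w₀) := by
    intro z
    obtain ⟨a, rfl⟩ := hsA z
    obtain ⟨b, rfl⟩ := hsB a
    exact ⟨b, Points.map_comp _ _ _⟩
  exact isQuasiCompactSp_of_isSurjectiveMor hB hZ _ hs hBqc

/-! ### The descent interface for morphisms of algebraic spaces -/

/-- `Pr` descends through cofiltered limits of algebraic spaces with affine transition maps, for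
morphisms `f₀` with `LocP Q f₀`. -/
def DescendsSp (S : Scheme.{u}) (Pr : MorphismProperty (Sp S))
    (Q : MorphismProperty Scheme.{u}) : Prop :=
  ∀ {I : Type u} [SmallCategory I] [IsCofiltered I] (D : I ⥤ Sp S)
    (_ : ∀ i, IsAlgSpace (D.obj i))
    (_ : ∀ (i j : I) (φ : i ⟶ j), IsAffineMor (D.map φ)) (c : Cone D) (_ : IsLimit c) (i₀ : I)
    (_ : IsQuasiCompactSp (D.obj i₀)) (_ : IsQuasiSeparatedSp (D.obj i₀))
    (X₀ Y₀ : Space S) (f₀ : X₀.obj ⟶ Y₀.obj) (b₀ : Y₀.obj ⟶ D.obj i₀)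
    (_ : IsQuasiCompactSp X₀.obj) (_ : IsQuasiSeparatedSp X₀.obj)
    (_ : IsQuasiCompactSp Y₀.obj) (_ : IsQuasiSeparatedSp Y₀.obj)
    (X Y : Sp S) (f : X ⟶ Y) (pY : Y ⟶ Y₀.obj) (qY : Y ⟶ c.pt)
    (_ : IsPullback pY qY b₀ (c.π.app i₀)) (pX : X ⟶ X₀.obj) (_ : IsPullback pX f f₀ pY)
    (_ : Pr f) (_ : LocP Q f₀),
    ∃ (i : I) (φ : i ⟶ i₀), ∀ (Xi Yi : Sp S) (fi : Xi ⟶ Yi) (pYi : Yi ⟶ Y₀.obj)
      (qYi : Yi ⟶ D.obj i) (_ : IsPullback pYi qYi b₀ (D.map φ)) (pXi : Xi ⟶ X₀.obj)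
      (_ : IsPullback pXi fi f₀ pYi), Pr fi

theorem DescendsSp.mono_right {Pr : MorphismProperty (Sp S)} {Q Q' : MorphismProperty Scheme.{u}}
    (h : DescendsSp S Pr Q) (hQ : Q' ≤ Q) : DescendsSp S Pr Q' := by
  intro I _ _ D hD hDa c hc i₀ hBqc hBqs X₀ Y₀ f₀ b₀ hXqc hXqs hYqc hYqs X Y f pY qY hY pX hX
    hf hf₀
  exact h D hD hDa c hc i₀ hBqc hBqs X₀ Y₀ f₀ b₀ hXqc hXqs hYqc hYqs X Y f pY qY hY pX hX
    hf (locP_mono hQ hf₀)

/-- Base change stability among algebraic spaces. -/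
def StableBCSp (Pr : MorphismProperty (Sp S)) : Prop :=
  ∀ {A B A' B' : Sp S}, IsAlgSpace A → IsAlgSpace B → IsAlgSpace A' → IsAlgSpace B' →
    ∀ (f : A ⟶ B) (g : B' ⟶ B) (fst : A' ⟶ A) (f' : A' ⟶ B'), IsPullback fst f' f g → Pr f → Pr f'

/-- Passing to a smaller index. -/
theorem stage_transfer {I : Type u} [SmallCategory I] (D : I ⥤ Sp S)
    (hD : ∀ i, IsAlgSpace (D.obj i)) {i₀ i₁ i : I} (φ₁ : i₁ ⟶ i₀) (ψ : i ⟶ i₁)
    {X₀ Y₀ : Space S} (f₀ : X₀.obj ⟶ Y₀.obj) (b₀ : Y₀.obj ⟶ D.obj i₀)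
    {Pr : MorphismProperty (Sp S)} (hBC : StableBCSp Pr)
    (H : ∀ (Xi Yi : Sp S) (fi : Xi ⟶ Yi) (pYi : Yi ⟶ Y₀.obj) (qYi : Yi ⟶ D.obj i₁)
      (_ : IsPullback pYi qYi b₀ (D.map φ₁)) (pXi : Xi ⟶ X₀.obj)
      (_ : IsPullback pXi fi f₀ pYi), Pr fi) :
    ∀ (Xi Yi : Sp S) (fi : Xi ⟶ Yi) (pYi : Yi ⟶ Y₀.obj) (qYi : Yi ⟶ D.obj i)
      (_ : IsPullback pYi qYi b₀ (D.map (ψ ≫ φ₁))) (pXi : Xi ⟶ X₀.obj)
      (_ : IsPullback pXi fi f₀ pYi), Pr fi := by
  intro Xi Yi fi pYi qYi sqYi pXi sqXi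
  have sqYk := IsPullback.of_hasPullback b₀ (D.map φ₁)
  have sqXk := IsPullback.of_hasPullback f₀ (pullback.fst b₀ (D.map φ₁))
  have hfk := H _ _ _ _ _ sqYk _ sqXk
  have hYk : IsAlgSpace (pullback b₀ (D.map φ₁)) :=
    isAlgSpace_of_isPullback (hD i₀).diag Y₀.property (hD i₁) _ _ _ _ sqYk
  have hXk : IsAlgSpace (pullback f₀ (pullback.fst b₀ (D.map φ₁))) :=
    isAlgSpace_of_isPullback Y₀.property.diag X₀.property hYk _ _ _ _ sqXk
  have hYi : IsAlgSpace Yi :=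
    isAlgSpace_of_isPullback (hD i₀).diag Y₀.property (hD i) _ _ _ _ sqYi
  have hXi : IsAlgSpace Xi :=
    isAlgSpace_of_isPullback Y₀.property.diag X₀.property hYi _ _ _ _ sqXi
  have hm0 : pYi ≫ b₀ = (qYi ≫ D.map ψ) ≫ D.map φ₁ := by
    rw [Category.assoc, ← D.map_comp]
    exact sqYi.w
  obtain ⟨m, hm1, hm2⟩ : ∃ m : Yi ⟶ pullback b₀ (D.map φ₁),
      m ≫ pullback.fst b₀ (D.map φ₁) = pYi ∧
      m ≫ pullback.snd b₀ (D.map φ₁) = qYi ≫ D.map ψ :=
    ⟨pullback.lift _ _ hm0, pullback.lift_fst _ _ _, pullback.lift_snd _ _ _⟩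
  have hn0 : pXi ≫ f₀ = (fi ≫ m) ≫ pullback.fst b₀ (D.map φ₁) := by
    rw [Category.assoc, hm1]
    exact sqXi.w
  obtain ⟨n, hn1, hn2⟩ : ∃ n : Xi ⟶ pullback f₀ (pullback.fst b₀ (D.map φ₁)),
      n ≫ pullback.fst f₀ (pullback.fst b₀ (D.map φ₁)) = pXi ∧
      n ≫ pullback.snd f₀ (pullback.fst b₀ (D.map φ₁)) = fi ≫ m :=
    ⟨pullback.lift _ _ hn0, pullback.lift_fst _ _ _, pullback.lift_snd _ _ _⟩
  have sq : IsPullback n fi (pullback.snd f₀ (pullback.fst b₀ (D.map φ₁))) m := by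
    refine IsPullback.of_right ?_ hn2 sqXk
    rw [hn1, hm1]
    exact sqXi
  exact hBC hXk hYk hXi hYi _ _ _ _ sq hfk

/-- Conjunctions descend. -/
theorem DescendsSp.inf {Pr₁ Pr₂ : MorphismProperty (Sp S)} {Q : MorphismProperty Scheme.{u}}
    (h₁ : DescendsSp S Pr₁ Q) (h₂ : DescendsSp S Pr₂ Q) (hBC₁ : StableBCSp Pr₁)
    (hBC₂ : StableBCSp Pr₂) : DescendsSp S (Pr₁ ⊓ Pr₂) Q := by
  intro I _ _ D hD hDa c hc i₀ hBqc hBqs X₀ Y₀ f₀ b₀ hXqc hXqs hYqc hYqs X Y f pY qY hY pX hX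
    hf hf₀
  obtain ⟨i₁, φ₁, H₁⟩ := h₁ D hD hDa c hc i₀ hBqc hBqs X₀ Y₀ f₀ b₀ hXqc hXqs hYqc hYqs X Y f pY
    qY hY pX hX hf.1 hf₀
  obtain ⟨i₂, φ₂, H₂⟩ := h₂ D hD hDa c hc i₀ hBqc hBqs X₀ Y₀ f₀ b₀ hXqc hXqs hYqc hYqs X Y f pY
    qY hY pX hX hf.2 hf₀
  obtain ⟨i, ψ₁, ψ₂, e⟩ := IsCofiltered.cospan φ₁ φ₂
  refine ⟨i, ψ₁ ≫ φ₁, fun Xi Yi fi pYi qYi sqYi pXi sqXi => ⟨?_, ?_⟩⟩
  · exact stage_transfer D hD φ₁ ψ₁ f₀ b₀ hBC₁ H₁ Xi Yi fi pYi qYi sqYi pXi sqXi
  · rw [e] at sqYi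
    exact stage_transfer D hD φ₂ ψ₂ f₀ b₀ hBC₂ H₂ Xi Yi fi pYi qYi sqYi pXi sqXi

/-- Consequences descend. -/
theorem DescendsSp.of_iff {Pr Pr' : MorphismProperty (Sp S)} {Q : MorphismProperty Scheme.{u}}
    (h : DescendsSp S Pr' Q)
    (h1 : ∀ {X Y : Sp S}, IsAlgSpace X → IsAlgSpace Y → ∀ f : X ⟶ Y, Pr f → Pr' f)
    (h2 : ∀ {X Y : Sp S}, IsAlgSpace X → IsAlgSpace Y → ∀ f : X ⟶ Y, Pr' f → Pr f) :
    DescendsSp S Pr Q := by
  intro I _ _ D hD hDa c hc i₀ hBqc hBqs X₀ Y₀ f₀ b₀ hXqc hXqs hYqc hYqs X Y f pY qY hY pX hX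
    hf hf₀
  have hB : IsAlgSpace c.pt := isAlgSpace_limit D hDa hD c hc
  have hYa : IsAlgSpace Y := isAlgSpace_of_isPullback (hD i₀).diag Y₀.property hB _ _ _ _ hY
  have hXa : IsAlgSpace X :=
    isAlgSpace_of_isPullback Y₀.property.diag X₀.property hYa _ _ _ _ hX
  obtain ⟨i, φ, H⟩ := h D hD hDa c hc i₀ hBqc hBqs X₀ Y₀ f₀ b₀ hXqc hXqs hYqc hYqs X Y f pY
    qY hY pX hX (h1 hXa hYa f hf) hf₀
  refine ⟨i, φ, fun Xi Yi fi pYi qYi sqYi pXi sqXi => ?_⟩
  have hYi : IsAlgSpace Yi :=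
    isAlgSpace_of_isPullback (hD i₀).diag Y₀.property (hD i) _ _ _ _ sqYi
  have hXi : IsAlgSpace Xi :=
    isAlgSpace_of_isPullback Y₀.property.diag X₀.property hYi _ _ _ _ sqXi
  exact h2 hXi hYi fi (H Xi Yi fi pYi qYi sqYi pXi sqXi)

/-- If `Pr'` descends for morphisms locally of finite presentation, and `Pr f` is equivalent to
`Pr' Δ_f`, then `Pr` descends for morphisms locally of finite type. -/
theorem DescendsSp.diagonal [QuasiSeparatedSpace ↥S] {Pr Pr' : MorphismProperty (Sp S)}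
    (hPr' : DescendsSp S Pr' @LocallyOfFinitePresentation)
    (h1 : ∀ {X Y : Sp S}, IsAlgSpace X → IsAlgSpace Y → ∀ f : X ⟶ Y, Pr f →
      Pr' (pullback.diagonal f))
    (h2 : ∀ {X Y : Sp S}, IsAlgSpace X → IsAlgSpace Y → ∀ f : X ⟶ Y,
      Pr' (pullback.diagonal f) → Pr f) :
    DescendsSp S Pr @LocallyOfFiniteType := by
  intro I _ _ D hD hDa c hc i₀ hBqc hBqs X₀ Y₀ f₀ b₀ hXqc hXqs hYqc hYqs X Y f pY qY hY pX hX
    hf hf₀
  have hZ₀ : IsAlgSpace (pullback f₀ f₀) :=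
    isAlgSpace_of_isPullback Y₀.property.diag X₀.property X₀.property f₀ f₀ _ _
      (IsPullback.of_hasPullback f₀ f₀)
  have hB : IsAlgSpace c.pt := isAlgSpace_limit D hDa hD c hc
  have hYa : IsAlgSpace Y := isAlgSpace_of_isPullback (hD i₀).diag Y₀.property hB _ _ _ _ hY
  have hXa : IsAlgSpace X :=
    isAlgSpace_of_isPullback Y₀.property.diag X₀.property hYa _ _ _ _ hX
  have sqZ : IsPullback (pullback.map f f f₀ f₀ pX pX pY hX.w.symm hX.w.symm)
      (pullback.fst f f ≫ f ≫ qY) (pullback.fst f₀ f₀ ≫ f₀ ≫ b₀) (c.π.app i₀) := by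
    have := (isPullback_map_of_isPullback hX).paste_vert hY
    simpa only [Category.assoc] using this
  obtain ⟨i, φ, H⟩ := hPr' D hD hDa c hc i₀ hBqc hBqs X₀ ⟨pullback f₀ f₀, hZ₀⟩
    (pullback.diagonal f₀) (pullback.fst f₀ f₀ ≫ f₀ ≫ b₀) hXqc hXqs
    (isQuasiCompactSp_pullback_self X₀.property Y₀.property f₀ hXqc hYqs)
    (isQuasiSeparatedSp_pullback_self f₀ hXqs)
    X (pullback f f) (pullback.diagonal f)
    (pullback.map f f f₀ f₀ pX pX pY hX.w.symm hX.w.symm) (pullback.fst f f ≫ f ≫ qY) sqZ pX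
    (isPullback_diagonal_of_isPullback hX) (h1 hXa hYa f hf)
    (locP_lfp_diagonal X₀.property Y₀.property f₀ hf₀)
  refine ⟨i, φ, fun Xi Yi fi pYi qYi sqYi pXi sqXi => ?_⟩
  have hYi : IsAlgSpace Yi :=
    isAlgSpace_of_isPullback (hD i₀).diag Y₀.property (hD i) _ _ _ _ sqYi
  have hXi : IsAlgSpace Xi :=
    isAlgSpace_of_isPullback Y₀.property.diag X₀.property hYi _ _ _ _ sqXi
  apply h2 hXi hYi
  have sqZi : IsPullback (pullback.map fi fi f₀ f₀ pXi pXi pYi sqXi.w.symm sqXi.w.symm)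
      (pullback.fst fi fi ≫ fi ≫ qYi) (pullback.fst f₀ f₀ ≫ f₀ ≫ b₀) (D.map φ) := by
    have := (isPullback_map_of_isPullback sqXi).paste_vert sqYi
    simpa only [Category.assoc] using this
  exact H Xi (pullback fi fi) (pullback.diagonal fi)
    (pullback.map fi fi f₀ f₀ pXi pXi pYi sqXi.w.symm sqXi.w.symm)
    (pullback.fst fi fi ≫ fi ≫ qYi) sqZi pXi (isPullback_diagonal_of_isPullback sqXi)

end Groth.Agent.Helper2.LimDescend
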