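import Mathlib
import Groth.Agent.Lib.Helper2.AlgSp.LimDiag

/-!
# Descent through limits of algebraic spaces: surjective, étale, universally injective,
isomorphisms, monomorphisms (helper2)
-/

set_option autoImplicit false
set_option linter.style.haveILetI false
universe u

namespace Groth.Agent.Helper2.LimDescend
open CategoryTheory CategoryTheory.Limits AlgebraicGeometry Opposite AlgSp
open Groth.Agent.Helper2.AlgSpBasic Groth.Agent.Helper2.LimSys Groth.Agent.Helper2.EtaleLocal
open Groth.Agent.Helper2.UnrAtSp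

variable {S : Scheme.{u}}

theorem descendsSp_surjective [QuasiSeparatedSpace ↥S] :
    DescendsSp S IsSurjectiveMor @LocallyOfFinitePresentation := by
  intro I _ _ D hD hDa c hc i₀ hBqc hBqs X₀ Y₀ f₀ b₀ hXqc hXqs hYqc hYqs X Y f pY qY hY pX hX
    hf hf₀
  exact descend_surjective D hDa c hc i₀ X₀ Y₀ f₀ b₀ hXqc hYqc hYqs X Y f pY qY hY pX hX hf hf₀

theorem descendsSp_etale [QuasiSeparatedSpace ↥S] :
    DescendsSp S (LocP @Etale) @LocallyOfFinitePresentation := by
  intro I _ _ D hD hDa c hc i₀ hBqc hBqs X₀ Y₀ f₀ b₀ hXqc hXqs hYqc hYqs X Y f pY qY hY pX hX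
    hf hf₀
  exact descend_locP @Etale @LocallyOfFinitePresentation descendsLim_etale D hD hDa c hc i₀
    X₀ Y₀ f₀ b₀ hXqc hYqc hYqs X Y f pY qY hY pX hX hf hf₀

theorem descendsSp_univInjective [QuasiSeparatedSpace ↥S] :
    DescendsSp S IsUnivInjectiveMor @LocallyOfFiniteType :=
  DescendsSp.diagonal descendsSp_surjective
    (fun hX _ f h => surjective_diagonal_of_isUnivInjectiveMor hX f h)
    (fun _ _ f h => isUnivInjectiveMor_of_surjective_diagonal f h)

theorem stableBCSp_etale : StableBCSp (S := S) (LocP @Etale) :=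
  fun hA hB hA' hB' f g fst f' sq hf => locP_of_isPullback @Etale hA hB hB' hA' f g fst f' sq hf

theorem stableBCSp_surjective : StableBCSp (S := S) IsSurjectiveMor :=
  fun _ _ _ _ f g fst f' sq hf => isSurjectiveMor_of_isPullback f g fst f' sq hf

theorem stableBCSp_univInjective : StableBCSp (S := S) IsUnivInjectiveMor := by
  intro A B A' B' _ _ _ _ f g fst f' sq hf Z Z' hZ g' fst' snd' sq'
  exact hf hZ (g' ≫ g) (fst' ≫ fst) snd' (sq'.paste_horiz sq)

theorem isUnivInjectiveMor_of_isIso {X Y : Sp S} (f : X ⟶ Y) [IsIso f] :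
    IsUnivInjectiveMor f := by
  intro Z Z' _ g fst snd sq
  haveI : IsIso snd := sq.isIso_snd_of_isIso
  intro a b hab
  have := congrArg (Points.map (inv snd)) hab
  rwa [← Points.map_comp, ← Points.map_comp, IsIso.hom_inv_id, Points.map_id,
    Points.map_id] at this

theorem mono_of_isIso_diagonal {C : Type*} [Category C] [HasPullbacks C] {X Y : C} (f : X ⟶ Y)
    [IsIso (pullback.diagonal f)] : Mono f := by
  haveI : IsIso (pullback.fst f f) := IsIso.of_isIso_fac_left (pullback.diagonal_fst f)
  have h : IsKernelPair f (pullback.fst f f) (pullback.snd f f) := IsPullback.of_hasPullback f f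
  exact h.mono_of_isIso_fst

theorem isIso_of_etale_surjective_univInjective {X Y : Sp S} (hX : IsAlgSpace X)
    (hY : IsAlgSpace Y) (f : X ⟶ Y) (he : LocP @Etale f) (hs : IsSurjectiveMor f)
    (hi : IsUnivInjectiveMor f) : IsIso f := by
  have hPP : IsAlgSpace (pullback f f) :=
    isAlgSpace_of_isPullback hY.diag hX hX f f _ _ (IsPullback.of_hasPullback f f)
  have hu : LocP (@LocallyOfFiniteType ⊓ @FormallyUnramified) f :=
    locP_mono (fun A B g (hg : Etale g) => ⟨inferInstance, inferInstance⟩) he
  have hΔo := repWith_isOpenImmersion_diagonal_of_unramified hX hY f hu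
  obtain ⟨hΔm, hΔe⟩ := (repWith_isOpenImmersion_iff hX hPP _).1 hΔo
  have hΔs := surjective_diagonal_of_isUnivInjectiveMor hX f hi
  haveI : IsIso (pullback.diagonal f) :=
    (isIso_iff_mono_etale_surjective hX hPP _).2 ⟨hΔm, hΔe, hΔs⟩
  haveI : Mono f := mono_of_isIso_diagonal f
  exact (isIso_iff_mono_etale_surjective hX hY f).2 ⟨inferInstance, he, hs⟩

theorem descendsSp_etale_surjective_univInjective [QuasiSeparatedSpace ↥S] :
    DescendsSp S ((LocP @Etale ⊓ IsSurjectiveMor) ⊓ IsUnivInjectiveMor)
      @LocallyOfFinitePresentation :=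
  DescendsSp.inf
    (DescendsSp.inf descendsSp_etale descendsSp_surjective stableBCSp_etale
      stableBCSp_surjective)
    (DescendsSp.mono_right descendsSp_univInjective
      (fun A B g (hg : LocallyOfFinitePresentation g) =>
        (inferInstance : LocallyOfFiniteType g)))
    (fun hA hB hA' hB' f g fst f' sq hf =>
      ⟨stableBCSp_etale hA hB hA' hB' f g fst f' sq hf.1,
        stableBCSp_surjective hA hB hA' hB' f g fst f' sq hf.2⟩)
    stableBCSp_univInjective

theorem descendsSp_isIso [QuasiSeparatedSpace ↥S] :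
    DescendsSp S (fun _ _ f => IsIso f) @LocallyOfFinitePresentation :=
  DescendsSp.of_iff descendsSp_etale_surjective_univInjective
    (fun {X Y} hX hY f (hf : IsIso f) =>
      ⟨⟨locP_of_isIso @Etale hY.diag f, isSurjectiveMor_of_isIso f⟩,
        isUnivInjectiveMor_of_isIso f⟩)
    (fun {X Y} hX hY f hf =>
      isIso_of_etale_surjective_univInjective hX hY f hf.1.1 hf.1.2 hf.2)

theorem descendsSp_mono [QuasiSeparatedSpace ↥S] :
    DescendsSp S (fun _ _ f => Mono f) @LocallyOfFiniteType :=
  DescendsSp.diagonal (Pr' := fun _ _ f => IsIso f) descendsSp_isIso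
    (fun {X Y} _ _ f (hf : Mono f) => (inferInstance : IsIso (pullback.diagonal f)))
    (fun {X Y} _ _ f (hf : IsIso (pullback.diagonal f)) => mono_of_isIso_diagonal f)

end Groth.Agent.Helper2.LimDescend
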