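import Mathlib
import Groth.Agent.Lib.Helper2.AlgSp.LimClosedStage

/-!
# An immersion into a limit of algebraic spaces is an immersion into a stage (helper2)
-/

set_option autoImplicit false
set_option linter.style.haveILetI false
universe u

namespace Groth.Agent.Helper2.LimImmStage
open CategoryTheory CategoryTheory.Limits AlgebraicGeometry Opposite AlgSp
open Groth.Agent.Helper2.AlgSpBasic Groth.Agent.Helper2.LimSys Groth.Agent.Helper2.LimDescend
open Groth.Agent.Helper2.LimClosedStage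

variable {S : Scheme.{u}}

/-- Scheme-valued wrapper of `S2076`. -/
theorem exists_isClosedImmersion_stage' {J : Type u} [SmallCategory J] [IsCofiltered J]
    (F : J ⥤ Scheme.{u}) (tV : Cone F) (htV : IsLimit tV)
    (haff : ∀ {a b : J} (f : a ⟶ b), IsAffineHom (F.map f))
    (hcpt : ∀ k, CompactSpace ↥(F.obj k))
    (W : Scheme.{u}) (s : ∀ k, F.obj k ⟶ W)
    (hs : ∀ {k' k : J} (u : k' ⟶ k), F.map u ≫ s k = s k')
    (p : tV.pt ⟶ W) (hp : ∀ k, tV.π.app k ≫ s k = p)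
    {Y : Scheme.{u}} (w : Y ⟶ tV.pt) [IsClosedImmersion w]
    (hlft : LocallyOfFiniteType (w ≫ p)) :
    ∃ k, IsClosedImmersion (w ≫ tV.π.app k) := by
  haveI : IsConnected J := IsCofiltered.isConnected J
  let sN : F ⟶ (Functor.const J).obj W :=
    { app := s
      naturality := fun k' k u => by
        rw [Functor.const_obj_map]
        exact (hs u).trans (Category.comp_id _).symm }
  have hlim := Over.isLimitLiftCone F sN tV p hp htV
  exact @Groth.Agent.S2076.result J _ _ W (Over.lift F sN)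
    (Over.liftCone F sN tV p hp) hlim
    (fun i j f => haff f) hcpt Y w ‹IsClosedImmersion w› hlft

/-- A closed immersion into an open followed by the open immersion is an immersion. -/
theorem isImmersion_aux {Y P Q X Xj : Scheme.{u}} (w' : Y ⟶ P) (ι : P ⟶ X) (w : Y ⟶ X)
    (hw' : w' ≫ ι = w) (πj : X ⟶ Xj) (r : P ⟶ Q) (ιj : Q ⟶ Xj) (h : r ≫ ιj = ι ≫ πj)
    (hcl : IsClosedImmersion (w' ≫ r)) (ho : IsOpenImmersion ιj) : IsImmersion (w ≫ πj) := by
  have e : w ≫ πj = (w' ≫ r) ≫ ιj := by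
    rw [← hw', Category.assoc, Category.assoc, h]
  rw [e]
  infer_instance

/-- Scheme level: an immersion from a quasi-compact scheme into a cofiltered limit with affine
transition maps is eventually an immersion into the stages. -/
theorem exists_isImmersion_stage {J : Type u} [SmallCategory J] [IsCofiltered J]
    (F : J ⥤ Scheme.{u}) (cV : Cone F) (hcV : IsLimit cV)
    [∀ {a b : J} (f : a ⟶ b), IsAffineHom (F.map f)]
    (W : Scheme.{u}) (s : ∀ k, F.obj k ⟶ W)
    (hs : ∀ {k' k : J} (u : k' ⟶ k), F.map u ≫ s k = s k')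
    (p : cV.pt ⟶ W) (hp : ∀ k, cV.π.app k ≫ s k = p)
    {Y : Scheme.{u}} [CompactSpace ↥Y] (w : Y ⟶ cV.pt) [IsImmersion w]
    (hlft : LocallyOfFiniteType (w ≫ p)) :
    ∃ k, ∀ (k' : J) (_ : k' ⟶ k), IsImmersion (w ≫ cV.π.app k') := by
  obtain ⟨U1, hU1c, hU1o, hwU1, hU1U⟩ := PrespectralSpace.exists_isCompact_and_isOpen_between
    (isCompact_range w.continuous) w.coborderRange.2
    (show Set.range w ⊆ (w.coborderRange : Set ↥cV.pt) from subset_coborder)
  obtain ⟨k, Uk, hUkc, hUk⟩ := exists_preimage_eq F cV hcV ⟨U1, hU1o⟩ hU1c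
  have hlim := isLimitOpensCone F cV hcV k Uk
  have hrange : Set.range w ⊆ Set.range (cV.π.app k ⁻¹ᵁ Uk).ι := by
    rw [Scheme.Opens.range_ι, hUk]
    exact hwU1
  obtain ⟨w', hw'⟩ : ∃ w' : Y ⟶ (opensCone F cV k Uk).pt,
      w' ≫ (cV.π.app k ⁻¹ᵁ Uk).ι = w := by
    have h0 := IsOpenImmersion.lift_fac (cV.π.app k ⁻¹ᵁ Uk).ι w hrange
    exact ⟨_, h0⟩
  haveI : IsImmersion (w' ≫ (cV.π.app k ⁻¹ᵁ Uk).ι) := by rw [hw']; infer_instance
  haveI : IsImmersion w' := IsImmersion.of_comp w' (cV.π.app k ⁻¹ᵁ Uk).ι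
  have hcl : IsClosed (Set.range w') := by
    have e : Set.range w' = (cV.π.app k ⁻¹ᵁ Uk).ι ⁻¹' (closure (Set.range w)) := by
      ext x
      constructor
      · rintro ⟨y, rfl⟩
        apply subset_closure
        refine ⟨y, ?_⟩
        rw [← hw']
        rfl
      · intro hx
        have hx0 : (cV.π.app k ⁻¹ᵁ Uk).ι x ∈ U1 :=
          (SetLike.ext_iff.mp hUk ((cV.π.app k ⁻¹ᵁ Uk).ι x)).mp x.2
        have hx1 : (cV.π.app k ⁻¹ᵁ Uk).ι x ∈ coborder (Set.range w) := hU1U hx0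
        have hx2 : (cV.π.app k ⁻¹ᵁ Uk).ι x ∈ Set.range w := by
          by_contra h
          exact hx1 ⟨hx, h⟩
        obtain ⟨y, hy⟩ := hx2
        refine ⟨y, ?_⟩
        apply (cV.π.app k ⁻¹ᵁ Uk).ι.isEmbedding.injective
        rw [← hy, ← hw']
        rfl
    rw [e]
    exact isClosed_closure.preimage (cV.π.app k ⁻¹ᵁ Uk).ι.continuous
  haveI : IsClosedImmersion w' := IsClosedImmersion.of_isPreimmersion w' hcl
  have hcpt : ∀ j : Over k, CompactSpace ↥((opensDiagram F k Uk).obj j) := fun j =>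
    isCompact_iff_compactSpace.mp
      (QuasiCompact.isCompact_preimage (f := (F.map j.hom)) _ Uk.2 hUkc)
  have hs' : ∀ {j' j : Over k} (u : j' ⟶ j), (opensDiagram F k Uk).map u ≫
      ((F.map j.hom ⁻¹ᵁ Uk).ι ≫ s j.left) = (F.map j'.hom ⁻¹ᵁ Uk).ι ≫ s j'.left := by
    intro j' j u
    erw [Scheme.Hom.resLE_comp_ι_assoc]
    rw [hs]
  have hp' : ∀ j : Over k, (opensCone F cV k Uk).π.app j ≫
      ((F.map j.hom ⁻¹ᵁ Uk).ι ≫ s j.left) = (cV.π.app k ⁻¹ᵁ Uk).ι ≫ p := by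
    intro j
    erw [Scheme.Hom.resLE_comp_ι_assoc]
    rw [hp]
  obtain ⟨j, hj⟩ := exists_isClosedImmersion_stage' (opensDiagram F k Uk) (opensCone F cV k Uk)
    hlim (fun f => inferInstance) hcpt W
    (fun j => (F.map j.hom ⁻¹ᵁ Uk).ι ≫ s j.left) hs'
    ((cV.π.app k ⁻¹ᵁ Uk).ι ≫ p) hp'
    w' (by rw [← Category.assoc, hw']; exact hlft)
  have hj' : IsImmersion (w ≫ cV.π.app j.left) := by
    have h1 : (opensCone F cV k Uk).π.app j ≫ (F.map j.hom ⁻¹ᵁ Uk).ι =
        (cV.π.app k ⁻¹ᵁ Uk).ι ≫ cV.π.app j.left := by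
      erw [Scheme.Hom.resLE_comp_ι]
    exact isImmersion_aux w' (cV.π.app k ⁻¹ᵁ Uk).ι w hw' (cV.π.app j.left)
      ((opensCone F cV k Uk).π.app j) (F.map j.hom ⁻¹ᵁ Uk).ι h1 hj
      (inferInstance : IsOpenImmersion (F.map j.hom ⁻¹ᵁ Uk).ι)
  refine ⟨j.left, fun k' u => ?_⟩
  haveI : IsImmersion ((w ≫ cV.π.app k') ≫ F.map u) := by
    rw [Category.assoc, cV.w]
    exact hj'
  exact IsImmersion.of_comp _ (F.map u)

/-- `Over S`-valued version of `exists_isImmersion_stage`. -/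
theorem exists_isImmersion_stage_over {J : Type u} [SmallCategory J] [IsCofiltered J]
    (F : J ⥤ Over S) (tV : Cone F) (htV : IsLimit tV)
    (haff : ∀ {a b : J} (f : a ⟶ b), IsAffineHom (F.map f).left)
    (W : Scheme.{u}) (s : ∀ k, (F.obj k).left ⟶ W)
    (hs : ∀ {k' k : J} (u : k' ⟶ k), (F.map u).left ≫ s k = s k')
    (p : tV.pt.left ⟶ W) (hp : ∀ k, (tV.π.app k).left ≫ s k = p)
    {Y : Scheme.{u}} [CompactSpace ↥Y] (w : Y ⟶ tV.pt.left) [IsImmersion w]
    (hlft : LocallyOfFiniteType (w ≫ p)) :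
    ∃ k, ∀ (k' : J) (_ : k' ⟶ k), IsImmersion (w ≫ (tV.π.app k').left) := by
  haveI : IsConnected J := IsCofiltered.isConnected J
  exact @exists_isImmersion_stage J _ _ (F ⋙ Over.forget S) ((Over.forget S).mapCone tV)
    (isLimitOfPreserves (Over.forget S) htV) (fun f => haff f) W s (fun u => hs u) p hp Y _ w
    ‹IsImmersion w› hlft

/-- An étale surjective chart can be refined to an affine étale chart covering a given compact
set of points. -/
theorem exists_affine_refinement_of_isCompact {X : Sp S} {K : Set (Points X)} (hK : IsCompact K)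
    {U : Over S} (p : (yon S).obj U ⟶ X) (hpe : RepWith @Etale p) (hps : RepWith @Surjective p) :
    ∃ (U' : Over S) (e : U' ⟶ U), IsAffine U'.left ∧ RepWith @Etale ((yon S).map e ≫ p) ∧
      K ⊆ Set.range (Points.ofPt ((yon S).map e ≫ p)) := by
  classical
  let 𝒰 := U.left.affineCover
  let O : 𝒰.I₀ → Set (Points X) := fun i => Points.ofPt p '' Set.range (𝒰.f i).base
  have hO : ∀ i, IsOpen (O i) := fun i =>
    isOpenMap_ofPt p hpe _ (𝒰.f i).isOpenEmbedding.isOpen_range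
  have hcov : K ⊆ ⋃ i, O i := by
    intro x _
    obtain ⟨u, rfl⟩ := surjective_ofPt p hps x
    obtain ⟨i, y, hy⟩ := 𝒰.exists_eq u
    exact Set.mem_iUnion.mpr ⟨i, u, ⟨y, hy⟩, rfl⟩
  obtain ⟨t, ht⟩ := hK.elim_finite_subcover O hO hcov
  let g : ↥t → Scheme.{u} := fun i => 𝒰.X i.1
  have hg : ∀ i, IsAffine (g i) := fun i => inferInstance
  let h : ∀ i : ↥t, g i ⟶ U.left := fun i => 𝒰.f i.1
  have hh : ∀ i, Etale (h i) := fun i => inferInstance
  let j : (∐ g) ⟶ U.left := Sigma.desc h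
  have hj : Etale j := etale_sigma_desc g h
  let U' : Over S := Over.mk (j ≫ U.hom)
  let jO : U' ⟶ U := Over.homMk j rfl
  refine ⟨U', jO, (inferInstance : IsAffine (∐ g)), ?_, ?_⟩
  · exact repWith_comp @Etale ((repWith_yon_map_iff @Etale jO).mpr hj) hpe
  · intro x hxK
    have hx := ht hxK
    simp only [Set.mem_iUnion] at hx
    obtain ⟨i, hi, u, ⟨y, rfl⟩, rfl⟩ := hx
    refine ⟨Sigma.ι g ⟨i, hi⟩ y, ?_⟩
    rw [ofPt_yon_map_comp]
    congr 1
    show (Sigma.ι g ⟨i, hi⟩ ≫ Limits.Sigma.desc h) y = _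
    rw [Sigma.ι_desc]

/-- `S10010`. -/
theorem main [QuasiSeparatedSpace ↥S] {I : Type u} [SmallCategory I] [IsCofiltered I]
    (B : Space S) (D : I ⥤ Sp S) (hD : ∀ i, IsAlgSpace (D.obj i))
    (t : D ⟶ (Functor.const I).obj B.obj)
    (hDa : ∀ (i j : I) (φ : i ⟶ j), IsAffineMor (D.map φ))
    (c : Cone D) (hc : IsLimit c)
    (hqs : ∀ i, IsQuasiSeparatedSp (D.obj i))
    (Y : Space S) (hYqc : IsQuasiCompactSp Y.obj) (y : Y.obj ⟶ c.pt)
    (hy : RepWith @IsImmersion y) (i₁ : I)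
    (hYB : LocP @LocallyOfFiniteType (y ≫ c.π.app i₁ ≫ t.app i₁)) :
    ∃ i₀ : I, ∀ (i : I) (_ : i ⟶ i₀), RepWith @IsImmersion (y ≫ c.π.app i) := by
  obtain ⟨W, b, hbe, hbs⟩ := B.property.atlas
  obtain ⟨U, a, h, hae, has, hah⟩ := exists_chart_lift (hD i₁) (t.app i₁) b hbe hbs
  haveI := (isQuasiCompactSp_iff_compactSpace_points Y.property).mp hYqc
  have hK : IsCompact (Set.range (Points.map (y ≫ c.π.app i₁))) :=
    isCompact_range (Points.continuous_map _)
  obtain ⟨V₀, e, hV₀, hg₀e, hg₀K⟩ := exists_affine_refinement_of_isCompact hK a hae has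
  obtain ⟨g₀, hg₀⟩ : ∃ g₀ : (yon S).obj V₀ ⟶ D.obj i₁, g₀ = (yon S).map e ≫ a := ⟨_, rfl⟩
  rw [← hg₀] at hg₀e hg₀K
  obtain ⟨h₀, hh₀⟩ : ∃ h₀ : V₀ ⟶ W, h₀ = e ≫ h := ⟨_, rfl⟩
  have hg₀h : g₀ ≫ t.app i₁ = (yon S).map h₀ ≫ b := by
    rw [hg₀, hh₀, Category.assoc, hah, Functor.map_comp, Category.assoc]
  haveI := hV₀
  have hg₀q : RepWith @QuasiCompact g₀ :=
    repWith_quasiCompact_of_isQuasiCompactMor g₀ hg₀e.rep
      (isQuasiCompactMor_from_compact_scheme (hqs i₁) g₀)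
  obtain ⟨tV, htV, topV, qV, haffV, hqVa, hqV, htopV, sqV⟩ :=
    exists_isPullback_limit D hDa i₁ g₀ c hc
  have htopVe : RepWith @Etale topV := repWith_of_isPullback @Etale sqV.flip hg₀e
  have htopVq : RepWith @QuasiCompact topV := repWith_of_isPullback @QuasiCompact sqV.flip hg₀q
  obtain ⟨Y', w, aY, sqY⟩ := hy.rep topV
  haveI hw : IsImmersion w.left := hy.property topV aY w sqY
  have haYe : RepWith @Etale aY := repWith_of_isPullback @Etale sqY.flip htopVe
  have haYq : RepWith @QuasiCompact aY := repWith_of_isPullback @QuasiCompact sqY.flip htopVq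
  have haYqm : IsQuasiCompactMor aY :=
    isQuasiCompactMor_of_repWith (IsAlgSpace.yon_obj Y') Y.property.diag aY haYq
  have hY'q : IsQuasiCompactSp ((yon S).obj Y') :=
    haYqm Y.property hYqc (𝟙 Y.obj) (𝟙 _) aY (IsPullback.id_horiz aY)
  haveI : CompactSpace ↥Y'.left := (isQuasiCompactSp_yon_iff Y').mp hY'q
  -- finite type over `W`
  have hcomm : aY ≫ (y ≫ c.π.app i₁ ≫ t.app i₁) = (yon S).map (w ≫ qV ≫ h₀) ≫ b := by
    rw [← Category.assoc, sqY.w, Category.assoc, ← Category.assoc topV, sqV.w, Category.assoc,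
      hg₀h, Functor.map_comp, Functor.map_comp, Category.assoc, Category.assoc]
  have hlft : LocallyOfFiniteType (w ≫ qV ≫ h₀).left := hYB aY b _ haYe hbe hcomm
  -- the scheme-level statement
  obtain ⟨k, hk⟩ := exists_isImmersion_stage_over (chartSys D hDa i₁ g₀) tV htV
    (fun f => isAffineHom_csMap D hDa i₁ g₀ f) W.left
    (fun k => (csSnd D hDa i₁ g₀ k).left ≫ h₀.left)
    (fun {k' k} u => by
      show (csMap D hDa i₁ g₀ u).left ≫ (csSnd D hDa i₁ g₀ k).left ≫ h₀.left = _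
      rw [← Category.assoc, ← Over.comp_left, csMap_snd])
    (qV.left ≫ h₀.left)
    (fun k => by
      rw [← Category.assoc, ← Over.comp_left, hqV])
    w.left (by
      have : (w ≫ qV ≫ h₀).left = w.left ≫ qV.left ≫ h₀.left := by
        rw [Over.comp_left, Over.comp_left]
      rw [← this]
      exact hlft)
  refine ⟨k.left, fun i ψ => ?_⟩
  obtain ⟨k', u, hki⟩ : ∃ (k' : Over i₁) (_ : k' ⟶ k), k'.left = i :=
    ⟨Over.mk (ψ ≫ k.hom), Over.homMk ψ rfl, rfl⟩
  subst hki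
  have himm : IsImmersion (w ≫ tV.π.app k').left := by
    rw [Over.comp_left]
    exact hk k' u
  have sqk := isPullback_limit_stage D hDa i₁ g₀ c tV topV qV hqV htopV sqV k'
  have sq := (sqY.flip.paste_horiz sqk).flip
  rw [← Functor.map_comp] at sq
  -- the open subspace of `D k'` covered by the chart
  have hcsFe : RepWith @Etale (csFst D hDa i₁ g₀ k') := repWith_csFst D hDa i₁ g₀ @Etale hg₀e k'
  obtain ⟨O, hOdef⟩ : ∃ O : Set (Points (D.obj k'.left)),
      O = Set.range (Points.ofPt (csFst D hDa i₁ g₀ k')) := ⟨_, rfl⟩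
  have hOo : IsOpen O := by
    rw [hOdef]
    exact (isOpenMap_ofPt _ hcsFe).isOpen_range
  have hmemY : ∀ p : Points Y.obj, Points.map (y ≫ c.π.app k'.left) p ∈ O := by
    intro p
    have h1 : Points.map (y ≫ c.π.app i₁) p ∈ Set.range (Points.ofPt g₀) := hg₀K ⟨p, rfl⟩
    obtain ⟨v₀, hv₀⟩ := h1
    have e1 : Points.map (D.map k'.hom) (Points.map (y ≫ c.π.app k'.left) p) =
        Points.map g₀ (Points.ofScheme V₀ v₀) := by
      rw [← Points.ofPt_eq_map_ofScheme, hv₀, ← Points.map_comp, Category.assoc, c.w]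
    obtain ⟨q, hq1, -⟩ := points_exists_of_isPullback g₀ (D.map k'.hom)
      (csFst D hDa i₁ g₀ k') ((yon S).map (csSnd D hDa i₁ g₀ k')) (csSq D hDa i₁ g₀ k')
      (Points.map (y ≫ c.π.app k'.left) p) (Points.ofScheme V₀ v₀) e1
    obtain ⟨v, rfl⟩ := (Points.schemeHomeo (csObj D hDa i₁ g₀ k')).surjective q
    rw [hOdef]
    refine ⟨v, ?_⟩
    rw [← hq1, Points.ofPt_eq_map_ofScheme]
    rfl
  have hmemV : ∀ p : Points ((yon S).obj (csObj D hDa i₁ g₀ k')),
      Points.map (csFst D hDa i₁ g₀ k') p ∈ O := by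
    intro p
    obtain ⟨v, rfl⟩ := (Points.schemeHomeo (csObj D hDa i₁ g₀ k')).surjective p
    rw [hOdef]
    refine ⟨v, ?_⟩
    rw [Points.ofPt_eq_map_ofScheme]
    rfl
  obtain ⟨yO, hyO⟩ : ∃ yO : Y.obj ⟶ openSub (D.obj k'.left) O,
      yO ≫ openSubι (D.obj k'.left) O = y ≫ c.π.app k'.left :=
    ⟨openSubLift O _ hmemY, openSubLift_ι O _ hmemY⟩
  obtain ⟨fO, hfO⟩ : ∃ fO : (yon S).obj (csObj D hDa i₁ g₀ k') ⟶ openSub (D.obj k'.left) O,
      fO ≫ openSubι (D.obj k'.left) O = csFst D hDa i₁ g₀ k' :=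
    ⟨openSubLift O _ hmemV, openSubLift_ι O _ hmemV⟩
  have hOa : IsAlgSpace (openSub (D.obj k'.left) O) := isAlgSpace_openSub (hD k'.left) hOo
  have hfOe : RepWith @Etale fO := repWith_lift_of_mono @Etale (openSubι (D.obj k'.left) O)
    (csFst D hDa i₁ g₀ k') fO hfO hcsFe
  have hfOs : RepWith @Surjective fO := by
    refine repWith_surjective_of_surjective_ofPt fO hfOe.rep ?_
    intro x
    have hx : Points.map (openSubι (D.obj k'.left) O) x ∈ O := points_map_openSubι_mem _ _ x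
    obtain ⟨v, hv⟩ := hOdef.le hx
    refine ⟨v, ?_⟩
    apply injective_points_map_of_mono (openSubι (D.obj k'.left) O)
    rw [Points.map_ofPt, hfO, hv]
  have sqO : IsPullback aY ((yon S).map (w ≫ tV.π.app k')) yO fO := by
    apply Groth.Agent.Helper2.ImmDescent.isPullback_of_comp_mono (openSubι (D.obj k'.left) O)
    rw [hyO, hfO]
    exact sq
  have hyOi : RepWith @IsImmersion yO :=
    Groth.Agent.Helper2.ImmDescent.repWith_isImmersion_of_etale_cover hOa yO
      (csObj D hDa i₁ g₀ k') fO hfOe hfOs aY _ sqO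
      ((repWith_yon_map_iff @IsImmersion _).mpr himm)
  rw [← hyO]
  refine repWith_comp @IsImmersion hyOi ?_
  exact repWith_mono (fun _ _ _ hh => by
    haveI : IsOpenImmersion _ := hh
    infer_instance) (repWith_isOpenImmersion_openSubι _ hOo)

end Groth.Agent.Helper2.LimImmStage
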