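import Mathlib
import Groth.Agent.Lib.Helper2.AlgSp.LimClosedStage

/-!
# A limit of closed immersions which is locally of finite presentation is a stage (helper2)
-/

set_option autoImplicit false
set_option linter.style.haveILetI false
universe u

namespace Groth.Agent.Helper2.LimIsoStage
open CategoryTheory CategoryTheory.Limits AlgebraicGeometry Opposite AlgSp
open Groth.Agent.Helper2.AlgSpBasic Groth.Agent.Helper2.LimSys Groth.Agent.Helper2.LimDescend
open Groth.Agent.Helper2.LimClosedStage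

variable {S : Scheme.{u}}

/-- Scheme level. -/
theorem exists_isIso_stage {J : Type u} [SmallCategory J] [IsCofiltered J]
    (F : J ⥤ Scheme.{u}) (cV : Cone F) (hcV : IsLimit cV)
    (hcl : ∀ {a b : J} (f : a ⟶ b), IsClosedImmersion (F.map f))
    [∀ k, CompactSpace ↥(F.obj k)] [∀ k, QuasiSeparatedSpace ↥(F.obj k)]
    (W : Scheme.{u}) (s : F ⟶ (Functor.const J).obj W)
    (hlft : ∀ k, LocallyOfFiniteType (s.app k))
    (p : cV.pt ⟶ W) (hp : ∀ k, cV.π.app k ≫ s.app k = p)
    [LocallyOfFinitePresentation p] :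
    ∃ k, ∀ (k' : J) (_ : k' ⟶ k), IsIso (cV.π.app k') := by
  haveI : ∀ {a b : J} (f : a ⟶ b), IsAffineHom (F.map f) := fun f => by
    haveI := hcl f
    infer_instance
  obtain ⟨i, g, hg1, hg2⟩ := Scheme.exists_π_app_comp_eq_of_locallyOfFinitePresentation F s p cV
    hcV (𝟙 cV.pt) (by
      ext k : 2
      simp only [NatTrans.comp_app, Functor.const_map_app, Category.id_comp]
      exact hp k)
  haveI := hlft i
  obtain ⟨k, hik, hk⟩ := Scheme.exists_hom_comp_eq_comp_of_locallyOfFiniteType F s (s.app i) cV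
    hcV (g ≫ cV.π.app i) (𝟙 _) (by rw [Category.assoc, hp, hg2]) (by rw [Category.id_comp])
    (by rw [← Category.assoc, hg1]; simp)
  haveI : Mono (F.map hik) := by
    haveI := hcl hik
    infer_instance
  have h1 : cV.π.app k ≫ (F.map hik ≫ g) = 𝟙 _ := by
    rw [← Category.assoc, cV.w, hg1]
    rfl
  have h2 : (F.map hik ≫ g) ≫ cV.π.app k = 𝟙 _ := by
    rw [← cancel_mono (F.map hik), Category.assoc, cV.w, Category.assoc, hk, Category.comp_id,
      Category.id_comp]
  haveI hiso : IsIso (cV.π.app k) := ⟨F.map hik ≫ g, h1, h2⟩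
  refine ⟨k, fun k' u => ?_⟩
  haveI : Mono (F.map u) := by
    haveI := hcl u
    infer_instance
  haveI : IsSplitEpi (F.map u) :=
    IsSplitEpi.mk' ⟨inv (cV.π.app k) ≫ cV.π.app k', by rw [Category.assoc, cV.w, IsIso.inv_hom_id]⟩
  haveI : IsIso (F.map u) := isIso_of_mono_of_isSplitEpi (F.map u)
  have e : cV.π.app k' = cV.π.app k ≫ inv (F.map u) := by
    rw [IsIso.eq_comp_inv, cV.w]
  rw [e]
  infer_instance

/-- `Over S`-valued version of `exists_isIso_stage`. -/
theorem exists_isIso_stage_over {J : Type u} [SmallCategory J] [IsCofiltered J]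
    (F : J ⥤ Over S) (tV : Cone F) (htV : IsLimit tV)
    (hcl : ∀ {a b : J} (f : a ⟶ b), IsClosedImmersion (F.map f).left)
    (hcpt : ∀ k, CompactSpace ↥(F.obj k).left) (hqs : ∀ k, QuasiSeparatedSpace ↥(F.obj k).left)
    (W : Scheme.{u}) (s : ∀ k, (F.obj k).left ⟶ W)
    (hs : ∀ {k' k : J} (u : k' ⟶ k), (F.map u).left ≫ s k = s k')
    (hlft : ∀ k, LocallyOfFiniteType (s k))
    (p : tV.pt.left ⟶ W) (hp : ∀ k, (tV.π.app k).left ≫ s k = p)
    (hlfp : LocallyOfFinitePresentation p) :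
    ∃ k, ∀ (k' : J) (_ : k' ⟶ k), IsIso (tV.π.app k').left := by
  haveI : IsConnected J := IsCofiltered.isConnected J
  let sN : (F ⋙ Over.forget S) ⟶ (Functor.const J).obj W :=
    { app := s
      naturality := fun k' k u => by
        rw [Functor.const_obj_map]
        exact (hs u).trans (Category.comp_id _).symm }
  exact @exists_isIso_stage J _ _ (F ⋙ Over.forget S) ((Over.forget S).mapCone tV)
    (isLimitOfPreserves (Over.forget S) htV) (fun f => hcl f) hcpt hqs W sN hlft p hp hlfp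

/-- Closed immersions are affine. -/
theorem isAffineMor_of_repWith_isClosedImmersion {X Y : Sp S} {f : X ⟶ Y}
    (hf : RepWith @IsClosedImmersion f) : IsAffineMor f := by
  intro Z hZ g
  obtain ⟨W, snd, fst, sq⟩ := hf.rep g
  haveI : IsClosedImmersion snd.left := hf.property g fst snd sq
  haveI := hZ
  exact ⟨W, snd, fst, sq, isAffine_of_isAffineHom snd.left⟩

/-- Isomorphisms descend along étale covers. -/
theorem isIso_of_etale_cover {X Y V P : Sp S} (f : X ⟶ Y) (p : V ⟶ Y) (hp : RepWith @Etale p)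
    (hps : RepWith @Surjective p) (fst : P ⟶ X) (snd : P ⟶ V) (sq : IsPullback fst snd f p)
    [IsIso snd] : IsIso f := by
  haveI : Mono f := mono_of_etale_cover f p hp hps fst snd sq
  haveI : Sheaf.IsLocallySurjective p := isLocallySurjective_of_etale_surjective p hp hps
  haveI : Epi p := inferInstance
  haveI : Epi (fst ≫ f) := by
    rw [sq.w]
    infer_instance
  haveI : Epi f := epi_of_epi fst f
  exact isIso_of_mono_of_epi f

/-- `S10011`. -/
theorem main {I : Type u} [SmallCategory I] [IsCofiltered I]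
    (B : Space S) (D : I ⥤ Sp S) (hD : ∀ i, IsAlgSpace (D.obj i))
    (t : D ⟶ (Functor.const I).obj B.obj)
    (hDc : ∀ (i j : I) (φ : i ⟶ j), RepWith @IsClosedImmersion (D.map φ))
    (c : Cone D) (hc : IsLimit c)
    (hqc : ∀ i, IsQuasiCompactSp (D.obj i))
    (hft : ∀ i, LocP @LocallyOfFiniteType (t.app i)) (i₁ : I)
    (hX : LocP @LocallyOfFinitePresentation (c.π.app i₁ ≫ t.app i₁)) :
    ∃ i₀ : I, ∀ (i : I) (_ : i ⟶ i₀), IsIso (c.π.app i) := by
  have hDa : ∀ (i j : I) (φ : i ⟶ j), IsAffineMor (D.map φ) := fun i j φ =>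
    isAffineMor_of_repWith_isClosedImmersion (hDc i j φ)
  obtain ⟨W, b, hbe, hbs⟩ := B.property.atlas
  obtain ⟨U, a, h, hae, has, hah⟩ := exists_chart_lift (hD i₁) (t.app i₁) b hbe hbs
  obtain ⟨V₀, e, hV₀, hg₀e, hg₀s⟩ := exists_affine_refinement (hD i₁) (hqc i₁) a hae has
  obtain ⟨g₀, hg₀⟩ : ∃ g₀ : (yon S).obj V₀ ⟶ D.obj i₁, g₀ = (yon S).map e ≫ a := ⟨_, rfl⟩
  rw [← hg₀] at hg₀e hg₀s
  obtain ⟨h₀, hh₀⟩ : ∃ h₀ : V₀ ⟶ W, h₀ = e ≫ h := ⟨_, rfl⟩
  have hg₀h : g₀ ≫ t.app i₁ = (yon S).map h₀ ≫ b := by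
    rw [hg₀, hh₀, Category.assoc, hah, Functor.map_comp, Category.assoc]
  haveI := hV₀
  obtain ⟨tV, htV, topV, qV, haffV, hqVa, hqV, htopV, sqV⟩ :=
    exists_isPullback_limit D hDa i₁ g₀ c hc
  have htopVe : RepWith @Etale topV := repWith_of_isPullback @Etale sqV.flip hg₀e
  -- the stages are affine
  have haffk : ∀ k : Over i₁, IsAffine (csObj D hDa i₁ g₀ k).left := by
    intro k
    haveI := isAffineHom_csSnd D hDa i₁ g₀ k
    exact isAffine_of_isAffineHom (csSnd D hDa i₁ g₀ k).left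
  have hcpt : ∀ k : Over i₁, CompactSpace ↥((chartSys D hDa i₁ g₀).obj k).left := by
    intro k
    haveI := haffk k
    show CompactSpace ↥(csObj D hDa i₁ g₀ k).left
    infer_instance
  have hqsk : ∀ k : Over i₁, QuasiSeparatedSpace ↥((chartSys D hDa i₁ g₀).obj k).left := by
    intro k
    haveI := haffk k
    show QuasiSeparatedSpace ↥(csObj D hDa i₁ g₀ k).left
    infer_instance
  -- the stages are locally of finite type over `W`
  have htk : ∀ k : Over i₁, D.map k.hom ≫ t.app i₁ = t.app k.left := by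
    intro k
    have := t.naturality k.hom
    rw [Functor.const_obj_map] at this
    exact this.trans (Category.comp_id _)
  have hlftk : ∀ k : Over i₁, LocallyOfFiniteType ((csSnd D hDa i₁ g₀ k).left ≫ h₀.left) := by
    intro k
    have hcomm : csFst D hDa i₁ g₀ k ≫ t.app k.left =
        (yon S).map (csSnd D hDa i₁ g₀ k ≫ h₀) ≫ b := by
      rw [← htk k, ← Category.assoc, (csSq D hDa i₁ g₀ k).w, Category.assoc, hg₀h,
        Functor.map_comp, Category.assoc]
    have := hft k.left (csFst D hDa i₁ g₀ k) b _ (repWith_csFst D hDa i₁ g₀ @Etale hg₀e k) hbe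
      hcomm
    rw [Over.comp_left] at this
    exact this
  have hlfp : LocallyOfFinitePresentation (qV.left ≫ h₀.left) := by
    have hcomm : topV ≫ (c.π.app i₁ ≫ t.app i₁) = (yon S).map (qV ≫ h₀) ≫ b := by
      rw [← Category.assoc, sqV.w, Category.assoc, hg₀h, Functor.map_comp, Category.assoc]
    have := hX topV b _ htopVe hbe hcomm
    rw [Over.comp_left] at this
    exact this
  obtain ⟨k, hk⟩ := exists_isIso_stage_over (chartSys D hDa i₁ g₀) tV htV
    (fun {k' k} u => (hDc _ _ u.left).property _ _ _ (isPullback_csMap D hDa i₁ g₀ u).flip)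
    hcpt hqsk W.left
    (fun k => (csSnd D hDa i₁ g₀ k).left ≫ h₀.left)
    (fun {k' k} u => by
      show (csMap D hDa i₁ g₀ u).left ≫ (csSnd D hDa i₁ g₀ k).left ≫ h₀.left = _
      rw [← Category.assoc, ← Over.comp_left, csMap_snd])
    hlftk
    (qV.left ≫ h₀.left)
    (fun k => by
      rw [← Category.assoc, ← Over.comp_left, hqV])
    hlfp
  refine ⟨k.left, fun i ψ => ?_⟩
  obtain ⟨k', u, hki⟩ : ∃ (k' : Over i₁) (_ : k' ⟶ k), k'.left = i :=
    ⟨Over.mk (ψ ≫ k.hom), Over.homMk ψ rfl, rfl⟩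
  subst hki
  haveI : IsIso (tV.π.app k').left := hk k' u
  haveI : IsIso ((Over.forget S).map (tV.π.app k')) := hk k' u
  haveI : IsIso (tV.π.app k') := isIso_of_reflects_iso (tV.π.app k') (Over.forget S)
  have sqk := isPullback_limit_stage D hDa i₁ g₀ c tV topV qV hqV htopV sqV k'
  exact isIso_of_etale_cover (c.π.app k'.left) (csFst D hDa i₁ g₀ k')
    (repWith_csFst D hDa i₁ g₀ @Etale hg₀e k') (repWith_csFst D hDa i₁ g₀ @Surjective hg₀s k')
    topV ((yon S).map (tV.π.app k')) sqk.flip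

end Groth.Agent.Helper2.LimIsoStage
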