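import Mathlib
import Groth.Agent.Lib.Helper2.AlgSp.LimIsoStage
import Groth.Agent.Lib.Helper2.AlgSp.LimDiag2

/-!
# A monomorphism into a limit of algebraic spaces is a monomorphism into a stage (helper2)
-/

set_option autoImplicit false
set_option linter.style.haveILetI false
universe u

namespace Groth.Agent.Helper2.LimMonoStage
open CategoryTheory CategoryTheory.Limits AlgebraicGeometry Opposite AlgSp
open Groth.Agent.Helper2.AlgSpBasic Groth.Agent.Helper2.LimSys Groth.Agent.Helper2.LimDescend

variable {S : Scheme.{u}}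

/-- The map `A ×_X A ⟶ A ×_{X'} A` induced by an affine `h : X ⟶ X'` is a closed immersion. -/
theorem repWith_isClosedImmersion_pullback_map {A X X' : Sp S} (hX : IsAlgSpace X)
    (f₁ f₂ : A ⟶ X) (h : X ⟶ X') (hh : IsAffineMor h) (f₁' f₂' : A ⟶ X')
    (e₁ : f₁ ≫ h = f₁') (e₂ : f₂ ≫ h = f₂') :
    RepWith @IsClosedImmersion (pullback.map f₁ f₂ f₁' f₂' (𝟙 A) (𝟙 A) h
      (by rw [Category.id_comp, e₁]) (by rw [Category.id_comp, e₂])) := by
  subst e₁ e₂
  exact repWith_mapDesc_of_repWith_diagonal @IsClosedImmersion f₁ f₂ h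
    (isSeparatedMor_of_isAffineMor hX hh)

section Sys

variable {I : Type u} [SmallCategory I] (D : I ⥤ Sp S) (c : Cone D) {Y : Sp S} (y : Y ⟶ c.pt)

/-- `Z_i = Y ×_{X_i} Y`. -/
noncomputable abbrev zObj (i : I) : Sp S := pullback (y ≫ c.π.app i) (y ≫ c.π.app i)

/-- The transition maps of the system `Z_i`. -/
noncomputable def zMap {j i : I} (φ : j ⟶ i) : zObj D c y j ⟶ zObj D c y i :=
  pullback.map (y ≫ c.π.app j) (y ≫ c.π.app j) (y ≫ c.π.app i) (y ≫ c.π.app i) (𝟙 Y) (𝟙 Y)
    (D.map φ) (by rw [Category.id_comp, Category.assoc, c.w])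
    (by rw [Category.id_comp, Category.assoc, c.w])

/-- The first projection `Z_i ⟶ Y`. -/
noncomputable abbrev zFst (i : I) : zObj D c y i ⟶ Y := pullback.fst _ _

/-- The second projection `Z_i ⟶ Y`. -/
noncomputable abbrev zSnd (i : I) : zObj D c y i ⟶ Y := pullback.snd _ _

/-- The diagonal `Y ⟶ Z_i`. -/
noncomputable abbrev zDiag (i : I) : Y ⟶ zObj D c y i := pullback.diagonal (y ≫ c.π.app i)

theorem zMap_fst {j i : I} (φ : j ⟶ i) : zMap D c y φ ≫ zFst D c y i = zFst D c y j := by
  unfold zMap
  exact (pullback.lift_fst _ _ _).trans (Category.comp_id _)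

theorem zMap_snd {j i : I} (φ : j ⟶ i) : zMap D c y φ ≫ zSnd D c y i = zSnd D c y j := by
  unfold zMap
  exact (pullback.lift_snd _ _ _).trans (Category.comp_id _)

theorem zDiag_fst (i : I) : zDiag D c y i ≫ zFst D c y i = 𝟙 Y := pullback.diagonal_fst _

theorem zDiag_snd (i : I) : zDiag D c y i ≫ zSnd D c y i = 𝟙 Y := pullback.diagonal_snd _

theorem z_hom_ext (i : I) {T : Sp S} (a b : T ⟶ zObj D c y i)
    (h1 : a ≫ zFst D c y i = b ≫ zFst D c y i) (h2 : a ≫ zSnd D c y i = b ≫ zSnd D c y i) :
    a = b := pullback.hom_ext h1 h2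

theorem z_condition (i : I) :
    zFst D c y i ≫ y ≫ c.π.app i = zSnd D c y i ≫ y ≫ c.π.app i := pullback.condition

/-- The system `i ↦ Y ×_{X_i} Y`. -/
@[reducible] noncomputable def zSys : I ⥤ Sp S where
  obj := zObj D c y
  map φ := zMap D c y φ
  map_id i := by
    apply z_hom_ext
    · rw [zMap_fst, Category.id_comp]
    · rw [zMap_snd, Category.id_comp]
  map_comp φ ψ := by
    apply z_hom_ext
    · rw [zMap_fst, Category.assoc, zMap_fst, zMap_fst]
    · rw [zMap_snd, Category.assoc, zMap_snd, zMap_snd]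

/-- The structure maps to `Y`. -/
@[reducible] noncomputable def zT : zSys D c y ⟶ (Functor.const I).obj Y where
  app i := zFst D c y i
  naturality j i φ := by
    rw [Functor.const_obj_map]
    exact (zMap_fst D c y φ).trans (Category.comp_id _).symm

/-- The cone over the system with apex `Y`. -/
@[reducible] noncomputable def zCone : Cone (zSys D c y) where
  pt := Y
  π :=
    { app := fun i => zDiag D c y i
      naturality := fun j i φ => by
        rw [Functor.const_obj_map]
        refine (Category.id_comp _).trans ?_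
        apply z_hom_ext
        · rw [zDiag_fst, Category.assoc]
          show _ = zDiag D c y j ≫ zMap D c y φ ≫ zFst D c y i
          rw [zMap_fst, zDiag_fst]
        · rw [zDiag_snd, Category.assoc]
          show _ = zDiag D c y j ≫ zMap D c y φ ≫ zSnd D c y i
          rw [zMap_snd, zDiag_snd] }

variable [IsCofiltered I]

/-- The first projections of a cone over the system do not depend on the index. -/
theorem cone_fst_eq (s : Cone (zSys D c y)) (i j : I) :
    s.π.app i ≫ zFst D c y i = s.π.app j ≫ zFst D c y j := by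
  have hi : s.π.app (IsCofiltered.min i j) ≫ zMap D c y (IsCofiltered.minToLeft i j) =
      s.π.app i := s.w (IsCofiltered.minToLeft i j)
  have hj : s.π.app (IsCofiltered.min i j) ≫ zMap D c y (IsCofiltered.minToRight i j) =
      s.π.app j := s.w (IsCofiltered.minToRight i j)
  rw [← hi, ← hj, Category.assoc, Category.assoc, zMap_fst, zMap_fst]

theorem cone_snd_eq (s : Cone (zSys D c y)) (i j : I) :
    s.π.app i ≫ zSnd D c y i = s.π.app j ≫ zSnd D c y j := by
  have hi : s.π.app (IsCofiltered.min i j) ≫ zMap D c y (IsCofiltered.minToLeft i j) =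
      s.π.app i := s.w (IsCofiltered.minToLeft i j)
  have hj : s.π.app (IsCofiltered.min i j) ≫ zMap D c y (IsCofiltered.minToRight i j) =
      s.π.app j := s.w (IsCofiltered.minToRight i j)
  rw [← hi, ← hj, Category.assoc, Category.assoc, zMap_snd, zMap_snd]

theorem cone_fst_eq_snd (hc : IsLimit c) [Mono y] (s : Cone (zSys D c y)) (i : I) :
    s.π.app i ≫ zFst D c y i = s.π.app i ≫ zSnd D c y i := by
  rw [← cancel_mono y]
  apply hc.hom_ext
  intro j
  rw [cone_fst_eq D c y s i j, cone_snd_eq D c y s i j, Category.assoc, Category.assoc,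
    Category.assoc, Category.assoc, z_condition]

/-- The cone with apex `Y` is a limit cone when `y` is a monomorphism. -/
noncomputable def zConeIsLimit (hc : IsLimit c) [Mono y] : IsLimit (zCone D c y) where
  lift s := s.π.app (Classical.choice IsCofiltered.nonempty) ≫
    zFst D c y (Classical.choice IsCofiltered.nonempty)
  fac s j := by
    show (_ ≫ _) ≫ zDiag D c y j = _
    apply z_hom_ext
    · rw [Category.assoc, zDiag_fst, Category.comp_id]
      exact cone_fst_eq D c y s _ j
    · rw [Category.assoc, zDiag_snd, Category.comp_id, cone_fst_eq D c y s _ j]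
      exact cone_fst_eq_snd D c y hc s j
  uniq s m hm := by
    have := hm (Classical.choice IsCofiltered.nonempty)
    rw [← this]
    show m = (m ≫ zDiag D c y _) ≫ _
    rw [Category.assoc, zDiag_fst, Category.comp_id]

end Sys

/-- `S10012`. -/
theorem main [QuasiSeparatedSpace ↥S] {I : Type u} [SmallCategory I] [IsCofiltered I]
    (B : Space S) (D : I ⥤ Sp S) (hD : ∀ i, IsAlgSpace (D.obj i))
    (t : D ⟶ (Functor.const I).obj B.obj)
    (hDa : ∀ (i j : I) (φ : i ⟶ j), IsAffineMor (D.map φ))
    (c : Cone D) (hc : IsLimit c)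
    (hqs : ∀ i, IsQuasiSeparatedSp (D.obj i))
    (Y : Space S) (hYqc : IsQuasiCompactSp Y.obj) (y : Y.obj ⟶ c.pt) [Mono y] (i₁ : I)
    (hYB : LocP @LocallyOfFiniteType (y ≫ c.π.app i₁ ≫ t.app i₁)) :
    ∃ i₀ : I, ∀ (i : I) (_ : i ⟶ i₀), Mono (y ≫ c.π.app i) := by
  -- the structure maps to `B` agree
  have htw : ∀ {j i : I} (φ : j ⟶ i), D.map φ ≫ t.app i = t.app j := by
    intro j i φ
    have := t.naturality φ
    rw [Functor.const_obj_map] at this
    exact this.trans (Category.comp_id _)
  have hπt : ∀ i : I, c.π.app i ≫ t.app i = c.π.app i₁ ≫ t.app i₁ := by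
    intro i
    rw [← c.w (IsCofiltered.minToLeft i i₁), ← c.w (IsCofiltered.minToRight i i₁),
      Category.assoc, Category.assoc, htw, htw]
  have hylft : ∀ i : I, LocP @LocallyOfFiniteType (y ≫ c.π.app i) := by
    intro i
    refine locP_of_comp @LocallyOfFiniteType (fun A B' C x z hxz => ?_) Y.property (hD i)
      B.property (y ≫ c.π.app i) (t.app i) ?_
    · haveI : LocallyOfFiniteType (x ≫ z) := hxz
      exact locallyOfFiniteType_of_comp x z
    · rw [Category.assoc, hπt]
      exact hYB
  have hZalg : ∀ i, IsAlgSpace ((zSys D c y).obj i) := fun i =>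
    isAlgSpace_of_isPullback (hD i).diag Y.property Y.property _ _ _ _
      (IsPullback.of_hasPullback (y ≫ c.π.app i) (y ≫ c.π.app i))
  obtain ⟨i₀, hi₀⟩ := Groth.Agent.Helper2.LimIsoStage.main Y (zSys D c y) hZalg (zT D c y)
    (fun j i φ => repWith_isClosedImmersion_pullback_map (hD j) (y ≫ c.π.app j) (y ≫ c.π.app j)
      (D.map φ) (hDa j i φ) (y ≫ c.π.app i) (y ≫ c.π.app i)
      (by rw [Category.assoc, c.w]) (by rw [Category.assoc, c.w]))
    (zCone D c y) (zConeIsLimit D c y hc)
    (fun i => isQuasiCompactSp_pullback_self Y.property (hD i) (y ≫ c.π.app i) hYqc (hqs i))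
    (fun i => locP_of_isPullback @LocallyOfFiniteType Y.property (hD i) Y.property (hZalg i)
      (y ≫ c.π.app i) (y ≫ c.π.app i) (zSnd D c y i) (zFst D c y i)
      (IsPullback.of_hasPullback (y ≫ c.π.app i) (y ≫ c.π.app i)).flip (hylft i))
    i₁
    (by
      have e : (zCone D c y).π.app i₁ ≫ (zT D c y).app i₁ = 𝟙 Y.obj := zDiag_fst D c y i₁
      rw [e]
      exact locP_of_isIso @LocallyOfFinitePresentation Y.property.diag (𝟙 Y.obj))
  refine ⟨i₀, fun i ψ => ?_⟩
  haveI : IsIso (pullback.diagonal (y ≫ c.π.app i)) := hi₀ i ψ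
  exact mono_of_isIso_diagonal (y ≫ c.π.app i)

end Groth.Agent.Helper2.LimMonoStage
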