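import Mathlib
import Groth.Prelude.Def_AlgSp4
import Groth.Agent.Lib.Helper2.AlgSp.Basic
import Groth.Agent.Lib.Helper2.AlgSp.Points
import Groth.Agent.Lib.Helper2.AlgSp.QC
import Groth.Agent.Lib.Helper2.Sch.LocConstr
set_option backward.isDefEq.respectTransparency false
namespace Groth.Agent.Helper2.AlgSpLocConstr
open CategoryTheory CategoryTheory.Limits AlgebraicGeometry Opposite AlgSp Topology
open Groth.Agent.Helper2.AlgSpBasic
universe u
variable {S : Scheme.{u}}

/-- If the preimage of `E ⊆ |F|` in one etale surjective chart is locally constructible, then so is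
its preimage under any morphism from a scheme. -/
theorem isLocallyConstructible_ofPt_preimage {F : Sp S} (E : Set (Points F)) {V : Over S}
    (b : (yon S).obj V ⟶ F) (hbe : RepWith @Etale b) (hbs : RepWith @Surjective b)
    (hE : IsLocallyConstructible (Points.ofPt b ⁻¹' E)) {T : Over S} (g : (yon S).obj T ⟶ F) :
    IsLocallyConstructible (Points.ofPt g ⁻¹' E) := by
  have hrep := hbe.rep
  have sq := hrep.isPullback g
  obtain ⟨pV, hpV⟩ := (yon S).map_surjective (hrep.fst g)
  rw [← hpV] at sq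
  have : Etale (hrep.snd g).left := hbe.property g _ _ sq
  have : Surjective (hrep.snd g).left := hbs.property g _ _ sq
  apply LocConstr.of_preimage_etale (hrep.snd g).left
  have h : (hrep.snd g).left ⁻¹' (Points.ofPt g ⁻¹' E) = pV.left ⁻¹' (Points.ofPt b ⁻¹' E) := by
    ext w
    simp only [Set.mem_preimage]
    rw [← ofPt_yon_map_comp, ← ofPt_yon_map_comp, sq.w]
  rw [h]
  exact LocConstr.preimage pV.left hE


/-- Chevalley for algebraic spaces: a quasi-compact morphism locally of finite presentation maps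
etale locally constructible sets to etale locally constructible sets. -/
theorem isLocallyConstructible_ofPt_preimage_image {X Y : Sp S} (f : X ⟶ Y)
    (hq : IsQuasiCompactMor f) (hfp : LocP @LocallyOfFinitePresentation f)
    (E : Set (Points X))
    (hE : ∀ (U : Over S) (φ : (yon S).obj U ⟶ X), RepWith @Etale φ →
        IsLocallyConstructible (Points.ofPt φ ⁻¹' E))
    (U : Over S) (φ : (yon S).obj U ⟶ Y) (hφ : RepWith @Etale φ) :
    IsLocallyConstructible (Points.ofPt φ ⁻¹' (Points.map f '' E)) := by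
  refine IsLocallyConstructible.of_isOpenCover
    (U := fun i : U.left.affineOpens => (i : U.left.Opens))
    (AlgebraicGeometry.iSup_affineOpens_eq_top U.left) ?_
  rintro ⟨U', hU'⟩
  obtain ⟨U'o, hU'o⟩ : ∃ T : Over S, T = Over.mk (U'.ι ≫ U.hom) := ⟨_, rfl⟩
  obtain ⟨ι', hι'⟩ : ∃ i : Over.mk (U'.ι ≫ U.hom) ⟶ U, i = Over.homMk U'.ι rfl := ⟨_, rfl⟩
  have hι'left : ι'.left = U'.ι := by rw [hι']; rfl
  have hι'e : Etale ι'.left := by rw [hι'left]; infer_instance
  obtain ⟨φ', hφ'def⟩ : ∃ φ' : (yon S).obj (Over.mk (U'.ι ≫ U.hom)) ⟶ Y,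
      φ' = (yon S).map ι' ≫ φ := ⟨_, rfl⟩
  have hφ' : RepWith @Etale φ' := by
    rw [hφ'def]
    exact repWith_comp @Etale ((repWith_yon_map_iff @Etale ι').mpr hι'e) hφ
  have sq : IsPullback (pullback.fst f φ') (pullback.snd f φ') f φ' :=
    IsPullback.of_hasPullback _ _
  have hcomp : CompactSpace ↥(Over.mk (U'.ι ≫ U.hom)).left :=
    isCompact_iff_compactSpace.mp hU'.isCompact
  have hqc : IsQuasiCompactSp ((yon S).obj (Over.mk (U'.ι ≫ U.hom))) :=
    (isQuasiCompactSp_yon_iff _).mpr hcomp
  obtain ⟨W, c, hce, hcs, hWc⟩ := hq (IsAlgSpace.yon_obj _) hqc φ' _ _ sq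
  -- the chart of X
  have hfst : RepWith @Etale (pullback.fst f φ') := repWith_of_isPullback @Etale sq.flip hφ'
  have hcf : RepWith @Etale (c ≫ pullback.fst f φ') := repWith_comp @Etale hce hfst
  have h1 := hE W _ hcf
  obtain ⟨h, hh⟩ := (yon S).map_surjective (c ≫ pullback.snd f φ')
  have hcomm : (c ≫ pullback.fst f φ') ≫ f = (yon S).map h ≫ φ' := by
    rw [hh, Category.assoc, Category.assoc, sq.w]
  have hlfp : LocallyOfFinitePresentation h.left := hfp _ _ h hcf hφ' hcomm
  have : IsAffine (Over.mk (U'.ι ≫ U.hom)).left := hU'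
  have : CompactSpace ↥W.left := hWc
  have hqcm : QuasiCompact h.left := HasAffineProperty.iff_of_isAffine.mpr ‹_›
  have h2 := h.left.isLocallyConstructible_image h1
  have h3 : h.left '' (Points.ofPt (c ≫ pullback.fst f φ') ⁻¹' E) =
      ((Subtype.val : U' → U.left) ⁻¹' (Points.ofPt φ ⁻¹' (Points.map f '' E))) := by
    ext u'
    have hu' : Points.ofPt φ u'.1 = Points.ofPt φ' u' := by
      rw [hφ'def, ofPt_yon_map_comp, hι'left]
      rfl
    constructor
    · rintro ⟨w, hw, rfl⟩
      refine ⟨Points.ofPt (c ≫ pullback.fst f φ') w, hw, ?_⟩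
      rw [hu', ← ofPt_yon_map_comp, ← hcomm, Points.map_ofPt]
    · rintro ⟨x, hxE, hx⟩
      rw [hu', Points.ofPt_eq_map_ofScheme] at hx
      obtain ⟨z, hz1, hz2⟩ := points_exists_of_isPullback f φ' (pullback.snd f φ')
        (pullback.fst f φ') sq.flip (Points.ofScheme _ u') x hx.symm
      obtain ⟨w, rfl⟩ := surjective_ofPt c hcs z
      refine ⟨w, ?_, ?_⟩
      · show Points.ofPt (c ≫ pullback.fst f φ') w ∈ E
        rw [← Points.map_ofPt, hz2]
        exact hxE
      · rw [Points.map_ofPt, ← hh, Points.ofPt_eq_map_ofScheme] at hz1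
        have h5 := Points.map_yon_map_apply h w
        apply (Points.schemeHomeo (Over.mk (U'.ι ≫ U.hom))).injective
        exact h5.symm.trans hz1
  rw [h3] at h2
  exact h2

end Groth.Agent.Helper2.AlgSpLocConstr
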