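import Mathlib

/-!
# Local finiteness of irreducible components in locally Noetherian spaces (helper2)
-/

set_option autoImplicit false
open TopologicalSpace Topology Set

namespace Groth.Agent.Helper2

theorem locallyFinite_irreducibleComponents_of_locally_noetherian {α : Type*} [TopologicalSpace α]
    (hα : ∀ x : α, ∃ W : Set α, IsOpen W ∧ x ∈ W ∧ NoetherianSpace ↥W)
    (T : Set α) :
    LocallyFinite (fun Z : ↥(irreducibleComponents ↥T) => ((↑) : ↥T → α) '' (Z : Set ↥T)) := by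
  intro x
  obtain ⟨W, hWo, hxW, hWn⟩ := hα x
  refine ⟨W, hWo.mem_nhds hxW, ?_⟩
  -- the open subset of `T` over `W`
  let TW : Set ↥T := {t | t.1 ∈ W}
  have hTWo : IsOpen TW := hWo.preimage continuous_subtype_val
  have he : IsOpenEmbedding ((↑) : ↥TW → ↥T) := hTWo.isOpenEmbedding_subtypeVal
  -- `TW` is noetherian
  let g : ↥TW → ↥W := fun t => ⟨t.1.1, t.2⟩
  have hg : IsInducing g := by
    refine ⟨?_⟩
    have h1 : IsInducing (fun t : ↥TW => (t.1.1 : α)) :=
      IsInducing.subtypeVal.comp IsInducing.subtypeVal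
    have h2 : (fun t : ↥TW => (t.1.1 : α)) = ((↑) : ↥W → α) ∘ g := rfl
    rw [h1.eq_induced, h2, ← induced_compose]
    congr 1
  haveI : NoetherianSpace ↥TW := hg.noetherianSpace
  have hfin : (irreducibleComponents ↥TW).Finite := NoetherianSpace.finite_irreducibleComponents
  -- the map on components
  let Φ : {Z : ↥(irreducibleComponents ↥T) //
      (((↑) : ↥T → α) '' (Z : Set ↥T) ∩ W).Nonempty} → ↥(irreducibleComponents ↥TW) :=
    fun Z => ⟨((↑) : ↥TW → ↥T) ⁻¹' (Z.1 : Set ↥T), preimage_mem_irreducibleComponents Z.1.2 he (by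
      obtain ⟨a, ⟨t, htZ, rfl⟩, haW⟩ := Z.2
      exact ⟨t, htZ, ⟨⟨t, haW⟩, rfl⟩⟩)⟩
  have hΦ : Function.Injective Φ := by
    intro Z₁ Z₂ h
    have h' : ((↑) : ↥TW → ↥T) ⁻¹' (Z₁.1 : Set ↥T) = ((↑) : ↥TW → ↥T) ⁻¹' (Z₂.1 : Set ↥T) :=
      congrArg Subtype.val h
    have key : ∀ Z : {Z : ↥(irreducibleComponents ↥T) //
        (((↑) : ↥T → α) '' (Z : Set ↥T) ∩ W).Nonempty},
        closure (((↑) : ↥TW → ↥T) '' (((↑) : ↥TW → ↥T) ⁻¹' (Z.1 : Set ↥T))) = (Z.1 : Set ↥T) := by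
      intro Z
      refine closure_image_preimage_of_isPreirreducible _ he.isOpenMap _ ?_
        Z.1.2.1.isPreirreducible (isClosed_of_mem_irreducibleComponents _ Z.1.2)
      obtain ⟨a, ⟨t, htZ, rfl⟩, haW⟩ := Z.2
      exact ⟨⟨t, haW⟩, htZ⟩
    apply Subtype.ext
    apply Subtype.ext
    rw [← key Z₁, ← key Z₂, h']
  haveI : Finite ↥(irreducibleComponents ↥TW) := hfin.to_subtype
  have hfin' := Finite.of_injective Φ hΦ
  exact Set.finite_coe_iff.mp hfin'

end Groth.Agent.Helper2
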