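import Mathlib
import Groth.Agent.Lib.Helper2.Sch.LocFinIrred
import Groth.Agent.Lib.Helper2.AlgSp.DenseOpenDecent
import Groth.Agent.Lib.Helper2.AlgSp.GenericDecent
import Groth.Agent.Lib.Helper2.AlgSp.QfCodimZero

/-!
# Locally finitely many irreducible components for algebraic spaces (helper2)
-/

set_option autoImplicit false
set_option linter.style.haveILetI false

open CategoryTheory CategoryTheory.Limits AlgebraicGeometry Opposite AlgSp TopologicalSpace

universe u

namespace Groth.Agent.Helper2.LocFinIrred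

open Groth.Agent.Helper2.AlgSpBasic Groth.Agent.Lib.Helper6.FppfComp Groth.Agent.Lib.Helper6.LocIso

/-- quasi-compact opens have finitely many irreducible components -/
def QFin (U : Scheme.{u}) : Prop :=
  ∀ W : U.Opens, IsCompact (W : Set ↥U) → (irreducibleComponents ↥W).Finite

theorem exists_gen_specializes {T : Type*} [TopologicalSpace T] [QuasiSober T] [T0Space T]
    (x : T) : ∃ x', (∀ y, y ⤳ x' → y = x') ∧ x' ⤳ x := by
  obtain ⟨x', h1, h2⟩ := exists_generic_specializes x
  exact ⟨x', fun y hy => eq_of_specializes_of_closure_mem h1 hy, h2⟩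

theorem qFin_of_open_surjective {W U : Scheme.{u}} (p : W ⟶ U) (hop : IsOpenMap p)
    (hs : Function.Surjective p) (hW : QFin W) : QFin U := by
  intro O hO
  have : QuasiSober ↥O := O.isOpenEmbedding'.quasiSober
  apply finite_irreducibleComponents_of_finite_gen
  have hcov : ∀ o : ↥O, ∃ D : W.Opens, IsAffineOpen D ∧ o.1 ∈ p '' (D : Set W) := by
    intro o
    obtain ⟨w, hw⟩ := hs o.1
    obtain ⟨D, hD, hwD, -⟩ := exists_isAffineOpen_mem_and_subset (x := w) (U := ⊤) trivial
    exact ⟨D, hD, w, hwD, hw⟩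
  choose D hD hoD using hcov
  obtain ⟨t, ht⟩ := hO.elim_finite_subcover (fun o : ↥O => p '' (D o : Set W))
    (fun o => hop _ (D o).2) (fun y hy => Set.mem_iUnion.mpr ⟨⟨y, hy⟩, hoD ⟨y, hy⟩⟩)
  obtain ⟨W', hW'⟩ : ∃ W' : W.Opens, (W' : Set W) = ⋃ o ∈ t, (D o : Set W) :=
    ⟨⟨⋃ o ∈ t, (D o : Set W), isOpen_biUnion fun o _ => (D o).2⟩, rfl⟩
  have hW'c : IsCompact (W' : Set W) := by
    rw [hW']
    exact t.isCompact_biUnion (fun o _ => (hD o).isCompact)
  have hfinW := finite_gen_of_finite_irreducibleComponents W' (hW W' hW'c)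
  have hfin : {η : U | η ∈ O ∧ ∀ η', η' ⤳ η → η' = η}.Finite := by
    refine (hfinW.image p).subset ?_
    rintro η ⟨hηO, hη⟩
    obtain ⟨o, ho, ξ, hξD, hξη⟩ : ∃ o ∈ t, ∃ ξ ∈ (D o : Set W), p ξ = η := by
      have h1 := ht hηO
      simp only [Set.mem_iUnion] at h1
      obtain ⟨o, ho, ξ, hξ, hξη⟩ := h1
      exact ⟨o, ho, ξ, hξ, hξη⟩
    obtain ⟨ξ₀, hξ₀, hξ₀ξ⟩ := exists_gen_specializes ξ
    have h1 : p ξ₀ ⤳ p ξ := hξ₀ξ.map p.continuous
    rw [hξη] at h1
    have h2 : p ξ₀ = η := hη _ h1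
    have hξW' : ξ ∈ (W' : Set W) := by
      rw [hW']
      exact Set.mem_biUnion ho hξD
    have h3 : ξ₀ ∈ W' := hξ₀ξ.mem_open W'.2 hξW'
    exact ⟨ξ₀, ⟨h3, hξ₀⟩, h2⟩
  refine (hfin.preimage (Subtype.val_injective.injOn)).subset ?_
  intro z hz
  exact ⟨z.2, (forall_specializes_subtype_iff O.2 z).mp hz⟩

/-- finitely many irreducible components from finitely many generic points, for schemes -/
theorem finite_irreducibleComponents_of_qFin_compact {V : Scheme.{u}} (hV : QFin V)
    [CompactSpace ↥V] : (irreducibleComponents ↥V).Finite := by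
  have h1 := hV ⊤ (by simpa using isCompact_univ)
  have h2 := finite_gen_of_finite_irreducibleComponents (⊤ : V.Opens) h1
  apply finite_irreducibleComponents_of_finite_gen
  refine h2.subset ?_
  intro x hx
  exact ⟨trivial, hx⟩

variable {S : Scheme.{u}}

theorem qFin_of_chart {X : Sp S} (hX : IsAlgSpace X) {U₁ : Over S} (a₁ : (yon S).obj U₁ ⟶ X)
    (ha₁e : RepWith @Etale a₁) (ha₁s : RepWith @Surjective a₁) (hQ : QFin U₁.left)
    {U : Over S} (a : (yon S).obj U ⟶ X) (hae : RepWith @Etale a) : QFin U.left := by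
  obtain ⟨W, fst, snd, sq⟩ := exists_isPullback_yon hX.diag a a₁
  haveI h1 : Etale snd.left := hae.2 a₁ ((yon S).map fst) snd sq
  haveI h2 : Etale fst.left := ha₁e.2 a ((yon S).map snd) fst sq.flip
  haveI h3 : Surjective fst.left := ha₁s.2 a ((yon S).map snd) fst sq.flip
  have hW : QFin W.left := fun O hO => finite_irreducibleComponents_of_flat_lft snd.left hQ O hO
  exact qFin_of_open_surjective fst.left fst.left.isOpenMap fst.left.surjective hW

end Groth.Agent.Helper2.LocFinIrred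

namespace Groth.Agent.Helper2.LocFinIrred

open Groth.Agent.Helper2.AlgSpBasic Groth.Agent.Lib.Helper6.FppfComp Groth.Agent.Lib.Helper6.LocIso
open Groth.Agent.Helper2.QfCodimZero

variable {S : Scheme.{u}}

/-- a quasi-compact open of a chart as a quasi-compact space etale over `X` -/
theorem exists_qc_etale_of_open {X : Space S} {U : Over S} (a : (yon S).obj U ⟶ X.obj)
    (hae : RepWith @Etale a) (W : U.left.Opens) (hW : IsCompact (W : Set ↥U.left)) :
    ∃ (Wo : Over S) (Y : Space S) (g : Y ⟶ X), Wo.left = W.toScheme ∧ Y.obj = (yon S).obj Wo ∧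
      IsEtaleMor g.hom ∧ IsQuasiCompactSp Y.obj := by
  have hιe : RepWith @Etale ((yon S).map (Over.homMk W.ι rfl :
      Over.mk (W.ι ≫ U.hom) ⟶ U)) := by
    rw [repWith_yon_map_iff]
    show Etale W.ι
    infer_instance
  refine ⟨Over.mk (W.ι ≫ U.hom), ⟨(yon S).obj (Over.mk (W.ι ≫ U.hom)), IsAlgSpace.yon_obj _⟩,
    ObjectProperty.homMk ((yon S).map (Over.homMk W.ι rfl :
      Over.mk (W.ι ≫ U.hom) ⟶ U) ≫ a), rfl, rfl, ?_, ?_⟩
  · intro T φ hφ
    exact repWith_comp @Etale hφ (repWith_comp @Etale hιe hae)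
  · refine ⟨Over.mk (W.ι ≫ U.hom), 𝟙 _, repWith_id _ _, repWith_id _ _, ?_⟩
    exact isCompact_iff_compactSpace.mp hW

theorem S10304_main (X : Space S) :
    (EtaleLocally QFin X.obj ↔
      ∀ (U : Over S) (a : (yon S).obj U ⟶ X.obj), RepWith @Etale a → QFin U.left) ∧
    (EtaleLocally QFin X.obj ↔
      ∀ (Y : Space S) (g : Y ⟶ X), IsEtaleMor g.hom → IsQuasiCompactSp Y.obj →
        {y : Points Y.obj | HasAt DimZ Y.obj y}.Finite) ∧
    (EtaleLocally QFin X.obj ↔
      ∀ (Y : Space S) (g : Y ⟶ X), IsEtaleMor g.hom → IsQuasiCompactSp Y.obj →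
        (irreducibleComponents (Points Y.obj)).Finite) := by
  have h12 : EtaleLocally QFin X.obj →
      ∀ (U : Over S) (a : (yon S).obj U ⟶ X.obj), RepWith @Etale a → QFin U.left := by
    rintro ⟨U₁, a₁, he, hs, hQ⟩ U a hae
    exact qFin_of_chart X.property a₁ he hs hQ a hae
  have hchart : ∀ (Y : Space S) (g : Y ⟶ X), EtaleLocally QFin X.obj → IsEtaleMor g.hom →
      IsQuasiCompactSp Y.obj → ∃ (V : Over S) (c : (yon S).obj V ⟶ Y.obj), RepWith @Etale c ∧
        RepWith @Surjective c ∧ (irreducibleComponents ↥V.left).Finite := by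
    rintro Y g hEL hg ⟨V, c, hce, hcs, hVc⟩
    have hQV : QFin V.left := h12 hEL V (c ≫ g.hom) (hg c hce)
    haveI := hVc
    exact ⟨V, c, hce, hcs, finite_irreducibleComponents_of_qFin_compact hQV⟩
  refine ⟨⟨h12, fun h => ?_⟩, ⟨fun hEL Y g hg hY => ?_, fun h => ?_⟩,
    ⟨fun hEL Y g hg hY => ?_, fun h => ?_⟩⟩
  · obtain ⟨U, a, hae, has⟩ := X.property.atlas
    exact ⟨U, a, hae, has, h U a hae⟩
  · obtain ⟨V, c, hce, hcs, hfin⟩ := hchart Y g hEL hg hY
    have hgen := finite_setOf_forall_specializes hfin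
    refine (hgen.image (Points.ofPt c)).subset ?_
    intro y hy
    obtain ⟨v, rfl⟩ := surjective_ofPt c hcs y
    refine ⟨v, ?_, rfl⟩
    have h1 := (hasAt_dimZ_iff Y.property c hce v).mp hy
    exact (Groth.Agent.Helper2.GenericDecent.dimZ_iff_forall_specializes v).mp h1
  · obtain ⟨U, a, hae, has⟩ := X.property.atlas
    refine ⟨U, a, hae, has, fun W hW => ?_⟩
    obtain ⟨Wo, Y, g, hWo, hY, hg, hqc⟩ := exists_qc_etale_of_open a hae W hW
    have hfin := h Y g hg hqc
    obtain ⟨Yo, hYp⟩ := Y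
    change Yo = (yon S).obj Wo at hY
    subst hY
    have hgen : {w : ↥Wo.left | ∀ w', w' ⤳ w → w' = w}.Finite := by
      refine (hfin.preimage (f := Points.schemeHomeo Wo)
        ((Points.schemeHomeo Wo).injective.injOn)).subset ?_
      intro w hw
      have h1 := (Groth.Agent.Helper2.GenericDecent.dimZ_iff_forall_specializes w).mpr hw
      have h2 := (hasAt_dimZ_iff (IsAlgSpace.yon_obj Wo) (𝟙 _) (repWith_id _ Wo) w).mpr h1
      have h3 : Points.ofPt (𝟙 ((yon S).obj Wo)) w = Points.schemeHomeo Wo w := by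
        rw [Points.ofPt_eq_map_ofScheme, Points.map_id]
        rfl
      rw [h3] at h2
      exact h2
    have hfinW : (irreducibleComponents ↥Wo.left).Finite :=
      finite_irreducibleComponents_of_finite_gen hgen
    rw [hWo] at hfinW
    exact hfinW
  · obtain ⟨V, c, hce, hcs, hfin⟩ := hchart Y g hEL hg hY
    exact Groth.Agent.Helper2.DenseOpenDecent.finite_irreducibleComponents_of_denseRange
      (Points.ofPt c) (Points.continuous_ofPt c) (surjective_ofPt c hcs).denseRange hfin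
  · obtain ⟨U, a, hae, has⟩ := X.property.atlas
    refine ⟨U, a, hae, has, fun W hW => ?_⟩
    obtain ⟨Wo, Y, g, hWo, hY, hg, hqc⟩ := exists_qc_etale_of_open a hae W hW
    have hfin := h Y g hg hqc
    obtain ⟨Yo, hYp⟩ := Y
    change Yo = (yon S).obj Wo at hY
    subst hY
    have hfinW : (irreducibleComponents ↥Wo.left).Finite :=
      Groth.Agent.Helper2.DenseOpenDecent.finite_irreducibleComponents_of_isOpenEmbedding
        (Points.schemeHomeo Wo) (Points.schemeHomeo Wo).isOpenEmbedding hfin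
    rw [hWo] at hfinW
    exact hfinW

end Groth.Agent.Helper2.LocFinIrred
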