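import Mathlib
import Groth.Prelude.Def_AlgSpOX
import Groth.Prelude.Def_ModSite
import Groth.Agent.Lib.Helper2.AlgSp.EtStalk

/-!
# The small etale site with its structure sheaf is a locally ringed site
-/

universe u

open CategoryTheory CategoryTheory.Limits AlgebraicGeometry Opposite

namespace Groth.Agent.Helper2.LocRinged

open AlgSp

/-- A global function whose non-vanishing locus contains the image of `h` pulls back to a unit. -/
theorem isUnit_appTop_of_range_subset {V U : Scheme.{u}} (h : V ⟶ U) (f : Γ(U, ⊤))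
    (hr : Set.range h ⊆ (U.basicOpen f : Set ↥U)) : IsUnit (h.appTop.hom f) := by
  have h1 : V.basicOpen (h.appTop.hom f) = ⊤ := by
    have h2 : h ⁻¹ᵁ U.basicOpen f = V.basicOpen (h.appTop.hom f) :=
      Scheme.preimage_basicOpen_top h f
    rw [← h2]
    ext x
    simp only [TopologicalSpace.Opens.coe_top, Set.mem_univ, iff_true]
    exact hr ⟨x, rfl⟩
  apply RingedSpace.isUnit_of_isUnit_germ V.toLocallyRingedSpace.toRingedSpace ⊤
  intro x hx
  have hx' : x ∈ V.basicOpen (h.appTop.hom f) := by rw [h1]; trivial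
  exact (Scheme.mem_basicOpen V (h.appTop.hom f) x hx).1 hx'

theorem mem_basicOpen_or (U : Scheme.{u}) (f : Γ(U, ⊤)) (x : ↥U) :
    x ∈ U.basicOpen f ∨ x ∈ U.basicOpen (1 - f) := by
  have h1 : x ∈ U.basicOpen (f + (1 - f)) := by
    have : f + (1 - f) = 1 := by ring
    rw [this, Scheme.basicOpen_one]
    trivial
  have h2 := Scheme.basicOpen_add_le U f (1 - f) h1
  exact h2


variable {S : Scheme.{u}} (X : Sp S)

theorem isLocallyRinged : ModSite.IsLocallyRinged (etTop X) (OEt X) := by
  refine ⟨fun U f => ?_, fun U h01 => ?_⟩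
  · have hf : ∃ f₀ : Γ(U.obj.left.left, ⊤), f = ULift.up f₀ := ⟨(show ULift.{u + 1} _ from f).down, rfl⟩
    obtain ⟨f₀, rfl⟩ := hf
    obtain ⟨E₁, j₁, h₁⟩ := EtStalk.exists_open_sub U (U.obj.left.left.basicOpen f₀)
    obtain ⟨E₂, j₂, h₂⟩ := EtStalk.exists_open_sub U (U.obj.left.left.basicOpen (1 - f₀))
    let Y : Bool → EtOver X := fun b => cond b E₁ E₂
    let g : ∀ b, Y b ⟶ U := fun b => match b with
      | true => j₁
      | false => j₂
    refine ⟨Sieve.ofArrows Y g, ofArrows_mem_etTop Y g fun x => ?_, ?_⟩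
    · rcases mem_basicOpen_or U.obj.left.left f₀ x with hx | hx
      · exact ⟨true, by rw [h₁]; exact hx⟩
      · exact ⟨false, by rw [h₂]; exact hx⟩
    · rintro V k ⟨W, a, b, ⟨i⟩, rfl⟩
      cases i with
      | true =>
        left
        have hu : IsUnit ((a ≫ j₁).hom.left.left.appTop.hom f₀) := by
          apply isUnit_appTop_of_range_subset
          rintro _ ⟨v, rfl⟩
          have : (a ≫ j₁).hom.left.left v = j₁.hom.left.left (a.hom.left.left v) := rfl
          rw [this, ← h₁]
          exact ⟨_, rfl⟩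
        have hmap : ((OEt X).obj.map (a ≫ j₁).op).hom (ULift.up f₀) =
            ULift.up ((a ≫ j₁).hom.left.left.appTop.hom f₀) := rfl
        have hu' := hu.map (ULift.ringEquiv (R := Γ(V.obj.left.left, ⊤))).symm
        exact hmap ▸ hu'
      | false =>
        right
        have hu : IsUnit ((a ≫ j₂).hom.left.left.appTop.hom (1 - f₀)) := by
          apply isUnit_appTop_of_range_subset
          rintro _ ⟨v, rfl⟩
          have : (a ≫ j₂).hom.left.left v = j₂.hom.left.left (a.hom.left.left v) := rfl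
          rw [this, ← h₂]
          exact ⟨_, rfl⟩
        have hmap : ((OEt X).obj.map (a ≫ j₂).op).hom (1 - ULift.up f₀) =
            ULift.up ((a ≫ j₂).hom.left.left.appTop.hom (1 - f₀)) := rfl
        have hu' := hu.map (ULift.ringEquiv (R := Γ(V.obj.left.left, ⊤))).symm
        exact hmap ▸ hu'
  · have h01' : (0 : Γ(U.obj.left.left, ⊤)) = 1 := congrArg ULift.down h01
    have hempty : IsEmpty ↥U.obj.left.left := by
      refine ⟨fun x => ?_⟩
      have hx : x ∈ U.obj.left.left.basicOpen (0 : Γ(U.obj.left.left, ⊤)) := by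
        rw [h01', Scheme.basicOpen_one]; trivial
      rw [Scheme.basicOpen_zero] at hx
      exact hx
    have hcov : Sieve.ofArrows (fun i : PEmpty.{1} => (i.elim : EtOver X))
        (fun i => (i.elim : _ ⟶ U)) ∈ etTop X U :=
      ofArrows_mem_etTop _ _ fun x => (hempty.false x).elim
    refine (etTop X).superset_covering ?_ hcov
    rintro V k ⟨W, a, b, ⟨i⟩, rfl⟩
    exact i.elim

end Groth.Agent.Helper2.LocRinged
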