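import Mathlib

/-!
# Finite fibres for equivalence relations with immersive diagonal (helper2)

Let `s, t : R ⟶ U` be an equivalence relation on a quasi-compact scheme `U` over `S` such that
`(s, t) : R ⟶ U ×_S U` is an immersion and `s` is locally quasi-finite (e.g. etale).
Then every fibre of `s` is finite.  The proof is the scheme-theoretic version of the fact that
a locally closed subgroup of a topological group is closed (and a closed discrete subset of a
quasi-compact space is finite).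
-/

set_option backward.isDefEq.respectTransparency.types false
set_option autoImplicit false
set_option synthInstance.maxHeartbeats 400000
set_option maxHeartbeats 4000000
set_option linter.style.haveILetI false
set_option linter.unusedSectionVars false
set_option linter.unusedVariables false
set_option linter.unusedSimpArgs false
set_option linter.unnecessarySimpa false

open CategoryTheory CategoryTheory.Limits AlgebraicGeometry Topology

universe u

namespace Groth.Agent.Helper2.LocSepFin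

/-- A residue-field valued point whose image lies in the range of a preimmersion factors
through it. -/
theorem exists_lift_of_mem_range {X Y Q : Scheme.{u}} (j : X ⟶ Y) [IsPreimmersion j]
    (h : Q ⟶ Y) (z : Q) (hz : h z ∈ Set.range j) :
    ∃ g' : Spec (Q.residueField z) ⟶ X, g' ≫ j = Q.fromSpecResidueField z ≫ h := by
  obtain ⟨x, hx⟩ := hz
  have hsurj : Function.Surjective (j.residueFieldMap x) := by
    intro c
    obtain ⟨a, rfl⟩ := X.residue_surjective x c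
    obtain ⟨a', rfl⟩ := j.stalkMap_surjective x a
    refine ⟨Y.residue (j x) a', ?_⟩
    have := congrArg (fun φ => φ a') (Scheme.residue_residueFieldMap j x)
    simpa using this
  have hinj : Function.Injective (j.residueFieldMap x) := (j.residueFieldMap x).hom.injective
  haveI : IsIso (j.residueFieldMap x) :=
    (ConcreteCategory.isIso_iff_bijective _).2 ⟨hinj, hsurj⟩
  refine ⟨Spec.map (inv (j.residueFieldMap x) ≫ (Y.residueFieldCongr hx).hom ≫
    h.residueFieldMap z) ≫ X.fromSpecResidueField x, ?_⟩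
  have e1 := Scheme.Hom.SpecMap_residueFieldMap_fromSpecResidueField j x
  have e2 := Scheme.Hom.SpecMap_residueFieldMap_fromSpecResidueField h z
  rw [Category.assoc, ← e1, ← e2, ← Spec.map_comp_assoc, IsIso.hom_inv_id_assoc,
    Spec.map_comp_assoc, Scheme.residueFieldCongr_fromSpecResidueField]

theorem quasiCompact_of_finite {X Y : Scheme.{u}} (f : X ⟶ Y) [Finite X] : QuasiCompact f :=
  ⟨fun _ _ _ => (Set.toFinite _).isCompact⟩

variable {S U R Pr : Scheme.{u}}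

/-- `a ~ b` for `T`-valued points of `U`. -/
def Rel (s t : R ⟶ U) {T : Scheme.{u}} (a b : T ⟶ U) : Prop :=
  ∃ r : T ⟶ R, r ≫ s = a ∧ r ≫ t = b

theorem Rel.precomp {s t : R ⟶ U} {T T' : Scheme.{u}} {a b : T ⟶ U} (h : Rel s t a b)
    (k : T' ⟶ T) : Rel s t (k ≫ a) (k ≫ b) := by
  obtain ⟨r, h1, h2⟩ := h
  exact ⟨k ≫ r, by rw [Category.assoc, h1], by rw [Category.assoc, h2]⟩

/-- The data: an equivalence relation `s, t : R ⟶ U` with `(s, t)` an immersion into
`Pr = U ×_S U`. -/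
structure Dat (f : U ⟶ S) (p₁ p₂ : Pr ⟶ U) (j : R ⟶ Pr) (s t : R ⟶ U) : Prop where
  pb : IsPullback p₁ p₂ f f
  imm : IsImmersion j
  hs : j ≫ p₁ = s
  ht : j ≫ p₂ = t
  lqf : LocallyQuasiFinite s
  refl : ∀ {T : Scheme.{u}} (a : T ⟶ U), Rel s t a a
  symm : ∀ {T : Scheme.{u}} {a b : T ⟶ U}, Rel s t a b → Rel s t b a
  trans : ∀ {T : Scheme.{u}} {a b c : T ⟶ U}, Rel s t a b → Rel s t b c → Rel s t a c

variable {f : U ⟶ S} {p₁ p₂ : Pr ⟶ U} {j : R ⟶ Pr} {s t : R ⟶ U}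

theorem Dat.mem_range_of_rel (D : Dat f p₁ p₂ j s t) {T : Scheme.{u}} (c : T ⟶ Pr)
    (h : Rel s t (c ≫ p₁) (c ≫ p₂)) (x : T) : c x ∈ Set.range j := by
  obtain ⟨r, h1, h2⟩ := h
  have : r ≫ j = c := D.pb.hom_ext (by rw [Category.assoc, D.hs, h1])
    (by rw [Category.assoc, D.ht, h2])
  exact ⟨r x, by rw [← this, Scheme.Hom.comp_apply]⟩

theorem Dat.rel_of_mem_range (D : Dat f p₁ p₂ j s t) {Q : Scheme.{u}} (c : Q ⟶ Pr) (z : Q)
    (hz : c z ∈ Set.range j) :
    Rel s t (Q.fromSpecResidueField z ≫ c ≫ p₁) (Q.fromSpecResidueField z ≫ c ≫ p₂) := by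
  haveI := D.imm
  obtain ⟨g', hg'⟩ := exists_lift_of_mem_range j c z hz
  refine ⟨g', ?_, ?_⟩
  · rw [← D.hs, ← Category.assoc, hg', Category.assoc]
  · rw [← D.ht, ← Category.assoc, hg', Category.assoc]

/-- **Main lemma**: the fibres of `s` are finite. -/
theorem Dat.finite_fibre (D : Dat f p₁ p₂ j s t) [CompactSpace U] (u : U) :
    (s ⁻¹' {u}).Finite := by
  haveI := D.imm
  haveI := D.lqf
  by_contra hfin
  have hinf : (s ⁻¹' {u}).Infinite := hfin
  -- the fibre of `p₁` over `u`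
  obtain ⟨ι, hι⟩ : ∃ ι : Spec (U.residueField u) ⟶ U, ι = U.fromSpecResidueField u := ⟨_, rfl⟩
  obtain ⟨Fs, g, σ, sqF, hgdef⟩ : ∃ (Fs : Scheme.{u}) (g : Fs ⟶ Pr)
      (σ : Fs ⟶ Spec (U.residueField u)), IsPullback g σ p₁ ι ∧ Set.range g = p₁ ⁻¹' {u} := by
    refine ⟨pullback p₁ ι, pullback.fst p₁ ι, pullback.snd p₁ ι,
      IsPullback.of_hasPullback _ _, ?_⟩
    rw [Scheme.Pullback.range_fst, hι, Scheme.range_fromSpecResidueField]
  haveI : IsPreimmersion ι := by rw [hι]; infer_instance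
  haveI : IsPreimmersion g :=
    MorphismProperty.of_isPullback (P := @IsPreimmersion) sqF.flip inferInstance
  haveI : CompactSpace Fs := by
    have big : IsPullback (g ≫ p₂) σ f (ι ≫ f) := sqF.paste_horiz D.pb.flip
    haveI : QuasiCompact (ι ≫ f) := quasiCompact_of_finite _
    haveI : QuasiCompact (g ≫ p₂) :=
      MorphismProperty.of_isPullback (P := @QuasiCompact) big.flip inferInstance
    exact QuasiCompact.compactSpace_of_compactSpace (g ≫ p₂)
  have hK : IsCompact (p₁ ⁻¹' {u}) := by rw [← hgdef]; exact isCompact_range g.continuous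
  have hsub : j '' (s ⁻¹' {u}) ⊆ p₁ ⁻¹' {u} := by
    rintro _ ⟨r, hr, rfl⟩
    show p₁ (j r) ∈ ({u} : Set U)
    rw [← Scheme.Hom.comp_apply, D.hs]
    exact hr
  have hinf' : (j '' (s ⁻¹' {u})).Infinite := hinf.image j.isEmbedding.injective.injOn
  obtain ⟨b, hbK, hb⟩ := hinf'.exists_accPt_of_subset_isCompact hK hsub
  have e1 := D.pb.w
  have e2 := sqF.w
  have hgf : g ≫ p₂ ≫ f = σ ≫ ι ≫ f := by rw [← e1, reassoc_of% e2]
  -- main claim
  have hbZ : b ∈ Set.range j := by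
    obtain ⟨W, C, hW, hC, hZ⟩ := j.isLocallyClosed_range
    obtain ⟨bF, hbF⟩ : b ∈ Set.range g := by rw [hgdef]; exact hbK
    obtain ⟨A, hA⟩ : ∃ A : Set Fs, A = g ⁻¹' (j '' (s ⁻¹' {u})) := ⟨_, rfl⟩
    have hbcl : bF ∈ closure A := by
      rw [g.isEmbedding.isInducing.closure_eq_preimage_closure_image]
      have himg : g '' A = j '' (s ⁻¹' {u}) := by
        rw [hA, Set.image_preimage_eq_inter_range, hgdef]
        exact Set.inter_eq_left.2 hsub
      rw [himg]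
      show g bF ∈ closure _
      rw [hbF]
      exact mem_closure_iff_clusterPt.2 hb.clusterPt
    have hopen : ∀ {T Q : Scheme.{u}} (ℓ : T ⟶ Spec (U.residueField u)) (β : Q ⟶ Fs)
        (τ : Q ⟶ T), IsPullback β τ σ ℓ → IsOpenMap β := by
      intro T Q ℓ β τ sq
      haveI : UniversallyOpen ℓ := inferInstance
      haveI : UniversallyOpen β :=
        MorphismProperty.of_isPullback (P := @UniversallyOpen) sq.flip inferInstance
      exact β.isOpenMap
    -- the residue field point at `bF`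
    obtain ⟨bt, hbt⟩ : ∃ bt : Spec (Fs.residueField bF) ⟶ Fs,
        bt = Fs.fromSpecResidueField bF := ⟨_, rfl⟩
    have hbt_pt : ∀ x, bt x = bF := by
      intro x; rw [hbt]; exact Fs.fromSpecResidueField_apply bF x
    obtain ⟨Q, β, τ, sqQ⟩ : ∃ (Q : Scheme.{u}) (β : Q ⟶ Fs)
        (τ : Q ⟶ Spec (Fs.residueField bF)), IsPullback β τ σ (bt ≫ σ) :=
      ⟨_, _, _, IsPullback.of_hasPullback _ _⟩
    have hβo : IsOpenMap β := hopen _ β τ sqQ
    have e3 := sqQ.w
    obtain ⟨v', hv'⟩ : ∃ v' : Spec (Fs.residueField bF) ⟶ U, v' = bt ≫ g ≫ p₂ := ⟨_, rfl⟩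
    have hmcond : (β ≫ g ≫ p₂) ≫ f = (τ ≫ v') ≫ f := by
      simp only [Category.assoc, hv']
      rw [hgf, reassoc_of% e3]
    obtain ⟨m, hm1, hm2⟩ : ∃ m : Q ⟶ Pr, m ≫ p₁ = β ≫ g ≫ p₂ ∧ m ≫ p₂ = τ ≫ v' :=
      ⟨D.pb.lift _ _ hmcond, D.pb.lift_fst _ _ _, D.pb.lift_snd _ _ _⟩
    obtain ⟨δ, hδ1, hδ2⟩ : ∃ δ : Spec (Fs.residueField bF) ⟶ Q, δ ≫ β = bt ∧ δ ≫ τ = 𝟙 _ :=
      ⟨sqQ.lift bt (𝟙 _) (by simp), sqQ.lift_fst _ _ _, sqQ.lift_snd _ _ _⟩
    obtain ⟨x0⟩ : Nonempty (Spec (Fs.residueField bF)) := inferInstance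
    have hδβ : β (δ x0) = bF := by
      rw [← Scheme.Hom.comp_apply, hδ1]; exact hbt_pt x0
    have hmδ : m (δ x0) ∈ Set.range j := by
      rw [← Scheme.Hom.comp_apply]
      apply D.mem_range_of_rel (δ ≫ m)
      have h1 : (δ ≫ m) ≫ p₁ = v' := by
        rw [Category.assoc, hm1, ← Category.assoc, hδ1, hv']
      have h2 : (δ ≫ m) ≫ p₂ = v' := by
        rw [Category.assoc, hm2, ← Category.assoc, hδ2, Category.id_comp]
      rw [h1, h2]; exact D.refl v'
    have hN : IsOpen (m ⁻¹' W) := hW.preimage m.continuous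
    have hδN : δ x0 ∈ m ⁻¹' W := by
      have : m (δ x0) ∈ W ∩ C := hZ ▸ hmδ
      exact this.1
    have hβN : bF ∈ β '' (m ⁻¹' W) := ⟨δ x0, hδN, hδβ⟩
    obtain ⟨_, ⟨z, hzN, rfl⟩, hzA⟩ : ((β '' (m ⁻¹' W)) ∩ A).Nonempty :=
      mem_closure_iff.1 hbcl _ (hβo _ hN) hβN
    obtain ⟨zt, hzt⟩ : ∃ zt : Spec (Q.residueField z) ⟶ Q, zt = Q.fromSpecResidueField z :=
      ⟨_, rfl⟩
    have hzt_pt : ∀ x, zt x = z := by
      intro x; rw [hzt]; exact Q.fromSpecResidueField_apply z x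
    have hstar1 : Rel s t (zt ≫ τ ≫ bt ≫ σ ≫ ι) (zt ≫ β ≫ g ≫ p₂) := by
      have hr := D.rel_of_mem_range (β ≫ g) z (by
        rw [hA] at hzA
        obtain ⟨r, -, hr⟩ := hzA
        rw [Scheme.Hom.comp_apply]
        exact ⟨r, hr⟩)
      rw [← hzt] at hr
      have e : zt ≫ (β ≫ g) ≫ p₁ = zt ≫ τ ≫ bt ≫ σ ≫ ι := by
        rw [Category.assoc, e2, reassoc_of% e3]
      rw [e, Category.assoc] at hr
      exact hr
    have hmzW : m z ∈ W := hzN
    have hmzC : m z ∈ C := by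
      obtain ⟨Q', β', τ', sqQ'⟩ : ∃ (Q' : Scheme.{u}) (β' : Q' ⟶ Fs)
          (τ' : Q' ⟶ Spec (Q.residueField z)), IsPullback β' τ' σ (zt ≫ τ ≫ bt ≫ σ) :=
        ⟨_, _, _, IsPullback.of_hasPullback _ _⟩
      have hβ'o : IsOpenMap β' := hopen _ β' τ' sqQ'
      have e3' := sqQ'.w
      have hμcond : (τ' ≫ zt ≫ β ≫ g ≫ p₂) ≫ f = (β' ≫ g ≫ p₂) ≫ f := by
        simp only [Category.assoc]
        rw [hgf, reassoc_of% e3, reassoc_of% e3']
      obtain ⟨μ, hμ1, hμ2⟩ : ∃ μ : Q' ⟶ Pr,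
          μ ≫ p₁ = τ' ≫ zt ≫ β ≫ g ≫ p₂ ∧ μ ≫ p₂ = β' ≫ g ≫ p₂ :=
        ⟨D.pb.lift _ _ hμcond, D.pb.lift_fst _ _ _, D.pb.lift_snd _ _ _⟩
      have hμA : ∀ y ∈ β' ⁻¹' A, μ y ∈ C := by
        intro y hy
        obtain ⟨yt, hyt⟩ : ∃ yt : Spec (Q'.residueField y) ⟶ Q',
            yt = Q'.fromSpecResidueField y := ⟨_, rfl⟩
        have hr := D.rel_of_mem_range (β' ≫ g) y (by
          have hy' : β' y ∈ A := hy
          rw [hA] at hy'
          obtain ⟨r, -, hr⟩ := hy'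
          rw [Scheme.Hom.comp_apply]
          exact ⟨r, hr⟩)
        rw [← hyt] at hr
        have e : yt ≫ (β' ≫ g) ≫ p₁ = (yt ≫ τ') ≫ zt ≫ τ ≫ bt ≫ σ ≫ ι := by
          simp only [Category.assoc]
          rw [e2, reassoc_of% e3']
        rw [e, Category.assoc] at hr
        have h1 := hstar1.precomp (yt ≫ τ')
        have h2 := D.trans (D.symm h1) hr
        obtain ⟨x1⟩ : Nonempty (Spec (Q'.residueField y)) := inferInstance
        have hmem := D.mem_range_of_rel (yt ≫ μ) (by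
          have a1 : (yt ≫ μ) ≫ p₁ = (yt ≫ τ') ≫ zt ≫ β ≫ g ≫ p₂ := by
            simp only [Category.assoc, hμ1]
          have a2 : (yt ≫ μ) ≫ p₂ = yt ≫ β' ≫ g ≫ p₂ := by
            simp only [Category.assoc, hμ2]
          rw [a1, a2]; exact h2) x1
        have hpt : (yt ≫ μ) x1 = μ y := by
          rw [Scheme.Hom.comp_apply, hyt, Scheme.fromSpecResidueField_apply]
        rw [hpt] at hmem
        have : μ y ∈ W ∩ C := hZ ▸ hmem
        exact this.2
      obtain ⟨y0, hy01, hy02⟩ : ∃ y0 : Spec (Q.residueField z) ⟶ Q',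
          y0 ≫ β' = zt ≫ τ ≫ bt ∧ y0 ≫ τ' = 𝟙 _ :=
        ⟨sqQ'.lift (zt ≫ τ ≫ bt) (𝟙 _) (by simp), sqQ'.lift_fst _ _ _, sqQ'.lift_snd _ _ _⟩
      obtain ⟨x1⟩ : Nonempty (Spec (Q.residueField z)) := inferInstance
      have hy0β : β' (y0 x1) = bF := by
        rw [← Scheme.Hom.comp_apply, hy01, Scheme.Hom.comp_apply, Scheme.Hom.comp_apply]
        exact hbt_pt _
      have hy0cl : y0 x1 ∈ closure (β' ⁻¹' A) :=
        hβ'o.preimage_closure_subset_closure_preimage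
          (show y0 x1 ∈ β' ⁻¹' closure A by rw [Set.mem_preimage, hy0β]; exact hbcl)
      have hμy0 : μ (y0 x1) ∈ C := by
        have := map_mem_closure μ.continuous hy0cl (fun y hy => hμA y hy)
        rwa [hC.closure_eq] at this
      have heq : y0 ≫ μ = zt ≫ m := by
        refine D.pb.hom_ext ?_ ?_
        · rw [Category.assoc, hμ1, ← Category.assoc, hy02, Category.id_comp, Category.assoc, hm1]
        · have l : (y0 ≫ μ) ≫ p₂ = zt ≫ τ ≫ bt ≫ g ≫ p₂ := by
            rw [Category.assoc, hμ2, ← Category.assoc, hy01]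
            simp only [Category.assoc]
          have r : (zt ≫ m) ≫ p₂ = zt ≫ τ ≫ bt ≫ g ≫ p₂ := by
            rw [Category.assoc, hm2, hv']
          rw [l, r]
      have hfin2 : m z = μ (y0 x1) := by
        have h1 : (zt ≫ m) x1 = m z := by rw [Scheme.Hom.comp_apply, hzt_pt]
        have h2 : (y0 ≫ μ) x1 = μ (y0 x1) := Scheme.Hom.comp_apply _ _ _
        rw [← h1, ← heq, h2]
      rw [hfin2]; exact hμy0
    have hmzZ : m z ∈ Set.range j := by rw [hZ]; exact ⟨hmzW, hmzC⟩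
    have hstar2 := D.rel_of_mem_range m z hmzZ
    rw [← hzt, hm1, hm2] at hstar2
    have hfinal := D.trans hstar1 hstar2
    obtain ⟨x2⟩ : Nonempty (Spec (Q.residueField z)) := inferInstance
    have hmem := D.mem_range_of_rel (zt ≫ τ ≫ bt ≫ g) (by
      have a1 : (zt ≫ τ ≫ bt ≫ g) ≫ p₁ = zt ≫ τ ≫ bt ≫ σ ≫ ι := by
        simp only [Category.assoc, e2]
      have a2 : (zt ≫ τ ≫ bt ≫ g) ≫ p₂ = zt ≫ τ ≫ v' := by
        simp only [Category.assoc, hv']
      rw [a1, a2]; exact hfinal) x2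
    have hpt : (zt ≫ τ ≫ bt ≫ g) x2 = b := by
      simp only [Scheme.Hom.comp_apply]
      rw [hbt_pt, hbF]
    rwa [hpt] at hmem
  -- conclusion: discreteness
  obtain ⟨r₀, rfl⟩ := hbZ
  have hr₀ : r₀ ∈ s ⁻¹' {u} := by
    have : p₁ (j r₀) = u := hbK
    rw [← Scheme.Hom.comp_apply, D.hs] at this
    exact this
  have hdisc := s.isDiscrete_preimage_singleton u
  obtain ⟨O, hO, hOΦ⟩ := isDiscrete_iff_forall_mem_exists_isOpen.1 hdisc r₀ hr₀
  obtain ⟨N, hN, rfl⟩ := j.isEmbedding.isInducing.isOpen_iff.1 hO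
  have hr₀N : j r₀ ∈ N := by
    have : r₀ ∈ j ⁻¹' N ∩ s ⁻¹' {u} := by rw [hOΦ]; rfl
    exact this.1
  obtain ⟨y, ⟨hyN, r, hrΦ, rfl⟩, hne⟩ := accPt_iff_nhds.1 hb N (hN.mem_nhds hr₀N)
  have : r ∈ j ⁻¹' N ∩ s ⁻¹' {u} := ⟨hyN, hrΦ⟩
  rw [hOΦ] at this
  exact hne (congrArg j this)

end Groth.Agent.Helper2.LocSepFin
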