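import Mathlib
import Groth.Prelude.Def_AlgSp4
import Groth.Prelude.Def_AlgSpDec
import Groth.Agent.Lib.Helper2.AlgSp.LocSepFin
import Groth.Agent.Lib.Helper2.AlgSp.DecentCritB
import Groth.Agent.Lib.Helper2.AlgSp.Diag
import Groth.Agent.Lib.Helper2.Sch.QfAt

/-!
# Locally separated algebraic spaces are decent (helper2)
-/

set_option backward.isDefEq.respectTransparency.types false
set_option autoImplicit false
set_option synthInstance.maxHeartbeats 400000
set_option maxHeartbeats 4000000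
set_option linter.style.haveILetI false
set_option linter.unusedSectionVars false
set_option linter.unusedVariables false
set_option linter.unusedSimpArgs false
set_option linter.unnecessarySimpa false

open CategoryTheory CategoryTheory.Limits AlgebraicGeometry Opposite AlgSp

universe u

namespace Groth.Agent.Helper2.LocSepDecent

open Groth.Agent.Helper2.UBAlg Groth.Agent.Helper2.FibDeg Groth.Agent.Helper2.PtDeg
open Groth.Agent.Helper2.AlgSpBasic

variable {S : Scheme.{u}}

theorem exists_compact_open_superset {Z : Scheme.{u}} {A : Set Z} (hA : A.Finite) :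
    ∃ W : Z.Opens, IsCompact (W : Set Z) ∧ A ⊆ W := by
  classical
  have key : ∀ F : Finset Z, ∃ W : Z.Opens, IsCompact (W : Set Z) ∧ (F : Set Z) ⊆ W := by
    intro F
    induction F using Finset.induction_on with
    | empty => exact ⟨⊥, by simp, by simp⟩
    | insert a F _ ih =>
      obtain ⟨W, hW, hFW⟩ := ih
      obtain ⟨V, hV, haV, -⟩ := exists_isAffineOpen_mem_and_subset (x := a) (U := ⊤) trivial
      refine ⟨W ⊔ V, ?_, ?_⟩
      · rw [TopologicalSpace.Opens.coe_sup]; exact hW.union hV.isCompact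
      · rw [Finset.coe_insert]
        intro x hx
        rcases hx with rfl | hx
        · exact Or.inr haV
        · exact Or.inl (hFW hx)
  obtain ⟨W, hW, h⟩ := key hA.toFinset
  exact ⟨W, hW, by simpa using h⟩

/-- **A locally separated algebraic space is decent.** -/
theorem isDecent_of_isLocallySeparatedSp {X : Sp S} (hX : IsAlgSpace X)
    (hls : IsLocallySeparatedSp X) : IsDecent X := by
  refine DecentCritB.isDecent_of_forall_ptDegLE hX (fun U φ hU hφ x => ?_)
  by_cases hx : x ∈ Set.range (Points.ofPt φ)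
  swap
  · exact ⟨0, DecentOpen.ptDegLE_zero_of_not_mem_range φ x hx⟩
  obtain ⟨u, rfl⟩ := hx
  obtain ⟨R, t, s, hR⟩ := exists_isPullback_yon hX.diag φ φ
  haveI : IsAffine U.left := hU
  have hs : Etale s.left := ((repWith_iff @Etale φ).1 hφ).2 φ ((yon S).map t) s hR
  have hj : IsImmersion (prod.lift s t).left :=
    prop_prod_lift_of_repWith_diag @IsImmersion hls φ φ s t hR.flip
  have hpb : IsPullback (prod.fst : U ⨯ U ⟶ U).left (prod.snd : U ⨯ U ⟶ U).left U.hom U.hom :=
    IsPullback.of_iso_pullback ⟨by rw [Over.w, Over.w]⟩ (Over.prodLeftIsoPullback U U)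
      (Over.prodLeftIsoPullback_hom_fst U U) (Over.prodLeftIsoPullback_hom_snd U U)
  have hex : ∀ {T' : Over S} (a' b' : T' ⟶ U),
      (yon S).map a' ≫ φ = (yon S).map b' ≫ φ → ∃ r' : T' ⟶ R, r' ≫ s = a' ∧ r' ≫ t = b' := by
    intro T' a' b' h
    obtain ⟨r', hr'⟩ := (yon S).map_surjective
      (hR.lift ((yon S).map b') ((yon S).map a') h.symm)
    refine ⟨r', (yon S).map_injective ?_, (yon S).map_injective ?_⟩
    · rw [Functor.map_comp, hr', hR.lift_snd]
    · rw [Functor.map_comp, hr', hR.lift_fst]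
  have hE : ∀ {T' : Over S} (r' : T' ⟶ R),
      (yon S).map (r' ≫ s) ≫ φ = (yon S).map (r' ≫ t) ≫ φ := by
    intro T' r'
    rw [Functor.map_comp, Functor.map_comp, Category.assoc, Category.assoc, hR.w]
  have D : LocSepFin.Dat U.hom (prod.fst : U ⨯ U ⟶ U).left (prod.snd : U ⨯ U ⟶ U).left
      (prod.lift s t).left s.left t.left := by
    refine ⟨hpb, hj, ?_, ?_, QfAt.locallyQuasiFinite_of_etale s.left, ?_, ?_, ?_⟩
    · rw [← Over.comp_left, prod.lift_fst]
    · rw [← Over.comp_left, prod.lift_snd]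
    · intro T a
      obtain ⟨r', h1, h2⟩ := hex (T' := Over.mk (a ≫ U.hom)) (Over.homMk a rfl)
        (Over.homMk a rfl) rfl
      exact ⟨r'.left, congrArg CommaMorphism.left h1, congrArg CommaMorphism.left h2⟩
    · rintro T a b ⟨r, rfl, rfl⟩
      obtain ⟨r'', h1, h2⟩ := hex (T' := Over.mk (r ≫ R.hom)) _ _
        (hE (Over.homMk r rfl : Over.mk (r ≫ R.hom) ⟶ R)).symm
      exact ⟨r''.left, congrArg CommaMorphism.left h1, congrArg CommaMorphism.left h2⟩
    · rintro T a b c ⟨r₁, rfl, rfl⟩ ⟨r₂, hb', rfl⟩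
      have hcomp : r₂ ≫ R.hom = r₁ ≫ R.hom := by
        have h1 : r₂ ≫ R.hom = (r₂ ≫ s.left) ≫ U.hom := by rw [Category.assoc, Over.w s]
        have h2 : r₁ ≫ R.hom = (r₁ ≫ t.left) ≫ U.hom := by rw [Category.assoc, Over.w t]
        rw [h1, h2, hb']
      obtain ⟨r₁', hr₁'⟩ : ∃ r₁' : Over.mk (r₁ ≫ R.hom) ⟶ R, r₁'.left = r₁ :=
        ⟨Over.homMk r₁ rfl, rfl⟩
      obtain ⟨r₂', hr₂'⟩ : ∃ r₂' : Over.mk (r₁ ≫ R.hom) ⟶ R, r₂'.left = r₂ :=
        ⟨Over.homMk r₂ hcomp, rfl⟩
      have hmid : r₁' ≫ t = r₂' ≫ s := Over.OverMorphism.ext (by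
        show r₁'.left ≫ t.left = r₂'.left ≫ s.left
        rw [hr₁', hr₂', hb'])
      have h13 : (yon S).map (r₁' ≫ s) ≫ φ = (yon S).map (r₂' ≫ t) ≫ φ := by
        rw [hE r₁', hmid, hE r₂']
      obtain ⟨r₃, h1, h2⟩ := hex _ _ h13
      refine ⟨r₃.left, ?_, ?_⟩
      · have := congrArg CommaMorphism.left h1
        have e : (r₁' ≫ s).left = r₁ ≫ s.left := by rw [Over.comp_left, hr₁']
        exact this.trans e
      · have := congrArg CommaMorphism.left h2
        have e : (r₂' ≫ t).left = r₂ ≫ t.left := by rw [Over.comp_left, hr₂']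
        exact this.trans e
  have hfin : (s.left ⁻¹' {u}).Finite := D.finite_fibre u
  obtain ⟨W, hWc, hWsub⟩ := exists_compact_open_superset hfin
  haveI : LocallyQuasiFinite s.left := QfAt.locallyQuasiFinite_of_etale s.left
  haveI : CompactSpace ↥(W : Scheme.{u}) := isCompact_iff_compactSpace.1 hWc
  haveI : QuasiCompact (W.ι ≫ s.left) := inferInstance
  obtain ⟨n, hn⟩ := exists_fibDegLE_of_quasiCompact (W.ι ≫ s.left) u
  have hn' : FibDegLE s.left u n :=
    FibDegLE.of_open_of_forall_mem W (fun z hz => hWsub (show z ∈ s.left ⁻¹' {u} from hz)) hn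
  exact ⟨n, (ptDegLE_ofPt_iff φ φ ((yon S).map t) s hR u n).2 hn'⟩

end Groth.Agent.Helper2.LocSepDecent
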