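import Mathlib
import Groth.Agent.Lib.Helper2.AlgSp.Source
import Groth.Agent.Lib.Helper3.FppfDesc3

/-! fppf locality on the source for `LocP` of finite type / finite presentation (helper2). -/
namespace Groth.Agent.Helper2.AlgSpBasic
open CategoryTheory CategoryTheory.Limits AlgebraicGeometry Opposite Topology AlgSp
open Groth.Agent.Helper2.EtaleLocal
universe u
set_option linter.style.haveILetI false
variable {S : Scheme.{u}}

/-- fppf locality on the source of `LocP P`, for `P` implied by fppf and descending along fppf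
covers of the source. -/
theorem isLocalOnSource_fppf_locP (P : MorphismProperty Scheme.{u}) [IsEtaleLocalST P]
    [IsZariskiLocalAtSource P]
    (hle : (@Flat ⊓ @LocallyOfFinitePresentation : MorphismProperty Scheme.{u}) ≤ P)
    (hdesc : ∀ ⦃U' U V : Scheme.{u}⦄ (d : U' ⟶ U) (φ : U ⟶ V),
      (@Flat ⊓ @LocallyOfFinitePresentation : MorphismProperty Scheme.{u}) d → Surjective d →
      P (d ≫ φ) → P φ) :
    IsLocalOnSource (IsFppfCover (S := S)) (LocP P) := by
  intro ι X Xi g hX hXi hcov Y f hY
  have hg : ∀ i, LocP (@Flat ⊓ @LocallyOfFinitePresentation) (g i) := fun i =>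
    locP_inf (hcov.1 i).1 (hcov.1 i).2
  constructor
  · intro hf i
    exact locP_comp P (hXi i) hX hY (g i) f (locP_mono hle (hg i)) hf
  · intro h
    exact locP_of_source_family P (@Flat ⊓ @LocallyOfFinitePresentation) hdesc hX f Xi hXi g hg
      hcov.2 h

/-- `S10549`. -/
theorem isLocalOnSource_fppf_locP_lfp :
    IsLocalOnSource (IsFppfCover (S := S)) (LocP @LocallyOfFinitePresentation) := by
  refine isLocalOnSource_fppf_locP @LocallyOfFinitePresentation (fun _ _ _ h => h.2) ?_
  intro U' U V d φ hd hs hφ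
  haveI : Flat d := hd.1
  haveI : LocallyOfFinitePresentation d := hd.2
  haveI : Surjective d := hs
  haveI : LocallyOfFinitePresentation (d ≫ φ) := hφ
  exact Groth.Agent.Helper3.FppfDesc.locallyOfFinitePresentation_of_fppf_cover d φ

/-- `S10550`. -/
theorem isLocalOnSource_fppf_locP_lft :
    IsLocalOnSource (IsFppfCover (S := S)) (LocP @LocallyOfFiniteType) := by
  refine isLocalOnSource_fppf_locP @LocallyOfFiniteType (fun _ _ f h => ?_) ?_
  · haveI : LocallyOfFinitePresentation f := h.2
    infer_instance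
  · intro U' U V d φ hd hs hφ
    haveI : Flat d := hd.1
    haveI : LocallyOfFinitePresentation d := hd.2
    haveI : Surjective d := hs
    haveI : LocallyOfFiniteType (d ≫ φ) := hφ
    exact Groth.Agent.Helper3.FppfDesc.locallyOfFiniteType_of_fppf_cover d φ

/-- Descent of `LocP P` along one surjective fppf morphism on the source. -/
theorem locP_of_fppf_comp (P : MorphismProperty (Sp S))
    (hP : IsLocalOnSource (IsFppfCover (S := S)) P) {X Y B : Sp S} (hX : IsAlgSpace X)
    (hY : IsAlgSpace Y) (hB : IsAlgSpace B) (f : X ⟶ Y) (q : Y ⟶ B)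
    (hs : IsSurjectiveMor f) (hfl : LocP @Flat f) (hfp : LocP @LocallyOfFinitePresentation f)
    (h : P (f ≫ q)) : P q := by
  have hcov : IsFppfCover (fun _ : PUnit.{u+1} => X) (fun _ => f) :=
    ⟨fun _ => ⟨hfl, hfp⟩, fun y => ⟨PUnit.unit, hs y⟩⟩
  exact (hP (fun _ : PUnit.{u+1} => X) (fun _ => f) hY (fun _ => hX) hcov q hB).2 (fun _ => h)

end Groth.Agent.Helper2.AlgSpBasic
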