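import Mathlib
import Groth.Agent.Lib.Helper2.AlgSp.SourceFppf
import Groth.Agent.Lib.Helper2.AlgSp.EpiPullback
import Groth.Agent.Lib.Helper2.LfpOfComp

/-! Properties of `h` from properties of `g ≫ h` for `g` a surjection of fppf sheaves (helper2). -/
set_option linter.style.haveILetI false
set_option autoImplicit false
namespace Groth.Agent.Helper2.AlgSpBasic
open CategoryTheory CategoryTheory.Limits AlgebraicGeometry Opposite Topology AlgSp
open Groth.Agent.Helper2.EtaleLocal
universe u
variable {S : Scheme.{u}}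

section Ring

/-- A ring map which is a retract of a flat ring map is flat. -/
theorem RingHom.flat_of_retract {R A B : Type u} [CommRing R] [CommRing A] [CommRing B]
    (φ : R →+* A) (i : A →+* B) (r : B →+* A) (hri : r.comp i = RingHom.id A)
    (h : (i.comp φ).Flat) : φ.Flat := by
  letI := φ.toAlgebra
  letI := (i.comp φ).toAlgebra
  haveI : Module.Flat R B := h
  have hri' : ∀ a, r (i a) = a := fun a => by
    have := congrArg (fun m : A →+* A => m a) hri
    simpa using this
  let il : A →ₗ[R] B :=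
    { toFun := i
      map_add' := map_add i
      map_smul' := fun c a => by
        simp only [Algebra.smul_def, RingHom.algebraMap_toAlgebra, map_mul, RingHom.id_apply,
          RingHom.comp_apply] }
  let rl : B →ₗ[R] A :=
    { toFun := r
      map_add' := map_add r
      map_smul' := fun c b => by
        simp only [Algebra.smul_def, RingHom.algebraMap_toAlgebra, map_mul, RingHom.id_apply,
          RingHom.comp_apply, hri'] }
  show Module.Flat R A
  refine Module.Flat.of_retract il rl ?_
  ext a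
  exact hri' a

end Ring

section Retract

variable {X Y Z : Scheme.{u}}

/-- Flatness of `g ≫ h` passes to `h` when `g` has a section. -/
theorem flat_of_section (g : X ⟶ Y) (s : Y ⟶ X) (hs : s ≫ g = 𝟙 Y) (h : Y ⟶ Z)
    [Flat (g ≫ h)] : Flat h := by
  rw [Flat.iff_flat_stalkMap]
  intro y
  have hy : g (s y) = y := by
    have := congrArg (fun m : Y ⟶ Y => m y) hs
    simpa using this
  have h1 : ((g ≫ h).stalkMap (s y)).hom.Flat := Flat.stalkMap _ (s y)
  rw [Scheme.Hom.stalkMap_comp] at h1
  -- the retraction identity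
  have h2 : g.stalkMap (s y) ≫ s.stalkMap y =
      (Y.presheaf.stalkCongr (.of_eq hy)).hom := by
    have e1 := Scheme.Hom.stalkMap_comp s g y
    have e2 := Scheme.Hom.stalkMap_congr_hom (s ≫ g) (𝟙 Y) hs y
    have e3 : (𝟙 Y : Y ⟶ Y).stalkMap y = 𝟙 (Y.presheaf.stalk y) := Scheme.Hom.stalkMap_id Y y
    exact e1.symm.trans (e2.trans ((congrArg (fun m => _ ≫ m) e3).trans (Category.comp_id _)))
  have h3 := Scheme.Hom.stalkMap_congr_point h (g (s y)) y hy
  -- `h.stalkMap y` as a conjugate
  have h4 : h.stalkMap y = (Z.presheaf.stalkCongr (.of_eq (by rw [hy]))).inv ≫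
      h.stalkMap (g (s y)) ≫ (Y.presheaf.stalkCongr (.of_eq hy)).hom := by
    rw [h3, Iso.inv_hom_id_assoc]
  refine RingHom.flat_of_retract (h.stalkMap y).hom
    ((Y.presheaf.stalkCongr (.of_eq hy)).inv ≫ g.stalkMap (s y)).hom (s.stalkMap y).hom ?_ ?_
  · rw [← CommRingCat.hom_comp, Category.assoc, h2, Iso.inv_hom_id]
    rfl
  · rw [← CommRingCat.hom_comp, h4]
    simp only [Category.assoc, Iso.hom_inv_id_assoc]
    rw [CommRingCat.hom_comp]
    refine RingHom.Flat.comp ?_ h1
    exact RingHom.Flat.of_bijective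
      (ConcreteCategory.bijective_of_isIso (Z.presheaf.stalkCongr (.of_eq (by rw [hy]))).inv)

/-- Local finite type of `g ≫ h` passes to `h` when `g` has a section. -/
theorem locallyOfFiniteType_of_section (g : X ⟶ Y) (s : Y ⟶ X) (hs : s ≫ g = 𝟙 Y) (h : Y ⟶ Z)
    [LocallyOfFiniteType (g ≫ h)] : LocallyOfFiniteType h := by
  haveI : LocallyOfFiniteType (s ≫ g) := by rw [hs]; infer_instance
  haveI : LocallyOfFiniteType s := locallyOfFiniteType_of_comp s g
  have : h = s ≫ g ≫ h := by rw [← Category.assoc, hs, Category.id_comp]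
  rw [this]
  infer_instance

/-- Local finite presentation of `g ≫ h` passes to `h` when `g` has a section. -/
theorem locallyOfFinitePresentation_of_section (g : X ⟶ Y) (s : Y ⟶ X) (hs : s ≫ g = 𝟙 Y)
    (h : Y ⟶ Z) [LocallyOfFinitePresentation (g ≫ h)] : LocallyOfFinitePresentation h := by
  haveI : LocallyOfFiniteType (g ≫ h) := inferInstance
  haveI : LocallyOfFiniteType g := locallyOfFiniteType_of_comp g h
  haveI : LocallyOfFinitePresentation s :=
    Groth.Agent.Helper2.locallyOfFinitePresentation_of_comp s g inferInstance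
      (by rw [hs]; infer_instance)
  have : h = s ≫ g ≫ h := by rw [← Category.assoc, hs, Category.id_comp]
  rw [this]
  infer_instance

end Retract

section Family

set_option backward.isDefEq.respectTransparency.types false in
/-- If `φ` admits sections over the members of a jointly surjective fppf family of its target,
then `P (φ ≫ ψ)` implies `P ψ`, for `P` stable under fppf precomposition, passing to retracts and
descending along fppf covers of the source. -/
theorem prop_of_local_sections (P : MorphismProperty Scheme.{u}) [IsZariskiLocalAtSource P]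
    (hcomp : ∀ ⦃A B C : Scheme.{u}⦄ (d : A ⟶ B) (φ : B ⟶ C), Flat d →
      LocallyOfFinitePresentation d → P φ → P (d ≫ φ))
    (hretract : ∀ ⦃A B C : Scheme.{u}⦄ (g : A ⟶ B) (s : B ⟶ A), s ≫ g = 𝟙 B → ∀ h : B ⟶ C,
      P (g ≫ h) → P h)
    (hdesc : ∀ ⦃U' U V : Scheme.{u}⦄ (d : U' ⟶ U) (φ : U ⟶ V), Flat d →
      LocallyOfFinitePresentation d → Surjective d → P (d ≫ φ) → P φ)
    {U V W : Scheme.{u}} (φ : U ⟶ V) (ψ : V ⟶ W) {κ : Type u} (Vi : κ → Scheme.{u})
    (c : ∀ k, Vi k ⟶ V) (hc1 : ∀ k, Flat (c k)) (hc2 : ∀ k, LocallyOfFinitePresentation (c k))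
    (hsurj : ∀ v : V, ∃ k, v ∈ Set.range (c k)) (s : ∀ k, Vi k ⟶ U) (hs : ∀ k, s k ≫ φ = c k)
    (h : P (φ ≫ ψ)) : P ψ := by
  have hk : ∀ k, P (c k ≫ ψ) := by
    intro k
    haveI := hc1 k
    haveI := hc2 k
    let σ : Vi k ⟶ pullback φ (c k) := pullback.lift (s k) (𝟙 _) (by rw [hs k, Category.id_comp])
    have hσ : σ ≫ pullback.snd φ (c k) = 𝟙 _ := pullback.lift_snd _ _ _
    refine hretract (pullback.snd φ (c k)) σ hσ (c k ≫ ψ) ?_
    rw [← Category.assoc, ← pullback.condition, Category.assoc]
    exact hcomp _ _ inferInstance inferInstance h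
  let D : (∐ fun k => Vi k) ⟶ V := Sigma.desc c
  have hD1 : Flat D := by
    rw [IsZariskiLocalAtSource.iff_of_openCover (P := @Flat) (sigmaOpenCover _)]
    intro k
    change Flat (Sigma.ι (fun k => Vi k) k ≫ Sigma.desc c)
    rw [Sigma.ι_desc]
    exact hc1 k
  have hD2 : LocallyOfFinitePresentation D := by
    rw [IsZariskiLocalAtSource.iff_of_openCover (P := @LocallyOfFinitePresentation)
      (sigmaOpenCover _)]
    intro k
    change LocallyOfFinitePresentation (Sigma.ι (fun k => Vi k) k ≫ Sigma.desc c)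
    rw [Sigma.ι_desc]
    exact hc2 k
  have hD3 : Surjective D := by
    refine ⟨fun v => ?_⟩
    obtain ⟨k, x, hx⟩ := hsurj v
    refine ⟨Sigma.ι (fun k => Vi k) k x, ?_⟩
    rw [← Scheme.Hom.comp_apply, Sigma.ι_desc]
    exact hx
  refine hdesc D ψ hD1 hD2 hD3 ?_
  rw [IsZariskiLocalAtSource.iff_of_openCover (P := P) (sigmaOpenCover _)]
  intro k
  change P (Sigma.ι (fun k => Vi k) k ≫ (Sigma.desc c) ≫ ψ)
  rw [Sigma.ι_desc_assoc]
  exact hk k

end Family

section Space

/-- `S10557`, general form. -/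
theorem locP_of_comp_of_isLocallySurjective (P : MorphismProperty Scheme.{u})
    [IsZariskiLocalAtSource P]
    (hcomp : ∀ ⦃A B C : Scheme.{u}⦄ (d : A ⟶ B) (φ : B ⟶ C), Flat d →
      LocallyOfFinitePresentation d → P φ → P (d ≫ φ))
    (hretract : ∀ ⦃A B C : Scheme.{u}⦄ (g : A ⟶ B) (s : B ⟶ A), s ≫ g = 𝟙 B → ∀ h : B ⟶ C,
      P (g ≫ h) → P h)
    (hdesc : ∀ ⦃U' U V : Scheme.{u}⦄ (d : U' ⟶ U) (φ : U ⟶ V), Flat d →
      LocallyOfFinitePresentation d → Surjective d → P (d ≫ φ) → P φ)
    {X Y Z : Sp S} (hX : IsAlgSpace X) (hY : IsAlgSpace Y) (g : X ⟶ Y) (h : Y ⟶ Z)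
    [Sheaf.IsLocallySurjective g] (hgh : LocP P (g ≫ h)) : LocP P h := by
  intro V W b c k hb hc comm
  -- the fibre product `Q = X ×_Y V` and a chart of it
  have sq := IsPullback.of_hasPullback g b
  have hQ : IsAlgSpace (pullback g b) :=
    isAlgSpace_of_isPullback hY.diag hX (IsAlgSpace.yon_obj V) g b _ _ sq
  obtain ⟨U, a, hae, has⟩ := hQ.atlas
  obtain ⟨φ, hφ⟩ := (yon S).map_surjective (a ≫ pullback.snd g b)
  have ha' : RepWith @Etale (a ≫ pullback.fst g b) :=
    repWith_comp @Etale hae (repWith_of_isPullback @Etale sq.flip hb)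
  have hPφk : P (φ ≫ k).left := by
    refine hgh (a ≫ pullback.fst g b) c (φ ≫ k) ha' hc ?_
    rw [Category.assoc, ← Category.assoc (pullback.fst g b), sq.w, Category.assoc, comm,
      Functor.map_comp, hφ, Category.assoc, Category.assoc]
  rw [Over.comp_left] at hPφk
  -- local lifts
  obtain ⟨κ, Vi, p, hp, hps, hlift⟩ := Groth.Agent.Helper2.EpiPullback.exists_family_lift g b
  choose t ht using hlift
  let m : ∀ i, (yon S).obj (Vi i) ⟶ pullback g b := fun i =>
    pullback.lift (t i) ((yon S).map (p i)) (ht i)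
  have hrep : Representable a := ((repWith_iff @Etale a).1 hae).1
  have sqi : ∀ i, IsPullback (hrep.fst (m i)) ((yon S).map (hrep.snd (m i))) a (m i) :=
    fun i => hrep.isPullback (m i)
  choose u hu using fun i => (yon S).map_surjective (hrep.fst (m i))
  have he1 : ∀ i, Etale (hrep.snd (m i)).left := fun i =>
    ((repWith_iff @Etale a).1 hae).2 (m i) _ _ (sqi i)
  have he2 : ∀ i, Surjective (hrep.snd (m i)).left := fun i =>
    ((repWith_iff @Surjective a).1 has).2 (m i) _ _ (sqi i)
  refine prop_of_local_sections P hcomp hretract hdesc φ.left k.left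
    (fun i => (hrep.pullback (m i)).left) (fun i => (hrep.snd (m i)).left ≫ (p i).left)
    (fun i => ?_) (fun i => ?_) (fun v => ?_) (fun i => (u i).left) (fun i => ?_) hPφk
  · haveI := he1 i
    haveI : Flat (p i).left := (hp i).1
    infer_instance
  · haveI := he1 i
    haveI : LocallyOfFinitePresentation (p i).left := (hp i).2
    infer_instance
  · obtain ⟨i, x, hx⟩ := hps v
    obtain ⟨x', hx'⟩ := (he2 i).surj x
    refine ⟨i, x', ?_⟩
    rw [Scheme.Hom.comp_apply, hx', hx]
  · have h1 : u i ≫ φ = hrep.snd (m i) ≫ p i := by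
      apply (yon S).map_injective
      rw [Functor.map_comp, Functor.map_comp, hu, hφ, ← Category.assoc, (sqi i).w, Category.assoc,
        pullback.lift_snd]
    have := congrArg CommaMorphism.left h1
    simpa using this

end Space

end Groth.Agent.Helper2.AlgSpBasic
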