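import Mathlib
import Groth.Prelude.Def_AlgSp4
import Groth.Prelude.Def_AlgSpDec
import Groth.Agent.Lib.Helper2.AlgSp.DimSp
import Groth.Agent.Lib.Helper2.Sch.LqfField

/-!
# Locally quasi-finite algebraic spaces over a field
-/

set_option autoImplicit false
set_option backward.isDefEq.respectTransparency false

open CategoryTheory CategoryTheory.Limits AlgebraicGeometry Opposite AlgSp

namespace Groth.Agent.Helper2.LqfFieldSp
universe u

open Groth.Agent.Helper2.ChartIndep Groth.Agent.Helper2.DimSp

/-- S10482. -/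
theorem main (k : Type u) [Field k] (X : Sp (Spec (CommRingCat.of k)))
    (p : X ⟶ (yon (Spec (CommRingCat.of k))).obj (Over.mk (𝟙 _))) :
    LocP (@LocallyQuasiFinite ⊓ @LocallyOfFiniteType : MorphismProperty Scheme.{u}) p ↔
      LocP @LocallyOfFiniteType p ∧ AlgSp.dim X ≤ 0 := by
  constructor
  · intro hp
    refine ⟨fun U V a b h ha hb e => (hp a b h ha hb e).2, ?_⟩
    refine dim_le_of_forall _ fun U a ha u => ?_
    obtain ⟨h, hh⟩ := (yon (Spec (CommRingCat.of k))).map_surjective (a ≫ p)
    have hq : LocallyQuasiFinite h.left :=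
      (hp a (𝟙 _) h ha (repWith_id _ _) (by rw [hh, Category.comp_id])).1
    exact (ringKrullDim_stalk_le_of_locallyQuasiFinite h.left u).trans
      (LqfField.ringKrullDim_stalk_field_le _)
  · rintro ⟨hft, hd⟩ U V a b h ha hb e
    refine ⟨?_, hft a b h ha hb e⟩
    obtain ⟨b₀, hb₀⟩ := (yon (Spec (CommRingCat.of k))).map_surjective b
    have e' : a ≫ p = (yon (Spec (CommRingCat.of k))).map (h ≫ b₀) ≫ 𝟙 _ := by
      rw [e, ← hb₀, Category.comp_id, Functor.map_comp]
    have hft' : LocallyOfFiniteType (h ≫ b₀).left := hft a (𝟙 _) (h ≫ b₀) ha (repWith_id _ _) e'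
    have hdU : topologicalKrullDim ↥U.left ≤ 0 := by
      refine le_trans ?_ hd
      unfold AlgSp.dim
      exact le_iSup_of_le U (le_iSup_of_le a (le_iSup_of_le ha le_rfl))
    have hq : LocallyQuasiFinite (h ≫ b₀).left := LqfField.lqf_of_dim_le_zero _ hdU
    rw [Over.comp_left] at hq
    exact LocallyQuasiFinite.of_comp h.left b₀.left

end Groth.Agent.Helper2.LqfFieldSp
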