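import Mathlib
import Groth.Prelude.Def_AlgSp4
import Groth.Agent.Lib.Helper2.Lqf.Main
import Groth.Agent.Lib.Helper2.AlgSp.Coprod
import Groth.Agent.Lib.Helper2.AlgSp.Sep
import Groth.Agent.Lib.Helper2.AlgSp.LqfFieldSp
import Groth.Agent.Lib.Helper2.AlgSp.PointsMor

/-!
# Algebraic spaces locally quasi-finite over a field are schemes (helper2)
-/

set_option autoImplicit false
set_option linter.style.haveILetI false
universe u
open CategoryTheory CategoryTheory.Limits AlgebraicGeometry Opposite AlgSp
open Groth.Agent.Helper2.AlgSpBasic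

namespace Groth.Agent.Helper2.LqfFieldSch

variable {S : Scheme.{u}}

/-- Separatedness over the terminal object. -/
theorem isSeparatedMor_of_isSeparatedSp {X : Sp S} (hX : IsSeparatedSp X)
    (f : X ⟶ (yon S).obj (Over.mk (𝟙 S))) : IsSeparatedMor f := by
  have hT := Coprod.isTerminalYonId S
  have sq0 : IsPullback (prod.fst : X ⨯ X ⟶ X) prod.snd (hT.from X) (hT.from X) :=
    IsPullback.of_isLimit_binaryFan_of_isTerminal (limit.isLimit (pair X X)) hT
  have e' : hT.from X = f := hT.hom_ext _ _
  rw [e'] at sq0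
  have h : pullback.diagonal f = Limits.diag X ≫ sq0.isoPullback.hom := by
    apply pullback.hom_ext
    · rw [pullback.diagonal_fst, Category.assoc, IsPullback.isoPullback_hom_fst]
      simp only [Limits.diag, prod.lift_fst]
    · rw [pullback.diagonal_snd, Category.assoc, IsPullback.isoPullback_hom_snd]
      simp only [Limits.diag, prod.lift_snd]
  show RepWith @IsClosedImmersion (pullback.diagonal f)
  rw [h]
  exact MorphismProperty.RespectsIso.postcomp _ _ _ hX

set_option backward.isDefEq.respectTransparency.types false in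
/-- An algebraic space with an étale chart whose relation is closed is separated. -/
theorem isSeparatedSp_of_chart {X : Sp S} (hX : IsAlgSpace X) {R U : Over S}
    (p : (yon S).obj U ⟶ X) (hp : RepWith @Etale p) (hs : RepWith @Surjective p)
    (s t : R ⟶ U) (hR : IsPullback ((yon S).map t) ((yon S).map s) p p)
    (h : IsClosedImmersion (prod.lift t s).left) : IsSeparatedSp X := by
  have sq := isPullback_diag_of_isPullback p p t s hR
  have hqe := repWith_prodComparison_prod_map @Etale p p hp hp
  have hqs := repWith_prodComparison_prod_map @Surjective p p hs hs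
  rw [IsSeparatedSp, repWith_iff_of_chart (Limits.diag X) hX.diag _ hqe hqs _
    (prod.lift t s) sq @IsClosedImmersion]
  exact h

theorem finite_of_isFinite_field' {T : Scheme.{u}} {K : Type u} [Field K]
    (c : T ⟶ Spec (CommRingCat.of K)) [IsFinite c] : Finite ↥T := by
  let c₀ : ↥(Spec (CommRingCat.of K)) := IsLocalRing.closedPoint K
  have h1 := c.finite_preimage_singleton c₀
  refine Set.finite_univ_iff.mp (h1.subset (fun w _ => ?_))
  exact Subsingleton.elim (α := ↥(Spec (CommRingCat.of K))) _ _

variable (k : Type u) [Field k]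

local notation "Sk" => Spec (CommRingCat.of k)

instance : IsLocallyArtinian (Spec (CommRingCat.of k)) := by
  rw [Scheme.isLocallyArtinianScheme_Spec]
  infer_instance

/-- The relation of an étale chart from a scheme finite over the field is a closed immersion. -/
theorem isClosedImmersion_prod_lift {X : Sp Sk} {V R : Over Sk}
    (a : (yon Sk).obj V ⟶ X) (ha : RepWith @Etale a) [IsFinite V.hom] (t s : R ⟶ V)
    (hR : IsPullback ((yon Sk).map t) ((yon Sk).map s) a a) :
    IsClosedImmersion (prod.lift t s).left := by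
  have hs : Etale s.left := ha.property a _ _ hR
  have hs' : LocallyQuasiFinite s.left := locallyQuasiFinite_of_unramified s.left
  have hRhom : R.hom = s.left ≫ V.hom := (Over.w s).symm
  have hlqf : LocallyQuasiFinite R.hom := by rw [hRhom]; infer_instance
  have hmono : Mono (prod.lift t s).left := mono_prod_lift_left a a t s hR
  have hinj : Function.Injective (prod.lift t s).left := (prod.lift t s).left.injective
  have hfst : IsFinite (prod.fst : V ⨯ V ⟶ V).left := by
    rw [← Over.prodLeftIsoPullback_hom_fst]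
    infer_instance
  have hVV : IsFinite (V ⨯ V).hom := by
    have : (V ⨯ V).hom = (prod.fst : V ⨯ V ⟶ V).left ≫ V.hom := (Over.w _).symm
    rw [this]; infer_instance
  have hfin : Finite ↥(V ⨯ V).left := finite_of_isFinite_field' (V ⨯ V).hom
  have hfinR : Finite ↥R.left := Finite.of_injective _ hinj
  have hcR : CompactSpace ↥R.left := Finite.compactSpace
  have hqc : QuasiCompact R.hom := (HasAffineProperty.iff_of_isAffine (P := @QuasiCompact)).mpr hcR
  have hRfin : IsFinite R.hom := IsFinite.of_locallyQuasiFinite R.hom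
  have hw : (prod.lift t s).left ≫ (V ⨯ V).hom = R.hom := Over.w _
  have : IsFinite ((prod.lift t s).left ≫ (V ⨯ V).hom) := by rw [hw]; exact hRfin
  have hf : IsFinite (prod.lift t s).left := IsFinite.of_comp _ (V ⨯ V).hom
  exact (IsClosedImmersion.iff_isFinite_and_mono _).mpr ⟨hf, hmono⟩


/-- Charts of a locally quasi-finite space over a field: the structure map of an étale chart is
locally quasi-finite and locally of finite type. -/
theorem chart_lqf {X : Sp Sk} (p : X ⟶ (yon Sk).obj (Over.mk (𝟙 Sk)))
    (hp : LocP (@LocallyQuasiFinite ⊓ @LocallyOfFiniteType : MorphismProperty Scheme.{u}) p)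
    {V : Over Sk} (φ : (yon Sk).obj V ⟶ X) (hφ : RepWith @Etale φ) :
    LocallyQuasiFinite V.hom ∧ LocallyOfFiniteType V.hom := by
  have hT := Coprod.isTerminalYonId Sk
  let h : V ⟶ Over.mk (𝟙 Sk) := Over.homMk V.hom
  have := hp φ (𝟙 _) h hφ (repWith_id @Etale _) (hT.hom_ext _ _)
  exact this

/-- An algebraic space locally quasi-finite over a field is a scheme. -/
theorem exists_iso_yon_of_lqf_field {X : Sp Sk} (hX : IsAlgSpace X)
    (p : X ⟶ (yon Sk).obj (Over.mk (𝟙 Sk)))
    (hp : LocP (@LocallyQuasiFinite ⊓ @LocallyOfFiniteType : MorphismProperty Scheme.{u}) p) :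
    ∃ W : Over Sk, Nonempty ((yon Sk).obj W ≅ X) := by
  obtain ⟨U, a, hae, has⟩ := hX.atlas
  have key : ∀ u : U.left, ∃ (I : Set (Points X)) (W : Over Sk), IsOpen I ∧ Points.ofPt a u ∈ I ∧
      Nonempty ((yon Sk).obj W ≅ openSub X I) := by
    intro u
    obtain ⟨_, ⟨V, hV, rfl⟩, huV, -⟩ := U.left.isBasis_affineOpens.exists_subset_of_mem_open
      (Set.mem_univ u) isOpen_univ
    let φ : (yon Sk).obj (opensOver V) ⟶ X := (yon Sk).map (opensOverι V) ≫ a
    have hφ : RepWith @Etale φ := by
      refine repWith_comp @Etale ?_ hae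
      rw [repWith_yon_map_iff]
      change Etale (Scheme.Opens.ι V)
      infer_instance
    have hVaff : IsAffine (opensOver V).left := hV
    obtain ⟨hlqf, hlft⟩ := chart_lqf k p hp φ hφ
    have hqc : QuasiCompact (opensOver V).hom :=
      (HasAffineProperty.iff_of_isAffine (P := @QuasiCompact)).mpr inferInstance
    have hfin : IsFinite (opensOver V).hom := IsFinite.of_locallyQuasiFinite _
    let I : Set (Points X) := Set.range (Points.ofPt φ)
    have hI : IsOpen I := (isOpenMap_ofPt φ hφ).isOpen_range
    have hX' : IsAlgSpace (openSub X I) := isAlgSpace_openSub hX hI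
    have hmem : ∀ q : Points ((yon Sk).obj (opensOver V)), Points.map φ q ∈ I := by
      intro q
      obtain ⟨v, rfl⟩ := (Points.schemeHomeo (opensOver V)).surjective q
      exact ⟨v, (Points.ofPt_eq_map_ofScheme φ v)⟩
    let φ' : (yon Sk).obj (opensOver V) ⟶ openSub X I := openSubLift I φ hmem
    have hφ'ι : φ' ≫ openSubι X I = φ := openSubLift_ι I φ hmem
    have hφ'e : RepWith @Etale φ' := repWith_lift_of_mono @Etale (openSubι X I) φ φ' hφ'ι hφ
    have hφ's : RepWith @Surjective φ' := by
      refine repWith_surjective_of_isSurjectiveMor φ' hφ'e.rep ?_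
      intro q
      have hq := points_map_openSubι_mem X I q
      obtain ⟨v, hv⟩ := hq
      refine ⟨Points.ofScheme (opensOver V) v, ?_⟩
      apply injective_points_map_of_mono (openSubι X I)
      rw [← Points.map_comp, hφ'ι, ← hv, Points.ofPt_eq_map_ofScheme]
    obtain ⟨R, t, s, sqR⟩ := exists_isPullback_yon hX'.diag φ' φ'
    have hci := isClosedImmersion_prod_lift k φ' hφ'e t s sqR
    have hsep : IsSeparatedSp (openSub X I) := isSeparatedSp_of_chart hX' φ' hφ'e hφ's s t sqR hci
    have hsepm : IsSeparatedMor (openSubι X I ≫ p) := isSeparatedMor_of_isSeparatedSp hsep _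
    have hlqf' : LocP (@LocallyQuasiFinite ⊓ @LocallyOfFiniteType : MorphismProperty Scheme.{u})
        (openSubι X I ≫ p) := by
      intro A B α β h hα hβ hcomm
      refine hp (α ≫ openSubι X I) β h ?_ hβ (by rw [Category.assoc, hcomm])
      exact repWith_comp @Etale hα
        (repWith_mono (fun _ _ f (hf : IsOpenImmersion f) => (inferInstance : Etale f))
          (repWith_isOpenImmersion_openSubι X hI))
    obtain ⟨W, hW⟩ := Groth.Agent.Helper2.Lqf.exists_iso_yon_of_sep_lqf hX' _ hsepm hlqf'
    refine ⟨I, W, hI, ⟨⟨u, huV⟩, ?_⟩, hW⟩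
    exact ofPt_yon_map_comp (opensOverι V) a ⟨u, huV⟩
  choose I W hIo hmem he using key
  have e : ∀ u, (yon Sk).obj (W u) ≅ openSub X (I u) := fun u => (he u).some
  refine Groth.Agent.Helper2.ZarRep.exists_iso_yon_of_points_cover (ι := U.left) (U := W)
    (fun u => (e u).hom ≫ openSubι X (I u))
    (fun u => repWith_comp @IsOpenImmersion (repWith_of_isIso @IsOpenImmersion (e u).hom)
      (repWith_isOpenImmersion_openSubι X (hIo u))) (fun x => ?_)
  obtain ⟨u, rfl⟩ := surjective_ofPt a has x
  have hu := hmem u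
  rw [← range_points_map_openSubι X (I u)] at hu
  obtain ⟨q, hq⟩ := hu
  obtain ⟨w, hw⟩ := (Points.schemeHomeo (W u)).surjective (Points.map (e u).inv q)
  refine ⟨u, w, ?_⟩
  rw [Points.ofPt_eq_map_ofScheme]
  have hw' : Points.ofScheme (W u) w = Points.map (e u).inv q := hw
  rw [hw', ← Points.map_comp, Iso.inv_hom_id_assoc]
  exact hq


/-- A ring whose prime spectrum is a singleton is local. -/
theorem isLocalRing_of_subsingleton_primeSpectrum (A : Type u) [CommRing A]
    [Subsingleton (PrimeSpectrum A)] [Nonempty (PrimeSpectrum A)] : IsLocalRing A := by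
  haveI : Nontrivial A := (PrimeSpectrum.nonempty_iff_nontrivial).mp inferInstance
  haveI : Subsingleton (MaximalSpectrum A) :=
    (MaximalSpectrum.toPrimeSpectrum_injective).subsingleton
  haveI : Nonempty (MaximalSpectrum A) := by
    obtain ⟨m, hm⟩ := Ideal.exists_maximal A
    exact ⟨⟨m, hm⟩⟩
  exact IsLocalRing.of_singleton_maximalSpectrum

/-- The local structure of a scheme locally quasi-finite over a field. -/
theorem local_structure (U : Over Sk) [LocallyQuasiFinite U.hom] (u : ↥U.left) :
    ∃ V : U.left.Opens, u ∈ V ∧ IsAffineOpen V ∧ IsArtinianRing ↥Γ(U.left, V) ∧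
      IsLocalRing ↥Γ(U.left, V) ∧ IsFinite (V.ι ≫ U.hom) := by
  haveI : IsLocallyArtinian U.left := IsLocallyArtinian.of_locallyQuasiFinite U.hom
  let V : U.left.Opens := ⟨{u}, isOpen_discrete _⟩
  haveI hsub : Subsingleton ↥(V : Scheme.{u}) :=
    ⟨fun a b => Subtype.ext ((a.2 : a.1 = u).trans (b.2 : b.1 = u).symm)⟩
  haveI : CompactSpace ↥(V : Scheme.{u}) := by
    haveI : Finite ↥(V : Scheme.{u}) := Finite.of_subsingleton
    exact Finite.compactSpace
  haveI hqc : QuasiCompact (V.ι ≫ U.hom) :=
    (HasAffineProperty.iff_of_isAffine (P := @QuasiCompact)).mpr inferInstance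
  have hfin : IsFinite (V.ι ≫ U.hom) := IsFinite.of_locallyQuasiFinite _
  have hVaff : IsAffineOpen V := by
    haveI := hfin
    exact isAffine_of_isAffineHom (V.ι ≫ U.hom)
  refine ⟨V, rfl, hVaff, IsLocallyArtinian.isArtinianRing_presheaf_obj ⟨V, hVaff⟩, ?_, hfin⟩
  have e := (Scheme.homeoOfIso hVaff.isoSpec)
  haveI : Subsingleton (PrimeSpectrum ↥Γ(U.left, V)) := e.symm.injective.subsingleton
  haveI : Nonempty (PrimeSpectrum ↥Γ(U.left, V)) := ⟨e ⟨u, rfl⟩⟩
  exact isLocalRing_of_subsingleton_primeSpectrum _

/-- The converse: a scheme with such a local structure is locally quasi-finite over the field. -/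
theorem lqf_of_local_structure (U : Over Sk)
    (h : ∀ u : ↥U.left, ∃ V : U.left.Opens, u ∈ V ∧ IsFinite (V.ι ≫ U.hom)) :
    LocallyQuasiFinite U.hom ∧ LocallyOfFiniteType U.hom := by
  choose V hu hV using h
  have hcov : ⨆ u, V u = ⊤ := by
    rw [eq_top_iff]
    intro x _
    exact TopologicalSpace.Opens.mem_iSup.mpr ⟨x, hu x⟩
  constructor
  · rw [IsZariskiLocalAtSource.iff_of_iSup_eq_top (P := @LocallyQuasiFinite) V hcov]
    intro u
    haveI := hV u
    infer_instance
  · rw [IsZariskiLocalAtSource.iff_of_iSup_eq_top (P := @LocallyOfFiniteType) V hcov]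
    intro u
    haveI := hV u
    infer_instance

end Groth.Agent.Helper2.LqfFieldSch
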