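import Mathlib
import Groth.Prelude.Def_AlgSp4
import Groth.Agent.Lib.Helper2.AlgSp.LqfFieldSch
import Groth.Agent.Lib.Helper2.AlgSp.MonoFieldB
import Groth.Agent.Lib.Helper2.AlgSp.Mor2
import Groth.Agent.Lib.Helper2.EtaleLocal

/-!
# Local quasi-finiteness over a field passes to the source of a monomorphism (helper2)
-/

set_option backward.isDefEq.respectTransparency.types false
set_option autoImplicit false
set_option synthInstance.maxHeartbeats 400000
set_option maxHeartbeats 4000000
set_option linter.style.haveILetI false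
set_option linter.unusedSectionVars false
set_option linter.unusedVariables false
set_option linter.unusedSimpArgs false
set_option linter.unnecessarySimpa false

universe u
open CategoryTheory CategoryTheory.Limits AlgebraicGeometry Opposite AlgSp
open Groth.Agent.Helper2.AlgSpBasic

namespace Groth.Agent.Helper2.LqfMono

variable {S : Scheme.{u}}

/-- The fibres of a chart of the source of a monomorphism into a scheme are locally quasi-finite. -/
theorem lqf_fibre {X : Sp S} (hX : IsAlgSpace X) {U W : Over S}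
    (a : (yon S).obj U ⟶ X) (ha : RepWith @Etale a)
    (f' : X ⟶ (yon S).obj W) [Mono f'] (c : U ⟶ W) (hc : a ≫ f' = (yon S).map c)
    {κ : Type u} [Field κ] (zw : Spec (CommRingCat.of κ) ⟶ W.left) :
    LocallyQuasiFinite (pullback.snd c.left zw) := by
  obtain ⟨str, hstr⟩ : ∃ str : Spec (CommRingCat.of κ) ⟶ S, str = zw ≫ W.hom := ⟨_, rfl⟩
  obtain ⟨z, hz⟩ : ∃ z : Over.mk str ⟶ W, z.left = zw :=
    ⟨Over.homMk zw hstr.symm, rfl⟩
  obtain ⟨Fw, hFw⟩ : ∃ Fw : Over S, Fw = Over.mk (pullback.fst c.left zw ≫ U.hom) := ⟨_, rfl⟩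
  have hw2 : pullback.snd c.left zw ≫ str = pullback.fst c.left zw ≫ U.hom := by
    rw [hstr, ← Category.assoc, ← pullback.condition, Category.assoc, Over.w c]
  subst hFw
  obtain ⟨pr₁, hpr₁⟩ : ∃ pr₁ : Over.mk (pullback.fst c.left zw ≫ U.hom) ⟶ U,
      pr₁.left = pullback.fst c.left zw := ⟨Over.homMk (pullback.fst c.left zw) rfl, rfl⟩
  obtain ⟨pr₂, hpr₂⟩ : ∃ pr₂ : Over.mk (pullback.fst c.left zw ≫ U.hom) ⟶ Over.mk str,
      pr₂.left = pullback.snd c.left zw := ⟨Over.homMk (pullback.snd c.left zw) hw2, rfl⟩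
  have sq0 : IsPullback pr₁.left pr₂.left c.left z.left := by
    rw [hpr₁, hpr₂, hz]
    exact IsPullback.of_hasPullback c.left zw
  have sq1 := yon_isPullback_of_left pr₁ pr₂ c z sq0
  have sqZ : IsPullback (pullback.fst f' ((yon S).map z)) (pullback.snd f' ((yon S).map z)) f'
      ((yon S).map z) := IsPullback.of_hasPullback _ _
  have hZ : IsAlgSpace (pullback f' ((yon S).map z)) :=
    isAlgSpace_of_isPullback (IsAlgSpace.yon_obj W).diag hX (IsAlgSpace.yon_obj _) f'
      ((yon S).map z) _ _ sqZ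
  have comm : ((yon S).map pr₁ ≫ a) ≫ f' = (yon S).map pr₂ ≫ (yon S).map z := by
    rw [Category.assoc, hc, sq1.w]
  obtain ⟨l, hl1, hl2⟩ : ∃ l : (yon S).obj (Over.mk (pullback.fst c.left zw ≫ U.hom)) ⟶
      pullback f' ((yon S).map z), l ≫ pullback.fst f' ((yon S).map z) = (yon S).map pr₁ ≫ a ∧
      l ≫ pullback.snd f' ((yon S).map z) = (yon S).map pr₂ :=
    ⟨sqZ.lift _ _ comm, sqZ.lift_fst _ _ comm, sqZ.lift_snd _ _ comm⟩
  have sqL : IsPullback l ((yon S).map pr₁) (pullback.fst f' ((yon S).map z)) a := by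
    refine IsPullback.of_right ?_ hl1 sqZ.flip
    rw [hl2, hc]
    exact sq1.flip
  have hle : RepWith @Etale l := repWith_of_isPullback @Etale sqL.flip ha
  rcases MonoFieldB.isEmpty_or_isIso_of_mono_to_field hZ str
    (pullback.snd f' ((yon S).map z)) with hE | hI
  · haveI : IsEmpty ↥(pullback c.left zw) := ⟨fun t => hE.false (Points.ofPt l t)⟩
    infer_instance
  · haveI := hI
    have h1 : RepWith @Etale (l ≫ pullback.snd f' ((yon S).map z)) :=
      repWith_comp @Etale hle (repWith_of_isIso @Etale _)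
    rw [hl2] at h1
    have h2 : Etale pr₂.left := (repWith_yon_map_iff @Etale pr₂).1 h1
    rw [hpr₂] at h2
    haveI := h2
    exact Groth.Agent.Helper2.EtaleLocal.locallyQuasiFinite_of_etale _

variable (k : Type u) [Field k]

local notation "Sk" => Spec (CommRingCat.of k)

/-- S10484. -/
theorem main {X Y : AlgSp.Space Sk} (f : X ⟶ Y) [Mono f.hom]
    (q : Y.obj ⟶ (AlgSp.yon Sk).obj (Over.mk (𝟙 _)))
    (hq : AlgSp.LocP
      (@LocallyQuasiFinite ⊓ @LocallyOfFiniteType : MorphismProperty Scheme.{u}) q) :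
    AlgSp.LocP (@LocallyQuasiFinite ⊓ @LocallyOfFiniteType : MorphismProperty Scheme.{u})
      (f.hom ≫ q) := by
  obtain ⟨W, ⟨e⟩⟩ := LqfFieldSch.exists_iso_yon_of_lqf_field k Y.property q hq
  obtain ⟨hWq, hWt⟩ := LqfFieldSch.chart_lqf k q hq e.hom (repWith_of_isIso @Etale e.hom)
  intro U V a b h hae hbe hcomm
  suffices H : LocallyQuasiFinite U.hom ∧ LocallyOfFiniteType U.hom by
    have hw : h.left ≫ V.hom = U.hom := Over.w h
    obtain ⟨H1, H2⟩ := H
    show LocallyQuasiFinite h.left ∧ LocallyOfFiniteType h.left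
    refine ⟨?_, ?_⟩
    · haveI : LocallyQuasiFinite (h.left ≫ V.hom) := by rw [hw]; exact H1
      exact LocallyQuasiFinite.of_comp h.left V.hom
    · haveI : LocallyOfFiniteType (h.left ≫ V.hom) := by rw [hw]; exact H2
      exact locallyOfFiniteType_of_comp h.left V.hom
  obtain ⟨c, hc⟩ := (yon Sk).map_surjective (a ≫ f.hom ≫ e.inv)
  haveI : Mono (f.hom ≫ e.inv) := mono_comp _ _
  have hcl : LocallyQuasiFinite c.left := by
    refine LocallyQuasiFinite.of_fiberToSpecResidueField (f := c.left) (fun w => ?_)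
    exact lqf_fibre X.property a hae (f.hom ≫ e.inv) c hc.symm
      (κ := ↑(W.left.residueField w)) (W.left.fromSpecResidueField w)
  haveI := hcl
  haveI := hWq
  have hU : LocallyQuasiFinite U.hom := by
    have hw : c.left ≫ W.hom = U.hom := Over.w c
    rw [← hw]
    infer_instance
  haveI := hU
  refine LqfFieldSch.lqf_of_local_structure k U (fun u => ?_)
  obtain ⟨_, ⟨V₁, hV₁, rfl⟩, huV, -⟩ := U.left.isBasis_affineOpens.exists_subset_of_mem_open
    (Set.mem_univ u) isOpen_univ
  refine ⟨V₁, huV, ?_⟩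
  have hV₁' : IsAffineOpen (V₁ : U.left.Opens) := hV₁
  haveI : IsAffine ((V₁ : U.left.Opens) : Scheme.{u}) := hV₁'
  haveI : LocallyQuasiFinite (Scheme.Opens.ι V₁ ≫ U.hom) := inferInstance
  haveI : QuasiCompact (Scheme.Opens.ι V₁ ≫ U.hom) :=
    (HasAffineProperty.iff_of_isAffine (P := @QuasiCompact)).mpr inferInstance
  exact IsFinite.of_locallyQuasiFinite _

end Groth.Agent.Helper2.LqfMono
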