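import Mathlib
import Groth.Prelude.Def_AlgSp4
import Groth.Prelude.Def_AlgSpDec
import Groth.Agent.Lib.Helper2.AlgSp.LftFibre

/-!
# Locally quasi-finite morphisms of algebraic spaces, pointwise and fibrewise (helper2)
-/

set_option autoImplicit false
set_option backward.isDefEq.respectTransparency false

open CategoryTheory CategoryTheory.Limits AlgebraicGeometry Opposite AlgSp Topology TopologicalSpace

namespace Groth.Agent.Helper2.LqfPointwise
open Groth.Agent.Helper2.AlgSpBasic Groth.Agent.Helper2.QfAtSp Groth.Agent.Helper2.QfAt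
  Groth.Agent.Helper2.LftFibre
universe u

theorem locallyQuasiFinite_of_forall_quasiFiniteAt {X Y : Scheme.{u}} (h : X ⟶ Y)
    [LocallyOfFiniteType h] (H : ∀ u : ↥X, h.QuasiFiniteAt u) : LocallyQuasiFinite h := by
  rw [locallyQuasiFinite_iff_isDiscrete_preimage_singleton]
  intro y
  rw [isDiscrete_iff_discreteTopology, discreteTopology_iff_isOpen_singleton]
  rintro ⟨u, hu⟩
  have hu' : h u = y := hu
  subst hu'
  exact (quasiFiniteAt_iff_isOpen_singleton u).mp (H u)

variable {S : Scheme.{u}} {X Y : Sp S}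

theorem locP_lqf_iff_forall_hasAtMor (hX : IsAlgSpace X) (hY : IsAlgSpace Y) (f : X ⟶ Y)
    (hf : LocP @LocallyOfFiniteType f) :
    LocP ((@LocallyQuasiFinite : MorphismProperty Scheme.{u}) ⊓ @LocallyOfFiniteType) f ↔
      ∀ x : Points X, HasAtMor QfQ f x := by
  constructor
  · intro h x
    obtain ⟨V, b, hbe, hbs⟩ := hY.atlas
    obtain ⟨U, p, α, hpe, hps, hc⟩ := exists_chart_lift hX f b hbe hbs
    obtain ⟨u, rfl⟩ := isSurjectiveMor_of_repWith_surjective p hps x
    obtain ⟨u, rfl⟩ := (Points.schemeHomeo U).surjective u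
    have hα := h p b α hpe hbe hc
    haveI : LocallyQuasiFinite α.left := hα.1
    haveI : LocallyOfFiniteType α.left := hα.2
    have := hasAtMor_of_quasiFiniteAt f hf p b α hpe hbe hc u (α.left.quasiFiniteAt u)
    rw [Points.ofPt_eq_map_ofScheme] at this
    exact this
  · intro h U V a b g ha hb c
    haveI : LocallyOfFiniteType g.left := hf a b g ha hb c
    refine ⟨locallyQuasiFinite_of_forall_quasiFiniteAt g.left fun u => ?_, inferInstance⟩
    exact quasiFiniteAt_of_hasAtMor hX.diag hY.diag f hf _ (h (Points.ofPt a u)) a b g ha hb c u rfl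

/-- S9955. -/
theorem main (hX : IsAlgSpace X) (hY : IsAlgSpace Y) (f : X ⟶ Y)
    (hf : LocP @LocallyOfFiniteType f) :
    LocP ((@LocallyQuasiFinite : MorphismProperty Scheme.{u}) ⊓ @LocallyOfFiniteType) f ↔
      ∀ (k : Type u) [Field k] (str : Spec (CommRingCat.of k) ⟶ S)
        (y : (yon S).obj (Over.mk str) ⟶ Y)
        (P : Sp S) (fst : P ⟶ X) (snd : P ⟶ (yon S).obj (Over.mk str)),
        IsPullback fst snd f y → DiscreteTopology (Points P) := by
  rw [locP_lqf_iff_forall_hasAtMor hX hY f hf]
  constructor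
  · intro h k _ str y P fst snd sq
    let r : FieldPt Y := ⟨k, str, (J S).uliftYonedaEquiv y⟩
    have hr : r.toHom = y := Equiv.symm_apply_apply _ _
    have sq' : IsPullback fst snd f r.toHom := by rw [hr]; exact sq
    have hP : IsAlgSpace P :=
      isAlgSpace_of_isPullback hY.diag hX (IsAlgSpace.yon_obj _) f r.toHom fst snd sq'
    exact (discreteTopology_iff_forall_qf f r fst snd sq' hX hY hP hf).mpr fun x _ => h x
  · intro h x
    induction x using Points.ind with | h q => ?_
    let r : FieldPt Y := ⟨q.K, q.str, (J S).uliftYonedaEquiv (q.toHom ≫ f)⟩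
    have hr : r.toHom = q.toHom ≫ f := Equiv.symm_apply_apply _ _
    have sq := IsPullback.of_hasPullback f r.toHom
    have hP : IsAlgSpace (pullback f r.toHom) :=
      isAlgSpace_of_isPullback hY.diag hX (IsAlgSpace.yon_obj _) f r.toHom _ _ sq
    have hd : DiscreteTopology (Points (pullback f r.toHom)) :=
      h q.K q.str r.toHom _ _ _ sq
    refine (discreteTopology_iff_forall_qf f r _ _ sq hX hY hP hf).mp hd _ ?_
    have h1 : Points.map f (Points.mk q) = Points.map (q.toHom ≫ f)
        (Points.ofScheme q.pt (IsLocalRing.closedPoint q.K : ↥(Spec (CommRingCat.of q.K)))) := by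
      rw [Points.map_comp, map_toHom]
    rw [h1, ← hr, map_toHom]

end Groth.Agent.Helper2.LqfPointwise
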