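import Mathlib
import Groth.Prelude.Def_AlgSp4
import Groth.Prelude.Def_AlgSpDec
import Groth.Prelude.Def_Flat
import Groth.Agent.Lib.Helper2.AlgSp.QfAtSp
import Groth.Agent.Lib.Helper2.Sch.FibreDimZero

/-!
# Locally quasi-finite iff relative dimension zero at every point
-/

set_option autoImplicit false
set_option backward.isDefEq.respectTransparency false

open CategoryTheory CategoryTheory.Limits AlgebraicGeometry Opposite AlgSp

namespace Groth.Agent.Helper2.LqfRelDim
universe u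
variable {S : Scheme.{u}}

open Groth.Agent.Helper2.ChartIndep Groth.Agent.Helper2.QfAt Groth.Agent.Helper2.QfAtSp

/-- S10310. -/
theorem main {X Y : Sp S} (hX : IsAlgSpace X) (hY : IsAlgSpace Y) (f : X ⟶ Y)
    (hf : LocP @LocallyOfFiniteType f) :
    LocP (@LocallyQuasiFinite ⊓ @LocallyOfFiniteType) f ↔
      ∀ x : Points X, HasAtMor (fun _ _ h u => FlatMor.fibreDimAt h u = 0) f x := by
  constructor
  · intro hq x
    obtain ⟨V, b, hbe, hbs⟩ := hY.atlas
    obtain ⟨U, a, h, hae, has, c⟩ := AlgSpBasic.exists_chart_lift hX f b hbe hbs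
    obtain ⟨u, hu⟩ := AlgSpBasic.surjective_ofPt a has x
    haveI : LocallyOfFiniteType h.left := hf a b h hae hbe c
    haveI : LocallyQuasiFinite h.left := (hq a b h hae hbe c).1
    exact ⟨U, V, a, b, h, u, hae, hbe, c, hu,
      (FibreDimZero.fibreDimAt_eq_zero_iff u).mpr (h.left.quasiFiniteAt u)⟩
  · intro hx U V a b h ha hb c
    refine ⟨?_, hf a b h ha hb c⟩
    haveI : LocallyOfFiniteType h.left := hf a b h ha hb c
    rw [← Scheme.Hom.quasiFiniteLocus_eq_top_iff]
    refine top_le_iff.mp fun u _ => ?_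
    obtain ⟨U₁, V₁, a₁, b₁, h₁, u₁, ha₁, hb₁, c₁, hu₁, hd⟩ := hx (Points.ofPt a u)
    haveI : LocallyOfFiniteType h₁.left := hf a₁ b₁ h₁ ha₁ hb₁ c₁
    have hq₁ : h₁.left.QuasiFiniteAt u₁ := (FibreDimZero.fibreDimAt_eq_zero_iff u₁).mp hd
    exact (quasiFiniteAt_chart_indep hX.diag hY.diag f hf a₁ b₁ h₁ a b h ha₁ hb₁ ha hb c₁ c u₁ u
      hu₁).mp hq₁

end Groth.Agent.Helper2.LqfRelDim
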