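import Mathlib
import Groth.Prelude.Def_AlgSp4
import Groth.Prelude.Def_AlgSpDec
import Groth.Agent.Lib.Helper2.AlgSp.LocP
import Groth.Agent.Lib.Helper2.AlgSp.PointsMor
namespace Groth.Agent.Helper2.AlgSpBasic
open CategoryTheory CategoryTheory.Limits AlgebraicGeometry Opposite AlgSp Topology
open Groth.Agent.Helper2.EtaleLocal
universe u
variable {S : Scheme.{u}}

set_option backward.isDefEq.respectTransparency.types false in
/-- Transfer of the neighbourhood form of `P` between two chart diagrams through the same point. -/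
theorem exists_nbhd_of_chart (P : MorphismProperty Scheme.{u}) [IsEtaleLocalST P]
    {X Y : Sp S} (hX : Representable (Limits.diag X)) (hY : Representable (Limits.diag Y))
    (f : X ⟶ Y) {U V U' V' : Over S}
    (a : (yon S).obj U ⟶ X) (b : (yon S).obj V ⟶ Y) (h : U ⟶ V)
    (a' : (yon S).obj U' ⟶ X) (b' : (yon S).obj V' ⟶ Y) (h' : U' ⟶ V')
    (ha : RepWith @Etale a) (hb : RepWith @Etale b) (ha' : RepWith @Etale a')
    (hb' : RepWith @Etale b')
    (comm : a ≫ f = (yon S).map h ≫ b) (comm' : a' ≫ f = (yon S).map h' ≫ b')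
    (u : ↥U.left) (u' : ↥U'.left) (e : Points.ofPt a u = Points.ofPt a' u')
    (W : U.left.Opens) (hu : u ∈ W) (hW : P (W.ι ≫ h.left)) :
    ∃ W' : U'.left.Opens, u' ∈ W' ∧ P (W'.ι ≫ h'.left) := by
  obtain ⟨Wp, w₁, w₂, sqW⟩ := exists_isPullback_yon hX a a'
  obtain ⟨T, t₁, t₂, sqT⟩ := exists_isPullback_yon hY b b'
  have hw₁ : Etale w₁.left := ha'.property a _ _ sqW.flip
  have hw₂ : Etale w₂.left := ha.property a' _ _ sqW
  have ht₁ : Etale t₁.left := hb'.property b _ _ sqT.flip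
  have ht₂ : Etale t₂.left := hb.property b' _ _ sqT
  have e' : (yon S).map (w₁ ≫ h) ≫ b = (yon S).map (w₂ ≫ h') ≫ b' := by
    rw [Functor.map_comp, Functor.map_comp, Category.assoc, Category.assoc, ← comm, ← comm',
      ← Category.assoc, ← Category.assoc, sqW.w]
  obtain ⟨k, hk⟩ := (yon S).map_surjective (sqT.lift _ _ e')
  have hk1 : k ≫ t₁ = w₁ ≫ h :=
    (yon S).map_injective (by rw [Functor.map_comp, hk, sqT.lift_fst])
  have hk2 : k ≫ t₂ = w₂ ≫ h' :=
    (yon S).map_injective (by rw [Functor.map_comp, hk, sqT.lift_snd])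
  have hk1' : k.left ≫ t₁.left = w₁.left ≫ h.left := by
    rw [← Over.comp_left, hk1, Over.comp_left]
  have hk2' : k.left ≫ t₂.left = w₂.left ≫ h'.left := by
    rw [← Over.comp_left, hk2, Over.comp_left]
  obtain ⟨z, hz1, hz2⟩ := exists_point_of_isPullback_yon a a' w₁ w₂ sqW u u' e
  let W₀ : Wp.left.Opens := w₁.left ⁻¹ᵁ W
  have hzW₀ : z ∈ W₀ := by
    change w₁.left z ∈ W
    rw [hz1]; exact hu
  have h1 : P (W₀.ι ≫ w₁.left ≫ h.left) := by
    have : W₀.ι ≫ w₁.left ≫ h.left = (w₁.left ∣_ W) ≫ (W.ι ≫ h.left) := by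
      rw [← Category.assoc, ← Category.assoc, morphismRestrict_ι]
    rw [this]
    exact P.comp_mem _ _ (IsEtaleLocalST.of_etale _ inferInstance) hW
  have h2 : P ((W₀.ι ≫ k.left) ≫ t₁.left) := by
    rw [Category.assoc, hk1']; exact h1
  have h3 : P (W₀.ι ≫ k.left) := IsEtaleLocalST.of_postcomp_etale _ _ h2
  have h4 : P ((W₀.ι ≫ k.left) ≫ t₂.left) :=
    P.comp_mem _ _ h3 (IsEtaleLocalST.of_etale _ ht₂)
  have h5 : P (W₀.ι ≫ w₂.left ≫ h'.left) := by
    rw [← hk2', ← Category.assoc]; exact h4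
  let W' : U'.left.Opens := ⟨w₂.left '' (W₀ : Set Wp.left), w₂.left.isOpenMap _ W₀.2⟩
  have hle : W₀ ≤ w₂.left ⁻¹ᵁ W' := fun x hx => ⟨x, hx, rfl⟩
  let r : (W₀ : Scheme.{u}) ⟶ (W' : Scheme.{u}) := w₂.left.resLE W' W₀ hle
  have hr : r ≫ W'.ι = W₀.ι ≫ w₂.left := Scheme.Hom.resLE_comp_ι _ _
  have hre : Etale r := inferInstance
  have hrs : Surjective r := by
    refine ⟨fun y => ?_⟩
    obtain ⟨z', hz', hz'y⟩ := y.2
    refine ⟨⟨z', hz'⟩, ?_⟩
    apply W'.ι.injective
    rw [← Scheme.Hom.comp_apply, hr, Scheme.Hom.comp_apply]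
    exact hz'y
  refine ⟨W', ⟨z, hzW₀, hz2⟩, ?_⟩
  refine IsEtaleLocalST.of_comp_etale_surjective r _ hre hrs ?_
  rw [← Category.assoc, hr, Category.assoc]
  exact h5

set_option backward.isDefEq.respectTransparency.types false in
/-- `P` étale locally iff `P` in the neighbourhood sense at every point. -/
theorem locP_iff_forall_hasAtMor_nbhd (P : MorphismProperty Scheme.{u}) [IsEtaleLocalST P]
    [IsZariskiLocalAtSource P] {X Y : Sp S} (hX : IsAlgSpace X) (hY : IsAlgSpace Y) (f : X ⟶ Y) :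
    LocP P f ↔ ∀ x : Points X,
      HasAtMor (fun U _ h u => ∃ W : U.Opens, u ∈ W ∧ P (W.ι ≫ h)) f x := by
  constructor
  · intro hf x
    obtain ⟨V, b, hbe, hbs⟩ := hY.atlas
    obtain ⟨U, a, h, hae, has, hah⟩ := exists_chart_lift hX f b hbe hbs
    obtain ⟨u, hu⟩ := surjective_ofPt a has x
    refine ⟨U, V, a, b, h, u, hae, hbe, hah, hu, ⊤, trivial, ?_⟩
    exact IsZariskiLocalAtSource.comp (hf a b h hae hbe hah) _
  · intro H U' V' a' b' h' ha' hb' comm'
    have key : ∀ u' : ↥U'.left, ∃ W' : U'.left.Opens, u' ∈ W' ∧ P (W'.ι ≫ h'.left) := by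
      intro u'
      obtain ⟨U, V, a, b, h, u, hae, hbe, hah, hu, W, huW, hW⟩ := H (Points.ofPt a' u')
      exact exists_nbhd_of_chart P hX.diag hY.diag f a b h a' b' h' hae hbe ha' hb' hah comm'
        u u' hu W huW hW
    choose W' hW'1 hW'2 using key
    refine IsZariskiLocalAtSource.of_iSup_eq_top W' ?_ hW'2
    rw [eq_top_iff]
    intro x _
    exact TopologicalSpace.Opens.mem_iSup.mpr ⟨x, hW'1 x⟩

end Groth.Agent.Helper2.AlgSpBasic
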