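import Groth.Prelude.Def_AlgSp
import Groth.Prelude.Def_AlgSp3
import Groth.Agent.Lib.Helper2.AlgSp.Basic
import Groth.Agent.Lib.Helper2.AlgSp.Mor2
import Groth.Agent.Lib.Helper2.AlgSp.KernelPair
import Groth.Agent.Lib.Helper2.AlgSp.EpiPullback

/-!
# The Néron mapping property passes from smooth schemes to smooth algebraic spaces (helper2)
-/

set_option autoImplicit false
set_option backward.isDefEq.respectTransparency false
set_option synthInstance.maxHeartbeats 400000
set_option maxHeartbeats 4000000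
set_option linter.style.haveILetI false
set_option linter.unusedSectionVars false
set_option linter.unusedVariables false

universe u
open CategoryTheory CategoryTheory.Limits AlgebraicGeometry Opposite AlgSp
open Groth.Agent.Helper2.AlgSpBasic Groth.Agent.Helper2.EpiPullback

namespace Groth.Agent.Helper2.NeronSp

variable {S : Scheme.{u}}

/-- Descent of a map along an epimorphism of sheaves with given kernel pair. -/
theorem exists_desc {R U M X : Sp S} (s t : R ⟶ U) (q : U ⟶ M) [Epi q]
    (hq : IsPullback t s q q) (a : U ⟶ X) (ha : s ≫ a = t ≫ a) : ∃ m : M ⟶ X, q ≫ m = a := by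
  have wq : s ≫ q = t ≫ q := hq.w.symm
  haveI : IsIso (pullback.lift t s wq.symm : R ⟶ pullback q q) := by
    have : (pullback.lift t s wq.symm : R ⟶ pullback q q) = hq.isoPullback.hom := by
      apply pullback.hom_ext
      · rw [pullback.lift_fst, IsPullback.isoPullback_hom_fst]
      · rw [pullback.lift_snd, IsPullback.isoPullback_hom_snd]
    rw [this]
    infer_instance
  haveI : IsIso (coequalizer.desc q wq) := isIso_coequalizer_desc s t q wq
  refine ⟨inv (coequalizer.desc q wq) ≫ coequalizer.desc a ha, ?_⟩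
  have h1 : coequalizer.π s t ≫ coequalizer.desc q wq = q := coequalizer.π_desc q wq
  calc q ≫ inv (coequalizer.desc q wq) ≫ coequalizer.desc a ha
      = (coequalizer.π s t ≫ coequalizer.desc q wq) ≫ inv (coequalizer.desc q wq) ≫
          coequalizer.desc a ha := by rw [h1]
    _ = coequalizer.π s t ≫ coequalizer.desc a ha := by
        rw [Category.assoc, IsIso.hom_inv_id_assoc]
    _ = a := coequalizer.π_desc a ha

variable (U : S.Opens)

/-- `Y ×_S U` as a scheme over `S`. -/
noncomputable abbrev YU (Y : Over S) : Over S := (Over.map U.ι).obj ((Over.pullback U.ι).obj Y)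

/-- The projection `Y ×_S U ⟶ Y`. -/
noncomputable abbrev ε (Y : Over S) : YU U Y ⟶ Y := (Over.mapPullbackAdj U.ι).counit.app Y

/-- The projection `Y ×_S U ⟶ U`. -/
noncomputable def πU (Y : Over S) : YU U Y ⟶ Over.mk U.ι :=
  Over.homMk ((Over.pullback U.ι).obj Y).hom (by simp)

/-- Functoriality of `Y ↦ Y ×_S U`. -/
noncomputable abbrev hU {Y' Y : Over S} (h : Y' ⟶ Y) : YU U Y' ⟶ YU U Y :=
  (Over.map U.ι).map ((Over.pullback U.ι).map h)

theorem hU_ε {Y' Y : Over S} (h : Y' ⟶ Y) : hU U h ≫ ε U Y = ε U Y' ≫ h :=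
  (Over.mapPullbackAdj U.ι).counit.naturality h

theorem hU_π {Y' Y : Over S} (h : Y' ⟶ Y) : hU U h ≫ πU U Y = πU U Y' := by
  ext
  simp [πU]

/-- The chart of `F × h_U` induced by a map `h_Y ⟶ F`. -/
noncomputable def qY {F : Sp S} (Y : Over S) (y : (yon S).obj Y ⟶ F) :
    (yon S).obj (YU U Y) ⟶ F ⨯ (yon S).obj (Over.mk U.ι) :=
  prod.lift ((yon S).map (ε U Y) ≫ y) ((yon S).map (πU U Y))

theorem qY_fst {F : Sp S} (Y : Over S) (y : (yon S).obj Y ⟶ F) :
    qY U Y y ≫ prod.fst = (yon S).map (ε U Y) ≫ y := prod.lift_fst _ _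

theorem map_hU_qY {F : Sp S} {Y' Y : Over S} (h : Y' ⟶ Y) (y : (yon S).obj Y ⟶ F) :
    (yon S).map (hU U h) ≫ qY U Y y = qY U Y' ((yon S).map h ≫ y) := by
  apply Limits.prod.hom_ext
  · simp only [qY, Category.assoc, prod.lift_fst]
    rw [← Category.assoc, ← Functor.map_comp, hU_ε, Functor.map_comp, Category.assoc]
  · simp only [qY, Category.assoc, prod.lift_snd]
    rw [← Functor.map_comp, hU_π]

theorem exists_lift_YU {T' V : Over S} (v : T' ⟶ V) (u' : T' ⟶ Over.mk U.ι) :
    ∃ m : T' ⟶ YU U V, m ≫ ε U V = v ∧ m ≫ πU U V = u' := by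
  have hw : v.left ≫ V.hom = u'.left ≫ U.ι := (Over.w v).trans (Over.w u').symm
  refine ⟨Over.homMk (pullback.lift v.left u'.left hw) ?_, ?_, ?_⟩
  · simpa using Over.w u'
  · ext
    simp
  · ext
    simp [πU]

theorem main13209 (N : Over S)
    (hN : ∀ Y : Over S, Smooth Y.hom →
      Function.Bijective (fun g : Y ⟶ N => (Over.mapPullbackAdj U.ι).counit.app Y ≫ g))
    (F : Sp S) (hF : IsAlgSpace F)
    (sF : F ⟶ (yon S).obj (Over.mk (𝟙 S))) (hsm : LocP @Smooth sF) :
    Function.Bijective (fun φ : F ⟶ (yon S).obj N =>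
      (Limits.prod.fst : F ⨯ (yon S).obj (Over.mk U.ι) ⟶ F) ≫ φ) := by
  obtain ⟨V, p, hpe, hps⟩ := hF.atlas
  haveI hpls : Sheaf.IsLocallySurjective p := isLocallySurjective_of_etale_surjective p hpe hps
  haveI : Epi p := (Sheaf.isLocallySurjective_iff_epi p).1 hpls
  have hVsm : Smooth V.hom := by
    obtain ⟨k, hk⟩ := (yon S).map_surjective (p ≫ sF)
    have h1 : Smooth k.left :=
      hsm p (𝟙 _) k hpe (repWith_id _ _) (by rw [hk, Category.comp_id])
    have h2 : k.left = V.hom := by
      have := Over.w k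
      simpa using this
    rwa [h2] at h1
  have hp : Representable p := hpe.1
  obtain ⟨t, ht⟩ := (yon S).map_surjective (hp.fst p)
  have sq : IsPullback ((yon S).map t) ((yon S).map (hp.snd p)) p p := by
    rw [ht]; exact hp.isPullback p
  have hset : Etale (hp.snd p).left := hpe.property p _ _ (hp.isPullback p)
  have hRsm : Smooth (hp.pullback p).hom := by
    have : (hp.pullback p).hom = (hp.snd p).left ≫ V.hom := (Over.w (hp.snd p)).symm
    rw [this]
    infer_instance
  constructor
  · intro φ ψ hφψ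
    dsimp only at hφψ
    rw [← cancel_epi p]
    obtain ⟨a, ha⟩ := (yon S).map_surjective (p ≫ φ)
    obtain ⟨b, hb⟩ := (yon S).map_surjective (p ≫ ψ)
    rw [← ha, ← hb]
    congr 1
    apply (hN V hVsm).1
    apply (yon S).map_injective
    show (yon S).map (ε U V ≫ a) = (yon S).map (ε U V ≫ b)
    rw [Functor.map_comp, Functor.map_comp, ha, hb, ← Category.assoc, ← Category.assoc,
      ← qY_fst, Category.assoc, Category.assoc, hφψ]
  · intro θ
    obtain ⟨c, hc⟩ := (yon S).map_surjective (qY U V p ≫ θ)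
    obtain ⟨a, ha⟩ := (hN V hVsm).2 c
    replace ha : ε U V ≫ a = c := ha
    have hts : hp.snd p ≫ a = t ≫ a := by
      apply (hN _ hRsm).1
      show ε U _ ≫ hp.snd p ≫ a = ε U _ ≫ t ≫ a
      rw [← Category.assoc, ← hU_ε, ← Category.assoc, ← hU_ε, Category.assoc, Category.assoc, ha]
      apply (yon S).map_injective
      rw [Functor.map_comp, Functor.map_comp, hc, ← Category.assoc, ← Category.assoc,
        map_hU_qY, map_hU_qY, sq.w]
    obtain ⟨φ, hφ⟩ := exists_desc ((yon S).map (hp.snd p)) ((yon S).map t) p sq ((yon S).map a)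
      (by rw [← Functor.map_comp, ← Functor.map_comp, hts])
    refine ⟨φ, ?_⟩
    show prod.fst ≫ φ = θ
    apply hom_ext_yon
    intro T w
    have he : Etale (hp.snd (w ≫ prod.fst)).left :=
      hpe.property (w ≫ prod.fst) _ _ (hp.isPullback (w ≫ prod.fst))
    have hs : Surjective (hp.snd (w ≫ prod.fst)).left :=
      hps.property (w ≫ prod.fst) _ _ (hp.isPullback (w ≫ prod.fst))
    haveI : Sheaf.IsLocallySurjective ((yon S).map (hp.snd (w ≫ prod.fst))) :=
      isLocallySurjective_of_etale_surjective _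
        ((repWith_yon_map_iff @Etale _).2 he) ((repWith_yon_map_iff @Surjective _).2 hs)
    haveI : Epi ((yon S).map (hp.snd (w ≫ prod.fst))) :=
      (Sheaf.isLocallySurjective_iff_epi _).1 inferInstance
    rw [← cancel_epi ((yon S).map (hp.snd (w ≫ prod.fst)))]
    obtain ⟨v, hv⟩ := (yon S).map_surjective (hp.fst (w ≫ prod.fst))
    obtain ⟨u', hu'⟩ := (yon S).map_surjective
      ((yon S).map (hp.snd (w ≫ prod.fst)) ≫ w ≫ prod.snd)
    obtain ⟨m, hm1, hm2⟩ := exists_lift_YU U v u'
    have hmq : (yon S).map m ≫ qY U V p = (yon S).map (hp.snd (w ≫ prod.fst)) ≫ w := by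
      apply Limits.prod.hom_ext
      · rw [Category.assoc, qY_fst, ← Category.assoc, ← Functor.map_comp, hm1, hv, Category.assoc]
        exact (hp.isPullback (w ≫ prod.fst)).w
      · rw [Category.assoc, qY, prod.lift_snd, ← Functor.map_comp, hm2, hu', Category.assoc]
    rw [← Category.assoc, ← hmq, Category.assoc, ← Category.assoc (qY U V p), qY_fst,
      Category.assoc, hφ, ← Functor.map_comp, ha, hc, ← Category.assoc, hmq, Category.assoc]

end Groth.Agent.Helper2.NeronSp
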