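import Mathlib
import Groth.Prelude.Def_AlgSp4
import Groth.Prelude.Def_AlgSpDec
import Groth.Agent.Lib.Helper2.AlgSp.FieldFibre3B
import Groth.Agent.Lib.Helper2.AlgSp.Sep
import Groth.Agent.Lib.Helper2.Sch.EtSepQc

/-!
# Locally Noetherian decent algebraic spaces are quasi-separated (helper2)

Let `U ⟶ X` be an etale surjective chart with `U` locally Noetherian and `R = U ×_X U`.  For affine
opens `A`, `B` of `U` the scheme `A ×_X B` is etale and separated over the Noetherian scheme `A`
with finite fibres (decency), hence quasi-compact, hence a Noetherian space.  It follows that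
`R ⟶ U × U` is quasi-compact.
-/

set_option backward.isDefEq.respectTransparency.types false
set_option backward.isDefEq.respectTransparency false
set_option autoImplicit false
set_option synthInstance.maxHeartbeats 400000
set_option maxHeartbeats 4000000
set_option linter.style.haveILetI false
set_option linter.unusedSectionVars false
set_option linter.unusedVariables false
set_option linter.unusedSimpArgs false
set_option linter.unnecessarySimpa false

open CategoryTheory CategoryTheory.Limits AlgebraicGeometry Opposite AlgSp TopologicalSpace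

namespace Groth.Agent.Helper2.NoethDecentQs
universe u
variable {S : Scheme.{u}}

open Groth.Agent.Helper2.FieldFibreB

/-- A morphism `h : R ⟶ P` is quasi-compact as soon as, for two morphisms `p₁ p₂ : P ⟶ U`, the
subsets `(h ≫ p₁)⁻¹ A ∩ (h ≫ p₂)⁻¹ B` (`A`, `B` affine opens of `U`) are Noetherian subspaces. -/
theorem quasiCompact_of_forall_affine_inter {R P U : Scheme.{u}} (h : R ⟶ P) (p₁ p₂ : P ⟶ U)
    (q₁ q₂ : R ⟶ U) (hq₁ : h ≫ p₁ = q₁) (hq₂ : h ≫ p₂ = q₂)
    (H : ∀ A B : U.Opens, IsAffineOpen A → IsAffineOpen B →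
      ∀ K : Set ↥R, K ⊆ q₁ ⁻¹' (A : Set ↥U) ∩ q₂ ⁻¹' (B : Set ↥U) → IsCompact K) :
    QuasiCompact h := by
  refine ⟨fun V hVo hVc => ?_⟩
  have hcov : ∀ K : Set ↥U, IsCompact K → ∃ I : Finset U.affineOpens,
      K ⊆ ⋃ A ∈ I, ((A : U.Opens) : Set ↥U) := by
    intro K hK
    refine hK.elim_finite_subcover (fun A : U.affineOpens => ((A : U.Opens) : Set ↥U))
      (fun A => (A : U.Opens).isOpen) ?_
    intro x _
    obtain ⟨W, hW, hxW, -⟩ := exists_isAffineOpen_mem_and_subset (x := x) (U := ⊤) trivial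
    exact Set.mem_iUnion.2 ⟨⟨W, hW⟩, hxW⟩
  obtain ⟨I, hI⟩ := hcov (p₁ '' V) (hVc.image p₁.continuous)
  obtain ⟨J, hJ⟩ := hcov (p₂ '' V) (hVc.image p₂.continuous)
  have hEq : h ⁻¹' V = ⋃ ij : ↥I × ↥J,
      (h ⁻¹' V ∩ (q₁ ⁻¹' ((ij.1.1 : U.Opens) : Set ↥U) ∩
        q₂ ⁻¹' ((ij.2.1 : U.Opens) : Set ↥U))) := by
    ext r
    constructor
    · intro hr
      have h1 : p₁ (h r) ∈ ⋃ A ∈ I, ((A : U.Opens) : Set ↥U) := hI ⟨h r, hr, rfl⟩
      have h2 : p₂ (h r) ∈ ⋃ A ∈ J, ((A : U.Opens) : Set ↥U) := hJ ⟨h r, hr, rfl⟩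
      obtain ⟨A, hAI, hA⟩ := Set.mem_iUnion₂.1 h1
      obtain ⟨B, hBJ, hB⟩ := Set.mem_iUnion₂.1 h2
      refine Set.mem_iUnion.2 ⟨(⟨A, hAI⟩, ⟨B, hBJ⟩), hr, ?_, ?_⟩
      · change q₁ r ∈ ((A : U.Opens) : Set ↥U)
        rw [← hq₁, Scheme.Hom.comp_apply]; exact hA
      · change q₂ r ∈ ((B : U.Opens) : Set ↥U)
        rw [← hq₂, Scheme.Hom.comp_apply]; exact hB
    · intro hr
      obtain ⟨ij, h1, -⟩ := Set.mem_iUnion.1 hr
      exact h1
  rw [hEq]
  exact isCompact_iUnion (fun ij => H _ _ ij.1.1.2 ij.2.1.2 _ Set.inter_subset_right)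

theorem mono_opensι (U : Over S) (A : U.left.Opens) : Mono (opensι U A) := by
  haveI : Mono (opensι U A).left := inferInstanceAs (Mono A.ι)
  exact (Over.forget S).mono_of_mono_map ‹_›

/-- The fibre product over a decent space of a Noetherian etale chart with a separated etale chart
is quasi-compact, provided both factor through a common quasi-compact etale chart. -/
theorem compactSpace_of_isPullback_charts {X : Sp S} (hX : IsAlgSpace X) (hd : IsDecent X)
    {UA UB UC : Over S} [IsNoetherian UA.left] [UB.left.IsSeparated] [CompactSpace ↥UC.left]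
    (φA : (yon S).obj UA ⟶ X) (φB : (yon S).obj UB ⟶ X) (φC : (yon S).obj UC ⟶ X)
    (hφB : RepWith @Etale φB) (hφC : RepWith @Etale φC)
    (iA : UA ⟶ UC) (iB : UB ⟶ UC) [Mono iA] [Mono iB]
    (hiA : (yon S).map iA ≫ φC = φA) (hiB : (yon S).map iB ≫ φC = φB)
    {W : Over S} (fst : W ⟶ UB) (snd : W ⟶ UA)
    (sq : IsPullback ((yon S).map fst) ((yon S).map snd) φB φA) :
    CompactSpace ↥W.left := by
  haveI : Etale snd.left := hφB.property φA ((yon S).map fst) snd sq
  haveI : Mono (prod.lift fst snd).left := AlgSpBasic.mono_prod_lift_left φB φA fst snd sq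
  haveI : IsSeparated (prod.snd : UB ⨯ UA ⟶ UA).left :=
    AlgSpBasic.isSeparated_prod_snd_left UB UA
  have e : (prod.lift fst snd).left ≫ (prod.snd : UB ⨯ UA ⟶ UA).left = snd.left := by
    rw [← Over.comp_left, prod.lift_snd]
  haveI : IsSeparated snd.left := by rw [← e]; infer_instance
  refine EtSepQc.compactSpace_of_etale_separated_finite_fibres snd.left (fun a => ?_)
  obtain ⟨q, hq, hqm, hqq⟩ := hd (Points.ofPt φA a)
  obtain ⟨RC, tC, sC, hRC⟩ := AlgSpBasic.exists_isPullback_yon hX.diag φC φC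
  have h2 := (finite_fibre_of_quasiCompact hX q hqm hqq φC hφC).2 RC sC tC hRC
  have hw : (yon S).map (snd ≫ iA) ≫ φC = (yon S).map (fst ≫ iB) ≫ φC := by
    rw [Functor.map_comp, Functor.map_comp, Category.assoc, Category.assoc, hiA, hiB]
    exact sq.w.symm
  obtain ⟨ρ, hρ⟩ := (yon S).map_surjective (hRC.lift _ _ hw)
  have hρt : ρ ≫ tC = snd ≫ iA := (yon S).map_injective (by
    rw [Functor.map_comp, hρ, hRC.lift_fst])
  have hρs : ρ ≫ sC = fst ≫ iB := (yon S).map_injective (by
    rw [Functor.map_comp, hρ, hRC.lift_snd])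
  haveI : Mono ρ := by
    refine ⟨fun {T} a b hab => ?_⟩
    apply (yon S).map_injective
    apply sq.hom_ext
    · rw [← Functor.map_comp, ← Functor.map_comp]
      congr 1
      rw [← cancel_mono iB, Category.assoc, Category.assoc, ← hρs, ← Category.assoc, hab,
        Category.assoc]
    · rw [← Functor.map_comp, ← Functor.map_comp]
      congr 1
      rw [← cancel_mono iA, Category.assoc, Category.assoc, ← hρt, ← Category.assoc, hab,
        Category.assoc]
  haveI : Mono ρ.left := inferInstance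
  have hinj : Function.Injective ρ.left := ρ.left.injective
  refine (h2.preimage hinj.injOn).subset ?_
  intro w hw'
  have hw'' : snd.left w = a := hw'
  change Points.ofPt ((yon S).map tC ≫ φC) (ρ.left w) = Points.mk q
  rw [← AlgSpBasic.ofPt_yon_map_comp, ← Category.assoc, ← Functor.map_comp, hρt,
    Functor.map_comp, Category.assoc, hiA, AlgSpBasic.ofPt_yon_map_comp, hw'', hq]

theorem exists_lift_opens {U R : Over S} (t : R ⟶ U) (O : R.left.Opens) (A : U.left.Opens)
    (h : ∀ r : ↥R.left, r ∈ O → t.left r ∈ A) :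
    ∃ a₁ : opensOver R O ⟶ opensOver U A, a₁ ≫ opensι U A = opensι R O ≫ t := by
  have hrA : Set.range (O.ι ≫ t.left) ⊆ Set.range A.ι := by
    rw [Scheme.Opens.range_ι]
    rintro _ ⟨r, rfl⟩
    rw [Scheme.Hom.comp_apply]
    exact h _ r.2
  refine ⟨Over.homMk (IsOpenImmersion.lift A.ι (O.ι ≫ t.left) hrA) ?_, ?_⟩
  · change IsOpenImmersion.lift A.ι (O.ι ≫ t.left) hrA ≫ A.ι ≫ U.hom = O.ι ≫ R.hom
    rw [← Category.assoc, IsOpenImmersion.lift_fac, Category.assoc, Over.w t]
  · apply Over.OverMorphism.ext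
    exact IsOpenImmersion.lift_fac _ _ _

theorem exists_opens_hom_of_le (U : Over S) {A C : U.left.Opens} (hAC : A ≤ C) :
    ∃ iA : opensOver U A ⟶ opensOver U C, iA ≫ opensι U C = opensι U A := by
  refine ⟨Over.homMk (U.left.homOfLE hAC) ?_, ?_⟩
  · change U.left.homOfLE hAC ≫ C.ι ≫ U.hom = A.ι ≫ U.hom
    rw [← Category.assoc, Scheme.homOfLE_ι]
  · apply Over.OverMorphism.ext
    exact Scheme.homOfLE_ι _ hAC

/-- For a locally Noetherian etale chart `U` of a decent space and `R = U ×_X U`, the subsets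
`t⁻¹ A ∩ s⁻¹ B` of `R` (`A`, `B` affine opens of `U`) are Noetherian. -/
theorem isCompact_of_subset_inter {X : Sp S} (hX : IsAlgSpace X) (hd : IsDecent X)
    {U : Over S} [IsLocallyNoetherian U.left] (φ : (yon S).obj U ⟶ X) (hφ : RepWith @Etale φ)
    {R : Over S} (t s : R ⟶ U) (hR : IsPullback ((yon S).map t) ((yon S).map s) φ φ)
    (A B : U.left.Opens) (hA : IsAffineOpen A) (hB : IsAffineOpen B)
    (K : Set ↥R.left)
    (hK : K ⊆ t.left ⁻¹' (A : Set ↥U.left) ∩ s.left ⁻¹' (B : Set ↥U.left)) :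
    IsCompact K := by
  haveI hAaff : IsAffine (opensOver U A).left := hA
  haveI hBaff : IsAffine (opensOver U B).left := hB
  haveI : IsLocallyNoetherian (opensOver U A).left :=
    isLocallyNoetherian_of_isOpenImmersion A.ι
  haveI : IsNoetherian (opensOver U A).left :=
    { toIsLocallyNoetherian := inferInstance, toCompactSpace := inferInstance }
  haveI : (opensOver U B).left.IsSeparated := inferInstance
  have hCc : IsCompact ((A ⊔ B : U.left.Opens) : Set ↥U.left) := by
    rw [TopologicalSpace.Opens.coe_sup]; exact hA.isCompact.union hB.isCompact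
  haveI : CompactSpace ↥(opensOver U (A ⊔ B)).left := isCompact_iff_compactSpace.mp hCc
  have hφB : RepWith @Etale ((yon S).map (opensι U B) ≫ φ) := repWith_etale_opensι_comp φ hφ B
  have hφC : RepWith @Etale ((yon S).map (opensι U (A ⊔ B)) ≫ φ) :=
    repWith_etale_opensι_comp φ hφ (A ⊔ B)
  obtain ⟨W, fst, snd, sq⟩ := AlgSpBasic.exists_isPullback_yon hX.diag
    ((yon S).map (opensι U B) ≫ φ) ((yon S).map (opensι U A) ≫ φ)
  obtain ⟨iA, hiA⟩ := exists_opens_hom_of_le U (le_sup_left : A ≤ A ⊔ B)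
  obtain ⟨iB, hiB⟩ := exists_opens_hom_of_le U (le_sup_right : B ≤ A ⊔ B)
  haveI := mono_opensι U A
  haveI := mono_opensι U B
  haveI : Mono iA := mono_of_mono_fac hiA
  haveI : Mono iB := mono_of_mono_fac hiB
  have hiA' : (yon S).map iA ≫ ((yon S).map (opensι U (A ⊔ B)) ≫ φ) =
      (yon S).map (opensι U A) ≫ φ := by
    rw [← Category.assoc, ← Functor.map_comp, hiA]
  have hiB' : (yon S).map iB ≫ ((yon S).map (opensι U (A ⊔ B)) ≫ φ) =
      (yon S).map (opensι U B) ≫ φ := by
    rw [← Category.assoc, ← Functor.map_comp, hiB]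
  have hWc : CompactSpace ↥W.left :=
    compactSpace_of_isPullback_charts hX hd _ _ _ hφB hφC iA iB hiA' hiB' fst snd sq
  haveI : Etale snd.left := hφB.property _ ((yon S).map fst) snd sq
  haveI : IsLocallyNoetherian W.left := LocallyOfFiniteType.isLocallyNoetherian snd.left
  haveI : IsNoetherian W.left :=
    { toIsLocallyNoetherian := inferInstance, toCompactSpace := hWc }
  haveI : NoetherianSpace ↥W.left := inferInstance
  -- the comparison with `R`
  have hw : (yon S).map (snd ≫ opensι U A) ≫ φ = (yon S).map (fst ≫ opensι U B) ≫ φ := by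
    rw [Functor.map_comp, Functor.map_comp, Category.assoc, Category.assoc]
    exact sq.w.symm
  obtain ⟨ρ, hρ⟩ := (yon S).map_surjective (hR.lift _ _ hw)
  have hρt : ρ ≫ t = snd ≫ opensι U A := (yon S).map_injective (by
    rw [Functor.map_comp, hρ, hR.lift_fst])
  have hρs : ρ ≫ s = fst ≫ opensι U B := (yon S).map_injective (by
    rw [Functor.map_comp, hρ, hR.lift_snd])
  have hsub : t.left ⁻¹' (A : Set ↥U.left) ∩ s.left ⁻¹' (B : Set ↥U.left) ⊆
      Set.range ρ.left := by
    obtain ⟨O, hO⟩ : ∃ O : R.left.Opens, O = t.left ⁻¹ᵁ A ⊓ s.left ⁻¹ᵁ B := ⟨_, rfl⟩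
    obtain ⟨a₁, ha₁⟩ := exists_lift_opens t O A (fun r hr => by
      rw [hO] at hr; exact (TopologicalSpace.Opens.mem_inf.1 hr).1)
    obtain ⟨b₁, hb₁⟩ := exists_lift_opens s O B (fun r hr => by
      rw [hO] at hr; exact (TopologicalSpace.Opens.mem_inf.1 hr).2)
    have e1 : (yon S).map b₁ ≫ (yon S).map (opensι U B) =
        (yon S).map (opensι R O) ≫ (yon S).map s := by
      rw [← Functor.map_comp, hb₁, Functor.map_comp]
    have e2 : (yon S).map a₁ ≫ (yon S).map (opensι U A) =
        (yon S).map (opensι R O) ≫ (yon S).map t := by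
      rw [← Functor.map_comp, ha₁, Functor.map_comp]
    have hw2 : (yon S).map b₁ ≫ ((yon S).map (opensι U B) ≫ φ) =
        (yon S).map a₁ ≫ ((yon S).map (opensι U A) ≫ φ) := by
      rw [← Category.assoc, e1, ← Category.assoc, e2, Category.assoc, Category.assoc, hR.w]
    obtain ⟨σ, hσ⟩ := (yon S).map_surjective (sq.lift _ _ hw2)
    have hσ1 : σ ≫ fst = b₁ := (yon S).map_injective (by
      rw [Functor.map_comp, hσ, sq.lift_fst])
    have hσ2 : σ ≫ snd = a₁ := (yon S).map_injective (by
      rw [Functor.map_comp, hσ, sq.lift_snd])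
    have hσρ : σ ≫ ρ = opensι R O := by
      apply (yon S).map_injective
      apply hR.hom_ext
      · rw [← Functor.map_comp, ← Functor.map_comp, Category.assoc, hρt, ← Category.assoc, hσ2,
          ha₁]
      · rw [← Functor.map_comp, ← Functor.map_comp, Category.assoc, hρs, ← Category.assoc, hσ1,
          hb₁]
    have e3 : σ.left ≫ ρ.left = O.ι := by
      rw [← Over.comp_left, hσρ]; rfl
    intro r hr
    have hrO : r ∈ O := by rw [hO]; exact hr
    have hr2 : r ∈ Set.range O.ι := by rw [Scheme.Opens.range_ι]; exact hrO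
    rw [← e3] at hr2
    obtain ⟨z, hz⟩ := hr2
    exact ⟨σ.left z, by rw [← Scheme.Hom.comp_apply]; exact hz⟩
  have hK2 : K ⊆ Set.range ρ.left := hK.trans hsub
  have h1 : IsCompact (ρ.left ⁻¹' K) := NoetherianSpace.isCompact _
  have h2 := h1.image ρ.left.continuous
  rwa [Set.image_preimage_eq_of_subset hK2] at h2

/-- A locally Noetherian decent algebraic space is quasi-separated. -/
theorem isQuasiSeparatedSp_of_isLocNoethSp_of_isDecent {X : Sp S} (hX : IsAlgSpace X)
    (hN : IsLocNoethSp X) (hd : IsDecent X) : IsQuasiSeparatedSp X := by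
  obtain ⟨U, φ, hφe, hφs, hUN⟩ := hN
  haveI : IsLocallyNoetherian U.left := hUN
  obtain ⟨R, t, s, hR⟩ := AlgSpBasic.exists_isPullback_yon hX.diag φ φ
  have sq := AlgSpBasic.isPullback_diag_of_isPullback φ φ t s hR
  have hqe := AlgSpBasic.repWith_prodComparison_prod_map @Etale φ φ hφe hφe
  have hqs := AlgSpBasic.repWith_prodComparison_prod_map @Surjective φ φ hφs hφs
  rw [IsQuasiSeparatedSp, AlgSpBasic.repWith_iff_of_chart (Limits.diag X) hX.diag _ hqe hqs _
    (prod.lift t s) sq @QuasiCompact]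
  have e1 : (prod.lift t s).left ≫ (prod.fst : U ⨯ U ⟶ U).left = t.left := by
    rw [← Over.comp_left, prod.lift_fst]
  have e2 : (prod.lift t s).left ≫ (prod.snd : U ⨯ U ⟶ U).left = s.left := by
    rw [← Over.comp_left, prod.lift_snd]
  exact quasiCompact_of_forall_affine_inter _ _ _ t.left s.left e1 e2
    (fun A B hA hB K hK => isCompact_of_subset_inter hX hd φ hφe t s hR A B hA hB K hK)

end Groth.Agent.Helper2.NoethDecentQs
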