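import Mathlib
import Groth.Prelude.Def_AlgSp4
import Groth.Prelude.Def_AlgSpDec
import Groth.Agent.Lib.Helper2.AlgSp.FieldNoeth
import Groth.Agent.Lib.Helper2.AlgSp.QcMonoPoint
import Groth.Agent.Lib.Helper2.AlgSp.FieldFibre
import Groth.Agent.Lib.Helper2.Sch.EtaleField

/-!
# Locally Noetherian fibres over equivalent field-valued points (helper2)
-/

set_option autoImplicit false
set_option backward.isDefEq.respectTransparency false

open CategoryTheory CategoryTheory.Limits AlgebraicGeometry Opposite AlgSp Topology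

namespace Groth.Agent.Helper2.NoethFibre
open Groth.Agent.Helper2.AlgSpBasic Groth.Agent.Helper2.FieldNoeth
universe u
variable {S : Scheme.{u}} {X Y : Sp S}

/-- If `q` factors through `p` by a morphism of spectra of fields, the fibre over `q` is the
base change of the fibre over `p`. -/
theorem exists_isPullback_of_factor (f : X ⟶ Y) (p q : FieldPt Y) (φ : q.pt ⟶ p.pt)
    (hφ : (yon S).map φ ≫ p.toHom = q.toHom) {Q : Sp S} (qfst : Q ⟶ X)
    (qsnd : Q ⟶ (yon S).obj p.pt) (hQ : IsPullback qfst qsnd f p.toHom) :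
    ∃ (P : Sp S) (fst' : P ⟶ Q) (snd' : P ⟶ (yon S).obj q.pt),
      IsPullback fst' snd' qsnd ((yon S).map φ) ∧ IsPullback (fst' ≫ qfst) snd' f q.toHom := by
  refine ⟨pullback qsnd ((yon S).map φ), pullback.fst _ _, pullback.snd _ _,
    IsPullback.of_hasPullback _ _, ?_⟩
  have := (IsPullback.of_hasPullback qsnd ((yon S).map φ)).paste_horiz hQ
  rwa [hφ] at this

/-- S10804. -/
theorem main04 (hX : IsAlgSpace X) (hY : IsAlgSpace Y) (f : X ⟶ Y) (p p₀ : FieldPt Y)
    (hpp : Points.mk p = Points.mk p₀) (hmono : Mono p₀.toHom)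
    (hNoeth : ∀ ⦃P : Sp S⦄ (fst : P ⟶ X) (snd : P ⟶ (yon S).obj p.pt),
      IsPullback fst snd f p.toHom → IsLocNoethSp P)
    {Q : Sp S} (qfst : Q ⟶ X) (qsnd : Q ⟶ (yon S).obj p₀.pt)
    (hQ : IsPullback qfst qsnd f p₀.toHom) : IsLocNoethSp Q := by
  obtain ⟨g, hg⟩ := QcMonoPoint.exists_factor_of_mono hY p₀ p hmono hpp
  obtain ⟨φ, rfl⟩ := (yon S).map_surjective g
  obtain ⟨P, fst', snd', sq', sqP⟩ := exists_isPullback_of_factor f p₀ p φ hg qfst qsnd hQ
  have hQa : IsAlgSpace Q :=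
    isAlgSpace_of_isPullback hY.diag hX (IsAlgSpace.yon_obj _) f p₀.toHom qfst qsnd hQ
  exact isLocNoethSp_of_bc φ qsnd fst' snd' sq' hQa (hNoeth _ _ sqP)

/-- S10803. -/
theorem main03 (hX : IsAlgSpace X) (hY : IsAlgSpace Y) (f : X ⟶ Y) (y : Points Y)
    (p : FieldPt Y) (hp : Points.mk p = y)
    (hNoeth : ∀ ⦃P : Sp S⦄ (fst : P ⟶ X) (snd : P ⟶ (yon S).obj p.pt),
      IsPullback fst snd f p.toHom → IsLocNoethSp P)
    (V : Over S) (b : (yon S).obj V ⟶ Y) (hb : RepWith @Etale b) (v : ↥V.left)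
    (hv : Points.ofPt b v = y)
    {Q : Sp S} (qfst : Q ⟶ X) (qsnd : Q ⟶ (yon S).obj (FieldPt.ofPt b v).pt)
    (hQ : IsPullback qfst qsnd f (FieldPt.ofPt b v).toHom) : IsLocNoethSp Q := by
  -- the fibre product of the point with the chart
  obtain ⟨T, τ₁, τ₂, sqT⟩ := exists_isPullback_yon hY.diag p.toHom b
  have hτ₁ : Etale τ₁.left := hb.property p.toHom ((yon S).map τ₂) τ₁ sqT.flip
  let c : ↥p.pt.left := (IsLocalRing.closedPoint p.K : ↥(Spec (CommRingCat.of p.K)))
  have e : Points.ofPt p.toHom c = Points.ofPt b v := by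
    rw [Points.ofPt_toHom, hp, hv]
  obtain ⟨t, -, ht⟩ := exists_point_of_isPullback_yon p.toHom b τ₁ τ₂ sqT c v e
  subst ht
  -- the residue field point of `T`
  let p₁ : FieldPt Y := FieldPt.ofPt ((yon S).map τ₂ ≫ b) t
  have hp₁ : p₁.toHom = (yon S).map (FieldFibre.resι T t) ≫ (yon S).map τ₂ ≫ b :=
    FieldPt.toHom_ofPt _ t
  let φ₁ : p₁.pt ⟶ p.pt := FieldFibre.resι T t ≫ τ₁
  have hφ₁ : (yon S).map φ₁ ≫ p.toHom = p₁.toHom := by
    rw [hp₁, Functor.map_comp, Category.assoc, sqT.w]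
  have hφ₁lft : LocallyOfFiniteType φ₁.left := by
    have hT : EtaleField.IsFieldLike T.left := by
      haveI := hτ₁
      exact EtaleField.isFieldLike_of_etale
        (τ₁.left : T.left ⟶ Spec (CommRingCat.of p.K))
    haveI : IsOpenImmersion (T.left.fromSpecResidueField t) :=
      FieldFibre.isOpenImmersion_fromSpecResidueField hT t
    haveI := hτ₁
    change LocallyOfFiniteType (T.left.fromSpecResidueField t ≫ τ₁.left)
    infer_instance
  let ρ : p₁.pt ⟶ (FieldPt.ofPt b (τ₂.left t)).pt :=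
    Over.homMk (Spec.map (τ₂.left.residueFieldMap t)) (by
      show Spec.map (τ₂.left.residueFieldMap t) ≫
        (V.left.fromSpecResidueField (τ₂.left t) ≫ V.hom) = T.left.fromSpecResidueField t ≫ T.hom
      rw [← Category.assoc, Scheme.Hom.SpecMap_residueFieldMap_fromSpecResidueField,
        Category.assoc, Over.w τ₂])
  have hρ : (yon S).map ρ ≫ (FieldPt.ofPt b (τ₂.left t)).toHom = p₁.toHom := by
    rw [hp₁, FieldPt.toHom_ofPt, ← Category.assoc, ← Category.assoc, ← Functor.map_comp,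
      ← Functor.map_comp]
    congr 2
    apply Over.OverMorphism.ext
    exact Scheme.Hom.SpecMap_residueFieldMap_fromSpecResidueField τ₂.left t
  -- the fibre over `p₁` in two ways
  obtain ⟨P, fst', snd', sq', sqP⟩ :=
    exists_isPullback_of_factor f (FieldPt.ofPt b (τ₂.left t)) p₁ ρ hρ qfst qsnd hQ
  have hQa : IsAlgSpace Q :=
    isAlgSpace_of_isPullback hY.diag hX (IsAlgSpace.yon_obj _) f _ qfst qsnd hQ
  refine isLocNoethSp_of_bc ρ qsnd fst' snd' sq' hQa ?_
  -- `P` is a base change of the fibre over `p`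
  have sqp := IsPullback.of_hasPullback f p.toHom
  have hl : (fst' ≫ qfst) ≫ f = (snd' ≫ (yon S).map φ₁) ≫ p.toHom := by
    rw [Category.assoc _ _ p.toHom, hφ₁]
    exact sqP.w
  have sqL : IsPullback (sqp.lift _ _ hl) snd' (pullback.snd f p.toHom) ((yon S).map φ₁) := by
    refine IsPullback.of_right ?_ (sqp.lift_snd _ _ hl) sqp
    rw [sqp.lift_fst, hφ₁]
    exact sqP
  exact isLocNoethSp_bc_of_lft φ₁ (pullback.snd f p.toHom) (sqp.lift _ _ hl) snd' sqL hφ₁lft
    (hNoeth _ _ sqp)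

end Groth.Agent.Helper2.NoethFibre
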