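import Mathlib
import Groth.Agent.Lib.Helper2.AlgSp.BiratNormal3

/-!
# Normal integral affine étale charts of normal decent spaces (helper2)
-/

set_option autoImplicit false
set_option linter.style.haveILetI false

open CategoryTheory CategoryTheory.Limits AlgebraicGeometry Opposite AlgSp TopologicalSpace

universe u

namespace Groth.Agent.Helper2.Birat

open Groth.Agent.Helper2.AlgSpBasic Groth.Agent.Helper2.QfCodimZero

variable {S : Scheme.{u}}

/-- An affine scheme étale over a decent space with finitely many irreducible components has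
finitely many irreducible components. -/
theorem finite_irreducibleComponents_of_etale_affine (Y : Space S) (hY : IsDecent Y.obj)
    (hYf : (irreducibleComponents (Points Y.obj)).Finite) {V : Over S} [IsAffine V.left]
    (b : (yon S).obj V ⟶ Y.obj) (hb : RepWith @Etale b) :
    (irreducibleComponents ↥V.left).Finite := by
  haveI := Groth.Agent.Helper2.FibreSpecB.t0Space_of_isDecent Y.property hY
  have hGY : (genericPoints (Points Y.obj)).Finite :=
    Groth.Agent.Lib.Helper6.GenFin.finite_generic_points hYf
  have h1 : (⋃ y ∈ genericPoints (Points Y.obj), Points.ofPt b ⁻¹' {y}).Finite :=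
    hGY.biUnion (fun y _ => Groth.Agent.Helper2.FibreSpecB.finite_fibre_of_isDecent
      Y.property hY y V b inferInstance hb)
  refine Groth.Agent.Lib.Helper6.FppfComp.finite_irreducibleComponents_of_finite_gen
    (h1.subset ?_)
  intro v hv
  have hv' : closure {v} ∈ irreducibleComponents ↥V.left :=
    Groth.Agent.Lib.Helper6.FppfComp.closure_mem_irreducibleComponents_of_forall_specializes hv
  simp only [Set.mem_iUnion, Set.mem_preimage, Set.mem_singleton_iff, exists_prop]
  exact ⟨_, (gen_chart_iff Y hY b hb v).mpr hv', rfl⟩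

/-- `S10492`, for a decent space with finitely many irreducible components. -/
theorem exists_normal_integral_chart (X : Space S) (hX : IsDecent X.obj)
    (hXf : (irreducibleComponents (Points X.obj)).Finite)
    (hXn : EtaleLocally (fun U => ∀ u : ↥U, IsDomain ↥(U.presheaf.stalk u) ∧
      IsIntegrallyClosed ↥(U.presheaf.stalk u)) X.obj)
    (x : Points X.obj) :
    ∃ (U : Over S) (a : (yon S).obj U ⟶ X.obj), RepWith @Etale a ∧ IsAffine U.left ∧
      IsIntegral U.left ∧ (∀ u : ↥U.left, IsDomain ↥(U.left.presheaf.stalk u) ∧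
        IsIntegrallyClosed ↥(U.left.presheaf.stalk u)) ∧
      x ∈ Set.range (Points.ofPt a) := by
  obtain ⟨U, p, hpe, hps, hU⟩ := hXn
  obtain ⟨u, rfl⟩ := surjective_ofPt p hps x
  obtain ⟨_, ⟨A₀, hA₀, rfl⟩, huA₀, -⟩ :=
    U.left.isBasis_affineOpens.exists_subset_of_mem_open (Set.mem_univ u) isOpen_univ
  have hb' : RepWith @Etale ((yon S).map (opensOverι A₀) ≫ p) :=
    Groth.Agent.Helper2.FibreSpecB.repWith_etale_opensOverι_comp p hpe A₀
  have hfinA₀ : (irreducibleComponents ↥(A₀ : Scheme.{u})).Finite := by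
    haveI : IsAffine (opensOver A₀).left := hA₀
    exact finite_irreducibleComponents_of_etale_affine X hX hXf (V := opensOver A₀) _ hb'
  obtain ⟨A', hA', huA', hA'int⟩ :=
    Groth.Agent.Helper2.IntegralBirat.exists_integral_affine_nhd (A₀ : Scheme.{u}) hfinA₀
      (fun x => (normal_opens hU A₀ x).1) ⟨u, huA₀⟩
  refine ⟨idxV U ⟨⟨A₀, A'⟩, hA₀, hA', hA'int⟩,
    (yon S).map (idxι U ⟨⟨A₀, A'⟩, hA₀, hA', hA'int⟩) ≫ p,
    repWith_etale_idx U p hpe _, inferInstance, inferInstance, ?_, ?_⟩
  · intro y
    exact normal_opens (normal_opens hU A₀) A' y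
  · refine ⟨⟨⟨u, huA₀⟩, huA'⟩, ?_⟩
    rw [ofPt_yon_map_comp]
    rfl

end Groth.Agent.Helper2.Birat
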