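import Mathlib
import Groth.Prelude.Def_AlgSpOX3
import Groth.Agent.Lib.Helper2.AlgSp.EtNbhd
import Groth.Agent.Lib.Helper2.AlgSp.EtStalk
import Groth.Agent.Lib.Helper2.Ring.SHensLocC

/-!
# The etale local ring of an algebraic space at a geometric point (helper2)

For an affine etale chart `Spec A₀ ⟶ X` with a lift `A₀ → K` of the geometric point, the etale
local ring `OEtStalk p` is isomorphic to the colimit `G A₀ K` of all etale `A₀`-algebras with a
`K`-point (helper7's model of the strict henselization).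
-/

set_option autoImplicit false

open CategoryTheory CategoryTheory.Limits AlgebraicGeometry Opposite AlgSp

namespace Groth.Agent.Helper2.OEtStalkG
open Groth.Agent.Helper7.SHens Groth.Agent.Helper2.EtNbhd

universe u
variable {S : Scheme.{u}} {X : Sp S} (p : FieldPt X)

/-- An affine etale chart of `X` together with a lift of the field-valued point `p`. -/
structure AffChart where
  A₀ : Type u
  [ring : CommRing A₀]
  str : Spec (CommRingCat.of A₀) ⟶ S
  a₀ : (yon S).obj (Over.mk str) ⟶ X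
  ha₀ : RepWith @Etale a₀
  φ₀ : A₀ →+* p.K
  hstr : Spec.map (CommRingCat.ofHom φ₀) ≫ str = p.str
  hφ : (yon S).map (Over.homMk (Spec.map (CommRingCat.ofHom φ₀)) hstr : p.pt ⟶ Over.mk str) ≫ a₀ =
    p.toHom

attribute [instance] AffChart.ring

variable {p}

namespace AffChart

variable (c : AffChart p)

/-- `K` as an algebra over the ring of the chart. -/
@[reducible] noncomputable def algK : Algebra c.A₀ p.K := c.φ₀.toAlgebra

attribute [instance] algK

/-- The chart as an object of the small etale site. -/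
noncomputable abbrev E₀ : EtOver X := EtOver.mk c.a₀ c.ha₀

/-- The lift of the point to the chart. -/
noncomputable def x₀ : (FieldPt.liftsTo p).obj c.E₀ :=
  ⟨Over.homMk (Spec.map (CommRingCat.ofHom c.φ₀)) c.hstr, c.hφ⟩


/-- The scheme over `S` of a stage. -/
noncomputable abbrev stageOver (U : Nbhd c.A₀ p.K) : Over S :=
  Over.mk (Spec.map (CommRingCat.ofHom (algebraMap c.A₀ U.Ring)) ≫ c.str)

/-- The structure morphism of a stage to the chart. -/
noncomputable abbrev stageTo (U : Nbhd c.A₀ p.K) : c.stageOver U ⟶ Over.mk c.str :=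
  Over.homMk (Spec.map (CommRingCat.ofHom (algebraMap c.A₀ U.Ring))) rfl

theorem etale_stageTo (U : Nbhd c.A₀ p.K) : Etale (c.stageTo U).left := by
  change Etale (Spec.map (CommRingCat.ofHom (algebraMap c.A₀ U.Ring)))
  rw [HasRingHomProperty.Spec_iff (P := @Etale)]
  exact RingHom.etale_algebraMap.2 inferInstance

/-- A stage as an object of the small etale site. -/
noncomputable def stageE (U : Nbhd c.A₀ p.K) : EtOver X :=
  EtOver.mk ((yon S).map (c.stageTo U) ≫ c.a₀)
    (AlgSpBasic.repWith_comp @Etale ((repWith_yon_map_iff @Etale (c.stageTo U)).2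
      (c.etale_stageTo U)) c.ha₀)

/-- The structure morphism of a stage to the chart in the small etale site. -/
noncomputable def stageToE (U : Nbhd c.A₀ p.K) : c.stageE U ⟶ c.E₀ :=
  EtOver.homMk (c.stageTo U) rfl

theorem sec_comp_algebraMap (U : Nbhd c.A₀ p.K) :
    CommRingCat.ofHom (algebraMap c.A₀ U.Ring) ≫ CommRingCat.ofHom (U.sec : U.Ring →+* p.K) =
      CommRingCat.ofHom c.φ₀ := by
  ext a
  exact U.sec.commutes a

/-- The chart lift as a morphism over `S`. -/
noncomputable abbrev x₀Hom : p.pt ⟶ Over.mk c.str :=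
  Over.homMk (Spec.map (CommRingCat.ofHom c.φ₀)) c.hstr

/-- The lift of the point to a stage, as a morphism over `S`. -/
noncomputable def stageLiftHom (U : Nbhd c.A₀ p.K) : p.pt ⟶ c.stageOver U :=
  Over.homMk (Spec.map (CommRingCat.ofHom (U.sec : U.Ring →+* p.K))) (by
    change Spec.map (CommRingCat.ofHom (U.sec : U.Ring →+* p.K)) ≫
      (Spec.map (CommRingCat.ofHom (algebraMap c.A₀ U.Ring)) ≫ c.str) = p.str
    rw [← Category.assoc, ← Spec.map_comp, c.sec_comp_algebraMap U, c.hstr])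

theorem stageLiftHom_comp (U : Nbhd c.A₀ p.K) : c.stageLiftHom U ≫ c.stageTo U = c.x₀Hom := by
  apply Over.OverMorphism.ext
  change Spec.map (CommRingCat.ofHom (U.sec : U.Ring →+* p.K)) ≫
    Spec.map (CommRingCat.ofHom (algebraMap c.A₀ U.Ring)) = Spec.map (CommRingCat.ofHom c.φ₀)
  rw [← Spec.map_comp, c.sec_comp_algebraMap U]

/-- The lift of the point to a stage. -/
noncomputable def stageLift (U : Nbhd c.A₀ p.K) : (FieldPt.liftsTo p).obj (c.stageE U) :=
  ⟨c.stageLiftHom U, by
    have h : (yon S).map (c.stageLiftHom U) ≫ ((yon S).map (c.stageTo U) ≫ c.a₀) = p.toHom := by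
      rw [← Category.assoc, ← Functor.map_comp, c.stageLiftHom_comp U]
      exact c.hφ
    exact h⟩

theorem stageLift_map (U : Nbhd c.A₀ p.K) :
    (FieldPt.liftsTo p).map (c.stageToE U) (c.stageLift U) = c.x₀ := by
  apply Subtype.ext
  apply Over.OverMorphism.ext
  change Spec.map (CommRingCat.ofHom (U.sec : U.Ring →+* p.K)) ≫
    Spec.map (CommRingCat.ofHom (algebraMap c.A₀ U.Ring)) = Spec.map (CommRingCat.ofHom c.φ₀)
  rw [← Spec.map_comp, c.sec_comp_algebraMap U]

/-- The morphism of the small etale site induced by a morphism of stages. -/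
noncomputable def stageMap {U V : Nbhd c.A₀ p.K} (f : U ⟶ V) : c.stageE V ⟶ c.stageE U :=
  EtOver.homMk (Over.homMk (Spec.map (CommRingCat.ofHom
      ((f : Nbhd.Hom U V).toAlgHom : U.Ring →+* V.Ring))) (by
    change Spec.map _ ≫ (Spec.map (CommRingCat.ofHom (algebraMap c.A₀ U.Ring)) ≫ c.str) =
      Spec.map (CommRingCat.ofHom (algebraMap c.A₀ V.Ring)) ≫ c.str
    rw [← Category.assoc, ← Spec.map_comp]
    congr 2
    ext a
    exact (f : Nbhd.Hom U V).toAlgHom.commutes a)) (by
    change (yon S).map _ ≫ ((yon S).map (c.stageTo U) ≫ c.a₀) = (yon S).map (c.stageTo V) ≫ c.a₀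
    rw [← Category.assoc, ← Functor.map_comp]
    congr 2
    apply Over.OverMorphism.ext
    change Spec.map _ ≫ Spec.map (CommRingCat.ofHom (algebraMap c.A₀ U.Ring)) =
      Spec.map (CommRingCat.ofHom (algebraMap c.A₀ V.Ring))
    rw [← Spec.map_comp]
    congr 1
    ext a
    exact (f : Nbhd.Hom U V).toAlgHom.commutes a)

theorem stageMap_lift {U V : Nbhd c.A₀ p.K} (f : U ⟶ V) :
    (FieldPt.liftsTo p).map (c.stageMap f) (c.stageLift V) = c.stageLift U := by
  apply Subtype.ext
  apply Over.OverMorphism.ext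
  change Spec.map (CommRingCat.ofHom (V.sec : V.Ring →+* p.K)) ≫
    Spec.map (CommRingCat.ofHom ((f : Nbhd.Hom U V).toAlgHom : U.Ring →+* V.Ring)) =
      Spec.map (CommRingCat.ofHom (U.sec : U.Ring →+* p.K))
  rw [← Spec.map_comp]
  congr 1
  ext x
  exact Nbhd.sec_hom f x

end AffChart

section Germ

variable (hX : IsAlgSpace X) (hp : p.IsGeometric)

noncomputable local instance : HasColimitsOfSize.{u, u} CommRingCat.{u + 1} :=
  hasColimitsOfSizeShrink.{u, u, u + 1, u + 1} _

noncomputable local instance :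
    PreservesFilteredColimitsOfSize.{u, u} (forget CommRingCat.{u + 1}) :=
  preservesFilteredColimitsOfSize_shrink.{u, u + 1, u, u + 1} _

/-- The germ of a function on an etale neighbourhood in the etale local ring. -/
noncomputable def germ (E : EtOver X) (x : (FieldPt.liftsTo p).obj E) :
    Γ(E.obj.left.left, ⊤) →+* ↥(OEtStalk p) :=
  ((point p hX hp).toPresheafFiber E x (OEt X).obj).hom.comp
    (ULift.ringEquiv.symm : Γ(E.obj.left.left, ⊤) ≃+* ULift.{u + 1} Γ(E.obj.left.left, ⊤)).toRingHom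

theorem germ_apply (E : EtOver X) (x : (FieldPt.liftsTo p).obj E) (s : Γ(E.obj.left.left, ⊤)) :
    germ hX hp E x s = (point p hX hp).toPresheafFiber E x (OEt X).obj (ULift.up s) := rfl

theorem germ_map {E E' : EtOver X} (f : E' ⟶ E) (x' : (FieldPt.liftsTo p).obj E')
    (x : (FieldPt.liftsTo p).obj E) (h : (FieldPt.liftsTo p).map f x' = x)
    (s : Γ(E.obj.left.left, ⊤)) :
    germ hX hp E x s = germ hX hp E' x' (f.hom.left.left.appTop.hom s) := by
  subst h
  rw [germ_apply, germ_apply]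
  exact (GrothendieckTopology.Point.toPresheafFiber_w_apply (point p hX hp) f x'
    (OEt X).obj (ULift.up s)).symm

theorem germ_surjective (t : ↥(OEtStalk p)) :
    ∃ (E : EtOver X) (x : (FieldPt.liftsTo p).obj E) (s : Γ(E.obj.left.left, ⊤)),
      germ hX hp E x s = t := by
  obtain ⟨E, x, z, rfl⟩ :=
    (point p hX hp).toPresheafFiber_jointly_surjective (P := (OEt X).obj) t
  exact ⟨E, x, z.down, rfl⟩

theorem germ_eq_zero_iff (E : EtOver X) (x : (FieldPt.liftsTo p).obj E)
    (s : Γ(E.obj.left.left, ⊤)) :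
    germ hX hp E x s = 0 ↔ ∃ (Y : EtOver X) (f : Y ⟶ E) (y : (FieldPt.liftsTo p).obj Y),
      (FieldPt.liftsTo p).map f y = x ∧ f.hom.left.left.appTop.hom s = 0 := by
  have h0 : germ hX hp E x 0 = 0 := map_zero _
  have key : germ hX hp E x s = 0 ↔
      (point p hX hp).toPresheafFiber E x (OEt X).obj (ULift.up s) =
        (point p hX hp).toPresheafFiber E x (OEt X).obj (ULift.up 0) := by
    rw [← h0]
    exact Iff.rfl
  refine key.trans (((point p hX hp).toPresheafFiber_eq_iff' E x (P := (OEt X).obj)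
    (ULift.up s) (ULift.up 0)).trans ?_)
  constructor
  · rintro ⟨Y, f, y, hy, h⟩
    refine ⟨Y, f, y, hy, ?_⟩
    have h1 : (ULift.up (f.hom.left.left.appTop.hom s) : ULift.{u + 1} Γ(Y.obj.left.left, ⊤)) =
        ULift.up (f.hom.left.left.appTop.hom 0) := h
    rw [map_zero] at h1
    exact congrArg ULift.down h1
  · rintro ⟨Y, f, y, hy, h⟩
    refine ⟨Y, f, y, hy, ?_⟩
    show (ULift.up (f.hom.left.left.appTop.hom s) : ULift.{u + 1} Γ(Y.obj.left.left, ⊤)) =
        ULift.up (f.hom.left.left.appTop.hom 0)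
    rw [h, map_zero]

variable (c : AffChart p)

/-- The germ map of a stage. -/
noncomputable def stageGerm (U : Nbhd c.A₀ p.K) : U.Ring →+* ↥(OEtStalk p) :=
  (germ hX hp (c.stageE U) (c.stageLift U)).comp (Scheme.ΓSpecIso (CommRingCat.of U.Ring)).inv.hom

theorem stageGerm_hom {U V : Nbhd c.A₀ p.K} (f : U ⟶ V) (x : U.Ring) :
    stageGerm hX hp c V ((f : Nbhd.Hom U V).toAlgHom x) = stageGerm hX hp c U x := by
  show germ hX hp (c.stageE V) (c.stageLift V) ((Scheme.ΓSpecIso (CommRingCat.of V.Ring)).inv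
    ((f : Nbhd.Hom U V).toAlgHom x)) = germ hX hp (c.stageE U) (c.stageLift U)
      ((Scheme.ΓSpecIso (CommRingCat.of U.Ring)).inv x)
  rw [germ_map hX hp (c.stageMap f) (c.stageLift V) (c.stageLift U) (c.stageMap_lift f)]
  congr 1
  have := congrArg (fun g => g x) (Scheme.ΓSpecIso_inv_naturality
    (CommRingCat.ofHom ((f : Nbhd.Hom U V).toAlgHom : U.Ring →+* V.Ring)))
  exact this

/-- The comparison map from the colimit of stages to the etale local ring, as a function. -/
noncomputable def ΨFun (g : G c.A₀ p.K) : ↥(OEtStalk p) :=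
  stageGerm hX hp c (exists_rep g).choose (exists_rep g).choose_spec.choose

theorem ΨFun_ι (U : Nbhd c.A₀ p.K) (x : U.Ring) :
    ΨFun hX hp c (ι U x) = stageGerm hX hp c U x := by
  have h := (exists_rep (ι U x)).choose_spec.choose_spec
  obtain ⟨Z, f, g, hfg⟩ := (ι_eq_iff _ _).1 h
  show stageGerm hX hp c _ _ = _
  rw [← stageGerm_hom hX hp c f, ← stageGerm_hom hX hp c g, hfg]

/-- The comparison map from the colimit of stages to the etale local ring. -/
noncomputable def Ψ : G c.A₀ p.K →+* ↥(OEtStalk p) where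
  toFun := ΨFun hX hp c
  map_one' := by
    have : (1 : G c.A₀ p.K) = ι (Nbhd.base c.A₀ p.K) 1 := (map_one _).symm
    rw [this, ΨFun_ι, map_one]
  map_zero' := by
    have : (0 : G c.A₀ p.K) = ι (Nbhd.base c.A₀ p.K) 0 := (map_zero _).symm
    rw [this, ΨFun_ι, map_zero]
  map_mul' a b := by
    obtain ⟨U, x, y, rfl, rfl⟩ := exists_rep₂ a b
    rw [← map_mul, ΨFun_ι, ΨFun_ι, ΨFun_ι, map_mul]
  map_add' a b := by
    obtain ⟨U, x, y, rfl, rfl⟩ := exists_rep₂ a b
    rw [← map_add, ΨFun_ι, ΨFun_ι, ΨFun_ι, map_add]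

theorem Ψ_ι (U : Nbhd c.A₀ p.K) (x : U.Ring) : Ψ hX hp c (ι U x) = stageGerm hX hp c U x :=
  ΨFun_ι hX hp c U x

/-- **Domination**: an etale neighbourhood over the chart is dominated by a stage, over the
chart. -/
theorem exists_stage_over (E : EtOver X) (x : (FieldPt.liftsTo p).obj E) (g : E ⟶ c.E₀)
    (hg : (FieldPt.liftsTo p).map g x = c.x₀) :
    ∃ (U : Nbhd c.A₀ p.K) (f : c.stageE U ⟶ E),
      (FieldPt.liftsTo p).map f (c.stageLift U) = x ∧ f ≫ g = c.stageToE U := by
  let z : ↥E.obj.left.left := x.1.left (default : ↥(Spec (CommRingCat.of p.K)))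
  obtain ⟨R, j, hj, hjm, -⟩ := Scheme.exists_affine_mem_range_and_range_subset
    (x := z) (U := ⊤) (by simp)
  have hsub : Set.range x.1.left ⊆ Set.range j := by
    rintro _ ⟨y, rfl⟩
    have hy : y = (default : ↥(Spec (CommRingCat.of p.K))) :=
      Subsingleton.elim (α := ↥(Spec (CommRingCat.of p.K))) y default
    rw [hy]
    exact hjm
  obtain ⟨l, hl⟩ : ∃ l, l ≫ j = x.1.left := ⟨_, IsOpenImmersion.lift_fac j x.1.left hsub⟩
  obtain ⟨ψ, hψ⟩ : ∃ ψ : CommRingCat.of c.A₀ ⟶ R, Spec.map ψ = j ≫ g.hom.left.left :=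
    ⟨Spec.preimage (j ≫ g.hom.left.left), Spec.map_preimage _⟩
  obtain ⟨sK, hsK⟩ : ∃ sK : R ⟶ CommRingCat.of p.K, Spec.map sK = l :=
    ⟨Spec.preimage l, Spec.map_preimage _⟩
  letI : Algebra c.A₀ R := ψ.hom.toAlgebra
  haveI hEt : Algebra.Etale c.A₀ R := by
    haveI := EtOver.etale_left g
    have h1 : Etale (Spec.map ψ) := by
      rw [hψ]
      infer_instance
    rw [HasRingHomProperty.Spec_iff (P := @Etale)] at h1
    exact RingHom.etale_algebraMap.1 h1
  have hgx : x.1.left ≫ g.hom.left.left = Spec.map (CommRingCat.ofHom c.φ₀) :=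
    congrArg (fun t => t.1.left) hg
  have hcomm : ψ ≫ sK = CommRingCat.ofHom c.φ₀ := by
    apply Spec.map_injective
    rw [Spec.map_comp, hψ, hsK, ← Category.assoc, hl, hgx]
  let s : R →ₐ[c.A₀] p.K :=
    { sK.hom with
      commutes' := fun a => by
        have := congrArg (fun t => t.hom a) hcomm
        exact this }
  obtain ⟨U, e, he⟩ := Nbhd.exists_of R s
  -- the ring maps
  have h1 : ψ ≫ CommRingCat.ofHom (e.symm : R →+* U.Ring) =
      CommRingCat.ofHom (algebraMap c.A₀ U.Ring) := by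
    ext a
    exact e.symm.commutes a
  have h2 : CommRingCat.ofHom (e.symm : R →+* U.Ring) ≫
      CommRingCat.ofHom (U.sec : U.Ring →+* p.K) = sK := by
    ext r
    have h3 := AlgHom.congr_fun he (e.symm r)
    simp only [AlgHom.comp_apply] at h3
    show U.sec (e.symm r) = sK.hom r
    rw [← h3]
    show s (e (e.symm r)) = sK.hom r
    rw [AlgEquiv.apply_symm_apply]
    rfl
  have hgW : g.hom.left.left ≫ c.str = E.obj.left.hom := Over.w g.hom.left
  let fW : Spec (CommRingCat.of U.Ring) ⟶ E.obj.left.left :=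
    Spec.map (CommRingCat.ofHom (e.symm : R →+* U.Ring)) ≫ j
  have hfWg : fW ≫ g.hom.left.left = Spec.map (CommRingCat.ofHom (algebraMap c.A₀ U.Ring)) := by
    show (Spec.map _ ≫ j) ≫ g.hom.left.left = _
    rw [Category.assoc, ← hψ, ← Spec.map_comp, h1]
  let fO : c.stageOver U ⟶ E.obj.left := Over.homMk fW (by
    show fW ≫ E.obj.left.hom = Spec.map (CommRingCat.ofHom (algebraMap c.A₀ U.Ring)) ≫ c.str
    rw [← hgW, ← Category.assoc, hfWg])
  have hfOg : fO ≫ g.hom.left = c.stageTo U := by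
    apply Over.OverMorphism.ext
    exact hfWg
  have hw : (yon S).map fO ≫ E.obj.hom = (c.stageE U).obj.hom := by
    show (yon S).map fO ≫ E.obj.hom = (yon S).map (c.stageTo U) ≫ c.a₀
    rw [← EtOver.w g, ← Category.assoc, ← Functor.map_comp, hfOg]
    rfl
  refine ⟨U, EtOver.homMk fO hw, ?_, ?_⟩
  · apply Subtype.ext
    apply Over.OverMorphism.ext
    show Spec.map (CommRingCat.ofHom (U.sec : U.Ring →+* p.K)) ≫
      (Spec.map (CommRingCat.ofHom (e.symm : R →+* U.Ring)) ≫ j) = x.1.left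
    rw [← Category.assoc, ← Spec.map_comp, h2, hsK, hl]
  · apply EtOver.hom_ext
    exact hfOg

theorem Ψ_surjective : Function.Surjective (Ψ hX hp c) := by
  intro t
  obtain ⟨E, x, s, rfl⟩ := germ_surjective hX hp t
  obtain ⟨N', f₁, f₂, -⟩ := cone_objs p (⟨E, x⟩ : EtNbhd p) (⟨c.E₀, c.x₀⟩ : EtNbhd p)
  obtain ⟨U, f, hf1, hf2⟩ := exists_stage_over c N'.1 N'.2 f₂.1 f₂.2
  have hlift : (FieldPt.liftsTo p).map (f ≫ f₁.1) (c.stageLift U) = x := by
    rw [Functor.map_comp]
    show (FieldPt.liftsTo p).map f₁.1 ((FieldPt.liftsTo p).map f (c.stageLift U)) = x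
    rw [hf1]
    exact f₁.2
  refine ⟨ι U ((Scheme.ΓSpecIso (CommRingCat.of U.Ring)).hom
    ((f ≫ f₁.1).hom.left.left.appTop.hom s)), ?_⟩
  rw [Ψ_ι, germ_map hX hp (f ≫ f₁.1) (c.stageLift U) x hlift s]
  show germ hX hp (c.stageE U) (c.stageLift U) ((Scheme.ΓSpecIso (CommRingCat.of U.Ring)).inv
    ((Scheme.ΓSpecIso (CommRingCat.of U.Ring)).hom _)) = _
  congr 1
  exact congrArg (fun h => h ((f ≫ f₁.1).hom.left.left.appTop.hom s))
    (Scheme.ΓSpecIso (CommRingCat.of U.Ring)).hom_inv_id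

theorem Ψ_injective : Function.Injective (Ψ hX hp c) := by
  rw [injective_iff_map_eq_zero]
  intro g hg
  obtain ⟨U, x, rfl⟩ := exists_rep g
  rw [Ψ_ι] at hg
  obtain ⟨Y, f, y, hy, hs⟩ := (germ_eq_zero_iff hX hp (c.stageE U) (c.stageLift U)
    ((Scheme.ΓSpecIso (CommRingCat.of U.Ring)).inv x)).1 hg
  have hyg : (FieldPt.liftsTo p).map (f ≫ c.stageToE U) y = c.x₀ := by
    rw [Functor.map_comp]
    show (FieldPt.liftsTo p).map (c.stageToE U) ((FieldPt.liftsTo p).map f y) = c.x₀
    rw [hy, c.stageLift_map U]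
  obtain ⟨U', f', hf1, hf2⟩ := exists_stage_over c Y y (f ≫ c.stageToE U) hyg
  obtain ⟨k, hkdef⟩ : ∃ k : c.stageE U' ⟶ c.stageE U, k = f' ≫ f := ⟨_, rfl⟩
  have hk : k ≫ c.stageToE U = c.stageToE U' := by
    rw [hkdef, Category.assoc]
    exact hf2
  have hkl : (FieldPt.liftsTo p).map k (c.stageLift U') = c.stageLift U := by
    rw [hkdef, Functor.map_comp]
    show (FieldPt.liftsTo p).map f ((FieldPt.liftsTo p).map f' (c.stageLift U')) = c.stageLift U
    rw [hf1, hy]
  obtain ⟨ρ, hρ⟩ : ∃ ρ : CommRingCat.of U.Ring ⟶ CommRingCat.of U'.Ring,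
      Spec.map ρ = k.hom.left.left := ⟨Spec.preimage _, Spec.map_preimage _⟩
  have hρA : CommRingCat.ofHom (algebraMap c.A₀ U.Ring) ≫ ρ =
      CommRingCat.ofHom (algebraMap c.A₀ U'.Ring) := by
    apply Spec.map_injective
    rw [Spec.map_comp, hρ]
    exact congrArg (fun t => t.hom.left.left) hk
  have hρs : ρ ≫ CommRingCat.ofHom (U'.sec : U'.Ring →+* p.K) =
      CommRingCat.ofHom (U.sec : U.Ring →+* p.K) := by
    apply Spec.map_injective
    rw [Spec.map_comp, hρ]
    exact congrArg (fun t => t.1.left) hkl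
  let m : U ⟶ U' :=
    (⟨{ ρ.hom with
        commutes' := fun a => congrArg (fun t => t.hom a) hρA }, by
      ext z
      exact congrArg (fun t => t.hom z) hρs⟩ : Nbhd.Hom U U')
  have hx0 : ρ.hom x = 0 := by
    have h1 := congrArg (fun h => h.hom x) (Scheme.ΓSpecIso_inv_naturality ρ)
    simp only [CommRingCat.hom_comp, RingHom.comp_apply] at h1
    have h2 : (Spec.map ρ).appTop.hom ((Scheme.ΓSpecIso (CommRingCat.of U.Ring)).inv.hom x) = 0 := by
      rw [hρ, hkdef]
      show (f'.hom.left.left ≫ f.hom.left.left).appTop.hom _ = 0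
      rw [Scheme.Hom.comp_appTop]
      show f'.hom.left.left.appTop.hom (f.hom.left.left.appTop.hom _) = 0
      have hs' : f.hom.left.left.appTop.hom
          ((Scheme.ΓSpecIso (CommRingCat.of U.Ring)).inv.hom x) = 0 := hs
      rw [hs', map_zero]
    rw [h2] at h1
    have h3 := congrArg (Scheme.ΓSpecIso (CommRingCat.of U'.Ring)).hom.hom h1
    rw [map_zero] at h3
    have h4 : (Scheme.ΓSpecIso (CommRingCat.of U'.Ring)).hom.hom
        ((Scheme.ΓSpecIso (CommRingCat.of U'.Ring)).inv.hom (ρ.hom x)) = ρ.hom x :=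
      congrArg (fun h => h.hom (ρ.hom x)) (Scheme.ΓSpecIso (CommRingCat.of U'.Ring)).inv_hom_id
    rw [← h4]
    exact h3
  rw [← ι_hom m x]
  show ι U' (ρ.hom x) = 0
  rw [hx0, map_zero]

/-- **The etale local ring at a geometric point is the colimit of etale algebras with a
`K`-point over an affine etale chart.** -/
noncomputable def ringEquiv : G c.A₀ p.K ≃+* ↥(OEtStalk p) :=
  RingEquiv.ofBijective (Ψ hX hp c) ⟨Ψ_injective hX hp c, Ψ_surjective hX hp c⟩

end Germ

open Groth.Agent.Helper2.SHensLoc in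
/-- Every etale neighbourhood of a field-valued point contains an affine chart with a lift, and the
local ring of the neighbourhood at the image point is the localization of the chart ring at the
kernel of the lift. -/
theorem exists_affChart (E : EtOver X) (x : (FieldPt.liftsTo p).obj E) :
    ∃ c : AffChart p, Nonempty (↥(E.obj.left.left.presheaf.stalk
      (x.1.left (default : ↥(Spec (CommRingCat.of p.K))))) ≃+* Loc c.A₀ p.K) := by
  obtain ⟨z, hzdef⟩ : ∃ z : ↥E.obj.left.left,
      z = x.1.left (default : ↥(Spec (CommRingCat.of p.K))) := ⟨_, rfl⟩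
  rw [← hzdef]
  obtain ⟨V, hV, hzV, -⟩ := exists_isAffineOpen_mem_and_subset (x := z) (U := ⊤) trivial
  have hsub : Set.range x.1.left ⊆ Set.range hV.fromSpec := by
    rw [hV.range_fromSpec]
    rintro _ ⟨y, rfl⟩
    have hy : y = (default : ↥(Spec (CommRingCat.of p.K))) :=
      Subsingleton.elim (α := ↥(Spec (CommRingCat.of p.K))) y default
    rw [hy, ← hzdef]
    exact hzV
  obtain ⟨l, hl⟩ : ∃ l, l ≫ hV.fromSpec = x.1.left :=
    ⟨_, IsOpenImmersion.lift_fac hV.fromSpec x.1.left hsub⟩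
  obtain ⟨φ, hφ⟩ : ∃ φ : Γ(E.obj.left.left, V) ⟶ CommRingCat.of p.K, Spec.map φ = l :=
    ⟨Spec.preimage l, Spec.map_preimage _⟩
  have hxw : x.1.left ≫ E.obj.left.hom = p.str := Over.w x.1
  have hstr : Spec.map (CommRingCat.ofHom φ.hom) ≫ (hV.fromSpec ≫ E.obj.left.hom) = p.str := by
    show Spec.map φ ≫ (hV.fromSpec ≫ E.obj.left.hom) = p.str
    rw [hφ, ← Category.assoc, hl, hxw]
  let jO : Over.mk (hV.fromSpec ≫ E.obj.left.hom) ⟶ E.obj.left := Over.homMk hV.fromSpec rfl
  have hjx : (Over.homMk (Spec.map (CommRingCat.ofHom φ.hom)) hstr :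
      p.pt ⟶ Over.mk (hV.fromSpec ≫ E.obj.left.hom)) ≫ jO = x.1 := by
    apply Over.OverMorphism.ext
    show Spec.map φ ≫ hV.fromSpec = x.1.left
    rw [hφ, hl]
  let c : AffChart p :=
    { A₀ := Γ(E.obj.left.left, V)
      str := hV.fromSpec ≫ E.obj.left.hom
      a₀ := (yon S).map jO ≫ E.obj.hom
      ha₀ := AlgSpBasic.repWith_comp @Etale ((repWith_yon_map_iff @Etale jO).2
        (inferInstanceAs (Etale hV.fromSpec))) E.property
      φ₀ := φ.hom
      hstr := hstr
      hφ := by
        rw [← Category.assoc, ← Functor.map_comp, hjx]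
        exact x.2 }
  refine ⟨c, ?_⟩
  -- the prime of the chart ring at `z` is the kernel of the lift
  haveI : (RingHom.ker φ.hom).IsPrime := RingHom.ker_isPrime _
  have hker : (hV.primeIdealOf ⟨z, hzV⟩).asIdeal = RingHom.ker φ.hom := by
    have h1 : hV.primeIdealOf ⟨z, hzV⟩ = l (default : ↥(Spec (CommRingCat.of p.K))) := by
      apply hV.fromSpec.isOpenEmbedding.injective
      rw [hV.fromSpec_primeIdealOf]
      show z = (l ≫ hV.fromSpec) (default : ↥(Spec (CommRingCat.of p.K)))
      rw [hl, hzdef]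
    rw [h1, ← hφ, Spec.map_apply, PrimeSpectrum.comap_asIdeal]
    have h2 : ∀ q : PrimeSpectrum p.K, q.asIdeal = ⊥ := fun q =>
      ((Ideal.eq_bot_or_top _).resolve_right q.2.ne_top)
    rw [h2, RingHom.ker_eq_comap_bot]
  letI : Algebra Γ(E.obj.left.left, V) ↥(E.obj.left.left.presheaf.stalk z) :=
    TopCat.Presheaf.algebra_section_stalk E.obj.left.left.presheaf ⟨z, hzV⟩
  have hloc : IsLocalization.AtPrime (E.obj.left.left.presheaf.stalk z)
      (hV.primeIdealOf ⟨z, hzV⟩).asIdeal := hV.isLocalization_stalk ⟨z, hzV⟩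
  have hloc' : IsLocalization (RingHom.ker φ.hom).primeCompl
      ↥(E.obj.left.left.presheaf.stalk z) := by
    have h3 : (hV.primeIdealOf ⟨z, hzV⟩).asIdeal.primeCompl = (RingHom.ker φ.hom).primeCompl := by
      ext a
      simp only [Ideal.mem_primeCompl_iff]
      rw [hker]
    rw [← h3]
    exact hloc
  have e : ↥(E.obj.left.left.presheaf.stalk z) ≃+* Localization.AtPrime (RingHom.ker φ.hom) :=
    (IsLocalization.algEquiv (RingHom.ker φ.hom).primeCompl
      ↥(E.obj.left.left.presheaf.stalk z) (Localization.AtPrime (RingHom.ker φ.hom))).toRingEquiv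
  exact ⟨e⟩

end Groth.Agent.Helper2.OEtStalkG
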