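import Mathlib
import Groth.Agent.Lib.Helper2.AlgSp.OEtStalkG

/-!
# Properties of the etale local ring through strict henselization (helper2)
-/

set_option autoImplicit false

open CategoryTheory CategoryTheory.Limits AlgebraicGeometry Opposite AlgSp

namespace Groth.Agent.Helper2.OEtStalkProps
open Groth.Agent.Helper7.SHens Groth.Agent.Helper2.EtNbhd Groth.Agent.Helper2.OEtStalkG
  Groth.Agent.Helper2.SHensLoc Groth.Agent.Helper2.EtStalk

universe u
variable {S : Scheme.{u}} {X : Sp S}

/-- A geometric point whose class is the image of a point of an etale `X`-scheme lifts to that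
scheme through that point. -/
theorem exists_lift_through (p : FieldPt X) (hp : p.IsGeometric) (E : EtOver X)
    (y : ↥E.obj.left.left) (h : Points.mk p = Points.ofPt E.obj.hom y) :
    ∃ x : (FieldPt.liftsTo p).obj E,
      x.1.left (default : ↥(Spec (CommRingCat.of p.K))) = y := by
  haveI : IsAlgClosed p.K := hp
  have hrep := E.property.rep
  haveI he : Etale (hrep.snd p.toHom).left := E.property.property_snd p.toHom
  obtain ⟨w, hw1, -⟩ := Groth.Agent.Helper2.AlgSpBasic.exists_point_of_isPullback_yon E.obj.hom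
    p.toHom (hrep.fst' p.toHom) (hrep.snd p.toHom) (hrep.isPullback' p.toHom) y
    (default : ↥(Spec (CommRingCat.of p.K))) (by rw [← h, Points.ofPt_toHom])
  obtain ⟨l, hl, hlw⟩ := Scheme.exists_fac_of_etale_of_isSepClosed (hrep.snd p.toHom).left
    (Ω := p.K) (𝟙 (Spec (CommRingCat.of p.K))) w
    (Subsingleton.elim (α := ↥(Spec (CommRingCat.of p.K))) _ _)
  have hw : l ≫ (hrep.pullback p.toHom).hom = p.str := by
    have h1 : (hrep.snd p.toHom).left ≫ p.str = (hrep.pullback p.toHom).hom :=
      Over.w (hrep.snd p.toHom)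
    rw [← h1, ← Category.assoc, hl]
    exact Category.id_comp _
  let s : p.pt ⟶ hrep.pullback p.toHom := Over.homMk l hw
  have hs : s ≫ hrep.snd p.toHom = 𝟙 _ := Over.OverMorphism.ext hl
  refine ⟨⟨s ≫ hrep.fst' p.toHom, ?_⟩, ?_⟩
  · show (yon S).map (s ≫ hrep.fst' p.toHom) ≫ E.obj.hom = p.toHom
    rw [Functor.map_comp, Category.assoc, hrep.map_fst', hrep.w, ← Category.assoc,
      ← Functor.map_comp, hs, CategoryTheory.Functor.map_id, Category.id_comp]
  · show (hrep.fst' p.toHom).left (l (default : ↥(Spec (CommRingCat.of p.K)))) = y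
    rw [hlw, hw1]

variable (hX : IsAlgSpace X) (p : FieldPt X) (hp : p.IsGeometric)

include hX hp in
/-- The local ring of an etale neighbourhood at the image of the geometric point and the etale
local ring are, up to isomorphism, a local ring and a strict henselization of it. -/
theorem exists_model (E : EtOver X) (x : (FieldPt.liftsTo p).obj E) :
    ∃ (R G' : Type u) (_ : CommRing R) (_ : IsLocalRing R) (_ : CommRing G') (_ : IsLocalRing G')
      (_ : Algebra R G') (_ : IsLocalHom (algebraMap R G')),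
      Hensel.IsStrictHenselization R G' ∧
      Nonempty (↥(E.obj.left.left.presheaf.stalk
        (x.1.left (default : ↥(Spec (CommRingCat.of p.K))))) ≃+* R) ∧
      Nonempty (G' ≃+* ↥(OEtStalk p)) := by
  haveI : IsAlgClosed p.K := hp
  obtain ⟨c, ⟨e⟩⟩ := exists_affChart E x
  exact ⟨Loc c.A₀ p.K, G c.A₀ p.K, inferInstance, inferInstance, inferInstance, inferInstance,
    inferInstance, inferInstance, isStrictHenselization_G c.A₀ p.K, ⟨e⟩,
    ⟨ringEquiv hX hp c⟩⟩

section Transfer

variable (Q₀ : ∀ (R : Type u) [CommRing R], Prop) (Q₁ : ∀ (R : Type (u + 1)) [CommRing R], Prop)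
  (h₀ : ∀ (R R' : Type u) [CommRing R] [CommRing R'], (R ≃+* R') → Q₀ R → Q₀ R')
  (h₁ : ∀ (R : Type u) (R' : Type (u + 1)) [CommRing R] [CommRing R'], (R ≃+* R') →
    (Q₀ R ↔ Q₁ R'))
  (hsh : ∀ (R G' : Type u) [CommRing R] [IsLocalRing R] [CommRing G'] [IsLocalRing G']
    [Algebra R G'] [IsLocalHom (algebraMap R G')] [Hensel.IsStrictHenselization R G'],
    Q₀ R ↔ Q₀ G')

include hX hp h₀ h₁ hsh in
/-- Transfer of a ring property between the local ring of an etale neighbourhood and the etale
local ring. -/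
theorem stalk_iff (E : EtOver X) (x : (FieldPt.liftsTo p).obj E) :
    Q₀ ↥(E.obj.left.left.presheaf.stalk (x.1.left (default : ↥(Spec (CommRingCat.of p.K))))) ↔
      Q₁ ↥(OEtStalk p) := by
  obtain ⟨R, G', _, _, _, _, _, _, hSH, ⟨e₁⟩, ⟨e₂⟩⟩ := exists_model hX p hp E x
  have hst : Q₀ ↥(E.obj.left.left.presheaf.stalk
      (x.1.left (default : ↥(Spec (CommRingCat.of p.K))))) ↔ Q₀ R :=
    ⟨h₀ _ _ e₁, h₀ _ _ e₁.symm⟩
  exact hst.trans ((hsh R G').trans (h₁ G' _ e₂))

include hX hp h₀ h₁ hsh in
/-- Transfer of a ring property between the local ring at the point (some etale chart) and the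
etale local ring. -/
theorem hasAt_iff :
    HasAt (fun U u => Q₀ ↥(U.presheaf.stalk u)) X (Points.mk p) ↔ Q₁ ↥(OEtStalk p) := by
  constructor
  · rintro ⟨U, a, u, hae, hu, hQ⟩
    obtain ⟨x, hx⟩ := exists_lift_through p hp (EtOver.mk a hae) u hu.symm
    have := (stalk_iff hX p hp Q₀ Q₁ h₀ h₁ hsh (EtOver.mk a hae) x).1
    rw [hx] at this
    exact this hQ
  · intro hQ
    obtain ⟨N⟩ := Groth.Agent.Helper2.EtNbhd.nonempty p hX hp
    refine ⟨N.1.obj.left, N.1.obj.hom, N.2.1.left (default : ↥(Spec (CommRingCat.of p.K))),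
      N.1.property, ofPt_lift p N.2 _, ?_⟩
    exact (stalk_iff hX p hp Q₀ Q₁ h₀ h₁ hsh N.1 N.2).2 hQ

end Transfer

end Groth.Agent.Helper2.OEtStalkProps
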