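import Mathlib
import Groth.Agent.Lib.Helper2.AlgSp.OEtStalkProps
import Groth.Agent.Lib.Helper2.Ring.SHensBaseTransfer

/-!
# The etale local ring is a strict henselization of the local ring of an etale neighbourhood
(helper2)
-/

set_option autoImplicit false

open CategoryTheory CategoryTheory.Limits AlgebraicGeometry Opposite AlgSp

namespace Groth.Agent.Helper2.OEtStalkProps
open Groth.Agent.Helper2.SHensBaseTransfer

universe u
variable {S : Scheme.{u}} {X : Sp S}

/-- The etale local ring at a geometric point is (isomorphic to) a strict henselization of the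
local ring of any etale neighbourhood at the image of the point. -/
theorem exists_strictHenselization_stalk (hX : IsAlgSpace X) (p : FieldPt X) (hp : p.IsGeometric)
    (E : EtOver X) (x : (FieldPt.liftsTo p).obj E) :
    ∃ (G' : Type u) (_ : CommRing G') (_ : IsLocalRing G')
      (_ : Algebra ↥(E.obj.left.left.presheaf.stalk
        (x.1.left (default : ↥(Spec (CommRingCat.of p.K))))) G')
      (_ : IsLocalHom (algebraMap ↥(E.obj.left.left.presheaf.stalk
        (x.1.left (default : ↥(Spec (CommRingCat.of p.K))))) G')),
      Hensel.IsStrictHenselization ↥(E.obj.left.left.presheaf.stalk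
        (x.1.left (default : ↥(Spec (CommRingCat.of p.K))))) G' ∧
      Nonempty (G' ≃+* ↥(OEtStalk p)) := by
  obtain ⟨R, G', _, _, _, _, _, _, hSH, ⟨e₁⟩, ⟨e₂⟩⟩ := exists_model hX p hp E x
  exact ⟨G', inferInstance, inferInstance, algOfEquiv e₁, isLocalHom_of_equiv e₁,
    isStrictHenselization_of_equiv e₁, ⟨e₂⟩⟩

/-- Chart version: for an etale chart and a point of it over the class of the geometric point. -/
theorem exists_strictHenselization_chart (hX : IsAlgSpace X) (p : FieldPt X) (hp : p.IsGeometric)
    {U : Over S} (a : (yon S).obj U ⟶ X) (hae : RepWith @Etale a) (u : ↥U.left)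
    (hu : Points.ofPt a u = Points.mk p) :
    ∃ (G' : Type u) (_ : CommRing G') (_ : IsLocalRing G')
      (_ : Algebra ↥(U.left.presheaf.stalk u) G')
      (_ : IsLocalHom (algebraMap ↥(U.left.presheaf.stalk u) G')),
      Hensel.IsStrictHenselization ↥(U.left.presheaf.stalk u) G' ∧
      Nonempty (G' ≃+* ↥(OEtStalk p)) := by
  obtain ⟨x, hx⟩ := exists_lift_through p hp (EtOver.mk a hae) u hu.symm
  have := exists_strictHenselization_stalk hX p hp (EtOver.mk a hae) x
  rw [hx] at this
  exact this

end Groth.Agent.Helper2.OEtStalkProps
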