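import Mathlib
import Groth.Agent.Lib.Helper2.AlgSp.OEtStalkModel
import Groth.Agent.Lib.Helper2.AlgSp.Diag
import Groth.Agent.Lib.Lead.GUnib21
import Groth.Agent.S9753
import Groth.Agent.S9238

/-!
# Geometric branches of an algebraic space at a point (helper2)
-/

set_option autoImplicit false

open CategoryTheory CategoryTheory.Limits AlgebraicGeometry Opposite AlgSp

namespace Groth.Agent.Helper2.OEtStalkBranches
open Groth.Agent.Helper2.EtNbhd Groth.Agent.Helper2.OEtStalkG Groth.Agent.Helper2.EtStalk
  Groth.Agent.Helper2.OEtStalkProps Groth.Agent.Helper2.AlgSpBasic Groth.Agent.Lead.GUnib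

universe u
variable {S : Scheme.{u}} {X : Sp S}

/-- The number of geometric branches is the supremum of the numbers of minimal primes of the local
rings of etale neighbourhoods. -/
theorem numGeomBranchesAt_eq_iSup (U : Scheme.{u}) (u : U) :
    Brnch.numGeomBranchesAt U u = ⨆ (U' : Scheme.{u}) (g : U' ⟶ U) (u' : U')
      (_ : Etale g ∧ g u' = u), (minimalPrimes ↥(U'.presheaf.stalk u')).encard := by
  rw [Groth.Agent.S9753.result U u]
  congr 1
  funext U'
  congr 1
  funext g
  congr 1
  funext u'
  congr 1
  funext _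
  exact encard_components_eq U' u'

theorem encard_minimalPrimes_le_numGeomBranchesAt {U U' : Scheme.{u}} (g : U' ⟶ U) [Etale g]
    (u' : U') : (minimalPrimes ↥(U'.presheaf.stalk u')).encard ≤
      Brnch.numGeomBranchesAt U (g u') := by
  rw [numGeomBranchesAt_eq_iSup]
  exact le_iSup₂_of_le U' g (le_iSup₂_of_le u' ⟨inferInstance, rfl⟩ le_rfl)

/-- Comparison between two charts through the same point. -/
theorem encard_minimalPrimes_le_of_charts (hX : IsAlgSpace X) {U U₀ : Over S}
    (a : (yon S).obj U ⟶ X) (a₀ : (yon S).obj U₀ ⟶ X) (hae : RepWith @Etale a)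
    (hae₀ : RepWith @Etale a₀) (u : ↥U.left) (u₀ : ↥U₀.left)
    (h : Points.ofPt a u = Points.ofPt a₀ u₀) :
    (minimalPrimes ↥(U₀.left.presheaf.stalk u₀)).encard ≤ Brnch.numGeomBranchesAt U.left u := by
  obtain ⟨W, t₁, t₂, sq⟩ := exists_isPullback_yon hX.diag a a₀
  obtain ⟨w, hw1, hw2⟩ := exists_point_of_isPullback_yon a a₀ t₁ t₂ sq u u₀ h
  haveI : Etale t₁.left :=
    (repWith_yon_map_iff @Etale t₁).1 (repWith_of_isPullback @Etale sq.flip hae₀)
  haveI : Etale t₂.left :=
    (repWith_yon_map_iff @Etale t₂).1 (repWith_of_isPullback @Etale sq hae)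
  have h1 := encard_components_le_of_flat t₂.left w
  rw [encard_components_eq, encard_components_eq, hw2] at h1
  have h2 := encard_minimalPrimes_le_numGeomBranchesAt t₁.left w
  rw [hw1] at h2
  exact h1.trans h2

/-- The number of minimal primes of the etale local ring is the number of geometric branches of
any etale chart at a point over the geometric point. -/
theorem encard_minimalPrimes_OEtStalk (hX : IsAlgSpace X) (p : FieldPt X) (hp : p.IsGeometric)
    {U : Over S} (a : (yon S).obj U ⟶ X) (hae : RepWith @Etale a) (u : ↥U.left)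
    (hu : Points.ofPt a u = Points.mk p) :
    (minimalPrimes ↥(OEtStalk p)).encard = Brnch.numGeomBranchesAt U.left u := by
  obtain ⟨G', _, _, _, _, hSH, ⟨e⟩⟩ := exists_strictHenselization_chart hX p hp a hae u hu
  rw [← encard_minimalPrimes_of_ringEquiv e]
  exact Groth.Agent.S9238.result ↥(U.left.presheaf.stalk u) G'

end Groth.Agent.Helper2.OEtStalkBranches
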