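import Mathlib
import Groth.Agent.Lib.Helper2.AlgSp.OEtStalkModel
import Groth.Agent.Lib.Helper8.HensUB2

/-!
# Minimal primes of the etale local ring (helper2)
-/

set_option autoImplicit false

open CategoryTheory CategoryTheory.Limits AlgebraicGeometry Opposite AlgSp

namespace Groth.Agent.Helper2.OEtStalkMinPrime
open Groth.Agent.Helper2.EtNbhd Groth.Agent.Helper2.OEtStalkG Groth.Agent.Helper2.EtStalk
  Groth.Agent.Helper2.OEtStalkProps

universe u
variable {S : Scheme.{u}} {X : Sp S}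

/-- A function vanishing on an open set pulls back to zero along a morphism landing in it. -/
theorem appTop_eq_zero_of_range_subset {Y W : Scheme.{u}} (f : Y ⟶ W) (W' : W.Opens)
    (hf : Set.range f ⊆ (W' : Set ↥W)) (s : Γ(W, ⊤))
    (hs : (W.presheaf.map (homOfLE (le_top : W' ≤ ⊤)).op).hom s = 0) : f.appTop.hom s = 0 := by
  have hsub : Set.range f ⊆ Set.range W'.ι := by
    rw [Scheme.Opens.range_ι]
    exact hf
  obtain ⟨l, hl⟩ : ∃ l, l ≫ W'.ι = f := ⟨_, IsOpenImmersion.lift_fac W'.ι f hsub⟩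
  rw [← hl, Scheme.Hom.comp_appTop]
  show l.appTop.hom (W'.ι.appTop.hom s) = 0
  have h0 : W'.ι.appTop.hom s = 0 := by
    rw [Scheme.Opens.ι_appTop]
    have hle : W'.ι ''ᵁ ⊤ ≤ W' := by
      rw [Scheme.Opens.ι_image_top]
    have h1 : (homOfLE (le_top : W'.ι ''ᵁ ⊤ ≤ ⊤)) = homOfLE hle ≫ homOfLE (le_top : W' ≤ ⊤) := rfl
    rw [h1, op_comp, Functor.map_comp]
    show (W.presheaf.map (homOfLE hle).op).hom ((W.presheaf.map (homOfLE le_top).op).hom s) = 0
    rw [hs, map_zero]
  rw [h0, map_zero]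

variable (hX : IsAlgSpace X) {p : FieldPt X} (hp : p.IsGeometric)

include hX hp in
/-- A function on an etale neighbourhood whose germ in the local ring at the image point is
nilpotent has nilpotent germ in the etale local ring. -/
theorem isNilpotent_germ (E : EtOver X) (x : (FieldPt.liftsTo p).obj E)
    (s : Γ(E.obj.left.left, ⊤))
    (hs : IsNilpotent ((E.obj.left.left.presheaf.germ ⊤
      (x.1.left (default : ↥(Spec (CommRingCat.of p.K)))) trivial).hom s)) :
    IsNilpotent (germ hX hp E x s) := by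
  obtain ⟨m, hm⟩ := hs
  rw [← map_pow] at hm
  have h0 : (E.obj.left.left.presheaf.germ ⊤
      (x.1.left (default : ↥(Spec (CommRingCat.of p.K)))) trivial).hom 0 = 0 := map_zero _
  rw [← h0] at hm
  obtain ⟨W', hzW', iU, iV, hres⟩ := TopCat.Presheaf.germ_eq E.obj.left.left.presheaf
    (U := ⊤) (V := ⊤) (x.1.left (default : ↥(Spec (CommRingCat.of p.K)))) trivial trivial
    (s ^ m) 0 hm
  obtain ⟨E', j, hj⟩ := exists_open_sub E W'
  obtain ⟨y, hy⟩ := exists_lift_of_mem_range p hp j x (by rw [hj]; exact hzW')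
  refine ⟨m, ?_⟩
  rw [← map_pow, germ_map hX hp j y x hy (s ^ m)]
  have hz : j.hom.left.left.appTop.hom (s ^ m) = 0 := by
    apply appTop_eq_zero_of_range_subset j.hom.left.left W' (by rw [hj])
    have h1 : (E.obj.left.left.presheaf.map iU.op).hom (s ^ m) =
        (E.obj.left.left.presheaf.map iV.op).hom 0 := hres
    rw [map_zero] at h1
    exact h1
  rw [hz, map_zero]

include hX hp in
theorem germ_surjective₂ (a b : ↥(OEtStalk p)) :
    ∃ (E : EtOver X) (x : (FieldPt.liftsTo p).obj E) (s t : Γ(E.obj.left.left, ⊤)),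
      germ hX hp E x s = a ∧ germ hX hp E x t = b := by
  obtain ⟨E₁, x₁, s₁, rfl⟩ := germ_surjective hX hp a
  obtain ⟨E₂, x₂, s₂, rfl⟩ := germ_surjective hX hp b
  obtain ⟨N, f₁, f₂, -⟩ := cone_objs p (⟨E₁, x₁⟩ : EtNbhd p) (⟨E₂, x₂⟩ : EtNbhd p)
  exact ⟨N.1, N.2, f₁.1.hom.left.left.appTop.hom s₁, f₂.1.hom.left.left.appTop.hom s₂,
    (germ_map hX hp f₁.1 N.2 x₁ f₁.2 s₁).symm, (germ_map hX hp f₂.1 N.2 x₂ f₂.2 s₂).symm⟩

include hX hp in
/-- If the local rings of all etale neighbourhoods at the image point have a prime nilradical,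
so does the etale local ring. -/
theorem isPrime_nilradical
    (H : ∀ (E : EtOver X) (x : (FieldPt.liftsTo p).obj E),
      (nilradical ↥(E.obj.left.left.presheaf.stalk
        (x.1.left (default : ↥(Spec (CommRingCat.of p.K)))))).IsPrime) :
    (nilradical ↥(OEtStalk p)).IsPrime := by
  haveI : IsAlgClosed p.K := hp
  haveI : Nontrivial ↥(OEtStalk p) := by
    obtain ⟨N⟩ := Groth.Agent.Helper2.EtNbhd.nonempty p hX hp
    obtain ⟨c, -⟩ := exists_affChart N.1 N.2
    exact (ringEquiv hX hp c).symm.toRingHom.domain_nontrivial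
  rw [Ideal.isPrime_iff]
  refine ⟨?_, ?_⟩
  · intro h
    have h1 : (1 : ↥(OEtStalk p)) ∈ nilradical ↥(OEtStalk p) := by rw [h]; trivial
    rw [mem_nilradical] at h1
    obtain ⟨k, hk⟩ := h1
    rw [one_pow] at hk
    exact one_ne_zero hk
  · intro a b hab
    rw [mem_nilradical] at hab
    obtain ⟨E, x, s, t, rfl, rfl⟩ := germ_surjective₂ hX hp a b
    obtain ⟨n, hn⟩ := hab
    rw [← map_mul, ← map_pow] at hn
    obtain ⟨Y, f, y, hy, hst⟩ := (germ_eq_zero_iff hX hp E x ((s * t) ^ n)).1 hn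
    rw [map_pow, map_mul] at hst
    have hst' : IsNilpotent ((Y.obj.left.left.presheaf.germ ⊤
        (y.1.left (default : ↥(Spec (CommRingCat.of p.K)))) trivial).hom
        (f.hom.left.left.appTop.hom s) *
        (Y.obj.left.left.presheaf.germ ⊤
        (y.1.left (default : ↥(Spec (CommRingCat.of p.K)))) trivial).hom
        (f.hom.left.left.appTop.hom t)) := by
      refine ⟨n, ?_⟩
      rw [← map_mul, ← map_pow, hst, map_zero]
    rw [← mem_nilradical] at hst'
    rw [mem_nilradical, mem_nilradical, germ_map hX hp f y x hy s, germ_map hX hp f y x hy t]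
    rcases (H Y y).mem_or_mem hst' with h | h
    · exact Or.inl (isNilpotent_germ hX hp Y y _ (mem_nilradical.1 h))
    · exact Or.inr (isNilpotent_germ hX hp Y y _ (mem_nilradical.1 h))

end Groth.Agent.Helper2.OEtStalkMinPrime
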