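import Mathlib
import Groth.Prelude.Def_AlgSp4
import Groth.Prelude.Def_AlgSpDec
import Groth.Agent.Lib.Helper2.AlgSp.FibreSpec

/-!
# Decent algebraic spaces with one point (helper2)
-/

set_option autoImplicit false
set_option backward.isDefEq.respectTransparency false

open CategoryTheory CategoryTheory.Limits AlgebraicGeometry Opposite AlgSp

namespace Groth.Agent.Helper2.OnePoint
universe u
variable {S : Scheme.{u}}

/-- Etale charts of a decent one-point space are discrete. -/
theorem discreteTopology_of_subsingleton_points {X : Sp S} (hX : IsAlgSpace X) (hd : IsDecent X)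
    [Subsingleton (Points X)] {U : Over S} (a : (yon S).obj U ⟶ X) (ha : RepWith @Etale a) :
    DiscreteTopology ↥U.left := by
  rw [discreteTopology_iff_isOpen_singleton]
  intro u
  obtain ⟨_, ⟨V, hV, rfl⟩, huV, -⟩ := U.left.isBasis_affineOpens.exists_subset_of_mem_open
    (Set.mem_univ u) isOpen_univ
  let x := Points.ofPt a u
  have hfin : ∀ (V' : Over S) (b : (yon S).obj V' ⟶ X), IsAffine V'.left →
      RepWith @Etale b → (Points.ofPt b ⁻¹' {x}).Finite := by
    intro V' b hV' hb
    haveI := hV'
    obtain ⟨p, hp, hm, hq⟩ := hd x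
    rw [← hp]
    exact (FieldFibre.finite_fibre_of_quasiCompact hX p hm hq b hb).1
  have hVfin : Finite ↥V := by
    have h1 := hfin (FieldFibre.opensOver U V) _ hV (FieldFibre.repWith_etale_opensι_comp a ha V)
    exact Set.finite_univ_iff.mp (h1.subset (fun v _ => Subsingleton.elim _ _))
  haveI : T1Space ↥V := by
    rw [t1Space_iff_specializes_imp_eq]
    intro v v' h
    have h' : (v : ↥U.left) ⤳ v' := (subtype_specializes_iff _ _).1 h
    exact Subtype.ext (FibreSpec.eq_of_specializes hX x hfin a ha v'.1 v.1
      (Subsingleton.elim _ _) (Subsingleton.elim _ _) h').symm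
  haveI : DiscreteTopology ↥V := inferInstance
  have h2 : IsOpen ({⟨u, huV⟩} : Set ↥V) := isOpen_discrete _
  have h3 := V.isOpen.isOpenMap_subtype_val _ h2
  simpa using h3

end Groth.Agent.Helper2.OnePoint
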