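import Mathlib
import Groth.Prelude.Def_AlgSp4
import Groth.Prelude.Def_AlgSpDec
import Groth.Agent.Lib.Helper2.AlgSp.FieldPt
import Groth.Agent.Lib.Helper2.AlgSp.CodimZeroFlat
import Groth.Agent.Lib.Helper2.AlgSp.Diag
import Groth.Agent.Lib.Helper2.Sch.LqfField

/-!
# A reduced locally Noetherian algebraic space with one point is regular
-/

set_option autoImplicit false
set_option backward.isDefEq.respectTransparency false

open CategoryTheory CategoryTheory.Limits AlgebraicGeometry Opposite AlgSp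

namespace Groth.Agent.Helper2.OnePointRegular
universe u
variable {S : Scheme.{u}}

theorem isRegularLocalRing_of_isField {R : Type*} [CommRing R] (h : IsField R) :
    IsRegularLocalRing R := by
  haveI : IsDomain R := h.isDomain
  haveI : IsPrincipalIdealRing R := h.isPrincipalIdealRing
  haveI : IsLocalRing R := by
    letI := h.toField
    infer_instance
  infer_instance

/-- S10372. -/
theorem main {Z : Sp S} (hZ : IsAlgSpace Z) (hr : EtaleLocally (fun U => IsReduced U) Z)
    (hN : IsLocNoethSp Z) [Nonempty (Points Z)] [Subsingleton (Points Z)] :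
    EtaleLocally (fun U => IsLocallyNoetherian U ∧
      ∀ u : ↥U, IsRegularLocalRing ↥(U.presheaf.stalk u)) Z := by
  obtain ⟨U, a, hae, has, hU⟩ := hN
  haveI := hU
  haveI : IsReduced U.left := AlgSpBasic.isReduced_of_etale_of_isReducedSp hr a hae
  obtain ⟨k, _, str, p, hpf, hps⟩ := AlgSpBasic.exists_flat_fieldPt_of_reduced_singleton hZ hr
  refine ⟨U, a, hae, has, hU, fun u => ?_⟩
  obtain ⟨T, τ₁, τ₂, sqT⟩ := AlgSpBasic.exists_isPullback_yon hZ.diag a p
  have hτ₂ : Etale τ₂.left := hae.property p ((yon S).map τ₁) τ₂ sqT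
  have hτ₁ : Flat τ₁.left :=
    hpf ((yon S).map τ₂) a τ₁ ((repWith_yon_map_iff @Etale τ₂).2 hτ₂) hae sqT.w.symm
  have e : Points.ofPt a u = Points.ofPt p (IsLocalRing.closedPoint k) := Subsingleton.elim _ _
  obtain ⟨t, ht1, ht2⟩ := AlgSpBasic.exists_point_of_isPullback_yon a p τ₁ τ₂ sqT u _ e
  haveI := hτ₂
  haveI := hτ₁
  have h0 : ringKrullDim ↥((Spec (CommRingCat.of k)).presheaf.stalk (τ₂.left t)) = 0 :=
    le_antisymm (LqfField.ringKrullDim_stalk_field_le _) ringKrullDim_nonneg_of_nontrivial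
  have h1 : ringKrullDim ↥(T.left.presheaf.stalk t) = 0 :=
    CodimZeroFlat.dim_zero_of_etale τ₂.left t h0
  have h2 : ringKrullDim ↥(U.left.presheaf.stalk (τ₁.left t)) = 0 :=
    CodimZeroFlat.dim_zero_of_flat τ₁.left t h1
  rw [ht1] at h2
  haveI : Ring.KrullDimLE 0 ↥(U.left.presheaf.stalk u) :=
    ringKrullDimZero_iff_ringKrullDim_eq_zero.mpr h2
  exact isRegularLocalRing_of_isField Ring.KrullDimLE.isField_of_isReduced

end Groth.Agent.Helper2.OnePointRegular
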