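import Groth.Prelude.Def_AlgSpSub
import Groth.Agent.Lib.Helper2.AlgSp.ProperOver

/-!
# Finite unions of closed subspaces proper over a base (helper2)
-/

set_option autoImplicit false
set_option backward.isDefEq.respectTransparency false
set_option linter.style.haveILetI false
universe u
open CategoryTheory CategoryTheory.Limits AlgebraicGeometry Opposite AlgSp

namespace Groth.Agent.Helper2.ProperOver
open Groth.Agent.Helper2.AlgSpBasic Groth.Agent.Helper2.SchImageFlat
  Groth.Agent.Helper2.AlgStLib Groth.Agent.Helper2.EtaleLocal Groth.Agent.Helper2.ChartIdeal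
  Groth.Agent.Helper2.CutOut Groth.Agent.Helper2.SchImage

variable {S : Scheme.{u}}

/-- A family of morphisms with common target is jointly surjective on points. -/
def JointlySurj {ι : Type*} {W : Sp S} {Z : ι → Sp S} (j : ∀ k, Z k ⟶ W) : Prop :=
  ∀ w : Points W, ∃ (k : ι) (z : Points (Z k)), Points.map (j k) z = w

theorem jointlySurj_pullback {ι : Type*} {W W' : Sp S} {Z : ι → Sp S} (j : ∀ k, Z k ⟶ W)
    (g : W' ⟶ W) (hj : JointlySurj j) :
    JointlySurj (fun k => pullback.snd (j k) g) := by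
  intro w'
  obtain ⟨k, z, hz⟩ := hj (Points.map g w')
  obtain ⟨p, hp1, -⟩ := points_exists_of_isPullback (j k) g (pullback.snd (j k) g)
    (pullback.fst (j k) g) (IsPullback.of_hasPullback (j k) g).flip w' z hz.symm
  exact ⟨k, p, hp1⟩

theorem isUnivClosedMor_of_jointlySurj {ι : Type*} [Finite ι] {W B : Sp S} {Z : ι → Sp S}
    (j : ∀ k, Z k ⟶ W) (q : W ⟶ B) (hp : ∀ k, IsUnivClosedMor (j k ≫ q))
    (hj : JointlySurj j) : IsUnivClosedMor q := by
  intro T T' hT g fst snd sq
  have hsurj := jointlySurj_pullback j fst hj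
  have hcl : ∀ k, IsClosedMap (Points.map (pullback.snd (j k) fst ≫ snd)) := fun k =>
    hp k hT g _ _ ((IsPullback.of_hasPullback (j k) fst).paste_vert sq)
  intro C hC
  have himg : Points.map snd '' C = ⋃ k, Points.map (pullback.snd (j k) fst ≫ snd) ''
      (Points.map (pullback.snd (j k) fst) ⁻¹' C) := by
    ext z
    simp only [Set.mem_image, Set.mem_iUnion, Set.mem_preimage]
    constructor
    · rintro ⟨c, hc, rfl⟩
      obtain ⟨k, w, rfl⟩ := hsurj c
      exact ⟨k, w, hc, Points.map_comp _ _ _⟩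
    · rintro ⟨k, w, hw, rfl⟩
      exact ⟨Points.map (pullback.snd (j k) fst) w, hw, (Points.map_comp _ _ _).symm⟩
  rw [himg]
  exact isClosed_iUnion_of_finite fun k =>
    hcl k _ (hC.preimage (Points.continuous_map _))

theorem isQuasiCompactMor_of_jointlySurj {ι : Type*} [Finite ι] {W B : Sp S} {Z : ι → Sp S}
    (hZ : ∀ k, IsAlgSpace (Z k)) (hW : IsAlgSpace W) (hB : Representable (Limits.diag B))
    (j : ∀ k, Z k ⟶ W) (q : W ⟶ B) (hp : ∀ k, IsQuasiCompactMor (j k ≫ q))
    (hj : JointlySurj j) : IsQuasiCompactMor q := by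
  intro T W' hT hTq g fst snd sq
  have hW' : IsAlgSpace W' := isAlgSpace_of_isPullback hB hW hT q g fst snd sq
  have hsurj := jointlySurj_pullback j fst hj
  have hX' : ∀ k, IsAlgSpace (pullback (j k) fst) := fun k =>
    isAlgSpace_of_isPullback hW.diag (hZ k) hW' (j k) fst _ _ (IsPullback.of_hasPullback _ _)
  have hq : ∀ k, CompactSpace (Points (pullback (j k) fst)) := fun k =>
    (isQuasiCompactSp_iff_compactSpace_points (hX' k)).mp
      (hp k hT hTq g _ _ ((IsPullback.of_hasPullback (j k) fst).paste_vert sq))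
  rw [isQuasiCompactSp_iff_compactSpace_points hW']
  refine ⟨?_⟩
  have huniv : (Set.univ : Set (Points W')) =
      ⋃ k, Set.range (Points.map (pullback.snd (j k) fst)) := by
    ext w
    simp only [Set.mem_univ, Set.mem_iUnion, Set.mem_range, true_iff]
    obtain ⟨k, p, hp1⟩ := hsurj w
    exact ⟨k, p, hp1⟩
  rw [huniv]
  exact isCompact_iUnion fun k => by
    haveI := hq k
    exact isCompact_range (Points.continuous_map _)

/-- A morphism with universally closed diagonal is separated. -/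
theorem isSeparatedMor_of_isUnivClosedMor_diagonal {Y B : Sp S} (hY : IsAlgSpace Y) (q : Y ⟶ B)
    (h4 : IsUnivClosedMor (pullback.diagonal q)) : IsSeparatedMor q := by
  obtain ⟨hrepq, hlftq, hmonoq, -, -⟩ := repWith_diagonal_properties hY q
  have h5 : RepWith @UniversallyClosed (pullback.diagonal q) :=
    (repWith_universallyClosed_iff _ hrepq).2 h4
  refine ⟨hrepq, fun T W g fst snd sq => ?_⟩
  haveI : LocallyOfFiniteType snd.left := hlftq.property g fst snd sq
  haveI : Mono snd.left := hmonoq.property g fst snd sq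
  haveI : UniversallyClosed snd.left := h5.property g fst snd sq
  exact isClosedImmersion_of_mono_of_universallyClosed snd.left

theorem isSeparatedMor_of_jointlySurj {ι : Type*} [Finite ι] {W B : Sp S} {Z : ι → Sp S}
    (hZ : ∀ k, IsAlgSpace (Z k)) (hW : IsAlgSpace W) (hB : IsAlgSpace B)
    (j : ∀ k, Z k ⟶ W) (q : W ⟶ B) (hjc : ∀ k, IsUnivClosedMor (j k))
    (hp : ∀ k, IsSeparatedMor (j k ≫ q)) (hj : JointlySurj j) : IsSeparatedMor q := by
  have hWW : IsAlgSpace (pullback q q) :=
    isAlgSpace_of_isPullback hB.diag hW hW q q _ _ (IsPullback.of_hasPullback q q)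
  apply isSeparatedMor_of_isUnivClosedMor_diagonal hW
  refine isUnivClosedMor_of_jointlySurj j _ (fun k => ?_) hj
  have hXX : IsAlgSpace (pullback (j k ≫ q) (j k ≫ q)) :=
    isAlgSpace_of_isPullback hB.diag (hZ k) (hZ k) _ _ _ _ (IsPullback.of_hasPullback _ _)
  have hYX : IsAlgSpace (pullback q (j k ≫ q)) :=
    isAlgSpace_of_isPullback hB.diag hW (hZ k) _ _ _ _ (IsPullback.of_hasPullback _ _)
  have sq₁ := isPullback_prodMap₁ (j k) (j k ≫ q) q rfl
  have sq₂ := isPullback_prodMap₂ (j k) (j k ≫ q) q rfl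
  have hc₁ : IsUnivClosedMor (prodMap₁ (j k) (j k ≫ q) q rfl) :=
    univSp_of_isPullback' _ sq₁.flip (hjc k)
  have hc₂ : IsUnivClosedMor (prodMap₂ (j k) (j k ≫ q) q rfl) :=
    univSp_of_isPullback' _ sq₂.flip (hjc k)
  have hcφ := isUnivClosedMor_comp hYX hWW _ _ hc₁ hc₂
  have h1 : IsUnivClosedMor (pullback.diagonal (j k ≫ q)) :=
    isUnivClosedMor_of_repWith_isClosedImmersion _ (hp k)
  have h3 := isUnivClosedMor_comp hXX hWW _ _ h1 hcφ
  rwa [diagonal_prodMap (j k) (j k ≫ q) q rfl] at h3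

/-- Properness descends along a finite jointly surjective family of universally closed
morphisms. -/
theorem isProperMor_of_jointlySurj {ι : Type*} [Finite ι] {W B : Sp S} {Z : ι → Sp S}
    (hZ : ∀ k, IsAlgSpace (Z k)) (hW : IsAlgSpace W) (hB : IsAlgSpace B)
    (j : ∀ k, Z k ⟶ W) (q : W ⟶ B) (hjc : ∀ k, IsUnivClosedMor (j k))
    (hq : LocP @LocallyOfFiniteType q)
    (hp : ∀ k, IsProperMor (j k ≫ q)) (hj : JointlySurj j) : IsProperMor q :=
  ⟨isSeparatedMor_of_jointlySurj hZ hW hB j q hjc (fun k => (hp k).1) hj,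
    ⟨hq, isQuasiCompactMor_of_jointlySurj hZ hW hB.diag j q (fun k => (hp k).2.1.2) hj⟩,
    isUnivClosedMor_of_jointlySurj j q (fun k => (hp k).2.2) hj⟩

/-! ### Finite unions of closed subspaces -/

/-- The product of a finite family of ideal sheaves. -/
noncomputable def prodIdeal {X : Sp S} {n : ℕ} (I : Fin n → IdealEt X) : IdealEt X where
  ideal E hE := ∏ k, (I k).ideal E hE
  map_le g hE hE' := by
    have h := map_prod (Ideal.mapHom g.hom.left.left.appTop.hom) (fun k => (I k).ideal _ hE)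
      Finset.univ
    rw [Ideal.mapHom_apply] at h
    rw [h]
    exact Finset.prod_le_prod' (fun k _ => (I k).map_le g hE hE')

theorem isQCoh_prodIdeal {X : Sp S} {n : ℕ} (I : Fin n → IdealEt X) (hI : ∀ k, (I k).IsQCoh) :
    (prodIdeal I).IsQCoh := by
  intro E E' g hE hE'
  show ∏ k, (I k).ideal E' hE' ≤ (∏ k, (I k).ideal E hE).map g.hom.left.left.appTop.hom
  have h := map_prod (Ideal.mapHom g.hom.left.left.appTop.hom) (fun k => (I k).ideal _ hE)
    Finset.univ
  rw [Ideal.mapHom_apply] at h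
  rw [h]
  exact Finset.prod_le_prod' (fun k _ => hI k g hE hE')

theorem prodIdeal_le {X : Sp S} {n : ℕ} (I : Fin n → IdealEt X) (k : Fin n) :
    prodIdeal I ≤ I k := fun _ _ =>
  Ideal.prod_le_inf.trans (Finset.inf_le (Finset.mem_univ k))

/-- The kernel ideal of a closed subspace is the unit ideal on objects missing it. -/
theorem ideal_eq_top_of_disjoint' {Z X : Sp S} (i : Z ⟶ X) (hi : Representable i) (E : EtOver X)
    (hE : IsAffine E.obj.left.left)
    (hdisj : ∀ e : E.obj.left.left, Points.ofPt E.obj.hom e ∉ Set.range (Points.map i)) :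
    (idealOfRep hi).ideal E hE = ⊤ := by
  have hempty : IsEmpty ↥(EtOver.bcObj hi E).obj.left.left := by
    refine ⟨fun t => ?_⟩
    have sq₀ := hi.isPullback E.obj.hom
    have h1 : Points.ofPt (hi.fst E.obj.hom ≫ i) t =
        Points.ofPt ((yon S).map (hi.snd E.obj.hom) ≫ E.obj.hom) t := by
      rw [sq₀.w]
    rw [ofPt_yon_map_comp, ← Points.map_ofPt] at h1
    apply hdisj ((hi.snd E.obj.hom).left t)
    rw [← h1]
    exact ⟨_, rfl⟩
  rw [Ideal.eq_top_iff_one, mem_idealOfRep_iff]
  exact Subsingleton.elim _ _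

/-- A finite family of closed subspaces has a union: a closed subspace through which all of
them factor, jointly surjectively. -/
theorem exists_union_closedSubspace {X : Sp S} (hX : IsAlgSpace X) {n : ℕ} (Z : Fin n → Sp S)
    (hZ : ∀ k, IsAlgSpace (Z k)) (i : ∀ k, Z k ⟶ X)
    (hi : ∀ k, RepWith @IsClosedImmersion (i k)) :
    ∃ (W : Sp S) (_ : IsAlgSpace W) (j : W ⟶ X) (l : ∀ k, Z k ⟶ W),
      RepWith @IsClosedImmersion j ∧ (∀ k, l k ≫ j = i k) ∧ JointlySurj l := by
  obtain ⟨W, hW, j, hWj⟩ := main88 hX (prodIdeal fun k => idealOfRep (hi k).1)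
    (isQCoh_prodIdeal _ fun k => isQCoh_idealOfRep (i k) (hi k))
  have hj : RepWith @IsClosedImmersion j := hWj.1
  haveI : Mono j := mono_of_repWith_monomorphisms j
    (repWith_mono (fun _ _ g (hg : IsClosedImmersion g) => (inferInstance : Mono g)) hj)
  have hci : RepWith @IsImmersion j :=
    repWith_mono (fun _ _ g (hg : IsClosedImmersion g) => (inferInstance : IsImmersion g)) hj
  have hinj := (Groth.Agent.Helper2.ImmTop.main hX j hci).1.injective
  -- the factorisations
  have hl : ∀ k, ∃ l : Z k ⟶ W, l ≫ j = i k := by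
    intro k
    obtain ⟨U, a, hae, has⟩ := (hZ k).atlas
    haveI : Epi a := (Sheaf.isLocallySurjective_iff_epi a).mp
      (isLocallySurjective_of_etale_surjective a hae has)
    have hh : Representable (a ≫ i k) :=
      (Functor.relativelyRepresentable.diag_iff).mp hX.diag (a ≫ i k)
    have h1 : idealOfRep (hi k).1 ≤ idealOfRep hh :=
      idealOfRep_le_of_factor (i k) (hi k).1 (a ≫ i k) hh a rfl
    have h2 : (prodIdeal fun k => idealOfRep (hi k).1) ≤ idealOfRep hh := fun E hE =>
      (prodIdeal_le _ k E hE).trans (h1 E hE)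
    obtain ⟨κ, hκ⟩ := (main01 hX j _ hWj (a ≫ i k) hh).mpr h2
    obtain ⟨l, hl, -⟩ := exists_lift_of_epi_mono a j (i k) κ hκ.symm
    exact ⟨l, hl⟩
  choose l hl using hl
  refine ⟨W, hW, j, l, hj, hl, ?_⟩
  intro w
  by_contra hw
  have hw' : ∀ k, Points.map j w ∉ Set.range (Points.map (i k)) := by
    intro k hk
    obtain ⟨z, hz⟩ := hk
    apply hw
    refine ⟨k, z, hinj ?_⟩
    rw [← Points.map_comp, hl k]
    exact hz
  obtain ⟨V, φ, hφe, hφs⟩ := hX.atlas
  obtain ⟨v, hv⟩ := surjective_ofPt φ hφs (Points.map j w)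
  have hcl : ∀ k, IsClosed (Set.range (Points.map (i k))) := fun k =>
    (repWith_isClosedImmersion_iff_isClosed_range hX (i k)
      (repWith_mono (fun _ _ g (hg : IsClosedImmersion g) => (inferInstance : IsImmersion g))
        (hi k))).mp (hi k)
  have hopen : IsOpen (Points.ofPt φ ⁻¹' (⋃ k, Set.range (Points.map (i k)))ᶜ) :=
    ((isClosed_iUnion_of_finite hcl).isOpen_compl).preimage (Points.continuous_ofPt φ)
  have hvO : v ∈ (⟨_, hopen⟩ : V.left.Opens) := by
    show Points.ofPt φ v ∈ (⋃ k, Set.range (Points.map (i k)))ᶜ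
    rw [hv, Set.mem_compl_iff, Set.mem_iUnion]
    rintro ⟨k, hk⟩
    exact hw' k hk
  obtain ⟨E₀, hvE₀, hE₀le⟩ := exists_affineOpens_mem_le v ⟨_, hopen⟩ hvO
  have hKtop : (prodIdeal fun k => idealOfRep (hi k).1).ideal (chartObj φ hφe E₀.1) E₀.2 = ⊤ := by
    show ∏ k, (idealOfRep (hi k).1).ideal (chartObj φ hφe E₀.1) E₀.2 = ⊤
    have : ∀ k, (idealOfRep (hi k).1).ideal (chartObj φ hφe E₀.1) E₀.2 = ⊤ := by
      intro k
      apply ideal_eq_top_of_disjoint'
      intro e he
      rw [ofPt_chartObj] at he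
      have := hE₀le e.2
      apply this
      exact Set.mem_iUnion.mpr ⟨k, he⟩
    simp only [this]
    simp
  obtain ⟨hj', hKeq⟩ := hWj
  rw [← hKeq] at hKtop
  refine false_of_ideal_eq_top j hj'.1 (chartObj φ hφe E₀.1) E₀.2 hKtop w ⟨v, hvE₀⟩ ?_
  rw [ofPt_chartObj]
  exact hv.symm

/-- S10765. -/
theorem main65' {X Y : Sp S} (hX : IsAlgSpace X) (hY : IsAlgSpace Y)
    (f : X ⟶ Y) (hf : LocP @LocallyOfFiniteType f)
    {n : ℕ} (Z : Fin n → Sp S) (hZ : ∀ k, IsAlgSpace (Z k)) (i : ∀ k, Z k ⟶ X)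
    (hi : ∀ k, RepWith @IsClosedImmersion (i k)) (hp : ∀ k, IsProperMor (i k ≫ f)) :
    ∃ (W : Sp S) (_ : IsAlgSpace W) (j : W ⟶ X), RepWith @IsClosedImmersion j ∧
      Set.range (Points.map j) = ⋃ k, Set.range (Points.map (i k)) ∧
      IsProperMor (j ≫ f) := by
  obtain ⟨W, hW, j, l, hj, hl, hs⟩ := exists_union_closedSubspace hX Z hZ i hi
  haveI : Mono j := mono_of_repWith_monomorphisms j
    (repWith_mono (fun _ _ g (hg : IsClosedImmersion g) => (inferInstance : Mono g)) hj)
  refine ⟨W, hW, j, hj, ?_, ?_⟩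
  · ext x
    simp only [Set.mem_range, Set.mem_iUnion]
    constructor
    · rintro ⟨w, rfl⟩
      obtain ⟨k, z, rfl⟩ := hs w
      exact ⟨k, z, by rw [← Points.map_comp, hl k]⟩
    · rintro ⟨k, z, rfl⟩
      exact ⟨Points.map (l k) z, by rw [← Points.map_comp, hl k]⟩
  · have hjp := isProperMor_of_repWith_isClosedImmersion hW hX.diag j hj
    refine isProperMor_of_jointlySurj hZ hW hY l (j ≫ f) (fun k => ?_)
      (locP_comp _ hW hX hY j f hjp.2.1.1 hf) (fun k => ?_) hs
    · refine isUnivClosedMor_of_comp_of_isSeparatedMor (hZ k) hW hX (l k) j ?_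
        (isSeparatedMor_of_mono j)
      rw [hl k]
      exact isUnivClosedMor_of_repWith_isClosedImmersion _ (hi k)
    · rw [← Category.assoc, hl k]
      exact hp k

end Groth.Agent.Helper2.ProperOver
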