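import Mathlib
import Groth.Prelude.Def_AlgSpRep
import Groth.Agent.Lib.Helper2.AlgSp.Boot
import Groth.Agent.Lib.Helper2.AlgSp.Mor

/-!
# Maps of presheaves representable by schemes (helper2)
-/

set_option autoImplicit false
open CategoryTheory CategoryTheory.Limits AlgebraicGeometry Opposite AlgSp
open Groth.Agent.Helper2.AlgSpBasic

namespace Groth.Agent.Helper2.PshRep
universe u
variable {S : Scheme.{u}}

/-- The diagonal of a map `h_V ⟶ h_T` is representable. -/
theorem relRep_diagonal_map {V T : Over S} (f : V ⟶ T) :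
    (pyon S).relativelyRepresentable (pullback.diagonal ((pyon S).map f)) := by
  have h1 : (pyon S).relativelyRepresentable ((pyon S).map (pullback.diagonal f)) :=
    Functor.relativelyRepresentable.map _ _
  have e : (pyon S).map (pullback.diagonal f) ≫ (PreservesPullback.iso (pyon S) f f).hom =
      pullback.diagonal ((pyon S).map f) := by
    apply pullback.hom_ext
    · rw [Category.assoc, PreservesPullback.iso_hom_fst, ← Functor.map_comp,
        pullback.diagonal_fst, pullback.diagonal_fst, CategoryTheory.Functor.map_id]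
    · rw [Category.assoc, PreservesPullback.iso_hom_snd, ← Functor.map_comp,
        pullback.diagonal_snd, pullback.diagonal_snd, CategoryTheory.Functor.map_id]
  rw [← e]
  exact ((pyon S).relativelyRepresentable.cancel_right_of_respectsIso _ _).mpr h1

/-- The relative diagonal of a representable map of presheaves is representable. -/
theorem relRep_diagonal {F G : PSp S} (a : F ⟶ G) (ha : (pyon S).relativelyRepresentable a) :
    (pyon S).relativelyRepresentable (pullback.diagonal a) := by
  intro T t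
  have sq := ha.isPullback (t ≫ pullback.fst a a ≫ a)
  have c1 : (t ≫ pullback.fst a a) ≫ a = 𝟙 _ ≫ t ≫ pullback.fst a a ≫ a := by
    rw [Category.id_comp, Category.assoc]
  have c2 : (t ≫ pullback.snd a a) ≫ a = 𝟙 _ ≫ t ≫ pullback.fst a a ≫ a := by
    rw [Category.id_comp, Category.assoc, ← pullback.condition]
  have key := isPullback_diagonal_snd_of_isPullback a t _ _ sq
    (pullback.fst (pullback.diagonal a) t) (pullback.snd (pullback.diagonal a) t)
    (IsPullback.of_hasPullback _ _) (sq.lift _ _ c1) (sq.lift _ _ c2)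
    (sq.lift_fst _ _ _) (sq.lift_snd _ _ _) (sq.lift_fst _ _ _) (sq.lift_snd _ _ _)
  have he : (pyon S).relativelyRepresentable (pullback.snd (pullback.diagonal a) t) :=
    MorphismProperty.of_isPullback key (relRep_diagonal_map _)
  obtain ⟨b, snd', fst', sq'⟩ := he (𝟙 _)
  refine ⟨b, snd', fst' ≫ pullback.fst _ _, ?_⟩
  have := sq'.paste_horiz (IsPullback.of_hasPullback (pullback.diagonal a) t)
  rwa [Category.id_comp] at this

/-- Evaluate a pullback square of presheaves at an object. -/
theorem isPullback_app {F G H P : PSp S} {fst : P ⟶ F} {snd : P ⟶ H} {a : F ⟶ G} {ξ : H ⟶ G}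
    (sq : IsPullback fst snd a ξ) (W : (Over S)ᵒᵖ) :
    IsPullback (fst.app W) (snd.app W) (a.app W) (ξ.app W) :=
  sq.map ((evaluation _ _).obj W)

theorem isSheaf_of_relRep {F G : PSp S} (a : F ⟶ G) (ha : (pyon S).relativelyRepresentable a)
    (hG : Presheaf.IsSheaf (J S) G) : Presheaf.IsSheaf (J S) F := by
  rw [isSheaf_iff_isSheaf_of_type] at hG ⊢
  intro T R hR
  have hGR := hG R hR
  have hsub : ∀ V : Over S, Presieve.IsSheaf (J S) ((pyon S).obj V) := fun V =>
    (isSheaf_iff_isSheaf_of_type _ _).mp ((yon S).obj V).property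
  intro (x : Presieve.FamilyOfElements F R.arrows) (hx : x.Compatible)
  obtain ⟨y0, hy0, hy0u⟩ := hGR (Presieve.FamilyOfElements.map x a)
    (Presieve.FamilyOfElements.Compatible.map a hx)
  -- the fibre over `y0`
  let ξ : (pyon S).obj T ⟶ G := uliftYonedaEquiv.symm y0
  have hξ : ∀ {W : Over S} (f : W ⟶ T), ξ.app (op W) ⟨f⟩ = G.map f.op y0 := by
    intro W f
    rfl
  have sq := ha.isPullback ξ
  -- the sections
  have hex : ∀ {W : Over S} (f : W ⟶ T) (hf : R.arrows f),
      ∃ σ : ((pyon S).obj (ha.pullback ξ)).obj (op W),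
        (ha.fst ξ).app (op W) σ = x f hf ∧ ((pyon S).map (ha.snd ξ)).app (op W) σ = ⟨f⟩ := by
    intro W f hf
    apply Limits.Types.exists_of_isPullback (isPullback_app sq (op W))
    rw [hξ]
    exact (hy0 f hf).symm
  choose σ hσ1 hσ2 using @hex
  let σf : Presieve.FamilyOfElements ((pyon S).obj (ha.pullback ξ)) R.arrows :=
    fun ⦃W⦄ f hf => σ (W := W) f hf
  have hσc : σf.Compatible := by
    intro W₁ W₂ Z g₁ g₂ f₁ f₂ h₁ h₂ hcomm
    apply Limits.Types.ext_of_isPullback (isPullback_app sq (op Z))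
    · have n1 := NatTrans.naturality_apply (ha.fst ξ) g₁.op (σ f₁ h₁)
      have n2 := NatTrans.naturality_apply (ha.fst ξ) g₂.op (σ f₂ h₂)
      rw [n1, n2, hσ1, hσ1]
      exact hx g₁ g₂ h₁ h₂ hcomm
    · have n1 := NatTrans.naturality_apply ((pyon S).map (ha.snd ξ)) g₁.op (σ f₁ h₁)
      have n2 := NatTrans.naturality_apply ((pyon S).map (ha.snd ξ)) g₂.op (σ f₂ h₂)
      rw [n1, n2, hσ2, hσ2]
      change (⟨g₁ ≫ f₁⟩ : ULift _) = ⟨g₂ ≫ f₂⟩
      rw [hcomm]
  obtain ⟨σ0, hσ0, _⟩ := hsub (ha.pullback ξ) R hR σf hσc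
  refine ⟨(ha.fst ξ).app (op T) σ0, ?_, ?_⟩
  · intro W f hf
    have n1 := NatTrans.naturality_apply (ha.fst ξ) f.op σ0
    rw [← n1, hσ0 f hf, hσ1]
  · intro x1 hx1
    -- `a x1 = y0`
    have e1 : a.app (op T) x1 = y0 := hy0u _ (Presieve.FamilyOfElements.IsAmalgamation.map a hx1)
    have hξ1 : ξ.app (op T) ⟨𝟙 T⟩ = y0 := by
      rw [hξ]
      simp
    obtain ⟨τ, hτ1, hτ2⟩ := Limits.Types.exists_of_isPullback (isPullback_app sq (op T)) x1
      ⟨𝟙 T⟩ (e1.trans hξ1.symm)
    have : τ = σ0 := by
      apply (hsub (ha.pullback ξ) R hR).isSeparatedFor.ext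
      intro W f hf
      rw [hσ0 f hf]
      apply Limits.Types.ext_of_isPullback (isPullback_app sq (op W))
      · have n1 := NatTrans.naturality_apply (ha.fst ξ) f.op τ
        rw [n1, hτ1, hσ1]
        exact hx1 f hf
      · have n1 := NatTrans.naturality_apply ((pyon S).map (ha.snd ξ)) f.op τ
        rw [n1, hτ2, hσ2]
        change (⟨f ≫ 𝟙 T⟩ : ULift _) = ⟨f⟩
        rw [Category.comp_id]
    rw [← this, hτ1]

/-- A representable map of presheaves between sheaves is representable as a map of sheaves. -/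
theorem representable_homMk {F G : Sp S} (a : F.obj ⟶ G.obj)
    (ha : (pyon S).relativelyRepresentable a) :
    Representable (ObjectProperty.homMk a : F ⟶ G) := by
  intro U ξ
  obtain ⟨V, snd, fst, sq⟩ := ha ξ.hom
  refine ⟨V, snd, ObjectProperty.homMk fst, ?_⟩
  exact IsPullback.of_map_of_faithful (sheafToPresheaf (J S) (Type (u + 1))) sq

theorem isAlgSpaceP_of_relRep {X : Sp S} (hX : IsAlgSpace X) (G : PSp S) (a : G ⟶ X.obj)
    (ha : (pyon S).relativelyRepresentable a) : IsAlgSpaceP G := by
  have hG : Presheaf.IsSheaf (J S) G := isSheaf_of_relRep a ha X.property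
  refine ⟨hG, ?_⟩
  have h := representable_homMk (F := ⟨G, hG⟩) (G := X) a ha
  exact isAlgSpace_of_repBySh _ (RepBySh.of_representable h) hX

end Groth.Agent.Helper2.PshRep
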