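import Mathlib
import Groth.Agent.Lib.Helper2.AlgSp.AffDescApp
import Groth.Agent.Lib.Helper2.AlgSp.RepDesc2
import Groth.Agent.Lib.Helper2.AlgSp.ZarGlue
import Groth.Agent.Lib.Helper2.Desc.QAff
import Groth.Agent.Lib.Helper7.QAffDesc

/-!
# Quasi-affine morphisms of sheaves descend along surjective étale charts (helper2)
-/

set_option autoImplicit false
set_option backward.isDefEq.respectTransparency false
set_option linter.unusedSectionVars false
set_option linter.style.haveILetI false
universe u
open CategoryTheory CategoryTheory.Limits AlgebraicGeometry Opposite AlgSp Desc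

namespace Groth.Agent.Helper2.AlgSpDesc

open Groth.Agent.Helper2.AlgSpBasic Groth.Agent.Helper2.DescRed

variable {S : Scheme.{u}}

/-- Descent data relative to a flat surjective finitely presented morphism whose scheme factors
as a quasi-compact open immersion followed by an affine morphism are effective. -/
theorem qaff_effective {X S : Scheme.{u}} (p : X ⟶ S) (hs : Surjective p) (hf : Flat p)
    (hl : LocallyOfFinitePresentation p) (D : SchDD p) (hD : QAff D.obj.hom) :
    ∃ U : Over S, Nonempty ((toDD p).obj U ≅ D) := by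
  apply Groth.Agent.Helper2.DescEff.exists_iso_of_isEffective
  have hp : Presieve.ofArrows (fun _ : PUnit.{u + 1} => X) (fun _ => p) ∈
      Scheme.fpqcPrecoverage S := by
    rw [Presieve.ofArrows_pUnit]
    exact Scheme.fppfPrecoverage_le_fpqcPrecoverage _ (Scheme.Hom.singleton_mem_fppfPrecoverage p)
  exact isEffective_of_qaff_fam (fun _ : PUnit.{u + 1} => p) hp _ (fun _ => hD)

/-- Quasi-affineness of a morphism descends along a surjective étale base change from a
scheme. -/
theorem isQuasiAffineMor_of_etale_cover {X Y : Sp S} (f : X ⟶ Y) (V : Over S)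
    (p : (yon S).obj V ⟶ Y) (hp : RepWith @Etale p) (hps : RepWith @Surjective p)
    {P : Sp S} (fst : P ⟶ X) (snd : P ⟶ (yon S).obj V) (sq : IsPullback fst snd f p)
    (h : IsQuasiAffineMor snd) : IsQuasiAffineMor f := by
  intro Z hZ g
  haveI := hZ
  have hrep := hp.rep
  obtain ⟨b, hb⟩ := (yon S).map_surjective (hrep.fst g)
  obtain ⟨a, ha⟩ : ∃ a : hrep.pullback g ⟶ Z, a = hrep.snd g := ⟨_, rfl⟩
  have sqW : IsPullback ((yon S).map b) ((yon S).map a) p g := by
    rw [hb, ha]; exact hrep.isPullback g
  have hae : Etale a.left := by rw [ha]; exact hp.property g _ _ (hrep.isPullback g)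
  have has : Surjective a.left := by rw [ha]; exact hps.property g _ _ (hrep.isPullback g)
  obtain ⟨T', d, hT', hce, hcs⟩ := exists_affine_etale_refinement a hae has
  haveI := hT'
  obtain ⟨c, hc⟩ : ∃ c : T' ⟶ Z, c = d ≫ a := ⟨_, rfl⟩
  rw [← hc] at hce hcs
  obtain ⟨W, i', fst', sqV, hW⟩ := h hT' ((yon S).map (d ≫ b))
  haveI := hW
  have hcomm : (yon S).map (d ≫ b) ≫ p = (yon S).map c ≫ g := by
    rw [hc, Functor.map_comp, Functor.map_comp, Category.assoc, Category.assoc, sqW.w]
  have hbig : IsPullback (fst' ≫ fst) ((yon S).map i') f ((yon S).map c ≫ g) := by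
    rw [← hcomm]
    exact sqV.paste_horiz sq
  obtain ⟨gF, hgF⟩ : ∃ gF : pullback f g ⟶ (yon S).obj Z, gF = pullback.snd f g := ⟨_, rfl⟩
  have hw : (fst' ≫ fst) ≫ f = ((yon S).map i' ≫ (yon S).map c) ≫ g := by
    rw [Category.assoc]; exact hbig.w
  obtain ⟨fstV, hfstV1, hfstV2⟩ : ∃ fstV : (yon S).obj W ⟶ pullback f g,
      fstV ≫ pullback.fst f g = fst' ≫ fst ∧ fstV ≫ gF = (yon S).map i' ≫ (yon S).map c := by
    refine ⟨pullback.lift (fst' ≫ fst) ((yon S).map i' ≫ (yon S).map c) hw,
      pullback.lift_fst _ _ _, ?_⟩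
    rw [hgF]
    exact pullback.lift_snd _ _ _
  have sqL : IsPullback fstV ((yon S).map i') gF ((yon S).map c) := by
    rw [hgF] at hfstV2 ⊢
    refine IsPullback.of_right ?_ hfstV2 (IsPullback.of_hasPullback f g)
    rw [hfstV1]
    exact hbig
  have hcf : Flat c.left := by haveI := hce; infer_instance
  have hcl : LocallyOfFinitePresentation c.left := by haveI := hce; infer_instance
  obtain ⟨U, k, q, e, heiso, heg, -, sqU⟩ :=
    exists_rep_of_fppf_cover c gF fstV i' sqL hcf hcs hcl QAff
      (fun D hD => qaff_effective c.left hcs hcf hcl D hD) (qaff_of_isQuasiAffine i'.left)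
  haveI := heiso
  refine ⟨U, k, e ≫ pullback.fst f g, ?_, ?_⟩
  · refine (IsPullback.of_hasPullback f g).of_iso (asIso e).symm (Iso.refl _) (Iso.refl _)
      (Iso.refl _) ?_ ?_ ?_ ?_
    · simp
    · show pullback.snd f g ≫ 𝟙 _ = inv e ≫ (yon S).map k
      rw [Category.comp_id, ← heg, IsIso.inv_hom_id_assoc, hgF]
    · simp
    · simp
  · -- `U` is quasi-affine, by descent along `c`
    have sqU' : IsPullback i'.left q.left c.left k.left := sqU.map (Over.forget S)
    haveI : Flat c.left := hcf
    haveI : Surjective c.left := hcs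
    haveI : QuasiCompact c.left := by
      rw [quasiCompact_iff_compactSpace]
      infer_instance
    haveI : Surjective q.left :=
      MorphismProperty.of_isPullback (P := @Surjective) sqU' hcs
    haveI : CompactSpace ↥W.left := inferInstance
    haveI : CompactSpace ↥U.left := by
      constructor
      rw [← Set.range_eq_univ.mpr q.left.surjective]
      exact isCompact_range q.left.continuous
    refine Groth.Agent.Helper7.QAffDesc.isQuasiAffine_of_affine_base k.left c.left
      (Scheme.coverOfIsIso.{u, u} (𝟙 T'.left)) (fun j => ?_)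
    show (pullback k.left (𝟙 T'.left ≫ c.left)).IsQuasiAffine
    rw [Category.id_comp]
    exact Scheme.IsQuasiAffine.of_isAffineHom (sqU'.flip.isoPullback).inv

end Groth.Agent.Helper2.AlgSpDesc
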