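import Mathlib
import Groth.Prelude.Def_AlgSp4
import Groth.Prelude.Def_AlgSpDec
import Groth.Agent.Lib.Helper2.AlgSp.QfAtBCSp
import Groth.Agent.Lib.Helper2.AlgSp.QfFinite

/-!
# Finiteness of the set of points of a fibre product over a pair of points
-/

set_option autoImplicit false
set_option backward.isDefEq.respectTransparency false

open CategoryTheory CategoryTheory.Limits AlgebraicGeometry Opposite AlgSp

namespace Groth.Agent.Helper2.QfFibreProd
universe u
variable {S : Scheme.{u}}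

open Groth.Agent.Helper2.QfAtSp

/-- S10417. -/
theorem main {X Y Z W : Sp S} (hX : IsAlgSpace X) (hY : IsAlgSpace Y) (hZ : IsAlgSpace Z)
    (hW' : IsAlgSpace W) (f : X ⟶ Y) (g : Z ⟶ Y) (p : W ⟶ X) (q : W ⟶ Z)
    (hW : IsPullback p q f g) (x : Points X) (z : Points Z)
    (hft : IsFiniteTypeMor f) (hf : HasAtMor QfQ f x) :
    {w : Points W | Points.map p w = x ∧ Points.map q w = z}.Finite := by
  have hq1 : LocP @LocallyOfFiniteType q :=
    AlgSpBasic.locP_of_isPullback @LocallyOfFiniteType hX hY hZ hW' f g p q hW hft.1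
  have hq2 : IsQuasiCompactMor q := AlgSpBasic.isQuasiCompactMor_of_isPullback hW hft.2
  have hfin := QfFinite.main hW' hZ q ⟨hq1, hq2⟩ z
  refine hfin.subset ?_
  rintro w ⟨hw1, hw2⟩
  refine ⟨hw2, ?_⟩
  rw [QfAtBCSp.hasAtMor_qf_bc_iff hX hY hW' hZ f g p q hW hft.1 w, hw1]
  exact hf

end Groth.Agent.Helper2.QfFibreProd
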