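import Mathlib
import Groth.Prelude.Def_AlgSp4
import Groth.Prelude.Def_AlgSp3
import Groth.Prelude.Def_AlgSpDec
import Groth.Agent.Lib.Helper2.AlgSp.FieldFibre
import Groth.Agent.Lib.Helper2.AlgSp.QC

/-!
# Algebraic spaces quasi-separated over a scheme are decent (helper2)

A version of `QsDecent` which only uses the residue field chart argument of `FieldFibre` /
`FieldQuot`.
-/

set_option autoImplicit false
set_option backward.isDefEq.respectTransparency false

open CategoryTheory CategoryTheory.Limits AlgebraicGeometry Opposite AlgSp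

namespace Groth.Agent.Helper2.QsDecentT
universe u
variable {S : Scheme.{u}}

/-- Every field-valued point of an algebraic space which is quasi-separated over a scheme is
quasi-compact. -/
theorem repWith_quasiCompact_of_isQuasiSeparatedMor {F : Sp S} (hF : IsAlgSpace F) {T : Over S}
    (i : F ⟶ (yon S).obj T) (hi : IsQuasiSeparatedMor i) {L : Type u} [Field L]
    (strL : Spec (CommRingCat.of L) ⟶ S) (b : (yon S).obj (Over.mk strL) ⟶ F) :
    RepWith @QuasiCompact b := by
  refine MorphismProperty.relative.of_exists fun V v => ?_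
  obtain ⟨W, fst, snd, sq⟩ := AlgSpBasic.exists_isPullback_yon hF.diag b v
  refine ⟨W, (yon S).map fst, snd, sq, ?_⟩
  have h1 : RepWith @QuasiCompact (pullback.map b v (b ≫ i) (v ≫ i) (𝟙 _) (𝟙 _) i
      (Category.id_comp _).symm (Category.id_comp _).symm) :=
    AlgSpBasic.repWith_of_isPullback @QuasiCompact (pullback_map_diagonal_isPullback b v i) hi
  obtain ⟨c, hc⟩ := (yon S).map_surjective (b ≫ i)
  have h2 : RepWith @QuasiCompact (b ≫ i) := by
    rw [← hc, repWith_yon_map_iff]
    exact FieldQuot.quasiCompact_of_field (L := L) c.left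
  have h3 : RepWith @QuasiCompact (pullback.snd (b ≫ i) (v ≫ i)) :=
    AlgSpBasic.repWith_of_isPullback @QuasiCompact
      (IsPullback.of_hasPullback (b ≫ i) (v ≫ i)) h2
  have h4 : RepWith @QuasiCompact (pullback.snd b v) := by
    have : pullback.snd b v = pullback.map b v (b ≫ i) (v ≫ i) (𝟙 _) (𝟙 _) i
        (Category.id_comp _).symm (Category.id_comp _).symm ≫ pullback.snd (b ≫ i) (v ≫ i) := by
      simp
    rw [this]
    exact AlgSpBasic.repWith_comp @QuasiCompact h1 h3
  let e : (yon S).obj W ≅ pullback b v := sq.isoPullback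
  have he : e.hom ≫ pullback.snd b v = (yon S).map snd := sq.isoPullback_hom_snd
  have h5 : RepWith @QuasiCompact ((yon S).map snd) := by
    rw [← he]
    exact MorphismProperty.RespectsIso.precomp _ e.hom _ h4
  exact (repWith_yon_map_iff @QuasiCompact snd).1 h5

/-- An algebraic space which is quasi-separated over a scheme is decent. -/
theorem isDecent_of_isQuasiSeparatedMor {F : Sp S} (hF : IsAlgSpace F) {T : Over S}
    (i : F ⟶ (yon S).obj T) (hi : IsQuasiSeparatedMor i) : IsDecent F := by
  intro x
  obtain ⟨U, φ, hφ, hφs⟩ := hF.atlas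
  obtain ⟨u, rfl⟩ := AlgSpBasic.surjective_ofPt φ hφs x
  let a : (AlgSp.yon S).obj (FieldFibre.resOver U u) ⟶ F :=
    (AlgSp.yon S).map (FieldFibre.resι U u) ≫ φ
  have haq : RepWith @QuasiCompact a :=
    repWith_quasiCompact_of_isQuasiSeparatedMor hF i hi
      (L := ↥(U.left.residueField u)) (U.left.fromSpecResidueField u ≫ U.hom) a
  obtain ⟨R, s, t, sq⟩ := AlgSpBasic.exists_isPullback_yon hF.diag a a
  haveI : Etale s.left := FieldFibre.etale_fst_of_isPullback_residue φ hφ u
    (K := ↥(U.left.residueField u)) (U.left.fromSpecResidueField u ≫ U.hom) a s t sq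
  haveI : CompactSpace ↥(FieldFibre.resOver U u).left :=
    inferInstanceAs (CompactSpace ↥(Spec (U.left.residueField u)))
  haveI : QuasiCompact s.left := haq.property a _ _ sq.flip
  haveI : CompactSpace ↥R.left := QuasiCompact.compactSpace_of_compactSpace s.left
  let c : ↥(FieldFibre.resOver U u).left := IsLocalRing.closedPoint ↥(U.left.residueField u)
  obtain ⟨q, hq1, hq2, -⟩ := FieldQuot.exists_mono_fieldPt
    (K := ↥(U.left.residueField u)) (U.left.fromSpecResidueField u ≫ U.hom) s t a sq.flip c
  refine ⟨q, ?_, hq2, repWith_quasiCompact_of_isQuasiSeparatedMor hF i hi _ _⟩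
  rw [hq1]
  change AlgSp.Points.ofPt ((AlgSp.yon S).map (FieldFibre.resι U u) ≫ φ) c = _
  rw [AlgSpBasic.ofPt_yon_map_comp]
  have h4 : (FieldFibre.resι U u).left c = u := Scheme.fromSpecResidueField_apply u c
  rw [h4]

end Groth.Agent.Helper2.QsDecentT
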