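import Mathlib
import Groth.Prelude.Def_AlgSp4
import Groth.Prelude.Def_AlgSpSub
import Groth.Agent.Lib.Helper2.Sch.Reduced
import Groth.Agent.Lib.Helper2.AlgSp.Points
import Groth.Agent.Lib.Helper2.AlgSp.Diag
import Groth.Agent.Lib.Helper2.Sch.GeomReducedEtale

/-!
# Reducedness of algebraic spaces via local rings (helper2)
-/

set_option autoImplicit false
set_option backward.isDefEq.respectTransparency false

open CategoryTheory CategoryTheory.Limits AlgebraicGeometry Opposite AlgSp

namespace Groth.Agent.Helper2.ReducedStalk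
universe u
variable {S : Scheme.{u}}

/-- `S10222`. -/
theorem isReducedSp_iff {X : Sp S} (hX : IsAlgSpace X) :
    IsReducedSp X ↔
      ∀ x : Points X, HasAt (fun U u => _root_.IsReduced ↥(U.presheaf.stalk u)) X x := by
  constructor
  · rintro ⟨U, a, hae, has, hU⟩ x
    haveI : IsReduced U.left := hU
    obtain ⟨u, hu⟩ := AlgSpBasic.surjective_ofPt a has x
    exact ⟨U, a, u, hae, hu, inferInstance⟩
  · intro h
    obtain ⟨U, a, hae, has⟩ := hX.atlas
    refine ⟨U, a, hae, has, ?_⟩
    have hst : ∀ u : ↥U.left, _root_.IsReduced (U.left.presheaf.stalk u) := by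
      intro u
      obtain ⟨U', a', u', hae', hu', hred⟩ := h (Points.ofPt a u)
      obtain ⟨W, p1, p2, sq⟩ := AlgSpBasic.exists_isPullback_yon hX.diag a a'
      obtain ⟨w, hw1, hw2⟩ := AlgSpBasic.exists_point_of_isPullback_yon a a' p1 p2 sq u u' hu'.symm
      haveI : Etale p2.left := hae.property a' ((yon S).map p1) p2 sq
      haveI : Etale p1.left := hae'.property a ((yon S).map p2) p1 sq.flip
      have h1 : _root_.IsReduced (W.left.presheaf.stalk w) :=
        GeomReducedEtale.isReduced_stalk_of_etale p2.left w (by rw [hw2]; exact hred)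
      haveI := h1
      have hinj := SchLib.stalkMap_injective_of_flat p1.left w
      rw [← hw1]
      exact isReduced_of_injective _ hinj
    exact isReduced_of_isReduced_stalk U.left

end Groth.Agent.Helper2.ReducedStalk
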