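import Mathlib
import Groth.Agent.Lib.Helper2.AlgSp.NoethDescent
import Groth.Agent.Lib.Helper2.AlgSp.OnePointRegular
import Groth.Agent.Lib.Helper8.ABS13
import Groth.Agent.Lib.Helper8.FlatReg11

/-! Regularity of algebraic spaces: ascent along étale morphisms, descent along flat surjective
morphisms (helper2). -/
set_option linter.style.haveILetI false
namespace Groth.Agent.Helper2.AlgSpBasic
open CategoryTheory CategoryTheory.Limits AlgebraicGeometry Opposite Topology AlgSp
open Groth.Agent.Helper2.EtaleLocal Groth.Agent.Helper2.SchLib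
universe u
variable {S : Scheme.{u}}

/-- Regular schemes: locally Noetherian with regular local rings. -/
def IsRegSch (U : Scheme.{u}) : Prop :=
  IsLocallyNoetherian U ∧ ∀ u : ↥U, IsRegularLocalRing ↥(U.presheaf.stalk u)

/-- Regularity of local rings descends along flat morphisms. -/
theorem isRegularLocalRing_stalk_of_flat {W V : Scheme.{u}} (d : W ⟶ V) [Flat d]
    [IsLocallyNoetherian V] (w : ↥W) (h : IsRegularLocalRing ↥(W.presheaf.stalk w)) :
    IsRegularLocalRing ↥(V.presheaf.stalk (d w)) := by
  algebraize [(d.stalkMap w).hom]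
  haveI : IsLocalHom (algebraMap (V.presheaf.stalk (d w)) (W.presheaf.stalk w)) :=
    inferInstanceAs <| IsLocalHom (d.stalkMap w).hom
  haveI : Module.Flat (V.presheaf.stalk (d w)) (W.presheaf.stalk w) := by
    have := Flat.stalkMap d w
    rwa [RingHom.Flat] at this
  exact Groth.Agent.Helper8.ABS.isRegularLocalRing_of_flat (V.presheaf.stalk (d w))
    (W.presheaf.stalk w)

/-- Regularity descends along flat surjective morphisms to a locally Noetherian scheme. -/
theorem isRegSch_of_flat_surjective {W V : Scheme.{u}} (d : W ⟶ V) [Flat d] [Surjective d]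
    [IsLocallyNoetherian V] (hW : IsRegSch W) : IsRegSch V := by
  refine ⟨inferInstance, fun v => ?_⟩
  obtain ⟨w, rfl⟩ := d.surjective v
  exact isRegularLocalRing_stalk_of_flat d w (hW.2 w)

/-- Regularity ascends along étale morphisms. -/
theorem isRegSch_of_etale {W U : Scheme.{u}} (e : W ⟶ U) [Etale e] (hU : IsRegSch U) :
    IsRegSch W := by
  haveI : IsLocallyNoetherian U := hU.1
  haveI : IsLocallyNoetherian W := LocallyOfFiniteType.isLocallyNoetherian e
  refine ⟨inferInstance, fun w => ?_⟩
  algebraize [(e.stalkMap w).hom]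
  haveI : IsLocalHom (algebraMap (U.presheaf.stalk (e w)) (W.presheaf.stalk w)) :=
    inferInstanceAs <| IsLocalHom (e.stalkMap w).hom
  haveI : Module.Flat (U.presheaf.stalk (e w)) (W.presheaf.stalk w) := by
    have := Flat.stalkMap e w
    rwa [RingHom.Flat] at this
  haveI : Algebra.EssFiniteType (U.presheaf.stalk (e w)) (W.presheaf.stalk w) := by
    rw [← RingHom.essFiniteType_algebraMap, RingHom.algebraMap_toAlgebra]
    exact LocallyOfFiniteType.stalkMap e w
  haveI : Algebra.FormallyUnramified (U.presheaf.stalk (e w)) (W.presheaf.stalk w) := by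
    rw [← RingHom.formallyUnramified_algebraMap, RingHom.algebraMap_toAlgebra]
    exact FormallyUnramified.stalkMap e w
  haveI : IsRegularLocalRing ↥(U.presheaf.stalk (e w)) := hU.2 (e w)
  haveI : IsRegularLocalRing (↥(W.presheaf.stalk w) ⧸
      (IsLocalRing.maximalIdeal ↥(U.presheaf.stalk (e w))).map
        (algebraMap (U.presheaf.stalk (e w)) (W.presheaf.stalk w))) :=
    Groth.Agent.Helper2.OnePointRegular.isRegularLocalRing_of_isField
      Algebra.FormallyUnramified.isField_quotient_map_maximalIdeal
  exact Groth.Agent.Helper8.FlatReg.isRegularLocalRing_of_flat_of_fibre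
    (U.presheaf.stalk (e w)) (W.presheaf.stalk w)

/-- If a sheaf has a regular etale surjective chart, then every scheme etale over it is regular. -/
theorem isRegSch_of_etale_of_etaleLocally {X : Sp S} (hX : EtaleLocally IsRegSch X) {W : Over S}
    (e : (yon S).obj W ⟶ X) (he : RepWith @Etale e) : IsRegSch W.left := by
  have hN : IsLocNoethSp X := by
    obtain ⟨U, p, hpe, hps, hU⟩ := hX
    exact ⟨U, p, hpe, hps, hU.1⟩
  haveI : IsLocallyNoetherian W.left := isLocallyNoetherian_of_etale_of_isLocNoethSp hN e he
  obtain ⟨U, p, hpe, hps, hU⟩ := hX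
  have hrep : Representable e := ((repWith_iff @Etale e).1 he).1
  have sq := hrep.isPullback p
  obtain ⟨fst', hfst'⟩ := (yon S).map_surjective (hrep.fst p)
  rw [← hfst'] at sq
  haveI h1 : Etale (hrep.snd p).left := ((repWith_iff @Etale e).1 he).2 p _ _ sq
  haveI h2 : Etale fst'.left := ((repWith_iff @Etale p).1 hpe).2 e _ _ sq.flip
  haveI h3 : Surjective fst'.left := ((repWith_iff @Surjective p).1 hps).2 e _ _ sq.flip
  have hQ : IsRegSch (hrep.pullback p).left := isRegSch_of_etale (hrep.snd p).left hU
  exact isRegSch_of_flat_surjective fst'.left hQ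

/-- Regularity descends along fppf surjective morphisms of algebraic spaces. -/
theorem etaleLocally_isRegSch_of_fppf_surjective {X Y : Sp S} (hX : IsAlgSpace X)
    (hY : IsAlgSpace Y) (f : X ⟶ Y) (hfp : LocP @LocallyOfFinitePresentation f)
    (hfl : LocP @Flat f) (hs : IsSurjectiveMor f) (hR : EtaleLocally IsRegSch X) :
    EtaleLocally IsRegSch Y := by
  obtain ⟨V, b, hbe, hbs⟩ := hY.atlas
  have hf : LocP (@Flat ⊓ @LocallyOfFinitePresentation) f :=
    fun _ _ a b h ha hb comm => ⟨hfl a b h ha hb comm, hfp a b h ha hb comm⟩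
  obtain ⟨W, d, e, he, -, hd, -, hpt⟩ :=
    exists_chart_of_family_member' (@Flat ⊓ @LocallyOfFinitePresentation) hY hX f hf b
  have hW : IsRegSch W.left := isRegSch_of_etale_of_etaleLocally hR e (he hbe)
  haveI : IsLocallyNoetherian W.left := hW.1
  haveI : Flat d.left := hd.1
  haveI : LocallyOfFinitePresentation d.left := hd.2
  haveI : Surjective d.left := ⟨fun v => by
    obtain ⟨x, hx⟩ := hs (Points.ofPt b v)
    exact hpt v x hx⟩
  haveI : IsLocallyNoetherian V.left := isLocallyNoetherian_of_flat_lfp_surjective d.left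
  exact ⟨V, b, hbe, hbs, isRegSch_of_flat_surjective d.left hW⟩

end Groth.Agent.Helper2.AlgSpBasic
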