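import Mathlib
import Groth.Prelude.Def_AlgSp4
import Groth.Prelude.Def_AlgSpDec
import Groth.Prelude.Def_Flat
import Groth.Agent.Lib.Helper2.AlgSp.RelDimSp
import Groth.Agent.Lib.Helper2.FibDim.Retro

/-!
# Relative dimension at a point of a morphism of algebraic spaces: retrocompactness of the locus
(S10309) (helper2)
-/

set_option autoImplicit false
set_option backward.isDefEq.respectTransparency false

open CategoryTheory CategoryTheory.Limits AlgebraicGeometry Opposite AlgSp

namespace Groth.Agent.Helper2.RelDimSp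
universe u
variable {S : Scheme.{u}}

open Groth.Agent.Helper2.ChartIndepMor Groth.Agent.Helper2.QfAtSp

/-- the locus of a property étale local on source and target which is retrocompact on charts is
retrocompact -/
theorem isCompact_inter_locus {Q : ∀ (U V : Scheme.{u}), (U ⟶ V) → ↥U → Prop}
    (hQ : EtaleLocalST Q) (P : MorphismProperty Scheme.{u})
    (hQr : ∀ (U V : Scheme.{u}) (h : U ⟶ V), P h → IsRetrocompact {u : U | Q U V h u})
    {X Y : Sp S} (hX : IsAlgSpace X) (hY : IsAlgSpace Y) (f : X ⟶ Y)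
    (hf : LocP P f) (W : Set (Points X)) (hW : IsOpen W) (hWc : IsCompact W) :
    IsCompact (W ∩ {x : Points X | HasAtMor Q f x}) := by
  obtain ⟨V, b, hbe, hbs⟩ := hY.atlas
  obtain ⟨U, a, h, hae, has, c⟩ := AlgSpBasic.exists_chart_lift hX f b hbe hbs
  have hP : P h.left := hf a b h hae hbe c
  have hretro := hQr _ _ h.left hP
  -- cover the preimage of `W` by affine opens
  have hpre : IsOpen (Points.ofPt a ⁻¹' W) := hW.preimage (Points.continuous_ofPt a)
  have hcov : ∀ x ∈ W, ∃ O : U.left.Opens, IsAffineOpen O ∧ (O : Set ↥U.left) ⊆ Points.ofPt a ⁻¹' W ∧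
      x ∈ Points.ofPt a '' (O : Set ↥U.left) := by
    intro x hx
    obtain ⟨u, hu⟩ := AlgSpBasic.surjective_ofPt a has x
    have huW : u ∈ Points.ofPt a ⁻¹' W := by
      change Points.ofPt a u ∈ W
      rw [hu]; exact hx
    obtain ⟨_, ⟨O, hO, rfl⟩, huO, hOW⟩ :=
      (U.left.isBasis_affineOpens).exists_subset_of_mem_open huW hpre
    exact ⟨O, hO, hOW, u, huO, hu⟩
  choose! O hOaff hOsub hOmem using hcov
  obtain ⟨t, htW, htfin, htcov⟩ := hWc.elim_finite_subcover_image
    (b := W) (c := fun x => Points.ofPt a '' (O x : Set ↥U.left))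
    (fun x _ => AlgSpBasic.isOpenMap_ofPt a hae _ (O x).2)
    (fun x hx => Set.mem_biUnion hx (hOmem x hx))
  have heq : W ∩ {x : Points X | HasAtMor Q f x} =
      ⋃ x ∈ t, Points.ofPt a '' ({u : ↥U.left | Q _ _ h.left u} ∩ (O x : Set ↥U.left)) := by
    ext y
    constructor
    · rintro ⟨hyW, hyQ⟩
      obtain ⟨x, hxt, u, huO, rfl⟩ := Set.mem_iUnion₂.mp (htcov hyW)
      refine Set.mem_iUnion₂.mpr ⟨x, hxt, u, ⟨?_, huO⟩, rfl⟩
      exact of_hasAtMor hQ hX.diag hY.diag f _ hyQ a b h hae hbe c u rfl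
    · intro hy
      obtain ⟨x, hxt, u, ⟨huQ, huO⟩, rfl⟩ := Set.mem_iUnion₂.mp hy
      exact ⟨hOsub x (htW hxt) huO, hasAtMor_of f a b h hae hbe c u huQ⟩
  rw [heq]
  apply htfin.isCompact_biUnion
  intro x hxt
  exact (hretro (hOaff x (htW hxt)).isCompact (O x).2).image (Points.continuous_ofPt a)

/-- S10309 -/
theorem S10309_main {X Y : Sp S} (hX : IsAlgSpace X) (hY : IsAlgSpace Y) (f : X ⟶ Y)
    (hf : LocP @LocallyOfFinitePresentation f) (n : ℕ) (W : Set (Points X))
    (hW : IsOpen W) (hWc : IsCompact W) :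
    IsCompact (W ∩ {x : Points X |
      HasAtMor (fun _ _ h u => FlatMor.fibreDimAt h u ≤ (n : WithBot ℕ∞)) f x}) := by
  apply isCompact_inter_locus (etaleLocalST_fibreDimAt_le _) @LocallyOfFinitePresentation _ hX hY f
    hf W hW hWc
  intro U V h hh
  haveI := hh
  exact Groth.Agent.Helper2.FibDim.S9355_main h n

end Groth.Agent.Helper2.RelDimSp
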