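import Mathlib
import Groth.Prelude.Def_AlgSp4
import Groth.Prelude.Def_AlgSpDec
import Groth.Prelude.Def_AlgSpMor5
import Groth.Prelude.Def_Flat
import Groth.Agent.Lib.Helper2.AlgSp.RelDimSp
import Groth.Agent.Lib.Helper2.FibDim.CompFlatAt

/-!
# Relative dimension at a point of a composite of morphisms of algebraic spaces (S10328) (helper2)
-/

set_option autoImplicit false
set_option backward.isDefEq.respectTransparency false

open CategoryTheory CategoryTheory.Limits AlgebraicGeometry Opposite AlgSp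

namespace Groth.Agent.Helper2.RelDimSp
universe u
variable {S : Scheme.{u}}

open Groth.Agent.Helper2.ChartIndepMor Groth.Agent.Helper2.QfAtSp

/-- S10328 -/
theorem S10328_main {X Y Z : Sp S} (hX : IsAlgSpace X) (hY : IsAlgSpace Y) (hZ : IsAlgSpace Z)
    (f : X ⟶ Y) (g : Y ⟶ Z)
    (hf : LocP @LocallyOfFiniteType f) (hg : LocP @LocallyOfFiniteType g)
    (x : Points X) (a b : WithBot ℕ∞)
    (ha : HasAtMor (fun _ _ h u => FlatMor.fibreDimAt h u = a) f x)
    (hb : HasAtMor (fun _ _ h u => FlatMor.fibreDimAt h u = b) g (Points.map f x)) :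
    HasAtMor (fun _ _ h u => FlatMor.fibreDimAt h u ≤ a + b) (f ≫ g) x ∧
    (IsFlatAtMor f x →
      HasAtMor (fun _ _ h u => FlatMor.fibreDimAt h u = a + b) (f ≫ g) x) := by
  obtain ⟨W, γ, hγe, hγs⟩ := hZ.atlas
  obtain ⟨V, β, k, hβe, hβs, cg⟩ := AlgSpBasic.exists_chart_lift hY g γ hγe hγs
  obtain ⟨U, α, h, hαe, hαs, cf⟩ := AlgSpBasic.exists_chart_lift hX f β hβe hβs
  haveI hlh : LocallyOfFiniteType h.left := hf α β h hαe hβe cf
  haveI hlk : LocallyOfFiniteType k.left := hg β γ k hβe hγe cg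
  obtain ⟨u, hu⟩ := AlgSpBasic.surjective_ofPt α hαs x
  have cfg : α ≫ (f ≫ g) = (yon S).map (h ≫ k) ≫ γ := by
    rw [← Category.assoc, cf, Category.assoc, cg, Functor.map_comp, Category.assoc]
  have hfu : Points.ofPt β (h.left u) = Points.map f x := by
    rw [← hu, Points.map_ofPt, cf, AlgSpBasic.ofPt_yon_map_comp]
  have h1 : FlatMor.fibreDimAt h.left u = a :=
    of_hasAtMor (etaleLocalST_fibreDimAt_eq a) hX.diag hY.diag f x ha α β h hαe hβe cf u hu
  have h2 : FlatMor.fibreDimAt k.left (h.left u) = b :=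
    of_hasAtMor (etaleLocalST_fibreDimAt_eq b) hY.diag hZ.diag g _ hb β γ k hβe hγe cg (h.left u)
      hfu
  have key := Groth.Agent.Helper2.FibDim.S9354_main h.left k.left u
  rw [h1, h2] at key
  constructor
  · rw [← hu]
    refine hasAtMor_of (f ≫ g) α γ (h ≫ k) hαe hγe cfg u ?_
    rw [Over.comp_left]
    exact key.1
  · intro hflat
    rw [← hu]
    refine hasAtMor_of (f ≫ g) α γ (h ≫ k) hαe hγe cfg u ?_
    rw [Over.comp_left]
    exact key.2 (hflat α β h u hαe hβe cf hu)

end Groth.Agent.Helper2.RelDimSp
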