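import Mathlib
import Groth.Prelude.Def_AlgSpRep

/-!
# Elementary form of (relative) limit preservation (helper2)
-/

set_option autoImplicit false
open CategoryTheory CategoryTheory.Limits AlgebraicGeometry Opposite

namespace Groth.Agent.Helper2.RelLP
universe u

variable {S : Scheme.{u}}

/-- Elementary form of `AlgSp.IsRelLimitPreserving`: the square
`colim F(T_i) → F(T)`, `colim G(T_i) → G(T)` is cartesian, written out in elements. -/
def RelLP {F G : AlgSp.PSp S} (a : F ⟶ G) : Prop :=
  ∀ ⦃I : Type u⦄ [SmallCategory I] [IsCofiltered I] (D : I ⥤ Over S) (c : Cone D),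
    IsLimit ((Over.forget S).mapCone c) → (∀ i, IsAffine (D.obj i).left) → IsAffine c.pt.left →
    (∀ (x : F.obj (op c.pt)) (i : I) (y : G.obj (op (D.obj i))),
        a.app _ x = G.map (c.π.app i).op y →
        ∃ (j : I) (f : j ⟶ i) (xj : F.obj (op (D.obj j))),
          F.map (c.π.app j).op xj = x ∧ a.app _ xj = G.map (D.map f).op y) ∧
    (∀ (i : I) (x x' : F.obj (op (D.obj i))), a.app _ x = a.app _ x' →
        F.map (c.π.app i).op x = F.map (c.π.app i).op x' →
        ∃ (j : I) (f : j ⟶ i), F.map (D.map f).op x = F.map (D.map f).op x')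

theorem isRelLimitPreserving_of_relLP {F G : AlgSp.PSp S} (a : F ⟶ G) (h : RelLP a) :
    AlgSp.IsRelLimitPreserving a := by
  intro T y I _ _ D c hc hD hT
  obtain ⟨hs, hi⟩ := h (D ⋙ Over.map T.hom) ((Over.map T.hom).mapCone c) hc hD hT
  refine ⟨Types.FilteredColimit.isColimitOf' _ _ ?_ ?_⟩
  · rintro ⟨x, hx⟩
    obtain ⟨i₀⟩ := IsCofiltered.nonempty (C := I)
    have e : G.map (AlgSp.overHom T c.pt).op y =
        G.map ((Over.map T.hom).map (c.π.app i₀)).op (G.map (AlgSp.overHom T (D.obj i₀)).op y) := by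
      rw [← Functor.map_comp_apply, ← op_comp, AlgSp.map_comp_overHom]
      rfl
    obtain ⟨j, f, xj, h1, h2⟩ := hs x i₀ (G.map (AlgSp.overHom T (D.obj i₀)).op y) (hx.trans e)
    have e' : G.map ((Over.map T.hom).map (D.map f)).op (G.map (AlgSp.overHom T (D.obj i₀)).op y) =
        G.map (AlgSp.overHom T (D.obj j)).op y := by
      rw [← Functor.map_comp_apply, ← op_comp, AlgSp.map_comp_overHom]
    refine ⟨op j, ⟨xj, h2.trans e'⟩, ?_⟩
    apply Subtype.ext
    exact h1.symm
  · rintro ⟨i⟩ ⟨x, hx⟩ ⟨x', hx'⟩ hxx'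
    obtain ⟨j, f, hj⟩ := hi i x x' (hx.trans hx'.symm) (congrArg Subtype.val hxx')
    exact ⟨op j, f.op, Subtype.ext hj⟩

section converse

variable {F G : AlgSp.PSp S} (a : F ⟶ G)
variable {I : Type u} [SmallCategory I] [IsCofiltered I] (D : I ⥤ Over S) (c : Cone D) (i : I)

/-- The system over `T_i` indexed by `Over i`. -/
abbrev D' : Over i ⥤ Over (D.obj i).left := Over.post (X := i) (D ⋙ Over.forget S)

/-- The cone over `D'`. -/
abbrev c' : Cone (D' D i) :=
  (Over.conePost (D ⋙ Over.forget S) i).obj ((Over.forget S).mapCone c)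

/-- Comparison morphisms (identity on underlying schemes). -/
def mor1 (f : Over i) : (Over.map (D.obj i).hom).obj ((D' D i).obj f) ⟶ D.obj f.left :=
  Over.homMk (𝟙 _) ((Category.id_comp _).trans (Over.w (D.map f.hom)).symm)

def mor2 (f : Over i) : D.obj f.left ⟶ (Over.map (D.obj i).hom).obj ((D' D i).obj f) :=
  Over.homMk (𝟙 _) ((Category.id_comp _).trans (Over.w (D.map f.hom)))

def mor1' : (Over.map (D.obj i).hom).obj (c' D c i).pt ⟶ c.pt :=
  Over.homMk (𝟙 _) ((Category.id_comp _).trans (Over.w (c.π.app i)).symm)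

def mor2' : c.pt ⟶ (Over.map (D.obj i).hom).obj (c' D c i).pt :=
  Over.homMk (𝟙 _) ((Category.id_comp _).trans (Over.w (c.π.app i)))

@[simp] theorem mor1_left (f : Over i) : (mor1 D i f).left = 𝟙 _ := rfl
@[simp] theorem mor2_left (f : Over i) : (mor2 D i f).left = 𝟙 _ := rfl
@[simp] theorem mor1'_left : (mor1' D c i).left = 𝟙 _ := rfl
@[simp] theorem mor2'_left : (mor2' D c i).left = 𝟙 _ := rfl

theorem mor2'_mor1' : mor2' D c i ≫ mor1' D c i = 𝟙 _ := by
  ext
  simp
  exact Category.id_comp _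

theorem mor1'_π : mor1' D c i ≫ c.π.app i = AlgSp.overHom (D.obj i) (c' D c i).pt := by
  ext
  simp
  exact Category.id_comp _

theorem π_mor2 (f : Over i) : c.π.app f.left ≫ mor2 D i f =
    mor2' D c i ≫ (Over.map (D.obj i).hom).map ((c' D c i).π.app f) := by
  ext
  simp
  exact (Category.comp_id _).trans (Category.id_comp _).symm

theorem mor2_overHom (f : Over i) :
    mor2 D i f ≫ AlgSp.overHom (D.obj i) ((D' D i).obj f) = D.map f.hom := by
  ext
  simp
  exact Category.id_comp _

theorem mor1_eq_overHom :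
    mor1 D i (Over.mk (𝟙 i)) = AlgSp.overHom (D.obj i) ((D' D i).obj (Over.mk (𝟙 i))) := by
  ext
  simp
  show 𝟙 _ = (D.map (𝟙 i)).left
  rw [CategoryTheory.Functor.map_id]
  rfl

theorem map_mor1 : (Over.map (D.obj i).hom).map ((c' D c i).π.app (Over.mk (𝟙 i))) ≫
    mor1 D i (Over.mk (𝟙 i)) = mor1' D c i ≫ c.π.app i := by
  ext
  simp
  exact (Category.comp_id _).trans (Category.id_comp _).symm

theorem mor2_map_mor1 (f : Over i) (g : f ⟶ Over.mk (𝟙 i)) :
    mor2 D i f ≫ (Over.map (D.obj i).hom).map ((D' D i).map g) ≫ mor1 D i (Over.mk (𝟙 i)) =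
      D.map f.hom := by
  have hg : g.left = f.hom := by simpa using Over.w g
  ext
  simp [hg]
  exact (Category.id_comp _).trans (Category.comp_id _)

theorem core (h : AlgSp.IsRelLimitPreserving a)
    (hc : IsLimit ((Over.forget S).mapCone c)) (hD : ∀ i, IsAffine (D.obj i).left)
    (hT : IsAffine c.pt.left) (y : G.obj (op (D.obj i))) :
    Nonempty (IsColimit ((AlgSp.fiberFun a (D.obj i) y).mapCocone (c' D c i).op)) := by
  have hc' : IsLimit ((Over.forget (D.obj i).left).mapCone (c' D c i)) :=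
    (Functor.Initial.isLimitWhiskerEquiv (Over.forget i) ((Over.forget S).mapCone c)).symm hc
  exact h (D.obj i) y (D' D i) (c' D c i) hc' (fun f => hD f.left) hT

theorem map_map {X Y Z : Over S} (p : X ⟶ Y) (q : Y ⟶ Z) (H : AlgSp.PSp S) (x : H.obj (op Z)) :
    H.map p.op (H.map q.op x) = H.map (p ≫ q).op x := by
  rw [op_comp, Functor.map_comp_apply]

theorem relLP_of_isRelLimitPreserving (h : AlgSp.IsRelLimitPreserving a) : RelLP a := by
  intro I _ _ D c hc hD hT
  constructor
  · intro x i y hxy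
    obtain ⟨hcol⟩ := core a D c i h hc hD hT y
    have hx' : a.app _ (F.map (mor1' D c i).op x) =
        G.map (AlgSp.overHom (D.obj i) (c' D c i).pt).op y := by
      rw [NatTrans.naturality_apply, hxy, map_map, mor1'_π]
    obtain ⟨⟨f⟩, ⟨xf, hxf⟩, hf⟩ := Types.jointly_surjective_of_isColimit hcol
      ⟨F.map (mor1' D c i).op x, hx'⟩
    have hf' : F.map ((Over.map (D.obj i).hom).map ((c' D c i).π.app f)).op xf =
        F.map (mor1' D c i).op x := congrArg Subtype.val hf
    refine ⟨f.left, f.hom, F.map (mor2 D i f).op xf, ?_, ?_⟩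
    · rw [map_map, π_mor2, ← map_map, hf', map_map, mor2'_mor1']
      simp
    · refine (NatTrans.naturality_apply a _ _).trans ?_
      refine (congrArg (G.map (mor2 D i f).op) hxf).trans ?_
      exact (map_map _ _ G y).trans (congrArg (fun m => G.map m.op y) (mor2_overHom D i f))
  · intro i x x' hxx' hres
    obtain ⟨hcol⟩ := core a D c i h hc hD hT (a.app _ x)
    have e1 : a.app _ (F.map (mor1 D i (Over.mk (𝟙 i))).op x) =
        G.map (AlgSp.overHom (D.obj i) ((D' D i).obj (Over.mk (𝟙 i)))).op (a.app _ x) := by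
      rw [NatTrans.naturality_apply, mor1_eq_overHom]
      rfl
    have e2 : a.app _ (F.map (mor1 D i (Over.mk (𝟙 i))).op x') =
        G.map (AlgSp.overHom (D.obj i) ((D' D i).obj (Over.mk (𝟙 i)))).op (a.app _ x) := by
      rw [NatTrans.naturality_apply, mor1_eq_overHom, hxx']
      rfl
    have key : ((AlgSp.fiberFun a (D.obj i) (a.app _ x)).mapCocone (c' D c i).op).ι.app
        (op (Over.mk (𝟙 i))) ⟨_, e1⟩ =
        ((AlgSp.fiberFun a (D.obj i) (a.app _ x)).mapCocone (c' D c i).op).ι.app
        (op (Over.mk (𝟙 i))) ⟨_, e2⟩ := by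
      apply Subtype.ext
      show F.map ((Over.map (D.obj i).hom).map ((c' D c i).π.app (Over.mk (𝟙 i)))).op _ =
        F.map ((Over.map (D.obj i).hom).map ((c' D c i).π.app (Over.mk (𝟙 i)))).op _
      rw [map_map, map_map, map_mor1, ← map_map, ← map_map (H := F), hres]
    obtain ⟨⟨f⟩, g, hg⟩ := (Types.FilteredColimit.isColimit_eq_iff' hcol _ _).mp key
    have hg' : F.map ((Over.map (D.obj i).hom).map ((D' D i).map g.unop)).op
        (F.map (mor1 D i (Over.mk (𝟙 i))).op x) =
        F.map ((Over.map (D.obj i).hom).map ((D' D i).map g.unop)).op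
        (F.map (mor1 D i (Over.mk (𝟙 i))).op x') := congrArg Subtype.val hg
    refine ⟨f.left, f.hom, ?_⟩
    rw [← mor2_map_mor1 D i f g.unop, ← map_map, ← map_map, ← map_map (H := F),
      ← map_map (H := F), hg']

end converse

theorem isRelLimitPreserving_iff {F G : AlgSp.PSp S} (a : F ⟶ G) :
    AlgSp.IsRelLimitPreserving a ↔ RelLP a :=
  ⟨relLP_of_isRelLimitPreserving a, isRelLimitPreserving_of_relLP a⟩

theorem comp_app_apply {F G H : AlgSp.PSp S} (a : F ⟶ G) (b : G ⟶ H) (X : (Over S)ᵒᵖ)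
    (x : F.obj X) : (a ≫ b).app X x = b.app X (a.app X x) := rfl

theorem RelLP.comp {F G H : AlgSp.PSp S} (a : F ⟶ G) (b : G ⟶ H) (ha : RelLP a)
    (hb : RelLP b) : RelLP (a ≫ b) := by
  intro I _ _ D c hc hD hT
  obtain ⟨has, hai⟩ := ha D c hc hD hT
  obtain ⟨hbs, hbi⟩ := hb D c hc hD hT
  constructor
  · intro x i z hxz
    obtain ⟨j, f, yj, h1, h2⟩ := hbs (a.app _ x) i z hxz
    obtain ⟨k, g, xk, h3, h4⟩ := has x j yj h1.symm
    refine ⟨k, g ≫ f, xk, h3, ?_⟩
    rw [comp_app_apply, h4, NatTrans.naturality_apply, h2, map_map, ← Functor.map_comp]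
  · intro i x x' hxx' hres
    obtain ⟨j, f, hj⟩ := hbi i (a.app _ x) (a.app _ x') hxx' (by
      rw [← NatTrans.naturality_apply, ← NatTrans.naturality_apply, hres])
    obtain ⟨k, g, hk⟩ := hai j (F.map (D.map f).op x) (F.map (D.map f).op x') (by
      rw [NatTrans.naturality_apply, NatTrans.naturality_apply, hj]) (by
      rw [map_map, map_map, c.w, hres])
    refine ⟨k, g ≫ f, ?_⟩
    rw [Functor.map_comp, ← map_map, ← map_map (H := F), hk]

theorem RelLP.of_comp {F G H : AlgSp.PSp S} (a : F ⟶ G) (b : G ⟶ H) (hab : RelLP (a ≫ b))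
    (hb : RelLP b) : RelLP a := by
  intro I _ _ D c hc hD hT
  obtain ⟨habs, habi⟩ := hab D c hc hD hT
  obtain ⟨hbs, hbi⟩ := hb D c hc hD hT
  constructor
  · intro x i y hxy
    obtain ⟨j, f, xj, h1, h2⟩ := habs x i (b.app _ y) (by
      rw [comp_app_apply, hxy, NatTrans.naturality_apply])
    obtain ⟨k, g, hk⟩ := hbi j (a.app _ xj) (G.map (D.map f).op y) (by
      rw [← comp_app_apply, h2, NatTrans.naturality_apply]) (by
      have e1 : G.map (c.π.app j).op (a.app _ xj) = a.app (op c.pt) (F.map (c.π.app j).op xj) :=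
        (NatTrans.naturality_apply a _ _).symm
      have e2 : G.map (c.π.app j).op (G.map (D.map f).op y) = G.map (c.π.app i).op y := by
        rw [map_map, c.w]
      have e3 : a.app (op c.pt) (F.map (c.π.app j).op xj) = a.app (op c.pt) x :=
        congrArg (fun t => a.app (op c.pt) t) h1
      exact e1.trans (e3.trans (hxy.trans e2.symm)))
    refine ⟨k, g ≫ f, F.map (D.map g).op xj, ?_, ?_⟩
    · rw [map_map, c.w, h1]
    · rw [NatTrans.naturality_apply, hk, map_map, ← Functor.map_comp]
  · intro i x x' hxx' hres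
    exact habi i x x' (by rw [comp_app_apply, comp_app_apply, hxx']) hres

theorem nat_comp {E F G : AlgSp.PSp S} (a : F ⟶ G) (c : G ⟶ E) {X Y : Over S} (m : X ⟶ Y)
    (x : F.obj (op Y)) :
    c.app _ (a.app _ (F.map m.op x)) = E.map m.op ((a ≫ c).app _ x) := by
  rw [← comp_app_apply, NatTrans.naturality_apply]

theorem RelLP.pullback {E F G H P : AlgSp.PSp S} (a : F ⟶ G) (b : H ⟶ G) (c : G ⟶ E)
    (fst : P ⟶ F) (snd : P ⟶ H) (hP : IsPullback fst snd a b)
    (hc : RelLP c) (hac : RelLP (a ≫ c)) (hbc : RelLP (b ≫ c)) :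
    RelLP (fst ≫ a ≫ c) := by
  intro I _ _ D t ht hD hT
  obtain ⟨hcs, hci⟩ := hc D t ht hD hT
  obtain ⟨hacs, haci⟩ := hac D t ht hD hT
  obtain ⟨hbcs, hbci⟩ := hbc D t ht hD hT
  have hw : ∀ (X : (Over S)ᵒᵖ) (p : P.obj X), a.app X (fst.app X p) = b.app X (snd.app X p) :=
    fun X p => congrArg (fun m => m.app X p) hP.w
  constructor
  · intro p i e hpe
    -- lift the two components
    obtain ⟨j, f, xj, h1, h2⟩ := hacs (fst.app _ p) i e hpe
    obtain ⟨j', f', hj', h1', h2'⟩ := hbcs (snd.app _ p) i e (by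
      rw [comp_app_apply, ← hw]; exact hpe)
    obtain ⟨k, g, g', hk⟩ := IsCofiltered.cospan f f'
    -- `a x_k` and `b h_k` agree after a further refinement
    obtain ⟨l, q, hl⟩ := hci k (a.app _ (F.map (D.map g).op xj))
      (b.app _ (H.map (D.map g').op hj')) (by
        rw [nat_comp, nat_comp, h2, h2', map_map, map_map, ← Functor.map_comp,
          ← Functor.map_comp, hk]) (by
        rw [← NatTrans.naturality_apply, ← NatTrans.naturality_apply, map_map, map_map,
          t.w, t.w]
        have e1 : a.app (op t.pt) (F.map (t.π.app j).op xj) = a.app (op t.pt) (fst.app _ p) :=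
          congrArg (fun z => a.app (op t.pt) z) h1
        have e2 : b.app (op t.pt) (H.map (t.π.app j').op hj') =
            b.app (op t.pt) (snd.app _ p) := congrArg (fun z => b.app (op t.pt) z) h1'
        exact e1.trans ((hw _ p).trans e2.symm))
    obtain ⟨pl, hpl1, hpl2⟩ := Types.exists_of_isPullback (hP.app (op (D.obj l)))
      (F.map (D.map q).op (F.map (D.map g).op xj)) (H.map (D.map q).op (H.map (D.map g').op hj'))
      ((NatTrans.naturality_apply a _ _).trans (hl.trans (NatTrans.naturality_apply b _ _).symm))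
    refine ⟨l, q ≫ g ≫ f, pl, ?_, ?_⟩
    · apply Types.ext_of_isPullback (hP.app (op t.pt))
      · refine (NatTrans.naturality_apply fst _ _).trans ?_
        rw [hpl1, map_map, map_map, t.w, t.w]
        exact h1
      · refine (NatTrans.naturality_apply snd _ _).trans ?_
        rw [hpl2, map_map, map_map, t.w, t.w]
        exact h1'
    · have e1 : (fst ≫ a ≫ c).app _ pl = (a ≫ c).app _ (fst.app _ pl) := rfl
      rw [e1, hpl1, NatTrans.naturality_apply, NatTrans.naturality_apply, h2, map_map, map_map,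
        ← Functor.map_comp, ← Functor.map_comp, Category.assoc]
  · intro i p p' hpp' hres
    have hpp1 : (a ≫ c).app _ (fst.app _ p) = (a ≫ c).app _ (fst.app _ p') := hpp'
    obtain ⟨j, f, hj⟩ := haci i (fst.app _ p) (fst.app _ p') hpp1 (by
      rw [← NatTrans.naturality_apply, ← NatTrans.naturality_apply, hres])
    obtain ⟨j', f', hj'⟩ := hbci i (snd.app _ p) (snd.app _ p') (by
      rw [comp_app_apply, comp_app_apply, ← hw, ← hw]; exact hpp1) (by
      rw [← NatTrans.naturality_apply, ← NatTrans.naturality_apply, hres])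
    obtain ⟨k, g, g', hk⟩ := IsCofiltered.cospan f f'
    refine ⟨k, g ≫ f, ?_⟩
    apply Types.ext_of_isPullback (hP.app (op (D.obj k)))
    · refine (NatTrans.naturality_apply fst _ _).trans
        (Eq.trans ?_ (NatTrans.naturality_apply fst _ _).symm)
      rw [Functor.map_comp, ← map_map, ← map_map (H := F), hj]
    · refine (NatTrans.naturality_apply snd _ _).trans
        (Eq.trans ?_ (NatTrans.naturality_apply snd _ _).symm)
      rw [hk, Functor.map_comp, ← map_map, ← map_map (H := H), hj']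

end Groth.Agent.Helper2.RelLP
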