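import Mathlib
import Groth.Prelude.Def_AlgSpMor5
import Groth.Agent.Lib.Helper2.AlgSp.FiniteMor

/-!
# The normalization of `X` in `Y` is also the normalization of any intermediate integral `Z`
-/

namespace Groth.Agent.Helper2.RelNormFactor
open CategoryTheory CategoryTheory.Limits AlgebraicGeometry Opposite AlgSp
open Groth.Agent.Helper2.AlgSpBasic
universe u
variable {S : Scheme.{u}}

theorem main {Y X X' Z : Space S} (f : Y ⟶ X) (ν : X' ⟶ X) (f' : Y ⟶ X')
    (hn : IsRelNormalization f.hom ν.hom f'.hom) (π : Z ⟶ X) (hπ : IsIntegralMor π.hom)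
    (g : Y ⟶ Z) (hg : g ≫ π = f) (h : X' ⟶ Z) (h1 : f' ≫ h = g) (h2 : h ≫ π = ν) :
    IsRelNormalization g.hom h.hom f'.hom := by
  obtain ⟨hn1, hn2, hn3⟩ := hn
  have hg' : g.hom ≫ π.hom = f.hom := congrArg (fun m => m.hom) hg
  have h1' : f'.hom ≫ h.hom = g.hom := congrArg (fun m => m.hom) h1
  have h2' : h.hom ≫ π.hom = ν.hom := congrArg (fun m => m.hom) h2
  refine ⟨h1', ?_, ?_⟩
  · have hsep : IsSeparatedMor π.hom :=
      isSeparatedMor_of_isAffineMor Z.property (isAffineMor_of_isIntegralMor hπ)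
    have hc : IsAffQMor @IsIntegralHom (h.hom ≫ π.hom) := by rw [h2']; exact hn2
    exact isAffQMor_of_comp_of_isSeparatedMor @IsIntegralHom (fun j hj => inferInstance)
      h.hom π.hom hsep hc
  · intro W hW π' g' hπ' hg''
    have hint : IsIntegralMor (π' ≫ π.hom) := isAffQMor_comp @IsIntegralHom hπ' hπ
    obtain ⟨h', ⟨hh1, hh2⟩, huniq⟩ := hn3 hW (π' ≫ π.hom) g' hint
      (by rw [← Category.assoc, hg'', hg'])
    obtain ⟨h₀, -, hu₀⟩ := hn3 Z.property π.hom g.hom hπ hg'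
    have e1 : h' ≫ π' = h₀ :=
      hu₀ _ ⟨by rw [← Category.assoc, hh1, hg''], by rw [Category.assoc, hh2]⟩
    have e2 : h.hom = h₀ := hu₀ _ ⟨h1', h2'⟩
    refine ⟨h', ⟨hh1, e1.trans e2.symm⟩, ?_⟩
    rintro h'' ⟨k1, k2⟩
    exact huniq h'' ⟨k1, by rw [← Category.assoc, k2, h2']⟩

end Groth.Agent.Helper2.RelNormFactor
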