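import Mathlib
import Groth.Prelude.Def_AlgSpMor5
import Groth.Agent.Lib.Helper2.AlgSp.FiniteMor
import Groth.Agent.Lib.Helper2.AlgSp.FinLocFree

/-!
# The relative normalization of schemes is the normalization in the sense of algebraic spaces
-/

namespace Groth.Agent.Helper2.RelNormScheme
open CategoryTheory CategoryTheory.Limits AlgebraicGeometry Opposite AlgSp
open Groth.Agent.Helper2.AlgSpBasic
universe u
variable {S : Scheme.{u}}

/-- An integral morphism to a representable sheaf has a representable source. -/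
theorem exists_iso_yon_of_isIntegralMor {Z : Sp S} {U : Over S} (π : Z ⟶ (yon S).obj U)
    (hπ : IsIntegralMor π) :
    ∃ (W : Over S) (θ : (yon S).obj W ≅ Z) (p : W ⟶ U), θ.hom ≫ π = (yon S).map p ∧
      IsIntegralHom p.left := by
  have hR : RepWith @IsIntegralHom π :=
    Groth.Agent.Helper2.FinLocFree.repWith_of_isAffQMor @IsIntegralHom hπ
  have hrep := hR.rep
  have sq := hrep.isPullback (𝟙 ((yon S).obj U))
  have hiso : IsIso (hrep.fst (𝟙 ((yon S).obj U))) := sq.isIso_fst_of_isIso
  refine ⟨hrep.pullback (𝟙 _), asIso (hrep.fst (𝟙 _)), hrep.snd (𝟙 _), ?_,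
    hR.property _ _ _ sq⟩
  rw [asIso_hom, sq.w, Category.comp_id]


theorem main {V U N : Over S} (g : V ⟶ U) [QuasiCompact g.left] [QuasiSeparated g.left]
    (f' : V ⟶ N) (ν : N ⟶ U) (e : N.left ≅ g.left.normalization)
    (he1 : f'.left ≫ e.hom = g.left.toNormalization)
    (he2 : e.hom ≫ g.left.fromNormalization = ν.left) :
    IsRelNormalization ((yon S).map g) ((yon S).map ν) ((yon S).map f') := by
  have hfg : f' ≫ ν = g := by
    apply Over.OverMorphism.ext
    rw [Over.comp_left, ← he2, ← Category.assoc, he1,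
      Scheme.Hom.toNormalization_fromNormalization]
  have hνint : IsIntegralHom ν.left := by rw [← he2]; infer_instance
  refine ⟨by rw [← Functor.map_comp, hfg], ?_, ?_⟩
  · exact Groth.Agent.Helper2.FinLocFree.isAffQMor_of_repWith @IsIntegralHom
      (fun _ _ _ h => by
        have : IsIntegralHom _ := h
        infer_instance) ((repWith_yon_map_iff @IsIntegralHom ν).2 hνint)
  · intro Z hZ π γ hπ hγ
    obtain ⟨W, θ, p, hθ, hp⟩ := exists_iso_yon_of_isIntegralMor π hπ
    obtain ⟨q, hq⟩ := (yon S).map_surjective (γ ≫ θ.inv)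
    have hqp : q ≫ p = g := (yon S).map_injective (by
      rw [Functor.map_comp, hq, ← hθ, Category.assoc, Iso.inv_hom_id_assoc, hγ])
    have H : g.left = q.left ≫ p.left := by rw [← Over.comp_left, hqp]
    obtain ⟨d, hd1, hd2⟩ : ∃ d : g.left.normalization ⟶ W.left,
        g.left.toNormalization ≫ d = q.left ∧ d ≫ p.left = g.left.fromNormalization :=
      ⟨g.left.normalizationDesc q.left p.left H,
        Scheme.Hom.toNormalization_normalizationDesc _ _ _ H,
        Scheme.Hom.normalizationDesc_comp _ _ _ H⟩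
    have hw : (e.hom ≫ d) ≫ W.hom = N.hom := by
      rw [← Over.w p, ← Category.assoc, Category.assoc e.hom, hd2, he2, Over.w ν]
    obtain ⟨r, hr⟩ : ∃ r : N ⟶ W, r.left = e.hom ≫ d := ⟨Over.homMk _ hw, rfl⟩
    have hr1 : f' ≫ r = q := by
      apply Over.OverMorphism.ext
      rw [Over.comp_left, hr, ← Category.assoc, he1, hd1]
    have hr2 : r ≫ p = ν := by
      apply Over.OverMorphism.ext
      rw [Over.comp_left, hr, Category.assoc, hd2, he2]
    refine ⟨(yon S).map r ≫ θ.hom, ⟨?_, ?_⟩, ?_⟩
    · rw [← Category.assoc, ← Functor.map_comp, hr1, hq, Category.assoc, Iso.inv_hom_id,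
        Category.comp_id]
    · rw [Category.assoc, hθ, ← Functor.map_comp, hr2]
    · rintro h' ⟨k1, k2⟩
      obtain ⟨r', hr'⟩ := (yon S).map_surjective (h' ≫ θ.inv)
      have hr'1 : f' ≫ r' = q := (yon S).map_injective (by
        rw [Functor.map_comp, hr', ← Category.assoc, k1, hq])
      have hr'2 : r' ≫ p = ν := (yon S).map_injective (by
        rw [Functor.map_comp, hr', ← hθ, Category.assoc, Iso.inv_hom_id_assoc, k2])
      have hpaff : IsAffineHom p.left := inferInstance
      have hd' : e.inv ≫ r'.left = d := by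
        refine Scheme.Hom.normalization.hom_ext g.left _ _ p.left ?_ ?_ hd2
        · rw [hd1, ← he1, Category.assoc, Iso.hom_inv_id_assoc, ← Over.comp_left, hr'1]
        · rw [Category.assoc, ← Over.comp_left, hr'2, ← he2, Iso.inv_hom_id_assoc]
      have hrr : r' = r := by
        apply Over.OverMorphism.ext
        rw [hr, ← hd', Iso.hom_inv_id_assoc]
      calc h' = (h' ≫ θ.inv) ≫ θ.hom := by rw [Category.assoc, Iso.inv_hom_id, Category.comp_id]
        _ = (yon S).map r ≫ θ.hom := by rw [← hr', hrr]

end Groth.Agent.Helper2.RelNormScheme
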