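import Mathlib
import Groth.Agent.Lib.Helper2.AlgSp.RepDesc2

/-!
# Representability of a map of sheaves from a chart and effectivity of descent (helper2)
-/

set_option autoImplicit false
set_option backward.isDefEq.respectTransparency false
set_option linter.unusedSectionVars false
set_option linter.style.haveILetI false
universe u
open CategoryTheory CategoryTheory.Limits AlgebraicGeometry Opposite AlgSp Desc

namespace Groth.Agent.Helper2.AlgSpDesc

open Groth.Agent.Helper2.AlgSpBasic

variable {S : Scheme.{u}}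

/-- Let `f : G ⟶ F` be a map of fppf sheaves and `q : h_U ⟶ F` a representable flat surjective
finitely presented chart such that the base change of `f` along `q` is a morphism of schemes
`g : V ⟶ U` with a property `P` for which descent along fppf covers is effective.  Then `f` is
representable. -/
theorem representable_of_chart (P : MorphismProperty Scheme.{u}) [P.IsStableUnderBaseChange]
    (hdesc : ∀ ⦃X' S' : Scheme.{u}⦄ (p : X' ⟶ S'), Surjective p → Flat p →
      LocallyOfFinitePresentation p → ∀ D : Desc.SchDD p, P D.obj.hom →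
        ∃ U₀ : Over S', Nonempty ((Desc.toDD p).obj U₀ ≅ D))
    {F G : Sp S} (f : G ⟶ F) {U V : Over S} (q : (yon S).obj U ⟶ F) (hqr : Representable q)
    (hqfl : RepWith @Flat q) (hqlfp : RepWith @LocallyOfFinitePresentation q)
    (hqs : RepWith @Surjective q) (fst : (yon S).obj V ⟶ G) (g : V ⟶ U)
    (sq : IsPullback fst ((yon S).map g) f q) (hP : P g.left) : Representable f := by
  intro T ξ
  -- the chart of `T`
  obtain ⟨T', u, c, sqT⟩ : ∃ (T' : Over S) (u : T' ⟶ U) (c : T' ⟶ T),
      IsPullback ((yon S).map u) ((yon S).map c) q ξ :=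
    ⟨hqr.pullback ξ, hqr.fst' ξ, hqr.snd ξ, hqr.isPullback' ξ⟩
  have hcf : Flat c.left := hqfl.property ξ ((yon S).map u) c sqT
  have hcl : LocallyOfFinitePresentation c.left := hqlfp.property ξ ((yon S).map u) c sqT
  have hcs : Surjective c.left := hqs.property ξ ((yon S).map u) c sqT
  -- the base change of `g`
  obtain ⟨V', r, i', sqV'⟩ : ∃ (V' : Over S) (r : V' ⟶ V) (i' : V' ⟶ T'), IsPullback r i' g u :=
    ⟨pullback g u, pullback.fst g u, pullback.snd g u, IsPullback.of_hasPullback g u⟩
  have hPi' : P i'.left := P.of_isPullback (sqV'.map (Over.forget S)) hP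
  -- the sheaf `E = G ×_F h_T`
  have sqE := IsPullback.of_hasPullback f ξ
  have hbig : IsPullback ((yon S).map r ≫ fst) ((yon S).map i') f ((yon S).map u ≫ q) :=
    (sqV'.map (yon S)).paste_horiz sq
  have hcond : ((yon S).map r ≫ fst) ≫ f = ((yon S).map i' ≫ (yon S).map c) ≫ ξ := by
    rw [hbig.w, Category.assoc, sqT.w]
  obtain ⟨fst', hfst'⟩ : ∃ fst' : (yon S).obj V' ⟶ pullback f ξ,
      fst' = sqE.lift _ _ hcond := ⟨_, rfl⟩
  have h1 : fst' ≫ pullback.fst f ξ = (yon S).map r ≫ fst := by rw [hfst', sqE.lift_fst]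
  have h2 : fst' ≫ pullback.snd f ξ = (yon S).map i' ≫ (yon S).map c := by
    rw [hfst', sqE.lift_snd]
  have sq' : IsPullback fst' ((yon S).map i') (pullback.snd f ξ) ((yon S).map c) := by
    refine IsPullback.of_right ?_ h2 sqE
    rw [h1, ← sqT.w]
    exact hbig
  obtain ⟨W, k, q', e, he, hek, -, -⟩ := exists_rep_of_fppf_cover c (pullback.snd f ξ) fst' i' sq'
    hcf hcs hcl P (fun D hD => hdesc c.left hcs hcf hcl D hD) hPi'
  haveI := he
  refine ⟨W, k, e ≫ pullback.fst f ξ, ?_⟩
  refine IsPullback.of_iso sqE (asIso e).symm (Iso.refl _) (Iso.refl _) (Iso.refl _) ?_ ?_ ?_ ?_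
  · simp
  · simp only [Iso.refl_hom, Category.comp_id, Iso.symm_hom, asIso_inv, IsIso.eq_inv_comp]
    exact hek
  · simp
  · simp

end Groth.Agent.Helper2.AlgSpDesc
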