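import Mathlib
import Groth.Prelude.Def_AlgSp4
import Groth.Prelude.Def_AlgSpDec
import Groth.Agent.Lib.Helper2.AlgSp.MonoField
import Groth.Agent.Lib.Helper2.AlgSp.ReducedFactor
import Groth.Agent.Lib.Helper2.AlgSp.NoethDescent
import Groth.Agent.Lib.Helper2.AlgSp.ChartIndep
import Groth.Agent.Lib.Helper2.AlgSp.FormalLift
import Groth.Agent.Lib.Helper2.Sch.ResFieldFactorSch

/-!
# The universal property of the residual space (helper2)
-/

set_option autoImplicit false
set_option backward.isDefEq.respectTransparency false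

open CategoryTheory CategoryTheory.Limits AlgebraicGeometry Opposite AlgSp

namespace Groth.Agent.Helper2.ResidualUniv
universe u
variable {S : Scheme.{u}}

open Groth.Agent.Helper2.AlgSpBasic Groth.Agent.Helper2.AlgSpFormal

/-- In an étale chart of a locally Noetherian algebraic space, there are no specializations
among the points lying over a given point of the space. -/
theorem eq_of_specializes {X : Sp S} (hX : IsAlgSpace X) (hN : IsLocNoethSp X) {U : Over S}
    (a : (yon S).obj U ⟶ X) (ha : RepWith @Etale a) (u u' : ↥U.left)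
    (he : Points.ofPt a u = Points.ofPt a u') (hs : u ⤳ u') : u = u' := by
  haveI : IsLocallyNoetherian U.left := isLocallyNoetherian_of_etale_of_isLocNoethSp hN a ha
  obtain ⟨R, p₁, p₂, sq⟩ := exists_isPullback_yon hX.diag a a
  obtain ⟨r, hr1, hr2⟩ := exists_point_of_isPullback_yon a a p₁ p₂ sq u u' he
  haveI : Etale p₂.left := ha.property a _ _ sq
  haveI : Etale p₁.left := ha.property a _ _ sq.flip
  have d1 := ChartIndep.ringKrullDim_stalk_eq_of_etale p₁.left r
  have d2 := ChartIndep.ringKrullDim_stalk_eq_of_etale p₂.left r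
  rw [hr1] at d1
  rw [hr2] at d2
  have d : ringKrullDim ↥(U.left.presheaf.stalk u) = ringKrullDim ↥(U.left.presheaf.stalk u') :=
    d1.symm.trans d2
  by_contra hne
  have hlt : u' < u := by
    refine lt_of_le_not_ge hs ?_
    intro h'
    have h'' : u' ⤳ u := h'
    exact hne (hs.antisymm h'').eq
  have h3 : Order.coheight u + 1 ≤ Order.coheight u' := Order.coheight_add_one_le hlt
  have hfin : ringKrullDim ↥(U.left.presheaf.stalk u') < ⊤ := ringKrullDim_lt_top
  rw [ringKrullDim_stalk_eq_coheight, ringKrullDim_stalk_eq_coheight] at d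
  rw [ringKrullDim_stalk_eq_coheight] at hfin
  have d' : Order.coheight u = Order.coheight u' := by exact_mod_cast d
  have hfin' : Order.coheight u' ≠ ⊤ := by
    intro h
    rw [h] at hfin
    exact absurd hfin (by simp)
  rw [d', ENat.add_one_le_iff hfin'] at h3
  exact lt_irrefl _ h3

/-- A field-valued point lying over the unique point in the image of a monomorphism of algebraic
spaces factors through it. -/
theorem exists_factor_fieldPt {X Z : Sp S} (hX : IsAlgSpace X) (hZ : IsAlgSpace Z) (i : Z ⟶ X)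
    [Mono i] (x : Points X) (hi : Set.range (Points.map i) = {x}) {K : Type u} [Field K]
    (str : Spec (CommRingCat.of K) ⟶ S) (ξ : (yon S).obj (Over.mk str) ⟶ X)
    (hξ : Points.ofPt ξ (IsLocalRing.closedPoint K) = x) : ∃ l, l ≫ i = ξ := by
  have sq := IsPullback.of_hasPullback i ξ
  have hP : IsAlgSpace (pullback i ξ) :=
    isAlgSpace_of_isPullback hX.diag hZ (IsAlgSpace.yon_obj _) i ξ _ _ sq
  rcases isEmpty_or_isIso_of_mono_to_field hP str (pullback.snd i ξ) with h | h
  · exfalso
    obtain ⟨z, hz⟩ : ∃ z, Points.map i z = x := by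
      have : x ∈ Set.range (Points.map i) := by rw [hi]; rfl
      exact this
    obtain ⟨q, -, -⟩ := points_exists_of_isPullback ξ i (pullback.fst i ξ) (pullback.snd i ξ) sq z
      (Points.ofScheme _ (IsLocalRing.closedPoint K)) (by
        rw [hz, ← Points.ofPt_eq_map_ofScheme, hξ])
    exact h.false q
  · exact ⟨inv (pullback.snd i ξ) ≫ pullback.fst i ξ, by
      rw [Category.assoc, pullback.condition, IsIso.inv_hom_id_assoc]⟩

/-- The universal property of the residual space: a morphism from a reduced space to a locally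
Noetherian space whose image is contained in `{x}` factors through any monomorphism with image
`{x}`. -/
theorem exists_factor_residual {Y X Z : Sp S} (hY : IsAlgSpace Y) (hX : IsAlgSpace X)
    (hZ : IsAlgSpace Z) (f : Y ⟶ X) (x : Points X) (hf : ∀ y, Points.map f y = x)
    (hYr : EtaleLocally (fun U => IsReduced U) Y) (hN : IsLocNoethSp X) (i : Z ⟶ X) [Mono i]
    (hi : Set.range (Points.map i) = {x}) : ∃ g : Y ⟶ Z, g ≫ i = f := by
  obtain ⟨V, bY, hbYe, hbYs, hVr⟩ := hYr
  haveI : IsReduced V.left := hVr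
  obtain ⟨U, a, hae, has⟩ := hX.atlas
  haveI : IsLocallyNoetherian U.left := isLocallyNoetherian_of_etale_of_isLocNoethSp hN a hae
  obtain ⟨V', π₁, π₂, sqV⟩ := exists_isPullback_yon hX.diag (bY ≫ f) a
  haveI : Etale π₁.left := hae.property (bY ≫ f) ((yon S).map π₂) π₁ sqV.flip
  haveI : IsReduced V'.left := SchLib.isReduced_of_smooth π₁.left
  haveI : Surjective π₁.left := has.property (bY ≫ f) ((yon S).map π₂) π₁ sqV.flip
  let E : Set ↥U.left := {u | Points.ofPt a u = x}
  have hE : ∀ u ∈ E, ∀ u' ∈ E, u ⤳ u' → u = u' := fun u hu u' hu' hs =>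
    eq_of_specializes hX hN a hae u u' (hu.trans hu'.symm) hs
  have hπ₂ : ∀ t, π₂.left t ∈ E := by
    intro t
    change Points.ofPt a (π₂.left t) = x
    rw [← ofPt_yon_map_comp, ← sqV.w, ofPt_yon_map_comp, ← Points.map_ofPt]
    exact hf _
  have hloc := fun t => ResFieldFactor.nonempty_localFactor π₂.left E hE hπ₂ t
  let D : ∀ t, ResFieldFactor.LocalFactor π₂.left t := fun t => (hloc t).some
  obtain ⟨w, hw⟩ : ∃ w : ∀ t, (D t).W ⟶ V'.left, w = fun t => (D t).w := ⟨_, rfl⟩
  have hwO : ∀ t, IsOpenImmersion (w t) := fun t => by rw [hw]; infer_instance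
  have hwt : ∀ t, t ∈ Set.range (w t) := fun t => by rw [hw]; exact (D t).mem
  obtain ⟨K, hKdef⟩ : ∃ K : ↥V'.left → Type u, K = fun t => (D t).K := ⟨_, rfl⟩
  subst hKdef
  obtain ⟨φ, hφdef⟩ : ∃ φ : ∀ t, (D t).W ⟶ Spec (CommRingCat.of (D t).K), φ = fun t => (D t).φ :=
    ⟨_, rfl⟩
  obtain ⟨j, hjdef⟩ : ∃ j : ∀ t, Spec (CommRingCat.of (D t).K) ⟶ U.left, j = fun t => (D t).j :=
    ⟨_, rfl⟩
  have hwj : ∀ t, w t ≫ π₂.left = φ t ≫ j t := fun t => by
    rw [hw, hφdef, hjdef]; exact (D t).comm
  let WO : ↥V'.left → Over S := fun t => Over.mk (w t ≫ V'.hom)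
  let p : ∀ t, WO t ⟶ V' := fun t => Over.homMk (w t) rfl
  let strK : ∀ t, Spec (CommRingCat.of (D t).K) ⟶ S := fun t => j t ≫ U.hom
  let jO : ∀ t, Over.mk (strK t) ⟶ U := fun t => Over.homMk (j t) rfl
  let φO : ∀ t, WO t ⟶ Over.mk (strK t) := fun t => Over.homMk (φ t) (by
    change φ t ≫ j t ≫ U.hom = w t ≫ V'.hom
    rw [← Category.assoc, ← hwj t, Category.assoc, Over.w π₂])
  have hφj : ∀ t, φO t ≫ jO t = p t ≫ π₂ := fun t => Over.OverMorphism.ext (hwj t).symm
  have hfac : ∀ t, ∃ l : (yon S).obj (Over.mk (strK t)) ⟶ Z,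
      l ≫ i = (yon S).map (jO t) ≫ a := by
    intro t
    refine exists_factor_fieldPt hX hZ i x hi (strK t) _ ?_
    rw [ofPt_yon_map_comp]
    obtain ⟨w₀, hw₀⟩ := hwt t
    have h1 : φ t w₀ = IsLocalRing.closedPoint (D t).K :=
      Subsingleton.elim (α := PrimeSpectrum (D t).K) _ _
    have h2 : (jO t).left (IsLocalRing.closedPoint (D t).K) = π₂.left t := by
      change (j t) (IsLocalRing.closedPoint (D t).K) = π₂.left t
      rw [← h1, ← Scheme.Hom.comp_apply, ← hwj t, Scheme.Hom.comp_apply, hw₀]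
    rw [h2]
    exact hπ₂ t
  choose l hl using hfac
  have hgi : ∀ t, ((yon S).map (φO t) ≫ l t) ≫ i = (yon S).map (p t) ≫ (yon S).map π₂ ≫ a := by
    intro t
    rw [Category.assoc, hl t, ← Category.assoc, ← Functor.map_comp, hφj, Functor.map_comp,
      Category.assoc]
  have hfppf : ∀ t, (@Flat ⊓ @LocallyOfFinitePresentation : MorphismProperty Scheme.{u})
      (p t).left := by
    intro t
    haveI : IsOpenImmersion (w t) := hwO t
    exact ⟨inferInstanceAs (Flat (w t)), inferInstanceAs (LocallyOfFinitePresentation (w t))⟩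
  have hcov : ∀ y : ↥V'.left, ∃ t, y ∈ Set.range (p t).left := fun y => ⟨y, hwt y⟩
  obtain ⟨g', hg'⟩ := exists_glue_of_family WO p hfppf hcov
    (fun t => (yon S).map (φO t) ≫ l t) (by
      intro t t' Q qi qj e
      have hgi' : ∀ t, (yon S).map (φO t) ≫ l t ≫ i =
          (yon S).map (p t) ≫ (yon S).map π₂ ≫ a := fun t => by
        rw [← Category.assoc]; exact hgi t
      rw [← cancel_mono i]
      simp only [Category.assoc]
      rw [hgi' t, hgi' t', ← Category.assoc, ← Category.assoc ((yon S).map qj),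
        ← Functor.map_comp, ← Functor.map_comp, e])
  have hg'i : g' ≫ i = (yon S).map π₂ ≫ a := by
    refine hom_ext_of_family WO p hfppf hcov _ _ (fun t => ?_)
    rw [← Category.assoc, hg' t, hgi t]
  have hbYflat : RepWith @Flat ((yon S).map π₁ ≫ bY) ∧
      RepWith @LocallyOfFinitePresentation ((yon S).map π₁ ≫ bY) ∧
      RepWith @Surjective ((yon S).map π₁ ≫ bY) := by
    have h1 : RepWith @Etale ((yon S).map π₁ ≫ bY) :=
      repWith_comp @Etale ((repWith_yon_map_iff @Etale π₁).2 inferInstance) hbYe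
    refine ⟨repWith_flat_of_etale h1, ?_, ?_⟩
    · exact repWith_mono (fun _ _ g (hg : Etale g) =>
        (inferInstance : LocallyOfFinitePresentation g)) h1
    · exact repWith_comp @Surjective
        ((repWith_yon_map_iff @Surjective π₁).2 inferInstance) hbYs
  haveI : Sheaf.IsLocallySurjective ((yon S).map π₁ ≫ bY) :=
    isLocallySurjective_of_fppf _ hbYflat.1 hbYflat.2.1 hbYflat.2.2
  haveI : Epi ((yon S).map π₁ ≫ bY) := inferInstance
  refine ReducedFactor.exists_factor_of_epi ((yon S).map π₁ ≫ bY) i f g' ?_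
  rw [hg'i, Category.assoc]
  exact sqV.w.symm

end Groth.Agent.Helper2.ResidualUniv
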