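import Mathlib
import Groth.Prelude.Def_AlgSp4
import Groth.Prelude.Def_AlgSpDec
import Groth.Agent.Lib.Helper2.AlgSp.ResidualUniv
import Groth.Agent.Lib.Helper2.AlgSp.RedInduced
import Groth.Agent.Lib.Helper2.AlgSp.Mor2

/-!
# The residual space at a closed point of a locally Noetherian space (helper2)
-/

set_option autoImplicit false
set_option backward.isDefEq.respectTransparency false

open CategoryTheory CategoryTheory.Limits AlgebraicGeometry Opposite AlgSp

namespace Groth.Agent.Helper2.ResidualUniv
universe u
variable {S : Scheme.{u}}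

open Groth.Agent.Helper2.AlgSpBasic

/-- `S10416`. -/
theorem isClosed_iff_isClosedImmersion {X Z : Sp S} (hX : IsAlgSpace X) (hZ : IsAlgSpace Z)
    (hN : IsLocNoethSp X) (x : Points X) (i : Z ⟶ X) [Mono i]
    (hi : Set.range (Points.map i) = {x})
    (hZf : ∃ (k : Type u) (_ : Field k) (str : Spec (CommRingCat.of k) ⟶ S)
      (p : (yon S).obj (Over.mk str) ⟶ Z),
        LocP @LocallyOfFinitePresentation p ∧ LocP @Flat p ∧ IsSurjectiveMor p) :
    IsClosed ({x} : Set (Points X)) ↔ RepWith @IsClosedImmersion i := by
  constructor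
  · intro hcl
    obtain ⟨C, hC, jC, hjci, hjr, hCred⟩ := RedInduced.main192 hX {x} hcl
    haveI : Mono jC := mono_of_repWith_monomorphisms jC
      (repWith_mono (fun _ _ g (hg : IsClosedImmersion g) => (inferInstance : Mono g)) hjci)
    have hf : ∀ y, Points.map jC y = x := by
      intro y
      have : Points.map jC y ∈ ({x} : Set (Points X)) := hjr ▸ Set.mem_range_self y
      exact this
    obtain ⟨g, hg⟩ := exists_factor_residual hC hX hZ jC x hf hCred hN i hi
    haveI : Mono (g ≫ i) := by rw [hg]; infer_instance
    haveI : Mono g := mono_of_mono g i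
    obtain ⟨k, _, str, p, hp1, hp2, hp3⟩ := hZf
    rcases isEmpty_or_isIso_of_mono_of_fieldPt hC hZ g str p hp1 hp2 hp3 with h | h
    · exfalso
      have : x ∈ Set.range (Points.map jC) := by rw [hjr]; rfl
      obtain ⟨c, -⟩ := this
      exact h.false c
    · have hi' : i = inv g ≫ jC := by rw [← hg, IsIso.inv_hom_id_assoc]
      rw [hi']
      exact repWith_comp @IsClosedImmersion (repWith_of_isIso @IsClosedImmersion (inv g)) hjci
  · intro hci
    have him : RepWith @IsImmersion i :=
      repWith_mono (fun _ _ g (hg : IsClosedImmersion g) => (inferInstance : IsImmersion g)) hci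
    have := (repWith_isClosedImmersion_iff_isClosed_range hX i him).1 hci
    rwa [hi] at this

end Groth.Agent.Helper2.ResidualUniv
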