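import Mathlib
import Groth.Prelude.Def_AlgSp4
import Groth.Prelude.Def_AlgSpDec
import Groth.Agent.Lib.Helper2.AlgSp.FieldFibre
import Groth.Agent.Lib.Helper2.AlgSp.EtEqvQuot
import Groth.Agent.Lib.Helper2.AlgSp.LocP
import Groth.Agent.Lib.Helper2.AlgSp.PointsMor

/-!
# The residual space of an algebraic space at a point (helper2)
-/

set_option autoImplicit false
set_option backward.isDefEq.respectTransparency false

open CategoryTheory CategoryTheory.Limits AlgebraicGeometry Opposite AlgSp

namespace Groth.Agent.Helper2.ResidualSp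
universe u
variable {S : Scheme.{u}}

open Groth.Agent.Helper2.AlgSpBasic Groth.Agent.Helper2.FieldFibre Groth.Agent.Helper2.QuotEff

/-- Existence of the residual space. -/
theorem exists_residualSpace {X : Sp S} (hX : IsAlgSpace X) (x : Points X) :
    ∃ (Z : Sp S) (_ : IsAlgSpace Z) (i : Z ⟶ X), Mono i ∧ Set.range (Points.map i) = {x} ∧
      ∃ (k : Type u) (_ : Field k) (str : Spec (CommRingCat.of k) ⟶ S)
        (p : (yon S).obj (Over.mk str) ⟶ Z), RepWith @Etale p ∧ RepWith @Surjective p := by
  obtain ⟨U, a, hae, has⟩ := hX.atlas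
  obtain ⟨u, hu⟩ := surjective_ofPt a has x
  obtain ⟨ξ, hξ⟩ : ∃ ξ : (yon S).obj (resOver U u) ⟶ X, ξ = (yon S).map (resι U u) ≫ a := ⟨_, rfl⟩
  obtain ⟨R, t, s, sq⟩ := exists_isPullback_yon hX.diag ξ ξ
  have het : Etale t.left := by
    have := etale_fst_of_isPullback_residue a hae u
      (K := U.left.residueField u) (U.left.fromSpecResidueField u ≫ U.hom) ξ t s (hξ ▸ sq)
    exact this
  have hes : Etale s.left := by
    have := etale_fst_of_isPullback_residue a hae u
      (K := U.left.residueField u) (U.left.fromSpecResidueField u ≫ U.hom) ξ s t (hξ ▸ sq.flip)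
    exact this
  have heqv : IsEtaleEqvRel s t :=
    { KernelPair.isEqvRel_of_isPullback s t ξ sq with etale_left := hes, etale_right := het }
  have hZ : IsAlgSpace (QuotSh.quot Scheme.fppfPrecoverage s t) := AlgSpDesc.isAlgSpace_quot s t heqv
  have hpres := isPresentation_qπ s t heqv hZ
  obtain ⟨m, hm1, hm2⟩ := KernelPair.exists_desc_mono ((yon S).map s) ((yon S).map t)
    (qπ s t) ξ hpres.isPullback sq
  refine ⟨_, hZ, m, hm2, ?_, U.left.residueField u, inferInstance,
    U.left.fromSpecResidueField u ≫ U.hom, qπ s t, hpres.etale, hpres.surjective⟩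
  ext y
  simp only [Set.mem_range, Set.mem_singleton_iff]
  constructor
  · rintro ⟨z, rfl⟩
    obtain ⟨w, rfl⟩ := surjective_ofPt (qπ s t) hpres.surjective z
    rw [Points.map_ofPt, hm1, hξ, ofPt_yon_map_comp, ← hu]
    congr 1
    exact Scheme.fromSpecResidueField_apply u w
  · rintro rfl
    refine ⟨Points.ofPt (qπ s t) (IsLocalRing.closedPoint (U.left.residueField u)), ?_⟩
    rw [Points.map_ofPt, hm1, hξ, ofPt_yon_map_comp, ← hu]
    congr 1
    exact Scheme.fromSpecResidueField_apply u _

end Groth.Agent.Helper2.ResidualSp
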