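import Mathlib
import Groth.Prelude.Def_AlgSp4
import Groth.Prelude.Def_AlgSpDec
import Groth.Agent.Lib.Helper2.AlgSp.FieldFibre
import Groth.Agent.Lib.Helper2.AlgSp.EtEqvQuot
import Groth.Agent.Lib.Helper2.AlgSp.LocP
import Groth.Agent.Lib.Helper2.AlgSp.PointsMor
import Groth.Agent.Lib.Helper2.AlgSp.FTPoint

/-!
# The residual space of an algebraic space at a point of an etale chart (helper2)
-/

set_option autoImplicit false
set_option backward.isDefEq.respectTransparency false

open CategoryTheory CategoryTheory.Limits AlgebraicGeometry Opposite AlgSp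

namespace Groth.Agent.Helper2.ResidualSp
universe u
variable {S : Scheme.{u}}

open Groth.Agent.Helper2.AlgSpBasic Groth.Agent.Helper2.FieldFibre Groth.Agent.Helper2.QuotEff

/-- Existence of the residual space, relative to a point of an étale chart. -/
theorem exists_residualSpace_of_chart {X : Sp S} (hX : IsAlgSpace X) {U : Over S}
    (a : (yon S).obj U ⟶ X) (hae : RepWith @Etale a) (u : ↥U.left) :
    ∃ (Z : Sp S) (_ : IsAlgSpace Z) (i : Z ⟶ X) (p : (yon S).obj (resOver U u) ⟶ Z),
      Mono i ∧ RepWith @Etale p ∧ RepWith @Surjective p ∧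
        p ≫ i = (yon S).map (resι U u) ≫ a := by
  obtain ⟨ξ, hξ⟩ : ∃ ξ : (yon S).obj (resOver U u) ⟶ X, ξ = (yon S).map (resι U u) ≫ a := ⟨_, rfl⟩
  obtain ⟨R, t, s, sq⟩ := exists_isPullback_yon hX.diag ξ ξ
  have het : Etale t.left := by
    have := etale_fst_of_isPullback_residue a hae u
      (K := U.left.residueField u) (U.left.fromSpecResidueField u ≫ U.hom) ξ t s (hξ ▸ sq)
    exact this
  have hes : Etale s.left := by
    have := etale_fst_of_isPullback_residue a hae u
      (K := U.left.residueField u) (U.left.fromSpecResidueField u ≫ U.hom) ξ s t (hξ ▸ sq.flip)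
    exact this
  have heqv : IsEtaleEqvRel s t :=
    { KernelPair.isEqvRel_of_isPullback s t ξ sq with etale_left := hes, etale_right := het }
  have hZ : IsAlgSpace (QuotSh.quot Scheme.fppfPrecoverage s t) := AlgSpDesc.isAlgSpace_quot s t heqv
  have hpres := isPresentation_qπ s t heqv hZ
  obtain ⟨m, hm1, hm2⟩ := KernelPair.exists_desc_mono ((yon S).map s) ((yon S).map t)
    (qπ s t) ξ hpres.isPullback sq
  exact ⟨_, hZ, m, qπ s t, hm2, hpres.etale, hpres.surjective, hm1.trans hξ⟩

/-- The points of the spectrum of a field, as a sheaf, are all equal. -/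
theorem points_yon_field_subsingleton {k : Type u} [Field k] (str : Spec (CommRingCat.of k) ⟶ S)
    (y y' : Points ((yon S).obj (Over.mk str))) : y = y' := by
  obtain ⟨t, rfl⟩ := (Points.schemeHomeo (Over.mk str)).surjective y
  obtain ⟨t', rfl⟩ := (Points.schemeHomeo (Over.mk str)).surjective y'
  congr 1
  exact Subsingleton.elim (α := PrimeSpectrum k) _ _

/-- Finite type points via one-point spaces. -/
theorem isFTPt_iff_onePoint {X : Sp S} (hX : IsAlgSpace X) (x : Points X) :
    IsFTPt X x ↔ ∃ (Z : Sp S) (_ : IsAlgSpace Z) (f : Z ⟶ X), Nonempty (Unique (Points Z)) ∧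
      LocP @LocallyOfFiniteType f ∧ Set.range (Points.map f) = {x} := by
  constructor
  · rintro ⟨k, _, str, ξ, hξ, rfl⟩
    refine ⟨_, IsAlgSpace.yon_obj (Over.mk str), ξ, ?_, hξ, ?_⟩
    · exact ⟨{ default := Points.ofScheme _ (IsLocalRing.closedPoint k)
               uniq := fun y => points_yon_field_subsingleton str _ _ }⟩
    · ext y
      simp only [Set.mem_range, Set.mem_singleton_iff]
      constructor
      · rintro ⟨z, rfl⟩
        rw [Points.ofPt_eq_map_ofScheme]
        congr 1
        exact points_yon_field_subsingleton str _ _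
      · rintro rfl
        exact ⟨Points.ofScheme _ (IsLocalRing.closedPoint k), (Points.ofPt_eq_map_ofScheme _ _).symm⟩
  · rintro ⟨Z, hZ, f, ⟨hu⟩, hf, hr⟩
    obtain ⟨z, -, hz⟩ := exists_isFTPt_of_isLocallyClosed hZ Set.univ isOpen_univ.isLocallyClosed
      ⟨hu.default, trivial⟩
    have h1 := hz.map hZ hX f hf
    have h2 : Points.map f z ∈ ({x} : Set (Points X)) := hr ▸ Set.mem_range_self z
    rw [Set.mem_singleton_iff] at h2
    rwa [h2] at h1

/-- Finite type points via residual spaces. -/
theorem isFTPt_iff_residual {X : Sp S} (hX : IsAlgSpace X) (x : Points X) :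
    IsFTPt X x ↔ ∃ (Z : Sp S) (_ : IsAlgSpace Z) (f : Z ⟶ X) (k : Type u) (_ : Field k)
      (str : Spec (CommRingCat.of k) ⟶ S) (z : (yon S).obj (Over.mk str) ⟶ Z),
        RepWith @Etale z ∧ RepWith @Surjective z ∧ LocP @LocallyOfFiniteType f ∧ Mono f ∧
        Points.ofPt (z ≫ f) (IsLocalRing.closedPoint k) = x := by
  constructor
  · intro hx
    obtain ⟨U, φ, u, hφ, hu, rfl⟩ := exists_closed_point_chart_of_isFTPt hX x hx
    obtain ⟨Z, hZ, i, p, hi, hpe, hps, hpi⟩ := exists_residualSpace_of_chart hX φ hφ u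
    refine ⟨Z, hZ, i, U.left.residueField u, inferInstance, _, p, hpe, hps, ?_, hi, ?_⟩
    · refine locP_of_source_cover _ hZ hX i _ p hpe hps ?_
      rw [hpi]
      exact locP_lft_of_closed_point hX φ hφ u hu
    · rw [hpi]
      exact ofPt_resHom φ u _
  · rintro ⟨Z, hZ, f, k, _, str, z, hze, hzs, hf, hmono, rfl⟩
    refine ⟨k, inferInstance, str, z ≫ f, ?_, rfl⟩
    refine locP_comp _ (IsAlgSpace.yon_obj _) hZ hX z f ?_ hf
    exact locP_of_repWith _ (IsAlgSpace.yon_obj _).diag _ (repWith_etale_lft hze)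

end Groth.Agent.Helper2.ResidualSp
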