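import Mathlib
import Groth.Prelude.Def_AlgSp
import Groth.Agent.Lib.Helper2.AlgSp.Basic

/-!
# Restriction of an etale equivalence relation on a scheme (helper2)
-/

set_option autoImplicit false
open CategoryTheory CategoryTheory.Limits AlgebraicGeometry Opposite AlgSp
open Groth.Agent.Helper2.AlgSpBasic

namespace Groth.Agent.Helper2.RestrEqv
universe u v w

section Abstract
variable {C : Type w} [Category.{v} C] [HasPullbacks C]
variable {U R U' R' : C} (s t : R ⟶ U) (s' t' : R' ⟶ U') (g : U' ⟶ U) (fR : R' ⟶ R)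

/-- The universal property of `R' = U' ×_{g,U,t} R ×_{s,U,g} U'` (symmetric in `s, t`). -/
structure IsRestr : Prop where
  hs : fR ≫ s = s' ≫ g
  ht : fR ≫ t = t' ≫ g
  ex : ∀ {A : C} (r : A ⟶ R) (a b : A ⟶ U'), a ≫ g = r ≫ t → b ≫ g = r ≫ s →
    ∃ l : A ⟶ R', l ≫ fR = r ∧ l ≫ t' = a ∧ l ≫ s' = b
  uniq : ∀ {A : C} (l l' : A ⟶ R'), l ≫ fR = l' ≫ fR → l ≫ t' = l' ≫ t' → l ≫ s' = l' ≫ s' →
    l = l'

variable {s t s' t' g fR}

theorem IsRestr.swap (h : IsRestr s t s' t' g fR) : IsRestr t s t' s' g fR where
  hs := h.ht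
  ht := h.hs
  ex r a b ha hb := by
    obtain ⟨l, h1, h2, h3⟩ := h.ex r b a hb ha
    exact ⟨l, h1, h3, h2⟩
  uniq l l' h1 h2 h3 := h.uniq l l' h1 h3 h2

/-- `R' ⟶ R ×_{s,U,g} U'` is the base change of `g` along `t ∘ pr₁`. -/
theorem IsRestr.isPullback (h : IsRestr s t s' t' g fR) :
    IsPullback t' (pullback.lift fR s' h.hs) g (pullback.fst s g ≫ t) := by
  refine isPullback_of_existsUnique ?_ ?_ ?_
  · rw [← Category.assoc, pullback.lift_fst, h.ht]
  · intro A a b hab
    obtain ⟨l, h1, h2, h3⟩ := h.ex (b ≫ pullback.fst s g) a (b ≫ pullback.snd s g)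
      (by rw [hab, Category.assoc])
      (by rw [Category.assoc, Category.assoc, pullback.condition])
    refine ⟨l, h2, ?_⟩
    apply pullback.hom_ext
    · rw [Category.assoc, pullback.lift_fst, h1]
    · rw [Category.assoc, pullback.lift_snd, h3]
  · intro A l l' h1 h2
    refine h.uniq l l' ?_ h1 ?_
    · have := congrArg (· ≫ pullback.fst s g) h2
      simpa only [Category.assoc, pullback.lift_fst] using this
    · have := congrArg (· ≫ pullback.snd s g) h2
      simpa only [Category.assoc, pullback.lift_snd] using this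

end Abstract

section Over
variable {S : Scheme.{u}} {R U R' U' : Over S} {s t : R ⟶ U} {g : U' ⟶ U} {s' t' : R' ⟶ U'}
  {r : R' ⟶ R}

theorem isRestr_of_isPullback
    (hsq : IsPullback (prod.lift t' s') r (prod.map g g) (prod.lift t s)) :
    IsRestr s t s' t' g r where
  hs := by
    have := congrArg (· ≫ prod.snd) hsq.w
    simpa only [Category.assoc, prod.map_snd, prod.lift_snd, prod.lift_snd_assoc] using this.symm
  ht := by
    have := congrArg (· ≫ prod.fst) hsq.w
    simpa only [Category.assoc, prod.map_fst, prod.lift_fst, prod.lift_fst_assoc] using this.symm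
  ex {A} ρ a b ha hb := by
    have hc : prod.lift a b ≫ prod.map g g = ρ ≫ prod.lift t s := by
      apply Limits.prod.hom_ext
      · simp only [Category.assoc, prod.map_fst, prod.lift_fst, prod.lift_fst_assoc, ha]
      · simp only [Category.assoc, prod.map_snd, prod.lift_snd, prod.lift_snd_assoc, hb]
    refine ⟨hsq.lift (prod.lift a b) ρ hc, hsq.lift_snd _ _ _, ?_, ?_⟩
    · have := congrArg (· ≫ prod.fst) (hsq.lift_fst (prod.lift a b) ρ hc)
      simpa only [Category.assoc, prod.lift_fst] using this
    · have := congrArg (· ≫ prod.snd) (hsq.lift_fst (prod.lift a b) ρ hc)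
      simpa only [Category.assoc, prod.lift_snd] using this
  uniq {A} l l' h1 h2 h3 := by
    apply hsq.hom_ext _ h1
    apply Limits.prod.hom_ext
    · simp only [Category.assoc, prod.lift_fst, h2]
    · simp only [Category.assoc, prod.lift_snd, h3]

theorem IsRestr.prop_left (P : MorphismProperty Scheme.{u}) [P.IsStableUnderBaseChange]
    [P.IsStableUnderComposition] (h : IsRestr s t s' t' g r) (hs : P s.left) (hg : P g.left) :
    P s'.left := by
  have h1 : P (pullback.lift r s' h.hs).left :=
    P.of_isPullback (h.isPullback.map (Over.forget S)) hg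
  have h2 : P (pullback.snd s g).left :=
    P.of_isPullback ((IsPullback.of_hasPullback s g).map (Over.forget S)) hs
  have h3 : s' = pullback.lift r s' h.hs ≫ pullback.snd s g := (pullback.lift_snd _ _ _).symm
  rw [h3, Over.comp_left]
  exact P.comp_mem _ _ h1 h2

theorem isEqvRel_restrict (h : IsRestr s t s' t' g r) (hR : IsEqvRel s t) : IsEqvRel s' t' where
  injective T r₁ r₂ h1 h2 := by
    refine h.uniq r₁ r₂ ?_ h1 h2
    apply hR.injective
    · rw [Category.assoc, Category.assoc, h.ht, ← Category.assoc, ← Category.assoc, h1]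
    · rw [Category.assoc, Category.assoc, h.hs, ← Category.assoc, ← Category.assoc, h2]
  equivalence T := by
    have key : ∀ a b : T ⟶ U', (∃ r' : T ⟶ R', r' ≫ t' = a ∧ r' ≫ s' = b) ↔
        ∃ ρ : T ⟶ R, ρ ≫ t = a ≫ g ∧ ρ ≫ s = b ≫ g := by
      intro a b
      constructor
      · rintro ⟨r', rfl, rfl⟩
        exact ⟨r' ≫ r, by rw [Category.assoc, h.ht, Category.assoc],
          by rw [Category.assoc, h.hs, Category.assoc]⟩
      · rintro ⟨ρ, h1, h2⟩
        obtain ⟨l, _, hl2, hl3⟩ := h.ex ρ a b h1.symm h2.symm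
        exact ⟨l, hl2, hl3⟩
    refine ⟨fun a => (key a a).mpr ((hR.equivalence T).refl _), ?_, ?_⟩
    · intro a b hab
      exact (key b a).mpr ((hR.equivalence T).symm ((key a b).mp hab))
    · intro a b c hab hbc
      exact (key a c).mpr ((hR.equivalence T).trans ((key a b).mp hab) ((key b c).mp hbc))

theorem isEtaleEqvRel_restrict
    (hsq : IsPullback (prod.lift t' s') r (prod.map g g) (prod.lift t s))
    (h : IsEtaleEqvRel s t) [Etale g.left] : IsEtaleEqvRel s' t' := by
  have hr := isRestr_of_isPullback hsq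
  exact { toIsEqvRel := isEqvRel_restrict hr h.toIsEqvRel
          etale_left := hr.prop_left @Etale h.etale_left inferInstance
          etale_right := hr.swap.prop_left @Etale h.etale_right inferInstance }

end Over

end Groth.Agent.Helper2.RestrEqv
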