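import Groth.Prelude.Def_AlgSpSub
import Groth.Agent.Lib.Helper2.AlgSp.SchDenseImage
import Groth.Agent.Lib.Helper2.AlgSp.ComplAffine
import Groth.Agent.Lib.Helper2.Sch.SchDenseDescent

/-!
# Scheme theoretic density of an open subspace is independent of the chart (helper2)
-/

set_option autoImplicit false
set_option backward.isDefEq.respectTransparency false
set_option linter.style.haveILetI false
universe u
open CategoryTheory CategoryTheory.Limits AlgebraicGeometry Opposite AlgSp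

namespace Groth.Agent.Helper2.SchDenseChart
open Groth.Agent.Helper2.AlgSpBasic Groth.Agent.Helper2.SchDenseEtale
  Groth.Agent.Helper2.ComplAffine

variable {S : Scheme.{u}}

/-- The inverse image of an open subspace in a chart, as a set. -/
theorem opens_eq_of_isPullback {U X : Sp S} (j : U ⟶ X) (V : Over S)
    (φ : (yon S).obj V ⟶ X) (W : V.left.Opens)
    (fst : (yon S).obj (Over.mk (W.ι ≫ V.hom)) ⟶ U)
    (sq : IsPullback fst ((yon S).map (Over.homMk W.ι rfl : Over.mk (W.ι ≫ V.hom) ⟶ V)) j φ) :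
    (W : Set ↥V.left) = {t | Points.ofPt φ t ∈ Set.range (Points.map j)} := by
  have h := range_snd_eq j φ fst (Over.homMk W.ι rfl) sq
  have h2 : Set.range (Over.homMk W.ι rfl : Over.mk (W.ι ≫ V.hom) ⟶ V).left = (W : Set ↥V.left) :=
    Scheme.Opens.range_ι W
  rw [← h2]
  exact h

/-- S9968. -/
theorem main68 {U X : Sp S} (j : U ⟶ X) (hj : IsSchDense j) (V : Over S)
    (φ : (yon S).obj V ⟶ X) (hφ : RepWith @Etale φ) (W : V.left.Opens)
    (fst : (yon S).obj (Over.mk (W.ι ≫ V.hom)) ⟶ U)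
    (sq : IsPullback fst ((yon S).map (Over.homMk W.ι rfl : Over.mk (W.ι ≫ V.hom) ⟶ V)) j φ) :
    CInt.IsSchematicallyDense W := by
  obtain ⟨-, V₀, φ₀, W₀, fst₀, hφ₀e, hφ₀s, sq₀, hW₀⟩ := hj
  have hrep := hφ₀e.rep
  have sqT := hrep.isPullback φ
  obtain ⟨pr₁, hpr₁⟩ := (yon S).map_surjective (hrep.fst φ)
  rw [← hpr₁] at sqT
  haveI h1 : Etale pr₁.left :=
    (repWith_yon_map_iff @Etale pr₁).mp (repWith_of_isPullback @Etale sqT.flip hφ)
  haveI h2 : Etale (hrep.snd φ).left := hφ₀e.property_snd φ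
  haveI h3 : Surjective (hrep.snd φ).left := hφ₀s.property_snd φ
  have hW₀eq := opens_eq_of_isPullback j V₀ φ₀ W₀ fst₀ sq₀
  have hWeq := opens_eq_of_isPullback j V φ W fst sq
  have hopens : pr₁.left ⁻¹ᵁ W₀ = (hrep.snd φ).left ⁻¹ᵁ W := by
    ext t
    show pr₁.left t ∈ (W₀ : Set ↥V₀.left) ↔ (hrep.snd φ).left t ∈ (W : Set ↥V.left)
    rw [hW₀eq, hWeq]
    show Points.ofPt φ₀ (pr₁.left t) ∈ Set.range (Points.map j) ↔
      Points.ofPt φ ((hrep.snd φ).left t) ∈ Set.range (Points.map j)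
    rw [← ofPt_yon_map_comp, ← ofPt_yon_map_comp, sqT.w]
  have hd : CInt.IsSchematicallyDense (pr₁.left ⁻¹ᵁ W₀) :=
    isSchematicallyDense_preimage_of_etale pr₁.left W₀ hW₀
  rw [hopens] at hd
  exact isSchematicallyDense_of_preimage (hrep.snd φ).left W hd

end Groth.Agent.Helper2.SchDenseChart
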