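import Groth.Prelude.Def_AlgSpSub
import Groth.Agent.Lib.Helper2.AlgSp.SchDenseChart

/-!
# Intersections of scheme theoretically dense open subspaces (helper2)
-/

set_option autoImplicit false
set_option backward.isDefEq.respectTransparency false
set_option linter.style.haveILetI false
universe u
open CategoryTheory CategoryTheory.Limits AlgebraicGeometry Opposite AlgSp

namespace Groth.Agent.Helper2.SchDenseChart
open Groth.Agent.Helper2.AlgSpBasic Groth.Agent.Helper2.SchDenseEtale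
  Groth.Agent.Helper2.ComplAffine Groth.Agent.Helper2.SchDenseImage

variable {S : Scheme.{u}}

theorem isSchematicallyDense_inf {V : Scheme.{u}} (W₁ W₂ : V.Opens)
    (h₁ : CInt.IsSchematicallyDense W₁) (h₂ : CInt.IsSchematicallyDense W₂) :
    CInt.IsSchematicallyDense (W₁ ⊓ W₂) := by
  intro V'
  rw [injective_iff_map_eq_zero]
  intro s hs
  apply h₁ V'
  rw [map_zero]
  apply h₂ (V' ⊓ W₁)
  rw [map_zero]
  have hle : V' ⊓ W₁ ⊓ W₂ ≤ V' ⊓ (W₁ ⊓ W₂) := by rw [inf_assoc]
  have h3 := congrArg (V.presheaf.map (homOfLE hle).op) hs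
  rw [map_zero] at h3
  rw [← h3]
  show (V.presheaf.map _ ≫ V.presheaf.map _) s = (V.presheaf.map _ ≫ V.presheaf.map _) s
  rw [← V.presheaf.map_comp, ← V.presheaf.map_comp]
  rfl

/-- Replace the source of an open immersion in a chart square by its range. -/
theorem isPullback_opensRange {G F : Sp S} (j : G ⟶ F) (V : Over S) (φ : (yon S).obj V ⟶ F)
    (Q : Over S) (fst : (yon S).obj Q ⟶ G) (lam : Q ⟶ V)
    (sq : IsPullback fst ((yon S).map lam) j φ) [IsOpenImmersion lam.left] :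
    ∃ fst' : (yon S).obj (Over.mk (lam.left.opensRange.ι ≫ V.hom)) ⟶ G,
      IsPullback fst' ((yon S).map (Over.homMk lam.left.opensRange.ι rfl :
        Over.mk (lam.left.opensRange.ι ≫ V.hom) ⟶ V)) j φ := by
  have hw : lam.left.isoOpensRange.hom ≫ (lam.left.opensRange.ι ≫ V.hom) = Q.hom := by
    rw [← Category.assoc, lam.left.isoOpensRange_hom_ι]
    exact Over.w lam
  let e : Q ≅ Over.mk (lam.left.opensRange.ι ≫ V.hom) := Over.isoMk lam.left.isoOpensRange hw
  have he : e.hom ≫ (Over.homMk lam.left.opensRange.ι rfl :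
      Over.mk (lam.left.opensRange.ι ≫ V.hom) ⟶ V) = lam := by
    apply Over.OverMorphism.ext
    exact lam.left.isoOpensRange_hom_ι
  refine ⟨(yon S).map e.inv ≫ fst, ?_⟩
  refine sq.of_iso ((yon S).mapIso e) (Iso.refl _) (Iso.refl _) (Iso.refl _) ?_ ?_ ?_ ?_
  · simp only [Functor.mapIso_hom, Iso.refl_hom, Category.comp_id]
    rw [← Category.assoc, ← Functor.map_comp, e.hom_inv_id, CategoryTheory.Functor.map_id,
      Category.id_comp]
  · simp only [Functor.mapIso_hom, Iso.refl_hom, Category.comp_id]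
    rw [← Functor.map_comp, he]
  · simp
  · simp

/-- S9970. -/
theorem main70 {U V X P : Sp S} (jU : U ⟶ X) (jV : V ⟶ X) (hU : IsSchDense jU)
    (hV : IsSchDense jV) (fst : P ⟶ U) (snd : P ⟶ V) (sq : IsPullback fst snd jU jV) :
    IsSchDense (fst ≫ jU) := by
  have hfst : RepWith @IsOpenImmersion fst := repWith_of_isPullback @IsOpenImmersion sq.flip hV.1
  have hjP : RepWith @IsOpenImmersion (fst ≫ jU) := repWith_comp @IsOpenImmersion hfst hU.1
  obtain ⟨hjU, V₀, φ₀, W₀, fst₀, hφ₀e, hφ₀s, sq₀, hW₀⟩ := hU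
  have hW₀eq := opens_eq_of_isPullback jU V₀ φ₀ W₀ fst₀ sq₀
  -- the inverse image of `V`
  have hrepV := hV.1.rep
  have sqV := hrepV.isPullback φ₀
  haveI hoiV : IsOpenImmersion (hrepV.snd φ₀).left := hV.1.property_snd φ₀
  obtain ⟨fstV', sqV'⟩ := isPullback_opensRange jV V₀ φ₀ _ (hrepV.fst φ₀) (hrepV.snd φ₀) sqV
  have hWV : CInt.IsSchematicallyDense (hrepV.snd φ₀).left.opensRange :=
    main68 jV hV V₀ φ₀ hφ₀e _ fstV' sqV'
  have hWVeq : ((hrepV.snd φ₀).left.opensRange : Set ↥V₀.left) =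
      {t | Points.ofPt φ₀ t ∈ Set.range (Points.map jV)} :=
    range_snd_eq jV φ₀ _ (hrepV.snd φ₀) sqV
  -- the inverse image of `P`
  have hrepP := hjP.rep
  have sqP := hrepP.isPullback φ₀
  haveI hoiP : IsOpenImmersion (hrepP.snd φ₀).left := hjP.property_snd φ₀
  have hWPeq : ((hrepP.snd φ₀).left.opensRange : Set ↥V₀.left) =
      {t | Points.ofPt φ₀ t ∈ Set.range (Points.map (fst ≫ jU))} :=
    range_snd_eq (fst ≫ jU) φ₀ _ (hrepP.snd φ₀) sqP
  have hrange : Set.range (Points.map (fst ≫ jU)) =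
      Set.range (Points.map jU) ∩ Set.range (Points.map jV) := by
    ext x
    constructor
    · rintro ⟨p, rfl⟩
      refine ⟨⟨Points.map fst p, (Points.map_comp _ _ _).symm⟩, ⟨Points.map snd p, ?_⟩⟩
      rw [← Points.map_comp, ← sq.w]
    · rintro ⟨⟨u, rfl⟩, ⟨v, hv⟩⟩
      obtain ⟨p, hp1, -⟩ := points_exists_of_isPullback jV jU fst snd sq u v hv.symm
      exact ⟨p, by rw [Points.map_comp, hp1]⟩
  have hopens : (hrepP.snd φ₀).left.opensRange = W₀ ⊓ (hrepV.snd φ₀).left.opensRange := by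
    apply TopologicalSpace.Opens.ext
    rw [TopologicalSpace.Opens.coe_inf, hWPeq, hW₀eq, hWVeq, hrange]
    rfl
  refine isSchDense_of_chart (fst ≫ jU) hjP V₀ φ₀ hφ₀e hφ₀s _ (hrepP.fst φ₀) (hrepP.snd φ₀) sqP ?_
  rw [hopens]
  exact isSchematicallyDense_inf _ _ hW₀ hWV

end Groth.Agent.Helper2.SchDenseChart
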