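import Groth.Prelude.Def_AlgSpSub
import Groth.Prelude.Def_AlgSpOX2
import Groth.Agent.Lib.Helper2.AlgSp.SchDenseInter

/-!
# Scheme theoretic density and injectivity of `O_X ⟶ j_* O_U` (helper2)
-/

set_option autoImplicit false
set_option backward.isDefEq.respectTransparency false
set_option linter.style.haveILetI false
universe u
open CategoryTheory CategoryTheory.Limits AlgebraicGeometry Opposite AlgSp TopologicalSpace

namespace Groth.Agent.Helper2.SchDenseChart
open Groth.Agent.Helper2.AlgSpBasic Groth.Agent.Helper2.SchDenseEtale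
  Groth.Agent.Helper2.ComplAffine Groth.Agent.Helper2.SchDenseImage
  Groth.Agent.Helper2.ToImageDense

variable {S : Scheme.{u}}

theorem appTop_injective_of_dense {Q V : Scheme.{u}} (f : Q ⟶ V) [IsOpenImmersion f]
    (hd : CInt.IsSchematicallyDense f.opensRange) : Function.Injective f.appTop.hom := by
  rw [injective_iff_map_eq_zero]
  intro t ht
  apply hd ⊤
  rw [map_zero]
  have h1 : (f.app ⊤ ≫ (f.appIso (f ⁻¹ᵁ ⊤)).inv) t = 0 := by
    rw [CommRingCat.comp_apply]
    have : (f.app ⊤).hom t = 0 := ht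
    rw [this, map_zero]
  rw [f.app_appIso_inv ⊤] at h1
  have hle : ⊤ ⊓ f.opensRange ≤ f ''ᵁ f ⁻¹ᵁ ⊤ := by
    rintro x ⟨-, y, rfl⟩
    exact ⟨y, trivial, rfl⟩
  have h3 := congrArg (V.presheaf.map (homOfLE hle).op) h1
  rw [map_zero] at h3
  rw [← h3]
  show _ = (V.presheaf.map _ ≫ V.presheaf.map _) _
  rw [← V.presheaf.map_comp]
  rfl

theorem bcRingHom_app_injective_iff {U X : Sp S} (j : U ⟶ X) (hf : Representable j)
    (E : EtOver X) :
    Function.Injective ((bcRingHom hf).hom.app (op E)) ↔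
      Function.Injective (hf.snd E.obj.hom).left.appTop.hom := by
  constructor
  · intro h a b hab
    have := @h (ULift.up a) (ULift.up b) (ULift.ext _ _ hab)
    exact congrArg ULift.down this
  · intro h a b hab
    apply ULift.ext
    apply h
    exact congrArg ULift.down hab

theorem appLE_top_top {A B : Scheme.{u}} (f : A ⟶ B) (e : (⊤ : A.Opens) ≤ f ⁻¹ᵁ ⊤) :
    f.appLE ⊤ ⊤ e = f.appTop := by
  simp [Scheme.Hom.appLE, Scheme.Hom.appTop]

/-- Injectivity of sections over an open of the target from injectivity of global sections of the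
restriction. -/
theorem app_injective_of_restrict {Q QN V : Scheme.{u}} (s : Q ⟶ V) (N : V.Opens)
    (fN : QN ⟶ N.toScheme) (g : QN ⟶ Q) (hg : g ≫ s = fN ≫ N.ι)
    (hinj : Function.Injective fN.appTop.hom) : Function.Injective (s.app N).hom := by
  rw [injective_iff_map_eq_zero]
  intro t ht
  have e₂ : (⊤ : QN.Opens) ≤ g ⁻¹ᵁ (s ⁻¹ᵁ N) := by
    intro x _
    show s (g x) ∈ N
    rw [← Scheme.Hom.comp_apply, hg, Scheme.Hom.comp_apply]
    exact (fN x).2
  have h1 : (s.appLE N (s ⁻¹ᵁ N) le_rfl ≫ g.appLE (s ⁻¹ᵁ N) ⊤ e₂) t = 0 := by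
    rw [CommRingCat.comp_apply, Scheme.Hom.appLE_eq_app]
    have : (s.app N).hom t = 0 := ht
    rw [this, map_zero]
  rw [Scheme.Hom.appLE_comp_appLE] at h1
  have key : ∀ (h : QN ⟶ V) (hh : h = fN ≫ N.ι) (e : (⊤ : QN.Opens) ≤ h ⁻¹ᵁ N),
      h.appLE N ⊤ e = N.ι.appLE N ⊤ (fun x _ => x.2) ≫ fN.appLE ⊤ ⊤ (fun _ _ => trivial) := by
    intro h hh e
    subst hh
    rw [Scheme.Hom.appLE_comp_appLE]
  rw [key _ hg, CommRingCat.comp_apply, appLE_top_top] at h1
  have h2 := hinj (h1.trans (map_zero fN.appTop.hom).symm)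
  rw [Scheme.Opens.ι_appLE] at h2
  have hle : N ≤ N.ι ''ᵁ ⊤ := by
    intro x hx
    exact ⟨⟨x, hx⟩, trivial, rfl⟩
  have h3 := congrArg (V.presheaf.map (homOfLE hle).op) h2
  rw [map_zero] at h3
  rw [← h3]
  show _ = (V.presheaf.map _ ≫ V.presheaf.map _) _
  rw [← V.presheaf.map_comp]
  have hid : ∀ (m : op N ⟶ op N), (V.presheaf.map m).hom t = t := by
    intro m
    rw [Subsingleton.elim m (𝟙 _), V.presheaf.map_id]
    rfl
  exact (hid _).symm

theorem mono_bcRingHom_of_isSchDense {U X : Sp S} (j : U ⟶ X)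
    (hj : RepWith @IsOpenImmersion j) (hd : IsSchDense j) : Mono (bcRingHom hj.1) := by
  apply Sheaf.mono_of_injective
  intro E
  rw [show E = op E.unop from rfl, bcRingHom_app_injective_iff]
  haveI : IsOpenImmersion (hj.1.snd E.unop.obj.hom).left := hj.property_snd _
  obtain ⟨fst', sq'⟩ := isPullback_opensRange j E.unop.obj.left E.unop.obj.hom _ (hj.1.fst _)
    (hj.1.snd _) (hj.1.isPullback _)
  exact appTop_injective_of_dense _ (main68 j hd _ _ E.unop.property _ fst' sq')

theorem app_injective_of_mono {U X : Sp S} (j : U ⟶ X) (hf : Representable j)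
    [Mono (bcRingHom hf)] (E : EtOver X) :
    Function.Injective (hf.snd E.obj.hom).left.appTop.hom := by
  rw [← bcRingHom_app_injective_iff]
  have h1 : Mono ((sheafToPresheaf _ _).map (bcRingHom hf)) := inferInstance
  have h2 : Mono (((sheafToPresheaf _ _).map (bcRingHom hf)).app (op E)) := inferInstance
  exact (ConcreteCategory.mono_iff_injective_of_preservesPullback _).mp h2

theorem isSchDense_of_mono_bcRingHom {U X : Sp S} (hX : IsAlgSpace X) (j : U ⟶ X)
    (hj : RepWith @IsOpenImmersion j) [Mono (bcRingHom hj.1)] : IsSchDense j := by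
  obtain ⟨V, φ, hφe, hφs⟩ := hX.atlas
  have hrep := hj.1
  have sq := hrep.isPullback φ
  haveI : IsOpenImmersion (hrep.snd φ).left := hj.property_snd φ
  refine isSchDense_of_chart j hj V φ hφe hφs _ (hrep.fst φ) (hrep.snd φ) sq ?_
  refine isSchematicallyDense_of_app_injective (hrep.snd φ).left _
    (by rintro _ ⟨x, rfl⟩; exact ⟨x, rfl⟩) Set.univ
    (Opens.isBasis_iff_nbhd.mpr fun {U x} hx => ⟨U, trivial, hx, le_rfl⟩) ?_
  intro N _
  let ιN : Over.mk (N.ι ≫ V.hom) ⟶ V := Over.homMk N.ι rfl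
  have hEN : RepWith @Etale ((yon S).map ιN ≫ φ) :=
    repWith_comp @Etale ((repWith_yon_map_iff @Etale ιN).mpr (inferInstanceAs (Etale N.ι))) hφe
  have hinj := app_injective_of_mono j hrep (EtOver.mk _ hEN)
  have sqN := hrep.isPullback ((yon S).map ιN ≫ φ)
  have w : hrep.fst ((yon S).map ιN ≫ φ) ≫ j =
      ((yon S).map (hrep.snd ((yon S).map ιN ≫ φ)) ≫ (yon S).map ιN) ≫ φ := by
    rw [Category.assoc]
    exact sqN.w
  obtain ⟨g, hg⟩ := (yon S).map_surjective (sq.lift _ _ w)
  have hgs : g ≫ hrep.snd φ = hrep.snd ((yon S).map ιN ≫ φ) ≫ ιN :=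
    (yon S).map_injective (by rw [Functor.map_comp, hg, sq.lift_snd, Functor.map_comp])
  have hgs' : g.left ≫ (hrep.snd φ).left = (hrep.snd ((yon S).map ιN ≫ φ)).left ≫ N.ι :=
    congrArg (fun m => m.left) hgs
  exact app_injective_of_restrict (hrep.snd φ).left N _ g.left hgs' hinj

/-- S9986. -/
theorem main86 {U X : Sp S} (hX : IsAlgSpace X) (j : U ⟶ X)
    (hj : RepWith @IsOpenImmersion j) : IsSchDense j ↔ Mono (bcRingHom hj.1) :=
  ⟨mono_bcRingHom_of_isSchDense j hj, fun h => by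
    haveI := h
    exact isSchDense_of_mono_bcRingHom hX j hj⟩

end Groth.Agent.Helper2.SchDenseChart
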