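import Groth.Prelude.Def_AlgSpSub
import Groth.Agent.Lib.Helper2.AlgSp.SchImageFlat2
import Groth.Agent.Lib.Helper2.AlgSp.ImmTop
import Groth.Agent.S2121

/-!
# Points of the scheme theoretic image are reached by valuation rings (helper2)
-/

set_option autoImplicit false
set_option backward.isDefEq.respectTransparency false
set_option linter.style.haveILetI false
universe u
open CategoryTheory CategoryTheory.Limits AlgebraicGeometry Opposite AlgSp

namespace Groth.Agent.Helper2.SchImageVal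
open Groth.Agent.Helper2.AlgSpBasic Groth.Agent.Helper2.SchImageFlat

variable {S : Scheme.{u}}

/-- A closed immersion into the spectrum of a domain through which the generic point factors is
an isomorphism. -/
theorem isIso_of_generic_factors {A : Type u} [CommRing A] [IsDomain A] {T : Scheme.{u}}
    (c : T ⟶ Spec (CommRingCat.of A)) [IsClosedImmersion c]
    (l : Spec (CommRingCat.of (FractionRing A)) ⟶ T)
    (hl : l ≫ c = Spec.map (CommRingCat.ofHom (algebraMap A (FractionRing A)))) : IsIso c := by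
  apply IsClosedImmersion.isIso_of_injective_of_isAffine
  have h1 : Function.Injective (l ≫ c).appTop.hom := by
    rw [hl]
    have h2 : (Spec.map (CommRingCat.ofHom (algebraMap A (FractionRing A)))).appTop =
        (Scheme.ΓSpecIso _).hom ≫ CommRingCat.ofHom (algebraMap A (FractionRing A)) ≫
          (Scheme.ΓSpecIso _).inv := by
      rw [← Scheme.ΓSpecIso_naturality_assoc, Iso.hom_inv_id, Category.comp_id]
    rw [h2]
    simp only [CommRingCat.hom_comp, RingHom.coe_comp]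
    refine (ConcreteCategory.injective_of_mono_of_preservesPullback _).comp
      (Function.Injective.comp ?_ (ConcreteCategory.injective_of_mono_of_preservesPullback _))
    exact IsFractionRing.injective A (FractionRing A)
  rw [Scheme.Hom.comp_appTop] at h1
  simp only [CommRingCat.hom_comp, RingHom.coe_comp] at h1
  exact Function.Injective.of_comp h1

/-- S9979. -/
theorem main79 {X Y Z : Sp S} (hX : IsAlgSpace X) (hY : IsAlgSpace Y) (hZ : IsAlgSpace Z)
    (f : X ⟶ Y) (i : Z ⟶ Y) (hq : IsQuasiCompactMor f) (hZi : IsSchImage f i) (z : Points Z) :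
    ∃ (A : Type u) (_ : CommRing A) (_ : IsDomain A) (_ : ValuationRing A)
      (str : Spec (CommRingCat.of A) ⟶ S) (a : (yon S).obj (Over.mk str) ⟶ Z)
      (x : (yon S).obj (Over.mk
        (Spec.map (CommRingCat.ofHom (algebraMap A (FractionRing A))) ≫ str)) ⟶ X),
      Points.ofPt a (IsLocalRing.closedPoint A) = z ∧
      x ≫ f = (yon S).map (Over.homMk
        (Spec.map (CommRingCat.ofHom (algebraMap A (FractionRing A)))) rfl) ≫ a ≫ i := by
  have hy : Points.map i z ∈ closure (Set.range (Points.map f)) :=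
    range_subset_closure hX hY hZ f hq i hZi ⟨z, rfl⟩
  obtain ⟨V, φ, hφe, hφs⟩ := hY.atlas
  obtain ⟨v, hv⟩ := surjective_ofPt φ hφs (Points.map i z)
  obtain ⟨V₀, hV₀, hvV₀⟩ : ∃ V₀ : V.left.Opens, IsAffineOpen V₀ ∧ v ∈ V₀ := by
    obtain ⟨_, ⟨V₀, hV₀, rfl⟩, hvV₀, -⟩ :=
      V.left.isBasis_affineOpens.exists_subset_of_mem_open (Set.mem_univ v) isOpen_univ
    exact ⟨V₀, hV₀, hvV₀⟩
  -- the affine chart
  let ι₀ : Over.mk (V₀.ι ≫ V.hom) ⟶ V := Over.homMk V₀.ι rfl
  have hφ₀e : RepWith @Etale ((yon S).map ι₀ ≫ φ) :=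
    repWith_comp @Etale ((repWith_yon_map_iff @Etale ι₀).mpr (inferInstanceAs (Etale V₀.ι))) hφe
  haveI : IsAffine (Over.mk (V₀.ι ≫ V.hom)).left := hV₀
  have sq₀ := IsPullback.of_hasPullback f ((yon S).map ι₀ ≫ φ)
  have hX₀ : IsAlgSpace (pullback f ((yon S).map ι₀ ≫ φ)) :=
    isAlgSpace_of_isPullback hY.diag hX (IsAlgSpace.yon_obj _) f _ _ _ sq₀
  have hX₀q : IsQuasiCompactSp (pullback f ((yon S).map ι₀ ≫ φ)) :=
    hq (IsAlgSpace.yon_obj _) ((isQuasiCompactSp_yon_iff _).mpr inferInstance) _ _ _ sq₀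
  obtain ⟨U₀, a, hU₀, hae, has⟩ := (isQuasiCompactSp_iff_exists_affine_chart hX₀).mp hX₀q
  obtain ⟨g₀, hg₀⟩ := (yon S).map_surjective (a ≫ pullback.snd f ((yon S).map ι₀ ≫ φ))
  haveI := hU₀
  haveI : IsAffine (Over.mk (V₀.ι ≫ V.hom)).left := hV₀
  haveI : QuasiCompact g₀.left := inferInstance
  -- the point `v` is in the closure of the image
  have hsub : Points.ofPt ((yon S).map ι₀ ≫ φ) ⁻¹' Set.range (Points.map f) ⊆
      Set.range g₀.left := by
    rintro t ⟨x, hx⟩
    rw [Points.ofPt_eq_map_ofScheme] at hx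
    obtain ⟨p, hp1, hp2⟩ := points_exists_of_isPullback f ((yon S).map ι₀ ≫ φ)
      (pullback.snd f _) (pullback.fst f _) sq₀.flip (Points.ofScheme _ t) x hx.symm
    obtain ⟨u, rfl⟩ := surjective_ofPt a has p
    refine ⟨u, (Points.schemeEquiv _).injective ?_⟩
    show Points.ofScheme _ (g₀.left u) = Points.ofScheme _ t
    rw [← hp1, Points.map_ofPt, ← hg₀]
    have := ofPt_yon_map_comp g₀ (𝟙 _) u
    rw [Category.comp_id] at this
    exact this.symm
  have hv₀ : (⟨v, hvV₀⟩ : V₀.toScheme) ∈ closure (Set.range g₀.left) := by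
    refine closure_mono hsub ?_
    rw [← (isOpenMap_ofPt _ hφ₀e).preimage_closure_eq_closure_preimage
      (Points.continuous_ofPt _)]
    show Points.ofPt ((yon S).map ι₀ ≫ φ) ⟨v, hvV₀⟩ ∈ closure (Set.range (Points.map f))
    rw [ofPt_yon_map_comp]
    show Points.ofPt φ v ∈ _
    rw [hv]
    exact hy
  obtain ⟨A, instA, instD, instV, x, y', hxy, hy'⟩ :=
    Groth.Agent.S2121.result g₀.left ⟨v, hvV₀⟩ hv₀
  let str : Spec (CommRingCat.of A) ⟶ S := y' ≫ (V₀.ι ≫ V.hom)
  let yA : Over.mk str ⟶ Over.mk (V₀.ι ≫ V.hom) := Over.homMk y' rfl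
  let ιK : Over.mk (Spec.map (CommRingCat.ofHom (algebraMap A (FractionRing A))) ≫ str) ⟶
      Over.mk str := Over.homMk (Spec.map (CommRingCat.ofHom (algebraMap A (FractionRing A)))) rfl
  have hxw : x ≫ U₀.hom =
      Spec.map (CommRingCat.ofHom (algebraMap A (FractionRing A))) ≫ str := by
    rw [← Over.w g₀, ← Category.assoc, hxy, Category.assoc]
    rfl
  let xK : Over.mk (Spec.map (CommRingCat.ofHom (algebraMap A (FractionRing A))) ≫ str) ⟶ U₀ :=
    Over.homMk x hxw
  have hxK : xK ≫ g₀ = ιK ≫ yA := by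
    apply Over.OverMorphism.ext
    exact hxy
  have hx'f : ((yon S).map xK ≫ a ≫ pullback.fst f ((yon S).map ι₀ ≫ φ)) ≫ f =
      (yon S).map ιK ≫ (yon S).map yA ≫ (yon S).map ι₀ ≫ φ := by
    have e1 : (yon S).map xK ≫ (yon S).map g₀ = (yon S).map ιK ≫ (yon S).map yA := by
      rw [← Functor.map_comp, ← Functor.map_comp]
      exact congrArg (fun m => (yon S).map m) hxK
    calc ((yon S).map xK ≫ a ≫ pullback.fst f ((yon S).map ι₀ ≫ φ)) ≫ f
        = (yon S).map xK ≫ a ≫ (pullback.fst f ((yon S).map ι₀ ≫ φ) ≫ f) := by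
          simp only [Category.assoc]
      _ = (yon S).map xK ≫ a ≫ (pullback.snd f ((yon S).map ι₀ ≫ φ) ≫
            ((yon S).map ι₀ ≫ φ)) := by rw [sq₀.w]
      _ = ((yon S).map xK ≫ (yon S).map g₀) ≫ ((yon S).map ι₀ ≫ φ) := by
          rw [hg₀]
          simp only [Category.assoc]
      _ = (yon S).map ιK ≫ (yon S).map yA ≫ (yon S).map ι₀ ≫ φ := by
          rw [e1]
          simp only [Category.assoc]
  have hrep := hZi.1.rep
  have sqβ := hrep.isPullback ((yon S).map yA ≫ (yon S).map ι₀ ≫ φ)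
  haveI hci : IsClosedImmersion (hrep.snd ((yon S).map yA ≫ (yon S).map ι₀ ≫ φ)).left :=
    hZi.1.property_snd _
  obtain ⟨f', hf'⟩ := hZi.2.1
  have w : (((yon S).map xK ≫ a ≫ pullback.fst f ((yon S).map ι₀ ≫ φ)) ≫ f') ≫ i =
      (yon S).map ιK ≫ (yon S).map yA ≫ (yon S).map ι₀ ≫ φ := by
    rw [Category.assoc, hf', hx'f]
  obtain ⟨l, hl⟩ := (yon S).map_surjective (sqβ.lift _ _ w)
  have hl2 : l ≫ hrep.snd ((yon S).map yA ≫ (yon S).map ι₀ ≫ φ) = ιK :=
    (yon S).map_injective (by rw [Functor.map_comp, hl, sqβ.lift_snd])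
  have hl3 : l.left ≫ (hrep.snd ((yon S).map yA ≫ (yon S).map ι₀ ≫ φ)).left =
      Spec.map (CommRingCat.ofHom (algebraMap A (FractionRing A))) :=
    congrArg (fun m => m.left) hl2
  haveI hiso : IsIso (hrep.snd ((yon S).map yA ≫ (yon S).map ι₀ ≫ φ)).left :=
    isIso_of_generic_factors _ l.left hl3
  haveI : IsIso (hrep.snd ((yon S).map yA ≫ (yon S).map ι₀ ≫ φ)) := by
    haveI : IsIso ((Over.forget S).map (hrep.snd ((yon S).map yA ≫ (yon S).map ι₀ ≫ φ))) :=
      hiso
    exact isIso_of_reflects_iso _ (Over.forget S)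
  have haZ : (inv ((yon S).map (hrep.snd ((yon S).map yA ≫ (yon S).map ι₀ ≫ φ))) ≫
      hrep.fst ((yon S).map yA ≫ (yon S).map ι₀ ≫ φ)) ≫ i =
      (yon S).map yA ≫ (yon S).map ι₀ ≫ φ := by
    rw [Category.assoc, sqβ.w, IsIso.inv_hom_id_assoc]
  refine ⟨A, instA, instD, instV, str,
    inv ((yon S).map (hrep.snd ((yon S).map yA ≫ (yon S).map ι₀ ≫ φ))) ≫
      hrep.fst ((yon S).map yA ≫ (yon S).map ι₀ ≫ φ),
    (yon S).map xK ≫ a ≫ pullback.fst f ((yon S).map ι₀ ≫ φ), ?_, hx'f.trans ?_⟩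
  · have hci' : RepWith @IsImmersion i :=
      repWith_mono (fun _ _ g (hg : IsClosedImmersion g) => (inferInstance : IsImmersion g))
        hZi.1
    apply (Groth.Agent.Helper2.ImmTop.main hY i hci').1.injective
    rw [Points.map_ofPt, haZ, ofPt_yon_map_comp, ofPt_yon_map_comp, ← hv]
    congr 1
    show V₀.ι (y' (IsLocalRing.closedPoint A)) = v
    have : y' (IsLocalRing.closedPoint A) = ⟨v, hvV₀⟩ := hy'
    rw [this]
    rfl
  · rw [haZ]

end Groth.Agent.Helper2.SchImageVal
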