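import Groth.Prelude.Def_AlgSpSub
import Groth.Agent.Lib.Helper2.AlgSp.SchDenseImage

/-!
# The scheme theoretic image of a section of a separated morphism over a quasi-compact open
(helper2)
-/

set_option autoImplicit false
set_option backward.isDefEq.respectTransparency false
set_option linter.style.haveILetI false
universe u
open CategoryTheory CategoryTheory.Limits AlgebraicGeometry Opposite AlgSp

namespace Groth.Agent.Helper2.SectionImage
open Groth.Agent.Helper2.AlgSpBasic Groth.Agent.Helper2.CartierPull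
  Groth.Agent.Helper2.CartierDescent Groth.Agent.Helper2.CartierSum Groth.Agent.Helper2.CutOut
  Groth.Agent.Helper2.ChartIdeal Groth.Agent.Helper2.KerFlat Groth.Agent.Helper2.SchImage
  Groth.Agent.Helper2.KerIdeal Groth.Agent.Helper2.SchImageFlat Groth.Agent.Helper2.ImmFactor

variable {S : Scheme.{u}}

theorem isSchImage_self {A B : Sp S} (i : A ⟶ B) (hi : RepWith @IsClosedImmersion i) :
    IsSchImage i i :=
  ⟨hi, ⟨𝟙 _, Category.id_comp _⟩, fun _ _ _ _ h => h⟩

/-- S9967. -/
theorem main67 {X Y V Y' P : Sp S} (hX : IsAlgSpace X) (hY : IsAlgSpace Y) (hV : IsAlgSpace V)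
    (hY' : IsAlgSpace Y') (f : X ⟶ Y) (j : V ⟶ Y) (hj : RepWith @IsOpenImmersion j)
    (hjq : IsQuasiCompactMor j) (hf : IsSeparatedMor f) (s : V ⟶ X) (hs : s ≫ f = j)
    (c : Y' ⟶ X) (hc : IsSchImage s c) (fst : P ⟶ Y') (snd : P ⟶ V)
    (sq : IsPullback fst snd (c ≫ f) j) : IsIso snd := by
  haveI : Mono j := mono_of_repWith_monomorphisms j (repWith_mono
    (fun _ _ g (hg : IsOpenImmersion g) => (inferInstance : Mono g)) hj)
  have sq0 := IsPullback.of_hasPullback f j
  have hXV : IsAlgSpace (pullback f j) := isAlgSpace_of_isPullback hY.diag hX hV f j _ _ sq0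
  have hw : s ≫ f = 𝟙 V ≫ j := by rw [hs, Category.id_comp]
  have h1 : sq0.lift s (𝟙 V) hw ≫ pullback.fst f j = s := sq0.lift_fst _ _ hw
  have h2 : sq0.lift s (𝟙 V) hw ≫ pullback.snd f j = 𝟙 V := sq0.lift_snd _ _ hw
  have hγ : (pullback.snd f j ≫ s) ≫ f = pullback.fst f j ≫ f := by
    rw [Category.assoc, hs]
    exact sq0.w.symm
  have hγ1 : pullback.lift _ _ hγ ≫ pullback.fst f f = pullback.snd f j ≫ s :=
    pullback.lift_fst _ _ hγ
  have hγ2 : pullback.lift _ _ hγ ≫ pullback.snd f f = pullback.fst f j :=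
    pullback.lift_snd _ _ hγ
  have sqΔ : IsPullback s (sq0.lift s (𝟙 V) hw) (pullback.diagonal f) (pullback.lift _ _ hγ) := by
    refine ⟨⟨?_⟩, ⟨PullbackCone.IsLimit.mk _ (fun t => t.snd ≫ pullback.snd f j) ?_ ?_ ?_⟩⟩
    · apply pullback.hom_ext
      · rw [Category.assoc, Category.assoc, pullback.diagonal_fst, hγ1, Category.comp_id,
          ← Category.assoc, h2, Category.id_comp]
      · rw [Category.assoc, Category.assoc, pullback.diagonal_snd, hγ2, Category.comp_id, h1]
    · intro t
      have := congrArg (fun m => m ≫ pullback.fst f f) t.condition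
      simp only [Category.assoc, pullback.diagonal_fst, Category.comp_id, hγ1] at this
      rw [Category.assoc]
      exact this.symm
    · intro t
      have e1 := congrArg (fun m => m ≫ pullback.fst f f) t.condition
      simp only [Category.assoc, pullback.diagonal_fst, Category.comp_id, hγ1] at e1
      have e2 := congrArg (fun m => m ≫ pullback.snd f f) t.condition
      simp only [Category.assoc, pullback.diagonal_snd, Category.comp_id, hγ2] at e2
      apply pullback.hom_ext
      · rw [Category.assoc, h1, ← e2, e1, Category.assoc]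
      · rw [Category.assoc, h2, Category.comp_id]
    · intro t m hm1 hm2
      rw [← hm2, Category.assoc, h2, Category.comp_id]
  have h4 : RepWith @IsClosedImmersion (sq0.lift s (𝟙 V) hw) :=
    repWith_of_isPullback @IsClosedImmersion sqΔ hf
  have hsVq : IsQuasiCompactMor (sq0.lift s (𝟙 V) hw) :=
    isQuasiCompactMor_of_repWith hV hXV.diag _ (repWith_mono
      (fun _ _ g (hg : IsClosedImmersion g) => (inferInstance : QuasiCompact g)) h4)
  have hp1q : IsQuasiCompactMor (pullback.fst f j) :=
    isQuasiCompactMor_of_isPullback sq0.flip hjq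
  have hsq : IsQuasiCompactMor s := by
    rw [← h1]
    exact isQuasiCompactMor_comp hXV hX.diag _ _ hsVq hp1q
  have hl : (fst ≫ c) ≫ f = snd ≫ j := by
    rw [Category.assoc]
    exact sq.w
  have hl1 : sq0.lift (fst ≫ c) snd hl ≫ pullback.fst f j = fst ≫ c := sq0.lift_fst _ _ hl
  have hl2 : sq0.lift (fst ≫ c) snd hl ≫ pullback.snd f j = snd := sq0.lift_snd _ _ hl
  have sqP : IsPullback fst (sq0.lift (fst ≫ c) snd hl) c (pullback.fst f j) := by
    refine IsPullback.of_bot ?_ hl1.symm sq0
    rw [hl2]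
    exact sq
  have hp1o : RepWith @IsOpenImmersion (pullback.fst f j) :=
    repWith_of_isPullback @IsOpenImmersion sq0.flip hj
  have hp1e : RepWith @Etale (pullback.fst f j) :=
    repWith_mono (fun _ _ g (hg : IsOpenImmersion g) => (inferInstance : Etale g)) hp1o
  have hp1et : IsEtaleMor (pullback.fst f j) := fun U ψ hψ => repWith_comp @Etale hψ hp1e
  have hP : IsAlgSpace P := isAlgSpace_of_isPullback hY.diag hY' hV (c ≫ f) j fst snd sq
  have sqV : IsPullback (𝟙 V) (sq0.lift s (𝟙 V) hw) s (pullback.fst f j) := by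
    refine ⟨⟨by rw [Category.id_comp, h1]⟩,
      ⟨PullbackCone.IsLimit.mk _ (fun t => t.snd ≫ pullback.snd f j) ?_ ?_ ?_⟩⟩
    · intro t
      rw [Category.comp_id, ← cancel_mono j, Category.assoc, ← sq0.w, ← Category.assoc,
        ← t.condition, Category.assoc, hs]
    · intro t
      apply pullback.hom_ext
      · rw [Category.assoc, h1, ← t.condition]
        congr 1
        rw [← cancel_mono j, Category.assoc, ← sq0.w, ← Category.assoc,
          ← t.condition, Category.assoc, hs]
      · rw [Category.assoc, h2, Category.comp_id]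
    · intro t m hm1 hm2
      rw [← hm2, Category.assoc, h2, Category.comp_id]
  have hsch : IsSchImage (sq0.lift s (𝟙 V) hw) (sq0.lift (fst ≫ c) snd hl) :=
    isSchImage_of_hasFlatCharts hXV hX hV hY' hV hP _
      (hasFlatCharts_of_isEtaleMor hXV _ hp1et) s hsq c hc (𝟙 V) _ sqV fst _ sqP
  obtain ⟨k, hk⟩ := hsch.2.2 _ hV h4 ⟨𝟙 V, Category.id_comp _⟩
  obtain ⟨k', hk'⟩ := hsch.2.1
  haveI : Mono (sq0.lift (fst ≫ c) snd hl) := mono_of_repWith_monomorphisms _ (repWith_mono
    (fun _ _ g (hg : IsClosedImmersion g) => (inferInstance : Mono g)) hsch.1)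
  have hsnd : snd = k := by
    rw [← hl2, ← hk, Category.assoc, h2, Category.comp_id]
  refine ⟨⟨k', ?_, ?_⟩⟩
  · rw [← cancel_mono (sq0.lift (fst ≫ c) snd hl), Category.assoc, hk', Category.id_comp]
    exact (congrArg (fun m => m ≫ sq0.lift s (𝟙 V) hw) hsnd).trans hk
  · rw [← hl2, ← Category.assoc, hk', h2]

end Groth.Agent.Helper2.SectionImage
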