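import Mathlib
import Groth.Prelude.Def_AlgSp4
import Groth.Agent.Lib.Helper2.AlgSp.UnramDiag
import Groth.Agent.Lib.Helper2.AlgSp.ProperQf
import Groth.Agent.Lib.Helper2.AlgSp.QfAtBCSp

/-!
# Properties of `f` from those of the projection `X ×_Y X ⟶ X` (helper2)
-/

set_option autoImplicit false
universe u
open CategoryTheory CategoryTheory.Limits AlgebraicGeometry Opposite AlgSp
open Groth.Agent.Helper2.AlgSpBasic Groth.Agent.Helper2.EtaleLocal Groth.Agent.Helper2.QfAtSp

namespace Groth.Agent.Helper2.SelfBC

variable {S : Scheme.{u}}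

/-- If the second projection `X ×_Y X ⟶ X` is unramified and `f` is locally of finite type, then
`f` is unramified. -/
theorem unramified_of_snd {X Y : Sp S} (hX : IsAlgSpace X) (hY : IsAlgSpace Y) (f : X ⟶ Y)
    (hf : LocP @LocallyOfFiniteType f)
    (hsnd : LocP (@LocallyOfFiniteType ⊓ @FormallyUnramified) (pullback.snd f f)) :
    LocP (@LocallyOfFiniteType ⊓ @FormallyUnramified) f := by
  have sq := IsPullback.of_hasPullback f f
  have hPP : IsAlgSpace (pullback f f) := isAlgSpace_of_isPullback hY.diag hX hX f f _ _ sq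
  have hid : LocP @Etale (pullback.diagonal f ≫ pullback.snd f f) := by
    rw [pullback.diagonal_snd]
    exact locP_id _ hX.diag
  have hΔ : LocP @Etale (pullback.diagonal f) :=
    locP_of_comp' @Etale (@LocallyOfFiniteType ⊓ @FormallyUnramified)
      (fun A B C x y (hxy : Etale (x ≫ y)) hy => by
        have : LocallyOfFiniteType y := hy.1
        have : FormallyUnramified y := hy.2
        exact Etale.of_comp x y) hX hPP hX _ _ hid hsnd
  have : Mono (pullback.diagonal f) := mono_of_mono_fac (pullback.diagonal_fst f)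
  have hoi : RepWith @IsOpenImmersion (pullback.diagonal f) :=
    (repWith_isOpenImmersion_iff hX hPP _).2 ⟨inferInstance, hΔ⟩
  exact unramified_of_repWith_isOpenImmersion_diagonal hX f hf hoi

/-- If the second projection `X ×_Y X ⟶ X` is locally quasi-finite and `f` is locally of finite
type, then `f` is locally quasi-finite. -/
theorem lqf_of_snd {X Y : Sp S} (hX : IsAlgSpace X) (hY : IsAlgSpace Y) (f : X ⟶ Y)
    (hf : LocP @LocallyOfFiniteType f)
    (hsnd : LocP (@LocallyQuasiFinite ⊓ @LocallyOfFiniteType) (pullback.snd f f)) :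
    LocP (@LocallyQuasiFinite ⊓ @LocallyOfFiniteType) f := by
  have sq := IsPullback.of_hasPullback f f
  have hPP : IsAlgSpace (pullback f f) := isAlgSpace_of_isPullback hY.diag hX hX f f _ _ sq
  refine Groth.Agent.Helper2.ProperQf.locP_lqf_of_forall_hasAtMor hX hY f hf fun x => ?_
  have h1 := Groth.Agent.Helper2.ProperQf.hasAtMor_of_locP_lqf hPP hX _ hsnd
    (Points.map (pullback.diagonal f) x)
  rw [Groth.Agent.Helper2.QfAtBCSp.hasAtMor_qf_bc_iff hX hY hPP hX f f _ _ sq hf] at h1
  rw [← Points.map_comp, pullback.diagonal_fst, Points.map_id] at h1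
  exact h1

end Groth.Agent.Helper2.SelfBC
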