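import Mathlib
import Groth.Prelude.Def_AlgSp2
import Groth.Agent.Lib.Helper2.AlgSp.Diag

/-!
# Separatedness of algebraic spaces via affine fibre products (helper2)
-/

set_option autoImplicit false
set_option linter.style.haveILetI false
universe u
open CategoryTheory CategoryTheory.Limits AlgebraicGeometry Opposite AlgSp
open Groth.Agent.Helper2.AlgSpBasic

namespace Groth.Agent.Helper2.SepAffine

/-- In a pushout square of commutative rings, the images of the two legs generate the pushout
(as a `ℤ`-algebra). -/
theorem range_sup_range_eq_top_of_isPushout {R S A B : CommRingCat.{u}} (σ : R ⟶ S) (α : R ⟶ A)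
    (β : S ⟶ B) (τ : A ⟶ B) (po : IsPushout σ α β τ) :
    β.hom.toIntAlgHom.range ⊔ τ.hom.toIntAlgHom.range = ⊤ := by
  let _ : Algebra R S := σ.hom.toAlgebra
  let _ : Algebra R A := α.hom.toAlgebra
  let _ : Algebra S B := β.hom.toAlgebra
  let _ : Algebra A B := τ.hom.toAlgebra
  let _ : Algebra R B := (β.hom.comp σ.hom).toAlgebra
  have : IsScalarTower R S B := .of_algebraMap_eq' rfl
  have : IsScalarTower R A B := .of_algebraMap_eq' (by
    have := congrArg CommRingCat.Hom.hom po.w
    exact this)
  have hpo : Algebra.IsPushout R S A B := CommRingCat.isPushout_iff_isPushout.mp po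
  have hbc := hpo.out
  rw [eq_top_iff]
  intro x _
  refine hbc.inductionOn x (fun y => y ∈ β.hom.toIntAlgHom.range ⊔ τ.hom.toIntAlgHom.range)
    (zero_mem _) ?_ ?_ ?_
  · intro m
    exact (le_sup_right : τ.hom.toIntAlgHom.range ≤ _) ⟨m, rfl⟩
  · intro s n hn
    have hs : β.hom s ∈ β.hom.toIntAlgHom.range ⊔ τ.hom.toIntAlgHom.range :=
      (le_sup_left : β.hom.toIntAlgHom.range ≤ _) ⟨s, rfl⟩
    have : s • n = β.hom s * n := Algebra.smul_def s n
    rw [this]
    exact mul_mem hs hn
  · intro n₁ n₂ h₁ h₂
    exact add_mem h₁ h₂

variable {X Y P : Scheme.{u}}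

/-- The map to the absolute product. -/
noncomputable abbrev toProd (fst : P ⟶ X) (snd : P ⟶ Y) :
    P ⟶ pullback (terminal.from X) (terminal.from Y) :=
  pullback.lift fst snd (terminal.hom_ext _ _)

/-- If `P ⟶ X × Y` is a closed immersion with `X`, `Y` affine, then `P` is affine and the product
map on global sections is surjective. -/
theorem affine_and_surjective_of_isClosedImmersion [IsAffine X] [IsAffine Y] (fst : P ⟶ X)
    (snd : P ⟶ Y) (h : IsClosedImmersion (toProd fst snd)) :
    IsAffine P ∧ Function.Surjective (Algebra.TensorProduct.productMap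
      fst.appTop.hom.toIntAlgHom snd.appTop.hom.toIntAlgHom) := by
  haveI := h
  haveI : IsAffine P := isAffine_of_isAffineHom (toProd fst snd)
  refine ⟨inferInstance, ?_⟩
  have hψ : Function.Surjective (toProd fst snd).appTop.hom :=
    (IsClosedImmersion.isAffine_surjective_of_isAffine (f := toProd fst snd)).2
  have po := isPushout_appTop_of_isPullback
    (IsPullback.of_hasPullback (terminal.from X) (terminal.from Y))
  have hgen := range_sup_range_eq_top_of_isPushout _ _ _ _ po
  have e1 : fst.appTop.hom.toIntAlgHom = ((toProd fst snd).appTop.hom.toIntAlgHom).comp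
      (pullback.fst (terminal.from X) (terminal.from Y)).appTop.hom.toIntAlgHom := by
    apply AlgHom.coe_ringHom_injective
    have := congrArg (fun f => f.appTop.hom) (pullback.lift_fst (f := terminal.from X) (g := terminal.from Y) fst snd
      (terminal.hom_ext _ _))
    simp only [Scheme.Hom.comp_appTop, CommRingCat.hom_comp] at this
    exact this.symm
  have e2 : snd.appTop.hom.toIntAlgHom = ((toProd fst snd).appTop.hom.toIntAlgHom).comp
      (pullback.snd (terminal.from X) (terminal.from Y)).appTop.hom.toIntAlgHom := by
    apply AlgHom.coe_ringHom_injective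
    have := congrArg (fun f => f.appTop.hom) (pullback.lift_snd (f := terminal.from X) (g := terminal.from Y) fst snd
      (terminal.hom_ext _ _))
    simp only [Scheme.Hom.comp_appTop, CommRingCat.hom_comp] at this
    exact this.symm
  rw [← AlgHom.range_eq_top, Algebra.TensorProduct.productMap_range, e1, e2, AlgHom.range_comp,
    AlgHom.range_comp, ← Algebra.map_sup, hgen, Algebra.map_top, AlgHom.range_eq_top]
  exact hψ

/-- Conversely, if `P` is affine and the product map on global sections is surjective, then
`P ⟶ X × Y` is a closed immersion. -/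
theorem isClosedImmersion_of_affine_of_surjective [IsAffine X] [IsAffine Y] [IsAffine P]
    (fst : P ⟶ X) (snd : P ⟶ Y)
    (h : Function.Surjective (Algebra.TensorProduct.productMap
      fst.appTop.hom.toIntAlgHom snd.appTop.hom.toIntAlgHom)) :
    IsClosedImmersion (toProd fst snd) := by
  apply IsClosedImmersion.of_surjective_of_isAffine
  have e1 : fst.appTop.hom.toIntAlgHom = ((toProd fst snd).appTop.hom.toIntAlgHom).comp
      (pullback.fst (terminal.from X) (terminal.from Y)).appTop.hom.toIntAlgHom := by
    apply AlgHom.coe_ringHom_injective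
    have := congrArg (fun f => f.appTop.hom) (pullback.lift_fst (f := terminal.from X) (g := terminal.from Y) fst snd
      (terminal.hom_ext _ _))
    simp only [Scheme.Hom.comp_appTop, CommRingCat.hom_comp] at this
    exact this.symm
  have e2 : snd.appTop.hom.toIntAlgHom = ((toProd fst snd).appTop.hom.toIntAlgHom).comp
      (pullback.snd (terminal.from X) (terminal.from Y)).appTop.hom.toIntAlgHom := by
    apply AlgHom.coe_ringHom_injective
    have := congrArg (fun f => f.appTop.hom) (pullback.lift_snd (f := terminal.from X) (g := terminal.from Y) fst snd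
      (terminal.hom_ext _ _))
    simp only [Scheme.Hom.comp_appTop, CommRingCat.hom_comp] at this
    exact this.symm
  rw [← AlgHom.range_eq_top, Algebra.TensorProduct.productMap_range, e1, e2, AlgHom.range_comp,
    AlgHom.range_comp, ← Algebra.map_sup] at h
  have h2 : (toProd fst snd).appTop.hom.toIntAlgHom.range = ⊤ := by
    rw [eq_top_iff, ← h]
    exact Subalgebra.map_le.mpr (fun x _ => ⟨x, rfl⟩)
  exact AlgHom.range_eq_top _ |>.mp h2


variable {S : Scheme.{u}}

/-- The comparison `U ×_S V ⟶ U × V`. -/
noncomputable abbrev rest (U V : Over S) :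
    (U ⨯ V).left ⟶ pullback (terminal.from U.left) (terminal.from V.left) :=
  (Over.prodLeftIsoPullback U V).hom ≫ pullback.mapDesc U.hom V.hom (terminal.from S) ≫
    (pullback.congrHom (terminal.hom_ext (U.hom ≫ terminal.from S) (terminal.from U.left))
      (terminal.hom_ext (V.hom ≫ terminal.from S) (terminal.from V.left))).hom

theorem toProd_eq {U V P : Over S} (fst : P ⟶ U) (snd : P ⟶ V) :
    toProd fst.left snd.left = (prod.lift fst snd).left ≫ rest U V := by
  apply pullback.hom_ext
  · rw [pullback.lift_fst]
    simp only [rest, pullback.congrHom_hom, Category.assoc, pullback.lift_fst,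
      Category.comp_id, Over.prodLeftIsoPullback_hom_fst]
    rw [← Over.comp_left, prod.lift_fst]
  · rw [pullback.lift_snd]
    simp only [rest, pullback.congrHom_hom, Category.assoc, pullback.lift_snd,
      Category.comp_id, Over.prodLeftIsoPullback_hom_snd]
    rw [← Over.comp_left, prod.lift_snd]

instance (U V : Over S) : IsImmersion (rest U V) := by
  unfold rest; infer_instance

instance (U V : Over S) [S.IsSeparated] : IsClosedImmersion (rest U V) := by
  unfold rest; infer_instance

end Groth.Agent.Helper2.SepAffine
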