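import Mathlib
import Groth.Prelude.Def_AlgSpCov
import Groth.Agent.Lib.Helper2.AlgSp.SmoothLocal
import Groth.Agent.Lib.Helper2.AlgSp.Source
import Groth.Agent.Lib.Helper2.AlgSp.FpqcCover2
import Groth.Agent.Lib.Helper2.AlgSp.Fpqc
import Groth.Agent.Lib.Helper2.SmoothSource

/-!
# Properties of morphisms of algebraic spaces that are smooth local on source-and-target (helper2)
-/
namespace Groth.Agent.Helper2.AlgSpBasic
open CategoryTheory CategoryTheory.Limits AlgebraicGeometry Opposite AlgSp Topology
open Groth.Agent.Helper2.EtaleLocal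
universe u
variable {S : Scheme.{u}}

theorem isFppfCover_of_isSmCover {ι : Type u} {X : Sp S} (Xi : ι → Sp S) (g : ∀ i, Xi i ⟶ X)
    (h : IsSmCover Xi g) : IsFppfCover Xi g :=
  ⟨fun i => ⟨locP_mono (fun _ _ _ hf => by haveI : Smooth _ := hf; infer_instance) (h.1 i),
    locP_mono (fun _ _ _ hf => by haveI : Smooth _ := hf; infer_instance) (h.1 i)⟩, h.2⟩

/-- `LocP Q` is smooth local on source-and-target as soon as `Q` is étale local on
source-and-target, contains the smooth morphisms, satisfies fpqc descent on the target and smooth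
descent on the source. -/
theorem isSmoothLocalST_locP (Q : MorphismProperty Scheme.{u}) [IsEtaleLocalST Q]
    [IsZariskiLocalAtSource Q] [IsZariskiLocalAtTarget Q]
    [Q.DescendsAlong (@Surjective ⊓ @Flat ⊓ @QuasiCompact)]
    (hQ : @Smooth ≤ Q)
    (hdesc : ∀ ⦃U' U V : Scheme.{u}⦄ (d : U' ⟶ U) (φ : U ⟶ V), Smooth d → Surjective d →
      Q (d ≫ φ) → Q φ) :
    IsSmoothLocalST (S := S) (LocP Q) := by
  refine isSmoothLocalST_of_local _ ?_ ?_ ?_
  · intro ι X Xi g hX hXi hcov Y f hY
    constructor
    · intro hf i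
      exact locP_comp Q (hXi i) hX hY (g i) f (locP_mono hQ (hcov.1 i)) hf
    · intro h
      exact locP_of_source_family Q @Smooth hdesc hX f Xi hXi g hcov.1 hcov.2 h
  · intro ι Y Yi g hY hYi hcov X f hX Xi p q hXi sq
    exact isLocalOnBase_fpqc_locP Q Yi g hY hYi
      (isFpqcCover_of_isFppfCover hY Yi hYi g (isFppfCover_of_isSmCover Yi g hcov)) f hX Xi p q
      hXi sq
  · intro X Y Z hX hY hZ f g hf hg
    exact locP_comp Q hX hY hZ f g hf (locP_mono hQ hg)

theorem isSmoothLocalST_locP_flat : IsSmoothLocalST (S := S) (LocP @Flat) :=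
  isSmoothLocalST_locP @Flat (fun _ _ _ hf => by haveI : Smooth _ := hf; infer_instance)
    (fun _ _ _ d φ hd hs h => by
      haveI : Smooth d := hd
      haveI : Surjective d := hs
      haveI : Flat (d ≫ φ) := h
      exact flat_of_flat_comp_of_surjective d φ)

theorem isSmoothLocalST_locP_lft : IsSmoothLocalST (S := S) (LocP @LocallyOfFiniteType) :=
  isSmoothLocalST_locP @LocallyOfFiniteType
    (fun _ _ _ hf => by haveI : Smooth _ := hf; infer_instance)
    (fun _ _ _ d φ hd hs h => by
      haveI : Smooth d := hd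
      haveI : Surjective d := hs
      exact locallyOfFiniteType_of_comp_smooth_surjective d φ h)

theorem isSmoothLocalST_locP_lfp :
    IsSmoothLocalST (S := S) (LocP @LocallyOfFinitePresentation) :=
  isSmoothLocalST_locP @LocallyOfFinitePresentation
    (fun _ _ _ hf => by haveI : Smooth _ := hf; infer_instance)
    (fun _ _ _ d φ hd hs h => by
      haveI : Smooth d := hd
      haveI : Surjective d := hs
      exact locallyOfFinitePresentation_of_comp_smooth_surjective d φ h)

end Groth.Agent.Helper2.AlgSpBasic
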