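import Mathlib
import Groth.Prelude.Def_AlgSpCov
import Groth.Agent.Lib.Helper2.AlgSp.SmoothLocalP
import Groth.Agent.Lib.Helper2.SmoothLocalSmooth

/-!
# Smoothness of morphisms of algebraic spaces is smooth local on source-and-target (helper2)
-/
namespace Groth.Agent.Helper2.AlgSpBasic
open CategoryTheory CategoryTheory.Limits AlgebraicGeometry Opposite AlgSp Topology
open Groth.Agent.Helper2.EtaleLocal
universe u
variable {S : Scheme.{u}}

theorem isSmoothLocalST_locP_smooth : IsSmoothLocalST (S := S) (LocP @Smooth) :=
  isSmoothLocalST_locP @Smooth (fun _ _ _ hf => hf)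
    (fun _ _ _ d φ hd hs h => by
      haveI : Smooth d := hd
      haveI : Surjective d := hs
      exact smooth_of_comp_smooth_surjective d φ h)

end Groth.Agent.Helper2.AlgSpBasic
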