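import Mathlib
import Groth.Prelude.Def_AlgSp3
import Groth.Agent.S1550
import Groth.Agent.Lib.Helper7.FieldBC
import Groth.Agent.Lib.Helper2.AlgSp.Coprod
import Groth.Agent.Lib.Helper2.AlgSp.PointsMor

/-!
# Finite separable points are dense in a smooth algebraic space over a field (helper2)
-/

set_option autoImplicit false

open CategoryTheory CategoryTheory.Limits AlgebraicGeometry Opposite AlgSp

namespace Groth.Agent.Helper2.SmoothSepDense
universe u

/-- The point `Spec κ(x) ⟶ X ⟶ Spec k` is `Spec` of the structure map of the residue field. -/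
theorem fromSpecResidueField_over (k : Type u) [Field k] (X : Scheme.{u})
    [X.Over (Spec (CommRingCat.of k))] (x : X) :
    X.fromSpecResidueField x ≫ (X ↘ Spec (CommRingCat.of k)) =
      Spec.map (CommRingCat.ofHom (Curv2.resMap k X x)) := by
  rw [Groth.Agent.Helper7.FieldBC.resMap_eq]
  rw [CommRingCat.ofHom_hom, Spec.map_comp, ← Scheme.Hom.SpecMap_residueFieldMap_fromSpecResidueField]
  congr 1
  rw [Scheme.fromSpecResidueField, Spec.fromSpecStalk_eq, ← Spec.map_comp]
  rfl

attribute [local instance] Curv2.resAlgebra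

theorem main (k : Type u) [Field k] (X : AlgSp.Space (Spec (CommRingCat.of k)))
    (p : X.obj ⟶ (AlgSp.yon (Spec (CommRingCat.of k))).obj (Over.mk (𝟙 _)))
    (hp : AlgSp.LocP @Smooth p) :
    Dense {x : AlgSp.Points X.obj | ∃ (k' : Type u) (_ : Field k') (_ : Algebra k k'),
      Module.Finite k k' ∧ Algebra.IsSeparable k k' ∧
        ∃ v : X.obj.obj.obj (Opposite.op (Over.mk (Spec.map (CommRingCat.ofHom (algebraMap k k'))))),
          AlgSp.Points.mk ⟨k', Spec.map (CommRingCat.ofHom (algebraMap k k')), v⟩ = x} := by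
  obtain ⟨U, a, hae, has⟩ := X.property.atlas
  have hT := Coprod.isTerminalYonId (Spec (CommRingCat.of k))
  have hsm : Smooth U.hom := by
    have := hp a (𝟙 _) (Over.homMk U.hom : U ⟶ Over.mk (𝟙 _)) hae
      (repWith_id @Etale _) (hT.hom_ext _ _)
    exact this
  letI : U.left.Over (Spec (CommRingCat.of k)) := ⟨U.hom⟩
  haveI : Smooth (U.left ↘ Spec (CommRingCat.of k)) := hsm
  have hD := Groth.Agent.S1550.result k U.left
  have hsurj : Function.Surjective (Points.ofPt a) := AlgSpBasic.surjective_ofPt a has
  have hD' := hsurj.denseRange.dense_image (Points.continuous_ofPt a) hD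
  refine hD'.mono ?_
  rintro _ ⟨u, ⟨-, hfin, hsep⟩, rfl⟩
  refine ⟨U.left.residueField u, inferInstance, Curv2.resAlgebra k U.left u, hfin, hsep, ?_⟩
  have hstr : Spec.map (CommRingCat.ofHom (algebraMap k (U.left.residueField u))) =
      U.left.fromSpecResidueField u ≫ U.hom := (fromSpecResidueField_over k U.left u).symm
  have key : ∀ (str' : Spec (CommRingCat.of (U.left.residueField u)) ⟶ Spec (CommRingCat.of k)),
      str' = U.left.fromSpecResidueField u ≫ U.hom →
      ∃ v : X.obj.obj.obj (Opposite.op (Over.mk str')),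
        AlgSp.Points.mk ⟨U.left.residueField u, str', v⟩ = Points.ofPt a u := by
    rintro str' rfl
    exact ⟨_, rfl⟩
  exact key _ hstr

end Groth.Agent.Helper2.SmoothSepDense
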