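import Mathlib
import Groth.Agent.Lib.Helper2.AlgSp.SourceFppf
import Groth.Agent.Lib.Helper2.EtaleLocalSmooth
import Groth.Agent.Lib.Helper2.LfpOfComp
import Groth.Agent.Lib.Helper3.FppfDesc4

/-! Smooth and étale morphisms descend along fppf covers of the source (helper2). -/
set_option linter.style.haveILetI false
namespace Groth.Agent.Helper2.AlgSpBasic
open CategoryTheory CategoryTheory.Limits AlgebraicGeometry Opposite Topology AlgSp
open Groth.Agent.Helper2.EtaleLocal
universe u
variable {S : Scheme.{u}}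

set_option backward.isDefEq.respectTransparency.types false in
/-- Étale morphisms of schemes descend along fppf covers of the source. -/
theorem etale_of_fppf_cover {U' U V : Scheme.{u}} (d : U' ⟶ U) (φ : U ⟶ V) [Surjective d]
    [Flat d] [LocallyOfFinitePresentation d] [Etale (d ≫ φ)] : Etale φ := by
  haveI : Smooth (d ≫ φ) := inferInstance
  haveI : Smooth φ := Groth.Agent.Helper3.FppfDesc.smooth_of_fppf_cover d φ
  have hmap : Flat (pullback.map (d ≫ φ) (d ≫ φ) φ φ d d (𝟙 V)
      ((Category.comp_id _).trans rfl) ((Category.comp_id _).trans rfl)) :=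
    MorphismProperty.pullbackMap (P := @Flat) (f := d ≫ φ) (g := d ≫ φ) (f' := φ) (g' := φ)
      (i₁ := d) (i₂ := d) inferInstance inferInstance rfl rfl
  have hcomm : d ≫ pullback.diagonal φ = pullback.diagonal (d ≫ φ) ≫
      pullback.map (d ≫ φ) (d ≫ φ) φ φ d d (𝟙 V)
        ((Category.comp_id _).trans rfl) ((Category.comp_id _).trans rfl) := by
    apply pullback.hom_ext
    · rw [Category.assoc, Category.assoc, pullback.diagonal_fst, Category.comp_id,
        pullback.lift_fst, pullback.diagonal_fst_assoc]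
    · rw [Category.assoc, Category.assoc, pullback.diagonal_snd, Category.comp_id,
        pullback.lift_snd, pullback.diagonal_snd_assoc]
  haveI : Flat (d ≫ pullback.diagonal φ) := by
    rw [hcomm]
    haveI := hmap
    infer_instance
  haveI : Flat (pullback.diagonal φ) := flat_of_flat_comp_of_surjective d _
  haveI : LocallyOfFinitePresentation (pullback.diagonal φ) :=
    Groth.Agent.Helper2.locallyOfFinitePresentation_of_comp (pullback.diagonal φ)
      (pullback.fst φ φ) inferInstance (by rw [pullback.diagonal_fst]; infer_instance)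
  haveI : IsOpenImmersion (pullback.diagonal φ) := IsOpenImmersion.of_flat_of_mono _
  haveI : FormallyUnramified φ := inferInstance
  exact Etale.of_formallyUnramified_of_flat φ

/-- Descent of `LocP P` along one surjective fppf morphism on the source. -/
theorem locP_of_fppf_comp' (P : MorphismProperty Scheme.{u}) [IsEtaleLocalST P]
    [IsZariskiLocalAtSource P]
    (hdesc : ∀ ⦃U' U V : Scheme.{u}⦄ (d : U' ⟶ U) (φ : U ⟶ V),
      (@Flat ⊓ @LocallyOfFinitePresentation : MorphismProperty Scheme.{u}) d → Surjective d →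
      P (d ≫ φ) → P φ)
    {X Y B : Sp S} (hX : IsAlgSpace X) (hY : IsAlgSpace Y) (f : X ⟶ Y) (q : Y ⟶ B)
    (hs : IsSurjectiveMor f) (hfl : LocP @Flat f) (hfp : LocP @LocallyOfFinitePresentation f)
    (h : LocP P (f ≫ q)) : LocP P q :=
  locP_of_source_family P (@Flat ⊓ @LocallyOfFinitePresentation) hdesc hY q
    (fun _ : PUnit.{u+1} => X) (fun _ => hX) (fun _ => f) (fun _ => locP_inf hfl hfp)
    (fun y => ⟨PUnit.unit, hs y⟩) (fun _ => h)

theorem locP_smooth_of_fppf_comp {X Y B : Sp S} (hX : IsAlgSpace X) (hY : IsAlgSpace Y)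
    (f : X ⟶ Y) (q : Y ⟶ B)
    (hs : IsSurjectiveMor f) (hfl : LocP @Flat f) (hfp : LocP @LocallyOfFinitePresentation f)
    (h : LocP @Smooth (f ≫ q)) : LocP @Smooth q := by
  refine locP_of_fppf_comp' @Smooth ?_ hX hY f q hs hfl hfp h
  intro U' U V d φ hd hds hφ
  haveI : Flat d := hd.1
  haveI : LocallyOfFinitePresentation d := hd.2
  haveI : Surjective d := hds
  haveI : Smooth (d ≫ φ) := hφ
  exact Groth.Agent.Helper3.FppfDesc.smooth_of_fppf_cover d φ

theorem locP_etale_of_fppf_comp {X Y B : Sp S} (hX : IsAlgSpace X) (hY : IsAlgSpace Y)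
    (f : X ⟶ Y) (q : Y ⟶ B)
    (hs : IsSurjectiveMor f) (hfl : LocP @Flat f) (hfp : LocP @LocallyOfFinitePresentation f)
    (h : LocP @Etale (f ≫ q)) : LocP @Etale q := by
  refine locP_of_fppf_comp' @Etale ?_ hX hY f q hs hfl hfp h
  intro U' U V d φ hd hds hφ
  haveI : Flat d := hd.1
  haveI : LocallyOfFinitePresentation d := hd.2
  haveI : Surjective d := hds
  haveI : Etale (d ≫ φ) := hφ
  exact etale_of_fppf_cover d φ

end Groth.Agent.Helper2.AlgSpBasic
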