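import Mathlib
import Groth.Prelude.Def_AlgSpCov
import Groth.Agent.Lib.Helper2.AlgSp.Source

set_option backward.isDefEq.respectTransparency.types false
namespace Groth.Agent.Helper2.AlgSpBasic
open CategoryTheory CategoryTheory.Limits AlgebraicGeometry Opposite AlgSp Topology
open Groth.Agent.Helper2.EtaleLocal
universe u
variable {S : Scheme.{u}}

/-- A chart of a member of a family over a chart of the target, with the lifting property
for test schemes. -/
theorem exists_chart_of_family_member_lift (R : MorphismProperty Scheme.{u}) [IsEtaleLocalST R]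
    {X Xi : Sp S} (hX : IsAlgSpace X) (hXi : IsAlgSpace Xi) (g : Xi ⟶ X) (hg : LocP R g)
    {U : Over S} (a : (yon S).obj U ⟶ X) :
    ∃ (Ui : Over S) (d : Ui ⟶ U) (e : (yon S).obj Ui ⟶ Xi),
      (RepWith @Etale a → RepWith @Etale e) ∧ R d.left ∧
      e ≫ g = (yon S).map d ≫ a ∧
      (∀ (u : ↥U.left) (x : Points Xi), Points.map g x = Points.ofPt a u → ∃ u', d.left u' = u) ∧
      ∀ (W : Over S) (l : (yon S).obj W ⟶ Xi) (c' : W ⟶ U), l ≫ g = (yon S).map c' ≫ a →
        ∃ (R' : Over S) (r : R' ⟶ W) (t : R' ⟶ Ui), Etale r.left ∧ Surjective r.left ∧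
          t ≫ d = r ≫ c' := by
  have sq := IsPullback.of_hasPullback g a
  have hQ : IsAlgSpace (pullback g a) :=
    isAlgSpace_of_isPullback hX.diag hXi (IsAlgSpace.yon_obj U) g a _ _ sq
  obtain ⟨Ui, c, hce, hcs⟩ := hQ.atlas
  obtain ⟨d, hd⟩ := (yon S).map_surjective (c ≫ pullback.snd g a)
  have h1 : RepWith @Etale a → RepWith @Etale (pullback.fst g a) := fun ha =>
    repWith_of_isPullback @Etale sq.flip ha
  have h2 : LocP R (pullback.snd g a) :=
    locP_of_isPullback R hXi hX (IsAlgSpace.yon_obj U) hQ g a _ _ sq hg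
  refine ⟨Ui, d, c ≫ pullback.fst g a, fun ha => repWith_comp @Etale hce (h1 ha),
    h2 c (𝟙 _) d hce (repWith_etale_id U) (by rw [hd, Category.comp_id]), ?_, ?_, ?_⟩
  · rw [Category.assoc, sq.w, ← Category.assoc, hd]
  · intro u x hx
    rw [Points.ofPt_eq_map_ofScheme] at hx
    obtain ⟨q, -, hq2⟩ := points_exists_of_isPullback a g (pullback.fst g a) (pullback.snd g a) sq
      x (Points.ofScheme U u) hx
    obtain ⟨u', rfl⟩ := surjective_ofPt c hcs q
    refine ⟨u', ?_⟩
    apply (Points.schemeHomeo U).injective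
    rw [← Points.map_yon_map_apply, hd]
    rw [Points.ofPt_eq_map_ofScheme, ← Points.map_comp] at hq2
    exact hq2
  · intro W l c' hl
    let m : (yon S).obj W ⟶ pullback g a := pullback.lift l ((yon S).map c') hl
    have hm1 : m ≫ pullback.fst g a = l := pullback.lift_fst _ _ _
    have hm2 : m ≫ pullback.snd g a = (yon S).map c' := pullback.lift_snd _ _ _
    have hrep := hce.rep
    let R' := hrep.pullback m
    obtain ⟨t, ht⟩ := (yon S).map_surjective (hrep.fst m)
    have sqR := hrep.isPullback m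
    refine ⟨R', hrep.snd m, t, ?_, ?_, ?_⟩
    · exact hce.property m _ _ sqR
    · exact hcs.property m _ _ (by
        have := hcs.rep
        exact sqR)
    · apply (yon S).map_injective
      rw [Functor.map_comp, Functor.map_comp, ht, hd, ← Category.assoc, sqR.w, Category.assoc, hm2]

/-- Precomposition with a morphism in `LocP R` preserves `LocP P` when `P` is local at the source
for a precoverage `K` containing the pairs `{𝟙, d}` (`R d`) and surjective étale singletons. -/
theorem locP_comp_of_isLocalAtSource (P R : MorphismProperty Scheme.{u})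
    (K : Precoverage Scheme.{u}) [IsEtaleLocalST R] [P.IsLocalAtSource K]
    (hK1 : ∀ {T W : Scheme.{u}} (d : T ⟶ W), R d → ∃ Rp ∈ K W, Rp d)
    (hK2 : ∀ {T U : Scheme.{u}} (r : T ⟶ U), Etale r → Surjective r → Presieve.singleton r ∈ K U)
    {X Xi Y : Sp S} (hX : IsAlgSpace X) (hXi : IsAlgSpace Xi) (hY : IsAlgSpace Y)
    (g : Xi ⟶ X) (hg : LocP R g) (f : X ⟶ Y) (hf : LocP P f) : LocP P (g ≫ f) := by
  intro U V a b h ha hb comm
  have sq := IsPullback.of_hasPullback f b
  have hXV : IsAlgSpace (pullback f b) :=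
    isAlgSpace_of_isPullback hY.diag hX (IsAlgSpace.yon_obj V) f b _ _ sq
  have comm' : (a ≫ g) ≫ f = (yon S).map h ≫ b := by rw [Category.assoc]; exact comm
  let m : (yon S).obj U ⟶ pullback f b := pullback.lift (a ≫ g) ((yon S).map h) comm'
  have hm1 : m ≫ pullback.fst f b = a ≫ g := pullback.lift_fst _ _ _
  have hm2 : m ≫ pullback.snd f b = (yon S).map h := pullback.lift_snd _ _ _
  obtain ⟨W, c, hce, hcs⟩ := hXV.atlas
  have hrep := hce.rep
  obtain ⟨t, ht⟩ := (yon S).map_surjective (hrep.fst m)
  have sqT := hrep.isPullback m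
  have hsnd_et : Etale (hrep.snd m).left := hce.property m _ _ sqT
  have hsnd_sj : Surjective (hrep.snd m).left := hcs.property m _ _ sqT
  obtain ⟨h', hh'⟩ := (yon S).map_surjective (c ≫ pullback.snd f b)
  have hfst_et : RepWith @Etale (pullback.fst f b) := repWith_of_isPullback @Etale sq.flip hb
  have hc' : RepWith @Etale (c ≫ pullback.fst f b) := repWith_comp @Etale hce hfst_et
  -- `P` for the chart of `f`
  have hPh' : P h'.left := hf (c ≫ pullback.fst f b) b h' hc' hb (by
    rw [Category.assoc, sq.w, ← Category.assoc, hh'])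
  -- `R` for `t`
  have hRa : LocP R a := by
    have : RepWith R a := by
      refine ⟨ha.rep, fun A B k p q sqk => IsEtaleLocalST.of_etale _ (ha.property k p q sqk)⟩
    exact locP_of_repWith R (IsAlgSpace.yon_obj U).diag a this
  have hRag : LocP R (a ≫ g) := locP_comp R (IsAlgSpace.yon_obj U) hXi hX a g hRa hg
  have hRt : R t.left := hRag ((yon S).map (hrep.snd m)) (c ≫ pullback.fst f b) t
    ((repWith_yon_map_iff @Etale _).2 hsnd_et) hc' (by
      rw [← hm1, ← Category.assoc, ← sqT.w, ht, Category.assoc])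
  -- compose
  obtain ⟨Rp, hRp, hRpt⟩ := hK1 t.left hRt
  have h1 : P (t.left ≫ h'.left) := MorphismProperty.IsLocalAtSource.comp hRp _ hRpt hPh'
  have heq : t ≫ h' = hrep.snd m ≫ h := by
    apply (yon S).map_injective
    rw [Functor.map_comp, Functor.map_comp, ht, hh', ← Category.assoc, sqT.w, Category.assoc, hm2]
  have h2 : P ((hrep.snd m).left ≫ h.left) := by
    rw [← Over.comp_left, ← heq, Over.comp_left]; exact h1
  refine MorphismProperty.IsLocalAtSource.of_forall_comp (K := K)
    (hK2 (hrep.snd m).left hsnd_et hsnd_sj) ?_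
  rintro _ _ ⟨⟩
  exact h2

/-- Descent of `LocP P` along a family with members in `LocP R`, provided the chart families
are `K`-coverings. -/
theorem locP_of_source_family_of_isLocalAtSource (P R : MorphismProperty Scheme.{u})
    (K : Precoverage Scheme.{u}) [IsEtaleLocalST R] [P.IsLocalAtSource K]
    {ι : Type u} {X Y : Sp S} (hX : IsAlgSpace X) (f : X ⟶ Y) (Xi : ι → Sp S)
    (hXi : ∀ i, IsAlgSpace (Xi i)) (g : ∀ i, Xi i ⟶ X) (hg : ∀ i, LocP R (g i))
    (hK3 : ∀ {U : Over S} (a : (yon S).obj U ⟶ X), RepWith @Etale a →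
      ∀ (Ui : ι → Over S) (d : ∀ i, Ui i ⟶ U) (e : ∀ i, (yon S).obj (Ui i) ⟶ Xi i),
      (∀ i, R (d i).left) → (∀ i, e i ≫ g i = (yon S).map (d i) ≫ a) →
      (∀ i (u : ↥U.left) (x : Points (Xi i)), Points.map (g i) x = Points.ofPt a u →
        ∃ u', (d i).left u' = u) →
      (∀ i (W : Over S) (l : (yon S).obj W ⟶ Xi i) (c' : W ⟶ U),
        l ≫ g i = (yon S).map c' ≫ a →
        ∃ (R' : Over S) (r : R' ⟶ W) (t : R' ⟶ Ui i), Etale r.left ∧ Surjective r.left ∧
          t ≫ d i = r ≫ c') →
      Presieve.ofArrows (fun i => (Ui i).left) (fun i => (d i).left) ∈ K U.left)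
    (h : ∀ i, LocP P (g i ≫ f)) : LocP P f := by
  intro U V a b k ha hb comm
  choose Ui d e he hRd hcomm hpt hlift using fun i =>
    exists_chart_of_family_member_lift R hX (hXi i) (g i) (hg i) a
  have hmem := hK3 a ha Ui d e hRd hcomm hpt hlift
  refine MorphismProperty.IsLocalAtSource.of_forall_comp (K := K) hmem ?_
  rintro _ _ ⟨i⟩
  have := h i (e i) b (d i ≫ k) (he i ha) hb (by
    rw [← Category.assoc, hcomm i, Category.assoc, comm, Functor.map_comp, Category.assoc])
  rwa [Over.comp_left] at this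

/-- The pair `{𝟙, d}` as a presieve. -/
def pairX {T W : Scheme.{u}} (_ : T ⟶ W) : Bool → Scheme.{u} := fun b => bif b then T else W

/-- The pair `{𝟙, d}` as a presieve. -/
def pairF {T W : Scheme.{u}} (d : T ⟶ W) : ∀ b, pairX d b ⟶ W
  | true => d
  | false => 𝟙 W

theorem exists_presieve_pair (R : MorphismProperty Scheme.{u}) [R.ContainsIdentities]
    {T W : Scheme.{u}} (d : T ⟶ W) (hd : R d) :
    ∃ Rp ∈ Scheme.precoverage R W, Rp d := by
  refine ⟨Presieve.ofArrows (pairX d) (pairF d), ?_, Presieve.ofArrows.mk (ι := Bool) true⟩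
  rw [Scheme.ofArrows_mem_precoverage_iff]
  refine ⟨fun x => ⟨false, x, rfl⟩, fun b => ?_⟩
  cases b
  · exact R.id_mem W
  · exact hd

theorem exists_presieve_pair_fpqc {T W : Scheme.{u}} (d : T ⟶ W) (hd : Flat d) :
    ∃ Rp ∈ Scheme.fpqcPrecoverage W, Rp d := by
  refine ⟨Presieve.ofArrows (pairX d) (pairF d), ⟨?_, ?_⟩, Presieve.ofArrows.mk (ι := Bool) true⟩
  · let E : PreZeroHypercover.{0} W := { I₀ := Bool, X := pairX d, f := pairF d }
    show E.presieve₀ ∈ Scheme.qcPrecoverage W
    rw [Scheme.presieve₀_mem_qcPrecoverage_iff]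
    refine ⟨fun {Z} hZ => ?_⟩
    have := IsCompactOpenCovered.image (f := fun i => ⇑(E.f i)) (i := false) Z hZ.isCompact
    convert this using 1
    show (Z : Set W) = ⇑(𝟙 W : W ⟶ W) '' (Z : Set W)
    simp
  · rw [Scheme.ofArrows_mem_precoverage_iff]
    refine ⟨fun x => ⟨false, x, rfl⟩, fun b => ?_⟩
    cases b
    · show Flat (𝟙 W)
      infer_instance
    · exact hd

/-- Locality on the source of `LocP P` for coverings by morphisms in `LocP R`, when `P` is local
at the source for the precoverage of `R`. -/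
theorem isLocalOnSource_locP_of_isLocalAtSource (P R : MorphismProperty Scheme.{u})
    [IsEtaleLocalST R] [P.IsLocalAtSource (Scheme.precoverage R)]
    (Q : MorphismProperty (Sp S))
    (hQ : ∀ ⦃X Y : Sp S⦄ (f : X ⟶ Y), IsAlgSpace X → IsAlgSpace Y → Q f → LocP R f) :
    IsLocalOnSource (S := S) (fun _ _ Y g => IsCover Q Y g) (LocP P) := by
  haveI : R.ContainsIdentities := ⟨fun X => IsEtaleLocalST.of_etale _ inferInstance⟩
  intro ι X Xi g hX hXi hcov Y f hY
  have hgR : ∀ i, LocP R (g i) := fun i => hQ (g i) (hXi i) hX (hcov.1 i)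
  constructor
  · intro hf i
    refine locP_comp_of_isLocalAtSource P R (Scheme.precoverage R)
      (fun d hd => exists_presieve_pair R d hd) (fun r hr hs => ?_) hX (hXi i) hY (g i) (hgR i) f hf
    rw [Scheme.singleton_mem_precoverage_iff]
    exact ⟨hs.surj, IsEtaleLocalST.of_etale _ hr⟩
  · intro h
    refine locP_of_source_family_of_isLocalAtSource P R (Scheme.precoverage R) hX f Xi hXi g hgR
      ?_ h
    intro U a ha Ui d e hRd hcomm hpt hlift
    rw [Scheme.ofArrows_mem_precoverage_iff]
    refine ⟨fun u => ?_, hRd⟩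
    obtain ⟨i, x, hx⟩ := hcov.2 (Points.ofPt a u)
    obtain ⟨u', hu'⟩ := hpt i u x hx
    exact ⟨i, u', hu'⟩

/-- Locality on the source of `LocP P` for fpqc coverings, when `P` is fpqc local at the source
for schemes. -/
theorem isLocalOnSource_fpqc_locP_of_isLocalAtSource (P : MorphismProperty Scheme.{u})
    [P.IsLocalAtSource Scheme.fpqcPrecoverage] :
    IsLocalOnSource (IsFpqcCover (S := S)) (LocP P) := by
  intro ι X Xi g hX hXi hcov Y f hY
  constructor
  · intro hf i
    refine locP_comp_of_isLocalAtSource P @Flat Scheme.fpqcPrecoverage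
      (fun d hd => exists_presieve_pair_fpqc d hd) (fun r hr hs => ?_) hX (hXi i) hY (g i)
      (hcov.1 i) f hf
    refine Scheme.proetalePrecoverage_le_fpqcPrecoverage _
      (Scheme.etalePrecoverage_le_proetalePrecoverage _ ?_)
    rw [Scheme.etalePrecoverage, Scheme.singleton_mem_precoverage_iff]
    exact ⟨hs.surj, hr⟩
  · intro h
    refine locP_of_source_family_of_isLocalAtSource P @Flat Scheme.fpqcPrecoverage hX f Xi hXi g
      hcov.1 ?_ h
    intro U a ha Ui d e hRd hcomm hpt hlift
    refine ⟨?_, ?_⟩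
    · let E : PreZeroHypercover.{u} U.left :=
        { I₀ := ι, X := fun i => (Ui i).left, f := fun i => (d i).left }
      show E.presieve₀ ∈ Scheme.qcPrecoverage U.left
      rw [Scheme.presieve₀_mem_qcPrecoverage_iff]
      refine ⟨fun {Z} hZ => ?_⟩
      let Zo : Over S := Over.mk (Z.ι ≫ U.hom)
      let iZ : Zo ⟶ U := Over.homMk Z.ι rfl
      have hZo : IsAffine Zo.left := hZ
      obtain ⟨m, W, c, hW, hc, hs, hl⟩ := hcov.2 Zo hZo ((yon S).map iZ ≫ a)
      choose idx l hl using hl
      choose R' r t hret hrsj hrt using fun j =>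
        hlift (idx j) (W j) (l j) (c j ≫ iZ) (by rw [hl j, Functor.map_comp, Category.assoc])
      have hA : ∀ j, ∃ A : (R' j).left.Opens, IsCompact (A : Set (R' j).left) ∧
          (r j).left '' A = Set.univ := by
        intro j
        haveI := hret j
        haveI := hrsj j
        haveI : IsAffine (W j).left := hW j
        exact (r j).left.isOpenMap.exists_opens_image_eq_of_prespectralSpace
          (r j).left.continuous (fun x _ => (r j).left.surjective x) isOpen_univ isCompact_univ
      choose A hAc hAim using hA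
      refine IsCompactOpenCovered.of_comp (σ := Fin m) (Y := fun j => (R' j).left)
        (fun j => ⇑((r j ≫ c j ≫ iZ).left)) (a := idx) (fun j => ⇑(t j).left)
        (fun j => (t j).left.continuous) ?_ (fun i => (d i).left.continuous) Z.isOpen ?_
      · intro j
        funext x
        have := congrArg (fun φ => φ.left x) (hrt j)
        simpa [Over.comp_left] using this.symm
      · refine IsCompactOpenCovered.of_finite (κ := Fin m) id A hAc ?_
        ext x
        simp only [Set.mem_iUnion, Set.mem_image, id]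
        constructor
        · rintro ⟨j, y, -, rfl⟩
          have : (r j ≫ c j ≫ iZ).left y = Z.ι ((c j).left ((r j).left y)) := rfl
          rw [this]
          exact ((c j).left ((r j).left y)).2
        · intro hx
          obtain ⟨j, w, hw⟩ := hs ⟨x, hx⟩
          have hw' : w ∈ (r j).left '' (A j : Set (R' j).left) := by rw [hAim j]; trivial
          obtain ⟨y, hy, rfl⟩ := hw'
          refine ⟨j, y, hy, ?_⟩
          have : (r j ≫ c j ≫ iZ).left y = Z.ι ((c j).left ((r j).left y)) := rfl
          rw [this, hw]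
          rfl
    · rw [Scheme.ofArrows_mem_precoverage_iff]
      refine ⟨fun u => ?_, hRd⟩
      obtain ⟨i, x, hx⟩ := isFpqcCover_jointly_surjective Xi g hcov (Points.ofPt a u)
      obtain ⟨u', hu'⟩ := hpt i u x hx
      exact ⟨i, u', hu'⟩
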