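import Mathlib
import Groth.Agent.Lib.Helper2.AlgSp.QsDecentB
import Groth.Agent.Lib.Helper2.AlgSp.FibreSpecB
import Groth.Agent.Lib.Helper2.AlgSp.DecentClosed
import Groth.Agent.Lib.Helper2.AlgSp.QC
import Groth.Agent.Lib.Helper2.AlgSp.Diag

/-!
# The space of points of a quasi-compact quasi-separated algebraic space is spectral (helper2)
-/

set_option autoImplicit false
set_option linter.style.haveILetI false

open CategoryTheory CategoryTheory.Limits AlgebraicGeometry Opposite AlgSp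

universe u

namespace Groth.Agent.Helper2.SpectralPts

open Groth.Agent.Helper2.AlgSpBasic Groth.Agent.Helper2.DecentOpen

variable {S : Scheme.{u}}

theorem quasiSeparatedSpace_points [QuasiSeparatedSpace ↥S] (X : Space S)
    (hqs : IsQuasiSeparatedSp X.obj) : QuasiSeparatedSpace (Points X.obj) := by
  constructor
  intro O₁ O₂ hO₁ hc₁ hO₂ hc₂
  obtain ⟨U₁, p₁, hU₁, hp₁, hr₁⟩ := exists_affine_chart_of_isCompact_isOpen X.property O₁ hO₁ hc₁
  obtain ⟨U₂, p₂, hU₂, hp₂, hr₂⟩ := exists_affine_chart_of_isCompact_isOpen X.property O₂ hO₂ hc₂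
  haveI := hU₁
  haveI := hU₂
  obtain ⟨W, pr₁, pr₂, sq⟩ := exists_isPullback_yon X.property.diag p₁ p₂
  haveI : CompactSpace ↥W.left :=
    compactSpace_of_isPullback_of_isQuasiSeparatedSp hqs U₁ U₂ W p₁ p₂ pr₁ pr₂ sq
  have himg : O₁ ∩ O₂ = Set.range (Points.ofPt ((yon S).map pr₁ ≫ p₁)) := by
    ext x
    constructor
    · rintro ⟨h1, h2⟩
      rw [← hr₁] at h1
      rw [← hr₂] at h2
      obtain ⟨u₁, rfl⟩ := h1
      obtain ⟨u₂, hu₂⟩ := h2
      obtain ⟨w, hw1, -⟩ := exists_point_of_isPullback_yon p₁ p₂ pr₁ pr₂ sq u₁ u₂ hu₂.symm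
      exact ⟨w, by rw [ofPt_yon_map_comp, hw1]⟩
    · rintro ⟨w, rfl⟩
      constructor
      · rw [← hr₁, ofPt_yon_map_comp]
        exact ⟨_, rfl⟩
      · rw [← hr₂, sq.w, ofPt_yon_map_comp]
        exact ⟨_, rfl⟩
  rw [himg]
  exact isCompact_range (Points.continuous_ofPt _)

/-- S10201. -/
theorem spectralSpace_points [QuasiSeparatedSpace ↥S] (X : Space S)
    (hqc : IsQuasiCompactSp X.obj) (hqs : IsQuasiSeparatedSp X.obj) :
    SpectralSpace (Points X.obj) := by
  have hd : IsDecent X.obj :=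
    Groth.Agent.Helper2.QsDecentB.isDecent_of_isQuasiSeparatedSp X.property hqs
  haveI := Groth.Agent.Helper2.FibreSpecB.t0Space_of_isDecent X.property hd
  haveI := (isQuasiCompactSp_iff_compactSpace_points X.property).mp hqc
  haveI := quasiSober_of_decent X hd
  haveI := quasiSeparatedSpace_points X hqs
  haveI : PrespectralSpace (Points X.obj) := by
    refine PrespectralSpace.of_isTopologicalBasis
      (B := {O : Set (Points X.obj) | IsOpen O ∧ IsCompact O}) ?_ (fun O hO => hO.2)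
    refine TopologicalSpace.isTopologicalBasis_of_isOpen_of_nhds (fun O hO => hO.1) ?_
    intro x W hxW hW
    obtain ⟨V, hVo, hVc, hxV, hVW⟩ := exists_isOpen_isCompact_nhd X.property x W hW hxW
    exact ⟨V, ⟨hVo, hVc⟩, hxV, hVW⟩
  exact {}

end Groth.Agent.Helper2.SpectralPts
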