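import Mathlib
import Groth.Prelude.Def_AlgSpInf
import Groth.Prelude.Def_AlgSp4
import Groth.Agent.Lib.Helper2.AlgSp.Thick
import Groth.Agent.Lib.Helper2.AlgSp.SepDescent
import Groth.Agent.Lib.Helper2.Lqf.Image
import Groth.Agent.Lib.Helper2.AlgSt.PFacts4

/-!
# Separatedness along morphisms of thickenings (helper2)
-/

set_option autoImplicit false
universe u
open CategoryTheory CategoryTheory.Limits AlgebraicGeometry Opposite AlgSp
open Groth.Agent.Helper2.AlgSpBasic Groth.Agent.Helper2.EtaleLocal Groth.Agent.Helper2.AlgStLib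

namespace Groth.Agent.Helper2.ThickSep

variable {S : Scheme.{u}}

/-- Cancellation of a monomorphism in a property of the diagonal. -/
theorem repWith_diagonal_of_comp_mono (P : MorphismProperty Scheme.{u}) {X Y Z : Sp S}
    (f : X ⟶ Y) (j : Y ⟶ Z) [Mono j] (h : RepWith P (pullback.diagonal (f ≫ j))) :
    RepWith P (pullback.diagonal f) := by
  have sq : IsPullback (pullback.fst f f) (pullback.snd f f) (f ≫ j) (f ≫ j) :=
    isPullback_comp_mono (IsPullback.of_hasPullback f f) j
  let e : pullback f f ≅ pullback (f ≫ j) (f ≫ j) :=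
    sq.isoIsPullback _ _ (IsPullback.of_hasPullback (f ≫ j) (f ≫ j))
  have he : pullback.diagonal f ≫ e.hom = pullback.diagonal (f ≫ j) := by
    apply pullback.hom_ext
    · rw [Category.assoc, IsPullback.isoIsPullback_hom_fst, pullback.diagonal_fst,
        pullback.diagonal_fst]
    · rw [Category.assoc, IsPullback.isoIsPullback_hom_snd, pullback.diagonal_snd,
        pullback.diagonal_snd]
  rw [← he] at h
  exact ((RepWith (S := S) P).cancel_right_of_respectsIso _ e.hom).1 h

theorem sep_iff_of_thick {X X' Y Y' : Sp S} (hX : IsAlgSpace X) (hX' : IsAlgSpace X')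
    (hY : IsAlgSpace Y) (hY' : IsAlgSpace Y') (i : X ⟶ X') (j : Y ⟶ Y') (f : X ⟶ Y)
    (f' : X' ⟶ Y') (hi : IsThickMor i) (hj : IsThickMor j) (w : i ≫ f' = f ≫ j) :
    (IsSeparatedMor f ↔ IsSeparatedMor f') ∧ (IsQuasiSeparatedMor f ↔ IsQuasiSeparatedMor f') := by
  have := mono_of_isThickMor i hi
  have := mono_of_isThickMor j hj
  have hs : IsSurjectiveMor i :=
    isSurjectiveMor_of_repWith_surjective i (repWith_mono (fun _ _ g hg => hg.2) hi)
  have hc : IsUnivClosedMor i :=
    isUnivClosedMor_of_repWith_isClosedImmersion i (repWith_mono (fun _ _ g hg => hg.1) hi)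
  have key := separation_of_surjective_univClosed hX hX' hY' i (f ≫ j) f' w hs hc
  constructor
  · constructor
    · intro hf
      exact key.2 (Groth.Agent.Helper2.Lqf.repWith_diagonal_comp @IsClosedImmersion f j hf
        (isSeparatedMor_of_mono j))
    · intro hf'
      have h1 : IsSeparatedMor (i ≫ f') :=
        Groth.Agent.Helper2.Lqf.repWith_diagonal_comp @IsClosedImmersion i f'
          (isSeparatedMor_of_mono i) hf'
      rw [w] at h1
      exact repWith_diagonal_of_comp_mono @IsClosedImmersion f j h1
  · constructor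
    · intro hf
      exact key.1 (Groth.Agent.Helper2.Lqf.repWith_diagonal_comp @QuasiCompact f j hf
        (isQuasiSeparatedMor_of_mono j))
    · intro hf'
      have h1 : IsQuasiSeparatedMor (i ≫ f') :=
        Groth.Agent.Helper2.Lqf.repWith_diagonal_comp @QuasiCompact i f'
          (isQuasiSeparatedMor_of_mono i) hf'
      rw [w] at h1
      exact repWith_diagonal_of_comp_mono @QuasiCompact f j h1

end Groth.Agent.Helper2.ThickSep
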