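import Mathlib
import Groth.Prelude.Def_AlgSpInf
import Groth.Prelude.Def_AlgSp4
import Groth.Agent.Lib.Helper2.AlgSp.Thick
import Groth.Agent.Lib.Helper2.AlgSp.ProperQf
import Groth.Agent.Lib.Helper2.Sch.UnrThick

/-!
# Local quasi-finiteness and unramifiedness along cartesian morphisms of thickenings (helper2)
-/

set_option autoImplicit false
universe u
open CategoryTheory CategoryTheory.Limits AlgebraicGeometry Opposite AlgSp
open Groth.Agent.Helper2.AlgSpBasic Groth.Agent.Helper2.EtaleLocal Groth.Agent.Helper2.QfAtSp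

namespace Groth.Agent.Helper2.ThickUnr

variable {S : Scheme.{u}}

section
variable {X X' Y Y' : Sp S} (hX : IsAlgSpace X) (hX' : IsAlgSpace X') (hY : IsAlgSpace Y)
  (hY' : IsAlgSpace Y') (i : X ⟶ X') (j : Y ⟶ Y') (f : X ⟶ Y) (f' : X' ⟶ Y')
  (hj : IsThickMor j) (hcart : IsPullback i f f' j)

include hX hX' hY hY' hj hcart

theorem locP_lqf_of_thick (hft' : LocP @LocallyOfFiniteType f')
    (h : LocP (@LocallyQuasiFinite ⊓ @LocallyOfFiniteType) f) :
    LocP (@LocallyQuasiFinite ⊓ @LocallyOfFiniteType) f' := by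
  have hi : IsThickMor i := isThickMor_of_isPullback hcart.flip hj
  have hs : IsSurjectiveMor i :=
    isSurjectiveMor_of_repWith_surjective i (repWith_mono (fun _ _ g hg => hg.2) hi)
  refine Groth.Agent.Helper2.ProperQf.locP_lqf_of_forall_hasAtMor hX' hY' f' hft' fun x' => ?_
  obtain ⟨x, rfl⟩ := hs x'
  rw [← Groth.Agent.Helper2.QfAtBCSp.hasAtMor_qf_bc_iff hX' hY' hX hY f' j i f hcart hft' x]
  exact Groth.Agent.Helper2.ProperQf.hasAtMor_of_locP_lqf hX hY f h x

theorem locP_unr_of_thick (hft' : LocP @LocallyOfFiniteType f')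
    (h : LocP (@LocallyOfFiniteType ⊓ @FormallyUnramified) f) :
    LocP (@LocallyOfFiniteType ⊓ @FormallyUnramified) f' := by
  obtain ⟨V', b', hbe, hbs⟩ := hY'.atlas
  obtain ⟨U', a', h', hae, has, comm⟩ := exists_chart_lift hX' f' b' hbe hbs
  refine locP_of_one_chart _ hX'.diag hY'.diag f' a' b' h' hae has hbe comm ⟨?_, ?_⟩
  · exact hft' a' b' h' hae hbe comm
  -- the thickening of the chart of `Y'`
  have hrep := hj.rep
  have sqV := hrep.isPullback b'
  set t := hrep.snd b' with ht
  set b := hrep.fst b' with hb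
  have htt : thick t.left := hj.property b' _ _ sqV
  have hbet : RepWith @Etale b := repWith_of_isPullback @Etale sqV.flip hbe
  -- the base change of the chart of `X'`
  have sqU := (IsPullback.of_hasPullback h' t).map (yon S)
  have big : IsPullback ((yon S).map (pullback.fst h' t)) ((yon S).map (pullback.snd h' t) ≫ b)
      ((yon S).map h' ≫ b') j := sqU.paste_vert sqV.flip
  rw [← comm] at big
  have hw : ((yon S).map (pullback.fst h' t) ≫ a') ≫ f' =
      ((yon S).map (pullback.snd h' t) ≫ b) ≫ j := by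
    rw [Category.assoc]; exact big.w
  obtain ⟨a, ha1, ha2⟩ : ∃ a : (yon S).obj (pullback h' t) ⟶ X,
      a ≫ i = (yon S).map (pullback.fst h' t) ≫ a' ∧
      a ≫ f = (yon S).map (pullback.snd h' t) ≫ b :=
    ⟨hcart.lift _ _ hw, hcart.lift_fst _ _ hw, hcart.lift_snd _ _ hw⟩
  have sqa : IsPullback ((yon S).map (pullback.fst h' t)) a a' i := by
    refine IsPullback.of_bot ?_ ha1.symm hcart
    rw [ha2]
    exact big
  have haet : RepWith @Etale a := repWith_of_isPullback @Etale sqa hae
  have hfu : FormallyUnramified (pullback.snd h' t).left := (h a b _ haet hbet ha2).2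
  have sqS : IsPullback (pullback.fst h' t).left (pullback.snd h' t).left h'.left t.left :=
    (IsPullback.of_hasPullback h' t).map (Over.forget S)
  have : LocallyOfFiniteType h'.left := hft' a' b' h' hae hbe comm
  have : IsClosedImmersion t.left := htt.1
  have : Surjective t.left := htt.2
  exact Groth.Agent.Helper2.UnrThick.formallyUnramified_of_thickening h'.left t.left _ _ sqS

end

end Groth.Agent.Helper2.ThickUnr
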