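import Mathlib
import Groth.Prelude.Def_AlgSpInf
import Groth.Prelude.Def_AlgSp4
import Groth.Agent.S10587
import Groth.Agent.Lib.Helper2.AlgSp.ThickUnr
import Groth.Agent.Lib.Helper2.AlgSp.ThickSep
import Groth.Agent.Lib.Helper2.AlgSp.FpqcFinite
import Groth.Agent.Lib.Helper2.AlgSp.FpqcCI

/-!
# Closed immersions, finite and proper morphisms along cartesian morphisms of thickenings
(helper2)
-/

set_option autoImplicit false
universe u
open CategoryTheory CategoryTheory.Limits AlgebraicGeometry Opposite AlgSp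
open Groth.Agent.Helper2.AlgSpBasic Groth.Agent.Helper2.EtaleLocal

namespace Groth.Agent.Helper2.ThickProper

variable {S : Scheme.{u}}

section
variable {X X' Y Y' : Sp S} (hX : IsAlgSpace X) (hX' : IsAlgSpace X') (hY : IsAlgSpace Y)
  (hY' : IsAlgSpace Y') (i : X ⟶ X') (j : Y ⟶ Y') (f : X ⟶ Y) (f' : X' ⟶ Y')
  (hi : IsThickMor i) (hj : IsThickMor j) (w : i ≫ f' = f ≫ j)

include hX hX' hY hY' hi hj w in
theorem topo_iff_of_thick :
    (IsQuasiCompactMor f ↔ IsQuasiCompactMor f') ∧ (IsUnivClosedMor f ↔ IsUnivClosedMor f') ∧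
      (IsUnivInjectiveMor f ↔ IsUnivInjectiveMor f') := by
  have key := Groth.Agent.S10587.result (X := ⟨X, hX⟩) (X' := ⟨X', hX'⟩) (Y := ⟨Y, hY⟩)
    (Y' := ⟨Y', hY'⟩) (ObjectProperty.homMk i) (ObjectProperty.homMk j) (ObjectProperty.homMk f)
    (ObjectProperty.homMk f') hi hj (ObjectProperty.hom_ext _ w)
  exact ⟨key.2.1, key.2.2.1, key.2.2.2.1⟩

variable (hcart : IsPullback i f f' j)

include hX hX' hY hY' hj hcart

theorem isThickMor_left : IsThickMor i := isThickMor_of_isPullback hcart.flip hj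

theorem ci_of_thick (hft' : LocP @LocallyOfFiniteType f') (h : RepWith @IsClosedImmersion f) :
    RepWith @IsClosedImmersion f' := by
  have hi := isThickMor_left hX hX' hY hY' i j f f' hj hcart
  obtain ⟨-, t2, t3⟩ := topo_iff_of_thick hX hX' hY hY' i j f f' hi hj hcart.w
  obtain ⟨a, b, c⟩ := (Groth.Agent.Helper2.Lqf.repWith_isClosedImmersion_iff_unr hX hY f).2 h
  exact (Groth.Agent.Helper2.Lqf.repWith_isClosedImmersion_iff_unr hX' hY' f').1
    ⟨t2.1 a, Groth.Agent.Helper2.ThickUnr.locP_unr_of_thick hX hX' hY hY' i j f f' hj hcart hft' b,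
      t3.1 c⟩

theorem finite_of_thick (hft' : LocP @LocallyOfFiniteType f') (h : IsFiniteMor f) :
    IsFiniteMor f' := by
  have hi := isThickMor_left hX hX' hY hY' i j f f' hj hcart
  obtain ⟨-, t2, -⟩ := topo_iff_of_thick hX hX' hY hY' i j f f' hi hj hcart.w
  obtain ⟨a, b, c⟩ := (Groth.Agent.Helper2.FpqcFinite.isFiniteMor_iff hX hY f).2 h
  exact (Groth.Agent.Helper2.FpqcFinite.isFiniteMor_iff hX' hY' f').1
    ⟨(Groth.Agent.Helper2.ThickSep.sep_iff_of_thick hX hX' hY hY' i j f f' hi hj hcart.w).1.1 a,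
      t2.1 b,
      Groth.Agent.Helper2.ThickUnr.locP_lqf_of_thick hX hX' hY hY' i j f f' hj hcart hft' c⟩

theorem proper_of_thick (hft' : LocP @LocallyOfFiniteType f') (h : IsProperMor f) :
    IsProperMor f' := by
  have hi := isThickMor_left hX hX' hY hY' i j f f' hj hcart
  obtain ⟨t1, t2, -⟩ := topo_iff_of_thick hX hX' hY hY' i j f f' hi hj hcart.w
  obtain ⟨a, ⟨-, b⟩, c⟩ := h
  exact ⟨(Groth.Agent.Helper2.ThickSep.sep_iff_of_thick hX hX' hY hY' i j f f' hi hj hcart.w).1.1 a,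
    ⟨hft', t1.1 b⟩, t2.1 c⟩

end

end Groth.Agent.Helper2.ThickProper
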