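import Mathlib
import Groth.Prelude.Def_AlgSpInf
import Groth.Prelude.Def_AlgSp4
import Groth.Agent.Lib.Helper2.AlgSp.ThickProper

/-!
# Immersions along cartesian morphisms of thickenings (helper2)
-/

set_option autoImplicit false
universe u
open CategoryTheory CategoryTheory.Limits AlgebraicGeometry Opposite AlgSp
open Groth.Agent.Helper2.AlgSpBasic Groth.Agent.Helper2.EtaleLocal
open Set.Notation

namespace Groth.Agent.Helper2.ThickImm

/-- Closed immersions of schemes lift along thickenings of the base (locally of finite type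
case), via the statement for algebraic spaces over the target. -/
theorem isClosedImmersion_of_thickening {A A' B B' : Scheme.{u}} (q' : A' ⟶ B') (r : B ⟶ B')
    (q : A ⟶ B) (p : A ⟶ A') (sq : IsPullback p q q' r) [IsClosedImmersion r] [Surjective r]
    [IsClosedImmersion q] [LocallyOfFiniteType q'] : IsClosedImmersion q' := by
  let A'o : Over B' := Over.mk q'
  let Bo : Over B' := Over.mk r
  let Ao : Over B' := Over.mk (q ≫ r)
  let B'o : Over B' := Over.mk (𝟙 B')
  let q'o : A'o ⟶ B'o := Over.homMk q' (by simp [A'o, B'o])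
  let ro : Bo ⟶ B'o := Over.homMk r (by simp [Bo, B'o])
  let qo : Ao ⟶ Bo := Over.homMk q (by simp [Ao, Bo])
  let po : Ao ⟶ A'o := Over.homMk p (by simp [Ao, A'o, sq.w])
  have sqo : IsPullback po qo q'o ro := by
    refine IsPullback.of_map (Over.forget B') ?_ ?_
    · apply Over.OverMorphism.ext
      exact sq.w
    · exact sq
  have sqy := sqo.map (yon B')
  have h1 : IsThickMor ((yon B').map ro) :=
    (isThickMor_yon_map_iff ro).2 ⟨inferInstanceAs (IsClosedImmersion r),
      inferInstanceAs (Surjective r)⟩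
  have h2 : RepWith @IsClosedImmersion ((yon B').map qo) :=
    (repWith_yon_map_iff @IsClosedImmersion qo).2 (inferInstanceAs (IsClosedImmersion q))
  have h3 : LocP @LocallyOfFiniteType ((yon B').map q'o) :=
    locP_of_repWith @LocallyOfFiniteType (IsAlgSpace.yon_obj A'o).diag _
      ((repWith_yon_map_iff @LocallyOfFiniteType q'o).2 (inferInstanceAs (LocallyOfFiniteType q')))
  have h4 := Groth.Agent.Helper2.ThickProper.ci_of_thick (IsAlgSpace.yon_obj Ao)
    (IsAlgSpace.yon_obj A'o) (IsAlgSpace.yon_obj Bo) (IsAlgSpace.yon_obj B'o) _ _ _ _ h1 sqy h3 h2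
  exact (repWith_yon_map_iff @IsClosedImmersion q'o).1 h4

/-- Immersions of schemes lift along thickenings of the base (locally of finite type case). -/
theorem isImmersion_of_thickening {P P' T T' : Scheme.{u}} (g' : P' ⟶ T') (t : T ⟶ T')
    (g : P ⟶ T) (s : P ⟶ P') (sq : IsPullback s g g' t) [IsClosedImmersion t] [Surjective t]
    [IsImmersion g] [LocallyOfFiniteType g'] : IsImmersion g' := by
  have hs : Surjective s := MorphismProperty.of_isPullback sq.flip (inferInstanceAs (Surjective t))
  have htinj : Function.Injective t := t.isEmbedding.injective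
  have hcomm : ∀ p : P, g' (s p) = t (g p) := fun p => by
    have := congrArg (fun φ : P ⟶ T' => φ p) sq.w
    simpa using this
  -- the range of `g'` is the homeomorphic image of the range of `g`
  have hrange : Set.range g' = t '' Set.range g := by
    ext y
    constructor
    · rintro ⟨p', rfl⟩
      obtain ⟨p, rfl⟩ := hs.surj p'
      exact ⟨g p, ⟨p, rfl⟩, (hcomm p).symm⟩
    · rintro ⟨_, ⟨p, rfl⟩, rfl⟩
      exact ⟨s p, hcomm p⟩
  have hth : IsHomeomorph t :=
    isHomeomorph_iff_isEmbedding_surjective.2 ⟨t.isEmbedding, t.surjective⟩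
  have hlc : IsLocallyClosed (Set.range g') := by
    obtain ⟨e, he⟩ := isHomeomorph_iff_exists_homeomorph.mp hth
    have h1 : Set.range g' = e.symm ⁻¹' Set.range g := by
      rw [hrange, ← he]
      exact e.image_eq_preimage_symm _
    rw [h1]
    exact g.isLocallyClosed_range.preimage e.symm.continuous
  let W' : T'.Opens := ⟨coborder (Set.range g'), hlc.isOpen_coborder⟩
  have hr : Set.range g' ⊆ Set.range W'.ι := by
    rw [Scheme.Opens.range_ι]; exact subset_coborder
  let g'' : P' ⟶ W' := IsOpenImmersion.lift W'.ι g' hr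
  have hg'' : g'' ≫ W'.ι = g' := IsOpenImmersion.lift_fac _ _ _
  suffices IsClosedImmersion g'' by
    rw [← hg'']; infer_instance
  -- the restriction over the thickening
  have hrq : Set.range g ⊆ Set.range (t ⁻¹ᵁ W').ι := by
    rw [Scheme.Opens.range_ι]
    rintro _ ⟨p, rfl⟩
    show t (g p) ∈ coborder (Set.range g')
    rw [← hcomm]
    exact subset_coborder ⟨s p, rfl⟩
  let q : P ⟶ (t ⁻¹ᵁ W') := IsOpenImmersion.lift (t ⁻¹ᵁ W').ι g hrq
  have hq : q ≫ (t ⁻¹ᵁ W').ι = g := IsOpenImmersion.lift_fac _ _ _
  have hsq : s ≫ g'' = q ≫ (t ∣_ W') := by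
    rw [← cancel_mono W'.ι, Category.assoc, hg'', Category.assoc, morphismRestrict_ι,
      ← Category.assoc, hq, sq.w]
  have sq' : IsPullback s q g'' (t ∣_ W') := by
    refine IsPullback.of_bot ?_ hsq (isPullback_morphismRestrict t W')
    rw [hq, hg'']
    exact sq
  have : IsPreimmersion (q ≫ (t ⁻¹ᵁ W').ι) := by rw [hq]; infer_instance
  have : IsPreimmersion q := .of_comp q (t ⁻¹ᵁ W').ι
  have hclosed : IsClosed (Set.range q) := by
    have h1 : IsClosed ((t ∣_ W') ⁻¹' (coborder (Set.range g') ↓∩ Set.range g')) :=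
      isClosed_preimage_val_coborder.preimage (t ∣_ W').continuous
    convert h1 using 1
    ext y
    constructor
    · rintro ⟨p, rfl⟩
      show ((t ∣_ W') (q p)).1 ∈ Set.range g'
      have : (t ∣_ W') (q p) = g'' (s p) := by
        have := congrArg (fun φ : P ⟶ W' => φ p) hsq
        simpa using this.symm
      rw [this]
      refine ⟨s p, ?_⟩
      have := congrArg (fun φ : P' ⟶ T' => φ (s p)) hg''
      simpa using this.symm
    · intro hy
      have hy' : ((t ∣_ W') y).1 ∈ Set.range g' := hy
      rw [morphismRestrict_base_coe, hrange] at hy'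
      obtain ⟨_, ⟨p, rfl⟩, hp⟩ := hy'
      have h2 : g p = y.1 := htinj hp
      refine ⟨p, Subtype.ext ?_⟩
      rw [← h2]
      have := congrArg (fun φ : P ⟶ T => φ p) hq
      simpa using this
  have : IsClosedImmersion q := .of_isPreimmersion q hclosed
  have : LocallyOfFiniteType (g'' ≫ W'.ι) := by rw [hg'']; infer_instance
  have : LocallyOfFiniteType g'' := locallyOfFiniteType_of_comp g'' W'.ι
  have : Surjective (t ∣_ W') :=
    MorphismProperty.of_isPullback (isPullback_morphismRestrict t W').flip
      (inferInstanceAs (Surjective t))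
  exact isClosedImmersion_of_thickening g'' (t ∣_ W') q s sq'

variable {S : Scheme.{u}}

theorem immersion_le :
    (@IsImmersion : MorphismProperty Scheme.{u}) ≤
      (@LocallyOfFiniteType ⊓ @FormallyUnramified : MorphismProperty Scheme.{u}) := by
  intro A B φ hφ
  have : IsImmersion φ := hφ
  exact ⟨inferInstance, inferInstance⟩

theorem imm_of_thick {X X' Y Y' : Sp S} (hX : IsAlgSpace X) (hX' : IsAlgSpace X')
    (hY : IsAlgSpace Y) (hY' : IsAlgSpace Y') (i : X ⟶ X') (j : Y ⟶ Y') (f : X ⟶ Y)
    (f' : X' ⟶ Y') (hj : IsThickMor j) (hcart : IsPullback i f f' j)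
    (hft' : LocP @LocallyOfFiniteType f') (h : RepWith @IsImmersion f) :
    RepWith @IsImmersion f' := by
  have hi := Groth.Agent.Helper2.ThickProper.isThickMor_left hX hX' hY hY' i j f f' hj hcart
  obtain ⟨-, -, t3⟩ :=
    Groth.Agent.Helper2.ThickProper.topo_iff_of_thick hX hX' hY hY' i j f f' hi hj hcart.w
  have hunr : LocP (@LocallyOfFiniteType ⊓ @FormallyUnramified) f :=
    locP_of_repWith _ hX.diag f (repWith_mono immersion_le h)
  have hmono : Mono f := mono_of_repWith_monomorphisms f
    (repWith_mono (fun _ _ g (hg : IsImmersion g) => (inferInstance : Mono g)) h)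
  have hui : IsUnivInjectiveMor f := Groth.Agent.Helper2.Lqf.isUnivInjectiveMor_of_mono f
  have hunr' := Groth.Agent.Helper2.ThickUnr.locP_unr_of_thick hX hX' hY hY' i j f f' hj hcart
    hft' hunr
  have hui' : IsUnivInjectiveMor f' := t3.1 hui
  have hmono' : Mono f' := Groth.Agent.Helper2.Lqf.mono_of_unr_univInj hX' hY' f' hunr' hui'
  obtain ⟨hrep', -, -⟩ :=
    (Groth.Agent.Helper2.Lqf.unramified_mono_tfae hX' hY' f').2.2.2 ⟨hft', hmono'⟩
  have hlft' : RepWith @LocallyOfFiniteType f' :=
    repWith_of_locP @LocallyOfFiniteType hX' hY' f' hrep' hft'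
  refine ⟨hrep', ?_⟩
  intro T' P' g fst snd sq
  have hrepj := hj.rep
  have sqT := hrepj.isPullback g
  set t := hrepj.snd g with ht
  set gY := hrepj.fst g with hgY
  have htt : thick t.left := hj.property g _ _ sqT
  have sqU := (IsPullback.of_hasPullback snd t).map (yon S)
  have big : IsPullback ((yon S).map (pullback.fst snd t) ≫ fst)
      ((yon S).map (pullback.snd snd t)) f' ((yon S).map t ≫ g) := sqU.paste_horiz sq
  rw [← sqT.w] at big
  obtain ⟨a, ha1, ha2⟩ : ∃ a : (yon S).obj (pullback snd t) ⟶ X,
      a ≫ i = (yon S).map (pullback.fst snd t) ≫ fst ∧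
      a ≫ f = (yon S).map (pullback.snd snd t) ≫ gY :=
    ⟨hcart.lift _ _ big.w, hcart.lift_fst _ _ big.w, hcart.lift_snd _ _ big.w⟩
  have sqa : IsPullback a ((yon S).map (pullback.snd snd t)) f gY := by
    refine IsPullback.of_right ?_ ha2 hcart
    rw [ha1]
    exact big
  have : IsImmersion (pullback.snd snd t).left := h.property gY _ _ sqa
  have sqS : IsPullback (pullback.fst snd t).left (pullback.snd snd t).left snd.left t.left :=
    (IsPullback.of_hasPullback snd t).map (Over.forget S)
  have : LocallyOfFiniteType snd.left := hlft'.property g fst snd sq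
  have : IsClosedImmersion t.left := htt.1
  have : Surjective t.left := htt.2
  exact isImmersion_of_thickening snd.left t.left _ _ sqS

end Groth.Agent.Helper2.ThickImm
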