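import Mathlib
import Groth.Prelude.Def_AlgSpInf
import Groth.Prelude.Def_AlgSp4
import Groth.Agent.Lib.Helper2.AlgSp.ThickLft
import Groth.Agent.Lib.Helper2.Sch.LftThickFp

/-!
# Locally of finite type along cartesian morphisms of thickenings of finite presentation (helper2)
-/

set_option autoImplicit false
universe u
open CategoryTheory CategoryTheory.Limits AlgebraicGeometry Opposite AlgSp
open Groth.Agent.Helper2.AlgSpBasic Groth.Agent.Helper2.EtaleLocal

namespace Groth.Agent.Helper2.ThickLft

variable {S : Scheme.{u}}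

section
variable {X X' Y Y' : Sp S} (i : X ⟶ X') (j : Y ⟶ Y') (f : X ⟶ Y) (f' : X' ⟶ Y')
  (hj : IsThickMor j) (hjfp : LocP @LocallyOfFinitePresentation j) (hcart : IsPullback i f f' j)

include hj hjfp hcart

/-- The affine chart case. -/
theorem lft_chart_of_thick_lfp
    (h : LocP @LocallyOfFiniteType f) {U' V' : Over S} (hU : IsAffine U'.left)
    (hV : IsAffine V'.left) (a' : (yon S).obj U' ⟶ X') (b' : (yon S).obj V' ⟶ Y') (h' : U' ⟶ V')
    (hae : RepWith @Etale a') (hbe : RepWith @Etale b') (comm : a' ≫ f' = (yon S).map h' ≫ b') :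
    LocallyOfFiniteType h'.left := by
  -- the thickening of the chart of `Y'`
  have hrep := hj.rep
  have sqV := hrep.isPullback b'
  set t := hrep.snd b' with ht
  set b := hrep.fst b' with hb
  have htt : thick t.left := hj.property b' _ _ sqV
  have hbet : RepWith @Etale b := repWith_of_isPullback @Etale sqV.flip hbe
  have htfp : LocallyOfFinitePresentation t.left := hjfp b b' t hbet hbe sqV.w
  -- the base change of the chart of `X'`
  have sqU := (IsPullback.of_hasPullback h' t).map (yon S)
  have big : IsPullback ((yon S).map (pullback.fst h' t)) ((yon S).map (pullback.snd h' t) ≫ b)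
      ((yon S).map h' ≫ b') j := sqU.paste_vert sqV.flip
  rw [← comm] at big
  have hw : ((yon S).map (pullback.fst h' t) ≫ a') ≫ f' =
      ((yon S).map (pullback.snd h' t) ≫ b) ≫ j := by
    rw [Category.assoc]; exact big.w
  obtain ⟨a, ha1, ha2⟩ : ∃ a : (yon S).obj (pullback h' t) ⟶ X,
      a ≫ i = (yon S).map (pullback.fst h' t) ≫ a' ∧
      a ≫ f = (yon S).map (pullback.snd h' t) ≫ b :=
    ⟨hcart.lift _ _ hw, hcart.lift_fst _ _ hw, hcart.lift_snd _ _ hw⟩
  have sqa : IsPullback ((yon S).map (pullback.fst h' t)) a a' i := by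
    refine IsPullback.of_bot ?_ ha1.symm hcart
    rw [ha2]
    exact big
  have haet : RepWith @Etale a := repWith_of_isPullback @Etale sqa hae
  have hlft : LocallyOfFiniteType (pullback.snd h' t).left := h a b _ haet hbet ha2
  have sqS : IsPullback (pullback.fst h' t).left (pullback.snd h' t).left h'.left t.left :=
    (IsPullback.of_hasPullback h' t).map (Over.forget S)
  have : IsClosedImmersion t.left := htt.1
  have : Surjective t.left := htt.2
  exact Groth.Agent.Helper2.LftThick.locallyOfFiniteType_of_thick_lfp_affine h'.left t.left _ _ sqS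

theorem locP_lft_of_thick_lfp (h : LocP @LocallyOfFiniteType f) :
    LocP @LocallyOfFiniteType f' := by
  intro U' V' a' b' h' hae hbe comm
  refine lft_of_forall_affine h'.left ?_
  intro U V ι κ g hU hV hι hκ hg
  have hgw : g ≫ κ ≫ V'.hom = ι ≫ U'.hom := by
    rw [← Category.assoc, ← hg, Category.assoc, Over.w h']
  let Uo : Over S := Over.mk (ι ≫ U'.hom)
  let Vo : Over S := Over.mk (κ ≫ V'.hom)
  let ιo : Uo ⟶ U' := Over.homMk ι rfl
  let κo : Vo ⟶ V' := Over.homMk κ rfl
  let go : Uo ⟶ Vo := Over.homMk g hgw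
  have hgo : ιo ≫ h' = go ≫ κo := by
    apply Over.OverMorphism.ext
    exact hg
  have hιe : RepWith @Etale ((yon S).map ιo) :=
    (repWith_yon_map_iff @Etale _).mpr (inferInstanceAs (Etale ι))
  have hκe : RepWith @Etale ((yon S).map κo) :=
    (repWith_yon_map_iff @Etale _).mpr (inferInstanceAs (Etale κ))
  have key := lft_chart_of_thick_lfp i j f f' hj hjfp hcart h (U' := Uo) (V' := Vo)
    hU hV ((yon S).map ιo ≫ a') ((yon S).map κo ≫ b') go
    (repWith_comp @Etale hιe hae) (repWith_comp @Etale hκe hbe)
    (by rw [Category.assoc, comm, ← Category.assoc, ← Functor.map_comp, hgo, Functor.map_comp,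
      Category.assoc])
  exact key

end

end Groth.Agent.Helper2.ThickLft
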