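import Mathlib
import Groth.Agent.Lib.Helper2.AlgSp.UBSp2
import Groth.Agent.Lib.Helper2.AlgSp.UBEt

/-!
# Universally bounded fibres, part 3: quasi-finite morphisms of affine schemes (helper2)
-/

set_option autoImplicit false
set_option linter.style.haveILetI false

open CategoryTheory CategoryTheory.Limits AlgebraicGeometry Opposite AlgSp

universe u

namespace Groth.Agent.Helper2.UBSp

open Groth.Agent.Helper2.UBAlg

variable {S : Scheme.{u}}

theorem isPullback_of_comp_mono {C : Type*} [Category C] {P X Y Z Z' : C} {fst : P ⟶ X}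
    {snd : P ⟶ Y} {f : X ⟶ Z} {g : Y ⟶ Z} (i : Z ⟶ Z') [Mono i]
    (h : IsPullback fst snd (f ≫ i) (g ≫ i)) : IsPullback fst snd f g := by
  refine ⟨⟨by rw [← cancel_mono i, Category.assoc, Category.assoc, h.w]⟩,
    ⟨PullbackCone.IsLimit.mk _ (fun s => h.lift s.fst s.snd (by
      rw [← Category.assoc, s.condition, Category.assoc])) (fun s => h.lift_fst _ _ _)
      (fun s => h.lift_snd _ _ _) (fun s m h1 h2 => h.hom_ext ?_ ?_)⟩⟩
  · rw [h1, h.lift_fst]
  · rw [h2, h.lift_snd]

/-- A morphism of schemes over `S` from an affine scheme which factors through an affine open of the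
target and is quasi-finite of finite type has universally bounded fibres. -/
theorem hasUnivBddFibres_yon_map_of_affine {W U : Over S} (f : W ⟶ U) [IsAffine W.left]
    (U' : U.left.Opens) (hU' : IsAffineOpen U') (hle : Set.range f.left ⊆ (U' : Set ↥U.left))
    [LocallyQuasiFinite f.left] [LocallyOfFiniteType f.left] :
    W4dec.HasUnivBddFibres ((yon S).map f) := by
  have hr : Set.range f.left ⊆ Set.range U'.ι := by
    rw [Scheme.Opens.range_ι]; exact hle
  let f' : W.left ⟶ U'.toScheme := IsOpenImmersion.lift U'.ι f.left hr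
  have hf' : f' ≫ U'.ι = f.left := IsOpenImmersion.lift_fac _ _ _
  haveI : LocallyQuasiFinite (f' ≫ U'.ι) := by rw [hf']; infer_instance
  haveI : LocallyOfFiniteType (f' ≫ U'.ι) := by rw [hf']; infer_instance
  haveI : LocallyQuasiFinite f' := LocallyQuasiFinite.of_comp f' U'.ι
  haveI : LocallyOfFiniteType f' := locallyOfFiniteType_of_comp f' U'.ι
  haveI : IsAffine U'.toScheme := hU'
  obtain ⟨N, hN⟩ := exists_degLE_of_quasiFinite_affine f'
  refine ⟨N, ?_⟩
  rw [degFibresLE_iff]
  intro K _ str μ T c snd sq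
  obtain ⟨μ₀, rfl⟩ := (yon S).map_surjective μ
  obtain ⟨snd₀, rfl⟩ := (yon S).map_surjective snd
  by_cases hT : IsEmpty ↥T.left
  · exact degLE_of_isEmpty c.left N
  rw [not_isEmpty_iff] at hT
  obtain ⟨t⟩ := hT
  have sq₀ : IsPullback c snd₀ μ₀ f := IsPullback.of_map (yon S) ((yon S).map_injective (by
    rw [Functor.map_comp, Functor.map_comp]; exact sq.w)) sq
  have sq₁ := sq₀.map (Over.forget S)
  have hμ : Set.range μ₀.left ⊆ Set.range U'.ι := by
    rw [Scheme.Opens.range_ι]
    rintro _ ⟨z, rfl⟩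
    have hz : z = c.left t := Subsingleton.elim (α := PrimeSpectrum K) _ _
    rw [hz, ← Scheme.Hom.comp_apply]
    have : c.left ≫ μ₀.left = snd₀.left ≫ f.left := sq₁.w
    rw [this, Scheme.Hom.comp_apply]
    exact hle ⟨_, rfl⟩
  let y' : Spec (.of K) ⟶ U'.toScheme := IsOpenImmersion.lift U'.ι μ₀.left hμ
  have hy' : y' ≫ U'.ι = μ₀.left := IsOpenImmersion.lift_fac _ _ _
  have sq₂ : IsPullback c.left snd₀.left y' f' := by
    apply isPullback_of_comp_mono U'.ι
    rw [hy', hf']
    exact sq₁
  exact hN K y' T.left c.left snd₀.left sq₂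

end Groth.Agent.Helper2.UBSp
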