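import Mathlib
import Groth.Agent.Lib.Helper2.AlgSp.UBSp3
import Groth.Agent.Lib.Helper2.AlgSp.Points
import Groth.Agent.S10424

/-!
# Universally bounded fibres, part 4: étale localisation on the source (helper2)
-/

set_option autoImplicit false
set_option linter.style.haveILetI false

open CategoryTheory CategoryTheory.Limits AlgebraicGeometry Opposite AlgSp

universe u

namespace Groth.Agent.Helper2.UBSp

open Groth.Agent.Helper2.UBAlg

variable {S : Scheme.{u}}

/-- Local piece: if `W = U ×_X V` with `U ⟶ X` étale with universally bounded fibres and `V ⟶ X` étale,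
then every point of `W` has an affine open neighbourhood `W'` such that `W' ⟶ V ⟶ X` has universally bounded
fibres. -/
theorem exists_affine_nbhd_bdd (X : AlgSp.Space S) {U V W : Over S}
    (φ : (yon S).obj U ⟶ X.obj) (ψ : (yon S).obj V ⟶ X.obj)
    (hφ : RepWith @Etale φ) (hψ : RepWith @Etale ψ) (hb : W4dec.HasUnivBddFibres φ)
    (p : W ⟶ U) (q : W ⟶ V) (sq : IsPullback ((yon S).map p) ((yon S).map q) φ ψ) (w : ↥W.left) :
    ∃ (W' : Over S) (j : W' ⟶ W), IsAffine W'.left ∧ IsOpenImmersion j.left ∧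
      w ∈ Set.range j.left ∧ W4dec.HasUnivBddFibres ((yon S).map (j ≫ q) ≫ ψ) := by
  haveI hq : Etale q.left := hφ.property ψ ((yon S).map p) q sq
  haveI hp : Etale p.left := hψ.property φ ((yon S).map q) p sq.flip
  -- affine open of U containing p w
  obtain ⟨_, ⟨U', hU', rfl⟩, hpw, -⟩ := U.left.isBasis_affineOpens.exists_subset_of_mem_open
    (Set.mem_univ (p.left w)) isOpen_univ
  -- affine open of W inside the preimage
  obtain ⟨_, ⟨W', hW', rfl⟩, hw, hle⟩ := W.left.isBasis_affineOpens.exists_subset_of_mem_open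
    (show w ∈ ((p.left ⁻¹ᵁ U' : W.left.Opens) : Set ↥W.left) from hpw) (p.left ⁻¹ᵁ U').2
  obtain ⟨W'', hW''⟩ : ∃ W'' : W.left.Opens, W'' = W' := ⟨W', rfl⟩
  subst hW''
  let W'O : Over S := Over.mk (Scheme.Opens.ι W'' ≫ W.hom)
  let j : W'O ⟶ W := Over.homMk (Scheme.Opens.ι W'') rfl
  haveI : IsAffine W'O.left := hW'
  haveI : IsOpenImmersion j.left := inferInstanceAs (IsOpenImmersion (Scheme.Opens.ι W''))
  refine ⟨W'O, j, hW', inferInstance, ?_, ?_⟩
  · show w ∈ Set.range (Scheme.Opens.ι W'')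
    rw [Scheme.Opens.range_ι]; exact hw
  · haveI : Etale (j ≫ p).left := by
      show Etale (j.left ≫ p.left)
      infer_instance
    haveI : LocallyQuasiFinite (j ≫ p).left := lqf_of_etale' _
    have hrange : Set.range (j ≫ p).left ⊆ (U' : Set ↥U.left) := by
      rintro _ ⟨z, rfl⟩
      show p.left ((Scheme.Opens.ι W'') z) ∈ _
      have : (Scheme.Opens.ι W'') z ∈ (W'' : Set ↥W.left) := by
        rw [← Scheme.Opens.range_ι]; exact ⟨z, rfl⟩
      exact hle this
    have h1 := hasUnivBddFibres_yon_map_of_affine (j ≫ p) U' hU' hrange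
    have h2 := Groth.Agent.S10424.result X (j ≫ p) φ h1 hb
    have e : (yon S).map (j ≫ p) ≫ φ = (yon S).map (j ≫ q) ≫ ψ := by
      rw [Functor.map_comp, Functor.map_comp, Category.assoc, Category.assoc, sq.w]
    rw [← e]
    exact h2

/-- Assembly: if finitely many flat `g k : W k ⟶ V` are jointly surjective and each `W k ⟶ V ⟶ X` has
universally bounded fibres, then so does `V ⟶ X`. -/
theorem hasUnivBddFibres_of_flat_cover {F : Sp S} {V : Over S} (ψ : (yon S).obj V ⟶ F)
    {κ : Type u} [Fintype κ] (W : κ → Over S) (g : ∀ k, W k ⟶ V) [∀ k, Flat (g k).left]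
    (hsurj : ∀ v : ↥V.left, ∃ k, v ∈ Set.range (g k).left)
    (hb : ∀ k, W4dec.HasUnivBddFibres ((yon S).map (g k) ≫ ψ)) :
    W4dec.HasUnivBddFibres ψ := by
  choose d hd using hb
  refine ⟨∑ k, d k, ?_⟩
  rw [degFibresLE_iff]
  intro K _ str μ T c snd sq
  obtain ⟨snd₀, rfl⟩ := (yon S).map_surjective snd
  have sqk : ∀ k, IsPullback (pullback.fst snd₀ (g k)) (pullback.snd snd₀ (g k)) snd₀ (g k) :=
    fun k => IsPullback.of_hasPullback _ _
  have sqk' : ∀ k, IsPullback (pullback.fst snd₀ (g k)).left (pullback.snd snd₀ (g k)).left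
      snd₀.left (g k).left := fun k => (sqk k).map (Over.forget S)
  haveI : ∀ k, Flat (pullback.fst snd₀ (g k)).left := fun k =>
    MorphismProperty.of_isPullback (P := @Flat) (sqk' k).flip inferInstance
  refine degLE_of_flat_cover c.left (fun k => (pullback snd₀ (g k)).left)
    (fun k => (pullback.fst snd₀ (g k)).left) ?_ d ?_
  · intro t
    obtain ⟨k, w, hw⟩ := hsurj (snd₀.left t)
    refine ⟨k, ?_⟩
    obtain ⟨z, hz1, hz2⟩ := Scheme.Pullback.exists_preimage_pullback t w hw.symm
    let e := (sqk' k).isoPullback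
    refine ⟨e.inv z, ?_⟩
    rw [← Scheme.Hom.comp_apply, IsPullback.isoPullback_inv_fst]
    exact hz1
  · intro k
    have h1 := ((sqk k).map (yon S)).flip.paste_vert sq.flip
    have h2 := h1.flip
    rw [← Functor.map_comp] at h2
    exact (degFibresLE_iff _ _).1 (hd k) K str μ _ _ _ h2

end Groth.Agent.Helper2.UBSp
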