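import Mathlib
import Groth.Prelude.Def_AlgSpMor5
import Groth.Agent.Lib.Helper2.AlgSp.VCStrict

/-!
# For representable morphisms the valuative criterion needs no extensions
-/

namespace Groth.Agent.Helper2.VCStrictRep
open CategoryTheory CategoryTheory.Limits AlgebraicGeometry Opposite AlgSp
open Groth.Agent.Helper2.AlgSpBasic
universe u

section Scheme

variable {A K A' K' : Type u} [CommRing A] [IsDomain A] [ValuationRing A] [Field K] [Algebra A K]
  [IsFractionRing A K] [CommRing A'] [IsDomain A'] [ValuationRing A'] [Field K'] [Algebra A' K']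
  [IsFractionRing A' K']

/-- An element of `K` whose image in `K'` lies in the dominating valuation ring `A'` lies in `A`. -/
theorem mem_range_of_dominates (φ : A →+* A') (ψ : K →+* K')
    (comm : (algebraMap A' K').comp φ = ψ.comp (algebraMap A K)) [IsLocalHom φ]
    (y : K) (y' : A') (hy : algebraMap A' K' y' = ψ y) : ∃ a : A, algebraMap A K a = y := by
  rcases ValuationRing.isInteger_or_isInteger A y with ⟨a, ha⟩ | ⟨a, ha⟩
  · exact ⟨a, ha⟩
  · by_cases hy0 : y = 0
    · exact ⟨0, by rw [map_zero, hy0]⟩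
    · have h1 : algebraMap A' K' (φ a) = ψ (algebraMap A K a) := congrArg (fun m => m a) comm
      have h2 : algebraMap A' K' (φ a * y') = 1 := by
        rw [map_mul, h1, ha, hy, ← map_mul, inv_mul_cancel₀ hy0, map_one]
      have h3 : φ a * y' = 1 := by
        apply IsFractionRing.injective A' K'
        rw [h2, map_one]
      have h4 : IsUnit (φ a) := IsUnit.of_mul_eq_one _ h3
      have h5 : IsUnit a := isUnit_of_map_unit φ a h4
      obtain ⟨b, hb⟩ := h5.exists_right_inv
      refine ⟨b, ?_⟩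
      have h6 : algebraMap A K a * algebraMap A K b = 1 := by rw [← map_mul, hb, map_one]
      rw [ha] at h6
      have : y⁻¹ * y = 1 := inv_mul_cancel₀ hy0
      calc algebraMap A K b = (y * y⁻¹) * algebraMap A K b := by
            rw [mul_inv_cancel₀ hy0, one_mul]
        _ = y * (y⁻¹ * algebraMap A K b) := by rw [mul_assoc]
        _ = y := by rw [h6, mul_one]


/-- Scheme-level: a lift over a dominating valuation ring gives a lift over the valuation ring
itself. -/
theorem exists_lift_of_domExt (φ : A →+* A') (ψ : K →+* K')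
    (comm : (algebraMap A' K').comp φ = ψ.comp (algebraMap A K)) [IsLocalHom φ]
    {P : Scheme.{u}} (s : P ⟶ Spec (CommRingCat.of A)) (τ : Spec (CommRingCat.of K) ⟶ P)
    (hτ : τ ≫ s = Spec.map (CommRingCat.ofHom (algebraMap A K)))
    (l' : Spec (CommRingCat.of A') ⟶ P)
    (hl'τ : Spec.map (CommRingCat.ofHom (algebraMap A' K')) ≫ l' =
      Spec.map (CommRingCat.ofHom ψ) ≫ τ) :
    ∃ l : Spec (CommRingCat.of A) ⟶ P,
      Spec.map (CommRingCat.ofHom (algebraMap A K)) ≫ l = τ ∧ l ≫ s = 𝟙 _ := by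
  obtain ⟨U, hU, hxU, -⟩ := exists_isAffineOpen_mem_and_subset
    (x := l' (IsLocalRing.closedPoint A')) (U := ⊤) trivial
  -- `l'` factors through `U`
  have hrl : Set.range l' ⊆ Set.range hU.fromSpec := by
    rw [hU.range_fromSpec]
    rintro _ ⟨z, rfl⟩
    have h1 : z ⤳ IsLocalRing.closedPoint A' := IsLocalRing.specializes_closedPoint z
    have h2 : l' z ⤳ l' (IsLocalRing.closedPoint A') := h1.map l'.continuous
    exact h2.mem_open U.2 hxU
  obtain ⟨β', hβ'⟩ : ∃ β' : Γ(P, U) ⟶ CommRingCat.of A', Spec.map β' ≫ hU.fromSpec = l' :=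
    ⟨Spec.preimage (IsOpenImmersion.lift hU.fromSpec l' hrl), by
      rw [Spec.map_preimage, IsOpenImmersion.lift_fac]⟩
  -- `τ` factors through `U`
  have hrτ : Set.range τ ⊆ Set.range hU.fromSpec := by
    rintro _ ⟨z, rfl⟩
    obtain ⟨z', hz'⟩ := (Spec.map (CommRingCat.ofHom ψ)).surjective z
    have : τ z = l' (Spec.map (CommRingCat.ofHom (algebraMap A' K')) z') := by
      rw [← hz', ← Scheme.Hom.comp_apply, ← hl'τ, Scheme.Hom.comp_apply]
    rw [this]
    exact hrl ⟨_, rfl⟩
  obtain ⟨βK, hβK⟩ : ∃ βK : Γ(P, U) ⟶ CommRingCat.of K, Spec.map βK ≫ hU.fromSpec = τ :=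
    ⟨Spec.preimage (IsOpenImmersion.lift hU.fromSpec τ hrτ), by
      rw [Spec.map_preimage, IsOpenImmersion.lift_fac]⟩
  -- compatibility
  have hcomp : β' ≫ CommRingCat.ofHom (algebraMap A' K') = βK ≫ CommRingCat.ofHom ψ := by
    apply Spec.map_injective
    rw [← cancel_mono hU.fromSpec, Spec.map_comp, Spec.map_comp, Category.assoc, Category.assoc,
      hβ', hβK, hl'τ]
  have h6 : ∀ b : Γ(P, U), ∃ a : A, algebraMap A K a = βK.hom b := fun b =>
    mem_range_of_dominates φ ψ comm (βK.hom b) (β'.hom b)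
      (congrArg (fun m => m.hom b) hcomp)
  choose g hg using h6
  have inj := IsFractionRing.injective A K
  let β : Γ(P, U) →+* A :=
    { toFun := g
      map_one' := inj (by rw [hg, map_one, map_one])
      map_mul' := fun x y => inj (by rw [hg, map_mul, map_mul, hg, hg])
      map_zero' := inj (by rw [hg, map_zero, map_zero])
      map_add' := fun x y => inj (by rw [hg, map_add, map_add, hg, hg]) }
  have hβ : CommRingCat.ofHom β ≫ CommRingCat.ofHom (algebraMap A K) = βK := by
    ext b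
    exact hg b
  refine ⟨Spec.map (CommRingCat.ofHom β) ≫ hU.fromSpec, ?_, ?_⟩
  · rw [← Category.assoc, ← Spec.map_comp, hβ, hβK]
  · obtain ⟨σ, hσ⟩ : ∃ σ : CommRingCat.of A ⟶ Γ(P, U), Spec.map σ = hU.fromSpec ≫ s :=
      ⟨Spec.preimage (hU.fromSpec ≫ s), Spec.map_preimage _⟩
    have h7 : σ ≫ βK = CommRingCat.ofHom (algebraMap A K) := by
      apply Spec.map_injective
      rw [Spec.map_comp, hσ, ← Category.assoc, hβK, hτ]
    have h8 : σ ≫ CommRingCat.ofHom β = 𝟙 _ := by
      ext a
      apply inj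
      change algebraMap A K (g (σ.hom a)) = algebraMap A K a
      rw [hg]
      exact congrArg (fun m => m.hom a) h7
    rw [Category.assoc, ← hσ, ← Spec.map_comp, h8, Spec.map_id]

end Scheme


variable {S : Scheme.{u}}

theorem hasLift_of_domExt_hasLift_of_representable {X Y : Sp S} (f : X ⟶ Y)
    (hf : AlgSp.Representable f) (sq : ValSq f) (e : sq.DomExt) (he : e.HasLift) :
    sq.HasLift := by
  obtain ⟨l₀, hl1, hl2⟩ := he
  have sqW := hf.isPullback sq.bot
  obtain ⟨W, snd, fst, hsqW⟩ : ∃ (W : Over S) (snd : W ⟶ sq.ptA) (fst : (yon S).obj W ⟶ X),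
      IsPullback fst ((yon S).map snd) f sq.bot := ⟨_, _, _, sqW⟩
  let φO : e.ptA' ⟶ sq.ptA := Over.homMk (Spec.map (CommRingCat.ofHom e.φ)) rfl
  let jK : e.ptK' ⟶ e.ptA' :=
    Over.homMk (Spec.map (CommRingCat.ofHom (algebraMap e.A' e.K'))) rfl
  let ψO : e.ptK' ⟶ sq.ptK := Over.homMk (Spec.map (CommRingCat.ofHom e.ψ)) (by
    change Spec.map _ ≫ Spec.map _ ≫ _ = Spec.map _ ≫ Spec.map _ ≫ _
    rw [← Spec.map_comp_assoc, ← Spec.map_comp_assoc, ← CommRingCat.ofHom_comp,
      ← CommRingCat.ofHom_comp, e.comm])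
  have hl1' : (yon S).map jK ≫ l₀ = (yon S).map ψO ≫ sq.top := hl1
  have hl2' : l₀ ≫ f = (yon S).map φO ≫ sq.bot := hl2
  obtain ⟨top', htop'⟩ := (yon S).map_surjective (hsqW.lift sq.top ((yon S).map sq.j) sq.comm)
  obtain ⟨l', hl'⟩ := (yon S).map_surjective (hsqW.lift l₀ ((yon S).map φO) hl2')
  have htop1 : (yon S).map top' ≫ fst = sq.top := by rw [htop', hsqW.lift_fst]
  have htop2 : top' ≫ snd = sq.j :=
    (yon S).map_injective (by rw [Functor.map_comp, htop', hsqW.lift_snd])
  have hl'1 : (yon S).map l' ≫ fst = l₀ := by rw [hl', hsqW.lift_fst]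
  have hl'2 : l' ≫ snd = φO :=
    (yon S).map_injective (by rw [Functor.map_comp, hl', hsqW.lift_snd])
  have hOver : jK ≫ φO = ψO ≫ sq.j := by
    apply Over.OverMorphism.ext
    show Spec.map _ ≫ Spec.map _ = Spec.map _ ≫ Spec.map _
    rw [← Spec.map_comp, ← Spec.map_comp, ← CommRingCat.ofHom_comp, ← CommRingCat.ofHom_comp,
      e.comm]
  have hjl : jK ≫ l' = ψO ≫ top' := by
    apply (yon S).map_injective
    apply hsqW.hom_ext
    · rw [Functor.map_comp, Functor.map_comp, Category.assoc, Category.assoc, hl'1, htop1, hl1']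
    · rw [← Functor.map_comp, ← Functor.map_comp, Category.assoc, Category.assoc, hl'2, htop2,
        hOver]
  haveI : IsLocalHom e.φ := e.isLocalHom
  obtain ⟨l, hl1, hl2⟩ := exists_lift_of_domExt e.φ e.ψ e.comm snd.left top'.left
    (congrArg (fun m => m.left) htop2) l'.left (congrArg (fun m => m.left) hjl)
  have hlW : l ≫ W.hom = sq.ptA.hom := by
    have h1 : snd.left ≫ sq.ptA.hom = W.hom := Over.w snd
    rw [← h1, ← Category.assoc, hl2, Category.id_comp]
  obtain ⟨L, hL⟩ : ∃ L : sq.ptA ⟶ W, L.left = l := ⟨Over.homMk l hlW, rfl⟩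
  have hL1 : sq.j ≫ L = top' := by
    apply Over.OverMorphism.ext
    rw [Over.comp_left, hL]
    exact hl1
  have hL2 : L ≫ snd = 𝟙 _ := by
    apply Over.OverMorphism.ext
    rw [Over.comp_left, hL]
    exact hl2
  refine ⟨(yon S).map L ≫ fst, ?_, ?_⟩
  · rw [← Category.assoc, ← Functor.map_comp, hL1, htop1]
  · rw [Category.assoc, hsqW.w, ← Category.assoc, ← Functor.map_comp, hL2,
      CategoryTheory.Functor.map_id, Category.id_comp]

theorem main {X Y : Space S} (f : X ⟶ Y) (hf : AlgSp.Representable f.hom) :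
    ExistVC f.hom ↔ ExistVCStrict f.hom := by
  refine ⟨fun h sq => ?_, existVC_of_existVCStrict⟩
  obtain ⟨e, he⟩ := h sq
  exact hasLift_of_domExt_hasLift_of_representable f.hom hf sq e he

end Groth.Agent.Helper2.VCStrictRep
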