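import Mathlib
import Groth.Prelude.Def_AlgSpSub
import Groth.Prelude.Def_AlgSpModX
import Groth.Agent.Lib.Helper2.AlgSp.Points
import Groth.Agent.Lib.Helper2.AlgSp.OpenSub
import Groth.Agent.Lib.Helper2.AlgSp.Reduced

/-!
# Weakly associated points of modules on the small étale site of an algebraic space (helper2)

Basic dictionary (`primeAtPt`, the unit module, vanishing of sections) and the first results:
a module is zero iff it has no weakly associated points; on a reduced space the weakly associated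
points of the structure sheaf are the points of codimension zero.
-/

set_option autoImplicit false
set_option backward.isDefEq.respectTransparency false
set_option synthInstance.maxHeartbeats 400000
set_option maxHeartbeats 4000000
set_option linter.style.haveILetI false
set_option linter.unusedSectionVars false
set_option linter.unusedVariables false
set_option linter.unusedSimpArgs false
set_option linter.unnecessarySimpa false

universe u

open CategoryTheory CategoryTheory.Limits AlgebraicGeometry Opposite AlgSp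
open Groth.Agent.Helper2.AlgSpBasic

namespace Groth.Agent.Helper2.WeakAss

/-! ### Commutative algebra -/

theorem exists_mul_pow_mem {A : Type*} [CommRing A] {I p : Ideal A} (hp : p ∈ I.minimalPrimes)
    {b : A} (hb : b ∈ p) : ∃ c, c ∉ p ∧ ∃ n : ℕ, c * b ^ n ∈ I := by
  by_contra hcon
  push Not at hcon
  haveI : p.IsPrime := hp.1.1
  obtain ⟨T, hT⟩ : ∃ T : Submonoid A, T = p.primeCompl ⊔ Submonoid.powers b := ⟨_, rfl⟩
  have hdisj : Disjoint (I : Set A) (T : Set A) := by
    rw [Set.disjoint_left]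
    intro x hxI hxT
    rw [hT] at hxT
    obtain ⟨c, hc, z, ⟨n, rfl⟩, rfl⟩ := Submonoid.mem_sup.1 hxT
    exact hcon c hc n hxI
  obtain ⟨q, hq, hIq, hqT⟩ := Ideal.exists_le_prime_disjoint (I := I) T hdisj
  have hqp : q ≤ p := by
    intro x hx
    by_contra hxp
    refine Set.disjoint_left.1 hqT hx ?_
    rw [hT]
    exact Submonoid.mem_sup_left hxp
  have hpq : p ≤ q := hp.2 ⟨hq, hIq⟩ hqp
  refine Set.disjoint_left.1 hqT (hpq hb) ?_
  rw [hT]
  exact Submonoid.mem_sup_right (Submonoid.mem_powers b)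

/-- In a reduced ring a prime minimal over the annihilator of an element is a minimal prime. -/
theorem mem_minimalPrimes_of_isReduced {A : Type*} [CommRing A] [IsReduced A] (t : A)
    (I : Ideal A) (hI : ∀ a, a ∈ I ↔ a * t = 0) {p : Ideal A} (hp : p ∈ I.minimalPrimes) :
    p ∈ minimalPrimes A := by
  haveI : p.IsPrime := hp.1.1
  have hIp : I ≤ p := hp.1.2
  have h1 : ∀ b ∈ p, ∃ c, c ∉ p ∧ c * b * t = 0 := by
    intro b hb
    obtain ⟨c, hc, n, hn⟩ := exists_mul_pow_mem hp hb
    refine ⟨c, hc, ?_⟩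
    have h2 : c * b ^ n * t = 0 := (hI _).1 hn
    have h3 : (c * b * t) ^ (n + 1) = 0 := by
      have h4 : (c * b * t) ^ (n + 1) = (c * b ^ n * t) * (c ^ n * b * t ^ n) := by ring
      rw [h4, h2, zero_mul]
    exact IsReduced.eq_zero _ ⟨n + 1, h3⟩
  have h2 : t ∉ p := by
    intro ht
    obtain ⟨c, hc, hct⟩ := h1 t ht
    have h3 : (c * t) ^ 2 = 0 := by
      have h4 : (c * t) ^ 2 = c * (c * t * t) := by ring
      rw [h4, hct, mul_zero]
    have h4 : c * t = 0 := IsReduced.eq_zero _ ⟨2, h3⟩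
    exact hc (hIp ((hI c).2 h4))
  refine ⟨⟨inferInstance, bot_le⟩, ?_⟩
  rintro q ⟨hq, -⟩ hqp
  intro b hb
  obtain ⟨c, hc, hcb⟩ := h1 b hb
  have h5 : c * b * t ∈ q := by
    rw [hcb]
    exact zero_mem _
  have hcq : c ∉ q := fun h => hc (hqp h)
  have htq : t ∉ q := fun h => h2 (hqp h)
  rcases hq.mem_or_mem h5 with h6 | h6
  · rcases hq.mem_or_mem h6 with h7 | h7
    · exact absurd h7 hcq
    · exact h7
  · exact absurd h6 htq

/-! ### The prime ideal of a point -/

theorem primeAtPt_eq_primeIdealOf (U : Scheme.{u}) [IsAffine U] (x : U) :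
    primeAtPt U x = ((isAffineOpen_top U).primeIdealOf ⟨x, trivial⟩).asIdeal := by
  rw [IsAffineOpen.primeIdealOf_eq_map_closedPoint]
  rfl

theorem exists_primeAtPt_eq (U : Scheme.{u}) [IsAffine U] (p : Ideal Γ(U, ⊤)) [p.IsPrime] :
    ∃ x : U, primeAtPt U x = p := by
  have hU := isAffineOpen_top U
  obtain ⟨y, hy⟩ : ∃ y : PrimeSpectrum Γ(U, ⊤), y.asIdeal = p := ⟨⟨p, inferInstance⟩, rfl⟩
  refine ⟨hU.fromSpec y, ?_⟩
  rw [primeAtPt_eq_primeIdealOf, ← hy]
  congr 1
  have h1 := hU.fromSpec_primeIdealOf ⟨hU.fromSpec y, trivial⟩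
  exact hU.fromSpec.isOpenEmbedding.injective h1

theorem mem_primeAtPt_iff (U : Scheme.{u}) (x : U) (a : Γ(U, ⊤)) :
    a ∈ primeAtPt U x ↔ x ∉ U.basicOpen a := by
  rw [Scheme.mem_basicOpen_top]
  unfold primeAtPt
  rw [Ideal.mem_comap, IsLocalRing.mem_maximalIdeal, mem_nonunits_iff]

theorem ringKrullDim_stalk_eq_zero_iff (U : Scheme.{u}) [IsAffine U] (x : U) :
    ringKrullDim (U.presheaf.stalk x) = 0 ↔ primeAtPt U x ∈ minimalPrimes Γ(U, ⊤) := by
  have hU := isAffineOpen_top U
  letI := TopCat.Presheaf.algebra_section_stalk U.presheaf (⟨x, trivial⟩ : (⊤ : U.Opens))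
  haveI := hU.isLocalization_stalk ⟨x, trivial⟩
  have h1 : ringKrullDim (U.presheaf.stalk x) =
      ((hU.primeIdealOf ⟨x, trivial⟩).asIdeal.height : WithBot ℕ∞) :=
    IsLocalization.AtPrime.ringKrullDim_eq_height (hU.primeIdealOf ⟨x, trivial⟩).asIdeal
      (U.presheaf.stalk x)
  rw [h1, primeAtPt_eq_primeIdealOf, ← Ideal.height_eq_zero_iff]
  exact WithBot.coe_eq_zero

/-! ### The unit module -/

variable {S : Scheme.{u}} {X : Sp S}

theorem mem_annSect_unit_iff (E : EtOver X) (t a : Γ(E.obj.left.left, ⊤)) :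
    a ∈ annSect (show sectModEt (unitModEt X) E from upΓ E t) ↔ a * t = 0 := by
  rw [mem_annSect_iff]
  constructor
  · intro h
    have h1 := congrArg
      (fun z => ULift.down (show ULift.{u + 1} Γ(E.obj.left.left, ⊤) from z)) h
    exact h1
  · intro h
    have h1 : (upΓ E a) • (show sectModEt (unitModEt X) E from upΓ E t) =
        (show sectModEt (unitModEt X) E from upΓ E (a * t)) := rfl
    rw [h1, h]
    rfl

theorem exists_eq_upΓ (E : EtOver X) (s : sectModEt (unitModEt X) E) :
    ∃ t : Γ(E.obj.left.left, ⊤), s = (show sectModEt (unitModEt X) E from upΓ E t) :=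
  ⟨ULift.down (show ULift.{u + 1} Γ(E.obj.left.left, ⊤) from s), rfl⟩

/-! ### Vanishing of sections -/

theorem sect_eq_zero_of_isZero (M : ModEt X) (hM : IsZero M) (E : EtOver X)
    (s : sectModEt M E) : s = 0 := by
  have h1 : IsZero ((SheafOfModules.forget (OEtRing X)).obj M) :=
    Functor.map_isZero _ hM
  have h2 : IsZero ((PresheafOfModules.evaluation (OEtRing X).obj (op E)).obj
      ((SheafOfModules.forget (OEtRing X)).obj M)) := Functor.map_isZero _ h1
  have h3 := ModuleCat.subsingleton_of_isZero h2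
  exact @Subsingleton.elim _ h3 s 0

/-- The affine open subschemes of an object of the small étale site, as objects of the site. -/
noncomputable abbrev affOb (E : EtOver X) (W : E.obj.left.left.Opens) : EtOver X :=
  EtOver.mk ((yon S).map (opensOverι W) ≫ E.obj.hom)
    (repWith_comp @Etale ((repWith_yon_map_iff @Etale _).2
      (show Etale (Scheme.Opens.ι W) from inferInstance)) E.property)

noncomputable abbrev affObι (E : EtOver X) (W : E.obj.left.left.Opens) : affOb E W ⟶ E :=
  EtOver.homMk (opensOverι W) rfl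

theorem sect_eq_zero_of_forall_affine (M : ModEt X)
    (H : ∀ (E : EtOver X) [IsAffine E.obj.left.left] (s : sectModEt M E), s = 0)
    (E : EtOver X) (s : sectModEt M E) : s = 0 := by
  have hsh : Presieve.IsSheaf (etTop X) (M.val.presheaf ⋙ forget AddCommGrpCat.{u + 1}) :=
    (isSheaf_iff_isSheaf_of_type _ _).mp
      ((Presheaf.isSheaf_iff_isSheaf_forget _ _ (forget AddCommGrpCat.{u + 1})).mp M.isSheaf)
  have hcov : Sieve.ofArrows (fun W : E.obj.left.left.affineOpens => affOb E W.1)
      (fun W => affObι E W.1) ∈ etTop X E := by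
    refine ofArrows_mem_etTop _ _ fun x => ?_
    obtain ⟨_, ⟨W, hW, rfl⟩, hxW, -⟩ :=
      E.obj.left.left.isBasis_affineOpens.exists_subset_of_mem_open (Set.mem_univ x) isOpen_univ
    refine ⟨⟨W, hW⟩, ?_⟩
    have h1 : x ∈ Set.range (Scheme.Opens.ι W) := by
      rw [Scheme.Opens.range_ι]
      exact hxW
    exact h1
  have hsep := (hsh.isSeparated _ hcov)
  refine hsep.ext (t₁ := s) (t₂ := 0) ?_
  rintro Y f ⟨Z, h, g, ⟨W⟩, rfl⟩
  haveI : IsAffine (affOb E W.1).obj.left.left := W.2
  have key : ∀ {Y Z : EtOver X} (f : Y ⟶ Z),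
      (M.val.presheaf ⋙ forget AddCommGrpCat.{u + 1}).map f.op 0 = 0 :=
    fun f => map_zero (M.val.presheaf.map f.op).hom
  have h0 : (M.val.presheaf ⋙ forget AddCommGrpCat.{u + 1}).map (affObι E W.1).op s = 0 :=
    H (affOb E W.1) _
  have h1 : (M.val.presheaf ⋙ forget AddCommGrpCat.{u + 1}).map (h ≫ affObι E W.1).op s =
      (M.val.presheaf ⋙ forget AddCommGrpCat.{u + 1}).map h.op
        ((M.val.presheaf ⋙ forget AddCommGrpCat.{u + 1}).map (affObι E W.1).op s) := by
    rw [op_comp, Functor.map_comp]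
    rfl
  rw [h1, h0, key, key]

theorem sect_eq_zero_of_affine (M : ModEt X) (hW : WeakAssEt M = ∅) (E : EtOver X)
    [IsAffine E.obj.left.left] (s : sectModEt M E) : s = 0 := by
  by_contra hs
  have hne : annSect s ≠ ⊤ := by
    intro h
    have h1 : (1 : Γ(E.obj.left.left, ⊤)) ∈ annSect s := by
      rw [h]
      exact Submodule.mem_top
    rw [mem_annSect_iff, map_one, one_smul] at h1
    exact hs h1
  obtain ⟨⟨p, hp⟩⟩ := Ideal.nonempty_minimalPrimes hne
  haveI : p.IsPrime := hp.1.1
  obtain ⟨x, hx⟩ := exists_primeAtPt_eq E.obj.left.left p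
  have hmem : Points.ofPt E.obj.hom x ∈ WeakAssEt M :=
    ⟨E, inferInstance, x, rfl, s, by rw [hx]; exact hp⟩
  rw [hW] at hmem
  exact hmem

/-- S10810. -/
theorem isZero_iff_weakAssEt_eq_empty (M : ModEt X) : IsZero M ↔ WeakAssEt M = ∅ := by
  constructor
  · intro hM
    rw [Set.eq_empty_iff_forall_notMem]
    rintro x ⟨E, hE, w, -, s, hs⟩
    have h0 : s = 0 := sect_eq_zero_of_isZero M hM E s
    have htop : annSect s = ⊤ := by
      rw [Ideal.eq_top_iff_one, mem_annSect_iff, h0, smul_zero]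
    rw [htop, Ideal.minimalPrimes_top] at hs
    exact hs
  · intro hW
    have H : ∀ (E : EtOver X) (s : sectModEt M E), s = 0 :=
      sect_eq_zero_of_forall_affine M (fun E _ s => sect_eq_zero_of_affine M hW E s)
    rw [IsZero.iff_id_eq_zero]
    apply SheafOfModules.hom_ext
    apply PresheafOfModules.hom_ext
    intro E'
    haveI : Subsingleton (M.val.obj E') :=
      ⟨fun a b => (H E'.unop a).trans (H E'.unop b).symm⟩
    ext s
    exact Subsingleton.elim _ _

theorem mem_weakAssEt_unit_of_chart {U : Over S} (a : (yon S).obj U ⟶ X)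
    (hae : RepWith @Etale a) [IsAffine U.left] (w : U.left)
    (hmin : primeAtPt U.left w ∈ minimalPrimes Γ(U.left, ⊤)) :
    Points.ofPt a w ∈ WeakAssEt (unitModEt X) := by
  refine ⟨EtOver.mk a hae, inferInstanceAs (IsAffine U.left), w, rfl, upΓ _ 1, ?_⟩
  have hbot : annSect (show sectModEt (unitModEt X) (EtOver.mk a hae) from upΓ _ 1) = ⊥ := by
    ext b
    rw [mem_annSect_unit_iff, mul_one, Ideal.mem_bot]
  rw [hbot]
  exact hmin

/-- S10805. -/
theorem mem_weakAssEt_unit_iff (hX : IsReducedSp X) (x : Points X) :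
    x ∈ WeakAssEt (unitModEt X) ↔
      HasAt (fun U w => ringKrullDim ↥(U.presheaf.stalk w) = 0) X x := by
  constructor
  · rintro ⟨E, hE, w, hw, s', hs⟩
    haveI : IsReduced E.obj.left.left :=
      isReduced_of_etale_of_isReducedSp hX E.obj.hom E.property
    obtain ⟨t, rfl⟩ := exists_eq_upΓ E s'
    have hmin : primeAtPt E.obj.left.left w ∈ minimalPrimes Γ(E.obj.left.left, ⊤) :=
      mem_minimalPrimes_of_isReduced t _ (fun a => mem_annSect_unit_iff E t a) hs
    exact ⟨E.obj.left, E.obj.hom, w, E.property, hw,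
      (ringKrullDim_stalk_eq_zero_iff _ w).2 hmin⟩
  · rintro ⟨U, a, w, hae, hw, hdim⟩
    obtain ⟨_, ⟨W, hW, rfl⟩, hwW, -⟩ :=
      U.left.isBasis_affineOpens.exists_subset_of_mem_open (Set.mem_univ w) isOpen_univ
    obtain ⟨v, rfl⟩ : ∃ v : ↥(W : Scheme.{u}), (Scheme.Opens.ι W) v = w := ⟨⟨w, hwW⟩, rfl⟩
    haveI : IsAffine (W : Scheme.{u}) := hW
    have hdimW : ringKrullDim ↥((W : Scheme.{u}).presheaf.stalk v) = 0 := by
      rw [← hdim]
      exact (ringKrullDim_eq_of_ringEquiv
        (asIso ((Scheme.Opens.ι W).stalkMap v)).commRingCatIsoToRingEquiv).symm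
    have hmin := (ringKrullDim_stalk_eq_zero_iff (W : Scheme.{u}) v).1 hdimW
    haveI : IsAffine (opensOver (U := U) W).left := hW
    have h1 := mem_weakAssEt_unit_of_chart ((yon S).map (opensOverι (U := U) W) ≫ a)
      (repWith_comp @Etale ((repWith_yon_map_iff @Etale _).2
        (show Etale (Scheme.Opens.ι W) from inferInstance)) hae) v hmin
    have e := (ofPt_yon_map_comp (opensOverι (U := U) W) a v).trans hw
    rw [← e]
    exact h1

end Groth.Agent.Helper2.WeakAss
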