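import Mathlib
import Groth.Prelude.Def_AlgSpSub
import Groth.Prelude.Def_AlgSpModX
import Groth.Agent.Lib.Helper2.AlgSp.WeakAss1

/-!
# Weakly associated points and short exact sequences (helper2)
-/

set_option autoImplicit false
set_option backward.isDefEq.respectTransparency false
set_option synthInstance.maxHeartbeats 400000
set_option maxHeartbeats 4000000
set_option linter.style.haveILetI false
set_option linter.unusedSectionVars false
set_option linter.unusedVariables false
set_option linter.unusedSimpArgs false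
set_option linter.unnecessarySimpa false

universe u

open CategoryTheory CategoryTheory.Limits AlgebraicGeometry Opposite AlgSp
open Groth.Agent.Helper2.AlgSpBasic

namespace Groth.Agent.Helper2.WeakAss

variable {S : Scheme.{u}} {X : Sp S}

instance evaluation_preservesZeroMorphisms (E : EtOver X) :
    (SheafOfModules.evaluation (OEtRing X) (op E)).PreservesZeroMorphisms := by
  unfold SheafOfModules.evaluation
  infer_instance

theorem annSect_le_map {M N : ModEt X} (f : M ⟶ N) (E : EtOver X) (s : sectModEt M E) :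
    annSect s ≤ annSect ((f.val.app (op E)).hom s) := by
  intro a ha
  rw [mem_annSect_iff] at ha ⊢
  rw [← map_smul, ha, map_zero]

theorem annSect_map_of_injective {M N : ModEt X} (f : M ⟶ N) (E : EtOver X)
    (hinj : Function.Injective (f.val.app (op E)).hom) (s : sectModEt M E) :
    annSect ((f.val.app (op E)).hom s) = annSect s := by
  refine le_antisymm ?_ (annSect_le_map f E s)
  intro a ha
  rw [mem_annSect_iff] at ha ⊢
  rw [← map_smul] at ha
  exact hinj (by rw [ha, map_zero])

theorem annSect_le_smul {M : ModEt X} (E : EtOver X) (s : sectModEt M E)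
    (c : Γ(E.obj.left.left, ⊤)) : annSect s ≤ annSect (upΓ E c • s) := by
  intro a ha
  rw [mem_annSect_iff] at ha ⊢
  rw [← mul_smul, ← map_mul, mul_comm a c, map_mul, mul_smul, ha, smul_zero]

/-- S10811. -/
theorem weakAssEt_subset_of_shortExact (C : ShortComplex (ModEt X)) (hC : C.ShortExact) :
    WeakAssEt C.X₂ ⊆ WeakAssEt C.X₁ ∪ WeakAssEt C.X₃ ∧ WeakAssEt C.X₁ ⊆ WeakAssEt C.X₂ := by
  have hF : ∀ E : EtOver X,
      (C.map (SheafOfModules.evaluation (OEtRing X) (op E))).Exact ∧
        Mono ((SheafOfModules.evaluation (OEtRing X) (op E)).map C.f) := by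
    intro E
    haveI := hC.mono_f
    exact ⟨hC.exact.map_of_mono_of_preservesKernel _ hC.mono_f inferInstance, inferInstance⟩
  have hinj : ∀ E : EtOver X, Function.Injective (C.f.val.app (op E)).hom := by
    intro E
    exact (ModuleCat.mono_iff_injective _).1 (hF E).2
  have hex : ∀ (E : EtOver X) (s₂ : sectModEt C.X₂ E), (C.g.val.app (op E)).hom s₂ = 0 →
      ∃ s₁ : sectModEt C.X₁ E, (C.f.val.app (op E)).hom s₁ = s₂ := by
    intro E
    exact (ShortComplex.moduleCat_exact_iff _).1 (hF E).1
  constructor
  · rintro x ⟨E, hE, w, hw, s, hs⟩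
    haveI : (primeAtPt E.obj.left.left w).IsPrime := inferInstance
    by_cases hle : annSect ((C.g.val.app (op E)).hom s) ≤ primeAtPt E.obj.left.left w
    · right
      refine ⟨E, hE, w, hw, (C.g.val.app (op E)).hom s, ⟨⟨inferInstance, hle⟩, ?_⟩⟩
      rintro q ⟨hq, hq2⟩ hqp
      exact hs.2 ⟨hq, le_trans (annSect_le_map C.g E s) hq2⟩ hqp
    · left
      obtain ⟨c, hc, hcp⟩ := Set.not_subset.1 hle
      have h1 : (C.g.val.app (op E)).hom (upΓ E c • s) = 0 := by
        rw [map_smul]
        exact (mem_annSect_iff _ _).1 hc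
      obtain ⟨s₁, hs₁⟩ := hex E _ h1
      refine ⟨E, hE, w, hw, s₁, ?_⟩
      rw [← annSect_map_of_injective C.f E (hinj E) s₁, hs₁]
      refine ⟨⟨inferInstance, ?_⟩, ?_⟩
      · intro a ha
        have h2 : a * c ∈ annSect s := by
          rw [mem_annSect_iff, map_mul, mul_smul]
          exact (mem_annSect_iff _ _).1 ha
        rcases (inferInstance : (primeAtPt E.obj.left.left w).IsPrime).mem_or_mem
          (hs.1.2 h2) with h3 | h3
        · exact h3
        · exact absurd h3 hcp
      · rintro q ⟨hq, hq2⟩ hqp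
        exact hs.2 ⟨hq, le_trans (annSect_le_smul E s c) hq2⟩ hqp
  · rintro x ⟨E, hE, w, hw, s, hs⟩
    refine ⟨E, hE, w, hw, (C.f.val.app (op E)).hom s, ?_⟩
    rw [annSect_map_of_injective C.f E (hinj E) s]
    exact hs

end Groth.Agent.Helper2.WeakAss
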