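import Mathlib
import Groth.Prelude.Def_AlgSpSub
import Groth.Prelude.Def_AlgSpModX
import Groth.Agent.Lib.Helper2.AlgSp.WeakAss1
import Groth.Agent.Lib.Helper2.AlgSp.CartierPull

/-!
# Pullback of effective Cartier divisors avoiding the weakly associated points (helper2)
-/

set_option autoImplicit false
set_option backward.isDefEq.respectTransparency false
set_option synthInstance.maxHeartbeats 400000
set_option maxHeartbeats 4000000
set_option linter.style.haveILetI false
set_option linter.unusedSectionVars false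
set_option linter.unusedVariables false
set_option linter.unusedSimpArgs false
set_option linter.unnecessarySimpa false

universe u

open CategoryTheory CategoryTheory.Limits AlgebraicGeometry Opposite AlgSp
open Groth.Agent.Helper2.AlgSpBasic

namespace Groth.Agent.Helper2.WeakAss

theorem exists_minimalPrime_of_mul_eq_zero {A : Type*} [CommRing A] (b g : A) (hb : b * g = 0)
    (hb0 : b ≠ 0) : ∃ p : Ideal A, p ∈ (Ideal.span {b}).annihilator.minimalPrimes ∧ g ∈ p := by
  have hne : (Ideal.span {b}).annihilator ≠ ⊤ := by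
    intro h
    have h1 : (1 : A) ∈ (Ideal.span {b}).annihilator := by
      rw [h]
      exact Submodule.mem_top
    rw [Submodule.mem_annihilator_span_singleton, one_smul] at h1
    exact hb0 h1
  obtain ⟨⟨p, hp⟩⟩ := Ideal.nonempty_minimalPrimes hne
  refine ⟨p, hp, hp.1.2 ?_⟩
  rw [Submodule.mem_annihilator_span_singleton, smul_eq_mul]
  exact (mul_comm _ _).trans hb

/-- The inverse image of an effective Cartier ideal is effective Cartier as soon as no point
of the source which is weakly associated on an affine open lies in its support. -/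
theorem isEffCartierIdeal_comap_of_forall {U V : Scheme.{u}} (g : U ⟶ V) (I : V.IdealSheafData)
    (hI : BlowUp.IsEffCartierIdeal I)
    (H : ∀ (W : U.Opens), IsAffineOpen W → ∀ (b : Γ((W : Scheme.{u}), ⊤))
      (p : Ideal Γ((W : Scheme.{u}), ⊤)), p ∈ (Ideal.span {b}).annihilator.minimalPrimes →
      ∀ w : ↥(W : Scheme.{u}), primeAtPt (W : Scheme.{u}) w = p →
        (Scheme.Opens.ι W) w ∉ (I.comap g).support) :
    BlowUp.IsEffCartierIdeal (I.comap g) := by
  intro x
  obtain ⟨V₀, hxV₀, a, ha, hIa⟩ := hI (g x)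
  obtain ⟨_, ⟨W, hW, rfl⟩, hxW, hWV⟩ :=
    U.isBasis_affineOpens.exists_subset_of_mem_open (show x ∈ g ⁻¹ᵁ V₀.1 from hxV₀)
      (g ⁻¹ᵁ V₀.1).isOpen
  have hW' : IsAffineOpen ((Scheme.Opens.ι W) ''ᵁ ⊤) := by
    rw [Scheme.Opens.ι_image_top]
    exact hW
  have hxW' : x ∈ (Scheme.Opens.ι W) ''ᵁ ⊤ := by
    rw [Scheme.Opens.ι_image_top]
    exact hxW
  have e' : (Scheme.Opens.ι W) ''ᵁ ⊤ ≤ g ⁻¹ᵁ V₀.1 := by
    rw [Scheme.Opens.ι_image_top]
    exact hWV
  obtain ⟨g₀, hg₀⟩ : ∃ g₀ : Γ(U, (Scheme.Opens.ι W) ''ᵁ ⊤),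
      g₀ = (g.appLE V₀.1 ((Scheme.Opens.ι W) ''ᵁ ⊤) e').hom a := ⟨_, rfl⟩
  have hJ : (I.comap g).ideal ⟨(Scheme.Opens.ι W) ''ᵁ ⊤, hW'⟩ = Ideal.span {g₀} := by
    rw [Groth.Agent.Helper4.IdealComap.ideal_comap_eq_map g I ⟨_, hW'⟩ V₀ e', hIa,
      Ideal.map_span, Set.image_singleton, hg₀]
  refine ⟨⟨(Scheme.Opens.ι W) ''ᵁ ⊤, hW'⟩, hxW', g₀, ?_, hJ⟩
  rw [mem_nonZeroDivisors_iff_right]
  intro b hb
  by_contra hb0
  haveI : IsAffine (W : Scheme.{u}) := hW
  obtain ⟨p, hp, hgp⟩ := exists_minimalPrime_of_mul_eq_zero (A := Γ((W : Scheme.{u}), ⊤))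
    b g₀ hb hb0
  haveI : p.IsPrime := hp.1.1
  obtain ⟨w, hw⟩ := exists_primeAtPt_eq (W : Scheme.{u}) p
  have hsupp : (Scheme.Opens.ι W) w ∈ (I.comap g).support := by
    rw [Scheme.IdealSheafData.mem_support_iff_of_mem
      (U := ⟨(Scheme.Opens.ι W) ''ᵁ ⊤, hW'⟩)
      (show (Scheme.Opens.ι W) w ∈ (Scheme.Opens.ι W) ''ᵁ ⊤ from ⟨w, trivial, rfl⟩),
      hJ, Scheme.zeroLocus_span, Scheme.mem_zeroLocus_iff]
    intro f hf
    rw [Set.mem_singleton_iff] at hf
    subst hf
    rw [← hw, mem_primeAtPt_iff] at hgp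
    intro hcon
    exact hgp ((Scheme.Opens.mem_basicOpen_toScheme (U := W) (V := ⊤) (x := w)).2 hcon)
  exact H W hW b p hp w hw hsupp

variable {S : Scheme.{u}} {X : Sp S}

theorem annSect_unit_eq (E : EtOver X) (t : Γ(E.obj.left.left, ⊤)) :
    annSect (show sectModEt (unitModEt X) E from upΓ E t) = (Ideal.span {t}).annihilator := by
  ext a
  rw [mem_annSect_unit_iff, Submodule.mem_annihilator_span_singleton, smul_eq_mul]

/-- S10796. -/
theorem main96 {Y D P : Sp S} (hX : IsAlgSpace X) (f : X ⟶ Y) (i : D ⟶ Y)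
    (hD : IsEffCartierSub i)
    (h : ∀ x ∈ WeakAssEt (unitModEt X), Points.map f x ∉ Set.range (Points.map i))
    (fst : P ⟶ D) (snd : P ⟶ X) (hP : IsPullback fst snd i f) :
    IsEffCartierSub snd := by
  obtain ⟨hi, V, φ, I, fstD, hφe, hφs, sqD, hI⟩ := hD
  refine ⟨repWith_of_isPullback @IsClosedImmersion hP hi, ?_⟩
  obtain ⟨U, p, α, hpe, hps, hpα⟩ := exists_chart_lift hX f φ hφe hφs
  obtain ⟨fst', sq3⟩ := Groth.Agent.Helper2.CartierPull.exists_sq_comap i φ I fstD sqD α
  have w : fst' ≫ i = ((yon S).map (Over.homMk (I.comap α.left).subschemeι rfl :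
      Over.mk ((I.comap α.left).subschemeι ≫ U.hom) ⟶ U) ≫ p) ≫ f := by
    rw [Category.assoc, hpα]
    exact sq3.w
  refine ⟨U, p, I.comap α.left, hP.lift _ _ w, hpe, hps, ?_, ?_⟩
  · refine IsPullback.of_right ?_ (hP.lift_snd _ _ w) hP
    rw [hP.lift_fst, hpα]
    exact sq3
  · apply isEffCartierIdeal_comap_of_forall α.left I hI
    intro W hW b 𝔭 h𝔭 w' hw' hsupp
    haveI : IsAffine (opensOver (U := U) W).left := hW
    have hEe : RepWith @Etale ((yon S).map (opensOverι (U := U) W) ≫ p) :=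
      repWith_comp @Etale ((repWith_yon_map_iff @Etale _).2
        (show Etale (Scheme.Opens.ι W) from inferInstance)) hpe
    obtain ⟨x, hxdef⟩ : ∃ x : Points X,
        x = Points.ofPt ((yon S).map (opensOverι (U := U) W) ≫ p) w' := ⟨_, rfl⟩
    have hx : x ∈ WeakAssEt (unitModEt X) := by
      rw [hxdef]
      refine ⟨EtOver.mk _ hEe, inferInstanceAs (IsAffine (opensOver (U := U) W).left), w', rfl,
        upΓ _ b, ?_⟩
      have h1 := h𝔭
      rw [← hw'] at h1
      rw [annSect_unit_eq]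
      exact h1
    obtain ⟨z, hz⟩ : ∃ z : ↥(I.comap α.left).subscheme,
        (I.comap α.left).subschemeι z = (Scheme.Opens.ι W) w' := by
      have h1 : (Scheme.Opens.ι W) w' ∈ Set.range (I.comap α.left).subschemeι := by
        rw [Scheme.IdealSheafData.range_subschemeι]
        exact hsupp
      exact h1
    have E1 : Points.map i (Points.ofPt fst' z) =
        Points.ofPt ((yon S).map α ≫ φ) ((Scheme.Opens.ι W) w') := by
      rw [Points.map_ofPt, sq3.w, ofPt_yon_map_comp]
      exact congrArg _ hz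
    have E2 : Points.map f x = Points.ofPt ((yon S).map α ≫ φ) ((Scheme.Opens.ι W) w') := by
      rw [hxdef, Points.map_ofPt, Category.assoc, hpα, ofPt_yon_map_comp]
      rfl
    exact h x hx ⟨_, E1.trans E2.symm⟩

end Groth.Agent.Helper2.WeakAss
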