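import Mathlib
import Groth.Agent.Lib.Helper2.AlgSp.WhereFlat
import Groth.Agent.Lib.Helper2.AlgSt.PFacts4
import Groth.Agent.Lib.Helper2.Lqf.UnrMono

/-!
# Where a morphism over a base becomes an isomorphism (helper2)
-/

set_option autoImplicit false
set_option linter.style.haveILetI false

open CategoryTheory CategoryTheory.Limits AlgebraicGeometry Opposite AlgSp

universe u

namespace Groth.Agent.Helper2.WhereFlat

open Groth.Agent.Helper2.AlgSpBasic Groth.Agent.Helper2.FlatPt Groth.Agent.Helper2.FlatFibresSp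
open Groth.Agent.Helper2.AlgStLib Groth.Agent.Helper2.EtaleLocal

variable {S : Scheme.{u}}

/-- A flat, locally finitely presented, surjective monomorphism is an isomorphism. -/
theorem isIso_of_mono_flat_lfp_surj {X Y : Sp S} (hX : IsAlgSpace X) (hY : IsAlgSpace Y)
    (f : X ⟶ Y) [Mono f] (hfl : LocP @Flat f) (hfp : LocP @LocallyOfFinitePresentation f)
    (hs : IsSurjectiveMor f) : IsIso f := by
  have hlft : LocP @LocallyOfFiniteType f :=
    locP_mono (fun _ _ g (hg : LocallyOfFinitePresentation g) =>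
      (inferInstance : LocallyOfFiniteType g)) hfp
  have hunr := Groth.Agent.Helper2.Lqf.locP_unr_of_lft_formallyUnramified f hlft
    (Groth.Agent.Helper2.Lqf.isFormallyUnramifiedMor_of_mono f)
  have het : LocP @Etale f := fun U V a b k ha hb c => by
    rw [Etale.iff_flat_and_formallyUnramified]
    exact ⟨hfl a b k ha hb c, (hunr a b k ha hb c).2, hfp a b k ha hb c⟩
  exact (isIso_iff_mono_etale_surjective hX hY f).2 ⟨inferInstance, het, hs⟩

/-- The structure map of `X ×_Y X` to the base. -/
noncomputable def diagBase {X Y Z : Sp S} (f : X ⟶ Y) (q : Y ⟶ Z) : pullback f f ⟶ Z :=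
  pullback.fst f f ≫ f ≫ q

theorem diagonal_comp_diagBase {X Y Z : Sp S} (f : X ⟶ Y) (q : Y ⟶ Z) :
    pullback.diagonal f ≫ diagBase f q = f ≫ q := by
  unfold diagBase
  rw [← Category.assoc, pullback.diagonal_fst, Category.id_comp]

theorem locP_lfp_of_comp {X Y Z : Sp S} (hX : IsAlgSpace X) (hY : IsAlgSpace Y) (hZ : IsAlgSpace Z)
    (f : X ⟶ Y) (q : Y ⟶ Z) (hfp : LocP @LocallyOfFinitePresentation (f ≫ q))
    (hft : LocP @LocallyOfFiniteType q) : LocP @LocallyOfFinitePresentation f := by
  refine locP_of_comp' @LocallyOfFinitePresentation @LocallyOfFiniteType ?_ hX hY hZ f q hfp hft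
  intro A B C x y hxy hy
  haveI := hxy
  haveI := hy
  exact Groth.Agent.Lead.CritFib.locallyOfFinitePresentation_of_comp x y

theorem locP_lft_of_lfp {X Y : Sp S} {f : X ⟶ Y} (hfp : LocP @LocallyOfFinitePresentation f) :
    LocP @LocallyOfFiniteType f :=
  locP_mono (fun _ _ g (_ : LocallyOfFinitePresentation g) =>
    (inferInstance : LocallyOfFiniteType g)) hfp

theorem isAlgSpace_pullback_self {X Y : Sp S} (hX : IsAlgSpace X) (hY : IsAlgSpace Y) (f : X ⟶ Y) :
    IsAlgSpace (pullback f f) :=
  isAlgSpace_of_isPullback hY.diag hX hX f f _ _ (IsPullback.of_hasPullback f f)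

theorem locP_lft_diagBase {X Y Z : Sp S} (hX : IsAlgSpace X) (hY : IsAlgSpace Y) (hZ : IsAlgSpace Z)
    (f : X ⟶ Y) (q : Y ⟶ Z) (hfp : LocP @LocallyOfFinitePresentation (f ≫ q))
    (hft : LocP @LocallyOfFiniteType q) : LocP @LocallyOfFiniteType (diagBase f q) := by
  have hPP := isAlgSpace_pullback_self hX hY f
  have h1 : LocP @LocallyOfFiniteType f := locP_lft_of_lfp (locP_lfp_of_comp hX hY hZ f q hfp hft)
  have h2 : LocP @LocallyOfFiniteType (pullback.fst f f) :=
    locP_of_isPullback _ hX hY hX hPP f f _ _ (IsPullback.of_hasPullback f f).flip h1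
  exact locP_comp _ hPP hX hZ _ _ h2 (locP_lft_of_lfp hfp)

theorem isClosedMor_diagBase {X Y Z : Sp S} (hX : IsAlgSpace X) (hY : IsAlgSpace Y)
    (hZ : IsAlgSpace Z) (f : X ⟶ Y) (q : Y ⟶ Z) (hcl : IsUnivClosedMor (f ≫ q))
    (hsep : IsSeparatedMor q) : IsClosedMor (diagBase f q) := by
  have hPP := isAlgSpace_pullback_self hX hY f
  have hQQ := isAlgSpace_pullback_self hX hZ (f ≫ q)
  have h1 : IsUnivClosedMor (pullback.mapDesc f f q) :=
    isUnivClosedMor_of_repWith_isClosedImmersion _
      (repWith_mapDesc_of_repWith_diagonal @IsClosedImmersion f f q hsep)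
  have h2 : IsUnivClosedMor (pullback.fst (f ≫ q) (f ≫ q)) :=
    univSp_of_isPullback _ (IsPullback.of_hasPullback (f ≫ q) (f ≫ q)).flip hcl
  have h3 := isUnivClosedMor_comp hX hZ _ _ h2 hcl
  have h4 := isUnivClosedMor_comp hQQ hZ _ _ h1 h3
  have h5 : pullback.mapDesc f f q ≫ pullback.fst (f ≫ q) (f ≫ q) ≫ f ≫ q = diagBase f q := by
    unfold diagBase pullback.mapDesc
    rw [← Category.assoc, pullback.lift_fst, Category.comp_id]
  rw [h5] at h4
  exact isClosedMap_of_isUnivClosedMor hZ _ h4

/-- The open set of the base over which `f` becomes an isomorphism. -/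
noncomputable def isoBase {X Y Z : Sp S} (f : X ⟶ Y) (q : Y ⟶ Z) : Set (Points Z) :=
  surjFlatBase f q ∩ surjFlatBase (pullback.diagonal f) (diagBase f q)

theorem isOpen_isoBase {X Y Z : Sp S} (hX : IsAlgSpace X) (hY : IsAlgSpace Y)
    (hZ : IsAlgSpace Z) (f : X ⟶ Y) (q : Y ⟶ Z)
    (hfp : LocP @LocallyOfFinitePresentation (f ≫ q)) (hfl : LocP @Flat (f ≫ q))
    (hcl : IsUnivClosedMor (f ≫ q)) (hft : LocP @LocallyOfFiniteType q) (hqc : IsClosedMor q)
    (hsep : IsSeparatedMor q) :
    IsOpen (isoBase f q) := by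
  have hPP := isAlgSpace_pullback_self hX hY f
  have hcl' : IsClosedMor (f ≫ q) := isClosedMap_of_isUnivClosedMor hZ _ hcl
  refine (isOpen_surjFlatBase hX hY hZ f q hfp hfl hcl' hft hqc).inter ?_
  refine isOpen_surjFlatBase hX hPP hZ _ _ ?_ ?_ ?_ (locP_lft_diagBase hX hY hZ f q hfp hft)
    (isClosedMor_diagBase hX hY hZ f q hcl hsep)
  · rw [diagonal_comp_diagBase]; exact hfp
  · rw [diagonal_comp_diagBase]; exact hfl
  · rw [diagonal_comp_diagBase]; exact hcl'

theorem where_iso_main {X Y Z : Sp S} (hX : IsAlgSpace X) (hY : IsAlgSpace Y)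
    (hZ : IsAlgSpace Z) (f : X ⟶ Y) (q : Y ⟶ Z)
    (hfp : LocP @LocallyOfFinitePresentation (f ≫ q)) (hfl : LocP @Flat (f ≫ q))
    (hft : LocP @LocallyOfFiniteType q)
    {Z' : Sp S} (hZ' : IsAlgSpace Z') (g : Z' ⟶ Z) :
    (∀ z' : Points Z', Points.map g z' ∈ isoBase f q) ↔
      ∀ (Y' : Sp S) (gY : Y' ⟶ Y) (q' : Y' ⟶ Z'), IsAlgSpace Y' → IsPullback gY q' q g →
        ∀ (X' : Sp S) (gX : X' ⟶ X) (f' : X' ⟶ Y'), IsAlgSpace X' → IsPullback gX f' f gY →
          IsIso f' := by
  have hPP := isAlgSpace_pullback_self hX hY f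
  have hfp' : LocP @LocallyOfFinitePresentation (pullback.diagonal f ≫ diagBase f q) := by
    rw [diagonal_comp_diagBase]; exact hfp
  have hfl' : LocP @Flat (pullback.diagonal f ≫ diagBase f q) := by
    rw [diagonal_comp_diagBase]; exact hfl
  have hft' := locP_lft_diagBase hX hY hZ f q hfp hft
  have hA := where_surj_flat_main hX hY hZ f q hfp hfl hft hZ' g
  have hB := where_surj_flat_main hX hPP hZ (pullback.diagonal f) (diagBase f q) hfp' hfl' hft'
    hZ' g
  have hflp : LocP @LocallyOfFinitePresentation f := locP_lfp_of_comp hX hY hZ f q hfp hft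
  have hΔlp : LocP @LocallyOfFinitePresentation (pullback.diagonal f) :=
    locP_lfp_of_comp hX hPP hZ _ _ hfp' hft'
  constructor
  · intro hg Y' gY q' hY' sqY X' gX f' hX' sqX
    obtain ⟨hs, hflat⟩ := hA.mp (fun z' => (hg z').1) Y' gY q' hY' sqY X' gX f' hX' sqX
    have hlp' : LocP @LocallyOfFinitePresentation f' :=
      locP_of_isPullback _ hX hY hY' hX' f gY gX f' sqX hflp
    -- the base change of the diagonal
    have sqP := IsPullback.of_hasPullback (diagBase f q) g
    have hP' : IsAlgSpace (pullback (diagBase f q) g) :=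
      isAlgSpace_of_isPullback hZ.diag hPP hZ' _ _ _ _ sqP
    have sqD := IsPullback.of_hasPullback (pullback.diagonal f) (pullback.fst (diagBase f q) g)
    have hD' : IsAlgSpace (pullback (pullback.diagonal f) (pullback.fst (diagBase f q) g)) :=
      isAlgSpace_of_isPullback hPP.diag hX hP' _ _ _ _ sqD
    obtain ⟨hδs, hδf⟩ := hB.mp (fun z' => (hg z').2) _ _ _ hP' sqP _ _ _ hD' sqD
    have hδlp : LocP @LocallyOfFinitePresentation
        (pullback.snd (pullback.diagonal f) (pullback.fst (diagBase f q) g)) :=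
      locP_of_isPullback _ hX hPP hP' hD' _ _ _ _ sqD hΔlp
    haveI : Mono (pullback.snd (pullback.diagonal f) (pullback.fst (diagBase f q) g)) :=
      inferInstance
    haveI hδiso : IsIso (pullback.snd (pullback.diagonal f) (pullback.fst (diagBase f q) g)) :=
      isIso_of_mono_flat_lfp_surj hD' hP' _ hδf hδlp hδs
    haveI : Mono f' := by
      constructor
      intro T a₁ a₂ h12
      have hα : (a₁ ≫ gX) ≫ f = (a₂ ≫ gX) ≫ f := by
        rw [Category.assoc, sqX.w, ← Category.assoc, h12, Category.assoc, ← sqX.w, Category.assoc]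
      have hβ : pullback.lift (a₁ ≫ gX) (a₂ ≫ gX) hα ≫ diagBase f q = (a₁ ≫ f' ≫ q') ≫ g := by
        unfold diagBase
        rw [← Category.assoc, pullback.lift_fst, Category.assoc, Category.assoc, Category.assoc,
          ← sqY.w, ← Category.assoc gX, sqX.w, Category.assoc]
      obtain ⟨γ, hγ⟩ : ∃ γ, γ = pullback.lift (pullback.lift (a₁ ≫ gX) (a₂ ≫ gX) hα)
        (a₁ ≫ f' ≫ q') hβ := ⟨_, rfl⟩
      have hγ1 : γ ≫ pullback.fst (diagBase f q) g = pullback.lift (a₁ ≫ gX) (a₂ ≫ gX) hα := by
        rw [hγ, pullback.lift_fst]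
      have hfac : pullback.lift (a₁ ≫ gX) (a₂ ≫ gX) hα =
          (γ ≫ inv (pullback.snd (pullback.diagonal f) (pullback.fst (diagBase f q) g)) ≫
            pullback.fst (pullback.diagonal f) (pullback.fst (diagBase f q) g)) ≫
            pullback.diagonal f := by
        rw [Category.assoc, Category.assoc, sqD.w, IsIso.inv_hom_id_assoc, hγ1]
      have e1 : a₁ ≫ gX = γ ≫ inv (pullback.snd (pullback.diagonal f)
          (pullback.fst (diagBase f q) g)) ≫
            pullback.fst (pullback.diagonal f) (pullback.fst (diagBase f q) g) := by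
        have := congrArg (· ≫ pullback.fst f f) hfac
        simp only [pullback.lift_fst, Category.assoc, pullback.diagonal_fst,
          Category.comp_id] at this
        exact this
      have e2 : a₂ ≫ gX = γ ≫ inv (pullback.snd (pullback.diagonal f)
          (pullback.fst (diagBase f q) g)) ≫
            pullback.fst (pullback.diagonal f) (pullback.fst (diagBase f q) g) := by
        have := congrArg (· ≫ pullback.snd f f) hfac
        simp only [pullback.lift_snd, Category.assoc, pullback.diagonal_snd,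
          Category.comp_id] at this
        exact this
      exact sqX.hom_ext (e1.trans e2.symm) h12
    exact isIso_of_mono_flat_lfp_surj hX' hY' f' hflat hlp' hs
  · intro h z'
    refine ⟨hA.mpr (fun Y' gY q' hY' sqY X' gX f' hX' sqX => ?_) z',
      hB.mpr (fun P' gP r' hP' sqP X'' gX'' δ' hX'' sqX'' => ?_) z'⟩
    · haveI := h Y' gY q' hY' sqY X' gX f' hX' sqX
      exact ⟨isSurjectiveMor_of_isIso f', locP_of_isIso @Flat hY'.diag f'⟩
    · -- the standard base change of `f`
      have sqY := IsPullback.of_hasPullback q g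
      have hY' : IsAlgSpace (pullback q g) :=
        isAlgSpace_of_isPullback hZ.diag hY hZ' q g _ _ sqY
      have sqX := IsPullback.of_hasPullback f (pullback.fst q g)
      have hX' : IsAlgSpace (pullback f (pullback.fst q g)) :=
        isAlgSpace_of_isPullback hY.diag hX hY' f (pullback.fst q g) _ _ sqX
      haveI hiso := h _ _ _ hY' sqY _ _ _ hX' sqX
      have hb : (gP ≫ pullback.fst f f ≫ f) ≫ q = r' ≫ g := by
        rw [← sqP.w]; unfold diagBase; simp only [Category.assoc]
      obtain ⟨y, hy⟩ : ∃ y, y = pullback.lift (gP ≫ pullback.fst f f ≫ f) r' hb := ⟨_, rfl⟩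
      have hy1 : y ≫ pullback.fst q g = gP ≫ pullback.fst f f ≫ f := by
        rw [hy, pullback.lift_fst]
      have hc1 : (gP ≫ pullback.fst f f) ≫ f = y ≫ pullback.fst q g := by
        rw [hy1, Category.assoc]
      have hc2 : (gP ≫ pullback.snd f f) ≫ f = y ≫ pullback.fst q g := by
        rw [hy1, Category.assoc, pullback.condition]
      have hx12 : pullback.lift (gP ≫ pullback.fst f f) y hc1 =
          pullback.lift (gP ≫ pullback.snd f f) y hc2 := by
        rw [← cancel_mono (pullback.snd f (pullback.fst q g)), pullback.lift_snd,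
          pullback.lift_snd]
      have ha12 : gP ≫ pullback.fst f f = gP ≫ pullback.snd f f := by
        have := congrArg (· ≫ pullback.fst f (pullback.fst q g)) hx12
        simp only [pullback.lift_fst] at this
        exact this
      have hgP : (gP ≫ pullback.fst f f) ≫ pullback.diagonal f = 𝟙 P' ≫ gP := by
        apply pullback.hom_ext
        · rw [Category.assoc, pullback.diagonal_fst, Category.comp_id, Category.id_comp]
        · rw [Category.assoc, pullback.diagonal_snd, Category.comp_id, Category.id_comp, ha12]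
      haveI : Mono δ' := sqX''.mono_snd_of_mono
      haveI : IsSplitEpi δ' := ⟨⟨sqX''.lift _ _ hgP, sqX''.lift_snd _ _ _⟩⟩
      haveI : IsIso δ' := isIso_of_mono_of_isSplitEpi δ'
      exact ⟨isSurjectiveMor_of_isIso δ', locP_of_isIso @Flat hP'.diag δ'⟩

end Groth.Agent.Helper2.WhereFlat
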