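import Mathlib
import Groth.Prelude.Def_AlgSpRep
import Groth.Agent.Lib.Helper2.AlgSp.BootPsh
import Groth.Agent.Lib.Helper2.AlgSp.FormalUnr
import Groth.Agent.Lib.Helper2.AlgSp.Coprod

/-!
# A Zariski sheaf covered fppf locally by fppf subsheaves with representable inclusions is an
fppf sheaf (helper2)
-/

set_option autoImplicit false
open CategoryTheory CategoryTheory.Limits AlgebraicGeometry Opposite AlgSp
open Groth.Agent.Helper2.AlgSpBasic Groth.Agent.Helper2.AlgSpFormal

namespace Groth.Agent.Helper2.ZarFppf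
universe u v w

section Generic
variable {C : Type*} [Category C] {P : Cᵒᵖ ⥤ Type w}

theorem ext_of_ofArrows {T : C} {κ : Type*} (W : κ → C) (p : ∀ k, W k ⟶ T)
    (hsep : Presieve.IsSeparatedFor P (Sieve.ofArrows W p).arrows) (s s' : P.obj (op T))
    (h : ∀ k, P.map (p k).op s = P.map (p k).op s') : s = s' := by
  apply hsep.ext
  intro V f hf
  obtain ⟨k, a, rfl⟩ := (Sieve.mem_ofArrows_iff W p f).mp hf
  rw [op_comp, P.map_comp]
  change P.map a.op (P.map (p k).op s) = P.map a.op (P.map (p k).op s')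
  rw [h k]

theorem exists_glue_ofArrows {T : C} {κ : Type*} (W : κ → C) (p : ∀ k, W k ⟶ T)
    (hsh : Presieve.IsSheafFor P (Sieve.ofArrows W p).arrows) (x : ∀ k, P.obj (op (W k)))
    (hx : Presieve.Arrows.Compatible P p x) : ∃ t : P.obj (op T), ∀ k, P.map (p k).op t = x k := by
  have h1 : Presieve.IsSheafFor P (Presieve.ofArrows W p) :=
    (Presieve.isSheafFor_iff_generate _).mpr hsh
  obtain ⟨t, ht, -⟩ := (Presieve.isSheafFor_arrows_iff (P := P) (π := p)).mp h1 x hx
  exact ⟨t, ht⟩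

end Generic

variable {S : Scheme.{u}}

theorem map_comp_apply (F : PSp S) {A B C : Over S} (f : A ⟶ B) (g : B ⟶ C) (x : F.obj (op C)) :
    F.map (f ≫ g).op x = F.map f.op (F.map g.op x) := by
  rw [op_comp, F.map_comp]
  rfl

theorem injective_app_of_mono {F G : PSp S} (m : F ⟶ G) [Mono m] (T : (Over S)ᵒᵖ) :
    Function.Injective (m.app T) := by
  haveI : Mono (m.app T) := inferInstance
  exact (mono_iff_injective (m.app T)).mp inferInstance

theorem range_stable {F G : PSp S} (m : F ⟶ G) {A B : Over S} (f : A ⟶ B) (x : G.obj (op B))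
    (hx : x ∈ Set.range (m.app (op B))) : G.map f.op x ∈ Set.range (m.app (op A)) := by
  obtain ⟨y, rfl⟩ := hx
  exact ⟨F.map f.op y, NatTrans.naturality_apply m f.op y⟩

/-- Key lemma: a section of `F` lying fppf locally in the subsheaf `Fi` lies in `Fi`, when the
inclusion is representable by algebraic spaces. -/
theorem mem_range_of_cover {F Fi : PSp S} (m : Fi ⟶ F) [Mono m] (hb : RepBySp m)
    {W : Over S} (x : F.obj (op W)) (R : Sieve W) (hR : R ∈ J S W)
    (h : ∀ ⦃V : Over S⦄ (f : V ⟶ W), R.arrows f → F.map f.op x ∈ Set.range (m.app (op V))) :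
    x ∈ Set.range (m.app (op W)) := by
  let ξ : (pyon S).obj W ⟶ F := uliftYonedaEquiv.symm x
  have hξ : ∀ {V : Over S} (f : V ⟶ W), ξ.app (op V) ⟨f⟩ = F.map f.op x := fun f => rfl
  have sq := IsPullback.of_hasPullback m ξ
  obtain ⟨hP, -⟩ := hb ξ _ _ sq
  rw [isSheaf_iff_isSheaf_of_type] at hP
  have hsub : Presieve.IsSheaf (J S) ((pyon S).obj W) :=
    (isSheaf_iff_isSheaf_of_type _ _).mp ((yon S).obj W).property
  choose y hy using h
  have hz : ∀ ⦃V : Over S⦄ (f : V ⟶ W) (hf : R.arrows f),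
      ∃ z : (pullback m ξ).obj (op V), (pullback.fst m ξ).app (op V) z = y f hf ∧
        (pullback.snd m ξ).app (op V) z = ⟨f⟩ := fun V f hf =>
    psh_exists_of_isPullback sq (op V) (y f hf) ⟨f⟩ (by rw [hy f hf, hξ])
  choose z hz1 hz2 using hz
  let zf : Presieve.FamilyOfElements (pullback m ξ) R.arrows := fun ⦃V⦄ f hf => z f hf
  have hzc : zf.Compatible := by
    intro V₁ V₂ Z g₁ g₂ f₁ f₂ h₁ h₂ hcomm
    apply psh_ext_of_isPullback sq
    · have n1 := NatTrans.naturality_apply (pullback.fst m ξ) g₁.op (z f₁ h₁)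
      have n2 := NatTrans.naturality_apply (pullback.fst m ξ) g₂.op (z f₂ h₂)
      rw [n1, n2, hz1, hz1]
      apply injective_app_of_mono m
      rw [NatTrans.naturality_apply, NatTrans.naturality_apply, hy, hy,
        ← map_comp_apply, ← map_comp_apply, hcomm]
    · have n1 := NatTrans.naturality_apply (pullback.snd m ξ) g₁.op (z f₁ h₁)
      have n2 := NatTrans.naturality_apply (pullback.snd m ξ) g₂.op (z f₂ h₂)
      rw [n1, n2, hz2, hz2]
      change (⟨g₁ ≫ f₁⟩ : ULift _) = ⟨g₂ ≫ f₂⟩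
      rw [hcomm]
  obtain ⟨z0, hz0, -⟩ := hP R hR zf hzc
  have hsnd : (pullback.snd m ξ).app (op W) z0 = ⟨𝟙 W⟩ := by
    apply (hsub R hR).isSeparatedFor.ext
    intro V f hf
    have n1 := NatTrans.naturality_apply (pullback.snd m ξ) f.op z0
    rw [← n1, hz0 f hf]
    change (pullback.snd m ξ).app (op V) (z f hf) = _
    rw [hz2]
    change (⟨f⟩ : ULift _) = ⟨f ≫ 𝟙 W⟩
    rw [Category.comp_id]
  refine ⟨(pullback.fst m ξ).app (op W) z0, ?_⟩
  have hw : m.app (op W) ((pullback.fst m ξ).app (op W) z0) =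
      ξ.app (op W) ((pullback.snd m ξ).app (op W) z0) := by
    have := congrArg (fun t => t.app (op W) z0) sq.w
    simpa using this
  rw [hw, hsnd, hξ]
  simp

theorem ofArrows_mem_Jzar {T : Over S} {κ : Type*} (W : κ → Over S) (p : ∀ k, W k ⟶ T)
    (hp : ∀ k, IsOpenImmersion (p k).left)
    (hs : ∀ x : T.left, ∃ k, x ∈ Set.range (p k).left) :
    Sieve.ofArrows W p ∈ QuotSh.J Scheme.zariskiPrecoverage S T := by
  rw [GrothendieckTopology.mem_over_iff, Sieve.overEquiv_ofArrows]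
  exact Precoverage.generate_mem_toGrothendieck
    ((Scheme.ofArrows_mem_precoverage_iff _).2 ⟨hs, hp⟩)

/-- The open image of a flat morphism locally of finite presentation. -/
theorem exists_open_image {T W' : Over S} (p : W' ⟶ T)
    (hp : (@Flat ⊓ @LocallyOfFinitePresentation : MorphismProperty Scheme.{u}) p.left) :
    ∃ (W : Over S) (ι : W ⟶ T) (q : W' ⟶ W), q ≫ ι = p ∧ IsOpenImmersion ι.left ∧
      (@Flat ⊓ @LocallyOfFinitePresentation : MorphismProperty Scheme.{u}) q.left ∧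
      Function.Surjective q.left ∧ Set.range ι.left = Set.range p.left := by
  haveI : Flat p.left := hp.1
  haveI : LocallyOfFinitePresentation p.left := hp.2
  let O : T.left.Opens := ⟨Set.range p.left, p.left.isOpenMap.isOpen_range⟩
  have hO : IsOpenImmersion O.ι := inferInstance
  have hsub : Set.range p.left ⊆ Set.range O.ι := by simp [O]
  let f' := IsOpenImmersion.lift O.ι p.left hsub
  have heq : f' ≫ O.ι = p.left := IsOpenImmersion.lift_fac _ _ _
  have hflat : Flat f' :=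
    MorphismProperty.of_postcomp (W := @Flat) f' O.ι hO (by rw [heq]; infer_instance)
  have hfp : LocallyOfFinitePresentation f' :=
    MorphismProperty.of_postcomp (W := @LocallyOfFinitePresentation) f' O.ι hO
      (by rw [heq]; infer_instance)
  have hw : f' ≫ (O.ι ≫ T.hom) = W'.hom := by
    rw [← Category.assoc, heq]; exact Over.w p
  refine ⟨Over.mk (O.ι ≫ T.hom), Over.homMk O.ι rfl, Over.homMk f' hw, ?_, hO, ⟨hflat, hfp⟩,
    ?_, ?_⟩
  · ext
    exact heq
  · rintro ⟨x, ⟨y, hy⟩⟩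
    refine ⟨y, ?_⟩
    apply O.ι.injective
    change (f' ≫ O.ι) y = _
    rw [heq]
    exact hy
  · change Set.range O.ι = Set.range p.left
    simp [O]

theorem family_restrict {F : PSp S} {T : Over S} {R : Sieve T}
    {x : Presieve.FamilyOfElements F R.arrows} (hx : x.Compatible) {V Z : Over S} (f : V ⟶ T)
    (hf : R.arrows f) (g : Z ⟶ V) (h : Z ⟶ T) (hh : R.arrows h) (e : g ≫ f = h) :
    x h hh = F.map g.op (x f hf) := by
  have := hx g (𝟙 Z) hf hh (by rw [Category.id_comp, e])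
  rw [this, op_id, F.map_id]
  rfl

section Main
variable (F : PSp S) {ι : Type v} (Fi : ι → PSp S)
  (m : ∀ i, Fi i ⟶ F) [∀ i, Mono (m i)]

/-- Restriction to the open image. -/
theorem restrict_mem_range (hb : ∀ i, RepBySp (m i)) {T W' W : Over S} (p : W' ⟶ T) (j : W ⟶ T)
    (q : W' ⟶ W) (hqj : q ≫ j = p)
    (hq : (@Flat ⊓ @LocallyOfFinitePresentation : MorphismProperty Scheme.{u}) q.left)
    (hqs : Function.Surjective q.left) (x : F.obj (op T)) (i : ι)
    (hx : F.map p.op x ∈ Set.range ((m i).app (op W'))) :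
    F.map j.op x ∈ Set.range ((m i).app (op W)) := by
  refine mem_range_of_cover (m i) (hb i) (F.map j.op x)
    (Sieve.ofArrows (fun _ : PUnit.{1} => W') (fun _ => q))
    (ofArrows_mem_J _ _ (fun _ => hq) (fun y => ⟨⟨⟩, hqs y⟩)) ?_
  intro V f hf
  obtain ⟨_, a, rfl⟩ := (Sieve.mem_ofArrows_iff _ _ f).mp hf
  rw [← map_comp_apply, Category.assoc, hqj, map_comp_apply]
  exact range_stable (m i) a _ hx

variable (h1 : Presheaf.IsSheaf (QuotSh.J Scheme.zariskiPrecoverage S) F)
  (ha : ∀ i, Presheaf.IsSheaf (J S) (Fi i)) (hb : ∀ i, RepBySp (m i))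
  (hc : ∀ (T : Over S) (x : F.obj (op T)), ∃ R ∈ (J S) T,
      ∀ ⦃T' : Over S⦄ (f : T' ⟶ T), R.arrows f →
        ∃ i, F.map f.op x ∈ Set.range ((m i).app (op T')))

include h1 ha hb hc

theorem separated {T : Over S} (R : Sieve T) (hR : R ∈ J S T) (s s' : F.obj (op T))
    (hss' : ∀ ⦃V : Over S⦄ (f : V ⟶ T), R.arrows f → F.map f.op s = F.map f.op s') : s = s' := by
  rw [isSheaf_iff_isSheaf_of_type] at h1
  obtain ⟨R₁, hR₁, hloc⟩ := hc T s
  obtain ⟨κ, W', p, hp, hsurj, hpR⟩ := Groth.Agent.Helper2.Coprod.exists_family_of_mem_J (R ⊓ R₁)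
    ((J S).intersection_covering hR hR₁)
  choose W j q hqj hj hq hqs hrange using fun k => exists_open_image (p k) (hp k)
  choose i hi using fun k => hloc (p k) (hpR k).2
  have hzar : Sieve.ofArrows W j ∈ QuotSh.J Scheme.zariskiPrecoverage S T :=
    ofArrows_mem_Jzar W j hj (fun x => by
      obtain ⟨k, hk⟩ := hsurj x
      exact ⟨k, by rw [hrange k]; exact hk⟩)
  refine ext_of_ofArrows W j (h1 _ hzar).isSeparatedFor s s' fun k => ?_
  obtain ⟨y, hy⟩ := restrict_mem_range F Fi m hb (p k) (j k) (q k) (hqj k) (hq k) (hqs k) s (i k)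
    (hi k)
  obtain ⟨y', hy'⟩ := restrict_mem_range F Fi m hb (p k) (j k) (q k) (hqj k) (hq k) (hqs k) s'
    (i k) (by rw [← hss' (p k) (hpR k).1]; exact hi k)
  have hFi := (isSheaf_iff_isSheaf_of_type _ _).mp (ha (i k))
  have hmem : Sieve.ofArrows (fun _ : PUnit.{1} => W' k) (fun _ => q k) ∈ J S (W k) :=
    ofArrows_mem_J _ _ (fun _ => hq k) (fun z => ⟨⟨⟩, hqs k z⟩)
  have hyy' : y = y' := by
    refine ext_of_ofArrows _ _ (hFi _ hmem).isSeparatedFor y y' fun _ => ?_
    apply injective_app_of_mono (m (i k))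
    rw [NatTrans.naturality_apply, NatTrans.naturality_apply, hy, hy', ← map_comp_apply,
      ← map_comp_apply, hqj k]
    exact hss' (p k) (hpR k).1
  rw [← hy, ← hy', hyy']

theorem exists_amalgamation {T : Over S} (R : Sieve T) (hR : R ∈ J S T)
    (x : Presieve.FamilyOfElements F R.arrows) (hx : x.Compatible) :
    ∃ t, x.IsAmalgamation t := by
  have hsepF := @separated S F ι Fi m _ h1 ha hb hc
  rw [isSheaf_iff_isSheaf_of_type] at h1
  -- refine the sieve
  let R₁ : ∀ ⦃V : Over S⦄ ⦃f : V ⟶ T⦄, R.arrows f → Sieve V :=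
    fun V f hf => (hc V (x f hf)).choose
  have hR₁ : ∀ ⦃V : Over S⦄ ⦃f : V ⟶ T⦄ (hf : R.arrows f), R₁ hf ∈ J S V :=
    fun V f hf => (hc V (x f hf)).choose_spec.1
  have hR₁loc : ∀ ⦃V : Over S⦄ ⦃f : V ⟶ T⦄ (hf : R.arrows f) ⦃T' : Over S⦄ (g : T' ⟶ V),
      (R₁ hf).arrows g → ∃ i, F.map g.op (x f hf) ∈ Set.range ((m i).app (op T')) :=
    fun V f hf => (hc V (x f hf)).choose_spec.2
  have hbind : Sieve.bind R.arrows R₁ ∈ J S T := (J S).bind_covering hR hR₁
  obtain ⟨κ, W', p, hp, hsurj, hpR'⟩ :=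
    Groth.Agent.Helper2.Coprod.exists_family_of_mem_J _ hbind
  have hpR : ∀ k, R.arrows (p k) := by
    intro k
    obtain ⟨Y, g, f, hf, _, hgf⟩ := hpR' k
    rw [← hgf]
    exact R.downward_closed hf g
  have hloc : ∀ k, ∃ i, x (p k) (hpR k) ∈ Set.range ((m i).app (op (W' k))) := by
    intro k
    obtain ⟨Y, g, f, hf, hg, hgf⟩ := hpR' k
    obtain ⟨i, hi⟩ := hR₁loc hf g hg
    refine ⟨i, ?_⟩
    rw [family_restrict hx f hf g (p k) (hpR k) hgf]
    exact hi
  choose W j q hqj hj hq hqs hrange using fun k => exists_open_image (p k) (hp k)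
  choose i hi using hloc
  choose y hy using hi
  have hzar : Sieve.ofArrows W j ∈ QuotSh.J Scheme.zariskiPrecoverage S T :=
    ofArrows_mem_Jzar W j hj (fun x => by
      obtain ⟨k, hk⟩ := hsurj x
      exact ⟨k, by rw [hrange k]; exact hk⟩)
  have hmem : ∀ k, Sieve.ofArrows (fun _ : PUnit.{1} => W' k) (fun _ => q k) ∈ J S (W k) :=
    fun k => ofArrows_mem_J _ _ (fun _ => hq k) (fun z => ⟨⟨⟩, hqs k z⟩)
  -- descend `y k` along `q k`
  have hz : ∀ k, ∃ z : (Fi (i k)).obj (op (W k)), (Fi (i k)).map (q k).op z = y k := by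
    intro k
    have hFi := (isSheaf_iff_isSheaf_of_type _ _).mp (ha (i k))
    obtain ⟨z, hz⟩ := exists_glue_ofArrows (fun _ : PUnit.{1} => W' k) (fun _ => q k)
      (hFi _ (hmem k)) (fun _ => y k) (by
        intro _ _ Z g₁ g₂ hg
        apply injective_app_of_mono (m (i k))
        rw [NatTrans.naturality_apply, NatTrans.naturality_apply, hy]
        refine hx g₁ g₂ (hpR k) (hpR k) ?_
        rw [← hqj k, ← Category.assoc, ← Category.assoc, hg])
    exact ⟨z, hz ⟨⟩⟩
  choose z hz using hz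
  have hw : ∀ k, F.map (q k).op ((m (i k)).app (op (W k)) (z k)) = x (p k) (hpR k) := by
    intro k
    rw [← NatTrans.naturality_apply, hz, hy]
  -- glue the `w k` in the Zariski topology
  have hcompat : Presieve.Arrows.Compatible F j (fun k => (m (i k)).app (op (W k)) (z k)) := by
    intro k l Z gk gl hgkl
    have hN : Sieve.pullback gk (Sieve.ofArrows (fun _ : PUnit.{1} => W' k) (fun _ => q k)) ⊓
        Sieve.pullback gl (Sieve.ofArrows (fun _ : PUnit.{1} => W' l) (fun _ => q l)) ∈ J S Z :=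
      (J S).intersection_covering ((J S).pullback_stable gk (hmem k))
        ((J S).pullback_stable gl (hmem l))
    refine hsepF _ hN _ _ ?_
    rintro V c ⟨hck, hcl⟩
    obtain ⟨_, a, hca⟩ := (Sieve.mem_ofArrows_iff _ _ _).mp hck
    obtain ⟨_, b, hcb⟩ := (Sieve.mem_ofArrows_iff _ _ _).mp hcl
    rw [← map_comp_apply, ← map_comp_apply, hca, hcb, map_comp_apply, map_comp_apply, hw, hw]
    refine hx a b (hpR k) (hpR l) ?_
    rw [← hqj k, ← hqj l, ← Category.assoc, ← Category.assoc, ← hca, ← hcb, Category.assoc,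
      Category.assoc, hgkl]
  obtain ⟨t, ht⟩ := exists_glue_ofArrows W j (h1 _ hzar) _ hcompat
  refine ⟨t, ?_⟩
  intro V f hf
  have hN : Sieve.pullback f (Sieve.ofArrows W' p) ∈ J S V :=
    (J S).pullback_stable f (ofArrows_mem_J W' p hp hsurj)
  refine hsepF _ hN _ _ ?_
  intro Z c hc'
  obtain ⟨k, a, hca⟩ := (Sieve.mem_ofArrows_iff _ _ _).mp hc'
  rw [← map_comp_apply, hca, ← hqj k, ← Category.assoc, map_comp_apply, ht k, map_comp_apply, hw]
  exact (hx c a hf (hpR k) hca).symm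

theorem isSheaf : Presheaf.IsSheaf (J S) F := by
  have hsepF := @separated S F ι Fi m _ h1 ha hb hc
  have hex := @exists_amalgamation S F ι Fi m _ h1 ha hb hc
  rw [isSheaf_iff_isSheaf_of_type]
  intro T R hR
  rw [← Presieve.isSeparatedFor_and_exists_isAmalgamation_iff_isSheafFor]
  refine ⟨?_, fun x hx => hex R hR x hx⟩
  intro x t₁ t₂ ht₁ ht₂
  refine hsepF R hR t₁ t₂ fun V f hf => ?_
  rw [ht₁ f hf, ht₂ f hf]

end Main

end Groth.Agent.Helper2.ZarFppf
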