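import Mathlib
import Groth.Prelude.Def_AlgSpCov
import Groth.Agent.Lib.Helper2.AlgSp.CodimZeroQs
import Groth.Agent.Lib.Helper2.AlgSp.QsDecentB
import Groth.Agent.Lib.Helper2.AlgSp.FibreSpecB
import Groth.Agent.Lib.Helper2.AlgSp.DecentClosed

/-!
# Zariski locally quasi-separated algebraic spaces: sobriety and the schematic locus (helper2)
-/

set_option autoImplicit false
set_option linter.style.haveILetI false

open CategoryTheory CategoryTheory.Limits AlgebraicGeometry Opposite AlgSp

universe u

namespace Groth.Agent.Helper2.ZarLocQsSch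

open Groth.Agent.Helper2.AlgSpBasic Groth.Agent.Helper2.LargestSch
open Groth.Agent.Helper2.DecentOpen Groth.Agent.Helper2.QfCodimZero

variable {S : Scheme.{u}}

/-- The schematic locus of an open subspace maps into the schematic locus. -/
theorem map_mem_schLocus_of_isOpenImmersion {X X' : Sp S} (hX : IsAlgSpace X)
    (hX' : IsAlgSpace X') (j : X' ⟶ X) (hj : RepWith @IsOpenImmersion j) (x' : Points X')
    (hx' : x' ∈ schLocus X') : Points.map j x' ∈ schLocus X := by
  obtain ⟨V'', hV'', hxV, W, ⟨e⟩⟩ := hx'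
  have hX'' := isAlgSpace_openSub hX' hV''
  have hj' : RepWith @IsOpenImmersion (openSubι X' V'' ≫ j) :=
    repWith_comp @IsOpenImmersion (repWith_isOpenImmersion_openSubι _ hV'') hj
  obtain ⟨p, hp⟩ : x' ∈ Set.range (Points.map (openSubι X' V'')) := by
    rw [range_points_map_openSubι]; exact hxV
  have := points_map_mem_schLocus hX hX'' _ hj' e p
  rw [Points.map_comp, hp] at this
  exact this

/-- Codimension zero is detected on an étale neighbourhood. -/
theorem hasAt_dimZ_of_map {X X' : Sp S} (hX : IsAlgSpace X) (hX' : IsAlgSpace X') (j : X' ⟶ X)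
    (hj : RepWith @Etale j) (x' : Points X') (hx : HasAt DimZ X (Points.map j x')) :
    HasAt DimZ X' x' := by
  obtain ⟨U, a, hae, has⟩ := hX'.atlas
  obtain ⟨u, rfl⟩ := surjective_ofPt a has x'
  rw [Points.map_ofPt] at hx
  have hu := (hasAt_dimZ_iff hX (a ≫ j) (repWith_comp @Etale hae hj) u).mp hx
  exact (hasAt_dimZ_iff hX' a hae u).mpr hu

theorem isOpenEmbedding_points_map {X X' : Sp S} (hX : IsAlgSpace X) (hX' : IsAlgSpace X')
    (j : X' ⟶ X) (hj : RepWith @IsOpenImmersion j) :
    Topology.IsOpenEmbedding (Points.map j) := by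
  haveI := mono_of_repWith_isOpenImmersion j hj
  exact Topology.IsOpenEmbedding.of_continuous_injective_isOpenMap
    (Points.continuous_map _) (injective_points_map_of_mono _)
    (isOpenMap_points_of_repWith_isOpenImmersion hX' hX j hj)

/-- S10200 core. -/
theorem dense_schLocus (X : Space S) {ι : Type u} (Xi : ι → Space S) (j : ∀ i, Xi i ⟶ X)
    (hcov : IsZarCover (fun i => (Xi i).obj) (fun i => (j i).hom))
    (hqs : ∀ i, IsQuasiSeparatedSp (Xi i).obj) :
    Dense (schLocus X.obj) ∧ ∀ x : Points X.obj, HasAt DimZ X.obj x → x ∈ schLocus X.obj := by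
  obtain ⟨hoi, hsurj⟩ := hcov
  constructor
  · rw [dense_iff_inter_open]
    intro O hO ⟨x, hxO⟩
    obtain ⟨i, xi, rfl⟩ := hsurj x
    have hd : IsDecent (Xi i).obj :=
      Groth.Agent.Helper2.QsDecentB.isDecent_of_isQuasiSeparatedSp (Xi i).property (hqs i)
    obtain ⟨y, hyO, hys⟩ := inter_schLocus_nonempty_of_decent (Xi i) hd
      (Points.map (j i).hom ⁻¹' O) (hO.preimage (Points.continuous_map _)) ⟨xi, hxO⟩
    exact ⟨Points.map (j i).hom y, hyO,
      map_mem_schLocus_of_isOpenImmersion X.property (Xi i).property (j i).hom (hoi i) y hys⟩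
  · intro x hx
    obtain ⟨i, xi, rfl⟩ := hsurj x
    have hxi : HasAt DimZ (Xi i).obj xi :=
      hasAt_dimZ_of_map X.property (Xi i).property (j i).hom
        (repWith_isOpenImmersion_le_etale (hoi i)) xi hx
    exact map_mem_schLocus_of_isOpenImmersion X.property (Xi i).property (j i).hom (hoi i) xi
      (Groth.Agent.Helper2.CodimZeroQs.mem_schLocus_of_isQuasiSeparatedSp (Xi i) (hqs i) xi hxi)

/-- S10199 core. -/
theorem sober (X : Space S) {ι : Type u} (Xi : ι → Space S) (j : ∀ i, Xi i ⟶ X)
    (hcov : IsZarCover (fun i => (Xi i).obj) (fun i => (j i).hom))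
    (hqs : ∀ i, IsQuasiSeparatedSp (Xi i).obj) :
    QuasiSober (Points X.obj) ∧ T0Space (Points X.obj) := by
  obtain ⟨hoi, hsurj⟩ := hcov
  have hd : ∀ i, IsDecent (Xi i).obj := fun i =>
    Groth.Agent.Helper2.QsDecentB.isDecent_of_isQuasiSeparatedSp (Xi i).property (hqs i)
  have hemb : ∀ i, Topology.IsOpenEmbedding (Points.map (j i).hom) := fun i =>
    isOpenEmbedding_points_map X.property (Xi i).property (j i).hom (hoi i)
  constructor
  · haveI hS' : ∀ s : (Set.range fun i => Set.range (Points.map (j i).hom)), QuasiSober s := by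
      rintro ⟨_, i, rfl⟩
      haveI : QuasiSober (Points (Xi i).obj) := quasiSober_of_decent (Xi i) (hd i)
      exact ((hemb i).isEmbedding.toHomeomorph).symm.isOpenEmbedding.quasiSober
    refine quasiSober_of_open_cover (Set.range fun i => Set.range (Points.map (j i).hom)) ?_ ?_
    · rintro ⟨_, i, rfl⟩
      exact (hemb i).isOpen_range
    · rw [Set.top_eq_univ, Set.eq_univ_iff_forall]
      intro x
      obtain ⟨i, hi⟩ := hsurj x
      exact ⟨_, ⟨i, rfl⟩, hi⟩
  · rw [t0Space_iff_inseparable]
    intro x y hxy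
    obtain ⟨i, xi, rfl⟩ := hsurj x
    have hy : y ∈ Set.range (Points.map (j i).hom) :=
      (hxy.mem_open_iff (hemb i).isOpen_range).mp ⟨xi, rfl⟩
    obtain ⟨yi, rfl⟩ := hy
    haveI : T0Space (Points (Xi i).obj) :=
      Groth.Agent.Helper2.FibreSpecB.t0Space_of_isDecent (Xi i).property (hd i)
    have h2 : Inseparable xi yi := (hemb i).isInducing.inseparable_iff.mp hxy
    rw [h2.eq]

end Groth.Agent.Helper2.ZarLocQsSch
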