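import Mathlib
import Groth.Agent.Lib.Helper2.AlgSp.CodimZeroQs
import Groth.Agent.Lib.Helper8.ZeroDimSch3
import Groth.Agent.Lib.Helper8.ZeroDimSch2

/-!
# Quasi-separated algebraic spaces of dimension zero are schemes (helper2)
-/

set_option autoImplicit false
set_option linter.style.haveILetI false

open CategoryTheory CategoryTheory.Limits AlgebraicGeometry Opposite AlgSp

universe u

namespace Groth.Agent.Helper2.ZeroDimQs

open Groth.Agent.Helper2.AlgSpBasic Groth.Agent.Helper2.LargestSch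
open Groth.Agent.Helper2.DecentOpen Groth.Agent.Helper2.QfCodimZero

theorem ringKrullDim_stalk_eq_zero_of_t1 (U : Scheme.{u}) [T1Space ↥U] (u : ↥U) :
    ringKrullDim ↥(U.presheaf.stalk u) = 0 := by
  rw [Groth.Agent.Helper2.DimFormula.ringKrullDim_stalk_eq_coheight]
  have h0 : Order.coheight u = 0 := by
    rw [Order.coheight_eq_zero]
    intro b hb
    have h1 : b ⤳ u := (AlgebraicGeometry.Scheme.le_iff_specializes).mp hb
    rw [h1.eq]
  rw [h0]
  rfl

variable {S : Scheme.{u}}

theorem topologicalKrullDim_le_dim {F : Sp S} {U : Over S} (a : (yon S).obj U ⟶ F)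
    (ha : RepWith @Etale a) : topologicalKrullDim ↥U.left ≤ AlgSp.dim F := by
  unfold AlgSp.dim
  exact le_iSup_of_le U (le_iSup_of_le a (le_iSup_of_le ha le_rfl))

/-- In an algebraic space of dimension zero, every point has codimension zero. -/
theorem hasAt_dimZ_of_dim_zero (X : Space S) (hd : AlgSp.dim X.obj = 0) (x : Points X.obj) :
    HasAt DimZ X.obj x := by
  obtain ⟨U, a, hae, has⟩ := X.property.atlas
  obtain ⟨u, rfl⟩ := surjective_ofPt a has x
  have h1 : topologicalKrullDim ↥U.left ≤ 0 := hd ▸ topologicalKrullDim_le_dim a hae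
  haveI : T1Space ↥U.left := Groth.Agent.Helper8.ZeroDim.t1Space_of_dim_le_zero _ h1
  exact (hasAt_dimZ_iff X.property a hae u).mpr (ringKrullDim_stalk_eq_zero_of_t1 U.left u)

/-- A quasi-separated algebraic space of dimension zero is a scheme. -/
theorem exists_iso_yon_of_dim_zero (X : Space S) (hqs : IsQuasiSeparatedSp X.obj)
    (hd : AlgSp.dim X.obj = 0) : ∃ W : Over S, Nonempty ((yon S).obj W ≅ X.obj) := by
  have hall : schLocus X.obj = Set.univ := by
    ext x
    simp only [Set.mem_univ, iff_true]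
    exact Groth.Agent.Helper2.CodimZeroQs.mem_schLocus_of_isQuasiSeparatedSp X hqs x
      (hasAt_dimZ_of_dim_zero X hd x)
  obtain ⟨W, ⟨e⟩⟩ := exists_iso_yon_schLocus X.property
  have hmem : ∀ p : Points X.obj, Points.map (𝟙 X.obj) p ∈ schLocus X.obj := by
    intro p
    rw [hall]
    trivial
  have hrange : Set.range (Points.map (𝟙 X.obj)) = schLocus X.obj := by
    rw [hall, Set.range_eq_univ]
    intro p
    exact ⟨p, by rw [Points.map_id]⟩
  haveI h1 : IsIso (openSubLift (schLocus X.obj) (𝟙 X.obj) hmem) :=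
    isIso_openSubLift_of_range_eq X.property X.property (𝟙 X.obj)
      (repWith_of_isIso @IsOpenImmersion (𝟙 X.obj)) (schLocus X.obj) hrange hmem
  exact ⟨W, ⟨e ≪≫ (asIso (openSubLift (schLocus X.obj) (𝟙 X.obj) hmem)).symm⟩⟩

/-- S10450 core. -/
theorem main [QuasiSeparatedSpace ↥S] (X : Space S) (hqs : IsQuasiSeparatedSp X.obj)
    (hd : AlgSp.dim X.obj = 0) :
    ∃ (U : Over S) (_ : (yon S).obj U ≅ X.obj), U.left.IsSeparated ∧
      ∀ V : U.left.Opens, IsCompact (V : Set ↥U.left) → IsAffineOpen V := by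
  obtain ⟨W, ⟨e⟩⟩ := exists_iso_yon_of_dim_zero X hqs hd
  have h1 : topologicalKrullDim ↥W.left ≤ 0 :=
    hd ▸ topologicalKrullDim_le_dim e.hom (repWith_of_isIso @Etale e.hom)
  haveI : T1Space ↥W.left := Groth.Agent.Helper8.ZeroDim.t1Space_of_dim_le_zero _ h1
  have hqsW : RepWith @QuasiCompact (Limits.diag ((yon S).obj W)) :=
    repWith_of_isPullback @QuasiCompact (isPullback_diag_of_mono e.hom).flip hqs
  have hqd : QuasiCompact (pullback.diagonal W.hom) :=
    (repWith_diag_yon_iff @QuasiCompact W).mp hqsW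
  haveI : QuasiSeparated W.hom := ⟨hqd⟩
  haveI : QuasiSeparatedSpace ↥W.left := quasiSeparatedSpace_of_quasiSeparated W.hom
  exact ⟨W, e, Groth.Agent.Helper8.ZeroDim.isSeparated_of_t1 W.left,
    fun V hV => Groth.Agent.Helper8.ZeroDim.isAffineOpen_of_isCompact W.left V hV⟩

end Groth.Agent.Helper2.ZeroDimQs
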